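import Cfsg.Agent.Helper17.FiR1TC.Lemmas

set_option autoImplicit false
set_option linter.all false

noncomputable section

namespace Cfsg.Agent.Helper17.FiR1TC

theorem F1 : act 1 n0 = n0 := d38_0 B0 
theorem F2 : act 2 n0 = n0 := d39_0 B1 
theorem F3 : act 3 n0 = n0 := d40_0 B2 
theorem F4 : act 4 n0 = n0 := d41_0 B3 
theorem F5 : act 5 n0 = n0 := d42_0 B4 
theorem F6 : act 6 n0 = n0 := d43_0 B5 
theorem F7 : act 7 n0 = n0 := d44_0 B6 
theorem F8 : act 8 n0 = n0 := d45_0 B7 
def n1 : Q := act 0 n0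
theorem D1 : act 0 n0 = n1 := rfl
theorem F9 : act 2 n1 = n1 := d1_2 F2 D1 (iv D1)
theorem F10 : act 3 n1 = n1 := d2_2 F3 D1 (iv D1)
theorem F11 : act 4 n1 = n1 := d3_2 F4 D1 (iv D1)
theorem F12 : act 5 n1 = n1 := d4_2 F5 D1 (iv D1)
theorem F13 : act 6 n1 = n1 := d5_2 F6 D1 (iv D1)
theorem F14 : act 7 n1 = n1 := d6_2 F7 D1 (iv D1)
theorem F15 : act 8 n1 = n1 := d7_2 F8 D1 (iv D1)
def n2 : Q := act 1 n1
theorem D2 : act 1 n1 = n2 := rfl
theorem F16 : act 0 n2 = n2 := d0_1 D2 (iv D2) (iv D1) F1 D1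
theorem F17 : act 3 n2 = n2 := d9_2 F10 D2 (iv D2)
theorem F18 : act 4 n2 = n2 := d10_2 F11 D2 (iv D2)
theorem F19 : act 5 n2 = n2 := d11_2 F12 D2 (iv D2)
theorem F20 : act 6 n2 = n2 := d12_2 F13 D2 (iv D2)
theorem F21 : act 7 n2 = n2 := d13_2 F14 D2 (iv D2)
theorem F22 : act 8 n2 = n2 := d14_2 F15 D2 (iv D2)
def n3 : Q := act 2 n2
theorem D3 : act 2 n2 = n3 := rfl
theorem F23 : act 0 n3 = n3 := d1_1 D3 (iv D3) F16
theorem F24 : act 1 n3 = n3 := d8_1 D3 (iv D3) (iv D2) F9 D2
theorem F25 : act 4 n3 = n3 := d16_2 F18 D3 (iv D3)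
theorem F26 : act 5 n3 = n3 := d17_2 F19 D3 (iv D3)
theorem F27 : act 6 n3 = n3 := d18_2 F20 D3 (iv D3)
theorem F28 : act 7 n3 = n3 := d19_2 F21 D3 (iv D3)
theorem F29 : act 8 n3 = n3 := d20_2 F22 D3 (iv D3)
def n4 : Q := act 3 n3
theorem D4 : act 3 n3 = n4 := rfl
theorem F30 : act 0 n4 = n4 := d2_1 D4 (iv D4) F23
theorem F31 : act 1 n4 = n4 := d9_1 D4 (iv D4) F24
theorem F32 : act 2 n4 = n4 := d15_1 D4 (iv D4) (iv D3) F17 D3
theorem F33 : act 5 n4 = n4 := d22_2 F26 D4 (iv D4)
theorem F34 : act 6 n4 = n4 := d23_2 F27 D4 (iv D4)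
theorem F35 : act 8 n4 = n4 := d25_2 F29 D4 (iv D4)
def n5 : Q := act 4 n4
theorem D5 : act 4 n4 = n5 := rfl
theorem F36 : act 0 n5 = n5 := d3_1 D5 (iv D5) F30
theorem F37 : act 1 n5 = n5 := d10_1 D5 (iv D5) F31
theorem F38 : act 2 n5 = n5 := d16_1 D5 (iv D5) F32
theorem F39 : act 3 n5 = n5 := d21_1 D5 (iv D5) (iv D4) F25 D4
theorem F40 : act 6 n5 = n5 := d27_2 F34 D5 (iv D5)
theorem F41 : act 8 n5 = n5 := d29_2 F35 D5 (iv D5)
def n6 : Q := act 7 n4
theorem D6 : act 7 n4 = n6 := rfl
theorem F42 : act 0 n6 = n6 := d6_1 D6 (iv D6) F30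
theorem F43 : act 1 n6 = n6 := d13_1 D6 (iv D6) F31
theorem F44 : act 2 n6 = n6 := d19_1 D6 (iv D6) F32
theorem F45 : act 3 n6 = n6 := d24_1 D6 (iv D6) (iv D4) F28 D4
theorem F46 : act 5 n6 = n6 := d31_1 D6 (iv D6) F33
theorem F47 : act 6 n6 = n6 := d33_1 D6 (iv D6) F34
def n7 : Q := act 5 n5
theorem D7 : act 5 n5 = n7 := rfl
theorem F48 : act 0 n7 = n7 := d4_1 D7 (iv D7) F36
theorem F49 : act 1 n7 = n7 := d11_1 D7 (iv D7) F37
theorem F50 : act 2 n7 = n7 := d17_1 D7 (iv D7) F38
theorem F51 : act 3 n7 = n7 := d22_1 D7 (iv D7) F39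
theorem F52 : act 4 n7 = n7 := d26_1 D7 (iv D7) (iv D5) F33 D5
theorem F53 : act 8 n7 = n7 := d32_2 F41 D7 (iv D7)
def n8 : Q := act 7 n5
theorem D8 : act 7 n5 = n8 := rfl
theorem F54 : act 0 n8 = n8 := d6_1 D8 (iv D8) F36
theorem F55 : act 1 n8 = n8 := d13_1 D8 (iv D8) F37
theorem F56 : act 2 n8 = n8 := d19_1 D8 (iv D8) F38
theorem F57 : act 4 n8 = n6 := d28_1 D8 (iv D6) D5
theorem F58 : act 6 n8 = n8 := d33_1 D8 (iv D8) F40
def n9 : Q := act 8 n6
theorem D9 : act 8 n6 = n9 := rfl
theorem F59 : act 0 n9 = n9 := d7_1 D9 (iv D9) F42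
theorem F60 : act 1 n9 = n9 := d14_1 D9 (iv D9) F43
theorem F61 : act 2 n9 = n9 := d20_1 D9 (iv D9) F44
theorem F62 : act 3 n9 = n9 := d25_1 D9 (iv D9) F45
theorem F63 : act 5 n9 = n9 := d32_1 D9 (iv D9) F46
theorem F64 : act 6 n9 = n9 := d34_1 D9 (iv D9) F47
theorem F65 : act 7 n9 = n9 := d35_1 D9 (iv D9) (iv D6) F35 D6
def n10 : Q := act 6 n7
theorem D10 : act 6 n7 = n10 := rfl
theorem F66 : act 0 n10 = n10 := d5_1 D10 (iv D10) F48
theorem F67 : act 1 n10 = n10 := d12_1 D10 (iv D10) F49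
theorem F68 : act 2 n10 = n10 := d18_1 D10 (iv D10) F50
theorem F69 : act 3 n10 = n10 := d23_1 D10 (iv D10) F51
theorem F70 : act 4 n10 = n10 := d27_1 D10 (iv D10) F52
theorem F71 : act 5 n10 = n10 := d30_1 D10 (iv D10) (iv D7) F40 D7
theorem F72 : act 8 n10 = n10 := d34_2 F53 D10 (iv D10)
def n11 : Q := act 7 n7
theorem D11 : act 7 n7 = n11 := rfl
theorem F73 : act 0 n11 = n11 := d6_1 D11 (iv D11) F48
theorem F74 : act 1 n11 = n11 := d13_1 D11 (iv D11) F49
theorem F75 : act 2 n11 = n11 := d19_1 D11 (iv D11) F50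
theorem F76 : act 4 n11 = n11 := d28_1 D11 (iv D11) F52
theorem F77 : act 5 n11 = n8 := d31_1 D11 (iv D8) D7
def n12 : Q := act 3 n8
theorem D12 : act 3 n8 = n12 := rfl
theorem F78 : act 0 n12 = n12 := d2_1 D12 (iv D12) F54
theorem F79 : act 1 n12 = n12 := d9_1 D12 (iv D12) F55
theorem F80 : act 4 n12 = n12 := d21_2 (iv F57) D12 (iv D12) F57 F45
theorem F81 : act 6 n12 = n12 := d23_2 F58 D12 (iv D12)
theorem F82 : act 7 n12 = n12 := d24_2 D8 D12 (iv D12) (iv D8) F39
def n13 : Q := act 8 n8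
theorem D13 : act 8 n8 = n13 := rfl
theorem F83 : act 0 n13 = n13 := d7_1 D13 (iv D13) F54
theorem F84 : act 1 n13 = n13 := d14_1 D13 (iv D13) F55
theorem F85 : act 2 n13 = n13 := d20_1 D13 (iv D13) F56
theorem F86 : act 4 n13 = n9 := d29_1 D13 (iv D9) (iv F57)
theorem F87 : act 6 n13 = n13 := d34_1 D13 (iv D13) F58
theorem F88 : act 7 n13 = n13 := d35_1 D13 (iv D13) (iv D8) F41 D8
def n14 : Q := act 7 n10
theorem D14 : act 7 n10 = n14 := rfl
theorem F89 : act 0 n14 = n14 := d6_1 D14 (iv D14) F66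
theorem F90 : act 1 n14 = n14 := d13_1 D14 (iv D14) F67
theorem F91 : act 2 n14 = n14 := d19_1 D14 (iv D14) F68
theorem F92 : act 4 n14 = n14 := d28_1 D14 (iv D14) F70
theorem F93 : act 5 n14 = n14 := d31_1 D14 (iv D14) F71
theorem F94 : act 6 n14 = n11 := d33_1 D14 (iv D11) D10
def n15 : Q := act 3 n11
theorem D15 : act 3 n11 = n15 := rfl
theorem F95 : act 0 n15 = n15 := d2_1 D15 (iv D15) F73
theorem F96 : act 1 n15 = n15 := d9_1 D15 (iv D15) F74
theorem F97 : act 5 n15 = n12 := d22_2 (iv F77) D15 (iv D12)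
theorem F98 : act 7 n15 = n15 := d24_2 D11 D15 (iv D15) (iv D11) F51
def n16 : Q := act 8 n11
theorem D16 : act 8 n11 = n16 := rfl
theorem F99 : act 0 n16 = n16 := d7_1 D16 (iv D16) F73
theorem F100 : act 1 n16 = n16 := d14_1 D16 (iv D16) F74
theorem F101 : act 2 n16 = n16 := d20_1 D16 (iv D16) F75
theorem F102 : act 4 n16 = n16 := d29_1 D16 (iv D16) F76
theorem F103 : act 5 n16 = n13 := d32_1 D16 (iv D13) (iv F77)
theorem F104 : act 7 n16 = n16 := d35_1 D16 (iv D16) (iv D11) F53 D11
def n17 : Q := act 2 n12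
theorem D17 : act 2 n12 = n17 := rfl
theorem F105 : act 0 n17 = n17 := d1_1 D17 (iv D17) F78
theorem F106 : act 3 n17 = n17 := d15_2 D12 D17 (iv D17) (iv D12) F56
theorem F107 : act 4 n17 = n17 := d16_2 F80 D17 (iv D17)
theorem F108 : act 6 n17 = n17 := d18_2 F81 D17 (iv D17)
theorem F109 : act 7 n17 = n17 := d19_2 F82 D17 (iv D17)
def n18 : Q := act 8 n12
theorem D18 : act 8 n12 = n18 := rfl
theorem F110 : act 0 n18 = n18 := d7_1 D18 (iv D18) F78
theorem F111 : act 1 n18 = n18 := d14_1 D18 (iv D18) F79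
theorem F112 : act 3 n18 = n13 := d25_1 D18 (iv D13) D12
theorem F113 : act 4 n18 = n18 := d29_1 D18 (iv D18) F80
theorem F114 : act 6 n18 = n18 := d34_1 D18 (iv D18) F81
def n19 : Q := act 3 n14
theorem D19 : act 3 n14 = n19 := rfl
theorem F115 : act 0 n19 = n19 := d2_1 D19 (iv D19) F89
theorem F116 : act 1 n19 = n19 := d9_1 D19 (iv D19) F90
theorem F117 : act 5 n19 = n19 := d22_2 F93 D19 (iv D19)
theorem F118 : act 6 n19 = n15 := d23_2 (iv F94) D19 (iv D15)
theorem F119 : act 7 n19 = n19 := d24_2 D14 D19 (iv D19) (iv D14) F69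
def n20 : Q := act 8 n14
theorem D20 : act 8 n14 = n20 := rfl
theorem F120 : act 0 n20 = n20 := d7_1 D20 (iv D20) F89
theorem F121 : act 1 n20 = n20 := d14_1 D20 (iv D20) F90
theorem F122 : act 2 n20 = n20 := d20_1 D20 (iv D20) F91
theorem F123 : act 4 n20 = n20 := d29_1 D20 (iv D20) F92
theorem F124 : act 5 n20 = n20 := d32_1 D20 (iv D20) F93
theorem F125 : act 6 n20 = n16 := d34_1 D20 (iv D16) (iv F94)
theorem F126 : act 7 n20 = n20 := d35_1 D20 (iv D20) (iv D14) F72 D14
def n21 : Q := act 2 n15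
theorem D21 : act 2 n15 = n21 := rfl
theorem F127 : act 0 n21 = n21 := d1_1 D21 (iv D21) F95
theorem F128 : act 3 n21 = n21 := d15_2 D15 D21 (iv D21) (iv D15) F75
theorem F129 : act 5 n21 = n17 := d17_2 (iv F97) D21 (iv D17)
theorem F130 : act 7 n21 = n21 := d19_2 F98 D21 (iv D21)
def n22 : Q := act 4 n15
theorem D22 : act 4 n15 = n22 := rfl
theorem F131 : act 0 n22 = n22 := d3_1 D22 (iv D22) F95
theorem F132 : act 1 n22 = n22 := d10_1 D22 (iv D22) F96
theorem F133 : act 3 n22 = n22 := d21_1 D22 (iv D22) (iv D15) F76 D15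
theorem F134 : act 5 n22 = n22 := d26_2 (iv F97) D22 (iv D22) F97 F80
theorem F135 : act 7 n22 = n22 := d28_2 F98 D22 (iv D22)
def n23 : Q := act 8 n15
theorem D23 : act 8 n15 = n23 := rfl
theorem F136 : act 0 n23 = n23 := d7_1 D23 (iv D23) F95
theorem F137 : act 1 n23 = n23 := d14_1 D23 (iv D23) F96
theorem F138 : act 3 n23 = n16 := d25_1 D23 (iv D16) D15
theorem F139 : act 5 n23 = n18 := d32_1 D23 (iv D18) (iv F97)
def n24 : Q := act 1 n17
theorem D24 : act 1 n17 = n24 := rfl
theorem F140 : act 2 n24 = n24 := d8_2 D17 D24 (iv D24) (iv D17) F79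
theorem F141 : act 3 n24 = n24 := d9_2 F106 D24 (iv D24)
theorem F142 : act 4 n24 = n24 := d10_2 F107 D24 (iv D24)
theorem F143 : act 6 n24 = n24 := d12_2 F108 D24 (iv D24)
theorem F144 : act 7 n24 = n24 := d13_2 F109 D24 (iv D24)
def n25 : Q := act 8 n17
theorem D25 : act 8 n17 = n25 := rfl
theorem F145 : act 0 n25 = n25 := d7_1 D25 (iv D25) F105
theorem F146 : act 2 n25 = n18 := d20_1 D25 (iv D18) D17
theorem F147 : act 3 n25 = n25 := d25_1 D25 (iv D25) F106
theorem F148 : act 4 n25 = n25 := d29_1 D25 (iv D25) F107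
theorem F149 : act 6 n25 = n25 := d34_1 D25 (iv D25) F108
def n26 : Q := act 7 n18
theorem D26 : act 7 n18 = n26 := rfl
theorem F150 : act 0 n26 = n26 := d6_1 D26 (iv D26) F110
theorem F151 : act 1 n26 = n26 := d13_1 D26 (iv D26) F111
theorem F152 : act 3 n26 = n26 := d24_1 D26 (iv D26) F112 F88 (iv F112)
theorem F153 : act 4 n26 = n26 := d28_1 D26 (iv D26) F113
theorem F154 : act 6 n26 = n26 := d33_1 D26 (iv D26) F114
theorem F155 : act 8 n26 = n26 := d35_2 D18 D26 (iv D26) (iv D18) F82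
def n27 : Q := act 2 n19
theorem D27 : act 2 n19 = n27 := rfl
theorem F156 : act 0 n27 = n27 := d1_1 D27 (iv D27) F115
theorem F157 : act 3 n27 = n27 := d15_2 D19 D27 (iv D27) (iv D19) F91
theorem F158 : act 5 n27 = n27 := d17_2 F117 D27 (iv D27)
theorem F159 : act 6 n27 = n21 := d18_2 (iv F118) D27 (iv D21)
theorem F160 : act 7 n27 = n27 := d19_2 F119 D27 (iv D27)
def n28 : Q := act 4 n19
theorem D28 : act 4 n19 = n28 := rfl
theorem F161 : act 0 n28 = n28 := d3_1 D28 (iv D28) F115
theorem F162 : act 1 n28 = n28 := d10_1 D28 (iv D28) F116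
theorem F163 : act 3 n28 = n28 := d21_1 D28 (iv D28) (iv D19) F92 D19
theorem F164 : act 6 n28 = n22 := d27_2 (iv F118) D28 (iv D22)
theorem F165 : act 7 n28 = n28 := d28_2 F119 D28 (iv D28)
def n29 : Q := act 8 n19
theorem D29 : act 8 n19 = n29 := rfl
theorem F166 : act 0 n29 = n29 := d7_1 D29 (iv D29) F115
theorem F167 : act 1 n29 = n29 := d14_1 D29 (iv D29) F116
theorem F168 : act 3 n29 = n20 := d25_1 D29 (iv D20) D19
theorem F169 : act 5 n29 = n29 := d32_1 D29 (iv D29) F117
theorem F170 : act 6 n29 = n23 := d34_1 D29 (iv D23) (iv F118)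
def n30 : Q := act 1 n21
theorem D30 : act 1 n21 = n30 := rfl
theorem F171 : act 2 n30 = n30 := d8_2 D21 D30 (iv D30) (iv D21) F96
theorem F172 : act 3 n30 = n30 := d9_2 F128 D30 (iv D30)
theorem F173 : act 5 n30 = n24 := d11_2 (iv F129) D30 (iv D24)
theorem F174 : act 7 n30 = n30 := d13_2 F130 D30 (iv D30)
def n31 : Q := act 4 n21
theorem D31 : act 4 n21 = n31 := rfl
theorem F175 : act 0 n31 = n31 := d3_1 D31 (iv D31) F127
theorem F176 : act 2 n31 = n22 := d16_1 D31 (iv D22) D21
theorem F177 : act 5 n31 = n31 := d26_2 (iv F129) D31 (iv D31) F129 F107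
theorem F178 : act 7 n31 = n31 := d28_2 F130 D31 (iv D31)
def n32 : Q := act 8 n21
theorem D32 : act 8 n21 = n32 := rfl
theorem F179 : act 0 n32 = n32 := d7_1 D32 (iv D32) F127
theorem F180 : act 2 n32 = n23 := d20_1 D32 (iv D23) D21
theorem F181 : act 3 n32 = n32 := d25_1 D32 (iv D32) F128
theorem F182 : act 5 n32 = n25 := d32_1 D32 (iv D25) (iv F129)
def n33 : Q := act 8 n22
theorem D33 : act 8 n22 = n33 := rfl
theorem F183 : act 0 n33 = n33 := d7_1 D33 (iv D33) F131
theorem F184 : act 1 n33 = n33 := d14_1 D33 (iv D33) F132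
theorem F185 : act 3 n33 = n33 := d25_1 D33 (iv D33) F133
theorem F186 : act 4 n33 = n23 := d29_1 D33 (iv D23) D22
theorem F187 : act 5 n33 = n33 := d32_1 D33 (iv D33) F134
def n34 : Q := act 7 n23
theorem D34 : act 7 n23 = n34 := rfl
theorem F188 : act 0 n34 = n34 := d6_1 D34 (iv D34) F136
theorem F189 : act 1 n34 = n34 := d13_1 D34 (iv D34) F137
theorem F190 : act 3 n34 = n34 := d24_1 D34 (iv D34) F138 F104 (iv F138)
theorem F191 : act 5 n34 = n26 := d31_1 D34 (iv D26) (iv F139)
theorem F192 : act 8 n34 = n34 := d35_2 D23 D34 (iv D34) (iv D23) F98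
def n35 : Q := act 0 n24
theorem D35 : act 0 n24 = n35 := rfl
theorem F193 : act 1 n35 = n35 := d0_2 D24 D35 (iv D35) (iv D24) F105
theorem F194 : act 2 n35 = n35 := d1_2 F140 D35 (iv D35)
theorem F195 : act 3 n35 = n35 := d2_2 F141 D35 (iv D35)
theorem F196 : act 4 n35 = n35 := d3_2 F142 D35 (iv D35)
theorem F197 : act 6 n35 = n35 := d5_2 F143 D35 (iv D35)
theorem F198 : act 7 n35 = n35 := d6_2 F144 D35 (iv D35)
def n36 : Q := act 8 n24
theorem D36 : act 8 n24 = n36 := rfl
theorem F199 : act 1 n36 = n25 := d14_1 D36 (iv D25) D24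
theorem F200 : act 2 n36 = n36 := d20_1 D36 (iv D36) F140
theorem F201 : act 3 n36 = n36 := d25_1 D36 (iv D36) F141
theorem F202 : act 4 n36 = n36 := d29_1 D36 (iv D36) F142
theorem F203 : act 6 n36 = n36 := d34_1 D36 (iv D36) F143
def n37 : Q := act 7 n25
theorem D37 : act 7 n25 = n37 := rfl
theorem F204 : act 0 n37 = n37 := d6_1 D37 (iv D37) F145
theorem F205 : act 2 n37 = n26 := d19_1 D37 (iv D26) (iv F146)
theorem F206 : act 4 n37 = n37 := d28_1 D37 (iv D37) F148
theorem F207 : act 6 n37 = n37 := d33_1 D37 (iv D37) F149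
theorem F208 : act 8 n37 = n37 := d35_2 D25 D37 (iv D37) (iv D25) F109
def n38 : Q := act 1 n27
theorem D38 : act 1 n27 = n38 := rfl
theorem F209 : act 2 n38 = n38 := d8_2 D27 D38 (iv D38) (iv D27) F116
theorem F210 : act 3 n38 = n38 := d9_2 F157 D38 (iv D38)
theorem F211 : act 5 n38 = n38 := d11_2 F158 D38 (iv D38)
theorem F212 : act 6 n38 = n30 := d12_2 (iv F159) D38 (iv D30)
theorem F213 : act 7 n38 = n38 := d13_2 F160 D38 (iv D38)
def n39 : Q := act 4 n27
theorem D39 : act 4 n27 = n39 := rfl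
theorem F214 : act 0 n39 = n39 := d3_1 D39 (iv D39) F156
theorem F215 : act 2 n39 = n28 := d16_1 D39 (iv D28) D27
theorem F216 : act 6 n39 = n31 := d27_2 (iv F159) D39 (iv D31)
theorem F217 : act 7 n39 = n39 := d28_2 F160 D39 (iv D39)
def n40 : Q := act 8 n27
theorem D40 : act 8 n27 = n40 := rfl
theorem F218 : act 0 n40 = n40 := d7_1 D40 (iv D40) F156
theorem F219 : act 2 n40 = n29 := d20_1 D40 (iv D29) D27
theorem F220 : act 3 n40 = n40 := d25_1 D40 (iv D40) F157
theorem F221 : act 5 n40 = n40 := d32_1 D40 (iv D40) F158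
theorem F222 : act 6 n40 = n32 := d34_1 D40 (iv D32) (iv F159)
def n41 : Q := act 5 n28
theorem D41 : act 5 n28 = n41 := rfl
theorem F223 : act 0 n41 = n41 := d4_1 D41 (iv D41) F161
theorem F224 : act 1 n41 = n41 := d11_1 D41 (iv D41) F162
theorem F225 : act 3 n41 = n41 := d22_1 D41 (iv D41) F163
theorem F226 : act 4 n41 = n41 := d26_1 D41 (iv D41) (iv D28) F117 D28
theorem F227 : act 6 n41 = n41 := d30_2 (iv F164) D41 (iv D41) F164 F134
theorem F228 : act 7 n41 = n41 := d31_2 F165 D41 (iv D41)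
def n42 : Q := act 8 n28
theorem D42 : act 8 n28 = n42 := rfl
theorem F229 : act 0 n42 = n42 := d7_1 D42 (iv D42) F161
theorem F230 : act 1 n42 = n42 := d14_1 D42 (iv D42) F162
theorem F231 : act 3 n42 = n42 := d25_1 D42 (iv D42) F163
theorem F232 : act 4 n42 = n29 := d29_1 D42 (iv D29) D28
theorem F233 : act 6 n42 = n33 := d34_1 D42 (iv D33) (iv F164)
def n43 : Q := act 7 n29
theorem D43 : act 7 n29 = n43 := rfl
theorem F234 : act 0 n43 = n43 := d6_1 D43 (iv D43) F166
theorem F235 : act 1 n43 = n43 := d13_1 D43 (iv D43) F167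
theorem F236 : act 3 n43 = n43 := d24_1 D43 (iv D43) F168 F126 (iv F168)
theorem F237 : act 5 n43 = n43 := d31_1 D43 (iv D43) F169
theorem F238 : act 6 n43 = n34 := d33_1 D43 (iv D34) (iv F170)
theorem F239 : act 8 n43 = n43 := d35_2 D29 D43 (iv D43) (iv D29) F119
def n44 : Q := act 0 n30
theorem D44 : act 0 n30 = n44 := rfl
theorem F240 : act 1 n44 = n44 := d0_2 D30 D44 (iv D44) (iv D30) F127
theorem F241 : act 2 n44 = n44 := d1_2 F171 D44 (iv D44)
theorem F242 : act 3 n44 = n44 := d2_2 F172 D44 (iv D44)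
theorem F243 : act 5 n44 = n35 := d4_2 (iv F173) D44 (iv D35)
theorem F244 : act 7 n44 = n44 := d6_2 F174 D44 (iv D44)
def n45 : Q := act 4 n30
theorem D45 : act 4 n30 = n45 := rfl
theorem F245 : act 1 n45 = n31 := d10_1 D45 (iv D31) D30
theorem F246 : act 2 n45 = n45 := d16_1 D45 (iv D45) F171
theorem F247 : act 5 n45 = n45 := d26_2 (iv F173) D45 (iv D45) F173 F142
theorem F248 : act 7 n45 = n45 := d28_2 F174 D45 (iv D45)
def n46 : Q := act 8 n30
theorem D46 : act 8 n30 = n46 := rfl
theorem F249 : act 1 n46 = n32 := d14_1 D46 (iv D32) D30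
theorem F250 : act 2 n46 = n46 := d20_1 D46 (iv D46) F171
theorem F251 : act 3 n46 = n46 := d25_1 D46 (iv D46) F172
theorem F252 : act 5 n46 = n36 := d32_1 D46 (iv D36) (iv F173)
def n47 : Q := act 3 n31
theorem D47 : act 3 n31 = n47 := rfl
theorem F253 : act 0 n47 = n47 := d2_1 D47 (iv D47) F175
theorem F254 : act 2 n47 = n47 := d15_1 D47 (iv D47) F176 F133 (iv F176)
theorem F255 : act 4 n47 = n47 := d21_2 D31 D47 (iv D47) (iv D31) F128
theorem F256 : act 5 n47 = n47 := d22_2 F177 D47 (iv D47)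
def n48 : Q := act 8 n31
theorem D48 : act 8 n31 = n48 := rfl
theorem F257 : act 0 n48 = n48 := d7_1 D48 (iv D48) F175
theorem F258 : act 2 n48 = n33 := d20_1 D48 (iv D33) (iv F176)
theorem F259 : act 4 n48 = n32 := d29_1 D48 (iv D32) D31
theorem F260 : act 5 n48 = n48 := d32_1 D48 (iv D48) F177
def n49 : Q := act 7 n32
theorem D49 : act 7 n32 = n49 := rfl
theorem F261 : act 0 n49 = n49 := d6_1 D49 (iv D49) F179
theorem F262 : act 2 n49 = n34 := d19_1 D49 (iv D34) (iv F180)
theorem F263 : act 5 n49 = n37 := d31_1 D49 (iv D37) (iv F182)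
theorem F264 : act 8 n49 = n49 := d35_2 D32 D49 (iv D49) (iv D32) F130
def n50 : Q := act 7 n33
theorem D50 : act 7 n33 = n50 := rfl
theorem F265 : act 0 n50 = n50 := d6_1 D50 (iv D50) F183
theorem F266 : act 1 n50 = n50 := d13_1 D50 (iv D50) F184
theorem F267 : act 4 n50 = n34 := d28_1 D50 (iv D34) (iv F186)
theorem F268 : act 5 n50 = n50 := d31_1 D50 (iv D50) F187
theorem F269 : act 8 n50 = n50 := d35_2 D33 D50 (iv D50) (iv D33) F135
def n51 : Q := act 8 n35
theorem D51 : act 8 n35 = n51 := rfl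
theorem F270 : act 0 n51 = n36 := d7_1 D51 (iv D36) D35
theorem F271 : act 1 n51 = n51 := d14_1 D51 (iv D51) F193
theorem F272 : act 2 n51 = n51 := d20_1 D51 (iv D51) F194
theorem F273 : act 3 n51 = n51 := d25_1 D51 (iv D51) F195
theorem F274 : act 4 n51 = n51 := d29_1 D51 (iv D51) F196
theorem F275 : act 6 n51 = n51 := d34_1 D51 (iv D51) F197
def n52 : Q := act 7 n36
theorem D52 : act 7 n36 = n52 := rfl
theorem F276 : act 1 n52 = n37 := d13_1 D52 (iv D37) (iv F199)
theorem F277 : act 2 n52 = n52 := d19_1 D52 (iv D52) F200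
theorem F278 : act 4 n52 = n52 := d28_1 D52 (iv D52) F202
theorem F279 : act 6 n52 = n52 := d33_1 D52 (iv D52) F203
theorem F280 : act 8 n52 = n52 := d35_2 D36 D52 (iv D52) (iv D36) F144
def n53 : Q := act 3 n37
theorem D53 : act 3 n37 = n53 := rfl
theorem F281 : act 0 n53 = n53 := d2_1 D53 (iv D53) F204
theorem F282 : act 2 n53 = n53 := d15_1 D53 (iv D53) F205 F152 (iv F205)
theorem F283 : act 6 n53 = n53 := d23_2 F207 D53 (iv D53)
theorem F284 : act 7 n53 = n53 := d24_2 D37 D53 (iv D53) (iv D37) F147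
theorem F285 : act 8 n53 = n53 := d25_2 F208 D53 (iv D53)
def n54 : Q := act 0 n38
theorem D54 : act 0 n38 = n54 := rfl
theorem F286 : act 1 n54 = n54 := d0_2 D38 D54 (iv D54) (iv D38) F156
theorem F287 : act 2 n54 = n54 := d1_2 F209 D54 (iv D54)
theorem F288 : act 3 n54 = n54 := d2_2 F210 D54 (iv D54)
theorem F289 : act 5 n54 = n54 := d4_2 F211 D54 (iv D54)
theorem F290 : act 6 n54 = n44 := d5_2 (iv F212) D54 (iv D44)
theorem F291 : act 7 n54 = n54 := d6_2 F213 D54 (iv D54)
def n55 : Q := act 4 n38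
theorem D55 : act 4 n38 = n55 := rfl
theorem F292 : act 1 n55 = n39 := d10_1 D55 (iv D39) D38
theorem F293 : act 2 n55 = n55 := d16_1 D55 (iv D55) F209
theorem F294 : act 6 n55 = n45 := d27_2 (iv F212) D55 (iv D45)
theorem F295 : act 7 n55 = n55 := d28_2 F213 D55 (iv D55)
def n56 : Q := act 8 n38
theorem D56 : act 8 n38 = n56 := rfl
theorem F296 : act 1 n56 = n40 := d14_1 D56 (iv D40) D38
theorem F297 : act 2 n56 = n56 := d20_1 D56 (iv D56) F209
theorem F298 : act 3 n56 = n56 := d25_1 D56 (iv D56) F210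
theorem F299 : act 5 n56 = n56 := d32_1 D56 (iv D56) F211
theorem F300 : act 6 n56 = n46 := d34_1 D56 (iv D46) (iv F212)
def n57 : Q := act 3 n39
theorem D57 : act 3 n39 = n57 := rfl
theorem F301 : act 0 n57 = n57 := d2_1 D57 (iv D57) F214
theorem F302 : act 2 n57 = n57 := d15_1 D57 (iv D57) F215 F163 (iv F215)
theorem F303 : act 4 n57 = n57 := d21_2 D39 D57 (iv D57) (iv D39) F157
theorem F304 : act 6 n57 = n47 := d23_2 (iv F216) D57 (iv D47)
def n58 : Q := act 5 n39
theorem D58 : act 5 n39 = n58 := rfl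
theorem F305 : act 0 n58 = n58 := d4_1 D58 (iv D58) F214
theorem F306 : act 2 n58 = n41 := d17_1 D58 (iv D41) (iv F215)
theorem F307 : act 4 n58 = n58 := d26_1 D58 (iv D58) (iv D39) F158 D39
theorem F308 : act 6 n58 = n58 := d30_2 (iv F216) D58 (iv D58) F216 F177
theorem F309 : act 7 n58 = n58 := d31_2 F217 D58 (iv D58)
def n59 : Q := act 8 n39
theorem D59 : act 8 n39 = n59 := rfl
theorem F310 : act 0 n59 = n59 := d7_1 D59 (iv D59) F214
theorem F311 : act 2 n59 = n42 := d20_1 D59 (iv D42) (iv F215)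
theorem F312 : act 4 n59 = n40 := d29_1 D59 (iv D40) D39
theorem F313 : act 6 n59 = n48 := d34_1 D59 (iv D48) (iv F216)
def n60 : Q := act 7 n40
theorem D60 : act 7 n40 = n60 := rfl
theorem F314 : act 0 n60 = n60 := d6_1 D60 (iv D60) F218
theorem F315 : act 2 n60 = n43 := d19_1 D60 (iv D43) (iv F219)
theorem F316 : act 5 n60 = n60 := d31_1 D60 (iv D60) F221
theorem F317 : act 6 n60 = n49 := d33_1 D60 (iv D49) (iv F222)
theorem F318 : act 8 n60 = n60 := d35_2 D40 D60 (iv D60) (iv D40) F160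
def n61 : Q := act 8 n41
theorem D61 : act 8 n41 = n61 := rfl
theorem F319 : act 0 n61 = n61 := d7_1 D61 (iv D61) F223
theorem F320 : act 1 n61 = n61 := d14_1 D61 (iv D61) F224
theorem F321 : act 3 n61 = n61 := d25_1 D61 (iv D61) F225
theorem F322 : act 4 n61 = n61 := d29_1 D61 (iv D61) F226
theorem F323 : act 5 n61 = n42 := d32_1 D61 (iv D42) D41
theorem F324 : act 6 n61 = n61 := d34_1 D61 (iv D61) F227
def n62 : Q := act 7 n42
theorem D62 : act 7 n42 = n62 := rfl
theorem F325 : act 0 n62 = n62 := d6_1 D62 (iv D62) F229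
theorem F326 : act 1 n62 = n62 := d13_1 D62 (iv D62) F230
theorem F327 : act 4 n62 = n43 := d28_1 D62 (iv D43) (iv F232)
theorem F328 : act 6 n62 = n50 := d33_1 D62 (iv D50) (iv F233)
theorem F329 : act 8 n62 = n62 := d35_2 D42 D62 (iv D62) (iv D42) F165
def n63 : Q := act 4 n44
theorem D63 : act 4 n44 = n63 := rfl
theorem F330 : act 0 n63 = n45 := d3_1 D63 (iv D45) D44
theorem F331 : act 1 n63 = n63 := d10_1 D63 (iv D63) F240
theorem F332 : act 2 n63 = n63 := d16_1 D63 (iv D63) F241
theorem F333 : act 5 n63 = n63 := d26_2 (iv F243) D63 (iv D63) F243 F196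
theorem F334 : act 7 n63 = n63 := d28_2 F244 D63 (iv D63)
def n64 : Q := act 8 n44
theorem D64 : act 8 n44 = n64 := rfl
theorem F335 : act 0 n64 = n46 := d7_1 D64 (iv D46) D44
theorem F336 : act 1 n64 = n64 := d14_1 D64 (iv D64) F240
theorem F337 : act 2 n64 = n64 := d20_1 D64 (iv D64) F241
theorem F338 : act 3 n64 = n64 := d25_1 D64 (iv D64) F242
theorem F339 : act 5 n64 = n51 := d32_1 D64 (iv D51) (iv F243)
def n65 : Q := act 3 n45
theorem D65 : act 3 n45 = n65 := rfl
theorem F340 : act 1 n65 = n47 := d9_1 D65 (iv D47) (iv F245)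
theorem F341 : act 4 n65 = n65 := d21_2 D45 D65 (iv D65) (iv D45) F172
theorem F342 : act 5 n65 = n65 := d22_2 F247 D65 (iv D65)
def n66 : Q := act 8 n45
theorem D66 : act 8 n45 = n66 := rfl
theorem F343 : act 1 n66 = n48 := d14_1 D66 (iv D48) (iv F245)
theorem F344 : act 2 n66 = n66 := d20_1 D66 (iv D66) F246
theorem F345 : act 4 n66 = n46 := d29_1 D66 (iv D46) D45
theorem F346 : act 5 n66 = n66 := d32_1 D66 (iv D66) F247
def n67 : Q := act 7 n46
theorem D67 : act 7 n46 = n67 := rfl
theorem F347 : act 1 n67 = n49 := d13_1 D67 (iv D49) (iv F249)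
theorem F348 : act 2 n67 = n67 := d19_1 D67 (iv D67) F250
theorem F349 : act 5 n67 = n52 := d31_1 D67 (iv D52) (iv F252)
theorem F350 : act 8 n67 = n67 := d35_2 D46 D67 (iv D67) (iv D46) F174
def n68 : Q := act 7 n47
theorem D68 : act 7 n47 = n68 := rfl
theorem F351 : act 0 n68 = n68 := d6_1 D68 (iv D68) F253
theorem F352 : act 2 n68 = n68 := d19_1 D68 (iv D68) F254
theorem F353 : act 3 n68 = n68 := d24_1 D68 (iv D68) (iv D47) F178 D47
theorem F354 : act 4 n68 = n68 := d28_1 D68 (iv D68) F255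
theorem F355 : act 5 n68 = n68 := d31_1 D68 (iv D68) F256
def n69 : Q := act 8 n47
theorem D69 : act 8 n47 = n69 := rfl
theorem F356 : act 0 n69 = n69 := d7_1 D69 (iv D69) F253
theorem F357 : act 2 n69 = n69 := d20_1 D69 (iv D69) F254
theorem F358 : act 3 n69 = n48 := d25_1 D69 (iv D48) D47
theorem F359 : act 4 n69 = n69 := d29_1 D69 (iv D69) F255
theorem F360 : act 5 n69 = n69 := d32_1 D69 (iv D69) F256
def n70 : Q := act 7 n48
theorem D70 : act 7 n48 = n70 := rfl
theorem F361 : act 0 n70 = n70 := d6_1 D70 (iv D70) F257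
theorem F362 : act 2 n70 = n50 := d19_1 D70 (iv D50) (iv F258)
theorem F363 : act 4 n70 = n49 := d28_1 D70 (iv D49) (iv F259)
theorem F364 : act 5 n70 = n70 := d31_1 D70 (iv D70) F260
theorem F365 : act 8 n70 = n70 := d35_2 D48 D70 (iv D70) (iv D48) F178
def n71 : Q := act 3 n49
theorem D71 : act 3 n49 = n71 := rfl
theorem F366 : act 0 n71 = n71 := d2_1 D71 (iv D71) F261
theorem F367 : act 2 n71 = n71 := d15_1 D71 (iv D71) F262 F190 (iv F262)
theorem F368 : act 5 n71 = n53 := d22_2 (iv F263) D71 (iv D53)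
theorem F369 : act 7 n71 = n71 := d24_2 D49 D71 (iv D71) (iv D49) F181
theorem F370 : act 8 n71 = n71 := d25_2 F264 D71 (iv D71)
def n72 : Q := act 3 n50
theorem D72 : act 3 n50 = n72 := rfl
theorem F371 : act 0 n72 = n72 := d2_1 D72 (iv D72) F265
theorem F372 : act 1 n72 = n72 := d9_1 D72 (iv D72) F266
theorem F373 : act 4 n72 = n72 := d21_2 (iv F267) D72 (iv D72) F267 F190
theorem F374 : act 5 n72 = n72 := d22_2 F268 D72 (iv D72)
theorem F375 : act 7 n72 = n72 := d24_2 D50 D72 (iv D72) (iv D50) F185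
theorem F376 : act 8 n72 = n72 := d25_2 F269 D72 (iv D72)
def n73 : Q := act 7 n51
theorem D73 : act 7 n51 = n73 := rfl
theorem F377 : act 0 n73 = n52 := d6_1 D73 (iv D52) (iv F270)
theorem F378 : act 1 n73 = n73 := d13_1 D73 (iv D73) F271
theorem F379 : act 2 n73 = n73 := d19_1 D73 (iv D73) F272
theorem F380 : act 4 n73 = n73 := d28_1 D73 (iv D73) F274
theorem F381 : act 6 n73 = n73 := d33_1 D73 (iv D73) F275
theorem F382 : act 8 n73 = n73 := d35_2 D51 D73 (iv D73) (iv D51) F198
def n74 : Q := act 3 n52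
theorem D74 : act 3 n52 = n74 := rfl
theorem F383 : act 1 n74 = n53 := d9_1 D74 (iv D53) (iv F276)
theorem F384 : act 6 n74 = n74 := d23_2 F279 D74 (iv D74)
theorem F385 : act 7 n74 = n74 := d24_2 D52 D74 (iv D74) (iv D52) F201
theorem F386 : act 8 n74 = n74 := d25_2 F280 D74 (iv D74)
def n75 : Q := act 4 n53
theorem D75 : act 4 n53 = n75 := rfl
theorem F387 : act 0 n75 = n75 := d3_1 D75 (iv D75) F281
theorem F388 : act 2 n75 = n75 := d16_1 D75 (iv D75) F282
theorem F389 : act 3 n75 = n75 := d21_1 D75 (iv D75) (iv D53) F206 D53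
theorem F390 : act 6 n75 = n75 := d27_2 F283 D75 (iv D75)
theorem F391 : act 7 n75 = n75 := d28_2 F284 D75 (iv D75)
theorem F392 : act 8 n75 = n75 := d29_2 F285 D75 (iv D75)
def n76 : Q := act 4 n54
theorem D76 : act 4 n54 = n76 := rfl
theorem F393 : act 0 n76 = n55 := d3_1 D76 (iv D55) D54
theorem F394 : act 1 n76 = n76 := d10_1 D76 (iv D76) F286
theorem F395 : act 2 n76 = n76 := d16_1 D76 (iv D76) F287
theorem F396 : act 6 n76 = n63 := d27_2 (iv F290) D76 (iv D63)
theorem F397 : act 7 n76 = n76 := d28_2 F291 D76 (iv D76)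
def n77 : Q := act 8 n54
theorem D77 : act 8 n54 = n77 := rfl
theorem F398 : act 0 n77 = n56 := d7_1 D77 (iv D56) D54
theorem F399 : act 1 n77 = n77 := d14_1 D77 (iv D77) F286
theorem F400 : act 2 n77 = n77 := d20_1 D77 (iv D77) F287
theorem F401 : act 3 n77 = n77 := d25_1 D77 (iv D77) F288
theorem F402 : act 5 n77 = n77 := d32_1 D77 (iv D77) F289
theorem F403 : act 6 n77 = n64 := d34_1 D77 (iv D64) (iv F290)
def n78 : Q := act 3 n55
theorem D78 : act 3 n55 = n78 := rfl
theorem F404 : act 1 n78 = n57 := d9_1 D78 (iv D57) (iv F292)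
theorem F405 : act 4 n78 = n78 := d21_2 D55 D78 (iv D78) (iv D55) F210
theorem F406 : act 6 n78 = n65 := d23_2 (iv F294) D78 (iv D65)
def n79 : Q := act 5 n55
theorem D79 : act 5 n55 = n79 := rfl
theorem F407 : act 1 n79 = n58 := d11_1 D79 (iv D58) (iv F292)
theorem F408 : act 2 n79 = n79 := d17_1 D79 (iv D79) F293
theorem F409 : act 4 n79 = n79 := d26_1 D79 (iv D79) (iv D55) F211 D55
theorem F410 : act 6 n79 = n79 := d30_2 (iv F294) D79 (iv D79) F294 F247
theorem F411 : act 7 n79 = n79 := d31_2 F295 D79 (iv D79)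
def n80 : Q := act 8 n55
theorem D80 : act 8 n55 = n80 := rfl
theorem F412 : act 1 n80 = n59 := d14_1 D80 (iv D59) (iv F292)
theorem F413 : act 2 n80 = n80 := d20_1 D80 (iv D80) F293
theorem F414 : act 4 n80 = n56 := d29_1 D80 (iv D56) D55
theorem F415 : act 6 n80 = n66 := d34_1 D80 (iv D66) (iv F294)
def n81 : Q := act 7 n56
theorem D81 : act 7 n56 = n81 := rfl
theorem F416 : act 1 n81 = n60 := d13_1 D81 (iv D60) (iv F296)
theorem F417 : act 2 n81 = n81 := d19_1 D81 (iv D81) F297
theorem F418 : act 5 n81 = n81 := d31_1 D81 (iv D81) F299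
theorem F419 : act 6 n81 = n67 := d33_1 D81 (iv D67) (iv F300)
theorem F420 : act 8 n81 = n81 := d35_2 D56 D81 (iv D81) (iv D56) F213
def n82 : Q := act 5 n57
theorem D82 : act 5 n57 = n82 := rfl
theorem F421 : act 0 n82 = n82 := d4_1 D82 (iv D82) F301
theorem F422 : act 2 n82 = n82 := d17_1 D82 (iv D82) F302
theorem F423 : act 3 n82 = n58 := d22_1 D82 (iv D58) D57
theorem F424 : act 6 n82 = n82 := d30_2 (iv F304) D82 (iv D82) F304 F256
def n83 : Q := act 7 n57
theorem D83 : act 7 n57 = n83 := rfl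
theorem F425 : act 0 n83 = n83 := d6_1 D83 (iv D83) F301
theorem F426 : act 2 n83 = n83 := d19_1 D83 (iv D83) F302
theorem F427 : act 3 n83 = n83 := d24_1 D83 (iv D83) (iv D57) F217 D57
theorem F428 : act 4 n83 = n83 := d28_1 D83 (iv D83) F303
theorem F429 : act 6 n83 = n68 := d33_1 D83 (iv D68) (iv F304)
def n84 : Q := act 8 n57
theorem D84 : act 8 n57 = n84 := rfl
theorem F430 : act 0 n84 = n84 := d7_1 D84 (iv D84) F301
theorem F431 : act 2 n84 = n84 := d20_1 D84 (iv D84) F302
theorem F432 : act 3 n84 = n59 := d25_1 D84 (iv D59) D57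
theorem F433 : act 4 n84 = n84 := d29_1 D84 (iv D84) F303
theorem F434 : act 6 n84 = n69 := d34_1 D84 (iv D69) (iv F304)
def n85 : Q := act 8 n58
theorem D85 : act 8 n58 = n85 := rfl
theorem F435 : act 0 n85 = n85 := d7_1 D85 (iv D85) F305
theorem F436 : act 2 n85 = n61 := d20_1 D85 (iv D61) (iv F306)
theorem F437 : act 4 n85 = n85 := d29_1 D85 (iv D85) F307
theorem F438 : act 5 n85 = n59 := d32_1 D85 (iv D59) D58
theorem F439 : act 6 n85 = n85 := d34_1 D85 (iv D85) F308
def n86 : Q := act 7 n59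
theorem D86 : act 7 n59 = n86 := rfl
theorem F440 : act 0 n86 = n86 := d6_1 D86 (iv D86) F310
theorem F441 : act 2 n86 = n62 := d19_1 D86 (iv D62) (iv F311)
theorem F442 : act 4 n86 = n60 := d28_1 D86 (iv D60) (iv F312)
theorem F443 : act 6 n86 = n70 := d33_1 D86 (iv D70) (iv F313)
theorem F444 : act 8 n86 = n86 := d35_2 D59 D86 (iv D86) (iv D59) F217
def n87 : Q := act 3 n60
theorem D87 : act 3 n60 = n87 := rfl
theorem F445 : act 0 n87 = n87 := d2_1 D87 (iv D87) F314
theorem F446 : act 2 n87 = n87 := d15_1 D87 (iv D87) F315 F236 (iv F315)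
theorem F447 : act 5 n87 = n87 := d22_2 F316 D87 (iv D87)
theorem F448 : act 6 n87 = n71 := d23_2 (iv F317) D87 (iv D71)
theorem F449 : act 7 n87 = n87 := d24_2 D60 D87 (iv D87) (iv D60) F220
theorem F450 : act 8 n87 = n87 := d25_2 F318 D87 (iv D87)
def n88 : Q := act 7 n61
theorem D88 : act 7 n61 = n88 := rfl
theorem F451 : act 0 n88 = n88 := d6_1 D88 (iv D88) F319
theorem F452 : act 1 n88 = n88 := d13_1 D88 (iv D88) F320
theorem F453 : act 4 n88 = n88 := d28_1 D88 (iv D88) F322
theorem F454 : act 5 n88 = n62 := d31_1 D88 (iv D62) (iv F323)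
theorem F455 : act 6 n88 = n88 := d33_1 D88 (iv D88) F324
theorem F456 : act 8 n88 = n88 := d35_2 D61 D88 (iv D88) (iv D61) F228
def n89 : Q := act 3 n62
theorem D89 : act 3 n62 = n89 := rfl
theorem F457 : act 0 n89 = n89 := d2_1 D89 (iv D89) F325
theorem F458 : act 1 n89 = n89 := d9_1 D89 (iv D89) F326
theorem F459 : act 4 n89 = n89 := d21_2 (iv F327) D89 (iv D89) F327 F236
theorem F460 : act 6 n89 = n72 := d23_2 (iv F328) D89 (iv D72)
theorem F461 : act 7 n89 = n89 := d24_2 D62 D89 (iv D89) (iv D62) F231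
theorem F462 : act 8 n89 = n89 := d25_2 F329 D89 (iv D89)
def n90 : Q := act 3 n63
theorem D90 : act 3 n63 = n90 := rfl
theorem F463 : act 0 n90 = n65 := d2_1 D90 (iv D65) (iv F330)
theorem F464 : act 1 n90 = n90 := d9_1 D90 (iv D90) F331
theorem F465 : act 4 n90 = n90 := d21_2 D63 D90 (iv D90) (iv D63) F242
theorem F466 : act 5 n90 = n90 := d22_2 F333 D90 (iv D90)
def n91 : Q := act 8 n63
theorem D91 : act 8 n63 = n91 := rfl
theorem F467 : act 0 n91 = n66 := d7_1 D91 (iv D66) (iv F330)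
theorem F468 : act 1 n91 = n91 := d14_1 D91 (iv D91) F331
theorem F469 : act 2 n91 = n91 := d20_1 D91 (iv D91) F332
theorem F470 : act 4 n91 = n64 := d29_1 D91 (iv D64) D63
theorem F471 : act 5 n91 = n91 := d32_1 D91 (iv D91) F333
def n92 : Q := act 7 n64
theorem D92 : act 7 n64 = n92 := rfl
theorem F472 : act 0 n92 = n67 := d6_1 D92 (iv D67) (iv F335)
theorem F473 : act 1 n92 = n92 := d13_1 D92 (iv D92) F336
theorem F474 : act 2 n92 = n92 := d19_1 D92 (iv D92) F337
theorem F475 : act 5 n92 = n73 := d31_1 D92 (iv D73) (iv F339)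
theorem F476 : act 8 n92 = n92 := d35_2 D64 D92 (iv D92) (iv D64) F244
def n93 : Q := act 2 n65
theorem D93 : act 2 n65 = n93 := rfl
theorem F477 : act 1 n93 = n93 := d8_1 D93 (iv D93) F340 F254 (iv F340)
theorem F478 : act 3 n93 = n93 := d15_2 D65 D93 (iv D93) (iv D65) F246
theorem F479 : act 4 n93 = n93 := d16_2 F341 D93 (iv D93)
theorem F480 : act 5 n93 = n93 := d17_2 F342 D93 (iv D93)
def n94 : Q := act 7 n65
theorem D94 : act 7 n65 = n94 := rfl
theorem F481 : act 1 n94 = n68 := d13_1 D94 (iv D68) (iv F340)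
theorem F482 : act 3 n94 = n94 := d24_1 D94 (iv D94) (iv D65) F248 D65
theorem F483 : act 4 n94 = n94 := d28_1 D94 (iv D94) F341
theorem F484 : act 5 n94 = n94 := d31_1 D94 (iv D94) F342
theorem F485 : act 0 n93 = n94 := d37_62 (iv D94) F342 F341 (iv D65) F246 F245 F175 F178 F177 (iv D31) F128 (iv D21) F96 F95 F98 F97 F80 (iv D12) F56 F55 F54 (iv D8) D7 F52 F51 F50 F49 F48 D11 F77 F57 F45 F44 F43 F42 (iv D6) F33 D5 F39 F38 F37 F36 D8 (iv F77) F76 D15 D21 D30 D44 F244 F243 F196 F195 F194 F193 (iv D35) F144 (iv F173) D45 D65 D93 F477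
theorem F486 : act 2 n94 = n90 := d1_2 D93 F485 F463
theorem F487 : act 7 n90 = n93 := d6_0 F485 (iv D94) (iv F463)
def n95 : Q := act 8 n65
theorem D95 : act 8 n65 = n95 := rfl
theorem F488 : act 1 n95 = n69 := d14_1 D95 (iv D69) (iv F340)
theorem F489 : act 3 n95 = n66 := d25_1 D95 (iv D66) D65
theorem F490 : act 4 n95 = n95 := d29_1 D95 (iv D95) F341
theorem F491 : act 5 n95 = n95 := d32_1 D95 (iv D95) F342
def n96 : Q := act 7 n66
theorem D96 : act 7 n66 = n96 := rfl
theorem F492 : act 1 n96 = n70 := d13_1 D96 (iv D70) (iv F343)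
theorem F493 : act 2 n96 = n96 := d19_1 D96 (iv D96) F344
theorem F494 : act 4 n96 = n67 := d28_1 D96 (iv D67) (iv F345)
theorem F495 : act 5 n96 = n96 := d31_1 D96 (iv D96) F346
theorem F496 : act 8 n96 = n96 := d35_2 D66 D96 (iv D96) (iv D66) F248
def n97 : Q := act 3 n67
theorem D97 : act 3 n67 = n97 := rfl
theorem F497 : act 1 n97 = n71 := d9_1 D97 (iv D71) (iv F347)
theorem F498 : act 5 n97 = n74 := d22_2 (iv F349) D97 (iv D74)
theorem F499 : act 7 n97 = n97 := d24_2 D67 D97 (iv D97) (iv D67) F251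
theorem F500 : act 8 n97 = n97 := d25_2 F350 D97 (iv D97)
def n98 : Q := act 8 n68
theorem D98 : act 8 n68 = n98 := rfl
theorem F501 : act 0 n98 = n98 := d7_1 D98 (iv D98) F351
theorem F502 : act 2 n98 = n98 := d20_1 D98 (iv D98) F352
theorem F503 : act 3 n98 = n98 := d25_1 D98 (iv D98) F353
theorem F504 : act 4 n98 = n98 := d29_1 D98 (iv D98) F354
theorem F505 : act 5 n98 = n98 := d32_1 D98 (iv D98) F355
def n99 : Q := act 7 n69
theorem D99 : act 7 n69 = n99 := rfl
theorem F506 : act 0 n99 = n99 := d6_1 D99 (iv D99) F356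
theorem F507 : act 2 n99 = n99 := d19_1 D99 (iv D99) F357
theorem F508 : act 4 n99 = n99 := d28_1 D99 (iv D99) F359
theorem F509 : act 5 n99 = n99 := d31_1 D99 (iv D99) F360
def n100 : Q := act 3 n70
theorem D100 : act 3 n70 = n100 := rfl
theorem F510 : act 0 n100 = n100 := d2_1 D100 (iv D100) F361
theorem F511 : act 5 n100 = n100 := d22_2 F364 D100 (iv D100)
theorem F512 : act 8 n100 = n100 := d25_2 F365 D100 (iv D100)
def n101 : Q := act 4 n71
theorem D101 : act 4 n71 = n101 := rfl
theorem F513 : act 0 n101 = n101 := d3_1 D101 (iv D101) F366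
theorem F514 : act 2 n101 = n101 := d16_1 D101 (iv D101) F367
theorem F515 : act 7 n101 = n101 := d28_2 F369 D101 (iv D101)
theorem F516 : act 8 n101 = n101 := d29_2 F370 D101 (iv D101)
def n102 : Q := act 2 n72
theorem D102 : act 2 n72 = n102 := rfl
theorem F517 : act 0 n102 = n102 := d1_1 D102 (iv D102) F371
theorem F518 : act 4 n102 = n102 := d16_2 F373 D102 (iv D102)
theorem F519 : act 5 n102 = n102 := d17_2 F374 D102 (iv D102)
theorem F520 : act 7 n102 = n102 := d19_2 F375 D102 (iv D102)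
theorem F521 : act 8 n102 = n102 := d20_2 F376 D102 (iv D102)
def n103 : Q := act 3 n73
theorem D103 : act 3 n73 = n103 := rfl
theorem F522 : act 0 n103 = n74 := d2_1 D103 (iv D74) (iv F377)
theorem F523 : act 1 n103 = n103 := d9_1 D103 (iv D103) F378
theorem F524 : act 6 n103 = n103 := d23_2 F381 D103 (iv D103)
theorem F525 : act 7 n103 = n103 := d24_2 D73 D103 (iv D103) (iv D73) F273
theorem F526 : act 8 n103 = n103 := d25_2 F382 D103 (iv D103)
def n104 : Q := act 2 n74
theorem D104 : act 2 n74 = n104 := rfl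
theorem F527 : act 1 n104 = n104 := d8_1 D104 (iv D104) F383 F282 (iv F383)
theorem F528 : act 3 n104 = n104 := d15_2 D74 D104 (iv D104) (iv D74) F277
theorem F529 : act 6 n104 = n104 := d18_2 F384 D104 (iv D104)
theorem F530 : act 7 n104 = n104 := d19_2 F385 D104 (iv D104)
theorem F531 : act 8 n104 = n104 := d20_2 F386 D104 (iv D104)
def n105 : Q := act 4 n74
theorem D105 : act 4 n74 = n105 := rfl
theorem F532 : act 1 n105 = n75 := d10_1 D105 (iv D75) (iv F383)
theorem F533 : act 3 n105 = n105 := d21_1 D105 (iv D105) (iv D74) F278 D74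
theorem F534 : act 6 n105 = n105 := d27_2 F384 D105 (iv D105)
theorem F535 : act 7 n105 = n105 := d28_2 F385 D105 (iv D105)
theorem F536 : act 8 n105 = n105 := d29_2 F386 D105 (iv D105)
def n106 : Q := act 5 n75
theorem D106 : act 5 n75 = n106 := rfl
theorem F537 : act 0 n106 = n106 := d4_1 D106 (iv D106) F387
theorem F538 : act 2 n106 = n106 := d17_1 D106 (iv D106) F388
theorem F539 : act 3 n106 = n106 := d22_1 D106 (iv D106) F389
theorem F540 : act 7 n106 = n106 := d31_2 F391 D106 (iv D106)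
theorem F541 : act 8 n106 = n106 := d32_2 F392 D106 (iv D106)
def n107 : Q := act 3 n76
theorem D107 : act 3 n76 = n107 := rfl
theorem F542 : act 0 n107 = n78 := d2_1 D107 (iv D78) (iv F393)
theorem F543 : act 1 n107 = n107 := d9_1 D107 (iv D107) F394
theorem F544 : act 4 n107 = n107 := d21_2 D76 D107 (iv D107) (iv D76) F288
theorem F545 : act 6 n107 = n90 := d23_2 (iv F396) D107 (iv D90)
def n108 : Q := act 5 n76
theorem D108 : act 5 n76 = n108 := rfl
theorem F546 : act 0 n108 = n79 := d4_1 D108 (iv D79) (iv F393)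
theorem F547 : act 1 n108 = n108 := d11_1 D108 (iv D108) F394
theorem F548 : act 2 n108 = n108 := d17_1 D108 (iv D108) F395
theorem F549 : act 4 n108 = n108 := d26_1 D108 (iv D108) (iv D76) F289 D76
theorem F550 : act 6 n108 = n108 := d30_2 (iv F396) D108 (iv D108) F396 F333
theorem F551 : act 7 n108 = n108 := d31_2 F397 D108 (iv D108)
def n109 : Q := act 8 n76
theorem D109 : act 8 n76 = n109 := rfl
theorem F552 : act 0 n109 = n80 := d7_1 D109 (iv D80) (iv F393)
theorem F553 : act 1 n109 = n109 := d14_1 D109 (iv D109) F394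
theorem F554 : act 2 n109 = n109 := d20_1 D109 (iv D109) F395
theorem F555 : act 4 n109 = n77 := d29_1 D109 (iv D77) D76
theorem F556 : act 6 n109 = n91 := d34_1 D109 (iv D91) (iv F396)
def n110 : Q := act 7 n77
theorem D110 : act 7 n77 = n110 := rfl
theorem F557 : act 0 n110 = n81 := d6_1 D110 (iv D81) (iv F398)
theorem F558 : act 1 n110 = n110 := d13_1 D110 (iv D110) F399
theorem F559 : act 2 n110 = n110 := d19_1 D110 (iv D110) F400
theorem F560 : act 5 n110 = n110 := d31_1 D110 (iv D110) F402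
theorem F561 : act 6 n110 = n92 := d33_1 D110 (iv D92) (iv F403)
theorem F562 : act 8 n110 = n110 := d35_2 D77 D110 (iv D110) (iv D77) F291
def n111 : Q := act 2 n78
theorem D111 : act 2 n78 = n111 := rfl
theorem F563 : act 1 n111 = n111 := d8_1 D111 (iv D111) F404 F302 (iv F404)
theorem F564 : act 3 n111 = n111 := d15_2 D78 D111 (iv D111) (iv D78) F293
theorem F565 : act 4 n111 = n111 := d16_2 F405 D111 (iv D111)
theorem F566 : act 6 n111 = n93 := d18_2 (iv F406) D111 (iv D93)
theorem F567 : act 7 n107 = n111 := d33_0 F566 (iv F487) (iv F545)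
def n112 : Q := act 5 n78
theorem D112 : act 5 n78 = n112 := rfl
theorem F568 : act 1 n112 = n82 := d11_1 D112 (iv D82) (iv F404)
theorem F569 : act 3 n112 = n79 := d22_1 D112 (iv D79) D78
theorem F570 : act 6 n112 = n112 := d30_2 (iv F406) D112 (iv D112) F406 F342
def n113 : Q := act 7 n78
theorem D113 : act 7 n78 = n113 := rfl
theorem F571 : act 0 n113 = n111 := d6_1 D113 (iv F567) F542
theorem F572 : act 1 n113 = n83 := d13_1 D113 (iv D83) (iv F404)
theorem F573 : act 2 n113 = n107 := d19_1 D113 F567 (iv D111)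
theorem F574 : act 3 n113 = n113 := d24_1 D113 (iv D113) (iv D78) F295 D78
theorem F575 : act 4 n113 = n113 := d28_1 D113 (iv D113) F405
theorem F576 : act 6 n113 = n94 := d33_1 D113 (iv D94) (iv F406)
def n114 : Q := act 8 n78
theorem D114 : act 8 n78 = n114 := rfl
theorem F577 : act 1 n114 = n84 := d14_1 D114 (iv D84) (iv F404)
theorem F578 : act 3 n114 = n80 := d25_1 D114 (iv D80) D78
theorem F579 : act 4 n114 = n114 := d29_1 D114 (iv D114) F405
theorem F580 : act 6 n114 = n95 := d34_1 D114 (iv D95) (iv F406)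
def n115 : Q := act 8 n79
theorem D115 : act 8 n79 = n115 := rfl
theorem F581 : act 1 n115 = n85 := d14_1 D115 (iv D85) (iv F407)
theorem F582 : act 2 n115 = n115 := d20_1 D115 (iv D115) F408
theorem F583 : act 4 n115 = n115 := d29_1 D115 (iv D115) F409
theorem F584 : act 5 n115 = n80 := d32_1 D115 (iv D80) D79
theorem F585 : act 6 n115 = n115 := d34_1 D115 (iv D115) F410
def n116 : Q := act 7 n80
theorem D116 : act 7 n80 = n116 := rfl
theorem F586 : act 1 n116 = n86 := d13_1 D116 (iv D86) (iv F412)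
theorem F587 : act 2 n116 = n116 := d19_1 D116 (iv D116) F413
theorem F588 : act 4 n116 = n81 := d28_1 D116 (iv D81) (iv F414)
theorem F589 : act 6 n116 = n96 := d33_1 D116 (iv D96) (iv F415)
theorem F590 : act 8 n116 = n116 := d35_2 D80 D116 (iv D116) (iv D80) F295
def n117 : Q := act 3 n81
theorem D117 : act 3 n81 = n117 := rfl
theorem F591 : act 1 n117 = n87 := d9_1 D117 (iv D87) (iv F416)
theorem F592 : act 5 n117 = n117 := d22_2 F418 D117 (iv D117)
theorem F593 : act 6 n117 = n97 := d23_2 (iv F419) D117 (iv D97)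
theorem F594 : act 7 n117 = n117 := d24_2 D81 D117 (iv D117) (iv D81) F298
theorem F595 : act 8 n117 = n117 := d25_2 F420 D117 (iv D117)
def n118 : Q := act 4 n82
theorem D118 : act 4 n82 = n118 := rfl
theorem F596 : act 0 n118 = n118 := d3_1 D118 (iv D118) F421
theorem F597 : act 2 n118 = n118 := d16_1 D118 (iv D118) F422
theorem F598 : act 3 n118 = n118 := d21_1 D118 (iv D118) F423 F307 (iv F423)
theorem F599 : act 5 n118 = n118 := d26_2 D82 D118 (iv D118) (iv D82) F303
theorem F600 : act 6 n118 = n118 := d27_2 F424 D118 (iv D118)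
def n119 : Q := act 7 n82
theorem D119 : act 7 n82 = n119 := rfl
theorem F601 : act 0 n119 = n119 := d6_1 D119 (iv D119) F421
theorem F602 : act 2 n119 = n119 := d19_1 D119 (iv D119) F422
theorem F603 : act 3 n119 = n119 := d24_1 D119 (iv D119) F423 F309 (iv F423)
theorem F604 : act 5 n119 = n83 := d31_1 D119 (iv D83) D82
theorem F605 : act 6 n119 = n119 := d33_1 D119 (iv D119) F424
def n120 : Q := act 8 n82
theorem D120 : act 8 n82 = n120 := rfl
theorem F606 : act 0 n120 = n120 := d7_1 D120 (iv D120) F421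
theorem F607 : act 2 n120 = n120 := d20_1 D120 (iv D120) F422
theorem F608 : act 3 n120 = n85 := d25_1 D120 (iv D85) (iv F423)
theorem F609 : act 5 n120 = n84 := d32_1 D120 (iv D84) D82
theorem F610 : act 6 n120 = n120 := d34_1 D120 (iv D120) F424
def n121 : Q := act 8 n83
theorem D121 : act 8 n83 = n121 := rfl
theorem F611 : act 0 n121 = n121 := d7_1 D121 (iv D121) F425
theorem F612 : act 2 n121 = n121 := d20_1 D121 (iv D121) F426
theorem F613 : act 3 n121 = n121 := d25_1 D121 (iv D121) F427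
theorem F614 : act 4 n121 = n121 := d29_1 D121 (iv D121) F428
theorem F615 : act 6 n121 = n98 := d34_1 D121 (iv D98) (iv F429)
def n122 : Q := act 7 n84
theorem D122 : act 7 n84 = n122 := rfl
theorem F616 : act 0 n122 = n122 := d6_1 D122 (iv D122) F430
theorem F617 : act 2 n122 = n122 := d19_1 D122 (iv D122) F431
theorem F618 : act 4 n122 = n122 := d28_1 D122 (iv D122) F433
theorem F619 : act 6 n122 = n99 := d33_1 D122 (iv D99) (iv F434)
def n123 : Q := act 7 n85
theorem D123 : act 7 n85 = n123 := rfl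
theorem F620 : act 0 n123 = n123 := d6_1 D123 (iv D123) F435
theorem F621 : act 2 n123 = n88 := d19_1 D123 (iv D88) (iv F436)
theorem F622 : act 4 n123 = n123 := d28_1 D123 (iv D123) F437
theorem F623 : act 5 n123 = n86 := d31_1 D123 (iv D86) (iv F438)
theorem F624 : act 6 n123 = n123 := d33_1 D123 (iv D123) F439
theorem F625 : act 8 n123 = n123 := d35_2 D85 D123 (iv D123) (iv D85) F309
def n124 : Q := act 3 n86
theorem D124 : act 3 n86 = n124 := rfl
theorem F626 : act 0 n124 = n124 := d2_1 D124 (iv D124) F440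
theorem F627 : act 6 n124 = n100 := d23_2 (iv F443) D124 (iv D100)
theorem F628 : act 8 n124 = n124 := d25_2 F444 D124 (iv D124)
def n125 : Q := act 4 n87
theorem D125 : act 4 n87 = n125 := rfl
theorem F629 : act 0 n125 = n125 := d3_1 D125 (iv D125) F445
theorem F630 : act 2 n125 = n125 := d16_1 D125 (iv D125) F446
theorem F631 : act 6 n125 = n101 := d27_2 (iv F448) D125 (iv D101)
theorem F632 : act 7 n125 = n125 := d28_2 F449 D125 (iv D125)
theorem F633 : act 8 n125 = n125 := d29_2 F450 D125 (iv D125)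
def n126 : Q := act 3 n88
theorem D126 : act 3 n88 = n126 := rfl
theorem F634 : act 0 n126 = n126 := d2_1 D126 (iv D126) F451
theorem F635 : act 1 n126 = n126 := d9_1 D126 (iv D126) F452
theorem F636 : act 5 n126 = n89 := d22_2 (iv F454) D126 (iv D89)
theorem F637 : act 6 n126 = n126 := d23_2 F455 D126 (iv D126)
theorem F638 : act 7 n126 = n126 := d24_2 D88 D126 (iv D126) (iv D88) F321
theorem F639 : act 8 n126 = n126 := d25_2 F456 D126 (iv D126)
def n127 : Q := act 2 n89
theorem D127 : act 2 n89 = n127 := rfl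
theorem F640 : act 0 n127 = n127 := d1_1 D127 (iv D127) F457
theorem F641 : act 4 n127 = n127 := d16_2 F459 D127 (iv D127)
theorem F642 : act 6 n127 = n102 := d18_2 (iv F460) D127 (iv D102)
theorem F643 : act 7 n127 = n127 := d19_2 F461 D127 (iv D127)
theorem F644 : act 8 n127 = n127 := d20_2 F462 D127 (iv D127)
def n128 : Q := act 8 n90
theorem D128 : act 8 n90 = n128 := rfl
theorem F645 : act 0 n128 = n95 := d7_1 D128 (iv D95) (iv F463)
theorem F646 : act 1 n128 = n128 := d14_1 D128 (iv D128) F464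
theorem F647 : act 3 n128 = n91 := d25_1 D128 (iv D91) D90
theorem F648 : act 4 n128 = n128 := d29_1 D128 (iv D128) F465
theorem F649 : act 5 n128 = n128 := d32_1 D128 (iv D128) F466
def n129 : Q := act 7 n91
theorem D129 : act 7 n91 = n129 := rfl
theorem F650 : act 0 n129 = n96 := d6_1 D129 (iv D96) (iv F467)
theorem F651 : act 1 n129 = n129 := d13_1 D129 (iv D129) F468
theorem F652 : act 2 n129 = n129 := d19_1 D129 (iv D129) F469
theorem F653 : act 4 n129 = n92 := d28_1 D129 (iv D92) (iv F470)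
theorem F654 : act 5 n129 = n129 := d31_1 D129 (iv D129) F471
theorem F655 : act 8 n129 = n129 := d35_2 D91 D129 (iv D129) (iv D91) F334
def n130 : Q := act 3 n92
theorem D130 : act 3 n92 = n130 := rfl
theorem F656 : act 0 n130 = n97 := d2_1 D130 (iv D97) (iv F472)
theorem F657 : act 1 n130 = n130 := d9_1 D130 (iv D130) F473
theorem F658 : act 5 n130 = n103 := d22_2 (iv F475) D130 (iv D103)
theorem F659 : act 7 n130 = n130 := d24_2 D92 D130 (iv D130) (iv D92) F338
theorem F660 : act 8 n130 = n130 := d25_2 F476 D130 (iv D130)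
def n131 : Q := act 8 n93
theorem D131 : act 8 n93 = n131 := rfl
theorem F661 : act 1 n131 = n131 := d14_1 D131 (iv D131) F477
theorem F662 : act 2 n131 = n95 := d20_1 D131 (iv D95) D93
theorem F663 : act 3 n131 = n131 := d25_1 D131 (iv D131) F478
theorem F664 : act 4 n131 = n131 := d29_1 D131 (iv D131) F479
theorem F665 : act 5 n131 = n131 := d32_1 D131 (iv D131) F480
def n132 : Q := act 8 n94
theorem D132 : act 8 n94 = n132 := rfl
theorem F666 : act 0 n132 = n131 := d7_1 D132 (iv D131) F485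
theorem F667 : act 1 n132 = n98 := d14_1 D132 (iv D98) (iv F481)
theorem F668 : act 2 n132 = n128 := d20_1 D132 (iv D128) (iv F486)
theorem F669 : act 3 n132 = n132 := d25_1 D132 (iv D132) F482
theorem F670 : act 4 n132 = n132 := d29_1 D132 (iv D132) F483
theorem F671 : act 5 n132 = n132 := d32_1 D132 (iv D132) F484
def n133 : Q := act 7 n95
theorem D133 : act 7 n95 = n133 := rfl
theorem F672 : act 1 n133 = n99 := d13_1 D133 (iv D99) (iv F488)
theorem F673 : act 4 n133 = n133 := d28_1 D133 (iv D133) F490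
theorem F674 : act 5 n133 = n133 := d31_1 D133 (iv D133) F491
def n134 : Q := act 3 n96
theorem D134 : act 3 n96 = n134 := rfl
theorem F675 : act 1 n134 = n100 := d9_1 D134 (iv D100) (iv F492)
theorem F676 : act 5 n134 = n134 := d22_2 F495 D134 (iv D134)
theorem F677 : act 8 n134 = n134 := d25_2 F496 D134 (iv D134)
def n135 : Q := act 2 n97
theorem D135 : act 2 n97 = n135 := rfl
theorem F678 : act 1 n135 = n135 := d8_1 D135 (iv D135) F497 F367 (iv F497)
theorem F679 : act 3 n135 = n135 := d15_2 D97 D135 (iv D135) (iv D97) F348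
theorem F680 : act 5 n135 = n104 := d17_2 (iv F498) D135 (iv D104)
theorem F681 : act 7 n135 = n135 := d19_2 F499 D135 (iv D135)
theorem F682 : act 8 n135 = n135 := d20_2 F500 D135 (iv D135)
def n136 : Q := act 4 n97
theorem D136 : act 4 n97 = n136 := rfl
theorem F683 : act 1 n136 = n101 := d10_1 D136 (iv D101) (iv F497)
theorem F684 : act 7 n136 = n136 := d28_2 F499 D136 (iv D136)
theorem F685 : act 8 n136 = n136 := d29_2 F500 D136 (iv D136)
def n137 : Q := act 7 n98
theorem D137 : act 7 n98 = n137 := rfl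
theorem F686 : act 0 n137 = n137 := d6_1 D137 (iv D137) F501
theorem F687 : act 2 n137 = n137 := d19_1 D137 (iv D137) F502
theorem F688 : act 4 n137 = n137 := d28_1 D137 (iv D137) F504
theorem F689 : act 5 n137 = n137 := d31_1 D137 (iv D137) F505
theorem F690 : act 8 n137 = n99 := d35_2 D98 D137 (iv D99) (iv D69) D68
def n138 : Q := act 3 n99
theorem D138 : act 3 n99 = n138 := rfl
theorem F691 : act 0 n138 = n138 := d2_1 D138 (iv D138) F506
theorem F692 : act 5 n138 = n138 := d22_2 F509 D138 (iv D138)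
theorem F693 : act 7 n138 = n100 := d24_2 D99 D138 (iv D100) (iv D70) (iv F358)
def n139 : Q := act 2 n100
theorem D139 : act 2 n100 = n139 := rfl
theorem F694 : act 0 n139 = n139 := d1_1 D139 (iv D139) F510
theorem F695 : act 3 n139 = n102 := d15_2 D100 D139 (iv D102) (iv D72) (iv F362)
theorem F696 : act 5 n139 = n139 := d17_2 F511 D139 (iv D139)
theorem F697 : act 8 n139 = n139 := d20_2 F512 D139 (iv D139)
def n140 : Q := act 4 n100
theorem D140 : act 4 n100 = n140 := rfl
theorem F698 : act 0 n140 = n140 := d3_1 D140 (iv D140) F510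
theorem F699 : act 3 n140 = n101 := d21_1 D140 (iv D101) (iv D71) (iv F363) D100
theorem F700 : act 8 n140 = n140 := d29_2 F512 D140 (iv D140)
def n141 : Q := act 5 n101
theorem D141 : act 5 n101 = n141 := rfl
theorem F701 : act 0 n141 = n141 := d4_1 D141 (iv D141) F513
theorem F702 : act 2 n141 = n141 := d17_1 D141 (iv D141) F514
theorem F703 : act 4 n141 = n106 := d26_1 D141 (iv D106) (iv D75) (iv F368) D101
theorem F704 : act 7 n141 = n141 := d31_2 F515 D141 (iv D141)
theorem F705 : act 8 n141 = n141 := d32_2 F516 D141 (iv D141)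
def n142 : Q := act 1 n102
theorem D142 : act 1 n102 = n142 := rfl
theorem F706 : act 2 n142 = n142 := d8_2 D102 D142 (iv D142) (iv D102) F372
theorem F707 : act 4 n142 = n142 := d10_2 F518 D142 (iv D142)
theorem F708 : act 5 n142 = n142 := d11_2 F519 D142 (iv D142)
theorem F709 : act 7 n142 = n142 := d13_2 F520 D142 (iv D142)
theorem F710 : act 8 n142 = n142 := d14_2 F521 D142 (iv D142)
def n143 : Q := act 2 n103
theorem D143 : act 2 n103 = n143 := rfl
theorem F711 : act 0 n143 = n104 := d1_1 D143 (iv D104) (iv F522)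
theorem F712 : act 3 n143 = n143 := d15_2 D103 D143 (iv D143) (iv D103) F379
theorem F714 : act 7 n143 = n143 := d19_2 F525 D143 (iv D143)
def n144 : Q := act 4 n103
theorem D144 : act 4 n103 = n144 := rfl
theorem F716 : act 0 n144 = n105 := d3_1 D144 (iv D105) (iv F522)
theorem F718 : act 3 n144 = n144 := d21_1 D144 (iv D144) (iv D103) F380 D103
def n145 : Q := act 4 n104
theorem D145 : act 4 n104 = n145 := rfl
theorem F722 : act 1 n145 = n145 := d10_1 D145 (iv D145) F527
theorem F723 : act 2 n145 = n105 := d16_1 D145 (iv D105) D104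
theorem F725 : act 7 n145 = n145 := d28_2 F530 D145 (iv D145)
def n146 : Q := act 5 n105
theorem D146 : act 5 n105 = n146 := rfl
theorem F727 : act 1 n146 = n106 := d11_1 D146 (iv D106) (iv F532)
theorem F728 : act 3 n146 = n146 := d22_1 D146 (iv D146) F533
theorem F729 : act 7 n146 = n146 := d31_2 F535 D146 (iv D146)
theorem F730 : act 8 n146 = n146 := d32_2 F536 D146 (iv D146)
def n147 : Q := act 6 n106
theorem D147 : act 6 n106 = n147 := rfl
theorem F731 : act 0 n147 = n147 := d5_1 D147 (iv D147) F537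
theorem F732 : act 2 n147 = n147 := d18_1 D147 (iv D147) F538
theorem F733 : act 3 n147 = n147 := d23_1 D147 (iv D147) F539
theorem F734 : act 5 n147 = n147 := d30_1 D147 (iv D147) (iv D106) F390 D106
theorem F735 : act 7 n147 = n147 := d33_2 F540 D147 (iv D147)
theorem F736 : act 8 n147 = n147 := d34_2 F541 D147 (iv D147)
def n148 : Q := act 5 n107
theorem D148 : act 5 n107 = n148 := rfl
theorem F737 : act 0 n148 = n112 := d4_1 D148 (iv D112) (iv F542)
theorem F738 : act 1 n148 = n148 := d11_1 D148 (iv D148) F543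
theorem F739 : act 3 n148 = n108 := d22_1 D148 (iv D108) D107
theorem F740 : act 6 n148 = n148 := d30_2 (iv F545) D148 (iv D148) F545 F466
def n149 : Q := act 8 n107
theorem D149 : act 8 n107 = n149 := rfl
theorem F741 : act 0 n149 = n114 := d7_1 D149 (iv D114) (iv F542)
theorem F742 : act 1 n149 = n149 := d14_1 D149 (iv D149) F543
theorem F743 : act 3 n149 = n109 := d25_1 D149 (iv D109) D107
theorem F744 : act 4 n149 = n149 := d29_1 D149 (iv D149) F544
theorem F745 : act 6 n149 = n128 := d34_1 D149 (iv D128) (iv F545)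
def n150 : Q := act 8 n108
theorem D150 : act 8 n108 = n150 := rfl
theorem F746 : act 0 n150 = n115 := d7_1 D150 (iv D115) (iv F546)
theorem F747 : act 1 n150 = n150 := d14_1 D150 (iv D150) F547
theorem F748 : act 2 n150 = n150 := d20_1 D150 (iv D150) F548
theorem F749 : act 4 n150 = n150 := d29_1 D150 (iv D150) F549
theorem F750 : act 5 n150 = n109 := d32_1 D150 (iv D109) D108
theorem F751 : act 6 n150 = n150 := d34_1 D150 (iv D150) F550
def n151 : Q := act 7 n109
theorem D151 : act 7 n109 = n151 := rfl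
theorem F752 : act 0 n151 = n116 := d6_1 D151 (iv D116) (iv F552)
theorem F753 : act 1 n151 = n151 := d13_1 D151 (iv D151) F553
theorem F754 : act 2 n151 = n151 := d19_1 D151 (iv D151) F554
theorem F755 : act 4 n151 = n110 := d28_1 D151 (iv D110) (iv F555)
theorem F756 : act 6 n151 = n129 := d33_1 D151 (iv D129) (iv F556)
theorem F757 : act 8 n151 = n151 := d35_2 D109 D151 (iv D151) (iv D109) F397
def n152 : Q := act 3 n110
theorem D152 : act 3 n110 = n152 := rfl
theorem F758 : act 0 n152 = n117 := d2_1 D152 (iv D117) (iv F557)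
theorem F759 : act 1 n152 = n152 := d9_1 D152 (iv D152) F558
theorem F760 : act 5 n152 = n152 := d22_2 F560 D152 (iv D152)
theorem F761 : act 6 n152 = n130 := d23_2 (iv F561) D152 (iv D130)
theorem F762 : act 7 n152 = n152 := d24_2 D110 D152 (iv D152) (iv D110) F401
theorem F763 : act 8 n152 = n152 := d25_2 F562 D152 (iv D152)
def n153 : Q := act 5 n111
theorem D153 : act 5 n111 = n153 := rfl
theorem F764 : act 1 n153 = n153 := d11_1 D153 (iv D153) F563
theorem F765 : act 2 n153 = n112 := d17_1 D153 (iv D112) D111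
theorem F766 : act 3 n153 = n153 := d22_1 D153 (iv D153) F564
theorem F767 : act 6 n153 = n153 := d30_2 (iv F566) D153 (iv D153) F566 F480
theorem F768 : act 7 n153 = n148 := d31_2 F567 D153 (iv D148)
def n154 : Q := act 8 n111
theorem D154 : act 8 n111 = n154 := rfl
theorem F769 : act 1 n154 = n154 := d14_1 D154 (iv D154) F563
theorem F770 : act 2 n154 = n114 := d20_1 D154 (iv D114) D111
theorem F771 : act 3 n154 = n154 := d25_1 D154 (iv D154) F564
theorem F772 : act 4 n154 = n154 := d29_1 D154 (iv D154) F565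
theorem F773 : act 6 n154 = n131 := d34_1 D154 (iv D131) (iv F566)
def n155 : Q := act 4 n112
theorem D155 : act 4 n112 = n155 := rfl
theorem F774 : act 1 n155 = n118 := d10_1 D155 (iv D118) (iv F568)
theorem F775 : act 3 n155 = n155 := d21_1 D155 (iv D155) F569 F409 (iv F569)
theorem F776 : act 5 n155 = n155 := d26_2 D112 D155 (iv D155) (iv D112) F405
theorem F777 : act 6 n155 = n155 := d27_2 F570 D155 (iv D155)
def n156 : Q := act 7 n112
theorem D156 : act 7 n112 = n156 := rfl
theorem F778 : act 0 n156 = n153 := d6_1 D156 F768 F737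
theorem F779 : act 1 n156 = n119 := d13_1 D156 (iv D119) (iv F568)
theorem F780 : act 2 n156 = n148 := d19_1 D156 (iv F768) F765
theorem F781 : act 3 n156 = n156 := d24_1 D156 (iv D156) F569 F411 (iv F569)
theorem F782 : act 5 n156 = n113 := d31_1 D156 (iv D113) D112
theorem F783 : act 6 n156 = n156 := d33_1 D156 (iv D156) F570
def n157 : Q := act 8 n112
theorem D157 : act 8 n112 = n157 := rfl
theorem F784 : act 1 n157 = n120 := d14_1 D157 (iv D120) (iv F568)
theorem F785 : act 3 n157 = n115 := d25_1 D157 (iv D115) (iv F569)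
theorem F786 : act 5 n157 = n114 := d32_1 D157 (iv D114) D112
theorem F787 : act 6 n157 = n157 := d34_1 D157 (iv D157) F570
def n158 : Q := act 8 n113
theorem D158 : act 8 n113 = n158 := rfl
theorem F788 : act 0 n158 = n154 := d7_1 D158 (iv D154) (iv F571)
theorem F789 : act 1 n158 = n121 := d14_1 D158 (iv D121) (iv F572)
theorem F790 : act 2 n158 = n149 := d20_1 D158 (iv D149) (iv F573)
theorem F791 : act 3 n158 = n158 := d25_1 D158 (iv D158) F574
theorem F792 : act 4 n158 = n158 := d29_1 D158 (iv D158) F575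
theorem F793 : act 6 n158 = n132 := d34_1 D158 (iv D132) (iv F576)
def n159 : Q := act 7 n114
theorem D159 : act 7 n114 = n159 := rfl
theorem F794 : act 1 n159 = n122 := d13_1 D159 (iv D122) (iv F577)
theorem F795 : act 4 n159 = n159 := d28_1 D159 (iv D159) F579
theorem F796 : act 6 n159 = n133 := d33_1 D159 (iv D133) (iv F580)
def n160 : Q := act 7 n115
theorem D160 : act 7 n115 = n160 := rfl
theorem F797 : act 1 n160 = n123 := d13_1 D160 (iv D123) (iv F581)
theorem F798 : act 2 n160 = n160 := d19_1 D160 (iv D160) F582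
theorem F799 : act 4 n160 = n160 := d28_1 D160 (iv D160) F583
theorem F800 : act 5 n160 = n116 := d31_1 D160 (iv D116) (iv F584)
theorem F801 : act 6 n160 = n160 := d33_1 D160 (iv D160) F585
theorem F802 : act 8 n160 = n160 := d35_2 D115 D160 (iv D160) (iv D115) F411
def n161 : Q := act 3 n116
theorem D161 : act 3 n116 = n161 := rfl
theorem F803 : act 1 n161 = n124 := d9_1 D161 (iv D124) (iv F586)
theorem F804 : act 6 n161 = n134 := d23_2 (iv F589) D161 (iv D134)
theorem F805 : act 8 n161 = n161 := d25_2 F590 D161 (iv D161)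
def n162 : Q := act 2 n117
theorem D162 : act 2 n117 = n162 := rfl
theorem F806 : act 1 n162 = n162 := d8_1 D162 (iv D162) F591 F446 (iv F591)
theorem F807 : act 3 n162 = n162 := d15_2 D117 D162 (iv D162) (iv D117) F417
theorem F808 : act 5 n162 = n162 := d17_2 F592 D162 (iv D162)
theorem F809 : act 6 n162 = n135 := d18_2 (iv F593) D162 (iv D135)
theorem F810 : act 7 n162 = n162 := d19_2 F594 D162 (iv D162)
theorem F811 : act 8 n162 = n162 := d20_2 F595 D162 (iv D162)
def n163 : Q := act 4 n117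
theorem D163 : act 4 n117 = n163 := rfl
theorem F812 : act 1 n163 = n125 := d10_1 D163 (iv D125) (iv F591)
theorem F813 : act 6 n163 = n136 := d27_2 (iv F593) D163 (iv D136)
theorem F814 : act 7 n163 = n163 := d28_2 F594 D163 (iv D163)
theorem F815 : act 8 n163 = n163 := d29_2 F595 D163 (iv D163)
def n164 : Q := act 7 n118
theorem D164 : act 7 n118 = n164 := rfl
theorem F816 : act 0 n164 = n164 := d6_1 D164 (iv D164) F596
theorem F817 : act 2 n164 = n164 := d19_1 D164 (iv D164) F597
theorem F818 : act 4 n164 = n119 := d28_1 D164 (iv D119) D118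
theorem F819 : act 5 n164 = n164 := d31_1 D164 (iv D164) F599
theorem F820 : act 6 n164 = n164 := d33_1 D164 (iv D164) F600
def n165 : Q := act 8 n118
theorem D165 : act 8 n118 = n165 := rfl
theorem F821 : act 0 n165 = n165 := d7_1 D165 (iv D165) F596
theorem F822 : act 2 n165 = n165 := d20_1 D165 (iv D165) F597
theorem F823 : act 3 n165 = n165 := d25_1 D165 (iv D165) F598
theorem F824 : act 4 n165 = n120 := d29_1 D165 (iv D120) D118
theorem F825 : act 5 n165 = n165 := d32_1 D165 (iv D165) F599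
theorem F826 : act 6 n165 = n165 := d34_1 D165 (iv D165) F600
def n166 : Q := act 8 n119
theorem D166 : act 8 n119 = n166 := rfl
theorem F827 : act 0 n166 = n166 := d7_1 D166 (iv D166) F601
theorem F828 : act 2 n166 = n166 := d20_1 D166 (iv D166) F602
theorem F829 : act 3 n166 = n166 := d25_1 D166 (iv D166) F603
theorem F830 : act 5 n166 = n121 := d32_1 D166 (iv D121) (iv F604)
theorem F831 : act 6 n166 = n166 := d34_1 D166 (iv D166) F605
def n167 : Q := act 7 n120
theorem D167 : act 7 n120 = n167 := rfl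
theorem F832 : act 0 n167 = n167 := d6_1 D167 (iv D167) F606
theorem F833 : act 2 n167 = n167 := d19_1 D167 (iv D167) F607
theorem F834 : act 5 n167 = n122 := d31_1 D167 (iv D122) (iv F609)
theorem F835 : act 6 n167 = n167 := d33_1 D167 (iv D167) F610
def n168 : Q := act 7 n121
theorem D168 : act 7 n121 = n168 := rfl
theorem F836 : act 0 n168 = n168 := d6_1 D168 (iv D168) F611
theorem F837 : act 2 n168 = n168 := d19_1 D168 (iv D168) F612
theorem F838 : act 4 n168 = n168 := d28_1 D168 (iv D168) F614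
theorem F839 : act 6 n168 = n137 := d33_1 D168 (iv D137) (iv F615)
theorem F840 : act 8 n168 = n122 := d35_2 D121 D168 (iv D122) (iv D84) D83
def n169 : Q := act 3 n122
theorem D169 : act 3 n122 = n169 := rfl
theorem F841 : act 0 n169 = n169 := d2_1 D169 (iv D169) F616
theorem F842 : act 6 n169 = n138 := d23_2 (iv F619) D169 (iv D138)
theorem F843 : act 7 n169 = n124 := d24_2 D122 D169 (iv D124) (iv D86) (iv F432)
def n170 : Q := act 3 n123
theorem D170 : act 3 n123 = n170 := rfl
theorem F844 : act 0 n170 = n170 := d2_1 D170 (iv D170) F620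
theorem F845 : act 5 n170 = n124 := d22_2 (iv F623) D170 (iv D124)
theorem F846 : act 6 n170 = n170 := d23_2 F624 D170 (iv D170)
theorem F847 : act 8 n170 = n170 := d25_2 F625 D170 (iv D170)
def n171 : Q := act 2 n124
theorem D171 : act 2 n124 = n171 := rfl
theorem F848 : act 0 n171 = n171 := d1_1 D171 (iv D171) F626
theorem F849 : act 3 n171 = n127 := d15_2 D124 D171 (iv D127) (iv D89) (iv F441)
theorem F850 : act 6 n171 = n139 := d18_2 (iv F627) D171 (iv D139)
theorem F851 : act 8 n171 = n171 := d20_2 F628 D171 (iv D171)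
def n172 : Q := act 4 n124
theorem D172 : act 4 n124 = n172 := rfl
theorem F852 : act 0 n172 = n172 := d3_1 D172 (iv D172) F626
theorem F853 : act 3 n172 = n125 := d21_1 D172 (iv D125) (iv D87) (iv F442) D124
theorem F854 : act 6 n172 = n140 := d27_2 (iv F627) D172 (iv D140)
theorem F855 : act 8 n172 = n172 := d29_2 F628 D172 (iv D172)
def n173 : Q := act 5 n125
theorem D173 : act 5 n125 = n173 := rfl
theorem F856 : act 0 n173 = n173 := d4_1 D173 (iv D173) F629
theorem F857 : act 2 n173 = n173 := d17_1 D173 (iv D173) F630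
theorem F858 : act 4 n173 = n173 := d26_1 D173 (iv D173) (iv D125) F447 D125
theorem F859 : act 7 n173 = n173 := d31_2 F632 D173 (iv D173)
theorem F860 : act 8 n173 = n173 := d32_2 F633 D173 (iv D173)
def n174 : Q := act 2 n126
theorem D174 : act 2 n126 = n174 := rfl
theorem F861 : act 0 n174 = n174 := d1_1 D174 (iv D174) F634
theorem F862 : act 5 n174 = n127 := d17_2 (iv F636) D174 (iv D127)
theorem F863 : act 6 n174 = n174 := d18_2 F637 D174 (iv D174)
theorem F864 : act 7 n174 = n174 := d19_2 F638 D174 (iv D174)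
theorem F865 : act 8 n174 = n174 := d20_2 F639 D174 (iv D174)
def n175 : Q := act 4 n126
theorem D175 : act 4 n126 = n175 := rfl
theorem F866 : act 0 n175 = n175 := d3_1 D175 (iv D175) F634
theorem F867 : act 1 n175 = n175 := d10_1 D175 (iv D175) F635
theorem F868 : act 3 n175 = n175 := d21_1 D175 (iv D175) (iv D126) F453 D126
theorem F869 : act 5 n175 = n175 := d26_2 (iv F636) D175 (iv D175) F636 F459
theorem F870 : act 6 n175 = n175 := d27_2 F637 D175 (iv D175)
theorem F871 : act 7 n175 = n175 := d28_2 F638 D175 (iv D175)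
theorem F872 : act 8 n175 = n175 := d29_2 F639 D175 (iv D175)
def n176 : Q := act 1 n127
theorem D176 : act 1 n127 = n176 := rfl
theorem F873 : act 2 n176 = n176 := d8_2 D127 D176 (iv D176) (iv D127) F458
theorem F874 : act 4 n176 = n176 := d10_2 F641 D176 (iv D176)
theorem F875 : act 6 n176 = n142 := d12_2 (iv F642) D176 (iv D142)
theorem F876 : act 7 n176 = n176 := d13_2 F643 D176 (iv D176)
theorem F877 : act 8 n176 = n176 := d14_2 F644 D176 (iv D176)
def n177 : Q := act 7 n128
theorem D177 : act 7 n128 = n177 := rfl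
theorem F878 : act 0 n177 = n133 := d6_1 D177 (iv D133) (iv F645)
theorem F879 : act 1 n177 = n177 := d13_1 D177 (iv D177) F646
theorem F880 : act 4 n177 = n177 := d28_1 D177 (iv D177) F648
theorem F881 : act 5 n177 = n177 := d31_1 D177 (iv D177) F649
def n178 : Q := act 3 n129
theorem D178 : act 3 n129 = n178 := rfl
theorem F882 : act 0 n178 = n134 := d2_1 D178 (iv D134) (iv F650)
theorem F883 : act 1 n178 = n178 := d9_1 D178 (iv D178) F651
theorem F884 : act 5 n178 = n178 := d22_2 F654 D178 (iv D178)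
theorem F885 : act 8 n178 = n178 := d25_2 F655 D178 (iv D178)
def n179 : Q := act 2 n130
theorem D179 : act 2 n130 = n179 := rfl
theorem F886 : act 0 n179 = n135 := d1_1 D179 (iv D135) (iv F656)
def n180 : Q := act 4 n130
theorem D180 : act 4 n130 = n180 := rfl
theorem F891 : act 0 n180 = n136 := d3_1 D180 (iv D136) (iv F656)
theorem F892 : act 1 n180 = n180 := d10_1 D180 (iv D180) F657
theorem F893 : act 7 n180 = n180 := d28_2 F659 D180 (iv D180)
theorem F894 : act 8 n180 = n180 := d29_2 F660 D180 (iv D180)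
def n181 : Q := act 7 n131
theorem D181 : act 7 n131 = n181 := rfl
theorem F895 : act 1 n181 = n181 := d13_1 D181 (iv D181) F661
theorem F896 : act 2 n181 = n133 := d19_1 D181 (iv D133) (iv F662)
theorem F897 : act 4 n181 = n181 := d28_1 D181 (iv D181) F664
theorem F898 : act 5 n181 = n181 := d31_1 D181 (iv D181) F665
theorem F899 : act 8 n181 = n177 := d35_2 D131 D181 (iv D177) (iv D128) F487
def n182 : Q := act 7 n132
theorem D182 : act 7 n132 = n182 := rfl
theorem F900 : act 0 n182 = n181 := d6_1 D182 (iv D181) (iv F666)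
theorem F901 : act 1 n182 = n137 := d13_1 D182 (iv D137) (iv F667)
theorem F902 : act 2 n182 = n177 := d19_1 D182 (iv D177) (iv F668)
theorem F903 : act 4 n182 = n182 := d28_1 D182 (iv D182) F670
theorem F904 : act 5 n182 = n182 := d31_1 D182 (iv D182) F671
theorem F905 : act 8 n182 = n133 := d35_2 D132 D182 (iv D133) (iv D95) D94
def n183 : Q := act 3 n133
theorem D183 : act 3 n133 = n183 := rfl
theorem F906 : act 1 n183 = n138 := d9_1 D183 (iv D138) (iv F672)
theorem F907 : act 5 n183 = n183 := d22_2 F674 D183 (iv D183)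
theorem F908 : act 7 n183 = n134 := d24_2 D133 D183 (iv D134) (iv D96) (iv F489)
def n184 : Q := act 2 n134
theorem D184 : act 2 n134 = n184 := rfl
theorem F909 : act 3 n184 = n184 := d15_2 D134 D184 (iv D184) (iv D134) F493
theorem F910 : act 5 n184 = n184 := d17_2 F676 D184 (iv D184)
theorem F911 : act 8 n184 = n184 := d20_2 F677 D184 (iv D184)
def n185 : Q := act 4 n134
theorem D185 : act 4 n134 = n185 := rfl
theorem F912 : act 1 n185 = n140 := d10_1 D185 (iv D140) (iv F675)
theorem F913 : act 3 n185 = n136 := d21_1 D185 (iv D136) (iv D97) (iv F494) D134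
theorem F914 : act 8 n185 = n185 := d29_2 F677 D185 (iv D185)
def n186 : Q := act 4 n135
theorem D186 : act 4 n135 = n186 := rfl
theorem F915 : act 1 n186 = n186 := d10_1 D186 (iv D186) F678
theorem F916 : act 2 n186 = n136 := d16_1 D186 (iv D136) D135
theorem F917 : act 7 n186 = n186 := d28_2 F681 D186 (iv D186)
theorem F918 : act 8 n186 = n186 := d29_2 F682 D186 (iv D186)
def n187 : Q := act 5 n136
theorem D187 : act 5 n136 = n187 := rfl
theorem F919 : act 1 n187 = n141 := d11_1 D187 (iv D141) (iv F683)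
theorem F920 : act 4 n187 = n146 := d26_1 D187 (iv D146) (iv D105) (iv F498) D136
theorem F921 : act 7 n187 = n187 := d31_2 F684 D187 (iv D187)
theorem F922 : act 8 n187 = n187 := d32_2 F685 D187 (iv D187)
def n188 : Q := act 3 n137
theorem D188 : act 3 n137 = n188 := rfl
theorem F923 : act 0 n188 = n188 := d2_1 D188 (iv D188) F686
theorem F924 : act 5 n188 = n188 := d22_2 F689 D188 (iv D188)
theorem F925 : act 7 n188 = n188 := d24_2 D137 D188 (iv D188) (iv D137) F503
theorem F926 : act 8 n188 = n138 := d25_2 (iv F690) D188 (iv D138)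
def n189 : Q := act 2 n138
theorem D189 : act 2 n138 = n189 := rfl
theorem F927 : act 0 n189 = n189 := d1_1 D189 (iv D189) F691
theorem F928 : act 3 n189 = n189 := d15_2 D138 D189 (iv D189) (iv D138) F507
theorem F929 : act 5 n189 = n189 := d17_2 F692 D189 (iv D189)
theorem F930 : act 7 n189 = n139 := d19_2 (iv F693) D189 (iv D139)
def n190 : Q := act 4 n138
theorem D190 : act 4 n138 = n190 := rfl
theorem F931 : act 0 n190 = n190 := d3_1 D190 (iv D190) F691
theorem F932 : act 3 n190 = n190 := d21_1 D190 (iv D190) (iv D138) F508 D138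
theorem F933 : act 7 n190 = n140 := d28_2 (iv F693) D190 (iv D140)
def n191 : Q := act 1 n139
theorem D191 : act 1 n139 = n191 := rfl
theorem F934 : act 3 n191 = n142 := d9_2 (iv F695) D191 (iv D142)
theorem F935 : act 5 n191 = n191 := d11_2 F696 D191 (iv D191)
theorem F936 : act 8 n191 = n191 := d14_2 F697 D191 (iv D191)
def n192 : Q := act 4 n139
theorem D192 : act 4 n139 = n192 := rfl
theorem F937 : act 0 n192 = n192 := d3_1 D192 (iv D192) F694
theorem F938 : act 2 n192 = n140 := d16_1 D192 (iv D140) D139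
theorem F939 : act 3 n192 = n192 := d21_1 D192 (iv D192) F695 F518 (iv F695)
theorem F940 : act 8 n192 = n192 := d29_2 F697 D192 (iv D192)
def n193 : Q := act 5 n140
theorem D193 : act 5 n140 = n193 := rfl
theorem F941 : act 0 n193 = n193 := d4_1 D193 (iv D193) F698
theorem F942 : act 3 n193 = n141 := d22_1 D193 (iv D141) (iv F699)
theorem F943 : act 4 n193 = n193 := d26_1 D193 (iv D193) (iv D140) F511 D140
theorem F944 : act 8 n193 = n193 := d32_2 F700 D193 (iv D193)
def n194 : Q := act 6 n141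
theorem D194 : act 6 n141 = n194 := rfl
theorem F945 : act 0 n194 = n194 := d5_1 D194 (iv D194) F701
theorem F946 : act 2 n194 = n194 := d18_1 D194 (iv D194) F702
theorem F947 : act 4 n194 = n147 := d27_1 D194 (iv D147) (iv F703)
theorem F948 : act 7 n194 = n194 := d33_2 F704 D194 (iv D194)
theorem F949 : act 8 n194 = n194 := d34_2 F705 D194 (iv D194)
def n195 : Q := act 0 n142
theorem D195 : act 0 n142 = n195 := rfl
theorem F950 : act 1 n195 = n195 := d0_2 D142 D195 (iv D195) (iv D142) F517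
theorem F951 : act 2 n195 = n195 := d1_2 F706 D195 (iv D195)
theorem F952 : act 4 n195 = n195 := d3_2 F707 D195 (iv D195)
theorem F953 : act 5 n195 = n195 := d4_2 F708 D195 (iv D195)
theorem F954 : act 7 n195 = n195 := d6_2 F709 D195 (iv D195)
theorem F955 : act 8 n195 = n195 := d7_2 F710 D195 (iv D195)
def n196 : Q := act 1 n143
theorem D196 : act 1 n143 = n196 := rfl
theorem F956 : act 0 n196 = n196 := d0_1 D196 (iv D196) F711 F527 (iv F711)
theorem F957 : act 2 n196 = n196 := d8_2 D143 D196 (iv D196) (iv D143) F523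
theorem F958 : act 3 n196 = n196 := d9_2 F712 D196 (iv D196)
def n197 : Q := act 4 n143
theorem D197 : act 4 n143 = n197 := rfl
theorem F962 : act 0 n197 = n145 := d3_1 D197 (iv D145) (iv F711)
theorem F963 : act 2 n197 = n144 := d16_1 D197 (iv D144) D143
theorem F965 : act 7 n197 = n197 := d28_2 F714 D197 (iv D197)
def n198 : Q := act 5 n144
theorem D198 : act 5 n144 = n198 := rfl
theorem F967 : act 0 n198 = n146 := d4_1 D198 (iv D146) (iv F716)
def n199 : Q := act 3 n145
theorem D199 : act 3 n145 = n199 := rfl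
theorem F972 : act 1 n199 = n199 := d9_1 D199 (iv D199) F722
theorem F973 : act 2 n199 = n199 := d15_1 D199 (iv D199) F723 F533 (iv F723)
def n200 : Q := act 5 n145
theorem D200 : act 5 n145 = n200 := rfl
theorem F978 : act 2 n200 = n146 := d17_1 D200 (iv D146) (iv F723)
def n201 : Q := act 6 n146
theorem D201 : act 6 n146 = n201 := rfl
theorem F981 : act 1 n201 = n147 := d12_1 D201 (iv D147) (iv F727)
theorem F982 : act 3 n201 = n201 := d23_1 D201 (iv D201) F728
theorem F983 : act 5 n201 = n201 := d30_1 D201 (iv D201) (iv D146) F534 D146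
theorem F984 : act 7 n201 = n201 := d33_2 F729 D201 (iv D201)
theorem F985 : act 8 n201 = n201 := d34_2 F730 D201 (iv D201)
def n202 : Q := act 4 n148
theorem D202 : act 4 n148 = n202 := rfl
theorem F986 : act 0 n202 = n155 := d3_1 D202 (iv D155) (iv F737)
theorem F987 : act 1 n202 = n202 := d10_1 D202 (iv D202) F738
theorem F988 : act 3 n202 = n202 := d21_1 D202 (iv D202) F739 F549 (iv F739)
theorem F989 : act 5 n202 = n202 := d26_2 D148 D202 (iv D202) (iv D148) F544
theorem F990 : act 6 n202 = n202 := d27_2 F740 D202 (iv D202)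
def n203 : Q := act 8 n148
theorem D203 : act 8 n148 = n203 := rfl
theorem F991 : act 0 n203 = n157 := d7_1 D203 (iv D157) (iv F737)
theorem F992 : act 1 n203 = n203 := d14_1 D203 (iv D203) F738
theorem F993 : act 3 n203 = n150 := d25_1 D203 (iv D150) (iv F739)
theorem F994 : act 5 n203 = n149 := d32_1 D203 (iv D149) D148
theorem F995 : act 6 n203 = n203 := d34_1 D203 (iv D203) F740
def n204 : Q := act 7 n149
theorem D204 : act 7 n149 = n204 := rfl
theorem F996 : act 0 n204 = n159 := d6_1 D204 (iv D159) (iv F741)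
theorem F997 : act 1 n204 = n204 := d13_1 D204 (iv D204) F742
theorem F998 : act 4 n204 = n204 := d28_1 D204 (iv D204) F744
theorem F999 : act 6 n204 = n177 := d33_1 D204 (iv D177) (iv F745)
def n205 : Q := act 7 n150
theorem D205 : act 7 n150 = n205 := rfl
theorem F1000 : act 0 n205 = n160 := d6_1 D205 (iv D160) (iv F746)
theorem F1001 : act 1 n205 = n205 := d13_1 D205 (iv D205) F747
theorem F1002 : act 2 n205 = n205 := d19_1 D205 (iv D205) F748
theorem F1003 : act 4 n205 = n205 := d28_1 D205 (iv D205) F749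
theorem F1004 : act 5 n205 = n151 := d31_1 D205 (iv D151) (iv F750)
theorem F1005 : act 6 n205 = n205 := d33_1 D205 (iv D205) F751
theorem F1006 : act 8 n205 = n205 := d35_2 D150 D205 (iv D205) (iv D150) F551
def n206 : Q := act 3 n151
theorem D206 : act 3 n151 = n206 := rfl
theorem F1007 : act 0 n206 = n161 := d2_1 D206 (iv D161) (iv F752)
theorem F1008 : act 1 n206 = n206 := d9_1 D206 (iv D206) F753
theorem F1009 : act 6 n206 = n178 := d23_2 (iv F756) D206 (iv D178)
theorem F1010 : act 8 n206 = n206 := d25_2 F757 D206 (iv D206)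
def n207 : Q := act 2 n152
theorem D207 : act 2 n152 = n207 := rfl
theorem F1011 : act 0 n207 = n162 := d1_1 D207 (iv D162) (iv F758)
def n208 : Q := act 4 n152
theorem D208 : act 4 n152 = n208 := rfl
theorem F1017 : act 0 n208 = n163 := d3_1 D208 (iv D163) (iv F758)
theorem F1018 : act 1 n208 = n208 := d10_1 D208 (iv D208) F759
theorem F1019 : act 6 n208 = n180 := d27_2 (iv F761) D208 (iv D180)
theorem F1020 : act 7 n208 = n208 := d28_2 F762 D208 (iv D208)
theorem F1021 : act 8 n208 = n208 := d29_2 F763 D208 (iv D208)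
def n209 : Q := act 4 n153
theorem D209 : act 4 n153 = n209 := rfl
theorem F1022 : act 1 n209 = n209 := d10_1 D209 (iv D209) F764
theorem F1023 : act 2 n209 = n155 := d16_1 D209 (iv D155) (iv F765)
theorem F1024 : act 5 n209 = n209 := d26_2 D153 D209 (iv D209) (iv D153) F565
theorem F1025 : act 6 n209 = n209 := d27_2 F767 D209 (iv D209)
theorem F1026 : act 7 n209 = n202 := d28_2 (iv F768) D209 (iv D202)
def n210 : Q := act 8 n153
theorem D210 : act 8 n153 = n210 := rfl
theorem F1027 : act 1 n210 = n210 := d14_1 D210 (iv D210) F764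
theorem F1028 : act 2 n210 = n157 := d20_1 D210 (iv D157) (iv F765)
theorem F1029 : act 3 n210 = n210 := d25_1 D210 (iv D210) F766
theorem F1030 : act 5 n210 = n154 := d32_1 D210 (iv D154) D153
theorem F1031 : act 6 n210 = n210 := d34_1 D210 (iv D210) F767
def n211 : Q := act 7 n154
theorem D211 : act 7 n154 = n211 := rfl
theorem F1032 : act 1 n211 = n211 := d13_1 D211 (iv D211) F769
theorem F1033 : act 2 n211 = n159 := d19_1 D211 (iv D159) (iv F770)
theorem F1034 : act 4 n211 = n211 := d28_1 D211 (iv D211) F772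
theorem F1035 : act 6 n211 = n181 := d33_1 D211 (iv D181) (iv F773)
theorem F1036 : act 8 n211 = n204 := d35_2 D154 D211 (iv D204) (iv D149) F567
def n212 : Q := act 7 n155
theorem D212 : act 7 n155 = n212 := rfl
theorem F1037 : act 0 n212 = n209 := d6_1 D212 F1026 F986
theorem F1038 : act 1 n212 = n164 := d13_1 D212 (iv D164) (iv F774)
theorem F1039 : act 2 n212 = n202 := d19_1 D212 (iv F1026) F1023
theorem F1040 : act 4 n212 = n156 := d28_1 D212 (iv D156) D155
theorem F1041 : act 5 n212 = n212 := d31_1 D212 (iv D212) F776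
theorem F1042 : act 6 n212 = n212 := d33_1 D212 (iv D212) F777
def n213 : Q := act 8 n155
theorem D213 : act 8 n155 = n213 := rfl
theorem F1043 : act 1 n213 = n165 := d14_1 D213 (iv D165) (iv F774)
theorem F1044 : act 3 n213 = n213 := d25_1 D213 (iv D213) F775
theorem F1045 : act 4 n213 = n157 := d29_1 D213 (iv D157) D155
theorem F1046 : act 5 n213 = n213 := d32_1 D213 (iv D213) F776
theorem F1047 : act 6 n213 = n213 := d34_1 D213 (iv D213) F777
def n214 : Q := act 8 n156
theorem D214 : act 8 n156 = n214 := rfl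
theorem F1048 : act 0 n214 = n210 := d7_1 D214 (iv D210) (iv F778)
theorem F1049 : act 1 n214 = n166 := d14_1 D214 (iv D166) (iv F779)
theorem F1050 : act 2 n214 = n203 := d20_1 D214 (iv D203) (iv F780)
theorem F1051 : act 3 n214 = n214 := d25_1 D214 (iv D214) F781
theorem F1052 : act 5 n214 = n158 := d32_1 D214 (iv D158) (iv F782)
theorem F1053 : act 6 n214 = n214 := d34_1 D214 (iv D214) F783
def n215 : Q := act 7 n157
theorem D215 : act 7 n157 = n215 := rfl
theorem F1054 : act 1 n215 = n167 := d13_1 D215 (iv D167) (iv F784)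
theorem F1055 : act 5 n215 = n159 := d31_1 D215 (iv D159) (iv F786)
theorem F1056 : act 6 n215 = n215 := d33_1 D215 (iv D215) F787
def n216 : Q := act 7 n158
theorem D216 : act 7 n158 = n216 := rfl
theorem F1057 : act 0 n216 = n211 := d6_1 D216 (iv D211) (iv F788)
theorem F1058 : act 1 n216 = n168 := d13_1 D216 (iv D168) (iv F789)
theorem F1059 : act 2 n216 = n204 := d19_1 D216 (iv D204) (iv F790)
theorem F1060 : act 4 n216 = n216 := d28_1 D216 (iv D216) F792
theorem F1061 : act 6 n216 = n182 := d33_1 D216 (iv D182) (iv F793)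
theorem F1062 : act 8 n216 = n159 := d35_2 D158 D216 (iv D159) (iv D114) D113
def n217 : Q := act 3 n159
theorem D217 : act 3 n159 = n217 := rfl
theorem F1063 : act 1 n217 = n169 := d9_1 D217 (iv D169) (iv F794)
theorem F1064 : act 6 n217 = n183 := d23_2 (iv F796) D217 (iv D183)
theorem F1065 : act 7 n217 = n161 := d24_2 D159 D217 (iv D161) (iv D116) (iv F578)
def n218 : Q := act 3 n160
theorem D218 : act 3 n160 = n218 := rfl
theorem F1066 : act 1 n218 = n170 := d9_1 D218 (iv D170) (iv F797)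
theorem F1067 : act 5 n218 = n161 := d22_2 (iv F800) D218 (iv D161)
theorem F1068 : act 6 n218 = n218 := d23_2 F801 D218 (iv D218)
theorem F1069 : act 8 n218 = n218 := d25_2 F802 D218 (iv D218)
def n219 : Q := act 2 n161
theorem D219 : act 2 n161 = n219 := rfl
theorem F1070 : act 3 n219 = n219 := d15_2 D161 D219 (iv D219) (iv D161) F587
theorem F1071 : act 6 n219 = n184 := d18_2 (iv F804) D219 (iv D184)
theorem F1072 : act 8 n219 = n219 := d20_2 F805 D219 (iv D219)
def n220 : Q := act 4 n161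
theorem D220 : act 4 n161 = n220 := rfl
theorem F1073 : act 1 n220 = n172 := d10_1 D220 (iv D172) (iv F803)
theorem F1074 : act 3 n220 = n163 := d21_1 D220 (iv D163) (iv D117) (iv F588) D161
theorem F1075 : act 6 n220 = n185 := d27_2 (iv F804) D220 (iv D185)
theorem F1076 : act 8 n220 = n220 := d29_2 F805 D220 (iv D220)
def n221 : Q := act 4 n162
theorem D221 : act 4 n162 = n221 := rfl
theorem F1077 : act 1 n221 = n221 := d10_1 D221 (iv D221) F806
theorem F1078 : act 2 n221 = n163 := d16_1 D221 (iv D163) D162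
theorem F1079 : act 6 n221 = n186 := d27_2 (iv F809) D221 (iv D186)
theorem F1080 : act 7 n221 = n221 := d28_2 F810 D221 (iv D221)
theorem F1081 : act 8 n221 = n221 := d29_2 F811 D221 (iv D221)
def n222 : Q := act 5 n163
theorem D222 : act 5 n163 = n222 := rfl
theorem F1082 : act 1 n222 = n173 := d11_1 D222 (iv D173) (iv F812)
theorem F1083 : act 4 n222 = n222 := d26_1 D222 (iv D222) (iv D163) F592 D163
theorem F1084 : act 7 n222 = n222 := d31_2 F814 D222 (iv D222)
theorem F1085 : act 8 n222 = n222 := d32_2 F815 D222 (iv D222)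
def n223 : Q := act 3 n164
theorem D223 : act 3 n164 = n223 := rfl
theorem F1086 : act 0 n223 = n223 := d2_1 D223 (iv D223) F816
theorem F1087 : act 4 n223 = n223 := d21_2 (iv F818) D223 (iv D223) F818 F603
theorem F1088 : act 5 n223 = n223 := d22_2 F819 D223 (iv D223)
theorem F1089 : act 6 n223 = n223 := d23_2 F820 D223 (iv D223)
theorem F1090 : act 7 n223 = n223 := d24_2 D164 D223 (iv D223) (iv D164) F598
def n224 : Q := act 8 n164
theorem D224 : act 8 n164 = n224 := rfl
theorem F1091 : act 0 n224 = n224 := d7_1 D224 (iv D224) F816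
theorem F1092 : act 2 n224 = n224 := d20_1 D224 (iv D224) F817
theorem F1093 : act 4 n224 = n166 := d29_1 D224 (iv D166) (iv F818)
theorem F1094 : act 5 n224 = n224 := d32_1 D224 (iv D224) F819
theorem F1095 : act 6 n224 = n224 := d34_1 D224 (iv D224) F820
def n225 : Q := act 7 n165
theorem D225 : act 7 n165 = n225 := rfl
theorem F1096 : act 0 n225 = n225 := d6_1 D225 (iv D225) F821
theorem F1097 : act 2 n225 = n225 := d19_1 D225 (iv D225) F822
theorem F1098 : act 4 n225 = n167 := d28_1 D225 (iv D167) (iv F824)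
theorem F1099 : act 5 n225 = n225 := d31_1 D225 (iv D225) F825
theorem F1100 : act 6 n225 = n225 := d33_1 D225 (iv D225) F826
def n226 : Q := act 7 n166
theorem D226 : act 7 n166 = n226 := rfl
theorem F1101 : act 0 n226 = n226 := d6_1 D226 (iv D226) F827
theorem F1102 : act 2 n226 = n226 := d19_1 D226 (iv D226) F828
theorem F1103 : act 5 n226 = n168 := d31_1 D226 (iv D168) (iv F830)
theorem F1104 : act 6 n226 = n226 := d33_1 D226 (iv D226) F831
theorem F1105 : act 8 n226 = n167 := d35_2 D166 D226 (iv D167) (iv D120) D119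
def n227 : Q := act 3 n167
theorem D227 : act 3 n167 = n227 := rfl
theorem F1106 : act 0 n227 = n227 := d2_1 D227 (iv D227) F832
theorem F1107 : act 5 n227 = n169 := d22_2 (iv F834) D227 (iv D169)
theorem F1108 : act 6 n227 = n227 := d23_2 F835 D227 (iv D227)
theorem F1109 : act 7 n227 = n170 := d24_2 D167 D227 (iv D170) (iv D123) (iv F608)
def n228 : Q := act 3 n168
theorem D228 : act 3 n168 = n228 := rfl
theorem F1110 : act 0 n228 = n228 := d2_1 D228 (iv D228) F836
theorem F1111 : act 6 n228 = n188 := d23_2 (iv F839) D228 (iv D188)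
theorem F1112 : act 7 n228 = n228 := d24_2 D168 D228 (iv D228) (iv D168) F613
theorem F1113 : act 8 n228 = n169 := d25_2 (iv F840) D228 (iv D169)
def n229 : Q := act 2 n169
theorem D229 : act 2 n169 = n229 := rfl
theorem F1114 : act 0 n229 = n229 := d1_1 D229 (iv D229) F841
theorem F1115 : act 3 n229 = n229 := d15_2 D169 D229 (iv D229) (iv D169) F617
theorem F1116 : act 6 n229 = n189 := d18_2 (iv F842) D229 (iv D189)
theorem F1117 : act 7 n229 = n171 := d19_2 (iv F843) D229 (iv D171)
def n230 : Q := act 4 n169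
theorem D230 : act 4 n169 = n230 := rfl
theorem F1118 : act 0 n230 = n230 := d3_1 D230 (iv D230) F841
theorem F1119 : act 3 n230 = n230 := d21_1 D230 (iv D230) (iv D169) F618 D169
theorem F1120 : act 6 n230 = n190 := d27_2 (iv F842) D230 (iv D190)
theorem F1121 : act 7 n230 = n172 := d28_2 (iv F843) D230 (iv D172)
def n231 : Q := act 2 n170
theorem D231 : act 2 n170 = n231 := rfl
theorem F1122 : act 0 n231 = n231 := d1_1 D231 (iv D231) F844
theorem F1123 : act 3 n231 = n174 := d15_2 D170 D231 (iv D174) (iv D126) (iv F621)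
theorem F1124 : act 5 n231 = n171 := d17_2 (iv F845) D231 (iv D171)
theorem F1125 : act 6 n231 = n231 := d18_2 F846 D231 (iv D231)
theorem F1126 : act 8 n231 = n231 := d20_2 F847 D231 (iv D231)
def n232 : Q := act 4 n170
theorem D232 : act 4 n170 = n232 := rfl
theorem F1127 : act 0 n232 = n232 := d3_1 D232 (iv D232) F844
theorem F1128 : act 3 n232 = n232 := d21_1 D232 (iv D232) (iv D170) F622 D170
theorem F1129 : act 6 n232 = n232 := d27_2 F846 D232 (iv D232)
theorem F1130 : act 8 n232 = n232 := d29_2 F847 D232 (iv D232)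
def n233 : Q := act 1 n171
theorem D233 : act 1 n171 = n233 := rfl
theorem F1131 : act 3 n233 = n176 := d9_2 (iv F849) D233 (iv D176)
theorem F1132 : act 6 n233 = n191 := d12_2 (iv F850) D233 (iv D191)
theorem F1133 : act 8 n233 = n233 := d14_2 F851 D233 (iv D233)
def n234 : Q := act 4 n171
theorem D234 : act 4 n171 = n234 := rfl
theorem F1134 : act 0 n234 = n234 := d3_1 D234 (iv D234) F848
theorem F1135 : act 2 n234 = n172 := d16_1 D234 (iv D172) D171
theorem F1136 : act 3 n234 = n234 := d21_1 D234 (iv D234) F849 F641 (iv F849)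
theorem F1137 : act 6 n234 = n192 := d27_2 (iv F850) D234 (iv D192)
theorem F1138 : act 8 n234 = n234 := d29_2 F851 D234 (iv D234)
def n235 : Q := act 5 n172
theorem D235 : act 5 n172 = n235 := rfl
theorem F1139 : act 0 n235 = n235 := d4_1 D235 (iv D235) F852
theorem F1140 : act 3 n235 = n173 := d22_1 D235 (iv D173) (iv F853)
theorem F1141 : act 8 n235 = n235 := d32_2 F855 D235 (iv D235)
def n236 : Q := act 6 n173
theorem D236 : act 6 n173 = n236 := rfl
theorem F1142 : act 0 n236 = n236 := d5_1 D236 (iv D236) F856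
theorem F1143 : act 2 n236 = n236 := d18_1 D236 (iv D236) F857
theorem F1144 : act 4 n236 = n236 := d27_1 D236 (iv D236) F858
theorem F1145 : act 5 n236 = n194 := d30_1 D236 (iv D194) (iv D141) (iv F631) D173
theorem F1146 : act 7 n236 = n236 := d33_2 F859 D236 (iv D236)
theorem F1147 : act 8 n236 = n236 := d34_2 F860 D236 (iv D236)
def n237 : Q := act 1 n174
theorem D237 : act 1 n174 = n237 := rfl
theorem F1148 : act 2 n237 = n237 := d8_2 D174 D237 (iv D237) (iv D174) F635
theorem F1149 : act 5 n237 = n176 := d11_2 (iv F862) D237 (iv D176)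
theorem F1150 : act 6 n237 = n237 := d12_2 F863 D237 (iv D237)
theorem F1151 : act 7 n237 = n237 := d13_2 F864 D237 (iv D237)
theorem F1152 : act 8 n237 = n237 := d14_2 F865 D237 (iv D237)
def n238 : Q := act 4 n174
theorem D238 : act 4 n174 = n238 := rfl
theorem F1153 : act 0 n238 = n238 := d3_1 D238 (iv D238) F861
theorem F1154 : act 2 n238 = n175 := d16_1 D238 (iv D175) D174
theorem F1155 : act 5 n238 = n238 := d26_2 (iv F862) D238 (iv D238) F862 F641
theorem F1156 : act 6 n238 = n238 := d27_2 F863 D238 (iv D238)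
theorem F1157 : act 7 n238 = n238 := d28_2 F864 D238 (iv D238)
theorem F1158 : act 8 n238 = n238 := d29_2 F865 D238 (iv D238)
def n239 : Q := act 0 n176
theorem D239 : act 0 n176 = n239 := rfl
theorem F1159 : act 1 n239 = n239 := d0_2 D176 D239 (iv D239) (iv D176) F640
theorem F1160 : act 2 n239 = n239 := d1_2 F873 D239 (iv D239)
theorem F1161 : act 4 n239 = n239 := d3_2 F874 D239 (iv D239)
theorem F1162 : act 6 n239 = n195 := d5_2 (iv F875) D239 (iv D195)
theorem F1163 : act 7 n239 = n239 := d6_2 F876 D239 (iv D239)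
theorem F1164 : act 8 n239 = n239 := d7_2 F877 D239 (iv D239)
def n240 : Q := act 3 n177
theorem D240 : act 3 n177 = n240 := rfl
theorem F1165 : act 0 n240 = n183 := d2_1 D240 (iv D183) (iv F878)
theorem F1166 : act 1 n240 = n240 := d9_1 D240 (iv D240) F879
theorem F1167 : act 5 n240 = n240 := d22_2 F881 D240 (iv D240)
theorem F1168 : act 7 n240 = n178 := d24_2 D177 D240 (iv D178) (iv D129) (iv F647)
def n241 : Q := act 2 n178
theorem D241 : act 2 n178 = n241 := rfl
theorem F1169 : act 0 n241 = n184 := d1_1 D241 (iv D184) (iv F882)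
theorem F1170 : act 3 n241 = n241 := d15_2 D178 D241 (iv D241) (iv D178) F652
theorem F1171 : act 5 n241 = n241 := d17_2 F884 D241 (iv D241)
theorem F1172 : act 8 n241 = n241 := d20_2 F885 D241 (iv D241)
def n242 : Q := act 4 n178
theorem D242 : act 4 n178 = n242 := rfl
theorem F1173 : act 0 n242 = n185 := d3_1 D242 (iv D185) (iv F882)
theorem F1174 : act 1 n242 = n242 := d10_1 D242 (iv D242) F883
theorem F1175 : act 3 n242 = n180 := d21_1 D242 (iv D180) (iv D130) (iv F653) D178
theorem F1176 : act 8 n242 = n242 := d29_2 F885 D242 (iv D242)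
def n243 : Q := act 1 n179
theorem D243 : act 1 n179 = n243 := rfl
theorem F1177 : act 0 n243 = n243 := d0_1 D243 (iv D243) F886 F678 (iv F886)
theorem F1178 : act 2 n243 = n243 := d8_2 D179 D243 (iv D243) (iv D179) F657
def n244 : Q := act 4 n179
theorem D244 : act 4 n179 = n244 := rfl
theorem F1183 : act 0 n244 = n186 := d3_1 D244 (iv D186) (iv F886)
theorem F1184 : act 2 n244 = n180 := d16_1 D244 (iv D180) D179
def n245 : Q := act 5 n180
theorem D245 : act 5 n180 = n245 := rfl
theorem F1187 : act 0 n245 = n187 := d4_1 D245 (iv D187) (iv F891)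
theorem F1189 : act 4 n245 = n198 := d26_1 D245 (iv D198) (iv D144) (iv F658) D180
def n246 : Q := act 3 n181
theorem D246 : act 3 n181 = n246 := rfl
theorem F1192 : act 1 n246 = n246 := d9_1 D246 (iv D246) F895
theorem F1193 : act 5 n246 = n246 := d22_2 F898 D246 (iv D246)
theorem F1194 : act 7 n246 = n246 := d24_2 D181 D246 (iv D246) (iv D181) F663
theorem F1195 : act 8 n246 = n240 := d25_2 (iv F899) D246 (iv D240)
def n247 : Q := act 3 n182
theorem D247 : act 3 n182 = n247 := rfl
theorem F1196 : act 0 n247 = n246 := d2_1 D247 (iv D246) (iv F900)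
theorem F1197 : act 1 n247 = n188 := d9_1 D247 (iv D188) (iv F901)
theorem F1198 : act 5 n247 = n247 := d22_2 F904 D247 (iv D247)
theorem F1199 : act 7 n247 = n247 := d24_2 D182 D247 (iv D247) (iv D182) F669
theorem F1200 : act 8 n247 = n183 := d25_2 (iv F905) D247 (iv D183)
def n248 : Q := act 2 n183
theorem D248 : act 2 n183 = n248 := rfl
theorem F1201 : act 5 n248 = n248 := d17_2 F907 D248 (iv D248)
theorem F1202 : act 7 n248 = n184 := d19_2 (iv F908) D248 (iv D184)
def n249 : Q := act 4 n183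
theorem D249 : act 4 n183 = n249 := rfl
theorem F1203 : act 1 n249 = n190 := d10_1 D249 (iv D190) (iv F906)
theorem F1204 : act 3 n249 = n249 := d21_1 D249 (iv D249) (iv D183) F673 D183
theorem F1205 : act 7 n249 = n185 := d28_2 (iv F908) D249 (iv D185)
def n250 : Q := act 1 n184
theorem D250 : act 1 n184 = n250 := rfl
theorem F1206 : act 2 n250 = n191 := d8_2 D184 D250 (iv D191) (iv D139) (iv F675)
theorem F1207 : act 3 n250 = n250 := d9_2 F909 D250 (iv D250)
theorem F1208 : act 5 n250 = n250 := d11_2 F910 D250 (iv D250)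
theorem F1209 : act 8 n250 = n250 := d14_2 F911 D250 (iv D250)
def n251 : Q := act 4 n184
theorem D251 : act 4 n184 = n251 := rfl
theorem F1210 : act 2 n251 = n185 := d16_1 D251 (iv D185) D184
theorem F1211 : act 8 n251 = n251 := d29_2 F911 D251 (iv D251)
def n252 : Q := act 5 n185
theorem D252 : act 5 n185 = n252 := rfl
theorem F1212 : act 1 n252 = n193 := d11_1 D252 (iv D193) (iv F912)
theorem F1213 : act 3 n252 = n187 := d22_1 D252 (iv D187) (iv F913)
theorem F1214 : act 4 n252 = n252 := d26_1 D252 (iv D252) (iv D185) F676 D185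
theorem F1215 : act 8 n252 = n252 := d32_2 F914 D252 (iv D252)
def n253 : Q := act 3 n186
theorem D253 : act 3 n186 = n253 := rfl
theorem F1216 : act 1 n253 = n253 := d9_1 D253 (iv D253) F915
theorem F1217 : act 4 n253 = n253 := d21_2 D186 D253 (iv D253) (iv D186) F679
theorem F1218 : act 8 n253 = n253 := d25_2 F918 D253 (iv D253)
def n254 : Q := act 5 n186
theorem D254 : act 5 n186 = n254 := rfl
theorem F1220 : act 2 n254 = n187 := d17_1 D254 (iv D187) (iv F916)
theorem F1221 : act 4 n254 = n200 := d26_1 D254 (iv D200) (iv D145) (iv F680) D186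
def n255 : Q := act 6 n187
theorem D255 : act 6 n187 = n255 := rfl
theorem F1224 : act 1 n255 = n194 := d12_1 D255 (iv D194) (iv F919)
theorem F1225 : act 4 n255 = n201 := d27_1 D255 (iv D201) (iv F920)
theorem F1226 : act 7 n255 = n255 := d33_2 F921 D255 (iv D255)
theorem F1227 : act 8 n255 = n255 := d34_2 F922 D255 (iv D255)
def n256 : Q := act 2 n188
theorem D256 : act 2 n188 = n256 := rfl
theorem F1228 : act 0 n256 = n256 := d1_1 D256 (iv D256) F923
theorem F1229 : act 3 n256 = n256 := d15_2 D188 D256 (iv D256) (iv D188) F687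
theorem F1230 : act 5 n256 = n256 := d17_2 F924 D256 (iv D256)
theorem F1231 : act 7 n256 = n256 := d19_2 F925 D256 (iv D256)
theorem F1232 : act 8 n256 = n189 := d20_2 (iv F926) D256 (iv D189)
def n257 : Q := act 4 n188
theorem D257 : act 4 n188 = n257 := rfl
theorem F1233 : act 0 n257 = n257 := d3_1 D257 (iv D257) F923
theorem F1234 : act 3 n257 = n257 := d21_1 D257 (iv D257) (iv D188) F688 D188
theorem F1235 : act 7 n257 = n257 := d28_2 F925 D257 (iv D257)
theorem F1236 : act 8 n257 = n190 := d29_2 (iv F926) D257 (iv D190)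
def n258 : Q := act 1 n189
theorem D258 : act 1 n189 = n258 := rfl
theorem F1237 : act 3 n258 = n258 := d9_2 F928 D258 (iv D258)
theorem F1238 : act 5 n258 = n258 := d11_2 F929 D258 (iv D258)
theorem F1239 : act 7 n258 = n191 := d13_2 (iv F930) D258 (iv D191)
def n259 : Q := act 4 n189
theorem D259 : act 4 n189 = n259 := rfl
theorem F1240 : act 0 n259 = n259 := d3_1 D259 (iv D259) F927
theorem F1241 : act 2 n259 = n190 := d16_1 D259 (iv D190) D189
theorem F1242 : act 7 n259 = n192 := d28_2 (iv F930) D259 (iv D192)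
def n260 : Q := act 5 n190
theorem D260 : act 5 n190 = n260 := rfl
theorem F1243 : act 0 n260 = n260 := d4_1 D260 (iv D260) F931
theorem F1244 : act 3 n260 = n260 := d22_1 D260 (iv D260) F932
theorem F1245 : act 4 n260 = n260 := d26_1 D260 (iv D260) (iv D190) F692 D190
theorem F1246 : act 7 n260 = n193 := d31_2 (iv F933) D260 (iv D193)
def n261 : Q := act 0 n191
theorem D261 : act 0 n191 = n261 := rfl
theorem F1247 : act 1 n261 = n261 := d0_2 D191 D261 (iv D261) (iv D191) F694
theorem F1248 : act 3 n261 = n195 := d2_2 (iv F934) D261 (iv D195)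
theorem F1249 : act 5 n261 = n261 := d4_2 F935 D261 (iv D261)
theorem F1250 : act 8 n261 = n261 := d7_2 F936 D261 (iv D261)
def n262 : Q := act 4 n191
theorem D262 : act 4 n191 = n262 := rfl
theorem F1251 : act 1 n262 = n192 := d10_1 D262 (iv D192) D191
theorem F1252 : act 3 n262 = n262 := d21_1 D262 (iv D262) F934 F707 (iv F934)
theorem F1253 : act 8 n262 = n262 := d29_2 F936 D262 (iv D262)
def n263 : Q := act 5 n192
theorem D263 : act 5 n192 = n263 := rfl
theorem F1254 : act 0 n263 = n263 := d4_1 D263 (iv D263) F937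
theorem F1255 : act 2 n263 = n193 := d17_1 D263 (iv D193) (iv F938)
theorem F1256 : act 3 n263 = n263 := d22_1 D263 (iv D263) F939
theorem F1257 : act 4 n263 = n263 := d26_1 D263 (iv D263) (iv D192) F696 D192
theorem F1258 : act 8 n263 = n263 := d32_2 F940 D263 (iv D263)
def n264 : Q := act 6 n193
theorem D264 : act 6 n193 = n264 := rfl
theorem F1259 : act 0 n264 = n264 := d5_1 D264 (iv D264) F941
theorem F1260 : act 3 n264 = n194 := d23_1 D264 (iv D194) (iv F942)
theorem F1261 : act 4 n264 = n264 := d27_1 D264 (iv D264) F943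
theorem F1262 : act 8 n264 = n264 := d34_2 F944 D264 (iv D264)
def n265 : Q := act 4 n196
theorem D265 : act 4 n196 = n265 := rfl
theorem F1263 : act 0 n265 = n265 := d3_1 D265 (iv D265) F956
theorem F1264 : act 1 n265 = n197 := d10_1 D265 (iv D197) D196
theorem F1265 : act 2 n265 = n265 := d16_1 D265 (iv D265) F957
def n266 : Q := act 3 n197
theorem D266 : act 3 n197 = n266 := rfl
theorem F1269 : act 0 n266 = n199 := d2_1 D266 (iv D199) (iv F962)
theorem F1270 : act 2 n266 = n266 := d15_1 D266 (iv D266) F963 F718 (iv F963)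
theorem F1271 : act 4 n266 = n266 := d21_2 D197 D266 (iv D266) (iv D197) F712
def n267 : Q := act 5 n197
theorem D267 : act 5 n197 = n267 := rfl
theorem F1276 : act 7 n267 = n267 := d31_2 F965 D267 (iv D267)
def n268 : Q := act 6 n198
theorem D268 : act 6 n198 = n268 := rfl
theorem F1278 : act 0 n268 = n201 := d5_1 D268 (iv D201) (iv F967)
def n269 : Q := act 5 n199
theorem D269 : act 5 n199 = n269 := rfl
theorem F1284 : act 1 n269 = n269 := d11_1 D269 (iv D269) F972
theorem F1285 : act 2 n269 = n269 := d17_1 D269 (iv D269) F973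
theorem F1286 : act 3 n269 = n200 := d22_1 D269 (iv D200) D199
def n271 : Q := act 6 n200
theorem D271 : act 6 n200 = n271 := rfl
theorem F1294 : act 2 n271 = n201 := d18_1 D271 (iv D201) (iv F978)
def n272 : Q := act 8 n202
theorem D272 : act 8 n202 = n272 := rfl
theorem F1298 : act 0 n272 = n213 := d7_1 D272 (iv D213) (iv F986)
theorem F1299 : act 1 n272 = n272 := d14_1 D272 (iv D272) F987
theorem F1300 : act 3 n272 = n272 := d25_1 D272 (iv D272) F988
theorem F1301 : act 4 n272 = n203 := d29_1 D272 (iv D203) D202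
theorem F1302 : act 5 n272 = n272 := d32_1 D272 (iv D272) F989
theorem F1303 : act 6 n272 = n272 := d34_1 D272 (iv D272) F990
def n273 : Q := act 7 n203
theorem D273 : act 7 n203 = n273 := rfl
theorem F1304 : act 0 n273 = n215 := d6_1 D273 (iv D215) (iv F991)
theorem F1305 : act 1 n273 = n273 := d13_1 D273 (iv D273) F992
theorem F1306 : act 5 n273 = n204 := d31_1 D273 (iv D204) (iv F994)
theorem F1307 : act 6 n273 = n273 := d33_1 D273 (iv D273) F995
def n274 : Q := act 3 n204
theorem D274 : act 3 n204 = n274 := rfl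
theorem F1308 : act 0 n274 = n217 := d2_1 D274 (iv D217) (iv F996)
theorem F1309 : act 1 n274 = n274 := d9_1 D274 (iv D274) F997
theorem F1310 : act 6 n274 = n240 := d23_2 (iv F999) D274 (iv D240)
theorem F1311 : act 7 n274 = n206 := d24_2 D204 D274 (iv D206) (iv D151) (iv F743)
def n275 : Q := act 3 n205
theorem D275 : act 3 n205 = n275 := rfl
theorem F1312 : act 0 n275 = n218 := d2_1 D275 (iv D218) (iv F1000)
theorem F1313 : act 1 n275 = n275 := d9_1 D275 (iv D275) F1001
theorem F1314 : act 5 n275 = n206 := d22_2 (iv F1004) D275 (iv D206)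
theorem F1315 : act 6 n275 = n275 := d23_2 F1005 D275 (iv D275)
theorem F1316 : act 8 n275 = n275 := d25_2 F1006 D275 (iv D275)
def n276 : Q := act 2 n206
theorem D276 : act 2 n206 = n276 := rfl
theorem F1317 : act 0 n276 = n219 := d1_1 D276 (iv D219) (iv F1007)
theorem F1318 : act 3 n276 = n276 := d15_2 D206 D276 (iv D276) (iv D206) F754
theorem F1319 : act 6 n276 = n241 := d18_2 (iv F1009) D276 (iv D241)
theorem F1320 : act 8 n276 = n276 := d20_2 F1010 D276 (iv D276)
def n277 : Q := act 4 n206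
theorem D277 : act 4 n206 = n277 := rfl
theorem F1321 : act 0 n277 = n220 := d3_1 D277 (iv D220) (iv F1007)
theorem F1322 : act 1 n277 = n277 := d10_1 D277 (iv D277) F1008
theorem F1323 : act 3 n277 = n208 := d21_1 D277 (iv D208) (iv D152) (iv F755) D206
theorem F1324 : act 6 n277 = n242 := d27_2 (iv F1009) D277 (iv D242)
theorem F1325 : act 8 n277 = n277 := d29_2 F1010 D277 (iv D277)
def n279 : Q := act 4 n207
theorem D279 : act 4 n207 = n279 := rfl
theorem F1333 : act 0 n279 = n221 := d3_1 D279 (iv D221) (iv F1011)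
theorem F1334 : act 2 n279 = n208 := d16_1 D279 (iv D208) D207
def n280 : Q := act 5 n208
theorem D280 : act 5 n208 = n280 := rfl
theorem F1338 : act 0 n280 = n222 := d4_1 D280 (iv D222) (iv F1017)
theorem F1339 : act 1 n280 = n280 := d11_1 D280 (iv D280) F1018
theorem F1340 : act 4 n280 = n280 := d26_1 D280 (iv D280) (iv D208) F760 D208
theorem F1341 : act 7 n280 = n280 := d31_2 F1020 D280 (iv D280)
theorem F1342 : act 8 n280 = n280 := d32_2 F1021 D280 (iv D280)
def n281 : Q := act 3 n209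
theorem D281 : act 3 n209 = n281 := rfl
theorem F1343 : act 1 n281 = n281 := d9_1 D281 (iv D281) F1022
theorem F1344 : act 2 n281 = n281 := d15_1 D281 (iv D281) F1023 F775 (iv F1023)
theorem F1345 : act 4 n281 = n281 := d21_2 D209 D281 (iv D281) (iv D209) F766
theorem F1346 : act 5 n281 = n281 := d22_2 F1024 D281 (iv D281)
theorem F1347 : act 6 n281 = n281 := d23_2 F1025 D281 (iv D281)
theorem F1348 : act 7 n281 = n281 := d24_2 (iv F1026) D281 (iv D281) F1026 F988
def n282 : Q := act 8 n209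
theorem D282 : act 8 n209 = n282 := rfl
theorem F1349 : act 1 n282 = n282 := d14_1 D282 (iv D282) F1022
theorem F1350 : act 2 n282 = n213 := d20_1 D282 (iv D213) (iv F1023)
theorem F1351 : act 4 n282 = n210 := d29_1 D282 (iv D210) D209
theorem F1352 : act 5 n282 = n282 := d32_1 D282 (iv D282) F1024
theorem F1353 : act 6 n282 = n282 := d34_1 D282 (iv D282) F1025
def n283 : Q := act 7 n210
theorem D283 : act 7 n210 = n283 := rfl
theorem F1354 : act 1 n283 = n283 := d13_1 D283 (iv D283) F1027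
theorem F1355 : act 2 n283 = n215 := d19_1 D283 (iv D215) (iv F1028)
theorem F1356 : act 5 n283 = n211 := d31_1 D283 (iv D211) (iv F1030)
theorem F1357 : act 6 n283 = n283 := d33_1 D283 (iv D283) F1031
theorem F1358 : act 8 n283 = n273 := d35_2 D210 D283 (iv D273) (iv D203) (iv F768)
def n284 : Q := act 3 n211
theorem D284 : act 3 n211 = n284 := rfl
theorem F1359 : act 1 n284 = n284 := d9_1 D284 (iv D284) F1032
theorem F1360 : act 6 n284 = n246 := d23_2 (iv F1035) D284 (iv D246)
theorem F1361 : act 7 n284 = n284 := d24_2 D211 D284 (iv D284) (iv D211) F771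
theorem F1362 : act 8 n284 = n274 := d25_2 (iv F1036) D284 (iv D274)
def n285 : Q := act 3 n212
theorem D285 : act 3 n212 = n285 := rfl
theorem F1363 : act 0 n285 = n281 := d2_1 D285 (iv D281) (iv F1037)
theorem F1364 : act 1 n285 = n223 := d9_1 D285 (iv D223) (iv F1038)
theorem F1365 : act 2 n285 = n285 := d15_1 D285 (iv D285) F1039 F988 (iv F1039)
theorem F1366 : act 4 n285 = n285 := d21_2 (iv F1040) D285 (iv D285) F1040 F781
theorem F1367 : act 5 n285 = n285 := d22_2 F1041 D285 (iv D285)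
theorem F1368 : act 6 n285 = n285 := d23_2 F1042 D285 (iv D285)
theorem F1369 : act 7 n285 = n285 := d24_2 D212 D285 (iv D285) (iv D212) F775
def n286 : Q := act 8 n212
theorem D286 : act 8 n212 = n286 := rfl
theorem F1370 : act 0 n286 = n282 := d7_1 D286 (iv D282) (iv F1037)
theorem F1371 : act 1 n286 = n224 := d14_1 D286 (iv D224) (iv F1038)
theorem F1372 : act 2 n286 = n272 := d20_1 D286 (iv D272) (iv F1039)
theorem F1373 : act 4 n286 = n214 := d29_1 D286 (iv D214) (iv F1040)
theorem F1374 : act 5 n286 = n286 := d32_1 D286 (iv D286) F1041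
theorem F1375 : act 6 n286 = n286 := d34_1 D286 (iv D286) F1042
def n287 : Q := act 7 n213
theorem D287 : act 7 n213 = n287 := rfl
theorem F1376 : act 1 n287 = n225 := d13_1 D287 (iv D225) (iv F1043)
theorem F1377 : act 4 n287 = n215 := d28_1 D287 (iv D215) (iv F1045)
theorem F1378 : act 5 n287 = n287 := d31_1 D287 (iv D287) F1046
theorem F1379 : act 6 n287 = n287 := d33_1 D287 (iv D287) F1047
def n288 : Q := act 7 n214
theorem D288 : act 7 n214 = n288 := rfl
theorem F1380 : act 0 n288 = n283 := d6_1 D288 (iv D283) (iv F1048)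
theorem F1381 : act 1 n288 = n226 := d13_1 D288 (iv D226) (iv F1049)
theorem F1382 : act 2 n288 = n273 := d19_1 D288 (iv D273) (iv F1050)
theorem F1383 : act 5 n288 = n216 := d31_1 D288 (iv D216) (iv F1052)
theorem F1384 : act 6 n288 = n288 := d33_1 D288 (iv D288) F1053
theorem F1385 : act 8 n288 = n215 := d35_2 D214 D288 (iv D215) (iv D157) D156
def n289 : Q := act 3 n215
theorem D289 : act 3 n215 = n289 := rfl
theorem F1386 : act 1 n289 = n227 := d9_1 D289 (iv D227) (iv F1054)
theorem F1387 : act 5 n289 = n217 := d22_2 (iv F1055) D289 (iv D217)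
theorem F1388 : act 6 n289 = n289 := d23_2 F1056 D289 (iv D289)
theorem F1389 : act 7 n289 = n218 := d24_2 D215 D289 (iv D218) (iv D160) (iv F785)
def n290 : Q := act 3 n216
theorem D290 : act 3 n216 = n290 := rfl
theorem F1390 : act 0 n290 = n284 := d2_1 D290 (iv D284) (iv F1057)
theorem F1391 : act 1 n290 = n228 := d9_1 D290 (iv D228) (iv F1058)
theorem F1392 : act 6 n290 = n247 := d23_2 (iv F1061) D290 (iv D247)
theorem F1393 : act 7 n290 = n290 := d24_2 D216 D290 (iv D290) (iv D216) F791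
theorem F1394 : act 8 n290 = n217 := d25_2 (iv F1062) D290 (iv D217)
def n291 : Q := act 2 n217
theorem D291 : act 2 n217 = n291 := rfl
theorem F1395 : act 6 n291 = n248 := d18_2 (iv F1064) D291 (iv D248)
theorem F1396 : act 7 n291 = n219 := d19_2 (iv F1065) D291 (iv D219)
def n292 : Q := act 4 n217
theorem D292 : act 4 n217 = n292 := rfl
theorem F1397 : act 1 n292 = n230 := d10_1 D292 (iv D230) (iv F1063)
theorem F1398 : act 3 n292 = n292 := d21_1 D292 (iv D292) (iv D217) F795 D217
theorem F1399 : act 6 n292 = n249 := d27_2 (iv F1064) D292 (iv D249)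
theorem F1400 : act 7 n292 = n220 := d28_2 (iv F1065) D292 (iv D220)
def n293 : Q := act 2 n218
theorem D293 : act 2 n218 = n293 := rfl
theorem F1401 : act 3 n293 = n293 := d15_2 D218 D293 (iv D293) (iv D218) F798
theorem F1402 : act 5 n293 = n219 := d17_2 (iv F1067) D293 (iv D219)
theorem F1403 : act 6 n293 = n293 := d18_2 F1068 D293 (iv D293)
theorem F1404 : act 8 n293 = n293 := d20_2 F1069 D293 (iv D293)
def n294 : Q := act 4 n218
theorem D294 : act 4 n218 = n294 := rfl
theorem F1405 : act 1 n294 = n232 := d10_1 D294 (iv D232) (iv F1066)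
theorem F1406 : act 3 n294 = n294 := d21_1 D294 (iv D294) (iv D218) F799 D218
theorem F1407 : act 6 n294 = n294 := d27_2 F1068 D294 (iv D294)
theorem F1408 : act 8 n294 = n294 := d29_2 F1069 D294 (iv D294)
def n295 : Q := act 1 n219
theorem D295 : act 1 n219 = n295 := rfl
theorem F1409 : act 2 n295 = n233 := d8_2 D219 D295 (iv D233) (iv D171) (iv F803)
theorem F1410 : act 3 n295 = n295 := d9_2 F1070 D295 (iv D295)
theorem F1411 : act 6 n295 = n250 := d12_2 (iv F1071) D295 (iv D250)
theorem F1412 : act 8 n295 = n295 := d14_2 F1072 D295 (iv D295)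
def n296 : Q := act 4 n219
theorem D296 : act 4 n219 = n296 := rfl
theorem F1413 : act 2 n296 = n220 := d16_1 D296 (iv D220) D219
theorem F1414 : act 6 n296 = n251 := d27_2 (iv F1071) D296 (iv D251)
theorem F1415 : act 8 n296 = n296 := d29_2 F1072 D296 (iv D296)
def n297 : Q := act 5 n220
theorem D297 : act 5 n220 = n297 := rfl
theorem F1416 : act 1 n297 = n235 := d11_1 D297 (iv D235) (iv F1073)
theorem F1417 : act 3 n297 = n222 := d22_1 D297 (iv D222) (iv F1074)
theorem F1418 : act 8 n297 = n297 := d32_2 F1076 D297 (iv D297)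
def n298 : Q := act 3 n221
theorem D298 : act 3 n221 = n298 := rfl
theorem F1419 : act 1 n298 = n298 := d9_1 D298 (iv D298) F1077
theorem F1420 : act 4 n298 = n298 := d21_2 D221 D298 (iv D298) (iv D221) F807
theorem F1421 : act 6 n298 = n253 := d23_2 (iv F1079) D298 (iv D253)
theorem F1422 : act 8 n298 = n298 := d25_2 F1081 D298 (iv D298)
def n299 : Q := act 5 n221
theorem D299 : act 5 n221 = n299 := rfl
theorem F1423 : act 1 n299 = n299 := d11_1 D299 (iv D299) F1077
theorem F1424 : act 2 n299 = n222 := d17_1 D299 (iv D222) (iv F1078)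
theorem F1425 : act 4 n299 = n299 := d26_1 D299 (iv D299) (iv D221) F808 D221
theorem F1426 : act 7 n299 = n299 := d31_2 F1080 D299 (iv D299)
theorem F1427 : act 8 n299 = n299 := d32_2 F1081 D299 (iv D299)
def n300 : Q := act 6 n222
theorem D300 : act 6 n222 = n300 := rfl
theorem F1428 : act 1 n300 = n236 := d12_1 D300 (iv D236) (iv F1082)
theorem F1429 : act 4 n300 = n300 := d27_1 D300 (iv D300) F1083
theorem F1430 : act 5 n300 = n255 := d30_1 D300 (iv D255) (iv D187) (iv F813) D222
theorem F1431 : act 7 n300 = n300 := d33_2 F1084 D300 (iv D300)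
theorem F1432 : act 8 n300 = n300 := d34_2 F1085 D300 (iv D300)
def n301 : Q := act 2 n223
theorem D301 : act 2 n223 = n301 := rfl
theorem F1433 : act 0 n301 = n301 := d1_1 D301 (iv D301) F1086
theorem F1434 : act 1 n301 = n301 := d8_1 D301 (iv D301) (iv F1364) F1365 F1364
theorem F1435 : act 3 n301 = n301 := d15_2 D223 D301 (iv D301) (iv D223) F817
theorem F1436 : act 4 n301 = n301 := d16_2 F1087 D301 (iv D301)
theorem F1437 : act 5 n301 = n301 := d17_2 F1088 D301 (iv D301)
theorem F1438 : act 6 n301 = n301 := d18_2 F1089 D301 (iv D301)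
theorem F1439 : act 7 n301 = n301 := d19_2 F1090 D301 (iv D301)
def n302 : Q := act 8 n223
theorem D302 : act 8 n223 = n302 := rfl
theorem F1440 : act 0 n302 = n302 := d7_1 D302 (iv D302) F1086
theorem F1441 : act 3 n302 = n224 := d25_1 D302 (iv D224) D223
theorem F1442 : act 4 n302 = n302 := d29_1 D302 (iv D302) F1087
theorem F1443 : act 5 n302 = n302 := d32_1 D302 (iv D302) F1088
theorem F1444 : act 6 n302 = n302 := d34_1 D302 (iv D302) F1089
def n303 : Q := act 7 n224
theorem D303 : act 7 n224 = n303 := rfl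
theorem F1445 : act 0 n303 = n303 := d6_1 D303 (iv D303) F1091
theorem F1446 : act 2 n303 = n303 := d19_1 D303 (iv D303) F1092
theorem F1447 : act 4 n303 = n226 := d28_1 D303 (iv D226) (iv F1093)
theorem F1448 : act 5 n303 = n303 := d31_1 D303 (iv D303) F1094
theorem F1449 : act 6 n303 = n303 := d33_1 D303 (iv D303) F1095
theorem F1450 : act 8 n303 = n225 := d35_2 D224 D303 (iv D225) (iv D165) D164
def n304 : Q := act 3 n225
theorem D304 : act 3 n225 = n304 := rfl
theorem F1451 : act 0 n304 = n304 := d2_1 D304 (iv D304) F1096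
theorem F1452 : act 5 n304 = n304 := d22_2 F1099 D304 (iv D304)
theorem F1453 : act 6 n304 = n304 := d23_2 F1100 D304 (iv D304)
theorem F1454 : act 7 n304 = n304 := d24_2 D225 D304 (iv D304) (iv D225) F823
def n305 : Q := act 3 n226
theorem D305 : act 3 n226 = n305 := rfl
theorem F1455 : act 0 n305 = n305 := d2_1 D305 (iv D305) F1101
theorem F1456 : act 5 n305 = n228 := d22_2 (iv F1103) D305 (iv D228)
theorem F1457 : act 6 n305 = n305 := d23_2 F1104 D305 (iv D305)
theorem F1458 : act 7 n305 = n305 := d24_2 D226 D305 (iv D305) (iv D226) F829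
theorem F1459 : act 8 n305 = n227 := d25_2 (iv F1105) D305 (iv D227)
def n306 : Q := act 2 n227
theorem D306 : act 2 n227 = n306 := rfl
theorem F1460 : act 0 n306 = n306 := d1_1 D306 (iv D306) F1106
theorem F1461 : act 3 n306 = n306 := d15_2 D227 D306 (iv D306) (iv D227) F833
theorem F1462 : act 5 n306 = n229 := d17_2 (iv F1107) D306 (iv D229)
theorem F1463 : act 6 n306 = n306 := d18_2 F1108 D306 (iv D306)
theorem F1464 : act 7 n306 = n231 := d19_2 (iv F1109) D306 (iv D231)
def n307 : Q := act 4 n227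
theorem D307 : act 4 n227 = n307 := rfl
theorem F1465 : act 0 n307 = n307 := d3_1 D307 (iv D307) F1106
theorem F1466 : act 6 n307 = n307 := d27_2 F1108 D307 (iv D307)
theorem F1467 : act 7 n307 = n232 := d28_2 (iv F1109) D307 (iv D232)
def n308 : Q := act 2 n228
theorem D308 : act 2 n228 = n308 := rfl
theorem F1468 : act 0 n308 = n308 := d1_1 D308 (iv D308) F1110
theorem F1469 : act 3 n308 = n308 := d15_2 D228 D308 (iv D308) (iv D228) F837
theorem F1470 : act 6 n308 = n256 := d18_2 (iv F1111) D308 (iv D256)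
theorem F1471 : act 7 n308 = n308 := d19_2 F1112 D308 (iv D308)
theorem F1472 : act 8 n308 = n229 := d20_2 (iv F1113) D308 (iv D229)
def n309 : Q := act 4 n228
theorem D309 : act 4 n228 = n309 := rfl
theorem F1473 : act 0 n309 = n309 := d3_1 D309 (iv D309) F1110
theorem F1474 : act 3 n309 = n309 := d21_1 D309 (iv D309) (iv D228) F838 D228
theorem F1475 : act 6 n309 = n257 := d27_2 (iv F1111) D309 (iv D257)
theorem F1476 : act 7 n309 = n309 := d28_2 F1112 D309 (iv D309)
theorem F1477 : act 8 n309 = n230 := d29_2 (iv F1113) D309 (iv D230)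
def n310 : Q := act 1 n229
theorem D310 : act 1 n229 = n310 := rfl
theorem F1478 : act 3 n310 = n310 := d9_2 F1115 D310 (iv D310)
theorem F1479 : act 6 n310 = n258 := d12_2 (iv F1116) D310 (iv D258)
theorem F1480 : act 7 n310 = n233 := d13_2 (iv F1117) D310 (iv D233)
def n311 : Q := act 4 n229
theorem D311 : act 4 n229 = n311 := rfl
theorem F1481 : act 0 n311 = n311 := d3_1 D311 (iv D311) F1114
theorem F1482 : act 2 n311 = n230 := d16_1 D311 (iv D230) D229
theorem F1483 : act 6 n311 = n259 := d27_2 (iv F1116) D311 (iv D259)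
theorem F1484 : act 7 n311 = n234 := d28_2 (iv F1117) D311 (iv D234)
def n312 : Q := act 5 n230
theorem D312 : act 5 n230 = n312 := rfl
theorem F1485 : act 0 n312 = n312 := d4_1 D312 (iv D312) F1118
theorem F1486 : act 3 n312 = n312 := d22_1 D312 (iv D312) F1119
theorem F1487 : act 7 n312 = n235 := d31_2 (iv F1121) D312 (iv D235)
def n313 : Q := act 1 n231
theorem D313 : act 1 n231 = n313 := rfl
theorem F1488 : act 3 n313 = n237 := d9_2 (iv F1123) D313 (iv D237)
theorem F1489 : act 5 n313 = n233 := d11_2 (iv F1124) D313 (iv D233)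
theorem F1490 : act 6 n313 = n313 := d12_2 F1125 D313 (iv D313)
theorem F1491 : act 8 n313 = n313 := d14_2 F1126 D313 (iv D313)
def n314 : Q := act 4 n231
theorem D314 : act 4 n231 = n314 := rfl
theorem F1492 : act 0 n314 = n314 := d3_1 D314 (iv D314) F1122
theorem F1493 : act 2 n314 = n232 := d16_1 D314 (iv D232) D231
theorem F1494 : act 6 n314 = n314 := d27_2 F1125 D314 (iv D314)
theorem F1495 : act 8 n314 = n314 := d29_2 F1126 D314 (iv D314)
def n315 : Q := act 5 n232
theorem D315 : act 5 n232 = n315 := rfl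
theorem F1496 : act 0 n315 = n315 := d4_1 D315 (iv D315) F1127
theorem F1497 : act 3 n315 = n315 := d22_1 D315 (iv D315) F1128
theorem F1498 : act 4 n315 = n235 := d26_1 D315 (iv D235) (iv D172) (iv F845) D232
theorem F1499 : act 8 n315 = n315 := d32_2 F1130 D315 (iv D315)
def n316 : Q := act 0 n233
theorem D316 : act 0 n233 = n316 := rfl
theorem F1500 : act 1 n316 = n316 := d0_2 D233 D316 (iv D316) (iv D233) F848
theorem F1501 : act 3 n316 = n239 := d2_2 (iv F1131) D316 (iv D239)
theorem F1502 : act 6 n316 = n261 := d5_2 (iv F1132) D316 (iv D261)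
theorem F1503 : act 8 n316 = n316 := d7_2 F1133 D316 (iv D316)
def n317 : Q := act 4 n233
theorem D317 : act 4 n233 = n317 := rfl
theorem F1504 : act 1 n317 = n234 := d10_1 D317 (iv D234) D233
theorem F1505 : act 3 n317 = n317 := d21_1 D317 (iv D317) F1131 F874 (iv F1131)
theorem F1506 : act 6 n317 = n262 := d27_2 (iv F1132) D317 (iv D262)
theorem F1507 : act 8 n317 = n317 := d29_2 F1133 D317 (iv D317)
def n318 : Q := act 5 n234
theorem D318 : act 5 n234 = n318 := rfl
theorem F1508 : act 0 n318 = n318 := d4_1 D318 (iv D318) F1134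
theorem F1509 : act 2 n318 = n235 := d17_1 D318 (iv D235) (iv F1135)
theorem F1510 : act 3 n318 = n318 := d22_1 D318 (iv D318) F1136
theorem F1511 : act 8 n318 = n318 := d32_2 F1138 D318 (iv D318)
def n319 : Q := act 6 n235
theorem D319 : act 6 n235 = n319 := rfl
theorem F1512 : act 0 n319 = n319 := d5_1 D319 (iv D319) F1139
theorem F1513 : act 3 n319 = n236 := d23_1 D319 (iv D236) (iv F1140)
theorem F1514 : act 5 n319 = n264 := d30_1 D319 (iv D264) (iv D193) (iv F854) D235
theorem F1515 : act 8 n319 = n319 := d34_2 F1141 D319 (iv D319)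
def n320 : Q := act 0 n237
theorem D320 : act 0 n237 = n320 := rfl
theorem F1516 : act 1 n320 = n320 := d0_2 D237 D320 (iv D320) (iv D237) F861
theorem F1517 : act 2 n320 = n320 := d1_2 F1148 D320 (iv D320)
theorem F1518 : act 5 n320 = n239 := d4_2 (iv F1149) D320 (iv D239)
theorem F1519 : act 6 n320 = n320 := d5_2 F1150 D320 (iv D320)
theorem F1520 : act 7 n320 = n320 := d6_2 F1151 D320 (iv D320)
theorem F1521 : act 8 n320 = n320 := d7_2 F1152 D320 (iv D320)
def n321 : Q := act 4 n237
theorem D321 : act 4 n237 = n321 := rfl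
theorem F1522 : act 1 n321 = n238 := d10_1 D321 (iv D238) D237
theorem F1523 : act 2 n321 = n321 := d16_1 D321 (iv D321) F1148
theorem F1524 : act 5 n321 = n321 := d26_2 (iv F1149) D321 (iv D321) F1149 F874
theorem F1525 : act 6 n321 = n321 := d27_2 F1150 D321 (iv D321)
theorem F1526 : act 7 n321 = n321 := d28_2 F1151 D321 (iv D321)
theorem F1527 : act 8 n321 = n321 := d29_2 F1152 D321 (iv D321)
def n322 : Q := act 3 n238
theorem D322 : act 3 n238 = n322 := rfl
theorem F1528 : act 0 n322 = n322 := d2_1 D322 (iv D322) F1153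
theorem F1529 : act 2 n322 = n322 := d15_1 D322 (iv D322) F1154 F868 (iv F1154)
theorem F1530 : act 5 n322 = n322 := d22_2 F1155 D322 (iv D322)
theorem F1531 : act 6 n322 = n322 := d23_2 F1156 D322 (iv D322)
theorem F1532 : act 8 n322 = n322 := d25_2 F1158 D322 (iv D322)
def n323 : Q := act 2 n240
theorem D323 : act 2 n240 = n323 := rfl
theorem F1533 : act 0 n323 = n248 := d1_1 D323 (iv D248) (iv F1165)
theorem F1534 : act 5 n323 = n323 := d17_2 F1167 D323 (iv D323)
theorem F1535 : act 7 n323 = n241 := d19_2 (iv F1168) D323 (iv D241)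
def n324 : Q := act 4 n240
theorem D324 : act 4 n240 = n324 := rfl
theorem F1536 : act 0 n324 = n249 := d3_1 D324 (iv D249) (iv F1165)
theorem F1537 : act 1 n324 = n324 := d10_1 D324 (iv D324) F1166
theorem F1538 : act 3 n324 = n324 := d21_1 D324 (iv D324) (iv D240) F880 D240
theorem F1539 : act 7 n324 = n242 := d28_2 (iv F1168) D324 (iv D242)
def n325 : Q := act 1 n241
theorem D325 : act 1 n241 = n325 := rfl
theorem F1540 : act 2 n325 = n325 := d8_2 D241 D325 (iv D325) (iv D241) F883
theorem F1541 : act 3 n325 = n325 := d9_2 F1170 D325 (iv D325)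
theorem F1542 : act 5 n325 = n325 := d11_2 F1171 D325 (iv D325)
theorem F1543 : act 8 n325 = n325 := d14_2 F1172 D325 (iv D325)
def n326 : Q := act 4 n241
theorem D326 : act 4 n241 = n326 := rfl
theorem F1544 : act 0 n326 = n251 := d3_1 D326 (iv D251) (iv F1169)
theorem F1545 : act 2 n326 = n242 := d16_1 D326 (iv D242) D241
theorem F1546 : act 8 n326 = n326 := d29_2 F1172 D326 (iv D326)
def n327 : Q := act 5 n242
theorem D327 : act 5 n242 = n327 := rfl
theorem F1547 : act 0 n327 = n252 := d4_1 D327 (iv D252) (iv F1173)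
theorem F1549 : act 3 n327 = n245 := d22_1 D327 (iv D245) (iv F1175)
def n328 : Q := act 4 n243
theorem D328 : act 4 n243 = n328 := rfl
theorem F1552 : act 0 n328 = n328 := d3_1 D328 (iv D328) F1177
theorem F1553 : act 1 n328 = n244 := d10_1 D328 (iv D244) D243
theorem F1554 : act 2 n328 = n328 := d16_1 D328 (iv D328) F1178
def n329 : Q := act 3 n244
theorem D329 : act 3 n244 = n329 := rfl
theorem F1557 : act 0 n329 = n253 := d2_1 D329 (iv D253) (iv F1183)
def n331 : Q := act 6 n245
theorem D331 : act 6 n245 = n331 := rfl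
theorem F1565 : act 0 n331 = n255 := d5_1 D331 (iv D255) (iv F1187)
theorem F1567 : act 4 n331 = n268 := d27_1 D331 (iv D268) (iv F1189)
def n332 : Q := act 2 n246
theorem D332 : act 2 n246 = n332 := rfl
theorem F1570 : act 3 n332 = n248 := d15_2 D246 D332 (iv D248) (iv D183) (iv F896)
theorem F1571 : act 5 n332 = n332 := d17_2 F1193 D332 (iv D332)
theorem F1572 : act 7 n332 = n332 := d19_2 F1194 D332 (iv D332)
theorem F1573 : act 8 n332 = n323 := d20_2 (iv F1195) D332 (iv D323)
def n333 : Q := act 4 n246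
theorem D333 : act 4 n246 = n333 := rfl
theorem F1574 : act 1 n333 = n333 := d10_1 D333 (iv D333) F1192
theorem F1575 : act 3 n333 = n333 := d21_1 D333 (iv D333) (iv D246) F897 D246
theorem F1576 : act 7 n333 = n333 := d28_2 F1194 D333 (iv D333)
theorem F1577 : act 8 n333 = n324 := d29_2 (iv F1195) D333 (iv D324)
def n334 : Q := act 2 n247
theorem D334 : act 2 n247 = n334 := rfl
theorem F1578 : act 0 n334 = n332 := d1_1 D334 (iv D332) (iv F1196)
theorem F1579 : act 3 n334 = n323 := d15_2 D247 D334 (iv D323) (iv D240) (iv F902)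
theorem F1580 : act 5 n334 = n334 := d17_2 F1198 D334 (iv D334)
theorem F1581 : act 7 n334 = n334 := d19_2 F1199 D334 (iv D334)
theorem F1582 : act 8 n334 = n248 := d20_2 (iv F1200) D334 (iv D248)
def n335 : Q := act 4 n247
theorem D335 : act 4 n247 = n335 := rfl
theorem F1583 : act 0 n335 = n333 := d3_1 D335 (iv D333) (iv F1196)
theorem F1584 : act 1 n335 = n257 := d10_1 D335 (iv D257) (iv F1197)
theorem F1585 : act 3 n335 = n335 := d21_1 D335 (iv D335) (iv D247) F903 D247
theorem F1586 : act 7 n335 = n335 := d28_2 F1199 D335 (iv D335)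
theorem F1587 : act 8 n335 = n249 := d29_2 (iv F1200) D335 (iv D249)
def n336 : Q := act 1 n248
theorem D336 : act 1 n248 = n336 := rfl
theorem F1588 : act 2 n336 = n258 := d8_2 D248 D336 (iv D258) (iv D189) (iv F906)
theorem F1589 : act 5 n336 = n336 := d11_2 F1201 D336 (iv D336)
theorem F1590 : act 7 n336 = n250 := d13_2 (iv F1202) D336 (iv D250)
def n337 : Q := act 4 n248
theorem D337 : act 4 n248 = n337 := rfl
theorem F1591 : act 2 n337 = n249 := d16_1 D337 (iv D249) D248
theorem F1592 : act 7 n337 = n251 := d28_2 (iv F1202) D337 (iv D251)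
def n338 : Q := act 5 n249
theorem D338 : act 5 n249 = n338 := rfl
theorem F1593 : act 1 n338 = n260 := d11_1 D338 (iv D260) (iv F1203)
theorem F1594 : act 3 n338 = n338 := d22_1 D338 (iv D338) F1204
theorem F1595 : act 4 n338 = n338 := d26_1 D338 (iv D338) (iv D249) F907 D249
theorem F1596 : act 7 n338 = n252 := d31_2 (iv F1205) D338 (iv D252)
def n339 : Q := act 0 n250
theorem D339 : act 0 n250 = n339 := rfl
theorem F1597 : act 2 n339 = n261 := d1_2 (iv F1206) D339 (iv D261)
theorem F1598 : act 3 n339 = n339 := d2_2 F1207 D339 (iv D339)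
theorem F1599 : act 5 n339 = n339 := d4_2 F1208 D339 (iv D339)
theorem F1600 : act 8 n339 = n339 := d7_2 F1209 D339 (iv D339)
def n340 : Q := act 4 n250
theorem D340 : act 4 n250 = n340 := rfl
theorem F1601 : act 1 n340 = n251 := d10_1 D340 (iv D251) D250
theorem F1602 : act 2 n340 = n262 := d16_1 D340 (iv D262) (iv F1206)
theorem F1603 : act 8 n340 = n340 := d29_2 F1209 D340 (iv D340)
def n341 : Q := act 3 n251
theorem D341 : act 3 n251 = n341 := rfl
theorem F1604 : act 2 n341 = n253 := d15_1 D341 (iv D253) F916 (iv F913) (iv F1210)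
theorem F1605 : act 4 n341 = n341 := d21_2 D251 D341 (iv D341) (iv D251) F909
theorem F1606 : act 8 n341 = n341 := d25_2 F1211 D341 (iv D341)
def n342 : Q := act 5 n251
theorem D342 : act 5 n251 = n342 := rfl
theorem F1607 : act 2 n342 = n252 := d17_1 D342 (iv D252) (iv F1210)
theorem F1608 : act 4 n342 = n342 := d26_1 D342 (iv D342) (iv D251) F910 D251
theorem F1609 : act 8 n342 = n342 := d32_2 F1211 D342 (iv D342)
def n343 : Q := act 6 n252
theorem D343 : act 6 n252 = n343 := rfl
theorem F1610 : act 1 n343 = n264 := d12_1 D343 (iv D264) (iv F1212)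
theorem F1611 : act 3 n343 = n255 := d23_1 D343 (iv D255) (iv F1213)
theorem F1612 : act 4 n343 = n343 := d27_1 D343 (iv D343) F1214
theorem F1613 : act 8 n343 = n343 := d34_2 F1215 D343 (iv D343)
def n344 : Q := act 5 n253
theorem D344 : act 5 n253 = n344 := rfl
theorem F1615 : act 3 n344 = n254 := d22_1 D344 (iv D254) D253
def n345 : Q := act 7 n253
theorem D345 : act 7 n253 = n345 := rfl
theorem F1617 : act 1 n345 = n345 := d13_1 D345 (iv D345) F1216
theorem F1618 : act 3 n345 = n345 := d24_1 D345 (iv D345) (iv D253) F917 D253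
theorem F1619 : act 4 n345 = n345 := d28_1 D345 (iv D345) F1217
def n346 : Q := act 6 n254
theorem D346 : act 6 n254 = n346 := rfl
theorem F1621 : act 2 n346 = n255 := d18_1 D346 (iv D255) (iv F1220)
def n347 : Q := act 1 n256
theorem D347 : act 1 n256 = n347 := rfl
theorem F1625 : act 3 n347 = n347 := d9_2 F1229 D347 (iv D347)
theorem F1626 : act 5 n347 = n347 := d11_2 F1230 D347 (iv D347)
theorem F1627 : act 7 n347 = n347 := d13_2 F1231 D347 (iv D347)
theorem F1628 : act 8 n347 = n258 := d14_2 (iv F1232) D347 (iv D258)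
def n348 : Q := act 4 n256
theorem D348 : act 4 n256 = n348 := rfl
theorem F1629 : act 0 n348 = n348 := d3_1 D348 (iv D348) F1228
theorem F1630 : act 2 n348 = n257 := d16_1 D348 (iv D257) D256
theorem F1631 : act 7 n348 = n348 := d28_2 F1231 D348 (iv D348)
theorem F1632 : act 8 n348 = n259 := d29_2 (iv F1232) D348 (iv D259)
def n349 : Q := act 5 n257
theorem D349 : act 5 n257 = n349 := rfl
theorem F1633 : act 0 n349 = n349 := d4_1 D349 (iv D349) F1233
theorem F1634 : act 3 n349 = n349 := d22_1 D349 (iv D349) F1234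
theorem F1635 : act 4 n349 = n349 := d26_1 D349 (iv D349) (iv D257) F924 D257
theorem F1636 : act 7 n349 = n349 := d31_2 F1235 D349 (iv D349)
theorem F1637 : act 8 n349 = n260 := d32_2 (iv F1236) D349 (iv D260)
def n350 : Q := act 0 n258
theorem D350 : act 0 n258 = n350 := rfl
theorem F1638 : act 1 n350 = n350 := d0_2 D258 D350 (iv D350) (iv D258) F927
theorem F1639 : act 3 n350 = n350 := d2_2 F1237 D350 (iv D350)
theorem F1640 : act 5 n350 = n350 := d4_2 F1238 D350 (iv D350)
theorem F1641 : act 7 n350 = n261 := d6_2 (iv F1239) D350 (iv D261)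
def n351 : Q := act 4 n258
theorem D351 : act 4 n258 = n351 := rfl
theorem F1642 : act 1 n351 = n259 := d10_1 D351 (iv D259) D258
theorem F1643 : act 7 n351 = n262 := d28_2 (iv F1239) D351 (iv D262)
def n352 : Q := act 3 n259
theorem D352 : act 3 n259 = n352 := rfl
theorem F1644 : act 0 n352 = n352 := d2_1 D352 (iv D352) F1240
theorem F1645 : act 2 n352 = n352 := d15_1 D352 (iv D352) F1241 F932 (iv F1241)
theorem F1646 : act 4 n352 = n352 := d21_2 D259 D352 (iv D352) (iv D259) F928
theorem F1647 : act 7 n352 = n352 := d24_2 (iv F1242) D352 (iv D352) F1242 F939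
def n353 : Q := act 5 n259
theorem D353 : act 5 n259 = n353 := rfl
theorem F1648 : act 0 n353 = n353 := d4_1 D353 (iv D353) F1240
theorem F1649 : act 2 n353 = n260 := d17_1 D353 (iv D260) (iv F1241)
theorem F1650 : act 4 n353 = n353 := d26_1 D353 (iv D353) (iv D259) F929 D259
theorem F1651 : act 7 n353 = n263 := d31_2 (iv F1242) D353 (iv D263)
def n354 : Q := act 6 n260
theorem D354 : act 6 n260 = n354 := rfl
theorem F1652 : act 0 n354 = n354 := d5_1 D354 (iv D354) F1243
theorem F1653 : act 3 n354 = n354 := d23_1 D354 (iv D354) F1244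
theorem F1654 : act 4 n354 = n354 := d27_1 D354 (iv D354) F1245
theorem F1655 : act 7 n354 = n264 := d33_2 (iv F1246) D354 (iv D264)
def n355 : Q := act 4 n261
theorem D355 : act 4 n261 = n355 := rfl
theorem F1656 : act 0 n355 = n262 := d3_1 D355 (iv D262) D261
theorem F1657 : act 1 n355 = n355 := d10_1 D355 (iv D355) F1247
theorem F1658 : act 3 n355 = n355 := d21_1 D355 (iv D355) F1248 F952 (iv F1248)
theorem F1659 : act 8 n355 = n355 := d29_2 F1250 D355 (iv D355)
def n356 : Q := act 5 n262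
theorem D356 : act 5 n262 = n356 := rfl
theorem F1660 : act 1 n356 = n263 := d11_1 D356 (iv D263) (iv F1251)
theorem F1661 : act 3 n356 = n356 := d22_1 D356 (iv D356) F1252
theorem F1662 : act 4 n356 = n356 := d26_1 D356 (iv D356) (iv D262) F935 D262
theorem F1663 : act 8 n356 = n356 := d32_2 F1253 D356 (iv D356)
def n357 : Q := act 6 n263
theorem D357 : act 6 n263 = n357 := rfl
theorem F1664 : act 0 n357 = n357 := d5_1 D357 (iv D357) F1254
theorem F1665 : act 2 n357 = n264 := d18_1 D357 (iv D264) (iv F1255)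
theorem F1666 : act 3 n357 = n357 := d23_1 D357 (iv D357) F1256
theorem F1667 : act 4 n357 = n357 := d27_1 D357 (iv D357) F1257
theorem F1668 : act 8 n357 = n357 := d34_2 F1258 D357 (iv D357)
def n358 : Q := act 3 n265
theorem D358 : act 3 n265 = n358 := rfl
theorem F1669 : act 0 n358 = n358 := d2_1 D358 (iv D358) F1263
theorem F1670 : act 1 n358 = n266 := d9_1 D358 (iv D266) (iv F1264)
theorem F1671 : act 4 n358 = n358 := d21_2 D265 D358 (iv D358) (iv D265) F958
def n360 : Q := act 5 n266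
theorem D360 : act 5 n266 = n360 := rfl
theorem F1679 : act 0 n360 = n269 := d4_1 D360 (iv D269) (iv F1269)
theorem F1680 : act 2 n360 = n360 := d17_1 D360 (iv D360) F1270
theorem F1681 : act 3 n360 = n267 := d22_1 D360 (iv D267) D266
def n363 : Q := act 4 n269
theorem D363 : act 4 n269 = n363 := rfl
theorem F1693 : act 1 n363 = n363 := d10_1 D363 (iv D363) F1284
theorem F1694 : act 2 n363 = n363 := d16_1 D363 (iv D363) F1285
def n367 : Q := act 7 n272
theorem D367 : act 7 n272 = n367 := rfl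
theorem F1712 : act 0 n367 = n287 := d6_1 D367 (iv D287) (iv F1298)
theorem F1713 : act 1 n367 = n367 := d13_1 D367 (iv D367) F1299
theorem F1714 : act 4 n367 = n273 := d28_1 D367 (iv D273) (iv F1301)
theorem F1715 : act 5 n367 = n367 := d31_1 D367 (iv D367) F1302
theorem F1716 : act 6 n367 = n367 := d33_1 D367 (iv D367) F1303
def n368 : Q := act 3 n273
theorem D368 : act 3 n273 = n368 := rfl
theorem F1717 : act 0 n368 = n289 := d2_1 D368 (iv D289) (iv F1304)
theorem F1718 : act 1 n368 = n368 := d9_1 D368 (iv D368) F1305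
theorem F1719 : act 5 n368 = n274 := d22_2 (iv F1306) D368 (iv D274)
theorem F1720 : act 6 n368 = n368 := d23_2 F1307 D368 (iv D368)
theorem F1721 : act 7 n368 = n275 := d24_2 D273 D368 (iv D275) (iv D205) (iv F993)
def n369 : Q := act 2 n274
theorem D369 : act 2 n274 = n369 := rfl
theorem F1722 : act 0 n369 = n291 := d1_1 D369 (iv D291) (iv F1308)
theorem F1723 : act 6 n369 = n323 := d18_2 (iv F1310) D369 (iv D323)
theorem F1724 : act 7 n369 = n276 := d19_2 (iv F1311) D369 (iv D276)
def n370 : Q := act 4 n274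
theorem D370 : act 4 n274 = n370 := rfl
theorem F1725 : act 0 n370 = n292 := d3_1 D370 (iv D292) (iv F1308)
theorem F1726 : act 1 n370 = n370 := d10_1 D370 (iv D370) F1309
theorem F1727 : act 3 n370 = n370 := d21_1 D370 (iv D370) (iv D274) F998 D274
theorem F1728 : act 6 n370 = n324 := d27_2 (iv F1310) D370 (iv D324)
theorem F1729 : act 7 n370 = n277 := d28_2 (iv F1311) D370 (iv D277)
def n371 : Q := act 2 n275
theorem D371 : act 2 n275 = n371 := rfl
theorem F1730 : act 0 n371 = n293 := d1_1 D371 (iv D293) (iv F1312)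
theorem F1731 : act 3 n371 = n371 := d15_2 D275 D371 (iv D371) (iv D275) F1002
theorem F1732 : act 5 n371 = n276 := d17_2 (iv F1314) D371 (iv D276)
theorem F1733 : act 6 n371 = n371 := d18_2 F1315 D371 (iv D371)
theorem F1734 : act 8 n371 = n371 := d20_2 F1316 D371 (iv D371)
def n372 : Q := act 4 n275
theorem D372 : act 4 n275 = n372 := rfl
theorem F1735 : act 0 n372 = n294 := d3_1 D372 (iv D294) (iv F1312)
theorem F1736 : act 1 n372 = n372 := d10_1 D372 (iv D372) F1313
theorem F1737 : act 3 n372 = n372 := d21_1 D372 (iv D372) (iv D275) F1003 D275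
theorem F1738 : act 6 n372 = n372 := d27_2 F1315 D372 (iv D372)
theorem F1739 : act 8 n372 = n372 := d29_2 F1316 D372 (iv D372)
def n373 : Q := act 1 n276
theorem D373 : act 1 n276 = n373 := rfl
theorem F1740 : act 2 n373 = n373 := d8_2 D276 D373 (iv D373) (iv D276) F1008
theorem F1741 : act 3 n373 = n373 := d9_2 F1318 D373 (iv D373)
theorem F1742 : act 6 n373 = n325 := d12_2 (iv F1319) D373 (iv D325)
theorem F1743 : act 8 n373 = n373 := d14_2 F1320 D373 (iv D373)
def n374 : Q := act 4 n276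
theorem D374 : act 4 n276 = n374 := rfl
theorem F1744 : act 0 n374 = n296 := d3_1 D374 (iv D296) (iv F1317)
theorem F1745 : act 2 n374 = n277 := d16_1 D374 (iv D277) D276
theorem F1746 : act 6 n374 = n326 := d27_2 (iv F1319) D374 (iv D326)
theorem F1747 : act 8 n374 = n374 := d29_2 F1320 D374 (iv D374)
def n375 : Q := act 5 n277
theorem D375 : act 5 n277 = n375 := rfl
theorem F1748 : act 0 n375 = n297 := d4_1 D375 (iv D297) (iv F1321)
theorem F1749 : act 1 n375 = n375 := d11_1 D375 (iv D375) F1322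
theorem F1750 : act 3 n375 = n280 := d22_1 D375 (iv D280) (iv F1323)
theorem F1751 : act 8 n375 = n375 := d32_2 F1325 D375 (iv D375)
def n377 : Q := act 3 n279
theorem D377 : act 3 n279 = n377 := rfl
theorem F1758 : act 0 n377 = n298 := d2_1 D377 (iv D298) (iv F1333)
def n379 : Q := act 6 n280
theorem D379 : act 6 n280 = n379 := rfl
theorem F1767 : act 0 n379 = n300 := d5_1 D379 (iv D300) (iv F1338)
def n380 : Q := act 8 n281
theorem D380 : act 8 n281 = n380 := rfl
theorem F1773 : act 1 n380 = n380 := d14_1 D380 (iv D380) F1343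
theorem F1774 : act 2 n380 = n380 := d20_1 D380 (iv D380) F1344
theorem F1775 : act 3 n380 = n282 := d25_1 D380 (iv D282) D281
theorem F1776 : act 4 n380 = n380 := d29_1 D380 (iv D380) F1345
theorem F1777 : act 5 n380 = n380 := d32_1 D380 (iv D380) F1346
theorem F1778 : act 6 n380 = n380 := d34_1 D380 (iv D380) F1347
def n381 : Q := act 7 n282
theorem D381 : act 7 n282 = n381 := rfl
theorem F1779 : act 1 n381 = n381 := d13_1 D381 (iv D381) F1349
theorem F1780 : act 2 n381 = n287 := d19_1 D381 (iv D287) (iv F1350)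
theorem F1781 : act 4 n381 = n283 := d28_1 D381 (iv D283) (iv F1351)
theorem F1782 : act 5 n381 = n381 := d31_1 D381 (iv D381) F1352
theorem F1783 : act 6 n381 = n381 := d33_1 D381 (iv D381) F1353
theorem F1784 : act 8 n381 = n367 := d35_2 D282 D381 (iv D367) (iv D272) (iv F1026)
def n382 : Q := act 3 n283
theorem D382 : act 3 n283 = n382 := rfl
theorem F1785 : act 1 n382 = n382 := d9_1 D382 (iv D382) F1354
theorem F1786 : act 5 n382 = n284 := d22_2 (iv F1356) D382 (iv D284)
theorem F1787 : act 6 n382 = n382 := d23_2 F1357 D382 (iv D382)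
theorem F1788 : act 7 n382 = n382 := d24_2 D283 D382 (iv D382) (iv D283) F1029
theorem F1789 : act 8 n382 = n368 := d25_2 (iv F1358) D382 (iv D368)
def n383 : Q := act 2 n284
theorem D383 : act 2 n284 = n383 := rfl
theorem F1790 : act 3 n383 = n291 := d15_2 D284 D383 (iv D291) (iv D217) (iv F1033)
theorem F1791 : act 6 n383 = n332 := d18_2 (iv F1360) D383 (iv D332)
theorem F1792 : act 7 n383 = n383 := d19_2 F1361 D383 (iv D383)
theorem F1793 : act 8 n383 = n369 := d20_2 (iv F1362) D383 (iv D369)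
def n384 : Q := act 4 n284
theorem D384 : act 4 n284 = n384 := rfl
theorem F1794 : act 1 n384 = n384 := d10_1 D384 (iv D384) F1359
theorem F1795 : act 3 n384 = n384 := d21_1 D384 (iv D384) (iv D284) F1034 D284
theorem F1796 : act 6 n384 = n333 := d27_2 (iv F1360) D384 (iv D333)
theorem F1797 : act 7 n384 = n384 := d28_2 F1361 D384 (iv D384)
theorem F1798 : act 8 n384 = n370 := d29_2 (iv F1362) D384 (iv D370)
def n385 : Q := act 8 n285
theorem D385 : act 8 n285 = n385 := rfl
theorem F1799 : act 0 n385 = n380 := d7_1 D385 (iv D380) (iv F1363)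
theorem F1800 : act 1 n385 = n302 := d14_1 D385 (iv D302) (iv F1364)
theorem F1801 : act 2 n385 = n385 := d20_1 D385 (iv D385) F1365
theorem F1802 : act 3 n385 = n286 := d25_1 D385 (iv D286) D285
theorem F1803 : act 4 n385 = n385 := d29_1 D385 (iv D385) F1366
theorem F1804 : act 5 n385 = n385 := d32_1 D385 (iv D385) F1367
theorem F1805 : act 6 n385 = n385 := d34_1 D385 (iv D385) F1368
def n386 : Q := act 7 n286
theorem D386 : act 7 n286 = n386 := rfl
theorem F1806 : act 0 n386 = n381 := d6_1 D386 (iv D381) (iv F1370)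
theorem F1807 : act 1 n386 = n303 := d13_1 D386 (iv D303) (iv F1371)
theorem F1808 : act 2 n386 = n367 := d19_1 D386 (iv D367) (iv F1372)
theorem F1809 : act 4 n386 = n288 := d28_1 D386 (iv D288) (iv F1373)
theorem F1810 : act 5 n386 = n386 := d31_1 D386 (iv D386) F1374
theorem F1811 : act 6 n386 = n386 := d33_1 D386 (iv D386) F1375
theorem F1812 : act 8 n386 = n287 := d35_2 D286 D386 (iv D287) (iv D213) D212
def n387 : Q := act 3 n287
theorem D387 : act 3 n287 = n387 := rfl
theorem F1813 : act 1 n387 = n304 := d9_1 D387 (iv D304) (iv F1376)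
theorem F1814 : act 5 n387 = n387 := d22_2 F1378 D387 (iv D387)
theorem F1815 : act 6 n387 = n387 := d23_2 F1379 D387 (iv D387)
theorem F1816 : act 7 n387 = n387 := d24_2 D287 D387 (iv D387) (iv D287) F1044
def n388 : Q := act 3 n288
theorem D388 : act 3 n288 = n388 := rfl
theorem F1817 : act 0 n388 = n382 := d2_1 D388 (iv D382) (iv F1380)
theorem F1818 : act 1 n388 = n305 := d9_1 D388 (iv D305) (iv F1381)
theorem F1819 : act 5 n388 = n290 := d22_2 (iv F1383) D388 (iv D290)
theorem F1820 : act 6 n388 = n388 := d23_2 F1384 D388 (iv D388)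
theorem F1821 : act 7 n388 = n388 := d24_2 D288 D388 (iv D388) (iv D288) F1051
theorem F1822 : act 8 n388 = n289 := d25_2 (iv F1385) D388 (iv D289)
def n389 : Q := act 2 n289
theorem D389 : act 2 n289 = n389 := rfl
theorem F1823 : act 5 n389 = n291 := d17_2 (iv F1387) D389 (iv D291)
theorem F1824 : act 6 n389 = n389 := d18_2 F1388 D389 (iv D389)
theorem F1825 : act 7 n389 = n293 := d19_2 (iv F1389) D389 (iv D293)
def n390 : Q := act 4 n289
theorem D390 : act 4 n289 = n390 := rfl
theorem F1826 : act 1 n390 = n307 := d10_1 D390 (iv D307) (iv F1386)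
theorem F1827 : act 6 n390 = n390 := d27_2 F1388 D390 (iv D390)
theorem F1828 : act 7 n390 = n294 := d28_2 (iv F1389) D390 (iv D294)
def n391 : Q := act 2 n290
theorem D391 : act 2 n290 = n391 := rfl
theorem F1829 : act 0 n391 = n383 := d1_1 D391 (iv D383) (iv F1390)
theorem F1830 : act 3 n391 = n369 := d15_2 D290 D391 (iv D369) (iv D274) (iv F1059)
theorem F1831 : act 6 n391 = n334 := d18_2 (iv F1392) D391 (iv D334)
theorem F1832 : act 7 n391 = n391 := d19_2 F1393 D391 (iv D391)
theorem F1833 : act 8 n391 = n291 := d20_2 (iv F1394) D391 (iv D291)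
def n392 : Q := act 4 n290
theorem D392 : act 4 n290 = n392 := rfl
theorem F1834 : act 0 n392 = n384 := d3_1 D392 (iv D384) (iv F1390)
theorem F1835 : act 1 n392 = n309 := d10_1 D392 (iv D309) (iv F1391)
theorem F1836 : act 3 n392 = n392 := d21_1 D392 (iv D392) (iv D290) F1060 D290
theorem F1837 : act 6 n392 = n335 := d27_2 (iv F1392) D392 (iv D335)
theorem F1838 : act 7 n392 = n392 := d28_2 F1393 D392 (iv D392)
theorem F1839 : act 8 n392 = n292 := d29_2 (iv F1394) D392 (iv D292)
def n393 : Q := act 1 n291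
theorem D393 : act 1 n291 = n393 := rfl
theorem F1840 : act 2 n393 = n310 := d8_2 D291 D393 (iv D310) (iv D229) (iv F1063)
theorem F1841 : act 6 n393 = n336 := d12_2 (iv F1395) D393 (iv D336)
theorem F1842 : act 7 n393 = n295 := d13_2 (iv F1396) D393 (iv D295)
def n394 : Q := act 4 n291
theorem D394 : act 4 n291 = n394 := rfl
theorem F1843 : act 2 n394 = n292 := d16_1 D394 (iv D292) D291
theorem F1844 : act 6 n394 = n337 := d27_2 (iv F1395) D394 (iv D337)
theorem F1845 : act 7 n394 = n296 := d28_2 (iv F1396) D394 (iv D296)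
def n395 : Q := act 5 n292
theorem D395 : act 5 n292 = n395 := rfl
theorem F1846 : act 1 n395 = n312 := d11_1 D395 (iv D312) (iv F1397)
theorem F1847 : act 3 n395 = n395 := d22_1 D395 (iv D395) F1398
theorem F1848 : act 7 n395 = n297 := d31_2 (iv F1400) D395 (iv D297)
def n396 : Q := act 1 n293
theorem D396 : act 1 n293 = n396 := rfl
theorem F1849 : act 2 n396 = n313 := d8_2 D293 D396 (iv D313) (iv D231) (iv F1066)
theorem F1850 : act 3 n396 = n396 := d9_2 F1401 D396 (iv D396)
theorem F1851 : act 5 n396 = n295 := d11_2 (iv F1402) D396 (iv D295)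
theorem F1852 : act 6 n396 = n396 := d12_2 F1403 D396 (iv D396)
theorem F1853 : act 8 n396 = n396 := d14_2 F1404 D396 (iv D396)
def n397 : Q := act 4 n293
theorem D397 : act 4 n293 = n397 := rfl
theorem F1854 : act 2 n397 = n294 := d16_1 D397 (iv D294) D293
theorem F1855 : act 6 n397 = n397 := d27_2 F1403 D397 (iv D397)
theorem F1856 : act 8 n397 = n397 := d29_2 F1404 D397 (iv D397)
def n398 : Q := act 5 n294
theorem D398 : act 5 n294 = n398 := rfl
theorem F1857 : act 1 n398 = n315 := d11_1 D398 (iv D315) (iv F1405)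
theorem F1858 : act 3 n398 = n398 := d22_1 D398 (iv D398) F1406
theorem F1859 : act 4 n398 = n297 := d26_1 D398 (iv D297) (iv D220) (iv F1067) D294
theorem F1860 : act 8 n398 = n398 := d32_2 F1408 D398 (iv D398)
def n399 : Q := act 0 n295
theorem D399 : act 0 n295 = n399 := rfl
theorem F1861 : act 2 n399 = n316 := d1_2 (iv F1409) D399 (iv D316)
theorem F1862 : act 3 n399 = n399 := d2_2 F1410 D399 (iv D399)
theorem F1863 : act 6 n399 = n339 := d5_2 (iv F1411) D399 (iv D339)
theorem F1864 : act 8 n399 = n399 := d7_2 F1412 D399 (iv D399)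
def n400 : Q := act 4 n295
theorem D400 : act 4 n295 = n400 := rfl
theorem F1865 : act 1 n400 = n296 := d10_1 D400 (iv D296) D295
theorem F1866 : act 2 n400 = n317 := d16_1 D400 (iv D317) (iv F1409)
theorem F1867 : act 6 n400 = n340 := d27_2 (iv F1411) D400 (iv D340)
theorem F1868 : act 8 n400 = n400 := d29_2 F1412 D400 (iv D400)
def n401 : Q := act 3 n296
theorem D401 : act 3 n296 = n401 := rfl
theorem F1869 : act 2 n401 = n298 := d15_1 D401 (iv D298) F1078 (iv F1074) (iv F1413)
theorem F1870 : act 4 n401 = n401 := d21_2 D296 D401 (iv D401) (iv D296) F1070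
theorem F1871 : act 6 n401 = n341 := d23_2 (iv F1414) D401 (iv D341)
theorem F1872 : act 8 n401 = n401 := d25_2 F1415 D401 (iv D401)
def n402 : Q := act 5 n296
theorem D402 : act 5 n296 = n402 := rfl
theorem F1873 : act 2 n402 = n297 := d17_1 D402 (iv D297) (iv F1413)
theorem F1874 : act 8 n402 = n402 := d32_2 F1415 D402 (iv D402)
def n403 : Q := act 6 n297
theorem D403 : act 6 n297 = n403 := rfl
theorem F1875 : act 1 n403 = n319 := d12_1 D403 (iv D319) (iv F1416)
theorem F1876 : act 3 n403 = n300 := d23_1 D403 (iv D300) (iv F1417)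
theorem F1877 : act 5 n403 = n343 := d30_1 D403 (iv D343) (iv D252) (iv F1075) D297
theorem F1878 : act 8 n403 = n403 := d34_2 F1418 D403 (iv D403)
def n404 : Q := act 5 n298
theorem D404 : act 5 n298 = n404 := rfl
theorem F1879 : act 1 n404 = n404 := d11_1 D404 (iv D404) F1419
theorem F1880 : act 3 n404 = n299 := d22_1 D404 (iv D299) D298
theorem F1881 : act 8 n404 = n404 := d32_2 F1422 D404 (iv D404)
def n405 : Q := act 7 n298
theorem D405 : act 7 n298 = n405 := rfl
theorem F1882 : act 1 n405 = n405 := d13_1 D405 (iv D405) F1419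
theorem F1883 : act 3 n405 = n405 := d24_1 D405 (iv D405) (iv D298) F1080 D298
theorem F1884 : act 4 n405 = n405 := d28_1 D405 (iv D405) F1420
theorem F1885 : act 6 n405 = n345 := d33_1 D405 (iv D345) (iv F1421)
def n406 : Q := act 6 n299
theorem D406 : act 6 n299 = n406 := rfl
theorem F1887 : act 2 n406 = n300 := d18_1 D406 (iv D300) (iv F1424)
def n407 : Q := act 8 n301
theorem D407 : act 8 n301 = n407 := rfl
theorem F1892 : act 0 n407 = n407 := d7_1 D407 (iv D407) F1433
theorem F1893 : act 1 n407 = n407 := d14_1 D407 (iv D407) F1434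
theorem F1894 : act 2 n407 = n302 := d20_1 D407 (iv D302) D301
theorem F1895 : act 3 n407 = n407 := d25_1 D407 (iv D407) F1435
theorem F1896 : act 4 n407 = n407 := d29_1 D407 (iv D407) F1436
theorem F1897 : act 5 n407 = n407 := d32_1 D407 (iv D407) F1437
theorem F1898 : act 6 n407 = n407 := d34_1 D407 (iv D407) F1438
def n408 : Q := act 7 n302
theorem D408 : act 7 n302 = n408 := rfl
theorem F1899 : act 0 n408 = n408 := d6_1 D408 (iv D408) F1440
theorem F1900 : act 4 n408 = n408 := d28_1 D408 (iv D408) F1442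
theorem F1901 : act 5 n408 = n408 := d31_1 D408 (iv D408) F1443
theorem F1902 : act 6 n408 = n408 := d33_1 D408 (iv D408) F1444
theorem F1903 : act 8 n408 = n408 := d35_2 D302 D408 (iv D408) (iv D302) F1090
def n409 : Q := act 3 n303
theorem D409 : act 3 n303 = n409 := rfl
theorem F1904 : act 0 n409 = n409 := d2_1 D409 (iv D409) F1445
theorem F1905 : act 5 n409 = n409 := d22_2 F1448 D409 (iv D409)
theorem F1906 : act 6 n409 = n409 := d23_2 F1449 D409 (iv D409)
theorem F1907 : act 8 n409 = n304 := d25_2 (iv F1450) D409 (iv D304)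
def n410 : Q := act 2 n304
theorem D410 : act 2 n304 = n410 := rfl
theorem F1908 : act 0 n410 = n410 := d1_1 D410 (iv D410) F1451
theorem F1909 : act 3 n410 = n410 := d15_2 D304 D410 (iv D410) (iv D304) F1097
theorem F1910 : act 5 n410 = n410 := d17_2 F1452 D410 (iv D410)
theorem F1911 : act 6 n410 = n410 := d18_2 F1453 D410 (iv D410)
theorem F1912 : act 7 n410 = n410 := d19_2 F1454 D410 (iv D410)
def n411 : Q := act 4 n304
theorem D411 : act 4 n304 = n411 := rfl
theorem F1913 : act 0 n411 = n411 := d3_1 D411 (iv D411) F1451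
theorem F1914 : act 3 n411 = n307 := d21_1 D411 (iv D307) (iv D227) (iv F1098) D304
theorem F1915 : act 6 n411 = n411 := d27_2 F1453 D411 (iv D411)
theorem F1916 : act 7 n411 = n411 := d28_2 F1454 D411 (iv D411)
def n412 : Q := act 2 n305
theorem D412 : act 2 n305 = n412 := rfl
theorem F1917 : act 0 n412 = n412 := d1_1 D412 (iv D412) F1455
theorem F1918 : act 3 n412 = n412 := d15_2 D305 D412 (iv D412) (iv D305) F1102
theorem F1919 : act 5 n412 = n308 := d17_2 (iv F1456) D412 (iv D308)
theorem F1920 : act 6 n412 = n412 := d18_2 F1457 D412 (iv D412)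
theorem F1921 : act 7 n412 = n412 := d19_2 F1458 D412 (iv D412)
theorem F1922 : act 8 n412 = n306 := d20_2 (iv F1459) D412 (iv D306)
def n413 : Q := act 4 n305
theorem D413 : act 4 n305 = n413 := rfl
theorem F1923 : act 0 n413 = n413 := d3_1 D413 (iv D413) F1455
theorem F1924 : act 6 n413 = n413 := d27_2 F1457 D413 (iv D413)
theorem F1925 : act 7 n413 = n413 := d28_2 F1458 D413 (iv D413)
theorem F1926 : act 8 n413 = n307 := d29_2 (iv F1459) D413 (iv D307)
def n414 : Q := act 1 n306
theorem D414 : act 1 n306 = n414 := rfl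
theorem F1927 : act 3 n414 = n414 := d9_2 F1461 D414 (iv D414)
theorem F1928 : act 5 n414 = n310 := d11_2 (iv F1462) D414 (iv D310)
theorem F1929 : act 6 n414 = n414 := d12_2 F1463 D414 (iv D414)
theorem F1930 : act 7 n414 = n313 := d13_2 (iv F1464) D414 (iv D313)
def n415 : Q := act 4 n306
theorem D415 : act 4 n306 = n415 := rfl
theorem F1931 : act 0 n415 = n415 := d3_1 D415 (iv D415) F1460
theorem F1932 : act 2 n415 = n307 := d16_1 D415 (iv D307) D306
theorem F1933 : act 6 n415 = n415 := d27_2 F1463 D415 (iv D415)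
theorem F1934 : act 7 n415 = n314 := d28_2 (iv F1464) D415 (iv D314)
def n416 : Q := act 5 n307
theorem D416 : act 5 n307 = n416 := rfl
theorem F1935 : act 0 n416 = n416 := d4_1 D416 (iv D416) F1465
theorem F1936 : act 4 n416 = n312 := d26_1 D416 (iv D312) (iv D230) (iv F1107) D307
theorem F1937 : act 7 n416 = n315 := d31_2 (iv F1467) D416 (iv D315)
def n417 : Q := act 1 n308
theorem D417 : act 1 n308 = n417 := rfl
theorem F1938 : act 3 n417 = n417 := d9_2 F1469 D417 (iv D417)
theorem F1939 : act 6 n417 = n347 := d12_2 (iv F1470) D417 (iv D347)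
theorem F1940 : act 7 n417 = n417 := d13_2 F1471 D417 (iv D417)
theorem F1941 : act 8 n417 = n310 := d14_2 (iv F1472) D417 (iv D310)
def n418 : Q := act 4 n308
theorem D418 : act 4 n308 = n418 := rfl
theorem F1942 : act 0 n418 = n418 := d3_1 D418 (iv D418) F1468
theorem F1943 : act 2 n418 = n309 := d16_1 D418 (iv D309) D308
theorem F1944 : act 6 n418 = n348 := d27_2 (iv F1470) D418 (iv D348)
theorem F1945 : act 7 n418 = n418 := d28_2 F1471 D418 (iv D418)
theorem F1946 : act 8 n418 = n311 := d29_2 (iv F1472) D418 (iv D311)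
def n419 : Q := act 5 n309
theorem D419 : act 5 n309 = n419 := rfl
theorem F1947 : act 0 n419 = n419 := d4_1 D419 (iv D419) F1473
theorem F1948 : act 3 n419 = n419 := d22_1 D419 (iv D419) F1474
theorem F1949 : act 7 n419 = n419 := d31_2 F1476 D419 (iv D419)
theorem F1950 : act 8 n419 = n312 := d32_2 (iv F1477) D419 (iv D312)
def n420 : Q := act 0 n310
theorem D420 : act 0 n310 = n420 := rfl
theorem F1951 : act 1 n420 = n420 := d0_2 D310 D420 (iv D420) (iv D310) F1114
theorem F1952 : act 3 n420 = n420 := d2_2 F1478 D420 (iv D420)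
theorem F1953 : act 6 n420 = n350 := d5_2 (iv F1479) D420 (iv D350)
theorem F1954 : act 7 n420 = n316 := d6_2 (iv F1480) D420 (iv D316)
def n421 : Q := act 4 n310
theorem D421 : act 4 n310 = n421 := rfl
theorem F1955 : act 1 n421 = n311 := d10_1 D421 (iv D311) D310
theorem F1956 : act 6 n421 = n351 := d27_2 (iv F1479) D421 (iv D351)
theorem F1957 : act 7 n421 = n317 := d28_2 (iv F1480) D421 (iv D317)
def n422 : Q := act 3 n311
theorem D422 : act 3 n311 = n422 := rfl
theorem F1958 : act 0 n422 = n422 := d2_1 D422 (iv D422) F1481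
theorem F1959 : act 2 n422 = n422 := d15_1 D422 (iv D422) F1482 F1119 (iv F1482)
theorem F1960 : act 4 n422 = n422 := d21_2 D311 D422 (iv D422) (iv D311) F1115
theorem F1961 : act 6 n422 = n352 := d23_2 (iv F1483) D422 (iv D352)
theorem F1962 : act 7 n422 = n422 := d24_2 (iv F1484) D422 (iv D422) F1484 F1136
def n423 : Q := act 5 n311
theorem D423 : act 5 n311 = n423 := rfl
theorem F1963 : act 0 n423 = n423 := d4_1 D423 (iv D423) F1481
theorem F1964 : act 2 n423 = n312 := d17_1 D423 (iv D312) (iv F1482)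
theorem F1965 : act 7 n423 = n318 := d31_2 (iv F1484) D423 (iv D318)
def n424 : Q := act 6 n312
theorem D424 : act 6 n312 = n424 := rfl
theorem F1966 : act 0 n424 = n424 := d5_1 D424 (iv D424) F1485
theorem F1967 : act 3 n424 = n424 := d23_1 D424 (iv D424) F1486
theorem F1968 : act 5 n424 = n354 := d30_1 D424 (iv D354) (iv D260) (iv F1120) D312
theorem F1969 : act 7 n424 = n319 := d33_2 (iv F1487) D424 (iv D319)
def n425 : Q := act 0 n313
theorem D425 : act 0 n313 = n425 := rfl
theorem F1970 : act 1 n425 = n425 := d0_2 D313 D425 (iv D425) (iv D313) F1122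
theorem F1971 : act 3 n425 = n320 := d2_2 (iv F1488) D425 (iv D320)
theorem F1972 : act 5 n425 = n316 := d4_2 (iv F1489) D425 (iv D316)
theorem F1973 : act 6 n425 = n425 := d5_2 F1490 D425 (iv D425)
theorem F1974 : act 8 n425 = n425 := d7_2 F1491 D425 (iv D425)
def n426 : Q := act 4 n313
theorem D426 : act 4 n313 = n426 := rfl
theorem F1975 : act 1 n426 = n314 := d10_1 D426 (iv D314) D313
theorem F1976 : act 6 n426 = n426 := d27_2 F1490 D426 (iv D426)
theorem F1977 : act 8 n426 = n426 := d29_2 F1491 D426 (iv D426)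
def n427 : Q := act 3 n314
theorem D427 : act 3 n314 = n427 := rfl
theorem F1978 : act 0 n427 = n427 := d2_1 D427 (iv D427) F1492
theorem F1979 : act 2 n427 = n427 := d15_1 D427 (iv D427) F1493 F1128 (iv F1493)
theorem F1980 : act 4 n427 = n322 := d21_2 D314 D427 (iv D322) (iv D238) (iv F1123)
theorem F1981 : act 6 n427 = n427 := d23_2 F1494 D427 (iv D427)
theorem F1982 : act 8 n427 = n427 := d25_2 F1495 D427 (iv D427)
def n428 : Q := act 5 n314
theorem D428 : act 5 n314 = n428 := rfl
theorem F1983 : act 0 n428 = n428 := d4_1 D428 (iv D428) F1492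
theorem F1984 : act 2 n428 = n315 := d17_1 D428 (iv D315) (iv F1493)
theorem F1985 : act 4 n428 = n318 := d26_1 D428 (iv D318) (iv D234) (iv F1124) D314
theorem F1986 : act 8 n428 = n428 := d32_2 F1495 D428 (iv D428)
def n429 : Q := act 6 n315
theorem D429 : act 6 n315 = n429 := rfl
theorem F1987 : act 0 n429 = n429 := d5_1 D429 (iv D429) F1496
theorem F1988 : act 3 n429 = n429 := d23_1 D429 (iv D429) F1497
theorem F1989 : act 4 n429 = n319 := d27_1 D429 (iv D319) (iv F1498)
theorem F1990 : act 5 n429 = n429 := d30_1 D429 (iv D429) (iv D315) F1129 D315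
theorem F1991 : act 8 n429 = n429 := d34_2 F1499 D429 (iv D429)
def n430 : Q := act 4 n316
theorem D430 : act 4 n316 = n430 := rfl
theorem F1992 : act 0 n430 = n317 := d3_1 D430 (iv D317) D316
theorem F1993 : act 1 n430 = n430 := d10_1 D430 (iv D430) F1500
theorem F1994 : act 3 n430 = n430 := d21_1 D430 (iv D430) F1501 F1161 (iv F1501)
theorem F1995 : act 6 n430 = n355 := d27_2 (iv F1502) D430 (iv D355)
theorem F1996 : act 8 n430 = n430 := d29_2 F1503 D430 (iv D430)
def n431 : Q := act 5 n317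
theorem D431 : act 5 n317 = n431 := rfl
theorem F1997 : act 1 n431 = n318 := d11_1 D431 (iv D318) (iv F1504)
theorem F1998 : act 3 n431 = n431 := d22_1 D431 (iv D431) F1505
theorem F1999 : act 8 n431 = n431 := d32_2 F1507 D431 (iv D431)
def n432 : Q := act 6 n318
theorem D432 : act 6 n318 = n432 := rfl
theorem F2000 : act 0 n432 = n432 := d5_1 D432 (iv D432) F1508
theorem F2001 : act 2 n432 = n319 := d18_1 D432 (iv D319) (iv F1509)
theorem F2002 : act 3 n432 = n432 := d23_1 D432 (iv D432) F1510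
theorem F2003 : act 5 n432 = n357 := d30_1 D432 (iv D357) (iv D263) (iv F1137) D318
theorem F2004 : act 8 n432 = n432 := d34_2 F1511 D432 (iv D432)
def n433 : Q := act 4 n320
theorem D433 : act 4 n320 = n433 := rfl
theorem F2005 : act 0 n433 = n321 := d3_1 D433 (iv D321) D320
theorem F2006 : act 1 n433 = n433 := d10_1 D433 (iv D433) F1516
theorem F2007 : act 2 n433 = n433 := d16_1 D433 (iv D433) F1517
theorem F2008 : act 5 n433 = n433 := d26_2 (iv F1518) D433 (iv D433) F1518 F1161
theorem F2009 : act 6 n433 = n433 := d27_2 F1519 D433 (iv D433)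
theorem F2010 : act 7 n433 = n433 := d28_2 F1520 D433 (iv D433)
theorem F2011 : act 8 n433 = n433 := d29_2 F1521 D433 (iv D433)
def n434 : Q := act 3 n321
theorem D434 : act 3 n321 = n434 := rfl
theorem F2012 : act 1 n434 = n322 := d9_1 D434 (iv D322) (iv F1522)
theorem F2013 : act 5 n434 = n434 := d22_2 F1524 D434 (iv D434)
theorem F2014 : act 6 n434 = n434 := d23_2 F1525 D434 (iv D434)
theorem F2015 : act 8 n434 = n434 := d25_2 F1527 D434 (iv D434)
def n435 : Q := act 7 n322
theorem D435 : act 7 n322 = n435 := rfl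
theorem F2016 : act 0 n435 = n435 := d6_1 D435 (iv D435) F1528
theorem F2017 : act 2 n435 = n435 := d19_1 D435 (iv D435) F1529
theorem F2018 : act 3 n435 = n435 := d24_1 D435 (iv D435) (iv D322) F1157 D322
theorem F2019 : act 5 n435 = n435 := d31_1 D435 (iv D435) F1530
theorem F2020 : act 6 n435 = n435 := d33_1 D435 (iv D435) F1531
def n436 : Q := act 1 n323
theorem D436 : act 1 n323 = n436 := rfl
theorem F2021 : act 2 n436 = n436 := d8_2 D323 D436 (iv D436) (iv D323) F1166
theorem F2022 : act 5 n436 = n436 := d11_2 F1534 D436 (iv D436)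
theorem F2023 : act 7 n436 = n325 := d13_2 (iv F1535) D436 (iv D325)
def n437 : Q := act 4 n323
theorem D437 : act 4 n323 = n437 := rfl
theorem F2024 : act 0 n437 = n337 := d3_1 D437 (iv D337) (iv F1533)
theorem F2025 : act 2 n437 = n324 := d16_1 D437 (iv D324) D323
theorem F2026 : act 7 n437 = n326 := d28_2 (iv F1535) D437 (iv D326)
def n438 : Q := act 5 n324
theorem D438 : act 5 n324 = n438 := rfl
theorem F2027 : act 0 n438 = n338 := d4_1 D438 (iv D338) (iv F1536)
theorem F2031 : act 7 n438 = n327 := d31_2 (iv F1539) D438 (iv D327)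
def n439 : Q := act 0 n325
theorem D439 : act 0 n325 = n439 := rfl
theorem F2032 : act 1 n439 = n339 := d0_2 D325 D439 (iv D339) (iv D250) (iv F1169)
theorem F2033 : act 2 n439 = n439 := d1_2 F1540 D439 (iv D439)
theorem F2034 : act 3 n439 = n439 := d2_2 F1541 D439 (iv D439)
theorem F2035 : act 5 n439 = n439 := d4_2 F1542 D439 (iv D439)
theorem F2036 : act 8 n439 = n439 := d7_2 F1543 D439 (iv D439)
def n440 : Q := act 4 n325
theorem D440 : act 4 n325 = n440 := rfl
theorem F2037 : act 1 n440 = n326 := d10_1 D440 (iv D326) D325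
theorem F2038 : act 2 n440 = n440 := d16_1 D440 (iv D440) F1540
theorem F2039 : act 8 n440 = n440 := d29_2 F1543 D440 (iv D440)
def n441 : Q := act 3 n326
theorem D441 : act 3 n326 = n441 := rfl
theorem F2041 : act 2 n441 = n329 := d15_1 D441 (iv D329) F1184 (iv F1175) (iv F1545)
def n442 : Q := act 5 n326
theorem D442 : act 5 n326 = n442 := rfl
theorem F2044 : act 0 n442 = n342 := d4_1 D442 (iv D342) (iv F1544)
def n443 : Q := act 6 n327
theorem D443 : act 6 n327 = n443 := rfl
theorem F2048 : act 0 n443 = n343 := d5_1 D443 (iv D343) (iv F1547)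
theorem F2050 : act 3 n443 = n331 := d23_1 D443 (iv D331) (iv F1549)
def n444 : Q := act 3 n328
theorem D444 : act 3 n328 = n444 := rfl
theorem F2053 : act 0 n444 = n444 := d2_1 D444 (iv D444) F1552
theorem F2054 : act 1 n444 = n329 := d9_1 D444 (iv D329) (iv F1553)
def n447 : Q := act 7 n329
theorem D447 : act 7 n329 = n447 := rfl
theorem F2066 : act 0 n447 = n345 := d6_1 D447 (iv D345) (iv F1557)
def n449 : Q := act 1 n332
theorem D449 : act 1 n332 = n449 := rfl
theorem F2074 : act 2 n449 = n449 := d8_2 D332 D449 (iv D449) (iv D332) F1192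
theorem F2075 : act 3 n449 = n336 := d9_2 (iv F1570) D449 (iv D336)
theorem F2076 : act 5 n449 = n449 := d11_2 F1571 D449 (iv D449)
theorem F2077 : act 7 n449 = n449 := d13_2 F1572 D449 (iv D449)
theorem F2078 : act 8 n449 = n436 := d14_2 (iv F1573) D449 (iv D436)
def n450 : Q := act 4 n332
theorem D450 : act 4 n332 = n450 := rfl
theorem F2079 : act 2 n450 = n333 := d16_1 D450 (iv D333) D332
theorem F2080 : act 7 n450 = n450 := d28_2 F1572 D450 (iv D450)
theorem F2081 : act 8 n450 = n437 := d29_2 (iv F1573) D450 (iv D437)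
def n451 : Q := act 5 n333
theorem D451 : act 5 n333 = n451 := rfl
theorem F2082 : act 1 n451 = n451 := d11_1 D451 (iv D451) F1574
theorem F2083 : act 3 n451 = n451 := d22_1 D451 (iv D451) F1575
theorem F2084 : act 4 n451 = n451 := d26_1 D451 (iv D451) (iv D333) F1193 D333
theorem F2085 : act 7 n451 = n451 := d31_2 F1576 D451 (iv D451)
theorem F2086 : act 8 n451 = n438 := d32_2 (iv F1577) D451 (iv D438)
def n452 : Q := act 1 n334
theorem D452 : act 1 n334 = n452 := rfl
theorem F2087 : act 2 n452 = n347 := d8_2 D334 D452 (iv D347) (iv D256) (iv F1197)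
theorem F2088 : act 3 n452 = n436 := d9_2 (iv F1579) D452 (iv D436)
theorem F2089 : act 5 n452 = n452 := d11_2 F1580 D452 (iv D452)
theorem F2090 : act 7 n452 = n452 := d13_2 F1581 D452 (iv D452)
theorem F2091 : act 8 n452 = n336 := d14_2 (iv F1582) D452 (iv D336)
def n453 : Q := act 4 n334
theorem D453 : act 4 n334 = n453 := rfl
theorem F2092 : act 0 n453 = n450 := d3_1 D453 (iv D450) (iv F1578)
theorem F2093 : act 2 n453 = n335 := d16_1 D453 (iv D335) D334
theorem F2094 : act 7 n453 = n453 := d28_2 F1581 D453 (iv D453)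
theorem F2095 : act 8 n453 = n337 := d29_2 (iv F1582) D453 (iv D337)
def n454 : Q := act 5 n335
theorem D454 : act 5 n335 = n454 := rfl
theorem F2096 : act 0 n454 = n451 := d4_1 D454 (iv D451) (iv F1583)
theorem F2097 : act 1 n454 = n349 := d11_1 D454 (iv D349) (iv F1584)
theorem F2098 : act 3 n454 = n454 := d22_1 D454 (iv D454) F1585
theorem F2099 : act 4 n454 = n454 := d26_1 D454 (iv D454) (iv D335) F1198 D335
theorem F2100 : act 7 n454 = n454 := d31_2 F1586 D454 (iv D454)
theorem F2101 : act 8 n454 = n338 := d32_2 (iv F1587) D454 (iv D338)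
def n455 : Q := act 0 n336
theorem D455 : act 0 n336 = n455 := rfl
theorem F2102 : act 2 n455 = n350 := d1_2 (iv F1588) D455 (iv D350)
theorem F2103 : act 5 n455 = n455 := d4_2 F1589 D455 (iv D455)
theorem F2104 : act 7 n455 = n339 := d6_2 (iv F1590) D455 (iv D339)
def n456 : Q := act 4 n336
theorem D456 : act 4 n336 = n456 := rfl
theorem F2105 : act 1 n456 = n337 := d10_1 D456 (iv D337) D336
theorem F2106 : act 2 n456 = n351 := d16_1 D456 (iv D351) (iv F1588)
theorem F2107 : act 7 n456 = n340 := d28_2 (iv F1590) D456 (iv D340)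
def n457 : Q := act 3 n337
theorem D457 : act 3 n337 = n457 := rfl
theorem F2108 : act 2 n457 = n457 := d15_1 D457 (iv D457) F1591 F1204 (iv F1591)
def n458 : Q := act 5 n337
theorem D458 : act 5 n337 = n458 := rfl
theorem F2109 : act 2 n458 = n338 := d17_1 D458 (iv D338) (iv F1591)
theorem F2110 : act 4 n458 = n458 := d26_1 D458 (iv D458) (iv D337) F1201 D337
theorem F2111 : act 7 n458 = n342 := d31_2 (iv F1592) D458 (iv D342)
def n459 : Q := act 6 n338
theorem D459 : act 6 n338 = n459 := rfl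
theorem F2112 : act 1 n459 = n354 := d12_1 D459 (iv D354) (iv F1593)
theorem F2113 : act 3 n459 = n459 := d23_1 D459 (iv D459) F1594
theorem F2114 : act 4 n459 = n459 := d27_1 D459 (iv D459) F1595
theorem F2115 : act 7 n459 = n343 := d33_2 (iv F1596) D459 (iv D343)
def n460 : Q := act 4 n339
theorem D460 : act 4 n339 = n460 := rfl
theorem F2116 : act 0 n460 = n340 := d3_1 D460 (iv D340) D339
theorem F2117 : act 2 n460 = n355 := d16_1 D460 (iv D355) (iv F1597)
theorem F2118 : act 8 n460 = n460 := d29_2 F1600 D460 (iv D460)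
def n461 : Q := act 3 n340
theorem D461 : act 3 n340 = n461 := rfl
theorem F2119 : act 1 n461 = n341 := d9_1 D461 (iv D341) (iv F1601)
theorem F2120 : act 2 n461 = n461 := d15_1 D461 (iv D461) F1602 F1252 (iv F1602)
theorem F2121 : act 4 n461 = n461 := d21_2 D340 D461 (iv D461) (iv D340) F1207
theorem F2122 : act 8 n461 = n461 := d25_2 F1603 D461 (iv D461)
def n462 : Q := act 5 n340
theorem D462 : act 5 n340 = n462 := rfl
theorem F2123 : act 1 n462 = n342 := d11_1 D462 (iv D342) (iv F1601)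
theorem F2124 : act 2 n462 = n356 := d17_1 D462 (iv D356) (iv F1602)
theorem F2125 : act 4 n462 = n462 := d26_1 D462 (iv D462) (iv D340) F1208 D340
theorem F2126 : act 8 n462 = n462 := d32_2 F1603 D462 (iv D462)
def n463 : Q := act 5 n341
theorem D463 : act 5 n341 = n463 := rfl
theorem F2127 : act 2 n463 = n344 := d17_1 D463 (iv D344) (iv F1604)
theorem F2128 : act 3 n463 = n342 := d22_1 D463 (iv D342) D341
def n464 : Q := act 7 n341
theorem D464 : act 7 n341 = n464 := rfl
theorem F2130 : act 2 n464 = n345 := d19_1 D464 (iv D345) (iv F1604)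
theorem F2131 : act 4 n464 = n464 := d28_1 D464 (iv D464) F1605
def n465 : Q := act 6 n342
theorem D465 : act 6 n342 = n465 := rfl
theorem F2132 : act 2 n465 = n343 := d18_1 D465 (iv D343) (iv F1607)
theorem F2133 : act 4 n465 = n465 := d27_1 D465 (iv D465) F1608
theorem F2134 : act 8 n465 = n465 := d34_2 F1609 D465 (iv D465)
def n466 : Q := act 4 n344
theorem D466 : act 4 n344 = n466 := rfl
theorem F2136 : act 3 n466 = n363 := d21_1 D466 (iv D363) F1286 (iv F1221) (iv F1615)
def n467 : Q := act 6 n344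
theorem D467 : act 6 n344 = n467 := rfl
def n468 : Q := act 7 n344
theorem D468 : act 7 n344 = n468 := rfl
theorem F2144 : act 5 n468 = n345 := d31_1 D468 (iv D345) D344
def n469 : Q := act 8 n345
theorem D469 : act 8 n345 = n469 := rfl
def n470 : Q := act 0 n347
theorem D470 : act 0 n347 = n470 := rfl
theorem F2149 : act 1 n470 = n470 := d0_2 D347 D470 (iv D470) (iv D347) F1228
theorem F2150 : act 3 n470 = n470 := d2_2 F1625 D470 (iv D470)
theorem F2151 : act 5 n470 = n470 := d4_2 F1626 D470 (iv D470)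
theorem F2152 : act 7 n470 = n470 := d6_2 F1627 D470 (iv D470)
theorem F2153 : act 8 n470 = n350 := d7_2 (iv F1628) D470 (iv D350)
def n471 : Q := act 4 n347
theorem D471 : act 4 n347 = n471 := rfl
theorem F2154 : act 1 n471 = n348 := d10_1 D471 (iv D348) D347
theorem F2155 : act 7 n471 = n471 := d28_2 F1627 D471 (iv D471)
theorem F2156 : act 8 n471 = n351 := d29_2 (iv F1628) D471 (iv D351)
def n472 : Q := act 3 n348
theorem D472 : act 3 n348 = n472 := rfl
theorem F2157 : act 0 n472 = n472 := d2_1 D472 (iv D472) F1629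
theorem F2158 : act 2 n472 = n472 := d15_1 D472 (iv D472) F1630 F1234 (iv F1630)
theorem F2159 : act 4 n472 = n472 := d21_2 D348 D472 (iv D472) (iv D348) F1229
theorem F2160 : act 8 n472 = n352 := d25_2 (iv F1632) D472 (iv D352)
def n473 : Q := act 5 n348
theorem D473 : act 5 n348 = n473 := rfl
theorem F2161 : act 0 n473 = n473 := d4_1 D473 (iv D473) F1629
theorem F2162 : act 2 n473 = n349 := d17_1 D473 (iv D349) (iv F1630)
theorem F2163 : act 4 n473 = n473 := d26_1 D473 (iv D473) (iv D348) F1230 D348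
theorem F2164 : act 7 n473 = n473 := d31_2 F1631 D473 (iv D473)
theorem F2165 : act 8 n473 = n353 := d32_2 (iv F1632) D473 (iv D353)
def n474 : Q := act 6 n349
theorem D474 : act 6 n349 = n474 := rfl
theorem F2166 : act 0 n474 = n474 := d5_1 D474 (iv D474) F1633
theorem F2167 : act 3 n474 = n474 := d23_1 D474 (iv D474) F1634
theorem F2168 : act 4 n474 = n474 := d27_1 D474 (iv D474) F1635
theorem F2169 : act 7 n474 = n474 := d33_2 F1636 D474 (iv D474)
theorem F2170 : act 8 n474 = n354 := d34_2 (iv F1637) D474 (iv D354)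
def n475 : Q := act 4 n350
theorem D475 : act 4 n350 = n475 := rfl
theorem F2171 : act 0 n475 = n351 := d3_1 D475 (iv D351) D350
theorem F2172 : act 1 n475 = n475 := d10_1 D475 (iv D475) F1638
theorem F2173 : act 7 n475 = n355 := d28_2 (iv F1641) D475 (iv D355)
def n476 : Q := act 3 n351
theorem D476 : act 3 n351 = n476 := rfl
theorem F2174 : act 1 n476 = n352 := d9_1 D476 (iv D352) (iv F1642)
theorem F2175 : act 4 n476 = n476 := d21_2 D351 D476 (iv D476) (iv D351) F1237
theorem F2176 : act 7 n476 = n476 := d24_2 (iv F1643) D476 (iv D476) F1643 F1252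
def n477 : Q := act 5 n351
theorem D477 : act 5 n351 = n477 := rfl
theorem F2177 : act 1 n477 = n353 := d11_1 D477 (iv D353) (iv F1642)
theorem F2178 : act 4 n477 = n477 := d26_1 D477 (iv D477) (iv D351) F1238 D351
theorem F2179 : act 7 n477 = n356 := d31_2 (iv F1643) D477 (iv D356)
def n478 : Q := act 5 n352
theorem D478 : act 5 n352 = n478 := rfl
theorem F2180 : act 0 n478 = n478 := d4_1 D478 (iv D478) F1644
theorem F2181 : act 2 n478 = n478 := d17_1 D478 (iv D478) F1645
theorem F2182 : act 3 n478 = n353 := d22_1 D478 (iv D353) D352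
theorem F2183 : act 7 n478 = n478 := d31_2 F1647 D478 (iv D478)
def n479 : Q := act 6 n353
theorem D479 : act 6 n353 = n479 := rfl
theorem F2184 : act 0 n479 = n479 := d5_1 D479 (iv D479) F1648
theorem F2185 : act 2 n479 = n354 := d18_1 D479 (iv D354) (iv F1649)
theorem F2186 : act 4 n479 = n479 := d27_1 D479 (iv D479) F1650
theorem F2187 : act 7 n479 = n357 := d33_2 (iv F1651) D479 (iv D357)
def n480 : Q := act 5 n355
theorem D480 : act 5 n355 = n480 := rfl
theorem F2188 : act 0 n480 = n356 := d4_1 D480 (iv D356) (iv F1656)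
theorem F2189 : act 1 n480 = n480 := d11_1 D480 (iv D480) F1657
theorem F2190 : act 3 n480 = n480 := d22_1 D480 (iv D480) F1658
theorem F2191 : act 4 n480 = n480 := d26_1 D480 (iv D480) (iv D355) F1249 D355
theorem F2192 : act 8 n480 = n480 := d32_2 F1659 D480 (iv D480)
def n481 : Q := act 6 n356
theorem D481 : act 6 n356 = n481 := rfl
theorem F2193 : act 1 n481 = n357 := d12_1 D481 (iv D357) (iv F1660)
theorem F2194 : act 3 n481 = n481 := d23_1 D481 (iv D481) F1661
theorem F2195 : act 4 n481 = n481 := d27_1 D481 (iv D481) F1662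
theorem F2196 : act 8 n481 = n481 := d34_2 F1663 D481 (iv D481)
def n483 : Q := act 5 n358
theorem D483 : act 5 n358 = n483 := rfl
theorem F2203 : act 0 n483 = n483 := d4_1 D483 (iv D483) F1669
theorem F2204 : act 1 n483 = n360 := d11_1 D483 (iv D360) (iv F1670)
def n486 : Q := act 4 n360
theorem D486 : act 4 n360 = n486 := rfl
theorem F2218 : act 0 n486 = n363 := d3_1 D486 (iv D363) (iv F1679)
theorem F2220 : act 5 n486 = n486 := d26_2 D360 D486 (iv D486) (iv D360) F1271
def n488 : Q := act 7 n360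
theorem D488 : act 7 n360 = n488 := rfl
theorem F2228 : act 2 n488 = n488 := d19_1 D488 (iv D488) F1680
theorem F2229 : act 3 n488 = n488 := d24_1 D488 (iv D488) F1681 F1276 (iv F1681)
def n494 : Q := act 3 n367
theorem D494 : act 3 n367 = n494 := rfl
theorem F2255 : act 0 n494 = n387 := d2_1 D494 (iv D387) (iv F1712)
theorem F2256 : act 1 n494 = n494 := d9_1 D494 (iv D494) F1713
theorem F2257 : act 5 n494 = n494 := d22_2 F1715 D494 (iv D494)
theorem F2258 : act 6 n494 = n494 := d23_2 F1716 D494 (iv D494)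
theorem F2259 : act 7 n494 = n494 := d24_2 D367 D494 (iv D494) (iv D367) F1300
def n495 : Q := act 2 n368
theorem D495 : act 2 n368 = n495 := rfl
theorem F2260 : act 0 n495 = n389 := d1_1 D495 (iv D389) (iv F1717)
theorem F2261 : act 5 n495 = n369 := d17_2 (iv F1719) D495 (iv D369)
theorem F2262 : act 6 n495 = n495 := d18_2 F1720 D495 (iv D495)
theorem F2263 : act 7 n495 = n371 := d19_2 (iv F1721) D495 (iv D371)
def n496 : Q := act 4 n368
theorem D496 : act 4 n368 = n496 := rfl
theorem F2264 : act 0 n496 = n390 := d3_1 D496 (iv D390) (iv F1717)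
theorem F2265 : act 1 n496 = n496 := d10_1 D496 (iv D496) F1718
theorem F2266 : act 6 n496 = n496 := d27_2 F1720 D496 (iv D496)
theorem F2267 : act 7 n496 = n372 := d28_2 (iv F1721) D496 (iv D372)
def n497 : Q := act 1 n369
theorem D497 : act 1 n369 = n497 := rfl
theorem F2268 : act 2 n497 = n497 := d8_2 D369 D497 (iv D497) (iv D369) F1309
theorem F2269 : act 6 n497 = n436 := d12_2 (iv F1723) D497 (iv D436)
theorem F2270 : act 7 n497 = n373 := d13_2 (iv F1724) D497 (iv D373)
def n498 : Q := act 4 n369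
theorem D498 : act 4 n369 = n498 := rfl
theorem F2271 : act 0 n498 = n394 := d3_1 D498 (iv D394) (iv F1722)
theorem F2272 : act 2 n498 = n370 := d16_1 D498 (iv D370) D369
theorem F2273 : act 6 n498 = n437 := d27_2 (iv F1723) D498 (iv D437)
theorem F2274 : act 7 n498 = n374 := d28_2 (iv F1724) D498 (iv D374)
def n499 : Q := act 5 n370
theorem D499 : act 5 n370 = n499 := rfl
theorem F2275 : act 0 n499 = n395 := d4_1 D499 (iv D395) (iv F1725)
theorem F2276 : act 1 n499 = n499 := d11_1 D499 (iv D499) F1726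
theorem F2277 : act 3 n499 = n499 := d22_1 D499 (iv D499) F1727
theorem F2278 : act 7 n499 = n375 := d31_2 (iv F1729) D499 (iv D375)
def n500 : Q := act 1 n371
theorem D500 : act 1 n371 = n500 := rfl
theorem F2279 : act 2 n500 = n500 := d8_2 D371 D500 (iv D500) (iv D371) F1313
theorem F2280 : act 3 n500 = n500 := d9_2 F1731 D500 (iv D500)
theorem F2281 : act 5 n500 = n373 := d11_2 (iv F1732) D500 (iv D373)
theorem F2282 : act 6 n500 = n500 := d12_2 F1733 D500 (iv D500)
theorem F2283 : act 8 n500 = n500 := d14_2 F1734 D500 (iv D500)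
def n501 : Q := act 4 n371
theorem D501 : act 4 n371 = n501 := rfl
theorem F2284 : act 0 n501 = n397 := d3_1 D501 (iv D397) (iv F1730)
theorem F2285 : act 2 n501 = n372 := d16_1 D501 (iv D372) D371
theorem F2286 : act 6 n501 = n501 := d27_2 F1733 D501 (iv D501)
theorem F2287 : act 8 n501 = n501 := d29_2 F1734 D501 (iv D501)
def n502 : Q := act 5 n372
theorem D502 : act 5 n372 = n502 := rfl
theorem F2288 : act 0 n502 = n398 := d4_1 D502 (iv D398) (iv F1735)
theorem F2289 : act 1 n502 = n502 := d11_1 D502 (iv D502) F1736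
theorem F2290 : act 3 n502 = n502 := d22_1 D502 (iv D502) F1737
theorem F2291 : act 4 n502 = n375 := d26_1 D502 (iv D375) (iv D277) (iv F1314) D372
theorem F2292 : act 8 n502 = n502 := d32_2 F1739 D502 (iv D502)
def n503 : Q := act 0 n373
theorem D503 : act 0 n373 = n503 := rfl
theorem F2293 : act 1 n503 = n399 := d0_2 D373 D503 (iv D399) (iv D295) (iv F1317)
theorem F2294 : act 2 n503 = n503 := d1_2 F1740 D503 (iv D503)
theorem F2295 : act 3 n503 = n503 := d2_2 F1741 D503 (iv D503)
theorem F2296 : act 6 n503 = n439 := d5_2 (iv F1742) D503 (iv D439)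
theorem F2297 : act 8 n503 = n503 := d7_2 F1743 D503 (iv D503)
def n504 : Q := act 4 n373
theorem D504 : act 4 n373 = n504 := rfl
theorem F2298 : act 1 n504 = n374 := d10_1 D504 (iv D374) D373
theorem F2299 : act 2 n504 = n504 := d16_1 D504 (iv D504) F1740
theorem F2300 : act 6 n504 = n440 := d27_2 (iv F1742) D504 (iv D440)
theorem F2301 : act 8 n504 = n504 := d29_2 F1743 D504 (iv D504)
def n505 : Q := act 3 n374
theorem D505 : act 3 n374 = n505 := rfl
theorem F2302 : act 0 n505 = n401 := d2_1 D505 (iv D401) (iv F1744)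
theorem F2303 : act 2 n505 = n377 := d15_1 D505 (iv D377) F1334 (iv F1323) (iv F1745)
def n506 : Q := act 5 n374
theorem D506 : act 5 n374 = n506 := rfl
theorem F2307 : act 0 n506 = n402 := d4_1 D506 (iv D402) (iv F1744)
theorem F2308 : act 2 n506 = n375 := d17_1 D506 (iv D375) (iv F1745)
theorem F2309 : act 8 n506 = n506 := d32_2 F1747 D506 (iv D506)
def n507 : Q := act 6 n375
theorem D507 : act 6 n375 = n507 := rfl
theorem F2310 : act 0 n507 = n403 := d5_1 D507 (iv D403) (iv F1748)
theorem F2312 : act 3 n507 = n379 := d23_1 D507 (iv D379) (iv F1750)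
def n511 : Q := act 7 n377
theorem D511 : act 7 n377 = n511 := rfl
theorem F2329 : act 0 n511 = n405 := d6_1 D511 (iv D405) (iv F1758)
def n513 : Q := act 7 n380
theorem D513 : act 7 n380 = n513 := rfl
theorem F2339 : act 1 n513 = n513 := d13_1 D513 (iv D513) F1773
theorem F2340 : act 2 n513 = n513 := d19_1 D513 (iv D513) F1774
theorem F2341 : act 4 n513 = n513 := d28_1 D513 (iv D513) F1776
theorem F2342 : act 5 n513 = n513 := d31_1 D513 (iv D513) F1777
theorem F2343 : act 6 n513 = n513 := d33_1 D513 (iv D513) F1778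
theorem F2344 : act 8 n513 = n513 := d35_2 D380 D513 (iv D513) (iv D380) F1348
def n514 : Q := act 3 n381
theorem D514 : act 3 n381 = n514 := rfl
theorem F2345 : act 1 n514 = n514 := d9_1 D514 (iv D514) F1779
theorem F2346 : act 5 n514 = n514 := d22_2 F1782 D514 (iv D514)
theorem F2347 : act 6 n514 = n514 := d23_2 F1783 D514 (iv D514)
theorem F2348 : act 8 n514 = n494 := d25_2 (iv F1784) D514 (iv D494)
def n515 : Q := act 2 n382
theorem D515 : act 2 n382 = n515 := rfl
theorem F2349 : act 3 n515 = n389 := d15_2 D382 D515 (iv D389) (iv D289) (iv F1355)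
theorem F2350 : act 5 n515 = n383 := d17_2 (iv F1786) D515 (iv D383)
theorem F2351 : act 6 n515 = n515 := d18_2 F1787 D515 (iv D515)
theorem F2352 : act 7 n515 = n515 := d19_2 F1788 D515 (iv D515)
theorem F2353 : act 8 n515 = n495 := d20_2 (iv F1789) D515 (iv D495)
def n516 : Q := act 4 n382
theorem D516 : act 4 n382 = n516 := rfl
theorem F2354 : act 1 n516 = n516 := d10_1 D516 (iv D516) F1785
theorem F2355 : act 6 n516 = n516 := d27_2 F1787 D516 (iv D516)
theorem F2356 : act 7 n516 = n516 := d28_2 F1788 D516 (iv D516)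
theorem F2357 : act 8 n516 = n496 := d29_2 (iv F1789) D516 (iv D496)
def n517 : Q := act 1 n383
theorem D517 : act 1 n383 = n517 := rfl
theorem F2358 : act 2 n517 = n517 := d8_2 D383 D517 (iv D517) (iv D383) F1359
theorem F2359 : act 3 n517 = n393 := d9_2 (iv F1790) D517 (iv D393)
theorem F2360 : act 6 n517 = n449 := d12_2 (iv F1791) D517 (iv D449)
theorem F2361 : act 7 n517 = n517 := d13_2 F1792 D517 (iv D517)
theorem F2362 : act 8 n517 = n497 := d14_2 (iv F1793) D517 (iv D497)
def n518 : Q := act 4 n383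
theorem D518 : act 4 n383 = n518 := rfl
theorem F2363 : act 2 n518 = n384 := d16_1 D518 (iv D384) D383
theorem F2364 : act 6 n518 = n450 := d27_2 (iv F1791) D518 (iv D450)
theorem F2365 : act 7 n518 = n518 := d28_2 F1792 D518 (iv D518)
theorem F2366 : act 8 n518 = n498 := d29_2 (iv F1793) D518 (iv D498)
def n519 : Q := act 5 n384
theorem D519 : act 5 n384 = n519 := rfl
theorem F2367 : act 1 n519 = n519 := d11_1 D519 (iv D519) F1794
theorem F2368 : act 3 n519 = n519 := d22_1 D519 (iv D519) F1795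
theorem F2369 : act 7 n519 = n519 := d31_2 F1797 D519 (iv D519)
theorem F2370 : act 8 n519 = n499 := d32_2 (iv F1798) D519 (iv D499)
def n520 : Q := act 7 n385
theorem D520 : act 7 n385 = n520 := rfl
theorem F2371 : act 0 n520 = n513 := d6_1 D520 (iv D513) (iv F1799)
theorem F2372 : act 1 n520 = n408 := d13_1 D520 (iv D408) (iv F1800)
theorem F2373 : act 2 n520 = n520 := d19_1 D520 (iv D520) F1801
theorem F2374 : act 4 n520 = n520 := d28_1 D520 (iv D520) F1803
theorem F2375 : act 5 n520 = n520 := d31_1 D520 (iv D520) F1804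
theorem F2376 : act 6 n520 = n520 := d33_1 D520 (iv D520) F1805
theorem F2377 : act 8 n520 = n520 := d35_2 D385 D520 (iv D520) (iv D385) F1369
def n521 : Q := act 3 n386
theorem D521 : act 3 n386 = n521 := rfl
theorem F2378 : act 0 n521 = n514 := d2_1 D521 (iv D514) (iv F1806)
theorem F2379 : act 1 n521 = n409 := d9_1 D521 (iv D409) (iv F1807)
theorem F2380 : act 5 n521 = n521 := d22_2 F1810 D521 (iv D521)
theorem F2381 : act 6 n521 = n521 := d23_2 F1811 D521 (iv D521)
theorem F2382 : act 8 n521 = n387 := d25_2 (iv F1812) D521 (iv D387)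
def n522 : Q := act 2 n387
theorem D522 : act 2 n387 = n522 := rfl
theorem F2383 : act 5 n522 = n522 := d17_2 F1814 D522 (iv D522)
theorem F2384 : act 6 n522 = n522 := d18_2 F1815 D522 (iv D522)
theorem F2385 : act 7 n522 = n522 := d19_2 F1816 D522 (iv D522)
def n523 : Q := act 4 n387
theorem D523 : act 4 n387 = n523 := rfl
theorem F2386 : act 1 n523 = n411 := d10_1 D523 (iv D411) (iv F1813)
theorem F2387 : act 3 n523 = n390 := d21_1 D523 (iv D390) (iv D289) (iv F1377) D387
theorem F2388 : act 6 n523 = n523 := d27_2 F1815 D523 (iv D523)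
theorem F2389 : act 7 n523 = n523 := d28_2 F1816 D523 (iv D523)
def n524 : Q := act 2 n388
theorem D524 : act 2 n388 = n524 := rfl
theorem F2390 : act 0 n524 = n515 := d1_1 D524 (iv D515) (iv F1817)
theorem F2391 : act 3 n524 = n495 := d15_2 D388 D524 (iv D495) (iv D368) (iv F1382)
theorem F2392 : act 5 n524 = n391 := d17_2 (iv F1819) D524 (iv D391)
theorem F2393 : act 6 n524 = n524 := d18_2 F1820 D524 (iv D524)
theorem F2394 : act 7 n524 = n524 := d19_2 F1821 D524 (iv D524)
theorem F2395 : act 8 n524 = n389 := d20_2 (iv F1822) D524 (iv D389)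
def n525 : Q := act 4 n388
theorem D525 : act 4 n388 = n525 := rfl
theorem F2396 : act 0 n525 = n516 := d3_1 D525 (iv D516) (iv F1817)
theorem F2397 : act 1 n525 = n413 := d10_1 D525 (iv D413) (iv F1818)
theorem F2398 : act 6 n525 = n525 := d27_2 F1820 D525 (iv D525)
theorem F2399 : act 7 n525 = n525 := d28_2 F1821 D525 (iv D525)
theorem F2400 : act 8 n525 = n390 := d29_2 (iv F1822) D525 (iv D390)
def n526 : Q := act 1 n389
theorem D526 : act 1 n389 = n526 := rfl
theorem F2401 : act 2 n526 = n414 := d8_2 D389 D526 (iv D414) (iv D306) (iv F1386)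
theorem F2402 : act 5 n526 = n393 := d11_2 (iv F1823) D526 (iv D393)
theorem F2403 : act 6 n526 = n526 := d12_2 F1824 D526 (iv D526)
theorem F2404 : act 7 n526 = n396 := d13_2 (iv F1825) D526 (iv D396)
def n527 : Q := act 4 n389
theorem D527 : act 4 n389 = n527 := rfl
theorem F2405 : act 2 n527 = n390 := d16_1 D527 (iv D390) D389
theorem F2406 : act 6 n527 = n527 := d27_2 F1824 D527 (iv D527)
theorem F2407 : act 7 n527 = n397 := d28_2 (iv F1825) D527 (iv D397)
def n528 : Q := act 5 n390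
theorem D528 : act 5 n390 = n528 := rfl
theorem F2408 : act 1 n528 = n416 := d11_1 D528 (iv D416) (iv F1826)
theorem F2409 : act 4 n528 = n395 := d26_1 D528 (iv D395) (iv D292) (iv F1387) D390
theorem F2410 : act 7 n528 = n398 := d31_2 (iv F1828) D528 (iv D398)
def n529 : Q := act 1 n391
theorem D529 : act 1 n391 = n529 := rfl
theorem F2411 : act 2 n529 = n417 := d8_2 D391 D529 (iv D417) (iv D308) (iv F1391)
theorem F2412 : act 3 n529 = n497 := d9_2 (iv F1830) D529 (iv D497)
theorem F2413 : act 6 n529 = n452 := d12_2 (iv F1831) D529 (iv D452)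
theorem F2414 : act 7 n529 = n529 := d13_2 F1832 D529 (iv D529)
theorem F2415 : act 8 n529 = n393 := d14_2 (iv F1833) D529 (iv D393)
def n530 : Q := act 4 n391
theorem D530 : act 4 n391 = n530 := rfl
theorem F2416 : act 0 n530 = n518 := d3_1 D530 (iv D518) (iv F1829)
theorem F2417 : act 2 n530 = n392 := d16_1 D530 (iv D392) D391
theorem F2418 : act 6 n530 = n453 := d27_2 (iv F1831) D530 (iv D453)
theorem F2419 : act 7 n530 = n530 := d28_2 F1832 D530 (iv D530)
theorem F2420 : act 8 n530 = n394 := d29_2 (iv F1833) D530 (iv D394)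
def n531 : Q := act 5 n392
theorem D531 : act 5 n392 = n531 := rfl
theorem F2421 : act 0 n531 = n519 := d4_1 D531 (iv D519) (iv F1834)
theorem F2422 : act 1 n531 = n419 := d11_1 D531 (iv D419) (iv F1835)
theorem F2423 : act 3 n531 = n531 := d22_1 D531 (iv D531) F1836
theorem F2424 : act 7 n531 = n531 := d31_2 F1838 D531 (iv D531)
theorem F2425 : act 8 n531 = n395 := d32_2 (iv F1839) D531 (iv D395)
def n532 : Q := act 0 n393
theorem D532 : act 0 n393 = n532 := rfl
theorem F2426 : act 2 n532 = n420 := d1_2 (iv F1840) D532 (iv D420)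
theorem F2427 : act 6 n532 = n455 := d5_2 (iv F1841) D532 (iv D455)
theorem F2428 : act 7 n532 = n399 := d6_2 (iv F1842) D532 (iv D399)
def n533 : Q := act 4 n393
theorem D533 : act 4 n393 = n533 := rfl
theorem F2429 : act 1 n533 = n394 := d10_1 D533 (iv D394) D393
theorem F2430 : act 2 n533 = n421 := d16_1 D533 (iv D421) (iv F1840)
theorem F2431 : act 6 n533 = n456 := d27_2 (iv F1841) D533 (iv D456)
theorem F2432 : act 7 n533 = n400 := d28_2 (iv F1842) D533 (iv D400)
def n534 : Q := act 3 n394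
theorem D534 : act 3 n394 = n534 := rfl
theorem F2433 : act 2 n534 = n534 := d15_1 D534 (iv D534) F1843 F1398 (iv F1843)
theorem F2434 : act 6 n534 = n457 := d23_2 (iv F1844) D534 (iv D457)
def n535 : Q := act 5 n394
theorem D535 : act 5 n394 = n535 := rfl
theorem F2435 : act 2 n535 = n395 := d17_1 D535 (iv D395) (iv F1843)
theorem F2436 : act 7 n535 = n402 := d31_2 (iv F1845) D535 (iv D402)
def n536 : Q := act 6 n395
theorem D536 : act 6 n395 = n536 := rfl
theorem F2437 : act 1 n536 = n424 := d12_1 D536 (iv D424) (iv F1846)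
theorem F2438 : act 3 n536 = n536 := d23_1 D536 (iv D536) F1847
theorem F2439 : act 5 n536 = n459 := d30_1 D536 (iv D459) (iv D338) (iv F1399) D395
theorem F2440 : act 7 n536 = n403 := d33_2 (iv F1848) D536 (iv D403)
def n537 : Q := act 0 n396
theorem D537 : act 0 n396 = n537 := rfl
theorem F2441 : act 2 n537 = n425 := d1_2 (iv F1849) D537 (iv D425)
theorem F2442 : act 3 n537 = n537 := d2_2 F1850 D537 (iv D537)
theorem F2443 : act 5 n537 = n399 := d4_2 (iv F1851) D537 (iv D399)
theorem F2444 : act 6 n537 = n537 := d5_2 F1852 D537 (iv D537)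
theorem F2445 : act 8 n537 = n537 := d7_2 F1853 D537 (iv D537)
def n538 : Q := act 4 n396
theorem D538 : act 4 n396 = n538 := rfl
theorem F2446 : act 1 n538 = n397 := d10_1 D538 (iv D397) D396
theorem F2447 : act 2 n538 = n426 := d16_1 D538 (iv D426) (iv F1849)
theorem F2448 : act 6 n538 = n538 := d27_2 F1852 D538 (iv D538)
theorem F2449 : act 8 n538 = n538 := d29_2 F1853 D538 (iv D538)
def n539 : Q := act 3 n397
theorem D539 : act 3 n397 = n539 := rfl
theorem F2450 : act 2 n539 = n539 := d15_1 D539 (iv D539) F1854 F1406 (iv F1854)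
theorem F2451 : act 4 n539 = n539 := d21_2 D397 D539 (iv D539) (iv D397) F1401
theorem F2452 : act 6 n539 = n539 := d23_2 F1855 D539 (iv D539)
theorem F2453 : act 8 n539 = n539 := d25_2 F1856 D539 (iv D539)
def n540 : Q := act 5 n397
theorem D540 : act 5 n397 = n540 := rfl
theorem F2454 : act 2 n540 = n398 := d17_1 D540 (iv D398) (iv F1854)
theorem F2455 : act 4 n540 = n402 := d26_1 D540 (iv D402) (iv D296) (iv F1402) D397
theorem F2456 : act 8 n540 = n540 := d32_2 F1856 D540 (iv D540)
def n541 : Q := act 6 n398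
theorem D541 : act 6 n398 = n541 := rfl
theorem F2457 : act 1 n541 = n429 := d12_1 D541 (iv D429) (iv F1857)
theorem F2458 : act 3 n541 = n541 := d23_1 D541 (iv D541) F1858
theorem F2459 : act 4 n541 = n403 := d27_1 D541 (iv D403) (iv F1859)
theorem F2460 : act 5 n541 = n541 := d30_1 D541 (iv D541) (iv D398) F1407 D398
theorem F2461 : act 8 n541 = n541 := d34_2 F1860 D541 (iv D541)
def n542 : Q := act 4 n399
theorem D542 : act 4 n399 = n542 := rfl
theorem F2462 : act 0 n542 = n400 := d3_1 D542 (iv D400) D399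
theorem F2463 : act 2 n542 = n430 := d16_1 D542 (iv D430) (iv F1861)
theorem F2464 : act 6 n542 = n460 := d27_2 (iv F1863) D542 (iv D460)
theorem F2465 : act 8 n542 = n542 := d29_2 F1864 D542 (iv D542)
def n543 : Q := act 3 n400
theorem D543 : act 3 n400 = n543 := rfl
theorem F2466 : act 1 n543 = n401 := d9_1 D543 (iv D401) (iv F1865)
theorem F2467 : act 2 n543 = n543 := d15_1 D543 (iv D543) F1866 F1505 (iv F1866)
theorem F2468 : act 4 n543 = n543 := d21_2 D400 D543 (iv D543) (iv D400) F1410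
theorem F2469 : act 6 n543 = n461 := d23_2 (iv F1867) D543 (iv D461)
theorem F2470 : act 8 n543 = n543 := d25_2 F1868 D543 (iv D543)
def n544 : Q := act 5 n400
theorem D544 : act 5 n400 = n544 := rfl
theorem F2471 : act 1 n544 = n402 := d11_1 D544 (iv D402) (iv F1865)
theorem F2472 : act 2 n544 = n431 := d17_1 D544 (iv D431) (iv F1866)
theorem F2473 : act 8 n544 = n544 := d32_2 F1868 D544 (iv D544)
def n545 : Q := act 5 n401
theorem D545 : act 5 n401 = n545 := rfl
theorem F2474 : act 2 n545 = n404 := d17_1 D545 (iv D404) (iv F1869)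
theorem F2475 : act 3 n545 = n402 := d22_1 D545 (iv D402) D401
theorem F2476 : act 8 n545 = n545 := d32_2 F1872 D545 (iv D545)
def n546 : Q := act 7 n401
theorem D546 : act 7 n401 = n546 := rfl
theorem F2477 : act 2 n546 = n405 := d19_1 D546 (iv D405) (iv F1869)
theorem F2478 : act 4 n546 = n546 := d28_1 D546 (iv D546) F1870
theorem F2479 : act 6 n546 = n464 := d33_1 D546 (iv D464) (iv F1871)
def n547 : Q := act 6 n402
theorem D547 : act 6 n402 = n547 := rfl
theorem F2480 : act 2 n547 = n403 := d18_1 D547 (iv D403) (iv F1873)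
theorem F2481 : act 5 n547 = n465 := d30_1 D547 (iv D465) (iv D342) (iv F1414) D402
theorem F2482 : act 8 n547 = n547 := d34_2 F1874 D547 (iv D547)
def n548 : Q := act 4 n404
theorem D548 : act 4 n404 = n548 := rfl
theorem F2483 : act 1 n548 = n548 := d10_1 D548 (iv D548) F1879
theorem F2484 : act 3 n548 = n548 := d21_1 D548 (iv D548) F1880 F1425 (iv F1880)
theorem F2485 : act 5 n548 = n548 := d26_2 D404 D548 (iv D548) (iv D404) F1420
theorem F2486 : act 8 n548 = n548 := d29_2 F1881 D548 (iv D548)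
def n549 : Q := act 6 n404
theorem D549 : act 6 n404 = n549 := rfl
theorem F2488 : act 3 n549 = n406 := d23_1 D549 (iv D406) (iv F1880)
theorem F2489 : act 5 n549 = n467 := d30_1 D549 (iv D467) (iv D344) (iv F1421) D404
def n550 : Q := act 7 n404
theorem D550 : act 7 n404 = n550 := rfl
theorem F2491 : act 1 n550 = n550 := d13_1 D550 (iv D550) F1879
theorem F2492 : act 3 n550 = n550 := d24_1 D550 (iv D550) F1880 F1426 (iv F1880)
theorem F2493 : act 5 n550 = n405 := d31_1 D550 (iv D405) D404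
def n551 : Q := act 8 n405
theorem D551 : act 8 n405 = n551 := rfl
theorem F2494 : act 1 n551 = n551 := d14_1 D551 (iv D551) F1882
theorem F2495 : act 3 n551 = n551 := d25_1 D551 (iv D551) F1883
theorem F2496 : act 4 n551 = n551 := d29_1 D551 (iv D551) F1884
theorem F2497 : act 6 n551 = n469 := d34_1 D551 (iv D469) (iv F1885)
theorem F2498 : act 7 n551 = n551 := d35_1 D551 (iv D551) (iv D405) F1422 D405
def n552 : Q := act 7 n407
theorem D552 : act 7 n407 = n552 := rfl
theorem F2499 : act 0 n552 = n552 := d6_1 D552 (iv D552) F1892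
theorem F2500 : act 1 n552 = n552 := d13_1 D552 (iv D552) F1893
theorem F2501 : act 2 n552 = n408 := d19_1 D552 (iv D408) (iv F1894)
theorem F2502 : act 4 n552 = n552 := d28_1 D552 (iv D552) F1896
theorem F2503 : act 5 n552 = n552 := d31_1 D552 (iv D552) F1897
theorem F2504 : act 6 n552 = n552 := d33_1 D552 (iv D552) F1898
theorem F2505 : act 8 n552 = n552 := d35_2 D407 D552 (iv D552) (iv D407) F1439
def n553 : Q := act 3 n408
theorem D553 : act 3 n408 = n553 := rfl
theorem F2506 : act 0 n553 = n553 := d2_1 D553 (iv D553) F1899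
theorem F2507 : act 5 n553 = n553 := d22_2 F1901 D553 (iv D553)
theorem F2508 : act 6 n553 = n553 := d23_2 F1902 D553 (iv D553)
theorem F2509 : act 7 n553 = n409 := d24_2 D408 D553 (iv D409) (iv D303) (iv F1441)
theorem F2510 : act 8 n553 = n553 := d25_2 F1903 D553 (iv D553)
def n554 : Q := act 2 n409
theorem D554 : act 2 n409 = n554 := rfl
theorem F2511 : act 0 n554 = n554 := d1_1 D554 (iv D554) F1904
theorem F2512 : act 3 n554 = n554 := d15_2 D409 D554 (iv D554) (iv D409) F1446
theorem F2513 : act 5 n554 = n554 := d17_2 F1905 D554 (iv D554)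
theorem F2514 : act 6 n554 = n554 := d18_2 F1906 D554 (iv D554)
theorem F2515 : act 8 n554 = n410 := d20_2 (iv F1907) D554 (iv D410)
def n555 : Q := act 4 n409
theorem D555 : act 4 n409 = n555 := rfl
theorem F2516 : act 0 n555 = n555 := d3_1 D555 (iv D555) F1904
theorem F2517 : act 3 n555 = n413 := d21_1 D555 (iv D413) (iv D305) (iv F1447) D409
theorem F2518 : act 6 n555 = n555 := d27_2 F1906 D555 (iv D555)
theorem F2519 : act 8 n555 = n411 := d29_2 (iv F1907) D555 (iv D411)
def n556 : Q := act 1 n410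
theorem D556 : act 1 n410 = n556 := rfl
theorem F2520 : act 3 n556 = n556 := d9_2 F1909 D556 (iv D556)
theorem F2521 : act 5 n556 = n556 := d11_2 F1910 D556 (iv D556)
theorem F2522 : act 6 n556 = n556 := d12_2 F1911 D556 (iv D556)
theorem F2523 : act 7 n556 = n556 := d13_2 F1912 D556 (iv D556)
def n557 : Q := act 4 n410
theorem D557 : act 4 n410 = n557 := rfl
theorem F2524 : act 0 n557 = n557 := d3_1 D557 (iv D557) F1908
theorem F2525 : act 2 n557 = n411 := d16_1 D557 (iv D411) D410
theorem F2526 : act 6 n557 = n557 := d27_2 F1911 D557 (iv D557)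
theorem F2527 : act 7 n557 = n557 := d28_2 F1912 D557 (iv D557)
def n558 : Q := act 5 n411
theorem D558 : act 5 n411 = n558 := rfl
theorem F2528 : act 0 n558 = n558 := d4_1 D558 (iv D558) F1913
theorem F2529 : act 3 n558 = n416 := d22_1 D558 (iv D416) (iv F1914)
theorem F2530 : act 4 n558 = n558 := d26_1 D558 (iv D558) (iv D411) F1452 D411
theorem F2531 : act 7 n558 = n558 := d31_2 F1916 D558 (iv D558)
def n559 : Q := act 1 n412
theorem D559 : act 1 n412 = n559 := rfl
theorem F2532 : act 3 n559 = n559 := d9_2 F1918 D559 (iv D559)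
theorem F2533 : act 5 n559 = n417 := d11_2 (iv F1919) D559 (iv D417)
theorem F2534 : act 6 n559 = n559 := d12_2 F1920 D559 (iv D559)
theorem F2535 : act 7 n559 = n559 := d13_2 F1921 D559 (iv D559)
theorem F2536 : act 8 n559 = n414 := d14_2 (iv F1922) D559 (iv D414)
def n560 : Q := act 4 n412
theorem D560 : act 4 n412 = n560 := rfl
theorem F2537 : act 0 n560 = n560 := d3_1 D560 (iv D560) F1917
theorem F2538 : act 2 n560 = n413 := d16_1 D560 (iv D413) D412
theorem F2539 : act 6 n560 = n560 := d27_2 F1920 D560 (iv D560)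
theorem F2540 : act 7 n560 = n560 := d28_2 F1921 D560 (iv D560)
theorem F2541 : act 8 n560 = n415 := d29_2 (iv F1922) D560 (iv D415)
def n561 : Q := act 5 n413
theorem D561 : act 5 n413 = n561 := rfl
theorem F2542 : act 0 n561 = n561 := d4_1 D561 (iv D561) F1923
theorem F2543 : act 4 n561 = n419 := d26_1 D561 (iv D419) (iv D309) (iv F1456) D413
theorem F2544 : act 7 n561 = n561 := d31_2 F1925 D561 (iv D561)
theorem F2545 : act 8 n561 = n416 := d32_2 (iv F1926) D561 (iv D416)
def n562 : Q := act 0 n414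
theorem D562 : act 0 n414 = n562 := rfl
theorem F2546 : act 1 n562 = n562 := d0_2 D414 D562 (iv D562) (iv D414) F1460
theorem F2547 : act 3 n562 = n562 := d2_2 F1927 D562 (iv D562)
theorem F2548 : act 5 n562 = n420 := d4_2 (iv F1928) D562 (iv D420)
theorem F2549 : act 6 n562 = n562 := d5_2 F1929 D562 (iv D562)
theorem F2550 : act 7 n562 = n425 := d6_2 (iv F1930) D562 (iv D425)
def n563 : Q := act 4 n414
theorem D563 : act 4 n414 = n563 := rfl
theorem F2551 : act 1 n563 = n415 := d10_1 D563 (iv D415) D414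
theorem F2552 : act 6 n563 = n563 := d27_2 F1929 D563 (iv D563)
theorem F2553 : act 7 n563 = n426 := d28_2 (iv F1930) D563 (iv D426)
def n564 : Q := act 3 n415
theorem D564 : act 3 n415 = n564 := rfl
theorem F2554 : act 0 n564 = n564 := d2_1 D564 (iv D564) F1931
theorem F2555 : act 4 n564 = n564 := d21_2 D415 D564 (iv D564) (iv D415) F1461
theorem F2556 : act 6 n564 = n564 := d23_2 F1933 D564 (iv D564)
def n565 : Q := act 5 n415
theorem D565 : act 5 n415 = n565 := rfl
theorem F2557 : act 0 n565 = n565 := d4_1 D565 (iv D565) F1931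
theorem F2558 : act 2 n565 = n416 := d17_1 D565 (iv D416) (iv F1932)
theorem F2559 : act 4 n565 = n423 := d26_1 D565 (iv D423) (iv D311) (iv F1462) D415
theorem F2560 : act 7 n565 = n428 := d31_2 (iv F1934) D565 (iv D428)
def n566 : Q := act 6 n416
theorem D566 : act 6 n416 = n566 := rfl
theorem F2561 : act 0 n566 = n566 := d5_1 D566 (iv D566) F1935
theorem F2562 : act 4 n566 = n424 := d27_1 D566 (iv D424) (iv F1936)
theorem F2563 : act 5 n566 = n566 := d30_1 D566 (iv D566) (iv D416) F1466 D416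
theorem F2564 : act 7 n566 = n429 := d33_2 (iv F1937) D566 (iv D429)
def n567 : Q := act 0 n417
theorem D567 : act 0 n417 = n567 := rfl
theorem F2565 : act 1 n567 = n567 := d0_2 D417 D567 (iv D567) (iv D417) F1468
theorem F2566 : act 3 n567 = n567 := d2_2 F1938 D567 (iv D567)
theorem F2567 : act 6 n567 = n470 := d5_2 (iv F1939) D567 (iv D470)
theorem F2568 : act 7 n567 = n567 := d6_2 F1940 D567 (iv D567)
theorem F2569 : act 8 n567 = n420 := d7_2 (iv F1941) D567 (iv D420)
def n568 : Q := act 4 n417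
theorem D568 : act 4 n417 = n568 := rfl
theorem F2570 : act 1 n568 = n418 := d10_1 D568 (iv D418) D417
theorem F2571 : act 6 n568 = n471 := d27_2 (iv F1939) D568 (iv D471)
theorem F2572 : act 7 n568 = n568 := d28_2 F1940 D568 (iv D568)
theorem F2573 : act 8 n568 = n421 := d29_2 (iv F1941) D568 (iv D421)
def n569 : Q := act 3 n418
theorem D569 : act 3 n418 = n569 := rfl
theorem F2574 : act 0 n569 = n569 := d2_1 D569 (iv D569) F1942
theorem F2575 : act 2 n569 = n569 := d15_1 D569 (iv D569) F1943 F1474 (iv F1943)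
theorem F2576 : act 4 n569 = n569 := d21_2 D418 D569 (iv D569) (iv D418) F1469
theorem F2577 : act 6 n569 = n472 := d23_2 (iv F1944) D569 (iv D472)
theorem F2578 : act 8 n569 = n422 := d25_2 (iv F1946) D569 (iv D422)
def n570 : Q := act 5 n418
theorem D570 : act 5 n418 = n570 := rfl
theorem F2579 : act 0 n570 = n570 := d4_1 D570 (iv D570) F1942
theorem F2580 : act 2 n570 = n419 := d17_1 D570 (iv D419) (iv F1943)
theorem F2581 : act 7 n570 = n570 := d31_2 F1945 D570 (iv D570)
theorem F2582 : act 8 n570 = n423 := d32_2 (iv F1946) D570 (iv D423)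
def n571 : Q := act 6 n419
theorem D571 : act 6 n419 = n571 := rfl
theorem F2583 : act 0 n571 = n571 := d5_1 D571 (iv D571) F1947
theorem F2584 : act 3 n571 = n571 := d23_1 D571 (iv D571) F1948
theorem F2585 : act 5 n571 = n474 := d30_1 D571 (iv D474) (iv D349) (iv F1475) D419
theorem F2586 : act 7 n571 = n571 := d33_2 F1949 D571 (iv D571)
theorem F2587 : act 8 n571 = n424 := d34_2 (iv F1950) D571 (iv D424)
def n572 : Q := act 4 n420
theorem D572 : act 4 n420 = n572 := rfl
theorem F2588 : act 0 n572 = n421 := d3_1 D572 (iv D421) D420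
theorem F2589 : act 1 n572 = n572 := d10_1 D572 (iv D572) F1951
theorem F2590 : act 6 n572 = n475 := d27_2 (iv F1953) D572 (iv D475)
theorem F2591 : act 7 n572 = n430 := d28_2 (iv F1954) D572 (iv D430)
def n573 : Q := act 3 n421
theorem D573 : act 3 n421 = n573 := rfl
theorem F2592 : act 1 n573 = n422 := d9_1 D573 (iv D422) (iv F1955)
theorem F2593 : act 4 n573 = n573 := d21_2 D421 D573 (iv D573) (iv D421) F1478
theorem F2594 : act 6 n573 = n476 := d23_2 (iv F1956) D573 (iv D476)
theorem F2595 : act 7 n573 = n573 := d24_2 (iv F1957) D573 (iv D573) F1957 F1505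
def n574 : Q := act 5 n421
theorem D574 : act 5 n421 = n574 := rfl
theorem F2596 : act 1 n574 = n423 := d11_1 D574 (iv D423) (iv F1955)
theorem F2597 : act 7 n574 = n431 := d31_2 (iv F1957) D574 (iv D431)
def n575 : Q := act 5 n422
theorem D575 : act 5 n422 = n575 := rfl
theorem F2598 : act 0 n575 = n575 := d4_1 D575 (iv D575) F1958
theorem F2599 : act 2 n575 = n575 := d17_1 D575 (iv D575) F1959
theorem F2600 : act 3 n575 = n423 := d22_1 D575 (iv D423) D422
theorem F2601 : act 7 n575 = n575 := d31_2 F1962 D575 (iv D575)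
def n576 : Q := act 6 n423
theorem D576 : act 6 n423 = n576 := rfl
theorem F2602 : act 0 n576 = n576 := d5_1 D576 (iv D576) F1963
theorem F2603 : act 2 n576 = n424 := d18_1 D576 (iv D424) (iv F1964)
theorem F2604 : act 5 n576 = n479 := d30_1 D576 (iv D479) (iv D353) (iv F1483) D423
theorem F2605 : act 7 n576 = n432 := d33_2 (iv F1965) D576 (iv D432)
def n577 : Q := act 4 n425
theorem D577 : act 4 n425 = n577 := rfl
theorem F2606 : act 0 n577 = n426 := d3_1 D577 (iv D426) D425
theorem F2607 : act 1 n577 = n577 := d10_1 D577 (iv D577) F1970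
theorem F2608 : act 6 n577 = n577 := d27_2 F1973 D577 (iv D577)
theorem F2609 : act 8 n577 = n577 := d29_2 F1974 D577 (iv D577)
def n578 : Q := act 3 n426
theorem D578 : act 3 n426 = n578 := rfl
theorem F2610 : act 1 n578 = n427 := d9_1 D578 (iv D427) (iv F1975)
theorem F2611 : act 4 n578 = n434 := d21_2 D426 D578 (iv D434) (iv D321) (iv F1488)
theorem F2612 : act 6 n578 = n578 := d23_2 F1976 D578 (iv D578)
theorem F2613 : act 8 n578 = n578 := d25_2 F1977 D578 (iv D578)
def n579 : Q := act 5 n426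
theorem D579 : act 5 n426 = n579 := rfl
theorem F2614 : act 1 n579 = n428 := d11_1 D579 (iv D428) (iv F1975)
theorem F2615 : act 4 n579 = n431 := d26_1 D579 (iv D431) (iv D317) (iv F1489) D426
theorem F2616 : act 8 n579 = n579 := d32_2 F1977 D579 (iv D579)
def n580 : Q := act 5 n427
theorem D580 : act 5 n427 = n580 := rfl
theorem F2617 : act 0 n580 = n580 := d4_1 D580 (iv D580) F1978
theorem F2618 : act 2 n580 = n580 := d17_1 D580 (iv D580) F1979
theorem F2619 : act 3 n580 = n428 := d22_1 D580 (iv D428) D427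
theorem F2620 : act 4 n580 = n580 := d26_1 D580 (iv D580) F1980 F1530 (iv F1980)
theorem F2621 : act 8 n580 = n580 := d32_2 F1982 D580 (iv D580)
def n581 : Q := act 7 n427
theorem D581 : act 7 n427 = n581 := rfl
theorem F2622 : act 0 n581 = n581 := d6_1 D581 (iv D581) F1978
theorem F2623 : act 2 n581 = n581 := d19_1 D581 (iv D581) F1979
theorem F2624 : act 4 n581 = n435 := d28_1 D581 (iv D435) (iv F1980)
theorem F2625 : act 6 n581 = n581 := d33_1 D581 (iv D581) F1981
def n582 : Q := act 6 n428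
theorem D582 : act 6 n428 = n582 := rfl
theorem F2626 : act 0 n582 = n582 := d5_1 D582 (iv D582) F1983
theorem F2627 : act 2 n582 = n429 := d18_1 D582 (iv D429) (iv F1984)
theorem F2628 : act 4 n582 = n432 := d27_1 D582 (iv D432) (iv F1985)
theorem F2629 : act 5 n582 = n582 := d30_1 D582 (iv D582) (iv D428) F1494 D428
theorem F2630 : act 8 n582 = n582 := d34_2 F1986 D582 (iv D582)
def n583 : Q := act 5 n430
theorem D583 : act 5 n430 = n583 := rfl
theorem F2631 : act 0 n583 = n431 := d4_1 D583 (iv D431) (iv F1992)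
theorem F2632 : act 1 n583 = n583 := d11_1 D583 (iv D583) F1993
theorem F2633 : act 3 n583 = n583 := d22_1 D583 (iv D583) F1994
theorem F2634 : act 8 n583 = n583 := d32_2 F1996 D583 (iv D583)
def n584 : Q := act 6 n431
theorem D584 : act 6 n431 = n584 := rfl
theorem F2635 : act 1 n584 = n432 := d12_1 D584 (iv D432) (iv F1997)
theorem F2636 : act 3 n584 = n584 := d23_1 D584 (iv D584) F1998
theorem F2637 : act 5 n584 = n481 := d30_1 D584 (iv D481) (iv D356) (iv F1506) D431
theorem F2638 : act 8 n584 = n584 := d34_2 F1999 D584 (iv D584)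
def n585 : Q := act 3 n433
theorem D585 : act 3 n433 = n585 := rfl
theorem F2639 : act 0 n585 = n434 := d2_1 D585 (iv D434) (iv F2005)
theorem F2640 : act 1 n585 = n585 := d9_1 D585 (iv D585) F2006
theorem F2641 : act 5 n585 = n585 := d22_2 F2008 D585 (iv D585)
theorem F2642 : act 6 n585 = n585 := d23_2 F2009 D585 (iv D585)
theorem F2643 : act 8 n585 = n585 := d25_2 F2011 D585 (iv D585)
def n586 : Q := act 2 n434
theorem D586 : act 2 n434 = n586 := rfl
theorem F2644 : act 1 n586 = n586 := d8_1 D586 (iv D586) F2012 F1529 (iv F2012)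
theorem F2645 : act 3 n586 = n586 := d15_2 D434 D586 (iv D586) (iv D434) F1523
theorem F2646 : act 5 n586 = n586 := d17_2 F2013 D586 (iv D586)
theorem F2647 : act 6 n586 = n586 := d18_2 F2014 D586 (iv D586)
theorem F2648 : act 8 n586 = n586 := d20_2 F2015 D586 (iv D586)
def n587 : Q := act 7 n434
theorem D587 : act 7 n434 = n587 := rfl
theorem F2649 : act 1 n587 = n435 := d13_1 D587 (iv D435) (iv F2012)
theorem F2650 : act 3 n587 = n587 := d24_1 D587 (iv D587) (iv D434) F1526 D434
theorem F2651 : act 5 n587 = n587 := d31_1 D587 (iv D587) F2013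
theorem F2652 : act 6 n587 = n587 := d33_1 D587 (iv D587) F2014
def n588 : Q := act 8 n435
theorem D588 : act 8 n435 = n588 := rfl
theorem F2653 : act 0 n588 = n588 := d7_1 D588 (iv D588) F2016
theorem F2654 : act 2 n588 = n588 := d20_1 D588 (iv D588) F2017
theorem F2655 : act 3 n588 = n588 := d25_1 D588 (iv D588) F2018
theorem F2656 : act 5 n588 = n588 := d32_1 D588 (iv D588) F2019
theorem F2657 : act 6 n588 = n588 := d34_1 D588 (iv D588) F2020
theorem F2658 : act 7 n588 = n588 := d35_1 D588 (iv D588) (iv D435) F1532 D435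
def n589 : Q := act 0 n436
theorem D589 : act 0 n436 = n589 := rfl
theorem F2659 : act 1 n589 = n455 := d0_2 D436 D589 (iv D455) (iv D336) (iv F1533)
theorem F2660 : act 2 n589 = n589 := d1_2 F2021 D589 (iv D589)
theorem F2661 : act 5 n589 = n589 := d4_2 F2022 D589 (iv D589)
theorem F2662 : act 7 n589 = n439 := d6_2 (iv F2023) D589 (iv D439)
def n590 : Q := act 4 n436
theorem D590 : act 4 n436 = n590 := rfl
theorem F2663 : act 1 n590 = n437 := d10_1 D590 (iv D437) D436
theorem F2664 : act 2 n590 = n590 := d16_1 D590 (iv D590) F2021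
theorem F2665 : act 7 n590 = n440 := d28_2 (iv F2023) D590 (iv D440)
def n591 : Q := act 3 n437
theorem D591 : act 3 n437 = n591 := rfl
theorem F2666 : act 0 n591 = n457 := d2_1 D591 (iv D457) (iv F2024)
theorem F2667 : act 2 n591 = n591 := d15_1 D591 (iv D591) F2025 F1538 (iv F2025)
def n592 : Q := act 5 n437
theorem D592 : act 5 n437 = n592 := rfl
theorem F2668 : act 0 n592 = n458 := d4_1 D592 (iv D458) (iv F2024)
theorem F2671 : act 7 n592 = n442 := d31_2 (iv F2026) D592 (iv D442)
def n593 : Q := act 6 n438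
theorem D593 : act 6 n438 = n593 := rfl
theorem F2672 : act 0 n593 = n459 := d5_1 D593 (iv D459) (iv F2027)
theorem F2676 : act 7 n593 = n443 := d33_2 (iv F2031) D593 (iv D443)
def n594 : Q := act 4 n439
theorem D594 : act 4 n439 = n594 := rfl
theorem F2677 : act 0 n594 = n440 := d3_1 D594 (iv D440) D439
theorem F2678 : act 1 n594 = n460 := d10_1 D594 (iv D460) (iv F2032)
theorem F2679 : act 2 n594 = n594 := d16_1 D594 (iv D594) F2033
theorem F2680 : act 8 n594 = n594 := d29_2 F2036 D594 (iv D594)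
def n595 : Q := act 3 n440
theorem D595 : act 3 n440 = n595 := rfl
theorem F2681 : act 1 n595 = n441 := d9_1 D595 (iv D441) (iv F2037)
def n599 : Q := act 6 n442
theorem D599 : act 6 n442 = n599 := rfl
theorem F2695 : act 0 n599 = n465 := d5_1 D599 (iv D465) (iv F2044)
def n600 : Q := act 2 n444
theorem D600 : act 2 n444 = n600 := rfl
theorem F2699 : act 0 n600 = n600 := d1_1 D600 (iv D600) F2053
theorem F2700 : act 3 n600 = n600 := d15_2 D444 D600 (iv D600) (iv D444) F1554
def n602 : Q := act 7 n444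
theorem D602 : act 7 n444 = n602 := rfl
theorem F2708 : act 1 n602 = n447 := d13_1 D602 (iv D447) (iv F2054)
def n608 : Q := act 0 n449
theorem D608 : act 0 n449 = n608 := rfl
theorem F2731 : act 2 n608 = n608 := d1_2 F2074 D608 (iv D608)
theorem F2732 : act 3 n608 = n455 := d2_2 (iv F2075) D608 (iv D455)
theorem F2733 : act 5 n608 = n608 := d4_2 F2076 D608 (iv D608)
theorem F2734 : act 7 n608 = n608 := d6_2 F2077 D608 (iv D608)
theorem F2735 : act 8 n608 = n589 := d7_2 (iv F2078) D608 (iv D589)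
def n609 : Q := act 4 n449
theorem D609 : act 4 n449 = n609 := rfl
theorem F2736 : act 1 n609 = n450 := d10_1 D609 (iv D450) D449
theorem F2737 : act 2 n609 = n609 := d16_1 D609 (iv D609) F2074
theorem F2738 : act 7 n609 = n609 := d28_2 F2077 D609 (iv D609)
theorem F2739 : act 8 n609 = n590 := d29_2 (iv F2078) D609 (iv D590)
def n610 : Q := act 3 n450
theorem D610 : act 3 n450 = n610 := rfl
theorem F2740 : act 2 n610 = n610 := d15_1 D610 (iv D610) F2079 F1575 (iv F2079)
theorem F2741 : act 4 n610 = n457 := d21_2 D450 D610 (iv D457) (iv D337) (iv F1570)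
theorem F2742 : act 8 n610 = n591 := d25_2 (iv F2081) D610 (iv D591)
def n611 : Q := act 5 n450
theorem D611 : act 5 n450 = n611 := rfl
theorem F2743 : act 2 n611 = n451 := d17_1 D611 (iv D451) (iv F2079)
theorem F2744 : act 4 n611 = n611 := d26_1 D611 (iv D611) (iv D450) F1571 D450
theorem F2745 : act 7 n611 = n611 := d31_2 F2080 D611 (iv D611)
theorem F2746 : act 8 n611 = n592 := d32_2 (iv F2081) D611 (iv D592)
def n612 : Q := act 6 n451
theorem D612 : act 6 n451 = n612 := rfl
theorem F2751 : act 8 n612 = n593 := d34_2 (iv F2086) D612 (iv D593)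
def n613 : Q := act 0 n452
theorem D613 : act 0 n452 = n613 := rfl
theorem F2752 : act 1 n613 = n608 := d0_2 D452 D613 (iv D608) (iv D449) (iv F1578)
theorem F2753 : act 2 n613 = n470 := d1_2 (iv F2087) D613 (iv D470)
theorem F2754 : act 3 n613 = n589 := d2_2 (iv F2088) D613 (iv D589)
theorem F2755 : act 5 n613 = n613 := d4_2 F2089 D613 (iv D613)
theorem F2756 : act 7 n613 = n613 := d6_2 F2090 D613 (iv D613)
theorem F2757 : act 8 n613 = n455 := d7_2 (iv F2091) D613 (iv D455)
def n614 : Q := act 4 n452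
theorem D614 : act 4 n452 = n614 := rfl
theorem F2758 : act 1 n614 = n453 := d10_1 D614 (iv D453) D452
theorem F2759 : act 2 n614 = n471 := d16_1 D614 (iv D471) (iv F2087)
theorem F2760 : act 7 n614 = n614 := d28_2 F2090 D614 (iv D614)
theorem F2761 : act 8 n614 = n456 := d29_2 (iv F2091) D614 (iv D456)
def n615 : Q := act 3 n453
theorem D615 : act 3 n453 = n615 := rfl
theorem F2762 : act 0 n615 = n610 := d2_1 D615 (iv D610) (iv F2092)
theorem F2763 : act 2 n615 = n615 := d15_1 D615 (iv D615) F2093 F1585 (iv F2093)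
theorem F2764 : act 4 n615 = n591 := d21_2 D453 D615 (iv D591) (iv D437) (iv F1579)
theorem F2765 : act 8 n615 = n457 := d25_2 (iv F2095) D615 (iv D457)
def n616 : Q := act 5 n453
theorem D616 : act 5 n453 = n616 := rfl
theorem F2766 : act 0 n616 = n611 := d4_1 D616 (iv D611) (iv F2092)
theorem F2767 : act 2 n616 = n454 := d17_1 D616 (iv D454) (iv F2093)
theorem F2768 : act 4 n616 = n616 := d26_1 D616 (iv D616) (iv D453) F1580 D453
theorem F2769 : act 7 n616 = n616 := d31_2 F2094 D616 (iv D616)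
theorem F2770 : act 8 n616 = n458 := d32_2 (iv F2095) D616 (iv D458)
def n617 : Q := act 6 n454
theorem D617 : act 6 n454 = n617 := rfl
theorem F2772 : act 1 n617 = n474 := d12_1 D617 (iv D474) (iv F2097)
theorem F2773 : act 3 n617 = n617 := d23_1 D617 (iv D617) F2098
theorem F2774 : act 4 n617 = n617 := d27_1 D617 (iv D617) F2099
theorem F2775 : act 7 n617 = n617 := d33_2 F2100 D617 (iv D617)
theorem F2776 : act 8 n617 = n459 := d34_2 (iv F2101) D617 (iv D459)
def n618 : Q := act 4 n455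
theorem D618 : act 4 n455 = n618 := rfl
theorem F2777 : act 0 n618 = n456 := d3_1 D618 (iv D456) D455
theorem F2778 : act 2 n618 = n475 := d16_1 D618 (iv D475) (iv F2102)
theorem F2779 : act 7 n618 = n460 := d28_2 (iv F2104) D618 (iv D460)
def n619 : Q := act 3 n456
theorem D619 : act 3 n456 = n619 := rfl
theorem F2780 : act 1 n619 = n457 := d9_1 D619 (iv D457) (iv F2105)
def n620 : Q := act 5 n456
theorem D620 : act 5 n456 = n620 := rfl
theorem F2781 : act 1 n620 = n458 := d11_1 D620 (iv D458) (iv F2105)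
theorem F2782 : act 2 n620 = n477 := d17_1 D620 (iv D477) (iv F2106)
theorem F2783 : act 4 n620 = n620 := d26_1 D620 (iv D620) (iv D456) F1589 D456
theorem F2784 : act 7 n620 = n462 := d31_2 (iv F2107) D620 (iv D462)
def n621 : Q := act 5 n457
theorem D621 : act 5 n457 = n621 := rfl
theorem F2785 : act 2 n621 = n621 := d17_1 D621 (iv D621) F2108
theorem F2786 : act 3 n621 = n458 := d22_1 D621 (iv D458) D457
def n622 : Q := act 7 n457
theorem D622 : act 7 n457 = n622 := rfl
theorem F2787 : act 2 n622 = n622 := d19_1 D622 (iv D622) F2108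
theorem F2788 : act 3 n622 = n464 := d24_1 D622 (iv D464) (iv D341) (iv F1592) D457
def n623 : Q := act 6 n458
theorem D623 : act 6 n458 = n623 := rfl
theorem F2789 : act 2 n623 = n459 := d18_1 D623 (iv D459) (iv F2109)
theorem F2790 : act 4 n623 = n623 := d27_1 D623 (iv D623) F2110
theorem F2791 : act 7 n623 = n465 := d33_2 (iv F2111) D623 (iv D465)
def n624 : Q := act 3 n460
theorem D624 : act 3 n460 = n624 := rfl
theorem F2792 : act 0 n624 = n461 := d2_1 D624 (iv D461) (iv F2116)
theorem F2793 : act 2 n624 = n624 := d15_1 D624 (iv D624) F2117 F1658 (iv F2117)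
theorem F2794 : act 4 n624 = n624 := d21_2 D460 D624 (iv D624) (iv D460) F1598
theorem F2795 : act 8 n624 = n624 := d25_2 F2118 D624 (iv D624)
def n625 : Q := act 5 n460
theorem D625 : act 5 n460 = n625 := rfl
theorem F2796 : act 0 n625 = n462 := d4_1 D625 (iv D462) (iv F2116)
theorem F2797 : act 2 n625 = n480 := d17_1 D625 (iv D480) (iv F2117)
theorem F2798 : act 4 n625 = n625 := d26_1 D625 (iv D625) (iv D460) F1599 D460
theorem F2799 : act 8 n625 = n625 := d32_2 F2118 D625 (iv D625)
def n626 : Q := act 5 n461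
theorem D626 : act 5 n461 = n626 := rfl
theorem F2800 : act 1 n626 = n463 := d11_1 D626 (iv D463) (iv F2119)
theorem F2802 : act 3 n626 = n462 := d22_1 D626 (iv D462) D461
def n627 : Q := act 7 n461
theorem D627 : act 7 n461 = n627 := rfl
theorem F2804 : act 1 n627 = n464 := d13_1 D627 (iv D464) (iv F2119)
theorem F2805 : act 2 n627 = n627 := d19_1 D627 (iv D627) F2120
theorem F2806 : act 4 n627 = n627 := d28_1 D627 (iv D627) F2121
def n628 : Q := act 6 n462
theorem D628 : act 6 n462 = n628 := rfl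
theorem F2807 : act 1 n628 = n465 := d12_1 D628 (iv D465) (iv F2123)
theorem F2808 : act 2 n628 = n481 := d18_1 D628 (iv D481) (iv F2124)
theorem F2809 : act 4 n628 = n628 := d27_1 D628 (iv D628) F2125
theorem F2810 : act 8 n628 = n628 := d34_2 F2126 D628 (iv D628)
def n630 : Q := act 6 n463
theorem D630 : act 6 n463 = n630 := rfl
theorem F2815 : act 2 n630 = n467 := d18_1 D630 (iv D467) (iv F2127)
theorem F2816 : act 3 n630 = n465 := d23_1 D630 (iv D465) (iv F2128)
def n631 : Q := act 7 n463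
theorem D631 : act 7 n463 = n631 := rfl
theorem F2818 : act 2 n631 = n468 := d19_1 D631 (iv D468) (iv F2127)
theorem F2819 : act 5 n631 = n464 := d31_1 D631 (iv D464) D463
def n632 : Q := act 8 n464
theorem D632 : act 8 n464 = n632 := rfl
theorem F2820 : act 2 n632 = n469 := d20_1 D632 (iv D469) (iv F2130)
def n635 : Q := act 7 n467
theorem D635 : act 7 n467 = n635 := rfl
def n637 : Q := act 4 n470
theorem D637 : act 4 n470 = n637 := rfl
theorem F2837 : act 0 n637 = n471 := d3_1 D637 (iv D471) D470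
theorem F2838 : act 1 n637 = n637 := d10_1 D637 (iv D637) F2149
theorem F2839 : act 7 n637 = n637 := d28_2 F2152 D637 (iv D637)
theorem F2840 : act 8 n637 = n475 := d29_2 (iv F2153) D637 (iv D475)
def n638 : Q := act 3 n471
theorem D638 : act 3 n471 = n638 := rfl
theorem F2841 : act 1 n638 = n472 := d9_1 D638 (iv D472) (iv F2154)
theorem F2842 : act 4 n638 = n638 := d21_2 D471 D638 (iv D638) (iv D471) F1625
theorem F2843 : act 8 n638 = n476 := d25_2 (iv F2156) D638 (iv D476)
def n639 : Q := act 5 n471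
theorem D639 : act 5 n471 = n639 := rfl
theorem F2844 : act 1 n639 = n473 := d11_1 D639 (iv D473) (iv F2154)
theorem F2845 : act 4 n639 = n639 := d26_1 D639 (iv D639) (iv D471) F1626 D471
theorem F2846 : act 7 n639 = n639 := d31_2 F2155 D639 (iv D639)
theorem F2847 : act 8 n639 = n477 := d32_2 (iv F2156) D639 (iv D477)
def n640 : Q := act 5 n472
theorem D640 : act 5 n472 = n640 := rfl
theorem F2848 : act 0 n640 = n640 := d4_1 D640 (iv D640) F2157
theorem F2849 : act 2 n640 = n640 := d17_1 D640 (iv D640) F2158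
theorem F2850 : act 3 n640 = n473 := d22_1 D640 (iv D473) D472
theorem F2851 : act 8 n640 = n478 := d32_2 (iv F2160) D640 (iv D478)
def n641 : Q := act 7 n472
theorem D641 : act 7 n472 = n641 := rfl
theorem F2852 : act 0 n641 = n641 := d6_1 D641 (iv D641) F2157
theorem F2853 : act 2 n641 = n641 := d19_1 D641 (iv D641) F2158
theorem F2854 : act 3 n641 = n641 := d24_1 D641 (iv D641) (iv D472) F1631 D472
theorem F2855 : act 4 n641 = n641 := d28_1 D641 (iv D641) F2159
theorem F2856 : act 8 n641 = n641 := d35_2 (iv F2160) D641 (iv D641) F2160 F1647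
def n642 : Q := act 6 n473
theorem D642 : act 6 n473 = n642 := rfl
theorem F2857 : act 0 n642 = n642 := d5_1 D642 (iv D642) F2161
theorem F2858 : act 2 n642 = n474 := d18_1 D642 (iv D474) (iv F2162)
theorem F2859 : act 4 n642 = n642 := d27_1 D642 (iv D642) F2163
theorem F2860 : act 7 n642 = n642 := d33_2 F2164 D642 (iv D642)
theorem F2861 : act 8 n642 = n479 := d34_2 (iv F2165) D642 (iv D479)
def n643 : Q := act 3 n475
theorem D643 : act 3 n475 = n643 := rfl
theorem F2862 : act 0 n643 = n476 := d2_1 D643 (iv D476) (iv F2171)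
theorem F2863 : act 1 n643 = n643 := d9_1 D643 (iv D643) F2172
theorem F2864 : act 4 n643 = n643 := d21_2 D475 D643 (iv D643) (iv D475) F1639
theorem F2865 : act 7 n643 = n643 := d24_2 (iv F2173) D643 (iv D643) F2173 F1658
def n644 : Q := act 5 n475
theorem D644 : act 5 n475 = n644 := rfl
theorem F2866 : act 0 n644 = n477 := d4_1 D644 (iv D477) (iv F2171)
theorem F2867 : act 1 n644 = n644 := d11_1 D644 (iv D644) F2172
theorem F2868 : act 4 n644 = n644 := d26_1 D644 (iv D644) (iv D475) F1640 D475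
theorem F2869 : act 7 n644 = n480 := d31_2 (iv F2173) D644 (iv D480)
def n645 : Q := act 2 n476
theorem D645 : act 2 n476 = n645 := rfl
theorem F2870 : act 1 n645 = n645 := d8_1 D645 (iv D645) F2174 F1645 (iv F2174)
theorem F2871 : act 4 n645 = n645 := d16_2 F2175 D645 (iv D645)
theorem F2872 : act 7 n645 = n645 := d19_2 F2176 D645 (iv D645)
def n646 : Q := act 5 n476
theorem D646 : act 5 n476 = n646 := rfl
theorem F2873 : act 1 n646 = n478 := d11_1 D646 (iv D478) (iv F2174)
theorem F2874 : act 3 n646 = n477 := d22_1 D646 (iv D477) D476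
theorem F2875 : act 7 n646 = n646 := d31_2 F2176 D646 (iv D646)
def n647 : Q := act 6 n477
theorem D647 : act 6 n477 = n647 := rfl
theorem F2876 : act 1 n647 = n479 := d12_1 D647 (iv D479) (iv F2177)
theorem F2877 : act 4 n647 = n647 := d27_1 D647 (iv D647) F2178
theorem F2878 : act 7 n647 = n481 := d33_2 (iv F2179) D647 (iv D481)
def n648 : Q := act 4 n478
theorem D648 : act 4 n478 = n648 := rfl
theorem F2879 : act 0 n648 = n648 := d3_1 D648 (iv D648) F2180
theorem F2880 : act 2 n648 = n648 := d16_1 D648 (iv D648) F2181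
theorem F2881 : act 3 n648 = n648 := d21_1 D648 (iv D648) F2182 F1650 (iv F2182)
theorem F2882 : act 5 n648 = n648 := d26_2 D478 D648 (iv D648) (iv D478) F1646
theorem F2883 : act 7 n648 = n648 := d28_2 F2183 D648 (iv D648)
def n649 : Q := act 6 n478
theorem D649 : act 6 n478 = n649 := rfl
theorem F2884 : act 0 n649 = n649 := d5_1 D649 (iv D649) F2180
theorem F2885 : act 2 n649 = n649 := d18_1 D649 (iv D649) F2181
theorem F2886 : act 3 n649 = n479 := d23_1 D649 (iv D479) (iv F2182)
theorem F2887 : act 7 n649 = n649 := d33_2 F2183 D649 (iv D649)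
def n650 : Q := act 6 n480
theorem D650 : act 6 n480 = n650 := rfl
theorem F2888 : act 0 n650 = n481 := d5_1 D650 (iv D481) (iv F2188)
theorem F2889 : act 1 n650 = n650 := d12_1 D650 (iv D650) F2189
theorem F2890 : act 3 n650 = n650 := d23_1 D650 (iv D650) F2190
theorem F2891 : act 4 n650 = n650 := d27_1 D650 (iv D650) F2191
theorem F2892 : act 8 n650 = n650 := d34_2 F2192 D650 (iv D650)
def n655 : Q := act 7 n483
theorem D655 : act 7 n483 = n655 := rfl
theorem F2912 : act 0 n655 = n655 := d6_1 D655 (iv D655) F2203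
theorem F2913 : act 1 n655 = n488 := d13_1 D655 (iv D488) (iv F2204)
def n658 : Q := act 7 n486
theorem D658 : act 7 n486 = n658 := rfl
theorem F2928 : act 4 n658 = n488 := d28_1 D658 (iv D488) D486
theorem F2929 : act 5 n658 = n658 := d31_1 D658 (iv D658) F2220
def n666 : Q := act 2 n494
theorem D666 : act 2 n494 = n666 := rfl
theorem F2963 : act 0 n666 = n522 := d1_1 D666 (iv D522) (iv F2255)
theorem F2964 : act 5 n666 = n666 := d17_2 F2257 D666 (iv D666)
theorem F2965 : act 6 n666 = n666 := d18_2 F2258 D666 (iv D666)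
theorem F2966 : act 7 n666 = n666 := d19_2 F2259 D666 (iv D666)
def n667 : Q := act 4 n494
theorem D667 : act 4 n494 = n667 := rfl
theorem F2967 : act 0 n667 = n523 := d3_1 D667 (iv D523) (iv F2255)
theorem F2968 : act 1 n667 = n667 := d10_1 D667 (iv D667) F2256
theorem F2969 : act 3 n667 = n496 := d21_1 D667 (iv D496) (iv D368) (iv F1714) D494
theorem F2970 : act 6 n667 = n667 := d27_2 F2258 D667 (iv D667)
theorem F2971 : act 7 n667 = n667 := d28_2 F2259 D667 (iv D667)
def n668 : Q := act 1 n495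
theorem D668 : act 1 n495 = n668 := rfl
theorem F2972 : act 2 n668 = n668 := d8_2 D495 D668 (iv D668) (iv D495) F1718
theorem F2973 : act 5 n668 = n497 := d11_2 (iv F2261) D668 (iv D497)
theorem F2974 : act 6 n668 = n668 := d12_2 F2262 D668 (iv D668)
theorem F2975 : act 7 n668 = n500 := d13_2 (iv F2263) D668 (iv D500)
def n669 : Q := act 4 n495
theorem D669 : act 4 n495 = n669 := rfl
theorem F2976 : act 0 n669 = n527 := d3_1 D669 (iv D527) (iv F2260)
theorem F2977 : act 2 n669 = n496 := d16_1 D669 (iv D496) D495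
theorem F2978 : act 6 n669 = n669 := d27_2 F2262 D669 (iv D669)
theorem F2979 : act 7 n669 = n501 := d28_2 (iv F2263) D669 (iv D501)
def n670 : Q := act 5 n496
theorem D670 : act 5 n496 = n670 := rfl
theorem F2980 : act 0 n670 = n528 := d4_1 D670 (iv D528) (iv F2264)
theorem F2981 : act 1 n670 = n670 := d11_1 D670 (iv D670) F2265
theorem F2982 : act 4 n670 = n499 := d26_1 D670 (iv D499) (iv D370) (iv F1719) D496
theorem F2983 : act 7 n670 = n502 := d31_2 (iv F2267) D670 (iv D502)
def n671 : Q := act 0 n497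
theorem D671 : act 0 n497 = n671 := rfl
theorem F2984 : act 1 n671 = n532 := d0_2 D497 D671 (iv D532) (iv D393) (iv F1722)
theorem F2985 : act 2 n671 = n671 := d1_2 F2268 D671 (iv D671)
theorem F2986 : act 6 n671 = n589 := d5_2 (iv F2269) D671 (iv D589)
theorem F2987 : act 7 n671 = n503 := d6_2 (iv F2270) D671 (iv D503)
def n672 : Q := act 4 n497
theorem D672 : act 4 n497 = n672 := rfl
theorem F2988 : act 1 n672 = n498 := d10_1 D672 (iv D498) D497
theorem F2989 : act 2 n672 = n672 := d16_1 D672 (iv D672) F2268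
theorem F2990 : act 6 n672 = n590 := d27_2 (iv F2269) D672 (iv D590)
theorem F2991 : act 7 n672 = n504 := d28_2 (iv F2270) D672 (iv D504)
def n673 : Q := act 3 n498
theorem D673 : act 3 n498 = n673 := rfl
theorem F2992 : act 0 n673 = n534 := d2_1 D673 (iv D534) (iv F2271)
theorem F2993 : act 2 n673 = n673 := d15_1 D673 (iv D673) F2272 F1727 (iv F2272)
theorem F2994 : act 6 n673 = n591 := d23_2 (iv F2273) D673 (iv D591)
def n674 : Q := act 5 n498
theorem D674 : act 5 n498 = n674 := rfl
theorem F2995 : act 0 n674 = n535 := d4_1 D674 (iv D535) (iv F2271)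
theorem F2996 : act 2 n674 = n499 := d17_1 D674 (iv D499) (iv F2272)
theorem F2997 : act 7 n674 = n506 := d31_2 (iv F2274) D674 (iv D506)
def n675 : Q := act 6 n499
theorem D675 : act 6 n499 = n675 := rfl
theorem F2998 : act 0 n675 = n536 := d5_1 D675 (iv D536) (iv F2275)
theorem F3002 : act 7 n675 = n507 := d33_2 (iv F2278) D675 (iv D507)
def n676 : Q := act 0 n500
theorem D676 : act 0 n500 = n676 := rfl
theorem F3003 : act 1 n676 = n537 := d0_2 D500 D676 (iv D537) (iv D396) (iv F1730)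
theorem F3004 : act 2 n676 = n676 := d1_2 F2279 D676 (iv D676)
theorem F3005 : act 3 n676 = n676 := d2_2 F2280 D676 (iv D676)
theorem F3006 : act 5 n676 = n503 := d4_2 (iv F2281) D676 (iv D503)
theorem F3007 : act 6 n676 = n676 := d5_2 F2282 D676 (iv D676)
theorem F3008 : act 8 n676 = n676 := d7_2 F2283 D676 (iv D676)
def n677 : Q := act 4 n500
theorem D677 : act 4 n500 = n677 := rfl
theorem F3009 : act 1 n677 = n501 := d10_1 D677 (iv D501) D500
theorem F3010 : act 2 n677 = n677 := d16_1 D677 (iv D677) F2279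
theorem F3011 : act 6 n677 = n677 := d27_2 F2282 D677 (iv D677)
theorem F3012 : act 8 n677 = n677 := d29_2 F2283 D677 (iv D677)
def n678 : Q := act 3 n501
theorem D678 : act 3 n501 = n678 := rfl
theorem F3013 : act 0 n678 = n539 := d2_1 D678 (iv D539) (iv F2284)
theorem F3014 : act 2 n678 = n678 := d15_1 D678 (iv D678) F2285 F1737 (iv F2285)
theorem F3015 : act 4 n678 = n678 := d21_2 D501 D678 (iv D678) (iv D501) F1731
theorem F3016 : act 6 n678 = n678 := d23_2 F2286 D678 (iv D678)
theorem F3017 : act 8 n678 = n678 := d25_2 F2287 D678 (iv D678)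
def n679 : Q := act 5 n501
theorem D679 : act 5 n501 = n679 := rfl
theorem F3018 : act 0 n679 = n540 := d4_1 D679 (iv D540) (iv F2284)
theorem F3019 : act 2 n679 = n502 := d17_1 D679 (iv D502) (iv F2285)
theorem F3020 : act 4 n679 = n506 := d26_1 D679 (iv D506) (iv D374) (iv F1732) D501
theorem F3021 : act 8 n679 = n679 := d32_2 F2287 D679 (iv D679)
def n680 : Q := act 6 n502
theorem D680 : act 6 n502 = n680 := rfl
theorem F3022 : act 0 n680 = n541 := d5_1 D680 (iv D541) (iv F2288)
def n681 : Q := act 4 n503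
theorem D681 : act 4 n503 = n681 := rfl
theorem F3028 : act 0 n681 = n504 := d3_1 D681 (iv D504) D503
theorem F3029 : act 1 n681 = n542 := d10_1 D681 (iv D542) (iv F2293)
theorem F3030 : act 2 n681 = n681 := d16_1 D681 (iv D681) F2294
theorem F3031 : act 6 n681 = n594 := d27_2 (iv F2296) D681 (iv D594)
theorem F3032 : act 8 n681 = n681 := d29_2 F2297 D681 (iv D681)
def n683 : Q := act 5 n504
theorem D683 : act 5 n504 = n683 := rfl
theorem F3037 : act 1 n683 = n506 := d11_1 D683 (iv D506) (iv F2298)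
theorem F3038 : act 2 n683 = n683 := d17_1 D683 (iv D683) F2299
theorem F3039 : act 8 n683 = n683 := d32_2 F2301 D683 (iv D683)
def n685 : Q := act 7 n505
theorem D685 : act 7 n505 = n685 := rfl
theorem F3044 : act 0 n685 = n546 := d6_1 D685 (iv D546) (iv F2302)
theorem F3045 : act 2 n685 = n511 := d19_1 D685 (iv D511) (iv F2303)
def n686 : Q := act 6 n506
theorem D686 : act 6 n506 = n686 := rfl
theorem F3048 : act 0 n686 = n547 := d5_1 D686 (iv D547) (iv F2307)
def n694 : Q := act 8 n511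
theorem D694 : act 8 n511 = n694 := rfl
theorem F3084 : act 0 n694 = n551 := d7_1 D694 (iv D551) (iv F2329)
def n695 : Q := act 3 n513
theorem D695 : act 3 n513 = n695 := rfl
theorem F3089 : act 1 n695 = n695 := d9_1 D695 (iv D695) F2339
theorem F3090 : act 5 n695 = n695 := d22_2 F2342 D695 (iv D695)
theorem F3091 : act 6 n695 = n695 := d23_2 F2343 D695 (iv D695)
theorem F3092 : act 7 n695 = n514 := d24_2 D513 D695 (iv D514) (iv D381) (iv F1775)
theorem F3093 : act 8 n695 = n695 := d25_2 F2344 D695 (iv D695)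
def n696 : Q := act 2 n514
theorem D696 : act 2 n514 = n696 := rfl
theorem F3094 : act 3 n696 = n522 := d15_2 D514 D696 (iv D522) (iv D387) (iv F1780)
theorem F3095 : act 5 n696 = n696 := d17_2 F2346 D696 (iv D696)
theorem F3096 : act 6 n696 = n696 := d18_2 F2347 D696 (iv D696)
theorem F3097 : act 8 n696 = n666 := d20_2 (iv F2348) D696 (iv D666)
def n697 : Q := act 4 n514
theorem D697 : act 4 n514 = n697 := rfl
theorem F3098 : act 1 n697 = n697 := d10_1 D697 (iv D697) F2345
theorem F3099 : act 3 n697 = n516 := d21_1 D697 (iv D516) (iv D382) (iv F1781) D514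
theorem F3100 : act 6 n697 = n697 := d27_2 F2347 D697 (iv D697)
theorem F3101 : act 8 n697 = n667 := d29_2 (iv F2348) D697 (iv D667)
def n698 : Q := act 1 n515
theorem D698 : act 1 n515 = n698 := rfl
theorem F3102 : act 2 n698 = n698 := d8_2 D515 D698 (iv D698) (iv D515) F1785
theorem F3103 : act 3 n698 = n526 := d9_2 (iv F2349) D698 (iv D526)
theorem F3104 : act 5 n698 = n517 := d11_2 (iv F2350) D698 (iv D517)
theorem F3105 : act 6 n698 = n698 := d12_2 F2351 D698 (iv D698)
theorem F3106 : act 7 n698 = n698 := d13_2 F2352 D698 (iv D698)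
theorem F3107 : act 8 n698 = n668 := d14_2 (iv F2353) D698 (iv D668)
def n699 : Q := act 4 n515
theorem D699 : act 4 n515 = n699 := rfl
theorem F3108 : act 2 n699 = n516 := d16_1 D699 (iv D516) D515
theorem F3109 : act 6 n699 = n699 := d27_2 F2351 D699 (iv D699)
theorem F3110 : act 7 n699 = n699 := d28_2 F2352 D699 (iv D699)
theorem F3111 : act 8 n699 = n669 := d29_2 (iv F2353) D699 (iv D669)
def n700 : Q := act 5 n516
theorem D700 : act 5 n516 = n700 := rfl
theorem F3112 : act 1 n700 = n700 := d11_1 D700 (iv D700) F2354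
theorem F3113 : act 4 n700 = n519 := d26_1 D700 (iv D519) (iv D384) (iv F1786) D516
theorem F3114 : act 7 n700 = n700 := d31_2 F2356 D700 (iv D700)
theorem F3115 : act 8 n700 = n670 := d32_2 (iv F2357) D700 (iv D670)
def n701 : Q := act 0 n517
theorem D701 : act 0 n517 = n701 := rfl
theorem F3116 : act 2 n701 = n701 := d1_2 F2358 D701 (iv D701)
theorem F3117 : act 3 n701 = n532 := d2_2 (iv F2359) D701 (iv D532)
theorem F3118 : act 6 n701 = n608 := d5_2 (iv F2360) D701 (iv D608)
theorem F3119 : act 7 n701 = n701 := d6_2 F2361 D701 (iv D701)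
theorem F3120 : act 8 n701 = n671 := d7_2 (iv F2362) D701 (iv D671)
def n702 : Q := act 4 n517
theorem D702 : act 4 n517 = n702 := rfl
theorem F3121 : act 1 n702 = n518 := d10_1 D702 (iv D518) D517
theorem F3122 : act 2 n702 = n702 := d16_1 D702 (iv D702) F2358
theorem F3123 : act 6 n702 = n609 := d27_2 (iv F2360) D702 (iv D609)
theorem F3124 : act 7 n702 = n702 := d28_2 F2361 D702 (iv D702)
theorem F3125 : act 8 n702 = n672 := d29_2 (iv F2362) D702 (iv D672)
def n703 : Q := act 3 n518
theorem D703 : act 3 n518 = n703 := rfl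
theorem F3126 : act 2 n703 = n703 := d15_1 D703 (iv D703) F2363 F1795 (iv F2363)
theorem F3127 : act 4 n703 = n534 := d21_2 D518 D703 (iv D534) (iv D394) (iv F1790)
theorem F3128 : act 6 n703 = n610 := d23_2 (iv F2364) D703 (iv D610)
theorem F3129 : act 8 n703 = n673 := d25_2 (iv F2366) D703 (iv D673)
def n704 : Q := act 5 n518
theorem D704 : act 5 n518 = n704 := rfl
theorem F3130 : act 2 n704 = n519 := d17_1 D704 (iv D519) (iv F2363)
theorem F3131 : act 7 n704 = n704 := d31_2 F2365 D704 (iv D704)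
theorem F3132 : act 8 n704 = n674 := d32_2 (iv F2366) D704 (iv D674)
def n705 : Q := act 6 n519
theorem D705 : act 6 n519 = n705 := rfl
theorem F3133 : act 1 n705 = n705 := d12_1 D705 (iv D705) F2367
theorem F3134 : act 3 n705 = n705 := d23_1 D705 (iv D705) F2368
theorem F3136 : act 7 n705 = n705 := d33_2 F2369 D705 (iv D705)
theorem F3137 : act 8 n705 = n675 := d34_2 (iv F2370) D705 (iv D675)
def n706 : Q := act 3 n520
theorem D706 : act 3 n520 = n706 := rfl
theorem F3138 : act 0 n706 = n695 := d2_1 D706 (iv D695) (iv F2371)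
theorem F3139 : act 1 n706 = n553 := d9_1 D706 (iv D553) (iv F2372)
theorem F3140 : act 5 n706 = n706 := d22_2 F2375 D706 (iv D706)
theorem F3141 : act 6 n706 = n706 := d23_2 F2376 D706 (iv D706)
theorem F3142 : act 7 n706 = n521 := d24_2 D520 D706 (iv D521) (iv D386) (iv F1802)
theorem F3143 : act 8 n706 = n706 := d25_2 F2377 D706 (iv D706)
def n707 : Q := act 2 n521
theorem D707 : act 2 n521 = n707 := rfl
theorem F3144 : act 0 n707 = n696 := d1_1 D707 (iv D696) (iv F2378)
theorem F3145 : act 3 n707 = n666 := d15_2 D521 D707 (iv D666) (iv D494) (iv F1808)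
theorem F3146 : act 5 n707 = n707 := d17_2 F2380 D707 (iv D707)
theorem F3147 : act 6 n707 = n707 := d18_2 F2381 D707 (iv D707)
theorem F3148 : act 8 n707 = n522 := d20_2 (iv F2382) D707 (iv D522)
def n708 : Q := act 4 n521
theorem D708 : act 4 n521 = n708 := rfl
theorem F3149 : act 0 n708 = n697 := d3_1 D708 (iv D697) (iv F2378)
theorem F3150 : act 1 n708 = n555 := d10_1 D708 (iv D555) (iv F2379)
theorem F3151 : act 3 n708 = n525 := d21_1 D708 (iv D525) (iv D388) (iv F1809) D521
theorem F3152 : act 6 n708 = n708 := d27_2 F2381 D708 (iv D708)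
theorem F3153 : act 8 n708 = n523 := d29_2 (iv F2382) D708 (iv D523)
def n709 : Q := act 1 n522
theorem D709 : act 1 n522 = n709 := rfl
theorem F3154 : act 2 n709 = n556 := d8_2 D522 D709 (iv D556) (iv D410) (iv F1813)
theorem F3155 : act 5 n709 = n709 := d11_2 F2383 D709 (iv D709)
theorem F3156 : act 6 n709 = n709 := d12_2 F2384 D709 (iv D709)
theorem F3157 : act 7 n709 = n709 := d13_2 F2385 D709 (iv D709)
def n710 : Q := act 4 n522
theorem D710 : act 4 n522 = n710 := rfl
theorem F3158 : act 2 n710 = n523 := d16_1 D710 (iv D523) D522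
theorem F3159 : act 6 n710 = n710 := d27_2 F2384 D710 (iv D710)
theorem F3160 : act 7 n710 = n710 := d28_2 F2385 D710 (iv D710)
def n711 : Q := act 5 n523
theorem D711 : act 5 n523 = n711 := rfl
theorem F3161 : act 1 n711 = n558 := d11_1 D711 (iv D558) (iv F2386)
theorem F3162 : act 3 n711 = n528 := d22_1 D711 (iv D528) (iv F2387)
theorem F3163 : act 4 n711 = n711 := d26_1 D711 (iv D711) (iv D523) F1814 D523
theorem F3164 : act 7 n711 = n711 := d31_2 F2389 D711 (iv D711)
def n712 : Q := act 1 n524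
theorem D712 : act 1 n524 = n712 := rfl
theorem F3165 : act 2 n712 = n559 := d8_2 D524 D712 (iv D559) (iv D412) (iv F1818)
theorem F3166 : act 3 n712 = n668 := d9_2 (iv F2391) D712 (iv D668)
theorem F3167 : act 5 n712 = n529 := d11_2 (iv F2392) D712 (iv D529)
theorem F3168 : act 6 n712 = n712 := d12_2 F2393 D712 (iv D712)
theorem F3169 : act 7 n712 = n712 := d13_2 F2394 D712 (iv D712)
theorem F3170 : act 8 n712 = n526 := d14_2 (iv F2395) D712 (iv D526)
def n713 : Q := act 4 n524
theorem D713 : act 4 n524 = n713 := rfl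
theorem F3171 : act 0 n713 = n699 := d3_1 D713 (iv D699) (iv F2390)
theorem F3172 : act 2 n713 = n525 := d16_1 D713 (iv D525) D524
theorem F3173 : act 6 n713 = n713 := d27_2 F2393 D713 (iv D713)
theorem F3174 : act 7 n713 = n713 := d28_2 F2394 D713 (iv D713)
theorem F3175 : act 8 n713 = n527 := d29_2 (iv F2395) D713 (iv D527)
def n714 : Q := act 5 n525
theorem D714 : act 5 n525 = n714 := rfl
theorem F3176 : act 0 n714 = n700 := d4_1 D714 (iv D700) (iv F2396)
theorem F3177 : act 1 n714 = n561 := d11_1 D714 (iv D561) (iv F2397)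
theorem F3178 : act 4 n714 = n531 := d26_1 D714 (iv D531) (iv D392) (iv F1819) D525
theorem F3179 : act 7 n714 = n714 := d31_2 F2399 D714 (iv D714)
theorem F3180 : act 8 n714 = n528 := d32_2 (iv F2400) D714 (iv D528)
def n715 : Q := act 0 n526
theorem D715 : act 0 n526 = n715 := rfl
theorem F3181 : act 2 n715 = n562 := d1_2 (iv F2401) D715 (iv D562)
theorem F3182 : act 5 n715 = n532 := d4_2 (iv F2402) D715 (iv D532)
theorem F3183 : act 6 n715 = n715 := d5_2 F2403 D715 (iv D715)
theorem F3184 : act 7 n715 = n537 := d6_2 (iv F2404) D715 (iv D537)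
def n716 : Q := act 4 n526
theorem D716 : act 4 n526 = n716 := rfl
theorem F3185 : act 1 n716 = n527 := d10_1 D716 (iv D527) D526
theorem F3186 : act 2 n716 = n563 := d16_1 D716 (iv D563) (iv F2401)
theorem F3187 : act 6 n716 = n716 := d27_2 F2403 D716 (iv D716)
theorem F3188 : act 7 n716 = n538 := d28_2 (iv F2404) D716 (iv D538)
def n717 : Q := act 3 n527
theorem D717 : act 3 n527 = n717 := rfl
theorem F3189 : act 6 n717 = n717 := d23_2 F2406 D717 (iv D717)
def n718 : Q := act 5 n527
theorem D718 : act 5 n527 = n718 := rfl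
theorem F3190 : act 2 n718 = n528 := d17_1 D718 (iv D528) (iv F2405)
theorem F3191 : act 4 n718 = n535 := d26_1 D718 (iv D535) (iv D394) (iv F1823) D527
theorem F3192 : act 7 n718 = n540 := d31_2 (iv F2407) D718 (iv D540)
def n719 : Q := act 6 n528
theorem D719 : act 6 n528 = n719 := rfl
theorem F3193 : act 1 n719 = n566 := d12_1 D719 (iv D566) (iv F2408)
theorem F3194 : act 4 n719 = n536 := d27_1 D719 (iv D536) (iv F2409)
theorem F3195 : act 5 n719 = n719 := d30_1 D719 (iv D719) (iv D528) F1827 D528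
theorem F3196 : act 7 n719 = n541 := d33_2 (iv F2410) D719 (iv D541)
def n720 : Q := act 0 n529
theorem D720 : act 0 n529 = n720 := rfl
theorem F3197 : act 1 n720 = n701 := d0_2 D529 D720 (iv D701) (iv D517) (iv F1829)
theorem F3198 : act 2 n720 = n567 := d1_2 (iv F2411) D720 (iv D567)
theorem F3199 : act 3 n720 = n671 := d2_2 (iv F2412) D720 (iv D671)
theorem F3200 : act 6 n720 = n613 := d5_2 (iv F2413) D720 (iv D613)
theorem F3201 : act 7 n720 = n720 := d6_2 F2414 D720 (iv D720)
theorem F3202 : act 8 n720 = n532 := d7_2 (iv F2415) D720 (iv D532)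
def n721 : Q := act 4 n529
theorem D721 : act 4 n529 = n721 := rfl
theorem F3203 : act 1 n721 = n530 := d10_1 D721 (iv D530) D529
theorem F3204 : act 2 n721 = n568 := d16_1 D721 (iv D568) (iv F2411)
theorem F3205 : act 6 n721 = n614 := d27_2 (iv F2413) D721 (iv D614)
theorem F3206 : act 7 n721 = n721 := d28_2 F2414 D721 (iv D721)
theorem F3207 : act 8 n721 = n533 := d29_2 (iv F2415) D721 (iv D533)
def n722 : Q := act 3 n530
theorem D722 : act 3 n530 = n722 := rfl
theorem F3208 : act 0 n722 = n703 := d2_1 D722 (iv D703) (iv F2416)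
theorem F3209 : act 2 n722 = n722 := d15_1 D722 (iv D722) F2417 F1836 (iv F2417)
theorem F3210 : act 4 n722 = n673 := d21_2 D530 D722 (iv D673) (iv D498) (iv F1830)
theorem F3211 : act 6 n722 = n615 := d23_2 (iv F2418) D722 (iv D615)
theorem F3212 : act 8 n722 = n534 := d25_2 (iv F2420) D722 (iv D534)
def n723 : Q := act 5 n530
theorem D723 : act 5 n530 = n723 := rfl
theorem F3213 : act 0 n723 = n704 := d4_1 D723 (iv D704) (iv F2416)
theorem F3214 : act 2 n723 = n531 := d17_1 D723 (iv D531) (iv F2417)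
theorem F3215 : act 7 n723 = n723 := d31_2 F2419 D723 (iv D723)
theorem F3216 : act 8 n723 = n535 := d32_2 (iv F2420) D723 (iv D535)
def n724 : Q := act 6 n531
theorem D724 : act 6 n531 = n724 := rfl
theorem F3217 : act 0 n724 = n705 := d5_1 D724 (iv D705) (iv F2421)
theorem F3218 : act 1 n724 = n571 := d12_1 D724 (iv D571) (iv F2422)
theorem F3219 : act 3 n724 = n724 := d23_1 D724 (iv D724) F2423
theorem F3220 : act 5 n724 = n617 := d30_1 D724 (iv D617) (iv D454) (iv F1837) D531
theorem F3221 : act 7 n724 = n724 := d33_2 F2424 D724 (iv D724)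
theorem F3222 : act 8 n724 = n536 := d34_2 (iv F2425) D724 (iv D536)
def n725 : Q := act 4 n532
theorem D725 : act 4 n532 = n725 := rfl
theorem F3223 : act 0 n725 = n533 := d3_1 D725 (iv D533) D532
theorem F3224 : act 2 n725 = n572 := d16_1 D725 (iv D572) (iv F2426)
theorem F3225 : act 6 n725 = n618 := d27_2 (iv F2427) D725 (iv D618)
theorem F3226 : act 7 n725 = n542 := d28_2 (iv F2428) D725 (iv D542)
def n726 : Q := act 3 n533
theorem D726 : act 3 n533 = n726 := rfl
theorem F3227 : act 1 n726 = n534 := d9_1 D726 (iv D534) (iv F2429)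
theorem F3228 : act 6 n726 = n619 := d23_2 (iv F2431) D726 (iv D619)
def n727 : Q := act 5 n533
theorem D727 : act 5 n533 = n727 := rfl
theorem F3229 : act 1 n727 = n535 := d11_1 D727 (iv D535) (iv F2429)
theorem F3230 : act 2 n727 = n574 := d17_1 D727 (iv D574) (iv F2430)
theorem F3231 : act 7 n727 = n544 := d31_2 (iv F2432) D727 (iv D544)
def n728 : Q := act 5 n534
theorem D728 : act 5 n534 = n728 := rfl
theorem F3232 : act 2 n728 = n728 := d17_1 D728 (iv D728) F2433
theorem F3233 : act 3 n728 = n535 := d22_1 D728 (iv D535) D534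
def n729 : Q := act 7 n534
theorem D729 : act 7 n534 = n729 := rfl
theorem F3234 : act 2 n729 = n729 := d19_1 D729 (iv D729) F2433
theorem F3235 : act 3 n729 = n546 := d24_1 D729 (iv D546) (iv D401) (iv F1845) D534
theorem F3236 : act 6 n729 = n622 := d33_1 D729 (iv D622) (iv F2434)
def n730 : Q := act 6 n535
theorem D730 : act 6 n535 = n730 := rfl
theorem F3237 : act 2 n730 = n536 := d18_1 D730 (iv D536) (iv F2435)
theorem F3238 : act 5 n730 = n623 := d30_1 D730 (iv D623) (iv D458) (iv F1844) D535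
theorem F3239 : act 7 n730 = n547 := d33_2 (iv F2436) D730 (iv D547)
def n731 : Q := act 4 n537
theorem D731 : act 4 n537 = n731 := rfl
theorem F3240 : act 0 n731 = n538 := d3_1 D731 (iv D538) D537
theorem F3241 : act 2 n731 = n577 := d16_1 D731 (iv D577) (iv F2441)
theorem F3242 : act 6 n731 = n731 := d27_2 F2444 D731 (iv D731)
theorem F3243 : act 8 n731 = n731 := d29_2 F2445 D731 (iv D731)
def n732 : Q := act 3 n538
theorem D732 : act 3 n538 = n732 := rfl
theorem F3244 : act 1 n732 = n539 := d9_1 D732 (iv D539) (iv F2446)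
theorem F3245 : act 4 n732 = n732 := d21_2 D538 D732 (iv D732) (iv D538) F1850
theorem F3246 : act 6 n732 = n732 := d23_2 F2448 D732 (iv D732)
theorem F3247 : act 8 n732 = n732 := d25_2 F2449 D732 (iv D732)
def n733 : Q := act 5 n538
theorem D733 : act 5 n538 = n733 := rfl
theorem F3248 : act 1 n733 = n540 := d11_1 D733 (iv D540) (iv F2446)
theorem F3249 : act 2 n733 = n579 := d17_1 D733 (iv D579) (iv F2447)
theorem F3250 : act 4 n733 = n544 := d26_1 D733 (iv D544) (iv D400) (iv F1851) D538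
theorem F3251 : act 8 n733 = n733 := d32_2 F2449 D733 (iv D733)
def n734 : Q := act 5 n539
theorem D734 : act 5 n539 = n734 := rfl
theorem F3252 : act 2 n734 = n734 := d17_1 D734 (iv D734) F2450
theorem F3253 : act 3 n734 = n540 := d22_1 D734 (iv D540) D539
theorem F3254 : act 8 n734 = n734 := d32_2 F2453 D734 (iv D734)
def n735 : Q := act 7 n539
theorem D735 : act 7 n539 = n735 := rfl
theorem F3255 : act 2 n735 = n735 := d19_1 D735 (iv D735) F2450
theorem F3256 : act 4 n735 = n735 := d28_1 D735 (iv D735) F2451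
theorem F3257 : act 6 n735 = n735 := d33_1 D735 (iv D735) F2452
def n736 : Q := act 6 n540
theorem D736 : act 6 n540 = n736 := rfl
theorem F3258 : act 2 n736 = n541 := d18_1 D736 (iv D541) (iv F2454)
theorem F3259 : act 4 n736 = n547 := d27_1 D736 (iv D547) (iv F2455)
theorem F3260 : act 5 n736 = n736 := d30_1 D736 (iv D736) (iv D540) F1855 D540
theorem F3261 : act 8 n736 = n736 := d34_2 F2456 D736 (iv D736)
def n737 : Q := act 3 n542
theorem D737 : act 3 n542 = n737 := rfl
theorem F3262 : act 0 n737 = n543 := d2_1 D737 (iv D543) (iv F2462)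
theorem F3263 : act 2 n737 = n737 := d15_1 D737 (iv D737) F2463 F1994 (iv F2463)
theorem F3264 : act 4 n737 = n737 := d21_2 D542 D737 (iv D737) (iv D542) F1862
theorem F3265 : act 6 n737 = n624 := d23_2 (iv F2464) D737 (iv D624)
theorem F3266 : act 8 n737 = n737 := d25_2 F2465 D737 (iv D737)
def n738 : Q := act 5 n542
theorem D738 : act 5 n542 = n738 := rfl
theorem F3267 : act 0 n738 = n544 := d4_1 D738 (iv D544) (iv F2462)
theorem F3268 : act 2 n738 = n583 := d17_1 D738 (iv D583) (iv F2463)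
theorem F3269 : act 8 n738 = n738 := d32_2 F2465 D738 (iv D738)
def n739 : Q := act 5 n543
theorem D739 : act 5 n543 = n739 := rfl
theorem F3270 : act 1 n739 = n545 := d11_1 D739 (iv D545) (iv F2466)
theorem F3271 : act 2 n739 = n739 := d17_1 D739 (iv D739) F2467
theorem F3272 : act 3 n739 = n544 := d22_1 D739 (iv D544) D543
theorem F3273 : act 8 n739 = n739 := d32_2 F2470 D739 (iv D739)
def n740 : Q := act 7 n543
theorem D740 : act 7 n543 = n740 := rfl
theorem F3274 : act 1 n740 = n546 := d13_1 D740 (iv D546) (iv F2466)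
theorem F3275 : act 2 n740 = n740 := d19_1 D740 (iv D740) F2467
theorem F3276 : act 4 n740 = n740 := d28_1 D740 (iv D740) F2468
theorem F3277 : act 6 n740 = n627 := d33_1 D740 (iv D627) (iv F2469)
def n741 : Q := act 6 n544
theorem D741 : act 6 n544 = n741 := rfl
theorem F3278 : act 1 n741 = n547 := d12_1 D741 (iv D547) (iv F2471)
theorem F3279 : act 2 n741 = n584 := d18_1 D741 (iv D584) (iv F2472)
theorem F3280 : act 5 n741 = n628 := d30_1 D741 (iv D628) (iv D462) (iv F1867) D544
theorem F3281 : act 8 n741 = n741 := d34_2 F2473 D741 (iv D741)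
def n742 : Q := act 4 n545
theorem D742 : act 4 n545 = n742 := rfl
theorem F3282 : act 2 n742 = n548 := d16_1 D742 (iv D548) (iv F2474)
theorem F3283 : act 5 n742 = n742 := d26_2 D545 D742 (iv D742) (iv D545) F1870
theorem F3284 : act 8 n742 = n742 := d29_2 F2476 D742 (iv D742)
def n743 : Q := act 6 n545
theorem D743 : act 6 n545 = n743 := rfl
theorem F3285 : act 2 n743 = n549 := d18_1 D743 (iv D549) (iv F2474)
theorem F3286 : act 3 n743 = n547 := d23_1 D743 (iv D547) (iv F2475)
theorem F3287 : act 5 n743 = n630 := d30_1 D743 (iv D630) (iv D463) (iv F1871) D545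
def n744 : Q := act 7 n545
theorem D744 : act 7 n545 = n744 := rfl
theorem F3289 : act 2 n744 = n550 := d19_1 D744 (iv D550) (iv F2474)
theorem F3290 : act 5 n744 = n546 := d31_1 D744 (iv D546) D545
def n745 : Q := act 8 n546
theorem D745 : act 8 n546 = n745 := rfl
theorem F3291 : act 2 n745 = n551 := d20_1 D745 (iv D551) (iv F2477)
theorem F3292 : act 4 n745 = n745 := d29_1 D745 (iv D745) F2478
theorem F3293 : act 6 n745 = n632 := d34_1 D745 (iv D632) (iv F2479)
theorem F3294 : act 7 n745 = n745 := d35_1 D745 (iv D745) (iv D546) F1872 D546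
def n746 : Q := act 6 n548
theorem D746 : act 6 n548 = n746 := rfl
theorem F3297 : act 4 n746 = n549 := d27_1 D746 (iv D549) D548
def n747 : Q := act 7 n548
theorem D747 : act 7 n548 = n747 := rfl
theorem F3299 : act 1 n747 = n747 := d13_1 D747 (iv D747) F2483
theorem F3300 : act 4 n747 = n550 := d28_1 D747 (iv D550) D548
theorem F3301 : act 5 n747 = n747 := d31_1 D747 (iv D747) F2485
def n748 : Q := act 7 n549
theorem D748 : act 7 n549 = n748 := rfl
theorem F3304 : act 5 n748 = n635 := d31_1 D748 (iv D635) (iv F2489)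
theorem F3305 : act 6 n748 = n550 := d33_1 D748 (iv D550) D549
def n749 : Q := act 8 n550
theorem D749 : act 8 n550 = n749 := rfl
theorem F3308 : act 5 n749 = n551 := d32_1 D749 (iv D551) (iv F2493)
def n750 : Q := act 3 n552
theorem D750 : act 3 n552 = n750 := rfl
theorem F3310 : act 0 n750 = n750 := d2_1 D750 (iv D750) F2499
theorem F3311 : act 1 n750 = n750 := d9_1 D750 (iv D750) F2500
theorem F3312 : act 5 n750 = n750 := d22_2 F2503 D750 (iv D750)
theorem F3313 : act 6 n750 = n750 := d23_2 F2504 D750 (iv D750)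
theorem F3314 : act 7 n750 = n750 := d24_2 D552 D750 (iv D750) (iv D552) F1895
theorem F3315 : act 8 n750 = n750 := d25_2 F2505 D750 (iv D750)
def n751 : Q := act 2 n553
theorem D751 : act 2 n553 = n751 := rfl
theorem F3316 : act 0 n751 = n751 := d1_1 D751 (iv D751) F2506
theorem F3317 : act 5 n751 = n751 := d17_2 F2507 D751 (iv D751)
theorem F3318 : act 6 n751 = n751 := d18_2 F2508 D751 (iv D751)
theorem F3319 : act 7 n751 = n554 := d19_2 (iv F2509) D751 (iv D554)
theorem F3320 : act 8 n751 = n751 := d20_2 F2510 D751 (iv D751)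
def n752 : Q := act 4 n553
theorem D752 : act 4 n553 = n752 := rfl
theorem F3321 : act 0 n752 = n752 := d3_1 D752 (iv D752) F2506
theorem F3322 : act 3 n752 = n752 := d21_1 D752 (iv D752) (iv D553) F1900 D553
theorem F3323 : act 6 n752 = n752 := d27_2 F2508 D752 (iv D752)
theorem F3324 : act 7 n752 = n555 := d28_2 (iv F2509) D752 (iv D555)
theorem F3325 : act 8 n752 = n752 := d29_2 F2510 D752 (iv D752)
def n753 : Q := act 1 n554
theorem D753 : act 1 n554 = n753 := rfl
theorem F3326 : act 3 n753 = n753 := d9_2 F2512 D753 (iv D753)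
theorem F3327 : act 5 n753 = n753 := d11_2 F2513 D753 (iv D753)
theorem F3328 : act 6 n753 = n753 := d12_2 F2514 D753 (iv D753)
theorem F3329 : act 8 n753 = n556 := d14_2 (iv F2515) D753 (iv D556)
def n754 : Q := act 4 n554
theorem D754 : act 4 n554 = n754 := rfl
theorem F3330 : act 0 n754 = n754 := d3_1 D754 (iv D754) F2511
theorem F3331 : act 2 n754 = n555 := d16_1 D754 (iv D555) D554
theorem F3332 : act 6 n754 = n754 := d27_2 F2514 D754 (iv D754)
theorem F3333 : act 8 n754 = n557 := d29_2 (iv F2515) D754 (iv D557)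
def n755 : Q := act 5 n555
theorem D755 : act 5 n555 = n755 := rfl
theorem F3334 : act 0 n755 = n755 := d4_1 D755 (iv D755) F2516
theorem F3335 : act 3 n755 = n561 := d22_1 D755 (iv D561) (iv F2517)
theorem F3336 : act 4 n755 = n755 := d26_1 D755 (iv D755) (iv D555) F1905 D555
theorem F3337 : act 8 n755 = n558 := d32_2 (iv F2519) D755 (iv D558)
def n756 : Q := act 0 n556
theorem D756 : act 0 n556 = n756 := rfl
theorem F3338 : act 1 n756 = n756 := d0_2 D556 D756 (iv D756) (iv D556) F1908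
theorem F3339 : act 3 n756 = n756 := d2_2 F2520 D756 (iv D756)
theorem F3340 : act 5 n756 = n756 := d4_2 F2521 D756 (iv D756)
theorem F3341 : act 6 n756 = n756 := d5_2 F2522 D756 (iv D756)
theorem F3342 : act 7 n756 = n756 := d6_2 F2523 D756 (iv D756)
def n757 : Q := act 4 n556
theorem D757 : act 4 n556 = n757 := rfl
theorem F3343 : act 1 n757 = n557 := d10_1 D757 (iv D557) D556
theorem F3344 : act 6 n757 = n757 := d27_2 F2522 D757 (iv D757)
theorem F3345 : act 7 n757 = n757 := d28_2 F2523 D757 (iv D757)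
def n758 : Q := act 3 n557
theorem D758 : act 3 n557 = n758 := rfl
theorem F3346 : act 0 n758 = n758 := d2_1 D758 (iv D758) F2524
theorem F3347 : act 2 n758 = n564 := d15_1 D758 (iv D564) F1932 (iv F1914) (iv F2525)
theorem F3348 : act 4 n758 = n758 := d21_2 D557 D758 (iv D758) (iv D557) F1909
theorem F3349 : act 6 n758 = n758 := d23_2 F2526 D758 (iv D758)
def n759 : Q := act 5 n557
theorem D759 : act 5 n557 = n759 := rfl
theorem F3350 : act 0 n759 = n759 := d4_1 D759 (iv D759) F2524
theorem F3351 : act 2 n759 = n558 := d17_1 D759 (iv D558) (iv F2525)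
theorem F3352 : act 4 n759 = n759 := d26_1 D759 (iv D759) (iv D557) F1910 D557
theorem F3353 : act 7 n759 = n759 := d31_2 F2527 D759 (iv D759)
def n760 : Q := act 6 n558
theorem D760 : act 6 n558 = n760 := rfl
theorem F3354 : act 0 n760 = n760 := d5_1 D760 (iv D760) F2528
theorem F3355 : act 3 n760 = n566 := d23_1 D760 (iv D566) (iv F2529)
theorem F3356 : act 4 n760 = n760 := d27_1 D760 (iv D760) F2530
theorem F3357 : act 5 n760 = n760 := d30_1 D760 (iv D760) (iv D558) F1915 D558
theorem F3358 : act 7 n760 = n760 := d33_2 F2531 D760 (iv D760)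
def n761 : Q := act 0 n559
theorem D761 : act 0 n559 = n761 := rfl
theorem F3359 : act 1 n761 = n761 := d0_2 D559 D761 (iv D761) (iv D559) F1917
theorem F3360 : act 3 n761 = n761 := d2_2 F2532 D761 (iv D761)
theorem F3361 : act 5 n761 = n567 := d4_2 (iv F2533) D761 (iv D567)
theorem F3362 : act 6 n761 = n761 := d5_2 F2534 D761 (iv D761)
theorem F3363 : act 7 n761 = n761 := d6_2 F2535 D761 (iv D761)
theorem F3364 : act 8 n761 = n562 := d7_2 (iv F2536) D761 (iv D562)
def n762 : Q := act 4 n559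
theorem D762 : act 4 n559 = n762 := rfl
theorem F3365 : act 1 n762 = n560 := d10_1 D762 (iv D560) D559
theorem F3366 : act 6 n762 = n762 := d27_2 F2534 D762 (iv D762)
theorem F3367 : act 7 n762 = n762 := d28_2 F2535 D762 (iv D762)
theorem F3368 : act 8 n762 = n563 := d29_2 (iv F2536) D762 (iv D563)
def n763 : Q := act 3 n560
theorem D763 : act 3 n560 = n763 := rfl
theorem F3369 : act 0 n763 = n763 := d2_1 D763 (iv D763) F2537
theorem F3370 : act 4 n763 = n763 := d21_2 D560 D763 (iv D763) (iv D560) F1918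
theorem F3371 : act 6 n763 = n763 := d23_2 F2539 D763 (iv D763)
theorem F3372 : act 8 n763 = n564 := d25_2 (iv F2541) D763 (iv D564)
def n764 : Q := act 5 n560
theorem D764 : act 5 n560 = n764 := rfl
theorem F3373 : act 0 n764 = n764 := d4_1 D764 (iv D764) F2537
theorem F3374 : act 2 n764 = n561 := d17_1 D764 (iv D561) (iv F2538)
theorem F3375 : act 4 n764 = n570 := d26_1 D764 (iv D570) (iv D418) (iv F1919) D560
theorem F3376 : act 7 n764 = n764 := d31_2 F2540 D764 (iv D764)
theorem F3377 : act 8 n764 = n565 := d32_2 (iv F2541) D764 (iv D565)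
def n765 : Q := act 6 n561
theorem D765 : act 6 n561 = n765 := rfl
theorem F3378 : act 0 n765 = n765 := d5_1 D765 (iv D765) F2542
theorem F3379 : act 4 n765 = n571 := d27_1 D765 (iv D571) (iv F2543)
theorem F3380 : act 5 n765 = n765 := d30_1 D765 (iv D765) (iv D561) F1924 D561
theorem F3381 : act 7 n765 = n765 := d33_2 F2544 D765 (iv D765)
theorem F3382 : act 8 n765 = n566 := d34_2 (iv F2545) D765 (iv D566)
def n766 : Q := act 4 n562
theorem D766 : act 4 n562 = n766 := rfl
theorem F3383 : act 0 n766 = n563 := d3_1 D766 (iv D563) D562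
theorem F3384 : act 1 n766 = n766 := d10_1 D766 (iv D766) F2546
theorem F3385 : act 6 n766 = n766 := d27_2 F2549 D766 (iv D766)
theorem F3386 : act 7 n766 = n577 := d28_2 (iv F2550) D766 (iv D577)
def n767 : Q := act 3 n563
theorem D767 : act 3 n563 = n767 := rfl
theorem F3387 : act 1 n767 = n564 := d9_1 D767 (iv D564) (iv F2551)
theorem F3388 : act 4 n767 = n767 := d21_2 D563 D767 (iv D767) (iv D563) F1927
theorem F3389 : act 6 n767 = n767 := d23_2 F2552 D767 (iv D767)
def n768 : Q := act 5 n563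
theorem D768 : act 5 n563 = n768 := rfl
theorem F3390 : act 1 n768 = n565 := d11_1 D768 (iv D565) (iv F2551)
theorem F3391 : act 4 n768 = n574 := d26_1 D768 (iv D574) (iv D421) (iv F1928) D563
theorem F3392 : act 7 n768 = n579 := d31_2 (iv F2553) D768 (iv D579)
def n769 : Q := act 5 n564
theorem D769 : act 5 n564 = n769 := rfl
theorem F3393 : act 0 n769 = n769 := d4_1 D769 (iv D769) F2554
theorem F3394 : act 3 n769 = n565 := d22_1 D769 (iv D565) D564
def n770 : Q := act 7 n564
theorem D770 : act 7 n564 = n770 := rfl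
theorem F3395 : act 0 n770 = n770 := d6_1 D770 (iv D770) F2554
theorem F3396 : act 3 n770 = n581 := d24_1 D770 (iv D581) (iv D427) (iv F1934) D564
theorem F3397 : act 4 n770 = n770 := d28_1 D770 (iv D770) F2555
theorem F3398 : act 6 n770 = n770 := d33_1 D770 (iv D770) F2556
def n771 : Q := act 6 n565
theorem D771 : act 6 n565 = n771 := rfl
theorem F3399 : act 0 n771 = n771 := d5_1 D771 (iv D771) F2557
theorem F3400 : act 2 n771 = n566 := d18_1 D771 (iv D566) (iv F2558)
theorem F3401 : act 4 n771 = n576 := d27_1 D771 (iv D576) (iv F2559)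
theorem F3402 : act 5 n771 = n771 := d30_1 D771 (iv D771) (iv D565) F1933 D565
theorem F3403 : act 7 n771 = n582 := d33_2 (iv F2560) D771 (iv D582)
def n772 : Q := act 4 n567
theorem D772 : act 4 n567 = n772 := rfl
theorem F3404 : act 0 n772 = n568 := d3_1 D772 (iv D568) D567
theorem F3405 : act 1 n772 = n772 := d10_1 D772 (iv D772) F2565
theorem F3406 : act 6 n772 = n637 := d27_2 (iv F2567) D772 (iv D637)
theorem F3407 : act 7 n772 = n772 := d28_2 F2568 D772 (iv D772)
theorem F3408 : act 8 n772 = n572 := d29_2 (iv F2569) D772 (iv D572)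
def n773 : Q := act 3 n568
theorem D773 : act 3 n568 = n773 := rfl
theorem F3409 : act 1 n773 = n569 := d9_1 D773 (iv D569) (iv F2570)
theorem F3410 : act 4 n773 = n773 := d21_2 D568 D773 (iv D773) (iv D568) F1938
theorem F3411 : act 6 n773 = n638 := d23_2 (iv F2571) D773 (iv D638)
theorem F3412 : act 8 n773 = n573 := d25_2 (iv F2573) D773 (iv D573)
def n774 : Q := act 5 n568
theorem D774 : act 5 n568 = n774 := rfl
theorem F3413 : act 1 n774 = n570 := d11_1 D774 (iv D570) (iv F2570)
theorem F3414 : act 7 n774 = n774 := d31_2 F2572 D774 (iv D774)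
theorem F3415 : act 8 n774 = n574 := d32_2 (iv F2573) D774 (iv D574)
def n775 : Q := act 5 n569
theorem D775 : act 5 n569 = n775 := rfl
theorem F3416 : act 0 n775 = n775 := d4_1 D775 (iv D775) F2574
theorem F3417 : act 2 n775 = n775 := d17_1 D775 (iv D775) F2575
theorem F3418 : act 3 n775 = n570 := d22_1 D775 (iv D570) D569
theorem F3419 : act 8 n775 = n575 := d32_2 (iv F2578) D775 (iv D575)
def n776 : Q := act 7 n569
theorem D776 : act 7 n569 = n776 := rfl
theorem F3420 : act 0 n776 = n776 := d6_1 D776 (iv D776) F2574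
theorem F3421 : act 2 n776 = n776 := d19_1 D776 (iv D776) F2575
theorem F3422 : act 3 n776 = n776 := d24_1 D776 (iv D776) (iv D569) F1945 D569
theorem F3423 : act 4 n776 = n776 := d28_1 D776 (iv D776) F2576
theorem F3424 : act 6 n776 = n641 := d33_1 D776 (iv D641) (iv F2577)
theorem F3425 : act 8 n776 = n776 := d35_2 (iv F2578) D776 (iv D776) F2578 F1962
def n777 : Q := act 6 n570
theorem D777 : act 6 n570 = n777 := rfl
theorem F3426 : act 0 n777 = n777 := d5_1 D777 (iv D777) F2579
theorem F3427 : act 2 n777 = n571 := d18_1 D777 (iv D571) (iv F2580)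
theorem F3428 : act 5 n777 = n642 := d30_1 D777 (iv D642) (iv D473) (iv F1944) D570
theorem F3429 : act 7 n777 = n777 := d33_2 F2581 D777 (iv D777)
theorem F3430 : act 8 n777 = n576 := d34_2 (iv F2582) D777 (iv D576)
def n778 : Q := act 3 n572
theorem D778 : act 3 n572 = n778 := rfl
theorem F3431 : act 0 n778 = n573 := d2_1 D778 (iv D573) (iv F2588)
theorem F3432 : act 1 n778 = n778 := d9_1 D778 (iv D778) F2589
theorem F3433 : act 4 n778 = n778 := d21_2 D572 D778 (iv D778) (iv D572) F1952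
theorem F3434 : act 6 n778 = n643 := d23_2 (iv F2590) D778 (iv D643)
theorem F3435 : act 7 n778 = n778 := d24_2 (iv F2591) D778 (iv D778) F2591 F1994
def n779 : Q := act 5 n572
theorem D779 : act 5 n572 = n779 := rfl
theorem F3436 : act 0 n779 = n574 := d4_1 D779 (iv D574) (iv F2588)
theorem F3437 : act 1 n779 = n779 := d11_1 D779 (iv D779) F2589
theorem F3438 : act 7 n779 = n583 := d31_2 (iv F2591) D779 (iv D583)
def n780 : Q := act 2 n573
theorem D780 : act 2 n573 = n780 := rfl
theorem F3439 : act 1 n780 = n780 := d8_1 D780 (iv D780) F2592 F1959 (iv F2592)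
theorem F3440 : act 4 n780 = n780 := d16_2 F2593 D780 (iv D780)
theorem F3441 : act 6 n780 = n645 := d18_2 (iv F2594) D780 (iv D645)
theorem F3442 : act 7 n780 = n780 := d19_2 F2595 D780 (iv D780)
def n781 : Q := act 5 n573
theorem D781 : act 5 n573 = n781 := rfl
theorem F3443 : act 1 n781 = n575 := d11_1 D781 (iv D575) (iv F2592)
theorem F3444 : act 3 n781 = n574 := d22_1 D781 (iv D574) D573
theorem F3445 : act 7 n781 = n781 := d31_2 F2595 D781 (iv D781)
def n782 : Q := act 6 n574
theorem D782 : act 6 n574 = n782 := rfl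
theorem F3446 : act 1 n782 = n576 := d12_1 D782 (iv D576) (iv F2596)
theorem F3447 : act 5 n782 = n647 := d30_1 D782 (iv D647) (iv D477) (iv F1956) D574
theorem F3448 : act 7 n782 = n584 := d33_2 (iv F2597) D782 (iv D584)
def n783 : Q := act 4 n575
theorem D783 : act 4 n575 = n783 := rfl
theorem F3449 : act 0 n783 = n783 := d3_1 D783 (iv D783) F2598
theorem F3450 : act 2 n783 = n783 := d16_1 D783 (iv D783) F2599
theorem F3451 : act 5 n783 = n783 := d26_2 D575 D783 (iv D783) (iv D575) F1960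
theorem F3452 : act 7 n783 = n783 := d28_2 F2601 D783 (iv D783)
def n784 : Q := act 6 n575
theorem D784 : act 6 n575 = n784 := rfl
theorem F3453 : act 0 n784 = n784 := d5_1 D784 (iv D784) F2598
theorem F3454 : act 2 n784 = n784 := d18_1 D784 (iv D784) F2599
theorem F3455 : act 3 n784 = n576 := d23_1 D784 (iv D576) (iv F2600)
theorem F3456 : act 5 n784 = n649 := d30_1 D784 (iv D649) (iv D478) (iv F1961) D575
theorem F3457 : act 7 n784 = n784 := d33_2 F2601 D784 (iv D784)
def n785 : Q := act 3 n577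
theorem D785 : act 3 n577 = n785 := rfl
theorem F3458 : act 0 n785 = n578 := d2_1 D785 (iv D578) (iv F2606)
theorem F3459 : act 1 n785 = n785 := d9_1 D785 (iv D785) F2607
theorem F3460 : act 4 n785 = n585 := d21_2 D577 D785 (iv D585) (iv D433) (iv F1971)
theorem F3461 : act 6 n785 = n785 := d23_2 F2608 D785 (iv D785)
theorem F3462 : act 8 n785 = n785 := d25_2 F2609 D785 (iv D785)
def n786 : Q := act 5 n577
theorem D786 : act 5 n577 = n786 := rfl
theorem F3463 : act 0 n786 = n579 := d4_1 D786 (iv D579) (iv F2606)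
theorem F3464 : act 1 n786 = n786 := d11_1 D786 (iv D786) F2607
theorem F3465 : act 4 n786 = n583 := d26_1 D786 (iv D583) (iv D430) (iv F1972) D577
theorem F3466 : act 8 n786 = n786 := d32_2 F2609 D786 (iv D786)
def n787 : Q := act 2 n578
theorem D787 : act 2 n578 = n787 := rfl
theorem F3467 : act 1 n787 = n787 := d8_1 D787 (iv D787) F2610 F1979 (iv F2610)
theorem F3468 : act 4 n787 = n586 := d16_2 (iv F2611) D787 (iv D586)
theorem F3469 : act 6 n787 = n787 := d18_2 F2612 D787 (iv D787)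
theorem F3470 : act 8 n787 = n787 := d20_2 F2613 D787 (iv D787)
def n788 : Q := act 5 n578
theorem D788 : act 5 n578 = n788 := rfl
theorem F3471 : act 1 n788 = n580 := d11_1 D788 (iv D580) (iv F2610)
theorem F3472 : act 3 n788 = n579 := d22_1 D788 (iv D579) D578
theorem F3473 : act 4 n788 = n788 := d26_1 D788 (iv D788) F2611 F2013 (iv F2611)
theorem F3474 : act 8 n788 = n788 := d32_2 F2613 D788 (iv D788)
def n789 : Q := act 7 n578
theorem D789 : act 7 n578 = n789 := rfl
theorem F3475 : act 1 n789 = n581 := d13_1 D789 (iv D581) (iv F2610)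
theorem F3476 : act 4 n789 = n587 := d28_1 D789 (iv D587) (iv F2611)
theorem F3477 : act 6 n789 = n789 := d33_1 D789 (iv D789) F2612
def n790 : Q := act 6 n579
theorem D790 : act 6 n579 = n790 := rfl
theorem F3478 : act 1 n790 = n582 := d12_1 D790 (iv D582) (iv F2614)
theorem F3479 : act 4 n790 = n584 := d27_1 D790 (iv D584) (iv F2615)
theorem F3480 : act 5 n790 = n790 := d30_1 D790 (iv D790) (iv D579) F1976 D579
theorem F3481 : act 8 n790 = n790 := d34_2 F2616 D790 (iv D790)
def n791 : Q := act 6 n580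
theorem D791 : act 6 n580 = n791 := rfl
theorem F3482 : act 0 n791 = n791 := d5_1 D791 (iv D791) F2617
theorem F3483 : act 2 n791 = n791 := d18_1 D791 (iv D791) F2618
theorem F3484 : act 3 n791 = n582 := d23_1 D791 (iv D582) (iv F2619)
theorem F3485 : act 4 n791 = n791 := d27_1 D791 (iv D791) F2620
theorem F3486 : act 5 n791 = n791 := d30_1 D791 (iv D791) (iv D580) F1981 D580
theorem F3487 : act 8 n791 = n791 := d34_2 F2621 D791 (iv D791)
def n792 : Q := act 7 n580
theorem D792 : act 7 n580 = n792 := rfl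
theorem F3488 : act 0 n792 = n792 := d6_1 D792 (iv D792) F2617
theorem F3489 : act 2 n792 = n792 := d19_1 D792 (iv D792) F2618
theorem F3490 : act 4 n792 = n792 := d28_1 D792 (iv D792) F2620
theorem F3491 : act 5 n792 = n581 := d31_1 D792 (iv D581) D580
def n793 : Q := act 8 n581
theorem D793 : act 8 n581 = n793 := rfl
theorem F3492 : act 0 n793 = n793 := d7_1 D793 (iv D793) F2622
theorem F3493 : act 2 n793 = n793 := d20_1 D793 (iv D793) F2623
theorem F3494 : act 4 n793 = n588 := d29_1 D793 (iv D588) (iv F2624)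
theorem F3495 : act 6 n793 = n793 := d34_1 D793 (iv D793) F2625
theorem F3496 : act 7 n793 = n793 := d35_1 D793 (iv D793) (iv D581) F1982 D581
def n794 : Q := act 6 n583
theorem D794 : act 6 n583 = n794 := rfl
theorem F3497 : act 0 n794 = n584 := d5_1 D794 (iv D584) (iv F2631)
theorem F3498 : act 1 n794 = n794 := d12_1 D794 (iv D794) F2632
theorem F3499 : act 3 n794 = n794 := d23_1 D794 (iv D794) F2633
theorem F3500 : act 5 n794 = n650 := d30_1 D794 (iv D650) (iv D480) (iv F1995) D583
theorem F3501 : act 8 n794 = n794 := d34_2 F2634 D794 (iv D794)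
def n795 : Q := act 2 n585
theorem D795 : act 2 n585 = n795 := rfl
theorem F3502 : act 0 n795 = n586 := d1_1 D795 (iv D586) (iv F2639)
theorem F3503 : act 3 n795 = n795 := d15_2 D585 D795 (iv D795) (iv D585) F2007
theorem F3504 : act 5 n795 = n795 := d17_2 F2641 D795 (iv D795)
theorem F3505 : act 6 n795 = n795 := d18_2 F2642 D795 (iv D795)
theorem F3506 : act 8 n795 = n795 := d20_2 F2643 D795 (iv D795)
def n796 : Q := act 7 n585
theorem D796 : act 7 n585 = n796 := rfl
theorem F3507 : act 0 n796 = n587 := d6_1 D796 (iv D587) (iv F2639)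
theorem F3508 : act 1 n796 = n796 := d13_1 D796 (iv D796) F2640
theorem F3509 : act 3 n796 = n796 := d24_1 D796 (iv D796) (iv D585) F2010 D585
theorem F3510 : act 5 n796 = n796 := d31_1 D796 (iv D796) F2641
theorem F3511 : act 6 n796 = n796 := d33_1 D796 (iv D796) F2642
def n797 : Q := act 7 n586
theorem D797 : act 7 n586 = n797 := rfl
theorem F3512 : act 1 n797 = n797 := d13_1 D797 (iv D797) F2644
theorem F3513 : act 2 n797 = n587 := d19_1 D797 (iv D587) D586
theorem F3514 : act 5 n797 = n797 := d31_1 D797 (iv D797) F2646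
theorem F3515 : act 6 n797 = n797 := d33_1 D797 (iv D797) F2647
def n798 : Q := act 8 n587
theorem D798 : act 8 n587 = n798 := rfl
theorem F3516 : act 1 n798 = n588 := d14_1 D798 (iv D588) (iv F2649)
theorem F3517 : act 3 n798 = n798 := d25_1 D798 (iv D798) F2650
theorem F3518 : act 5 n798 = n798 := d32_1 D798 (iv D798) F2651
theorem F3519 : act 6 n798 = n798 := d34_1 D798 (iv D798) F2652
theorem F3520 : act 7 n798 = n798 := d35_1 D798 (iv D798) (iv D587) F2015 D587
def n799 : Q := act 4 n589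
theorem D799 : act 4 n589 = n799 := rfl
theorem F3521 : act 0 n799 = n590 := d3_1 D799 (iv D590) D589
theorem F3522 : act 1 n799 = n618 := d10_1 D799 (iv D618) (iv F2659)
theorem F3523 : act 2 n799 = n799 := d16_1 D799 (iv D799) F2660
theorem F3524 : act 7 n799 = n594 := d28_2 (iv F2662) D799 (iv D594)
def n800 : Q := act 3 n590
theorem D800 : act 3 n590 = n800 := rfl
theorem F3525 : act 1 n800 = n591 := d9_1 D800 (iv D591) (iv F2663)
def n802 : Q := act 5 n591
theorem D802 : act 5 n591 = n802 := rfl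
theorem F3530 : act 0 n802 = n621 := d4_1 D802 (iv D621) (iv F2666)
def n803 : Q := act 7 n591
theorem D803 : act 7 n591 = n803 := rfl
def n804 : Q := act 6 n592
theorem D804 : act 6 n592 = n804 := rfl
theorem F3536 : act 0 n804 = n623 := d5_1 D804 (iv D623) (iv F2668)
theorem F3539 : act 7 n804 = n599 := d33_2 (iv F2671) D804 (iv D599)
def n806 : Q := act 5 n594
theorem D806 : act 5 n594 = n806 := rfl
theorem F3545 : act 1 n806 = n625 := d11_1 D806 (iv D625) (iv F2678)
def n807 : Q := act 2 n595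
theorem D807 : act 2 n595 = n807 := rfl
theorem F3549 : act 1 n807 = n600 := d8_1 D807 (iv D600) F2054 (iv F2041) (iv F2681)
def n809 : Q := act 7 n595
theorem D809 : act 7 n595 = n809 := rfl
def n816 : Q := act 7 n600
theorem D816 : act 7 n600 = n816 := rfl
theorem F3582 : act 0 n816 = n816 := d6_1 D816 (iv D816) F2699
theorem F3583 : act 2 n816 = n602 := d19_1 D816 (iv D602) D600
def n825 : Q := act 4 n608
theorem D825 : act 4 n608 = n825 := rfl
theorem F3617 : act 0 n825 = n609 := d3_1 D825 (iv D609) D608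
theorem F3618 : act 2 n825 = n825 := d16_1 D825 (iv D825) F2731
theorem F3619 : act 7 n825 = n825 := d28_2 F2734 D825 (iv D825)
theorem F3620 : act 8 n825 = n799 := d29_2 (iv F2735) D825 (iv D799)
def n826 : Q := act 3 n609
theorem D826 : act 3 n609 = n826 := rfl
theorem F3621 : act 1 n826 = n610 := d9_1 D826 (iv D610) (iv F2736)
theorem F3622 : act 4 n826 = n619 := d21_2 D609 D826 (iv D619) (iv D456) (iv F2075)
theorem F3623 : act 8 n826 = n800 := d25_2 (iv F2739) D826 (iv D800)
def n827 : Q := act 5 n609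
theorem D827 : act 5 n609 = n827 := rfl
theorem F3624 : act 1 n827 = n611 := d11_1 D827 (iv D611) (iv F2736)
theorem F3625 : act 2 n827 = n827 := d17_1 D827 (iv D827) F2737
theorem F3626 : act 4 n827 = n827 := d26_1 D827 (iv D827) (iv D609) F2076 D609
theorem F3627 : act 7 n827 = n827 := d31_2 F2738 D827 (iv D827)
def n828 : Q := act 5 n610
theorem D828 : act 5 n610 = n828 := rfl
theorem F3629 : act 2 n828 = n828 := d17_1 D828 (iv D828) F2740
theorem F3630 : act 3 n828 = n611 := d22_1 D828 (iv D611) D610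
theorem F3631 : act 8 n828 = n802 := d32_2 (iv F2742) D828 (iv D802)
def n829 : Q := act 7 n610
theorem D829 : act 7 n610 = n829 := rfl
theorem F3632 : act 2 n829 = n829 := d19_1 D829 (iv D829) F2740
theorem F3633 : act 3 n829 = n829 := d24_1 D829 (iv D829) (iv D610) F2080 D610
theorem F3634 : act 4 n829 = n622 := d28_1 D829 (iv D622) (iv F2741)
def n830 : Q := act 6 n611
theorem D830 : act 6 n611 = n830 := rfl
theorem F3635 : act 2 n830 = n612 := d18_1 D830 (iv D612) (iv F2743)
theorem F3638 : act 8 n830 = n804 := d34_2 (iv F2746) D830 (iv D804)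
def n831 : Q := act 4 n613
theorem D831 : act 4 n613 = n831 := rfl
theorem F3639 : act 0 n831 = n614 := d3_1 D831 (iv D614) D613
theorem F3640 : act 1 n831 = n825 := d10_1 D831 (iv D825) (iv F2752)
theorem F3641 : act 2 n831 = n637 := d16_1 D831 (iv D637) (iv F2753)
theorem F3642 : act 7 n831 = n831 := d28_2 F2756 D831 (iv D831)
theorem F3643 : act 8 n831 = n618 := d29_2 (iv F2757) D831 (iv D618)
def n832 : Q := act 3 n614
theorem D832 : act 3 n614 = n832 := rfl
theorem F3644 : act 1 n832 = n615 := d9_1 D832 (iv D615) (iv F2758)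
theorem F3645 : act 4 n832 = n800 := d21_2 D614 D832 (iv D800) (iv D590) (iv F2088)
theorem F3646 : act 8 n832 = n619 := d25_2 (iv F2761) D832 (iv D619)
def n833 : Q := act 5 n614
theorem D833 : act 5 n614 = n833 := rfl
theorem F3647 : act 1 n833 = n616 := d11_1 D833 (iv D616) (iv F2758)
theorem F3648 : act 2 n833 = n639 := d17_1 D833 (iv D639) (iv F2759)
theorem F3649 : act 4 n833 = n833 := d26_1 D833 (iv D833) (iv D614) F2089 D614
theorem F3650 : act 7 n833 = n833 := d31_2 F2760 D833 (iv D833)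
theorem F3651 : act 8 n833 = n620 := d32_2 (iv F2761) D833 (iv D620)
def n834 : Q := act 5 n615
theorem D834 : act 5 n615 = n834 := rfl
theorem F3652 : act 0 n834 = n828 := d4_1 D834 (iv D828) (iv F2762)
theorem F3653 : act 2 n834 = n834 := d17_1 D834 (iv D834) F2763
theorem F3654 : act 3 n834 = n616 := d22_1 D834 (iv D616) D615
theorem F3655 : act 8 n834 = n621 := d32_2 (iv F2765) D834 (iv D621)
def n835 : Q := act 7 n615
theorem D835 : act 7 n615 = n835 := rfl
theorem F3656 : act 0 n835 = n829 := d6_1 D835 (iv D829) (iv F2762)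
theorem F3657 : act 2 n835 = n835 := d19_1 D835 (iv D835) F2763
theorem F3658 : act 3 n835 = n835 := d24_1 D835 (iv D835) (iv D615) F2094 D615
theorem F3659 : act 4 n835 = n803 := d28_1 D835 (iv D803) (iv F2764)
def n836 : Q := act 6 n616
theorem D836 : act 6 n616 = n836 := rfl
theorem F3661 : act 2 n836 = n617 := d18_1 D836 (iv D617) (iv F2767)
theorem F3662 : act 4 n836 = n836 := d27_1 D836 (iv D836) F2768
theorem F3663 : act 7 n836 = n836 := d33_2 F2769 D836 (iv D836)
theorem F3664 : act 8 n836 = n623 := d34_2 (iv F2770) D836 (iv D623)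
def n837 : Q := act 3 n618
theorem D837 : act 3 n618 = n837 := rfl
theorem F3665 : act 0 n837 = n619 := d2_1 D837 (iv D619) (iv F2777)
def n838 : Q := act 5 n618
theorem D838 : act 5 n618 = n838 := rfl
theorem F3666 : act 0 n838 = n620 := d4_1 D838 (iv D620) (iv F2777)
theorem F3667 : act 2 n838 = n644 := d17_1 D838 (iv D644) (iv F2778)
theorem F3668 : act 4 n838 = n838 := d26_1 D838 (iv D838) (iv D618) F2103 D618
theorem F3669 : act 7 n838 = n625 := d31_2 (iv F2779) D838 (iv D625)
def n839 : Q := act 2 n619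
theorem D839 : act 2 n619 = n839 := rfl
theorem F3670 : act 1 n839 = n839 := d8_1 D839 (iv D839) F2780 F2108 (iv F2780)
theorem F3671 : act 3 n839 = n645 := d15_2 D619 D839 (iv D645) (iv D476) (iv F2106)
def n840 : Q := act 5 n619
theorem D840 : act 5 n619 = n840 := rfl
theorem F3672 : act 1 n840 = n621 := d11_1 D840 (iv D621) (iv F2780)
theorem F3673 : act 3 n840 = n620 := d22_1 D840 (iv D620) D619
def n841 : Q := act 7 n619
theorem D841 : act 7 n619 = n841 := rfl
theorem F3674 : act 1 n841 = n622 := d13_1 D841 (iv D622) (iv F2780)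
theorem F3675 : act 3 n841 = n627 := d24_1 D841 (iv D627) (iv D461) (iv F2107) D619
def n842 : Q := act 6 n620
theorem D842 : act 6 n620 = n842 := rfl
theorem F3676 : act 1 n842 = n623 := d12_1 D842 (iv D623) (iv F2781)
theorem F3677 : act 2 n842 = n647 := d18_1 D842 (iv D647) (iv F2782)
theorem F3678 : act 4 n842 = n842 := d27_1 D842 (iv D842) F2783
theorem F3679 : act 7 n842 = n628 := d33_2 (iv F2784) D842 (iv D628)
def n843 : Q := act 4 n621
theorem D843 : act 4 n621 = n843 := rfl
def n844 : Q := act 6 n621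
theorem D844 : act 6 n621 = n844 := rfl
theorem F3682 : act 2 n844 = n844 := d18_1 D844 (iv D844) F2785
theorem F3683 : act 3 n844 = n623 := d23_1 D844 (iv D623) (iv F2786)
def n845 : Q := act 7 n621
theorem D845 : act 7 n621 = n845 := rfl
theorem F3685 : act 3 n845 = n631 := d24_1 D845 (iv D631) F2128 (iv F2111) (iv F2786)
theorem F3686 : act 5 n845 = n622 := d31_1 D845 (iv D622) D621
def n846 : Q := act 8 n622
theorem D846 : act 8 n622 = n846 := rfl
theorem F3688 : act 3 n846 = n632 := d25_1 D846 (iv D632) (iv F2788)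
def n847 : Q := act 5 n624
theorem D847 : act 5 n624 = n847 := rfl
theorem F3689 : act 0 n847 = n626 := d4_1 D847 (iv D626) (iv F2792)
theorem F3691 : act 3 n847 = n625 := d22_1 D847 (iv D625) D624
def n848 : Q := act 7 n624
theorem D848 : act 7 n624 = n848 := rfl
theorem F3693 : act 0 n848 = n627 := d6_1 D848 (iv D627) (iv F2792)
theorem F3694 : act 2 n848 = n848 := d19_1 D848 (iv D848) F2793
theorem F3695 : act 4 n848 = n848 := d28_1 D848 (iv D848) F2794
def n849 : Q := act 6 n625
theorem D849 : act 6 n625 = n849 := rfl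
theorem F3696 : act 0 n849 = n628 := d5_1 D849 (iv D628) (iv F2796)
theorem F3697 : act 2 n849 = n650 := d18_1 D849 (iv D650) (iv F2797)
theorem F3698 : act 4 n849 = n849 := d27_1 D849 (iv D849) F2798
theorem F3699 : act 8 n849 = n849 := d34_2 F2799 D849 (iv D849)
def n851 : Q := act 6 n626
theorem D851 : act 6 n626 = n851 := rfl
theorem F3707 : act 3 n851 = n628 := d23_1 D851 (iv D628) (iv F2802)
def n852 : Q := act 7 n626
theorem D852 : act 7 n626 = n852 := rfl
theorem F3711 : act 5 n852 = n627 := d31_1 D852 (iv D627) D626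
def n853 : Q := act 8 n627
theorem D853 : act 8 n627 = n853 := rfl
def n856 : Q := act 7 n630
theorem D856 : act 7 n630 = n856 := rfl
theorem F3723 : act 2 n856 = n635 := d19_1 D856 (iv D635) (iv F2815)
def n863 : Q := act 3 n637
theorem D863 : act 3 n637 = n863 := rfl
theorem F3747 : act 0 n863 = n638 := d2_1 D863 (iv D638) (iv F2837)
theorem F3748 : act 1 n863 = n863 := d9_1 D863 (iv D863) F2838
theorem F3749 : act 4 n863 = n863 := d21_2 D637 D863 (iv D863) (iv D637) F2150
theorem F3750 : act 8 n863 = n643 := d25_2 (iv F2840) D863 (iv D643)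
def n864 : Q := act 5 n637
theorem D864 : act 5 n637 = n864 := rfl
theorem F3751 : act 0 n864 = n639 := d4_1 D864 (iv D639) (iv F2837)
theorem F3752 : act 1 n864 = n864 := d11_1 D864 (iv D864) F2838
theorem F3753 : act 4 n864 = n864 := d26_1 D864 (iv D864) (iv D637) F2151 D637
theorem F3754 : act 7 n864 = n864 := d31_2 F2839 D864 (iv D864)
theorem F3755 : act 8 n864 = n644 := d32_2 (iv F2840) D864 (iv D644)
def n865 : Q := act 2 n638
theorem D865 : act 2 n638 = n865 := rfl
theorem F3756 : act 1 n865 = n865 := d8_1 D865 (iv D865) F2841 F2158 (iv F2841)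
theorem F3757 : act 4 n865 = n865 := d16_2 F2842 D865 (iv D865)
theorem F3758 : act 8 n865 = n645 := d20_2 (iv F2843) D865 (iv D645)
def n866 : Q := act 5 n638
theorem D866 : act 5 n638 = n866 := rfl
theorem F3759 : act 1 n866 = n640 := d11_1 D866 (iv D640) (iv F2841)
theorem F3760 : act 3 n866 = n639 := d22_1 D866 (iv D639) D638
theorem F3761 : act 8 n866 = n646 := d32_2 (iv F2843) D866 (iv D646)
def n867 : Q := act 7 n638
theorem D867 : act 7 n638 = n867 := rfl
theorem F3762 : act 1 n867 = n641 := d13_1 D867 (iv D641) (iv F2841)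
theorem F3763 : act 3 n867 = n867 := d24_1 D867 (iv D867) (iv D638) F2155 D638
theorem F3764 : act 4 n867 = n867 := d28_1 D867 (iv D867) F2842
theorem F3765 : act 8 n867 = n867 := d35_2 (iv F2843) D867 (iv D867) F2843 F2176
def n868 : Q := act 6 n639
theorem D868 : act 6 n639 = n868 := rfl
theorem F3766 : act 1 n868 = n642 := d12_1 D868 (iv D642) (iv F2844)
theorem F3767 : act 4 n868 = n868 := d27_1 D868 (iv D868) F2845
theorem F3768 : act 7 n868 = n868 := d33_2 F2846 D868 (iv D868)
theorem F3769 : act 8 n868 = n647 := d34_2 (iv F2847) D868 (iv D647)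
def n869 : Q := act 4 n640
theorem D869 : act 4 n640 = n869 := rfl
theorem F3770 : act 0 n869 = n869 := d3_1 D869 (iv D869) F2848
theorem F3771 : act 2 n869 = n869 := d16_1 D869 (iv D869) F2849
theorem F3772 : act 3 n869 = n869 := d21_1 D869 (iv D869) F2850 F2163 (iv F2850)
theorem F3773 : act 5 n869 = n869 := d26_2 D640 D869 (iv D869) (iv D640) F2159
theorem F3774 : act 8 n869 = n648 := d29_2 (iv F2851) D869 (iv D648)
def n870 : Q := act 6 n640
theorem D870 : act 6 n640 = n870 := rfl
theorem F3775 : act 0 n870 = n870 := d5_1 D870 (iv D870) F2848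
theorem F3776 : act 2 n870 = n870 := d18_1 D870 (iv D870) F2849
theorem F3777 : act 3 n870 = n642 := d23_1 D870 (iv D642) (iv F2850)
theorem F3778 : act 8 n870 = n649 := d34_2 (iv F2851) D870 (iv D649)
def n871 : Q := act 7 n640
theorem D871 : act 7 n640 = n871 := rfl
theorem F3779 : act 0 n871 = n871 := d6_1 D871 (iv D871) F2848
theorem F3780 : act 2 n871 = n871 := d19_1 D871 (iv D871) F2849
theorem F3781 : act 3 n871 = n871 := d24_1 D871 (iv D871) F2850 F2164 (iv F2850)
theorem F3782 : act 5 n871 = n641 := d31_1 D871 (iv D641) D640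
theorem F3783 : act 8 n871 = n871 := d35_2 (iv F2851) D871 (iv D871) F2851 F2183
def n872 : Q := act 2 n643
theorem D872 : act 2 n643 = n872 := rfl
theorem F3784 : act 0 n872 = n645 := d1_1 D872 (iv D645) (iv F2862)
theorem F3785 : act 4 n872 = n872 := d16_2 F2864 D872 (iv D872)
theorem F3786 : act 7 n872 = n872 := d19_2 F2865 D872 (iv D872)
def n873 : Q := act 5 n643
theorem D873 : act 5 n643 = n873 := rfl
theorem F3787 : act 0 n873 = n646 := d4_1 D873 (iv D646) (iv F2862)
theorem F3788 : act 1 n873 = n873 := d11_1 D873 (iv D873) F2863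
theorem F3789 : act 3 n873 = n644 := d22_1 D873 (iv D644) D643
theorem F3790 : act 7 n873 = n873 := d31_2 F2865 D873 (iv D873)
def n874 : Q := act 6 n644
theorem D874 : act 6 n644 = n874 := rfl
theorem F3791 : act 0 n874 = n647 := d5_1 D874 (iv D647) (iv F2866)
theorem F3792 : act 1 n874 = n874 := d12_1 D874 (iv D874) F2867
theorem F3793 : act 4 n874 = n874 := d27_1 D874 (iv D874) F2868
theorem F3794 : act 7 n874 = n650 := d33_2 (iv F2869) D874 (iv D650)
def n875 : Q := act 5 n645
theorem D875 : act 5 n645 = n875 := rfl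
theorem F3795 : act 1 n875 = n875 := d11_1 D875 (iv D875) F2870
theorem F3796 : act 2 n875 = n646 := d17_1 D875 (iv D646) D645
theorem F3797 : act 7 n875 = n875 := d31_2 F2872 D875 (iv D875)
def n876 : Q := act 4 n646
theorem D876 : act 4 n646 = n876 := rfl
theorem F3798 : act 1 n876 = n648 := d10_1 D876 (iv D648) (iv F2873)
theorem F3799 : act 3 n876 = n876 := d21_1 D876 (iv D876) F2874 F2178 (iv F2874)
theorem F3800 : act 5 n876 = n876 := d26_2 D646 D876 (iv D876) (iv D646) F2175
theorem F3801 : act 7 n876 = n876 := d28_2 F2875 D876 (iv D876)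
def n877 : Q := act 6 n646
theorem D877 : act 6 n646 = n877 := rfl
theorem F3802 : act 1 n877 = n649 := d12_1 D877 (iv D649) (iv F2873)
theorem F3803 : act 3 n877 = n647 := d23_1 D877 (iv D647) (iv F2874)
theorem F3804 : act 7 n877 = n877 := d33_2 F2875 D877 (iv D877)
def n878 : Q := act 6 n648
theorem D878 : act 6 n648 = n878 := rfl
theorem F3805 : act 0 n878 = n878 := d5_1 D878 (iv D878) F2879
theorem F3806 : act 2 n878 = n878 := d18_1 D878 (iv D878) F2880
theorem F3807 : act 3 n878 = n878 := d23_1 D878 (iv D878) F2881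
theorem F3808 : act 4 n878 = n649 := d27_1 D878 (iv D649) D648
theorem F3809 : act 7 n878 = n878 := d33_2 F2883 D878 (iv D878)
def n898 : Q := act 1 n666
theorem D898 : act 1 n666 = n898 := rfl
theorem F3897 : act 2 n898 = n898 := d8_2 D666 D898 (iv D898) (iv D666) F2256
theorem F3898 : act 5 n898 = n898 := d11_2 F2964 D898 (iv D898)
theorem F3899 : act 6 n898 = n898 := d12_2 F2965 D898 (iv D898)
theorem F3900 : act 7 n898 = n898 := d13_2 F2966 D898 (iv D898)
def n899 : Q := act 4 n666
theorem D899 : act 4 n666 = n899 := rfl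
theorem F3901 : act 0 n899 = n710 := d3_1 D899 (iv D710) (iv F2963)
theorem F3902 : act 2 n899 = n667 := d16_1 D899 (iv D667) D666
theorem F3903 : act 6 n899 = n899 := d27_2 F2965 D899 (iv D899)
theorem F3904 : act 7 n899 = n899 := d28_2 F2966 D899 (iv D899)
def n900 : Q := act 5 n667
theorem D900 : act 5 n667 = n900 := rfl
theorem F3905 : act 0 n900 = n711 := d4_1 D900 (iv D711) (iv F2967)
theorem F3906 : act 1 n900 = n900 := d11_1 D900 (iv D900) F2968
theorem F3907 : act 3 n900 = n670 := d22_1 D900 (iv D670) (iv F2969)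
theorem F3908 : act 4 n900 = n900 := d26_1 D900 (iv D900) (iv D667) F2257 D667
theorem F3909 : act 7 n900 = n900 := d31_2 F2971 D900 (iv D900)
def n901 : Q := act 0 n668
theorem D901 : act 0 n668 = n901 := rfl
theorem F3910 : act 1 n901 = n715 := d0_2 D668 D901 (iv D715) (iv D526) (iv F2260)
theorem F3911 : act 2 n901 = n901 := d1_2 F2972 D901 (iv D901)
theorem F3912 : act 5 n901 = n671 := d4_2 (iv F2973) D901 (iv D671)
theorem F3913 : act 6 n901 = n901 := d5_2 F2974 D901 (iv D901)
theorem F3914 : act 7 n901 = n676 := d6_2 (iv F2975) D901 (iv D676)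
def n902 : Q := act 4 n668
theorem D902 : act 4 n668 = n902 := rfl
theorem F3915 : act 1 n902 = n669 := d10_1 D902 (iv D669) D668
theorem F3916 : act 2 n902 = n902 := d16_1 D902 (iv D902) F2972
theorem F3917 : act 6 n902 = n902 := d27_2 F2974 D902 (iv D902)
theorem F3918 : act 7 n902 = n677 := d28_2 (iv F2975) D902 (iv D677)
def n903 : Q := act 3 n669
theorem D903 : act 3 n669 = n903 := rfl
theorem F3919 : act 0 n903 = n717 := d2_1 D903 (iv D717) (iv F2976)
theorem F3920 : act 6 n903 = n903 := d23_2 F2978 D903 (iv D903)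
def n904 : Q := act 5 n669
theorem D904 : act 5 n669 = n904 := rfl
theorem F3921 : act 0 n904 = n718 := d4_1 D904 (iv D718) (iv F2976)
theorem F3922 : act 2 n904 = n670 := d17_1 D904 (iv D670) (iv F2977)
theorem F3923 : act 4 n904 = n674 := d26_1 D904 (iv D674) (iv D498) (iv F2261) D669
theorem F3924 : act 7 n904 = n679 := d31_2 (iv F2979) D904 (iv D679)
def n905 : Q := act 6 n670
theorem D905 : act 6 n670 = n905 := rfl
theorem F3925 : act 0 n905 = n719 := d5_1 D905 (iv D719) (iv F2980)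
theorem F3927 : act 4 n905 = n675 := d27_1 D905 (iv D675) (iv F2982)
theorem F3929 : act 7 n905 = n680 := d33_2 (iv F2983) D905 (iv D680)
def n906 : Q := act 4 n671
theorem D906 : act 4 n671 = n906 := rfl
theorem F3930 : act 0 n906 = n672 := d3_1 D906 (iv D672) D671
theorem F3931 : act 1 n906 = n725 := d10_1 D906 (iv D725) (iv F2984)
theorem F3932 : act 2 n906 = n906 := d16_1 D906 (iv D906) F2985
theorem F3933 : act 6 n906 = n799 := d27_2 (iv F2986) D906 (iv D799)
theorem F3934 : act 7 n906 = n681 := d28_2 (iv F2987) D906 (iv D681)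
def n907 : Q := act 3 n672
theorem D907 : act 3 n672 = n907 := rfl
theorem F3935 : act 1 n907 = n673 := d9_1 D907 (iv D673) (iv F2988)
theorem F3936 : act 6 n907 = n800 := d23_2 (iv F2990) D907 (iv D800)
def n908 : Q := act 5 n672
theorem D908 : act 5 n672 = n908 := rfl
theorem F3937 : act 1 n908 = n674 := d11_1 D908 (iv D674) (iv F2988)
theorem F3938 : act 2 n908 = n908 := d17_1 D908 (iv D908) F2989
theorem F3939 : act 7 n908 = n683 := d31_2 (iv F2991) D908 (iv D683)
def n909 : Q := act 5 n673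
theorem D909 : act 5 n673 = n909 := rfl
theorem F3940 : act 0 n909 = n728 := d4_1 D909 (iv D728) (iv F2992)
theorem F3941 : act 2 n909 = n909 := d17_1 D909 (iv D909) F2993
theorem F3942 : act 3 n909 = n674 := d22_1 D909 (iv D674) D673
def n910 : Q := act 7 n673
theorem D910 : act 7 n673 = n910 := rfl
theorem F3943 : act 0 n910 = n729 := d6_1 D910 (iv D729) (iv F2992)
theorem F3945 : act 3 n910 = n685 := d24_1 D910 (iv D685) (iv D505) (iv F2274) D673
def n911 : Q := act 6 n674
theorem D911 : act 6 n674 = n911 := rfl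
theorem F3947 : act 0 n911 = n730 := d5_1 D911 (iv D730) (iv F2995)
theorem F3950 : act 7 n911 = n686 := d33_2 (iv F2997) D911 (iv D686)
def n912 : Q := act 4 n676
theorem D912 : act 4 n676 = n912 := rfl
theorem F3951 : act 0 n912 = n677 := d3_1 D912 (iv D677) D676
theorem F3952 : act 1 n912 = n731 := d10_1 D912 (iv D731) (iv F3003)
theorem F3953 : act 2 n912 = n912 := d16_1 D912 (iv D912) F3004
theorem F3954 : act 6 n912 = n912 := d27_2 F3007 D912 (iv D912)
theorem F3955 : act 8 n912 = n912 := d29_2 F3008 D912 (iv D912)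
def n913 : Q := act 3 n677
theorem D913 : act 3 n677 = n913 := rfl
theorem F3956 : act 1 n913 = n678 := d9_1 D913 (iv D678) (iv F3009)
theorem F3957 : act 4 n913 = n913 := d21_2 D677 D913 (iv D913) (iv D677) F2280
theorem F3958 : act 6 n913 = n913 := d23_2 F3011 D913 (iv D913)
theorem F3959 : act 8 n913 = n913 := d25_2 F3012 D913 (iv D913)
def n914 : Q := act 5 n677
theorem D914 : act 5 n677 = n914 := rfl
theorem F3960 : act 1 n914 = n679 := d11_1 D914 (iv D679) (iv F3009)
theorem F3961 : act 2 n914 = n914 := d17_1 D914 (iv D914) F3010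
theorem F3962 : act 4 n914 = n683 := d26_1 D914 (iv D683) (iv D504) (iv F2281) D677
theorem F3963 : act 8 n914 = n914 := d32_2 F3012 D914 (iv D914)
def n915 : Q := act 5 n678
theorem D915 : act 5 n678 = n915 := rfl
theorem F3964 : act 0 n915 = n734 := d4_1 D915 (iv D734) (iv F3013)
theorem F3965 : act 2 n915 = n915 := d17_1 D915 (iv D915) F3014
theorem F3966 : act 3 n915 = n679 := d22_1 D915 (iv D679) D678
theorem F3967 : act 8 n915 = n915 := d32_2 F3017 D915 (iv D915)
def n916 : Q := act 7 n678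
theorem D916 : act 7 n678 = n916 := rfl
theorem F3968 : act 0 n916 = n735 := d6_1 D916 (iv D735) (iv F3013)
theorem F3969 : act 2 n916 = n916 := d19_1 D916 (iv D916) F3014
theorem F3970 : act 4 n916 = n916 := d28_1 D916 (iv D916) F3015
theorem F3971 : act 6 n916 = n916 := d33_1 D916 (iv D916) F3016
def n917 : Q := act 6 n679
theorem D917 : act 6 n679 = n917 := rfl
theorem F3972 : act 0 n917 = n736 := d5_1 D917 (iv D736) (iv F3018)
def n918 : Q := act 3 n681
theorem D918 : act 3 n681 = n918 := rfl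
theorem F3978 : act 1 n918 = n737 := d9_1 D918 (iv D737) (iv F3029)
def n919 : Q := act 5 n681
theorem D919 : act 5 n681 = n919 := rfl
theorem F3982 : act 0 n919 = n683 := d4_1 D919 (iv D683) (iv F3028)
theorem F3983 : act 1 n919 = n738 := d11_1 D919 (iv D738) (iv F3029)
theorem F3984 : act 2 n919 = n919 := d17_1 D919 (iv D919) F3030
theorem F3985 : act 8 n919 = n919 := d32_2 F3032 D919 (iv D919)
def n927 : Q := act 8 n685
theorem D927 : act 8 n685 = n927 := rfl
theorem F4013 : act 0 n927 = n745 := d7_1 D927 (iv D745) (iv F3044)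
theorem F4014 : act 2 n927 = n694 := d20_1 D927 (iv D694) (iv F3045)
def n938 : Q := act 2 n695
theorem D938 : act 2 n695 = n938 := rfl
theorem F4061 : act 3 n938 = n938 := d15_2 D695 D938 (iv D938) (iv D695) F2340
theorem F4062 : act 5 n938 = n938 := d17_2 F3090 D938 (iv D938)
theorem F4063 : act 6 n938 = n938 := d18_2 F3091 D938 (iv D938)
theorem F4064 : act 7 n938 = n696 := d19_2 (iv F3092) D938 (iv D696)
theorem F4065 : act 8 n938 = n938 := d20_2 F3093 D938 (iv D938)
def n939 : Q := act 4 n695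
theorem D939 : act 4 n695 = n939 := rfl
theorem F4066 : act 1 n939 = n939 := d10_1 D939 (iv D939) F3089
theorem F4067 : act 3 n939 = n939 := d21_1 D939 (iv D939) (iv D695) F2341 D695
theorem F4068 : act 6 n939 = n939 := d27_2 F3091 D939 (iv D939)
theorem F4069 : act 7 n939 = n697 := d28_2 (iv F3092) D939 (iv D697)
theorem F4070 : act 8 n939 = n939 := d29_2 F3093 D939 (iv D939)
def n940 : Q := act 1 n696
theorem D940 : act 1 n696 = n940 := rfl
theorem F4071 : act 2 n940 = n940 := d8_2 D696 D940 (iv D940) (iv D696) F2345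
theorem F4072 : act 3 n940 = n709 := d9_2 (iv F3094) D940 (iv D709)
theorem F4073 : act 5 n940 = n940 := d11_2 F3095 D940 (iv D940)
theorem F4074 : act 6 n940 = n940 := d12_2 F3096 D940 (iv D940)
theorem F4075 : act 8 n940 = n898 := d14_2 (iv F3097) D940 (iv D898)
def n941 : Q := act 4 n696
theorem D941 : act 4 n696 = n941 := rfl
theorem F4076 : act 2 n941 = n697 := d16_1 D941 (iv D697) D696
theorem F4077 : act 6 n941 = n941 := d27_2 F3096 D941 (iv D941)
theorem F4078 : act 8 n941 = n899 := d29_2 (iv F3097) D941 (iv D899)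
def n942 : Q := act 5 n697
theorem D942 : act 5 n697 = n942 := rfl
theorem F4079 : act 1 n942 = n942 := d11_1 D942 (iv D942) F3098
theorem F4080 : act 3 n942 = n700 := d22_1 D942 (iv D700) (iv F3099)
theorem F4081 : act 4 n942 = n942 := d26_1 D942 (iv D942) (iv D697) F2346 D697
theorem F4082 : act 8 n942 = n900 := d32_2 (iv F3101) D942 (iv D900)
def n943 : Q := act 0 n698
theorem D943 : act 0 n698 = n943 := rfl
theorem F4083 : act 2 n943 = n943 := d1_2 F3102 D943 (iv D943)
theorem F4084 : act 3 n943 = n715 := d2_2 (iv F3103) D943 (iv D715)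
theorem F4085 : act 5 n943 = n701 := d4_2 (iv F3104) D943 (iv D701)
theorem F4086 : act 6 n943 = n943 := d5_2 F3105 D943 (iv D943)
theorem F4087 : act 7 n943 = n943 := d6_2 F3106 D943 (iv D943)
theorem F4088 : act 8 n943 = n901 := d7_2 (iv F3107) D943 (iv D901)
def n944 : Q := act 4 n698
theorem D944 : act 4 n698 = n944 := rfl
theorem F4089 : act 1 n944 = n699 := d10_1 D944 (iv D699) D698
theorem F4090 : act 2 n944 = n944 := d16_1 D944 (iv D944) F3102
theorem F4091 : act 6 n944 = n944 := d27_2 F3105 D944 (iv D944)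
theorem F4092 : act 7 n944 = n944 := d28_2 F3106 D944 (iv D944)
theorem F4093 : act 8 n944 = n902 := d29_2 (iv F3107) D944 (iv D902)
def n945 : Q := act 3 n699
theorem D945 : act 3 n699 = n945 := rfl
theorem F4094 : act 4 n945 = n717 := d21_2 D699 D945 (iv D717) (iv D527) (iv F2349)
theorem F4095 : act 6 n945 = n945 := d23_2 F3109 D945 (iv D945)
theorem F4096 : act 8 n945 = n903 := d25_2 (iv F3111) D945 (iv D903)
def n946 : Q := act 5 n699
theorem D946 : act 5 n699 = n946 := rfl
theorem F4097 : act 2 n946 = n700 := d17_1 D946 (iv D700) (iv F3108)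
theorem F4098 : act 4 n946 = n704 := d26_1 D946 (iv D704) (iv D518) (iv F2350) D699
theorem F4099 : act 7 n946 = n946 := d31_2 F3110 D946 (iv D946)
theorem F4100 : act 8 n946 = n904 := d32_2 (iv F3111) D946 (iv D904)
def n947 : Q := act 6 n700
theorem D947 : act 6 n700 = n947 := rfl
theorem F4101 : act 1 n947 = n947 := d12_1 D947 (iv D947) F3112
theorem F4102 : act 4 n947 = n705 := d27_1 D947 (iv D705) (iv F3113)
theorem F4103 : act 5 n947 = n947 := d30_1 D947 (iv D947) (iv D700) F2355 D700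
theorem F4104 : act 7 n947 = n947 := d33_2 F3114 D947 (iv D947)
theorem F4105 : act 8 n947 = n905 := d34_2 (iv F3115) D947 (iv D905)
def n948 : Q := act 4 n701
theorem D948 : act 4 n701 = n948 := rfl
theorem F4106 : act 0 n948 = n702 := d3_1 D948 (iv D702) D701
theorem F4107 : act 2 n948 = n948 := d16_1 D948 (iv D948) F3116
theorem F4108 : act 6 n948 = n825 := d27_2 (iv F3118) D948 (iv D825)
theorem F4109 : act 7 n948 = n948 := d28_2 F3119 D948 (iv D948)
theorem F4110 : act 8 n948 = n906 := d29_2 (iv F3120) D948 (iv D906)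
def n949 : Q := act 3 n702
theorem D949 : act 3 n702 = n949 := rfl
theorem F4111 : act 1 n949 = n703 := d9_1 D949 (iv D703) (iv F3121)
theorem F4112 : act 4 n949 = n726 := d21_2 D702 D949 (iv D726) (iv D533) (iv F2359)
theorem F4113 : act 6 n949 = n826 := d23_2 (iv F3123) D949 (iv D826)
theorem F4114 : act 8 n949 = n907 := d25_2 (iv F3125) D949 (iv D907)
def n950 : Q := act 5 n702
theorem D950 : act 5 n702 = n950 := rfl
theorem F4115 : act 1 n950 = n704 := d11_1 D950 (iv D704) (iv F3121)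
theorem F4116 : act 2 n950 = n950 := d17_1 D950 (iv D950) F3122
theorem F4117 : act 7 n950 = n950 := d31_2 F3124 D950 (iv D950)
theorem F4118 : act 8 n950 = n908 := d32_2 (iv F3125) D950 (iv D908)
def n951 : Q := act 5 n703
theorem D951 : act 5 n703 = n951 := rfl
theorem F4119 : act 2 n951 = n951 := d17_1 D951 (iv D951) F3126
theorem F4120 : act 3 n951 = n704 := d22_1 D951 (iv D704) D703
theorem F4121 : act 8 n951 = n909 := d32_2 (iv F3129) D951 (iv D909)
def n952 : Q := act 7 n703
theorem D952 : act 7 n703 = n952 := rfl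
theorem F4122 : act 2 n952 = n952 := d19_1 D952 (iv D952) F3126
theorem F4123 : act 3 n952 = n952 := d24_1 D952 (iv D952) (iv D703) F2365 D703
theorem F4124 : act 4 n952 = n729 := d28_1 D952 (iv D729) (iv F3127)
theorem F4125 : act 6 n952 = n829 := d33_1 D952 (iv D829) (iv F3128)
def n953 : Q := act 6 n704
theorem D953 : act 6 n704 = n953 := rfl
theorem F4126 : act 2 n953 = n705 := d18_1 D953 (iv D705) (iv F3130)
theorem F4128 : act 7 n953 = n953 := d33_2 F3131 D953 (iv D953)
theorem F4129 : act 8 n953 = n911 := d34_2 (iv F3132) D953 (iv D911)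
def n954 : Q := act 2 n706
theorem D954 : act 2 n706 = n954 := rfl
theorem F4130 : act 0 n954 = n938 := d1_1 D954 (iv D938) (iv F3138)
theorem F4131 : act 3 n954 = n954 := d15_2 D706 D954 (iv D954) (iv D706) F2373
theorem F4132 : act 5 n954 = n954 := d17_2 F3140 D954 (iv D954)
theorem F4133 : act 6 n954 = n954 := d18_2 F3141 D954 (iv D954)
theorem F4134 : act 7 n954 = n707 := d19_2 (iv F3142) D954 (iv D707)
theorem F4135 : act 8 n954 = n954 := d20_2 F3143 D954 (iv D954)
def n955 : Q := act 4 n706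
theorem D955 : act 4 n706 = n955 := rfl
theorem F4136 : act 0 n955 = n939 := d3_1 D955 (iv D939) (iv F3138)
theorem F4137 : act 1 n955 = n752 := d10_1 D955 (iv D752) (iv F3139)
theorem F4138 : act 3 n955 = n955 := d21_1 D955 (iv D955) (iv D706) F2374 D706
theorem F4139 : act 6 n955 = n955 := d27_2 F3141 D955 (iv D955)
theorem F4140 : act 7 n955 = n708 := d28_2 (iv F3142) D955 (iv D708)
theorem F4141 : act 8 n955 = n955 := d29_2 F3143 D955 (iv D955)
def n956 : Q := act 1 n707
theorem D956 : act 1 n707 = n956 := rfl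
theorem F4142 : act 2 n956 = n753 := d8_2 D707 D956 (iv D753) (iv D554) (iv F2379)
theorem F4143 : act 3 n956 = n898 := d9_2 (iv F3145) D956 (iv D898)
theorem F4144 : act 5 n956 = n956 := d11_2 F3146 D956 (iv D956)
theorem F4145 : act 6 n956 = n956 := d12_2 F3147 D956 (iv D956)
theorem F4146 : act 8 n956 = n709 := d14_2 (iv F3148) D956 (iv D709)
def n957 : Q := act 4 n707
theorem D957 : act 4 n707 = n957 := rfl
theorem F4147 : act 0 n957 = n941 := d3_1 D957 (iv D941) (iv F3144)
theorem F4148 : act 2 n957 = n708 := d16_1 D957 (iv D708) D707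
theorem F4149 : act 6 n957 = n957 := d27_2 F3147 D957 (iv D957)
theorem F4150 : act 8 n957 = n710 := d29_2 (iv F3148) D957 (iv D710)
def n958 : Q := act 5 n708
theorem D958 : act 5 n708 = n958 := rfl
theorem F4151 : act 0 n958 = n942 := d4_1 D958 (iv D942) (iv F3149)
theorem F4152 : act 1 n958 = n755 := d11_1 D958 (iv D755) (iv F3150)
theorem F4153 : act 3 n958 = n714 := d22_1 D958 (iv D714) (iv F3151)
theorem F4154 : act 4 n958 = n958 := d26_1 D958 (iv D958) (iv D708) F2380 D708
theorem F4155 : act 8 n958 = n711 := d32_2 (iv F3153) D958 (iv D711)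
def n959 : Q := act 0 n709
theorem D959 : act 0 n709 = n959 := rfl
theorem F4156 : act 2 n959 = n756 := d1_2 (iv F3154) D959 (iv D756)
theorem F4157 : act 5 n959 = n959 := d4_2 F3155 D959 (iv D959)
theorem F4158 : act 6 n959 = n959 := d5_2 F3156 D959 (iv D959)
theorem F4159 : act 7 n959 = n959 := d6_2 F3157 D959 (iv D959)
def n960 : Q := act 4 n709
theorem D960 : act 4 n709 = n960 := rfl
theorem F4160 : act 1 n960 = n710 := d10_1 D960 (iv D710) D709
theorem F4161 : act 2 n960 = n757 := d16_1 D960 (iv D757) (iv F3154)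
theorem F4162 : act 6 n960 = n960 := d27_2 F3156 D960 (iv D960)
theorem F4163 : act 7 n960 = n960 := d28_2 F3157 D960 (iv D960)
def n961 : Q := act 3 n710
theorem D961 : act 3 n710 = n961 := rfl
theorem F4164 : act 2 n961 = n717 := d15_1 D961 (iv D717) F2405 (iv F2387) (iv F3158)
theorem F4165 : act 6 n961 = n961 := d23_2 F3159 D961 (iv D961)
def n962 : Q := act 5 n710
theorem D962 : act 5 n710 = n962 := rfl
theorem F4166 : act 2 n962 = n711 := d17_1 D962 (iv D711) (iv F3158)
theorem F4167 : act 4 n962 = n962 := d26_1 D962 (iv D962) (iv D710) F2383 D710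
theorem F4168 : act 7 n962 = n962 := d31_2 F3160 D962 (iv D962)
def n963 : Q := act 6 n711
theorem D963 : act 6 n711 = n963 := rfl
theorem F4169 : act 1 n963 = n760 := d12_1 D963 (iv D760) (iv F3161)
theorem F4170 : act 3 n963 = n719 := d23_1 D963 (iv D719) (iv F3162)
theorem F4171 : act 4 n963 = n963 := d27_1 D963 (iv D963) F3163
theorem F4172 : act 5 n963 = n963 := d30_1 D963 (iv D963) (iv D711) F2388 D711
theorem F4173 : act 7 n963 = n963 := d33_2 F3164 D963 (iv D963)
def n964 : Q := act 0 n712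
theorem D964 : act 0 n712 = n964 := rfl
theorem F4174 : act 1 n964 = n943 := d0_2 D712 D964 (iv D943) (iv D698) (iv F2390)
theorem F4175 : act 2 n964 = n761 := d1_2 (iv F3165) D964 (iv D761)
theorem F4176 : act 3 n964 = n901 := d2_2 (iv F3166) D964 (iv D901)
theorem F4177 : act 5 n964 = n720 := d4_2 (iv F3167) D964 (iv D720)
theorem F4178 : act 6 n964 = n964 := d5_2 F3168 D964 (iv D964)
theorem F4179 : act 7 n964 = n964 := d6_2 F3169 D964 (iv D964)
theorem F4180 : act 8 n964 = n715 := d7_2 (iv F3170) D964 (iv D715)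
def n965 : Q := act 4 n712
theorem D965 : act 4 n712 = n965 := rfl
theorem F4181 : act 1 n965 = n713 := d10_1 D965 (iv D713) D712
theorem F4182 : act 2 n965 = n762 := d16_1 D965 (iv D762) (iv F3165)
theorem F4183 : act 6 n965 = n965 := d27_2 F3168 D965 (iv D965)
theorem F4184 : act 7 n965 = n965 := d28_2 F3169 D965 (iv D965)
theorem F4185 : act 8 n965 = n716 := d29_2 (iv F3170) D965 (iv D716)
def n966 : Q := act 3 n713
theorem D966 : act 3 n713 = n966 := rfl
theorem F4186 : act 0 n966 = n945 := d2_1 D966 (iv D945) (iv F3171)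
theorem F4187 : act 4 n966 = n903 := d21_2 D713 D966 (iv D903) (iv D669) (iv F2391)
theorem F4188 : act 6 n966 = n966 := d23_2 F3173 D966 (iv D966)
theorem F4189 : act 8 n966 = n717 := d25_2 (iv F3175) D966 (iv D717)
def n967 : Q := act 5 n713
theorem D967 : act 5 n713 = n967 := rfl
theorem F4190 : act 0 n967 = n946 := d4_1 D967 (iv D946) (iv F3171)
theorem F4191 : act 2 n967 = n714 := d17_1 D967 (iv D714) (iv F3172)
theorem F4192 : act 4 n967 = n723 := d26_1 D967 (iv D723) (iv D530) (iv F2392) D713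
theorem F4193 : act 7 n967 = n967 := d31_2 F3174 D967 (iv D967)
theorem F4194 : act 8 n967 = n718 := d32_2 (iv F3175) D967 (iv D718)
def n968 : Q := act 6 n714
theorem D968 : act 6 n714 = n968 := rfl
theorem F4195 : act 0 n968 = n947 := d5_1 D968 (iv D947) (iv F3176)
theorem F4196 : act 1 n968 = n765 := d12_1 D968 (iv D765) (iv F3177)
theorem F4197 : act 4 n968 = n724 := d27_1 D968 (iv D724) (iv F3178)
theorem F4198 : act 5 n968 = n968 := d30_1 D968 (iv D968) (iv D714) F2398 D714
theorem F4199 : act 7 n968 = n968 := d33_2 F3179 D968 (iv D968)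
theorem F4200 : act 8 n968 = n719 := d34_2 (iv F3180) D968 (iv D719)
def n969 : Q := act 4 n715
theorem D969 : act 4 n715 = n969 := rfl
theorem F4201 : act 0 n969 = n716 := d3_1 D969 (iv D716) D715
theorem F4202 : act 2 n969 = n766 := d16_1 D969 (iv D766) (iv F3181)
theorem F4203 : act 6 n969 = n969 := d27_2 F3183 D969 (iv D969)
theorem F4204 : act 7 n969 = n731 := d28_2 (iv F3184) D969 (iv D731)
def n970 : Q := act 3 n716
theorem D970 : act 3 n716 = n970 := rfl
theorem F4205 : act 1 n970 = n717 := d9_1 D970 (iv D717) (iv F3185)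
theorem F4206 : act 6 n970 = n970 := d23_2 F3187 D970 (iv D970)
def n971 : Q := act 5 n716
theorem D971 : act 5 n716 = n971 := rfl
theorem F4207 : act 1 n971 = n718 := d11_1 D971 (iv D718) (iv F3185)
theorem F4208 : act 2 n971 = n768 := d17_1 D971 (iv D768) (iv F3186)
theorem F4209 : act 4 n971 = n727 := d26_1 D971 (iv D727) (iv D533) (iv F2402) D716
theorem F4210 : act 7 n971 = n733 := d31_2 (iv F3188) D971 (iv D733)
def n972 : Q := act 5 n717
theorem D972 : act 5 n717 = n972 := rfl
theorem F4211 : act 3 n972 = n718 := d22_1 D972 (iv D718) D717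
def n973 : Q := act 7 n717
theorem D973 : act 7 n717 = n973 := rfl
theorem F4212 : act 3 n973 = n735 := d24_1 D973 (iv D735) (iv D539) (iv F2407) D717
theorem F4213 : act 6 n973 = n973 := d33_1 D973 (iv D973) F3189
def n974 : Q := act 6 n718
theorem D974 : act 6 n718 = n974 := rfl
theorem F4214 : act 2 n974 = n719 := d18_1 D974 (iv D719) (iv F3190)
theorem F4215 : act 4 n974 = n730 := d27_1 D974 (iv D730) (iv F3191)
theorem F4216 : act 5 n974 = n974 := d30_1 D974 (iv D974) (iv D718) F2406 D718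
theorem F4217 : act 7 n974 = n736 := d33_2 (iv F3192) D974 (iv D736)
def n975 : Q := act 4 n720
theorem D975 : act 4 n720 = n975 := rfl
theorem F4218 : act 0 n975 = n721 := d3_1 D975 (iv D721) D720
theorem F4219 : act 1 n975 = n948 := d10_1 D975 (iv D948) (iv F3197)
theorem F4220 : act 2 n975 = n772 := d16_1 D975 (iv D772) (iv F3198)
theorem F4221 : act 6 n975 = n831 := d27_2 (iv F3200) D975 (iv D831)
theorem F4222 : act 7 n975 = n975 := d28_2 F3201 D975 (iv D975)
theorem F4223 : act 8 n975 = n725 := d29_2 (iv F3202) D975 (iv D725)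
def n976 : Q := act 3 n721
theorem D976 : act 3 n721 = n976 := rfl
theorem F4224 : act 1 n976 = n722 := d9_1 D976 (iv D722) (iv F3203)
theorem F4225 : act 4 n976 = n907 := d21_2 D721 D976 (iv D907) (iv D672) (iv F2412)
theorem F4226 : act 6 n976 = n832 := d23_2 (iv F3205) D976 (iv D832)
theorem F4227 : act 8 n976 = n726 := d25_2 (iv F3207) D976 (iv D726)
def n977 : Q := act 5 n721
theorem D977 : act 5 n721 = n977 := rfl
theorem F4228 : act 1 n977 = n723 := d11_1 D977 (iv D723) (iv F3203)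
theorem F4229 : act 2 n977 = n774 := d17_1 D977 (iv D774) (iv F3204)
theorem F4230 : act 7 n977 = n977 := d31_2 F3206 D977 (iv D977)
theorem F4231 : act 8 n977 = n727 := d32_2 (iv F3207) D977 (iv D727)
def n978 : Q := act 5 n722
theorem D978 : act 5 n722 = n978 := rfl
theorem F4232 : act 0 n978 = n951 := d4_1 D978 (iv D951) (iv F3208)
theorem F4233 : act 2 n978 = n978 := d17_1 D978 (iv D978) F3209
theorem F4234 : act 3 n978 = n723 := d22_1 D978 (iv D723) D722
theorem F4235 : act 8 n978 = n728 := d32_2 (iv F3212) D978 (iv D728)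
def n979 : Q := act 7 n722
theorem D979 : act 7 n722 = n979 := rfl
theorem F4236 : act 0 n979 = n952 := d6_1 D979 (iv D952) (iv F3208)
theorem F4237 : act 2 n979 = n979 := d19_1 D979 (iv D979) F3209
theorem F4238 : act 3 n979 = n979 := d24_1 D979 (iv D979) (iv D722) F2419 D722
theorem F4239 : act 4 n979 = n910 := d28_1 D979 (iv D910) (iv F3210)
theorem F4240 : act 6 n979 = n835 := d33_1 D979 (iv D835) (iv F3211)
def n980 : Q := act 6 n723
theorem D980 : act 6 n723 = n980 := rfl
theorem F4241 : act 0 n980 = n953 := d5_1 D980 (iv D953) (iv F3213)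
theorem F4242 : act 2 n980 = n724 := d18_1 D980 (iv D724) (iv F3214)
theorem F4243 : act 5 n980 = n836 := d30_1 D980 (iv D836) (iv D616) (iv F2418) D723
theorem F4244 : act 7 n980 = n980 := d33_2 F3215 D980 (iv D980)
theorem F4245 : act 8 n980 = n730 := d34_2 (iv F3216) D980 (iv D730)
def n981 : Q := act 3 n725
theorem D981 : act 3 n725 = n981 := rfl
theorem F4246 : act 0 n981 = n726 := d2_1 D981 (iv D726) (iv F3223)
theorem F4247 : act 6 n981 = n837 := d23_2 (iv F3225) D981 (iv D837)
def n982 : Q := act 5 n725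
theorem D982 : act 5 n725 = n982 := rfl
theorem F4248 : act 0 n982 = n727 := d4_1 D982 (iv D727) (iv F3223)
theorem F4249 : act 2 n982 = n779 := d17_1 D982 (iv D779) (iv F3224)
theorem F4250 : act 7 n982 = n738 := d31_2 (iv F3226) D982 (iv D738)
def n983 : Q := act 2 n726
theorem D983 : act 2 n726 = n983 := rfl
theorem F4251 : act 1 n983 = n983 := d8_1 D983 (iv D983) F3227 F2433 (iv F3227)
theorem F4252 : act 3 n983 = n780 := d15_2 D726 D983 (iv D780) (iv D573) (iv F2430)
theorem F4253 : act 6 n983 = n839 := d18_2 (iv F3228) D983 (iv D839)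
def n984 : Q := act 5 n726
theorem D984 : act 5 n726 = n984 := rfl
theorem F4254 : act 1 n984 = n728 := d11_1 D984 (iv D728) (iv F3227)
theorem F4255 : act 3 n984 = n727 := d22_1 D984 (iv D727) D726
def n985 : Q := act 7 n726
theorem D985 : act 7 n726 = n985 := rfl
theorem F4256 : act 1 n985 = n729 := d13_1 D985 (iv D729) (iv F3227)
theorem F4257 : act 3 n985 = n740 := d24_1 D985 (iv D740) (iv D543) (iv F2432) D726
theorem F4258 : act 6 n985 = n841 := d33_1 D985 (iv D841) (iv F3228)
def n986 : Q := act 6 n727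
theorem D986 : act 6 n727 = n986 := rfl
theorem F4259 : act 1 n986 = n730 := d12_1 D986 (iv D730) (iv F3229)
theorem F4260 : act 2 n986 = n782 := d18_1 D986 (iv D782) (iv F3230)
theorem F4261 : act 5 n986 = n842 := d30_1 D986 (iv D842) (iv D620) (iv F2431) D727
theorem F4262 : act 7 n986 = n741 := d33_2 (iv F3231) D986 (iv D741)
def n987 : Q := act 4 n728
theorem D987 : act 4 n728 = n987 := rfl
theorem F4263 : act 2 n987 = n987 := d16_1 D987 (iv D987) F3232
def n988 : Q := act 6 n728
theorem D988 : act 6 n728 = n988 := rfl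
theorem F4264 : act 2 n988 = n988 := d18_1 D988 (iv D988) F3232
theorem F4265 : act 3 n988 = n730 := d23_1 D988 (iv D730) (iv F3233)
theorem F4266 : act 5 n988 = n844 := d30_1 D988 (iv D844) (iv D621) (iv F2434) D728
def n989 : Q := act 7 n728
theorem D989 : act 7 n728 = n989 := rfl
theorem F4267 : act 2 n989 = n989 := d19_1 D989 (iv D989) F3232
theorem F4268 : act 3 n989 = n744 := d24_1 D989 (iv D744) F2475 (iv F2436) (iv F3233)
theorem F4269 : act 5 n989 = n729 := d31_1 D989 (iv D729) D728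
def n990 : Q := act 8 n729
theorem D990 : act 8 n729 = n990 := rfl
theorem F4270 : act 2 n990 = n990 := d20_1 D990 (iv D990) F3234
theorem F4271 : act 3 n990 = n745 := d25_1 D990 (iv D745) (iv F3235)
theorem F4272 : act 6 n990 = n846 := d34_1 D990 (iv D846) (iv F3236)
def n991 : Q := act 3 n731
theorem D991 : act 3 n731 = n991 := rfl
theorem F4273 : act 0 n991 = n732 := d2_1 D991 (iv D732) (iv F3240)
theorem F4274 : act 4 n991 = n991 := d21_2 D731 D991 (iv D991) (iv D731) F2442
theorem F4275 : act 6 n991 = n991 := d23_2 F3242 D991 (iv D991)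
theorem F4276 : act 8 n991 = n991 := d25_2 F3243 D991 (iv D991)
def n992 : Q := act 5 n731
theorem D992 : act 5 n731 = n992 := rfl
theorem F4277 : act 0 n992 = n733 := d4_1 D992 (iv D733) (iv F3240)
theorem F4278 : act 2 n992 = n786 := d17_1 D992 (iv D786) (iv F3241)
theorem F4279 : act 4 n992 = n738 := d26_1 D992 (iv D738) (iv D542) (iv F2443) D731
theorem F4280 : act 8 n992 = n992 := d32_2 F3243 D992 (iv D992)
def n993 : Q := act 2 n732
theorem D993 : act 2 n732 = n993 := rfl
theorem F4281 : act 1 n993 = n993 := d8_1 D993 (iv D993) F3244 F2450 (iv F3244)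
theorem F4282 : act 3 n993 = n787 := d15_2 D732 D993 (iv D787) (iv D578) (iv F2447)
theorem F4283 : act 4 n993 = n993 := d16_2 F3245 D993 (iv D993)
theorem F4284 : act 6 n993 = n993 := d18_2 F3246 D993 (iv D993)
theorem F4285 : act 8 n993 = n993 := d20_2 F3247 D993 (iv D993)
def n994 : Q := act 5 n732
theorem D994 : act 5 n732 = n994 := rfl
theorem F4286 : act 1 n994 = n734 := d11_1 D994 (iv D734) (iv F3244)
theorem F4287 : act 3 n994 = n733 := d22_1 D994 (iv D733) D732
theorem F4288 : act 8 n994 = n994 := d32_2 F3247 D994 (iv D994)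
def n995 : Q := act 7 n732
theorem D995 : act 7 n732 = n995 := rfl
theorem F4289 : act 1 n995 = n735 := d13_1 D995 (iv D735) (iv F3244)
theorem F4290 : act 4 n995 = n995 := d28_1 D995 (iv D995) F3245
theorem F4291 : act 6 n995 = n995 := d33_1 D995 (iv D995) F3246
def n996 : Q := act 6 n733
theorem D996 : act 6 n733 = n996 := rfl
theorem F4292 : act 1 n996 = n736 := d12_1 D996 (iv D736) (iv F3248)
theorem F4293 : act 2 n996 = n790 := d18_1 D996 (iv D790) (iv F3249)
theorem F4294 : act 4 n996 = n741 := d27_1 D996 (iv D741) (iv F3250)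
theorem F4295 : act 5 n996 = n996 := d30_1 D996 (iv D996) (iv D733) F2448 D733
theorem F4296 : act 8 n996 = n996 := d34_2 F3251 D996 (iv D996)
def n997 : Q := act 4 n734
theorem D997 : act 4 n734 = n997 := rfl
theorem F4297 : act 2 n997 = n997 := d16_1 D997 (iv D997) F3252
theorem F4298 : act 3 n997 = n742 := d21_1 D997 (iv D742) F2475 (iv F2455) (iv F3253)
theorem F4299 : act 5 n997 = n997 := d26_2 D734 D997 (iv D997) (iv D734) F2451
theorem F4300 : act 8 n997 = n997 := d29_2 F3254 D997 (iv D997)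
def n998 : Q := act 6 n734
theorem D998 : act 6 n734 = n998 := rfl
theorem F4301 : act 2 n998 = n998 := d18_1 D998 (iv D998) F3252
theorem F4302 : act 3 n998 = n736 := d23_1 D998 (iv D736) (iv F3253)
theorem F4303 : act 5 n998 = n998 := d30_1 D998 (iv D998) (iv D734) F2452 D734
theorem F4304 : act 8 n998 = n998 := d34_2 F3254 D998 (iv D998)
def n999 : Q := act 7 n734
theorem D999 : act 7 n734 = n999 := rfl
theorem F4305 : act 2 n999 = n999 := d19_1 D999 (iv D999) F3252
theorem F4306 : act 5 n999 = n735 := d31_1 D999 (iv D735) D734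
def n1000 : Q := act 8 n735
theorem D1000 : act 8 n735 = n1000 := rfl
theorem F4307 : act 2 n1000 = n1000 := d20_1 D1000 (iv D1000) F3255
theorem F4308 : act 4 n1000 = n1000 := d29_1 D1000 (iv D1000) F3256
theorem F4309 : act 6 n1000 = n1000 := d34_1 D1000 (iv D1000) F3257
theorem F4310 : act 7 n1000 = n1000 := d35_1 D1000 (iv D1000) (iv D735) F2453 D735
def n1001 : Q := act 5 n737
theorem D1001 : act 5 n737 = n1001 := rfl
theorem F4311 : act 0 n1001 = n739 := d4_1 D1001 (iv D739) (iv F3262)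
theorem F4312 : act 2 n1001 = n1001 := d17_1 D1001 (iv D1001) F3263
theorem F4313 : act 3 n1001 = n738 := d22_1 D1001 (iv D738) D737
theorem F4314 : act 8 n1001 = n1001 := d32_2 F3266 D1001 (iv D1001)
def n1002 : Q := act 7 n737
theorem D1002 : act 7 n737 = n1002 := rfl
theorem F4315 : act 0 n1002 = n740 := d6_1 D1002 (iv D740) (iv F3262)
theorem F4316 : act 2 n1002 = n1002 := d19_1 D1002 (iv D1002) F3263
theorem F4317 : act 4 n1002 = n1002 := d28_1 D1002 (iv D1002) F3264
theorem F4318 : act 6 n1002 = n848 := d33_1 D1002 (iv D848) (iv F3265)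
def n1003 : Q := act 6 n738
theorem D1003 : act 6 n738 = n1003 := rfl
theorem F4319 : act 0 n1003 = n741 := d5_1 D1003 (iv D741) (iv F3267)
theorem F4320 : act 2 n1003 = n794 := d18_1 D1003 (iv D794) (iv F3268)
theorem F4321 : act 5 n1003 = n849 := d30_1 D1003 (iv D849) (iv D625) (iv F2464) D738
theorem F4322 : act 8 n1003 = n1003 := d34_2 F3269 D1003 (iv D1003)
def n1004 : Q := act 4 n739
theorem D1004 : act 4 n739 = n1004 := rfl
theorem F4323 : act 1 n1004 = n742 := d10_1 D1004 (iv D742) (iv F3270)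
theorem F4324 : act 2 n1004 = n1004 := d16_1 D1004 (iv D1004) F3271
theorem F4325 : act 5 n1004 = n1004 := d26_2 D739 D1004 (iv D1004) (iv D739) F2468
theorem F4326 : act 8 n1004 = n1004 := d29_2 F3273 D1004 (iv D1004)
def n1005 : Q := act 6 n739
theorem D1005 : act 6 n739 = n1005 := rfl
theorem F4329 : act 3 n1005 = n741 := d23_1 D1005 (iv D741) (iv F3272)
theorem F4330 : act 5 n1005 = n851 := d30_1 D1005 (iv D851) (iv D626) (iv F2469) D739
def n1006 : Q := act 7 n739
theorem D1006 : act 7 n739 = n1006 := rfl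
theorem F4332 : act 1 n1006 = n744 := d13_1 D1006 (iv D744) (iv F3270)
theorem F4333 : act 2 n1006 = n1006 := d19_1 D1006 (iv D1006) F3271
theorem F4334 : act 5 n1006 = n740 := d31_1 D1006 (iv D740) D739
def n1007 : Q := act 8 n740
theorem D1007 : act 8 n740 = n1007 := rfl
theorem F4335 : act 1 n1007 = n745 := d14_1 D1007 (iv D745) (iv F3274)
theorem F4336 : act 2 n1007 = n1007 := d20_1 D1007 (iv D1007) F3275
theorem F4337 : act 4 n1007 = n1007 := d29_1 D1007 (iv D1007) F3276
theorem F4338 : act 6 n1007 = n853 := d34_1 D1007 (iv D853) (iv F3277)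
theorem F4339 : act 7 n1007 = n1007 := d35_1 D1007 (iv D1007) (iv D740) F2470 D740
def n1008 : Q := act 6 n742
theorem D1008 : act 6 n742 = n1008 := rfl
theorem F4340 : act 2 n1008 = n746 := d18_1 D1008 (iv D746) (iv F3282)
theorem F4341 : act 4 n1008 = n743 := d27_1 D1008 (iv D743) D742
def n1009 : Q := act 7 n742
theorem D1009 : act 7 n742 = n1009 := rfl
theorem F4343 : act 2 n1009 = n747 := d19_1 D1009 (iv D747) (iv F3282)
theorem F4344 : act 4 n1009 = n744 := d28_1 D1009 (iv D744) D742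
theorem F4345 : act 5 n1009 = n1009 := d31_1 D1009 (iv D1009) F3283
def n1010 : Q := act 7 n743
theorem D1010 : act 7 n743 = n1010 := rfl
theorem F4347 : act 5 n1010 = n856 := d31_1 D1010 (iv D856) (iv F3287)
theorem F4348 : act 6 n1010 = n744 := d33_1 D1010 (iv D744) D743
def n1011 : Q := act 8 n744
theorem D1011 : act 8 n744 = n1011 := rfl
theorem F4350 : act 5 n1011 = n745 := d32_1 D1011 (iv D745) (iv F3290)
def n1013 : Q := act 7 n746
theorem D1013 : act 7 n746 = n1013 := rfl
theorem F4358 : act 4 n1013 = n748 := d28_1 D1013 (iv D748) (iv F3297)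
theorem F4359 : act 6 n1013 = n747 := d33_1 D1013 (iv D747) D746
def n1014 : Q := act 3 n747
theorem D1014 : act 3 n747 = n1014 := rfl
theorem F4360 : act 1 n1014 = n1014 := d9_1 D1014 (iv D1014) F3299
theorem F4361 : act 4 n1014 = n1014 := d21_2 (iv F3300) D1014 (iv D1014) F3300 F2492
theorem F4362 : act 5 n1014 = n1014 := d22_2 F3301 D1014 (iv D1014)
theorem F4363 : act 7 n1014 = n1014 := d24_2 D747 D1014 (iv D1014) (iv D747) F2484
def n1017 : Q := act 2 n750
theorem D1017 : act 2 n750 = n1017 := rfl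
theorem F4373 : act 0 n1017 = n1017 := d1_1 D1017 (iv D1017) F3310
theorem F4374 : act 3 n1017 = n751 := d15_2 D750 D1017 (iv D751) (iv D553) (iv F2501)
theorem F4375 : act 5 n1017 = n1017 := d17_2 F3312 D1017 (iv D1017)
theorem F4376 : act 6 n1017 = n1017 := d18_2 F3313 D1017 (iv D1017)
theorem F4377 : act 7 n1017 = n1017 := d19_2 F3314 D1017 (iv D1017)
theorem F4378 : act 8 n1017 = n1017 := d20_2 F3315 D1017 (iv D1017)
def n1018 : Q := act 4 n750
theorem D1018 : act 4 n750 = n1018 := rfl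
theorem F4379 : act 0 n1018 = n1018 := d3_1 D1018 (iv D1018) F3310
theorem F4380 : act 1 n1018 = n1018 := d10_1 D1018 (iv D1018) F3311
theorem F4381 : act 3 n1018 = n1018 := d21_1 D1018 (iv D1018) (iv D750) F2502 D750
theorem F4382 : act 6 n1018 = n1018 := d27_2 F3313 D1018 (iv D1018)
theorem F4383 : act 7 n1018 = n1018 := d28_2 F3314 D1018 (iv D1018)
theorem F4384 : act 8 n1018 = n1018 := d29_2 F3315 D1018 (iv D1018)
def n1019 : Q := act 1 n751
theorem D1019 : act 1 n751 = n1019 := rfl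
theorem F4385 : act 5 n1019 = n1019 := d11_2 F3317 D1019 (iv D1019)
theorem F4386 : act 6 n1019 = n1019 := d12_2 F3318 D1019 (iv D1019)
theorem F4387 : act 7 n1019 = n753 := d13_2 (iv F3319) D1019 (iv D753)
theorem F4388 : act 8 n1019 = n1019 := d14_2 F3320 D1019 (iv D1019)
def n1020 : Q := act 4 n751
theorem D1020 : act 4 n751 = n1020 := rfl
theorem F4389 : act 0 n1020 = n1020 := d3_1 D1020 (iv D1020) F3316
theorem F4390 : act 2 n1020 = n752 := d16_1 D1020 (iv D752) D751
theorem F4391 : act 6 n1020 = n1020 := d27_2 F3318 D1020 (iv D1020)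
theorem F4392 : act 7 n1020 = n754 := d28_2 (iv F3319) D1020 (iv D754)
theorem F4393 : act 8 n1020 = n1020 := d29_2 F3320 D1020 (iv D1020)
def n1021 : Q := act 5 n752
theorem D1021 : act 5 n752 = n1021 := rfl
theorem F4394 : act 0 n1021 = n1021 := d4_1 D1021 (iv D1021) F3321
theorem F4395 : act 3 n1021 = n1021 := d22_1 D1021 (iv D1021) F3322
theorem F4396 : act 4 n1021 = n1021 := d26_1 D1021 (iv D1021) (iv D752) F2507 D752
theorem F4397 : act 7 n1021 = n755 := d31_2 (iv F3324) D1021 (iv D755)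
theorem F4398 : act 8 n1021 = n1021 := d32_2 F3325 D1021 (iv D1021)
def n1022 : Q := act 0 n753
theorem D1022 : act 0 n753 = n1022 := rfl
theorem F4399 : act 1 n1022 = n1022 := d0_2 D753 D1022 (iv D1022) (iv D753) F2511
theorem F4400 : act 3 n1022 = n1022 := d2_2 F3326 D1022 (iv D1022)
theorem F4401 : act 5 n1022 = n1022 := d4_2 F3327 D1022 (iv D1022)
theorem F4402 : act 6 n1022 = n1022 := d5_2 F3328 D1022 (iv D1022)
theorem F4403 : act 8 n1022 = n756 := d7_2 (iv F3329) D1022 (iv D756)
def n1023 : Q := act 4 n753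
theorem D1023 : act 4 n753 = n1023 := rfl
theorem F4404 : act 1 n1023 = n754 := d10_1 D1023 (iv D754) D753
theorem F4405 : act 6 n1023 = n1023 := d27_2 F3328 D1023 (iv D1023)
theorem F4406 : act 8 n1023 = n757 := d29_2 (iv F3329) D1023 (iv D757)
def n1024 : Q := act 3 n754
theorem D1024 : act 3 n754 = n1024 := rfl
theorem F4407 : act 0 n1024 = n1024 := d2_1 D1024 (iv D1024) F3330
theorem F4408 : act 2 n1024 = n763 := d15_1 D1024 (iv D763) F2538 (iv F2517) (iv F3331)
theorem F4409 : act 4 n1024 = n1024 := d21_2 D754 D1024 (iv D1024) (iv D754) F2512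
theorem F4410 : act 6 n1024 = n1024 := d23_2 F3332 D1024 (iv D1024)
theorem F4411 : act 8 n1024 = n758 := d25_2 (iv F3333) D1024 (iv D758)
def n1025 : Q := act 5 n754
theorem D1025 : act 5 n754 = n1025 := rfl
theorem F4412 : act 0 n1025 = n1025 := d4_1 D1025 (iv D1025) F3330
theorem F4413 : act 2 n1025 = n755 := d17_1 D1025 (iv D755) (iv F3331)
theorem F4414 : act 4 n1025 = n1025 := d26_1 D1025 (iv D1025) (iv D754) F2513 D754
theorem F4415 : act 8 n1025 = n759 := d32_2 (iv F3333) D1025 (iv D759)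
def n1026 : Q := act 6 n755
theorem D1026 : act 6 n755 = n1026 := rfl
theorem F4416 : act 0 n1026 = n1026 := d5_1 D1026 (iv D1026) F3334
theorem F4417 : act 3 n1026 = n765 := d23_1 D1026 (iv D765) (iv F3335)
theorem F4418 : act 4 n1026 = n1026 := d27_1 D1026 (iv D1026) F3336
theorem F4419 : act 5 n1026 = n1026 := d30_1 D1026 (iv D1026) (iv D755) F2518 D755
theorem F4420 : act 8 n1026 = n760 := d34_2 (iv F3337) D1026 (iv D760)
def n1027 : Q := act 4 n756
theorem D1027 : act 4 n756 = n1027 := rfl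
theorem F4421 : act 0 n1027 = n757 := d3_1 D1027 (iv D757) D756
theorem F4422 : act 1 n1027 = n1027 := d10_1 D1027 (iv D1027) F3338
theorem F4423 : act 6 n1027 = n1027 := d27_2 F3341 D1027 (iv D1027)
theorem F4424 : act 7 n1027 = n1027 := d28_2 F3342 D1027 (iv D1027)
def n1028 : Q := act 3 n757
theorem D1028 : act 3 n757 = n1028 := rfl
theorem F4425 : act 1 n1028 = n758 := d9_1 D1028 (iv D758) (iv F3343)
theorem F4426 : act 4 n1028 = n1028 := d21_2 D757 D1028 (iv D1028) (iv D757) F2520
theorem F4427 : act 6 n1028 = n1028 := d23_2 F3344 D1028 (iv D1028)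
def n1029 : Q := act 5 n757
theorem D1029 : act 5 n757 = n1029 := rfl
theorem F4428 : act 1 n1029 = n759 := d11_1 D1029 (iv D759) (iv F3343)
theorem F4429 : act 4 n1029 = n1029 := d26_1 D1029 (iv D1029) (iv D757) F2521 D757
theorem F4430 : act 7 n1029 = n1029 := d31_2 F3345 D1029 (iv D1029)
def n1030 : Q := act 5 n758
theorem D1030 : act 5 n758 = n1030 := rfl
theorem F4431 : act 0 n1030 = n1030 := d4_1 D1030 (iv D1030) F3346
theorem F4432 : act 2 n1030 = n769 := d17_1 D1030 (iv D769) (iv F3347)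
theorem F4433 : act 3 n1030 = n759 := d22_1 D1030 (iv D759) D758
def n1031 : Q := act 7 n758
theorem D1031 : act 7 n758 = n1031 := rfl
theorem F4434 : act 0 n1031 = n1031 := d6_1 D1031 (iv D1031) F3346
theorem F4435 : act 2 n1031 = n770 := d19_1 D1031 (iv D770) (iv F3347)
theorem F4436 : act 3 n1031 = n1031 := d24_1 D1031 (iv D1031) (iv D758) F2527 D758
theorem F4437 : act 4 n1031 = n1031 := d28_1 D1031 (iv D1031) F3348
theorem F4438 : act 6 n1031 = n1031 := d33_1 D1031 (iv D1031) F3349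
def n1032 : Q := act 6 n759
theorem D1032 : act 6 n759 = n1032 := rfl
theorem F4439 : act 0 n1032 = n1032 := d5_1 D1032 (iv D1032) F3350
theorem F4440 : act 2 n1032 = n760 := d18_1 D1032 (iv D760) (iv F3351)
theorem F4441 : act 4 n1032 = n1032 := d27_1 D1032 (iv D1032) F3352
theorem F4442 : act 5 n1032 = n1032 := d30_1 D1032 (iv D1032) (iv D759) F2526 D759
theorem F4443 : act 7 n1032 = n1032 := d33_2 F3353 D1032 (iv D1032)
def n1033 : Q := act 4 n761
theorem D1033 : act 4 n761 = n1033 := rfl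
theorem F4444 : act 0 n1033 = n762 := d3_1 D1033 (iv D762) D761
theorem F4445 : act 1 n1033 = n1033 := d10_1 D1033 (iv D1033) F3359
theorem F4446 : act 6 n1033 = n1033 := d27_2 F3362 D1033 (iv D1033)
theorem F4447 : act 7 n1033 = n1033 := d28_2 F3363 D1033 (iv D1033)
theorem F4448 : act 8 n1033 = n766 := d29_2 (iv F3364) D1033 (iv D766)
def n1034 : Q := act 3 n762
theorem D1034 : act 3 n762 = n1034 := rfl
theorem F4449 : act 1 n1034 = n763 := d9_1 D1034 (iv D763) (iv F3365)
theorem F4450 : act 4 n1034 = n1034 := d21_2 D762 D1034 (iv D1034) (iv D762) F2532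
theorem F4451 : act 6 n1034 = n1034 := d23_2 F3366 D1034 (iv D1034)
theorem F4452 : act 8 n1034 = n767 := d25_2 (iv F3368) D1034 (iv D767)
def n1035 : Q := act 5 n762
theorem D1035 : act 5 n762 = n1035 := rfl
theorem F4453 : act 1 n1035 = n764 := d11_1 D1035 (iv D764) (iv F3365)
theorem F4454 : act 4 n1035 = n774 := d26_1 D1035 (iv D774) (iv D568) (iv F2533) D762
theorem F4455 : act 7 n1035 = n1035 := d31_2 F3367 D1035 (iv D1035)
theorem F4456 : act 8 n1035 = n768 := d32_2 (iv F3368) D1035 (iv D768)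
def n1036 : Q := act 5 n763
theorem D1036 : act 5 n763 = n1036 := rfl
theorem F4457 : act 0 n1036 = n1036 := d4_1 D1036 (iv D1036) F3369
theorem F4458 : act 3 n1036 = n764 := d22_1 D1036 (iv D764) D763
theorem F4459 : act 8 n1036 = n769 := d32_2 (iv F3372) D1036 (iv D769)
def n1037 : Q := act 7 n763
theorem D1037 : act 7 n763 = n1037 := rfl
theorem F4460 : act 0 n1037 = n1037 := d6_1 D1037 (iv D1037) F3369
theorem F4461 : act 3 n1037 = n1037 := d24_1 D1037 (iv D1037) (iv D763) F2540 D763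
theorem F4462 : act 4 n1037 = n1037 := d28_1 D1037 (iv D1037) F3370
theorem F4463 : act 6 n1037 = n1037 := d33_1 D1037 (iv D1037) F3371
def n1038 : Q := act 6 n764
theorem D1038 : act 6 n764 = n1038 := rfl
theorem F4464 : act 0 n1038 = n1038 := d5_1 D1038 (iv D1038) F3373
theorem F4465 : act 2 n1038 = n765 := d18_1 D1038 (iv D765) (iv F3374)
theorem F4466 : act 4 n1038 = n777 := d27_1 D1038 (iv D777) (iv F3375)
theorem F4467 : act 5 n1038 = n1038 := d30_1 D1038 (iv D1038) (iv D764) F2539 D764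
theorem F4468 : act 7 n1038 = n1038 := d33_2 F3376 D1038 (iv D1038)
theorem F4469 : act 8 n1038 = n771 := d34_2 (iv F3377) D1038 (iv D771)
def n1039 : Q := act 3 n766
theorem D1039 : act 3 n766 = n1039 := rfl
theorem F4470 : act 0 n1039 = n767 := d2_1 D1039 (iv D767) (iv F3383)
theorem F4471 : act 1 n1039 = n1039 := d9_1 D1039 (iv D1039) F3384
theorem F4472 : act 4 n1039 = n1039 := d21_2 D766 D1039 (iv D1039) (iv D766) F2547
theorem F4473 : act 6 n1039 = n1039 := d23_2 F3385 D1039 (iv D1039)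
def n1040 : Q := act 5 n766
theorem D1040 : act 5 n766 = n1040 := rfl
theorem F4474 : act 0 n1040 = n768 := d4_1 D1040 (iv D768) (iv F3383)
theorem F4475 : act 1 n1040 = n1040 := d11_1 D1040 (iv D1040) F3384
theorem F4476 : act 4 n1040 = n779 := d26_1 D1040 (iv D779) (iv D572) (iv F2548) D766
theorem F4477 : act 7 n1040 = n786 := d31_2 (iv F3386) D1040 (iv D786)
def n1041 : Q := act 2 n767
theorem D1041 : act 2 n767 = n1041 := rfl
theorem F4478 : act 4 n1041 = n1041 := d16_2 F3388 D1041 (iv D1041)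
theorem F4479 : act 6 n1041 = n1041 := d18_2 F3389 D1041 (iv D1041)
def n1042 : Q := act 5 n767
theorem D1042 : act 5 n767 = n1042 := rfl
theorem F4480 : act 1 n1042 = n769 := d11_1 D1042 (iv D769) (iv F3387)
theorem F4481 : act 3 n1042 = n768 := d22_1 D1042 (iv D768) D767
def n1043 : Q := act 7 n767
theorem D1043 : act 7 n767 = n1043 := rfl
theorem F4482 : act 1 n1043 = n770 := d13_1 D1043 (iv D770) (iv F3387)
theorem F4483 : act 3 n1043 = n789 := d24_1 D1043 (iv D789) (iv D578) (iv F2553) D767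
theorem F4484 : act 4 n1043 = n1043 := d28_1 D1043 (iv D1043) F3388
theorem F4485 : act 6 n1043 = n1043 := d33_1 D1043 (iv D1043) F3389
def n1044 : Q := act 6 n768
theorem D1044 : act 6 n768 = n1044 := rfl
theorem F4486 : act 1 n1044 = n771 := d12_1 D1044 (iv D771) (iv F3390)
theorem F4487 : act 4 n1044 = n782 := d27_1 D1044 (iv D782) (iv F3391)
theorem F4488 : act 5 n1044 = n1044 := d30_1 D1044 (iv D1044) (iv D768) F2552 D768
theorem F4489 : act 7 n1044 = n790 := d33_2 (iv F3392) D1044 (iv D790)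
def n1045 : Q := act 4 n769
theorem D1045 : act 4 n769 = n1045 := rfl
theorem F4490 : act 0 n1045 = n1045 := d3_1 D1045 (iv D1045) F3393
theorem F4491 : act 3 n1045 = n783 := d21_1 D1045 (iv D783) F2600 (iv F2559) (iv F3394)
theorem F4492 : act 5 n1045 = n1045 := d26_2 D769 D1045 (iv D1045) (iv D769) F2555
def n1046 : Q := act 6 n769
theorem D1046 : act 6 n769 = n1046 := rfl
theorem F4493 : act 0 n1046 = n1046 := d5_1 D1046 (iv D1046) F3393
theorem F4494 : act 3 n1046 = n771 := d23_1 D1046 (iv D771) (iv F3394)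
theorem F4495 : act 5 n1046 = n1046 := d30_1 D1046 (iv D1046) (iv D769) F2556 D769
def n1047 : Q := act 7 n769
theorem D1047 : act 7 n769 = n1047 := rfl
theorem F4496 : act 0 n1047 = n1047 := d6_1 D1047 (iv D1047) F3393
theorem F4497 : act 3 n1047 = n792 := d24_1 D1047 (iv D792) F2619 (iv F2560) (iv F3394)
theorem F4498 : act 5 n1047 = n770 := d31_1 D1047 (iv D770) D769
def n1048 : Q := act 8 n770
theorem D1048 : act 8 n770 = n1048 := rfl
theorem F4499 : act 0 n1048 = n1048 := d7_1 D1048 (iv D1048) F3395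
theorem F4500 : act 3 n1048 = n793 := d25_1 D1048 (iv D793) (iv F3396)
theorem F4501 : act 4 n1048 = n1048 := d29_1 D1048 (iv D1048) F3397
theorem F4502 : act 6 n1048 = n1048 := d34_1 D1048 (iv D1048) F3398
def n1049 : Q := act 3 n772
theorem D1049 : act 3 n772 = n1049 := rfl
theorem F4503 : act 0 n1049 = n773 := d2_1 D1049 (iv D773) (iv F3404)
theorem F4504 : act 1 n1049 = n1049 := d9_1 D1049 (iv D1049) F3405
theorem F4505 : act 4 n1049 = n1049 := d21_2 D772 D1049 (iv D1049) (iv D772) F2566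
theorem F4506 : act 6 n1049 = n863 := d23_2 (iv F3406) D1049 (iv D863)
theorem F4507 : act 8 n1049 = n778 := d25_2 (iv F3408) D1049 (iv D778)
def n1050 : Q := act 5 n772
theorem D1050 : act 5 n772 = n1050 := rfl
theorem F4508 : act 0 n1050 = n774 := d4_1 D1050 (iv D774) (iv F3404)
theorem F4509 : act 1 n1050 = n1050 := d11_1 D1050 (iv D1050) F3405
theorem F4510 : act 7 n1050 = n1050 := d31_2 F3407 D1050 (iv D1050)
theorem F4511 : act 8 n1050 = n779 := d32_2 (iv F3408) D1050 (iv D779)
def n1051 : Q := act 2 n773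
theorem D1051 : act 2 n773 = n1051 := rfl
theorem F4512 : act 1 n1051 = n1051 := d8_1 D1051 (iv D1051) F3409 F2575 (iv F3409)
theorem F4513 : act 4 n1051 = n1051 := d16_2 F3410 D1051 (iv D1051)
theorem F4514 : act 6 n1051 = n865 := d18_2 (iv F3411) D1051 (iv D865)
theorem F4515 : act 8 n1051 = n780 := d20_2 (iv F3412) D1051 (iv D780)
def n1052 : Q := act 5 n773
theorem D1052 : act 5 n773 = n1052 := rfl
theorem F4516 : act 1 n1052 = n775 := d11_1 D1052 (iv D775) (iv F3409)
theorem F4517 : act 3 n1052 = n774 := d22_1 D1052 (iv D774) D773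
theorem F4518 : act 8 n1052 = n781 := d32_2 (iv F3412) D1052 (iv D781)
def n1053 : Q := act 7 n773
theorem D1053 : act 7 n773 = n1053 := rfl
theorem F4519 : act 1 n1053 = n776 := d13_1 D1053 (iv D776) (iv F3409)
theorem F4520 : act 3 n1053 = n1053 := d24_1 D1053 (iv D1053) (iv D773) F2572 D773
theorem F4521 : act 4 n1053 = n1053 := d28_1 D1053 (iv D1053) F3410
theorem F4522 : act 6 n1053 = n867 := d33_1 D1053 (iv D867) (iv F3411)
theorem F4523 : act 8 n1053 = n1053 := d35_2 (iv F3412) D1053 (iv D1053) F3412 F2595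
def n1054 : Q := act 6 n774
theorem D1054 : act 6 n774 = n1054 := rfl
theorem F4524 : act 1 n1054 = n777 := d12_1 D1054 (iv D777) (iv F3413)
theorem F4525 : act 5 n1054 = n868 := d30_1 D1054 (iv D868) (iv D639) (iv F2571) D774
theorem F4526 : act 7 n1054 = n1054 := d33_2 F3414 D1054 (iv D1054)
theorem F4527 : act 8 n1054 = n782 := d34_2 (iv F3415) D1054 (iv D782)
def n1055 : Q := act 4 n775
theorem D1055 : act 4 n775 = n1055 := rfl
theorem F4528 : act 0 n1055 = n1055 := d3_1 D1055 (iv D1055) F3416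
theorem F4529 : act 2 n1055 = n1055 := d16_1 D1055 (iv D1055) F3417
theorem F4530 : act 5 n1055 = n1055 := d26_2 D775 D1055 (iv D1055) (iv D775) F2576
theorem F4531 : act 8 n1055 = n783 := d29_2 (iv F3419) D1055 (iv D783)
def n1056 : Q := act 6 n775
theorem D1056 : act 6 n775 = n1056 := rfl
theorem F4532 : act 0 n1056 = n1056 := d5_1 D1056 (iv D1056) F3416
theorem F4533 : act 2 n1056 = n1056 := d18_1 D1056 (iv D1056) F3417
theorem F4534 : act 3 n1056 = n777 := d23_1 D1056 (iv D777) (iv F3418)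
theorem F4535 : act 5 n1056 = n870 := d30_1 D1056 (iv D870) (iv D640) (iv F2577) D775
theorem F4536 : act 8 n1056 = n784 := d34_2 (iv F3419) D1056 (iv D784)
def n1057 : Q := act 7 n775
theorem D1057 : act 7 n775 = n1057 := rfl
theorem F4537 : act 0 n1057 = n1057 := d6_1 D1057 (iv D1057) F3416
theorem F4538 : act 2 n1057 = n1057 := d19_1 D1057 (iv D1057) F3417
theorem F4539 : act 3 n1057 = n1057 := d24_1 D1057 (iv D1057) F3418 F2581 (iv F3418)
theorem F4540 : act 5 n1057 = n776 := d31_1 D1057 (iv D776) D775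
theorem F4541 : act 8 n1057 = n1057 := d35_2 (iv F3419) D1057 (iv D1057) F3419 F2601
def n1058 : Q := act 2 n778
theorem D1058 : act 2 n778 = n1058 := rfl
theorem F4542 : act 0 n1058 = n780 := d1_1 D1058 (iv D780) (iv F3431)
theorem F4543 : act 4 n1058 = n1058 := d16_2 F3433 D1058 (iv D1058)
theorem F4544 : act 6 n1058 = n872 := d18_2 (iv F3434) D1058 (iv D872)
theorem F4545 : act 7 n1058 = n1058 := d19_2 F3435 D1058 (iv D1058)
def n1059 : Q := act 5 n778
theorem D1059 : act 5 n778 = n1059 := rfl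
theorem F4546 : act 0 n1059 = n781 := d4_1 D1059 (iv D781) (iv F3431)
theorem F4547 : act 1 n1059 = n1059 := d11_1 D1059 (iv D1059) F3432
theorem F4548 : act 3 n1059 = n779 := d22_1 D1059 (iv D779) D778
theorem F4549 : act 7 n1059 = n1059 := d31_2 F3435 D1059 (iv D1059)
def n1060 : Q := act 6 n779
theorem D1060 : act 6 n779 = n1060 := rfl
theorem F4550 : act 0 n1060 = n782 := d5_1 D1060 (iv D782) (iv F3436)
theorem F4551 : act 1 n1060 = n1060 := d12_1 D1060 (iv D1060) F3437
theorem F4552 : act 5 n1060 = n874 := d30_1 D1060 (iv D874) (iv D644) (iv F2590) D779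
theorem F4553 : act 7 n1060 = n794 := d33_2 (iv F3438) D1060 (iv D794)
def n1061 : Q := act 5 n780
theorem D1061 : act 5 n780 = n1061 := rfl
theorem F4554 : act 1 n1061 = n1061 := d11_1 D1061 (iv D1061) F3439
theorem F4555 : act 2 n1061 = n781 := d17_1 D1061 (iv D781) D780
theorem F4556 : act 7 n1061 = n1061 := d31_2 F3442 D1061 (iv D1061)
def n1062 : Q := act 4 n781
theorem D1062 : act 4 n781 = n1062 := rfl
theorem F4557 : act 1 n1062 = n783 := d10_1 D1062 (iv D783) (iv F3443)
theorem F4558 : act 5 n1062 = n1062 := d26_2 D781 D1062 (iv D1062) (iv D781) F2593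
theorem F4559 : act 7 n1062 = n1062 := d28_2 F3445 D1062 (iv D1062)
def n1063 : Q := act 6 n781
theorem D1063 : act 6 n781 = n1063 := rfl
theorem F4560 : act 1 n1063 = n784 := d12_1 D1063 (iv D784) (iv F3443)
theorem F4561 : act 3 n1063 = n782 := d23_1 D1063 (iv D782) (iv F3444)
theorem F4562 : act 5 n1063 = n877 := d30_1 D1063 (iv D877) (iv D646) (iv F2594) D781
theorem F4563 : act 7 n1063 = n1063 := d33_2 F3445 D1063 (iv D1063)
def n1064 : Q := act 6 n783
theorem D1064 : act 6 n783 = n1064 := rfl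
theorem F4564 : act 0 n1064 = n1064 := d5_1 D1064 (iv D1064) F3449
theorem F4565 : act 2 n1064 = n1064 := d18_1 D1064 (iv D1064) F3450
theorem F4566 : act 4 n1064 = n784 := d27_1 D1064 (iv D784) D783
theorem F4567 : act 7 n1064 = n1064 := d33_2 F3452 D1064 (iv D1064)
def n1065 : Q := act 2 n785
theorem D1065 : act 2 n785 = n1065 := rfl
theorem F4568 : act 0 n1065 = n787 := d1_1 D1065 (iv D787) (iv F3458)
theorem F4569 : act 4 n1065 = n795 := d16_2 (iv F3460) D1065 (iv D795)
theorem F4570 : act 6 n1065 = n1065 := d18_2 F3461 D1065 (iv D1065)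
theorem F4571 : act 8 n1065 = n1065 := d20_2 F3462 D1065 (iv D1065)
def n1066 : Q := act 5 n785
theorem D1066 : act 5 n785 = n1066 := rfl
theorem F4572 : act 0 n1066 = n788 := d4_1 D1066 (iv D788) (iv F3458)
theorem F4573 : act 1 n1066 = n1066 := d11_1 D1066 (iv D1066) F3459
theorem F4574 : act 3 n1066 = n786 := d22_1 D1066 (iv D786) D785
theorem F4575 : act 4 n1066 = n1066 := d26_1 D1066 (iv D1066) F3460 F2641 (iv F3460)
theorem F4576 : act 8 n1066 = n1066 := d32_2 F3462 D1066 (iv D1066)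
def n1067 : Q := act 7 n785
theorem D1067 : act 7 n785 = n1067 := rfl
theorem F4577 : act 0 n1067 = n789 := d6_1 D1067 (iv D789) (iv F3458)
theorem F4578 : act 1 n1067 = n1067 := d13_1 D1067 (iv D1067) F3459
theorem F4579 : act 4 n1067 = n796 := d28_1 D1067 (iv D796) (iv F3460)
theorem F4580 : act 6 n1067 = n1067 := d33_1 D1067 (iv D1067) F3461
def n1068 : Q := act 6 n786
theorem D1068 : act 6 n786 = n1068 := rfl
theorem F4581 : act 0 n1068 = n790 := d5_1 D1068 (iv D790) (iv F3463)
theorem F4582 : act 1 n1068 = n1068 := d12_1 D1068 (iv D1068) F3464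
theorem F4583 : act 4 n1068 = n794 := d27_1 D1068 (iv D794) (iv F3465)
theorem F4584 : act 5 n1068 = n1068 := d30_1 D1068 (iv D1068) (iv D786) F2608 D786
theorem F4585 : act 8 n1068 = n1068 := d34_2 F3466 D1068 (iv D1068)
def n1069 : Q := act 5 n787
theorem D1069 : act 5 n787 = n1069 := rfl
theorem F4586 : act 1 n1069 = n1069 := d11_1 D1069 (iv D1069) F3467
theorem F4587 : act 2 n1069 = n788 := d17_1 D1069 (iv D788) D787
theorem F4588 : act 4 n1069 = n1069 := d26_1 D1069 (iv D1069) F3468 F2646 (iv F3468)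
theorem F4589 : act 8 n1069 = n1069 := d32_2 F3470 D1069 (iv D1069)
def n1070 : Q := act 7 n787
theorem D1070 : act 7 n787 = n1070 := rfl
theorem F4590 : act 1 n1070 = n1070 := d13_1 D1070 (iv D1070) F3467
theorem F4591 : act 2 n1070 = n789 := d19_1 D1070 (iv D789) D787
theorem F4592 : act 4 n1070 = n797 := d28_1 D1070 (iv D797) (iv F3468)
theorem F4593 : act 6 n1070 = n1070 := d33_1 D1070 (iv D1070) F3469
def n1071 : Q := act 6 n788
theorem D1071 : act 6 n788 = n1071 := rfl
theorem F4594 : act 1 n1071 = n791 := d12_1 D1071 (iv D791) (iv F3471)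
theorem F4595 : act 3 n1071 = n790 := d23_1 D1071 (iv D790) (iv F3472)
theorem F4596 : act 4 n1071 = n1071 := d27_1 D1071 (iv D1071) F3473
theorem F4597 : act 5 n1071 = n1071 := d30_1 D1071 (iv D1071) (iv D788) F2612 D788
theorem F4598 : act 8 n1071 = n1071 := d34_2 F3474 D1071 (iv D1071)
def n1072 : Q := act 7 n788
theorem D1072 : act 7 n788 = n1072 := rfl
theorem F4599 : act 1 n1072 = n792 := d13_1 D1072 (iv D792) (iv F3471)
theorem F4600 : act 4 n1072 = n1072 := d28_1 D1072 (iv D1072) F3473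
theorem F4601 : act 5 n1072 = n789 := d31_1 D1072 (iv D789) D788
def n1073 : Q := act 8 n789
theorem D1073 : act 8 n789 = n1073 := rfl
theorem F4602 : act 1 n1073 = n793 := d14_1 D1073 (iv D793) (iv F3475)
theorem F4603 : act 4 n1073 = n798 := d29_1 D1073 (iv D798) (iv F3476)
theorem F4604 : act 6 n1073 = n1073 := d34_1 D1073 (iv D1073) F3477
theorem F4605 : act 7 n1073 = n1073 := d35_1 D1073 (iv D1073) (iv D789) F2613 D789
def n1074 : Q := act 7 n791
theorem D1074 : act 7 n791 = n1074 := rfl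
theorem F4606 : act 0 n1074 = n1074 := d6_1 D1074 (iv D1074) F3482
theorem F4607 : act 2 n1074 = n1074 := d19_1 D1074 (iv D1074) F3483
theorem F4608 : act 4 n1074 = n1074 := d28_1 D1074 (iv D1074) F3485
theorem F4609 : act 5 n1074 = n1074 := d31_1 D1074 (iv D1074) F3486
theorem F4610 : act 6 n1074 = n792 := d33_1 D1074 (iv D792) D791
def n1075 : Q := act 8 n792
theorem D1075 : act 8 n792 = n1075 := rfl
theorem F4611 : act 0 n1075 = n1075 := d7_1 D1075 (iv D1075) F3488
theorem F4612 : act 2 n1075 = n1075 := d20_1 D1075 (iv D1075) F3489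
theorem F4613 : act 4 n1075 = n1075 := d29_1 D1075 (iv D1075) F3490
theorem F4614 : act 5 n1075 = n793 := d32_1 D1075 (iv D793) (iv F3491)
theorem F4615 : act 7 n1075 = n1075 := d35_1 D1075 (iv D1075) (iv D792) F2621 D792
def n1076 : Q := act 1 n795
theorem D1076 : act 1 n795 = n1076 := rfl
theorem F4616 : act 0 n1076 = n1076 := d0_1 D1076 (iv D1076) F3502 F2644 (iv F3502)
theorem F4617 : act 2 n1076 = n1076 := d8_2 D795 D1076 (iv D1076) (iv D795) F2640
theorem F4618 : act 3 n1076 = n1076 := d9_2 F3503 D1076 (iv D1076)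
theorem F4619 : act 5 n1076 = n1076 := d11_2 F3504 D1076 (iv D1076)
theorem F4620 : act 6 n1076 = n1076 := d12_2 F3505 D1076 (iv D1076)
theorem F4621 : act 8 n1076 = n1076 := d14_2 F3506 D1076 (iv D1076)
def n1077 : Q := act 7 n795
theorem D1077 : act 7 n795 = n1077 := rfl
theorem F4622 : act 0 n1077 = n797 := d6_1 D1077 (iv D797) (iv F3502)
theorem F4623 : act 2 n1077 = n796 := d19_1 D1077 (iv D796) D795
theorem F4624 : act 5 n1077 = n1077 := d31_1 D1077 (iv D1077) F3504
theorem F4625 : act 6 n1077 = n1077 := d33_1 D1077 (iv D1077) F3505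
def n1078 : Q := act 8 n796
theorem D1078 : act 8 n796 = n1078 := rfl
theorem F4626 : act 0 n1078 = n798 := d7_1 D1078 (iv D798) (iv F3507)
theorem F4627 : act 1 n1078 = n1078 := d14_1 D1078 (iv D1078) F3508
theorem F4628 : act 3 n1078 = n1078 := d25_1 D1078 (iv D1078) F3509
theorem F4629 : act 5 n1078 = n1078 := d32_1 D1078 (iv D1078) F3510
theorem F4630 : act 6 n1078 = n1078 := d34_1 D1078 (iv D1078) F3511
theorem F4631 : act 7 n1078 = n1078 := d35_1 D1078 (iv D1078) (iv D796) F2643 D796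
def n1079 : Q := act 3 n797
theorem D1079 : act 3 n797 = n1079 := rfl
theorem F4632 : act 1 n1079 = n1079 := d9_1 D1079 (iv D1079) F3512
theorem F4633 : act 2 n1079 = n1079 := d15_1 D1079 (iv D1079) F3513 F2650 (iv F3513)
theorem F4634 : act 5 n1079 = n1079 := d22_2 F3514 D1079 (iv D1079)
theorem F4635 : act 6 n1079 = n1079 := d23_2 F3515 D1079 (iv D1079)
theorem F4636 : act 7 n1079 = n1079 := d24_2 D797 D1079 (iv D1079) (iv D797) F2645
def n1080 : Q := act 8 n797
theorem D1080 : act 8 n797 = n1080 := rfl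
theorem F4637 : act 1 n1080 = n1080 := d14_1 D1080 (iv D1080) F3512
theorem F4638 : act 2 n1080 = n798 := d20_1 D1080 (iv D798) (iv F3513)
theorem F4639 : act 5 n1080 = n1080 := d32_1 D1080 (iv D1080) F3514
theorem F4640 : act 6 n1080 = n1080 := d34_1 D1080 (iv D1080) F3515
theorem F4641 : act 7 n1080 = n1080 := d35_1 D1080 (iv D1080) (iv D797) F2648 D797
def n1081 : Q := act 3 n799
theorem D1081 : act 3 n799 = n1081 := rfl
theorem F4642 : act 0 n1081 = n800 := d2_1 D1081 (iv D800) (iv F3521)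
theorem F4643 : act 1 n1081 = n837 := d9_1 D1081 (iv D837) (iv F3522)
def n1082 : Q := act 5 n799
theorem D1082 : act 5 n799 = n1082 := rfl
theorem F4645 : act 1 n1082 = n838 := d11_1 D1082 (iv D838) (iv F3522)
theorem F4648 : act 7 n1082 = n806 := d31_2 (iv F3524) D1082 (iv D806)
def n1083 : Q := act 2 n800
theorem D1083 : act 2 n800 = n1083 := rfl
theorem F4649 : act 1 n1083 = n1083 := d8_1 D1083 (iv D1083) F3525 F2667 (iv F3525)
theorem F4650 : act 3 n1083 = n1083 := d15_2 D800 D1083 (iv D1083) (iv D800) F2664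
def n1084 : Q := act 5 n800
theorem D1084 : act 5 n800 = n1084 := rfl
theorem F4651 : act 1 n1084 = n802 := d11_1 D1084 (iv D802) (iv F3525)
def n1085 : Q := act 7 n800
theorem D1085 : act 7 n800 = n1085 := rfl
theorem F4654 : act 3 n1085 = n809 := d24_1 D1085 (iv D809) (iv D595) (iv F2665) D800
def n1087 : Q := act 4 n802
theorem D1087 : act 4 n802 = n1087 := rfl
def n1088 : Q := act 6 n802
theorem D1088 : act 6 n802 = n1088 := rfl
theorem F4662 : act 0 n1088 = n844 := d5_1 D1088 (iv D844) (iv F3530)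
def n1094 : Q := act 6 n806
theorem D1094 : act 6 n806 = n1094 := rfl
theorem F4685 : act 1 n1094 = n849 := d12_1 D1094 (iv D849) (iv F3545)
def n1096 : Q := act 7 n807
theorem D1096 : act 7 n807 = n1096 := rfl
theorem F4693 : act 1 n1096 = n816 := d13_1 D1096 (iv D816) (iv F3549)
theorem F4694 : act 2 n1096 = n809 := d19_1 D1096 (iv D809) D807
def n1108 : Q := act 3 n816
theorem D1108 : act 3 n816 = n1108 := rfl
theorem F4735 : act 0 n1108 = n1108 := d2_1 D1108 (iv D1108) F3582
theorem F4737 : act 7 n1108 = n1108 := d24_2 D816 D1108 (iv D1108) (iv D816) F2700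
def n1119 : Q := act 3 n825
theorem D1119 : act 3 n825 = n1119 := rfl
theorem F4779 : act 0 n1119 = n826 := d2_1 D1119 (iv D826) (iv F3617)
theorem F4780 : act 4 n1119 = n837 := d21_2 D825 D1119 (iv D837) (iv D618) (iv F2732)
theorem F4781 : act 8 n1119 = n1081 := d25_2 (iv F3620) D1119 (iv D1081)
def n1120 : Q := act 5 n825
theorem D1120 : act 5 n825 = n1120 := rfl
theorem F4782 : act 0 n1120 = n827 := d4_1 D1120 (iv D827) (iv F3617)
theorem F4783 : act 2 n1120 = n1120 := d17_1 D1120 (iv D1120) F3618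
theorem F4784 : act 4 n1120 = n1120 := d26_1 D1120 (iv D1120) (iv D825) F2733 D825
theorem F4785 : act 7 n1120 = n1120 := d31_2 F3619 D1120 (iv D1120)
theorem F4786 : act 8 n1120 = n1082 := d32_2 (iv F3620) D1120 (iv D1082)
def n1121 : Q := act 2 n826
theorem D1121 : act 2 n826 = n1121 := rfl
theorem F4787 : act 1 n1121 = n1121 := d8_1 D1121 (iv D1121) F3621 F2740 (iv F3621)
theorem F4788 : act 3 n1121 = n1121 := d15_2 D826 D1121 (iv D1121) (iv D826) F2737
theorem F4789 : act 4 n1121 = n839 := d16_2 (iv F3622) D1121 (iv D839)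
theorem F4790 : act 8 n1121 = n1083 := d20_2 (iv F3623) D1121 (iv D1083)
def n1122 : Q := act 5 n826
theorem D1122 : act 5 n826 = n1122 := rfl
theorem F4791 : act 1 n1122 = n828 := d11_1 D1122 (iv D828) (iv F3621)
theorem F4792 : act 3 n1122 = n827 := d22_1 D1122 (iv D827) D826
theorem F4793 : act 8 n1122 = n1084 := d32_2 (iv F3623) D1122 (iv D1084)
def n1123 : Q := act 7 n826
theorem D1123 : act 7 n826 = n1123 := rfl
theorem F4794 : act 1 n1123 = n829 := d13_1 D1123 (iv D829) (iv F3621)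
theorem F4795 : act 3 n1123 = n1123 := d24_1 D1123 (iv D1123) (iv D826) F2738 D826
theorem F4796 : act 4 n1123 = n841 := d28_1 D1123 (iv D841) (iv F3622)
def n1125 : Q := act 4 n828
theorem D1125 : act 4 n828 = n1125 := rfl
theorem F4802 : act 2 n1125 = n1125 := d16_1 D1125 (iv D1125) F3629
theorem F4803 : act 3 n1125 = n1125 := d21_1 D1125 (iv D1125) F3630 F2744 (iv F3630)
theorem F4804 : act 5 n1125 = n843 := d26_2 D828 D1125 (iv D843) (iv D621) (iv F2741)
theorem F4805 : act 8 n1125 = n1087 := d29_2 (iv F3631) D1125 (iv D1087)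
def n1126 : Q := act 6 n828
theorem D1126 : act 6 n828 = n1126 := rfl
theorem F4807 : act 3 n1126 = n830 := d23_1 D1126 (iv D830) (iv F3630)
theorem F4808 : act 8 n1126 = n1088 := d34_2 (iv F3631) D1126 (iv D1088)
def n1127 : Q := act 7 n828
theorem D1127 : act 7 n828 = n1127 := rfl
theorem F4809 : act 2 n1127 = n1127 := d19_1 D1127 (iv D1127) F3629
theorem F4810 : act 3 n1127 = n1127 := d24_1 D1127 (iv D1127) F3630 F2745 (iv F3630)
theorem F4811 : act 5 n1127 = n829 := d31_1 D1127 (iv D829) D828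
def n1128 : Q := act 8 n829
theorem D1128 : act 8 n829 = n1128 := rfl
def n1129 : Q := act 3 n831
theorem D1129 : act 3 n831 = n1129 := rfl
theorem F4816 : act 0 n1129 = n832 := d2_1 D1129 (iv D832) (iv F3639)
theorem F4817 : act 1 n1129 = n1119 := d9_1 D1129 (iv D1119) (iv F3640)
theorem F4818 : act 4 n1129 = n1081 := d21_2 D831 D1129 (iv D1081) (iv D799) (iv F2754)
theorem F4819 : act 8 n1129 = n837 := d25_2 (iv F3643) D1129 (iv D837)
def n1130 : Q := act 5 n831
theorem D1130 : act 5 n831 = n1130 := rfl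
theorem F4820 : act 0 n1130 = n833 := d4_1 D1130 (iv D833) (iv F3639)
theorem F4821 : act 1 n1130 = n1120 := d11_1 D1130 (iv D1120) (iv F3640)
theorem F4822 : act 2 n1130 = n864 := d17_1 D1130 (iv D864) (iv F3641)
theorem F4823 : act 4 n1130 = n1130 := d26_1 D1130 (iv D1130) (iv D831) F2755 D831
theorem F4824 : act 7 n1130 = n1130 := d31_2 F3642 D1130 (iv D1130)
theorem F4825 : act 8 n1130 = n838 := d32_2 (iv F3643) D1130 (iv D838)
def n1131 : Q := act 2 n832
theorem D1131 : act 2 n832 = n1131 := rfl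
theorem F4826 : act 1 n1131 = n1131 := d8_1 D1131 (iv D1131) F3644 F2763 (iv F3644)
theorem F4827 : act 3 n1131 = n865 := d15_2 D832 D1131 (iv D865) (iv D638) (iv F2759)
theorem F4828 : act 4 n1131 = n1083 := d16_2 (iv F3645) D1131 (iv D1083)
theorem F4829 : act 8 n1131 = n839 := d20_2 (iv F3646) D1131 (iv D839)
def n1132 : Q := act 5 n832
theorem D1132 : act 5 n832 = n1132 := rfl
theorem F4830 : act 1 n1132 = n834 := d11_1 D1132 (iv D834) (iv F3644)
theorem F4831 : act 3 n1132 = n833 := d22_1 D1132 (iv D833) D832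
theorem F4832 : act 8 n1132 = n840 := d32_2 (iv F3646) D1132 (iv D840)
def n1133 : Q := act 7 n832
theorem D1133 : act 7 n832 = n1133 := rfl
theorem F4833 : act 1 n1133 = n835 := d13_1 D1133 (iv D835) (iv F3644)
theorem F4834 : act 3 n1133 = n1133 := d24_1 D1133 (iv D1133) (iv D832) F2760 D832
theorem F4835 : act 4 n1133 = n1085 := d28_1 D1133 (iv D1085) (iv F3645)
def n1134 : Q := act 6 n833
theorem D1134 : act 6 n833 = n1134 := rfl
theorem F4836 : act 1 n1134 = n836 := d12_1 D1134 (iv D836) (iv F3647)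
theorem F4837 : act 2 n1134 = n868 := d18_1 D1134 (iv D868) (iv F3648)
theorem F4838 : act 4 n1134 = n1134 := d27_1 D1134 (iv D1134) F3649
theorem F4839 : act 7 n1134 = n1134 := d33_2 F3650 D1134 (iv D1134)
theorem F4840 : act 8 n1134 = n842 := d34_2 (iv F3651) D1134 (iv D842)
def n1135 : Q := act 4 n834
theorem D1135 : act 4 n834 = n1135 := rfl
theorem F4841 : act 0 n1135 = n1125 := d3_1 D1135 (iv D1125) (iv F3652)
theorem F4845 : act 8 n1135 = n843 := d29_2 (iv F3655) D1135 (iv D843)
def n1136 : Q := act 6 n834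
theorem D1136 : act 6 n834 = n1136 := rfl
theorem F4846 : act 0 n1136 = n1126 := d5_1 D1136 (iv D1126) (iv F3652)
theorem F4847 : act 2 n1136 = n1136 := d18_1 D1136 (iv D1136) F3653
theorem F4848 : act 3 n1136 = n836 := d23_1 D1136 (iv D836) (iv F3654)
theorem F4849 : act 8 n1136 = n844 := d34_2 (iv F3655) D1136 (iv D844)
def n1137 : Q := act 7 n834
theorem D1137 : act 7 n834 = n1137 := rfl
theorem F4850 : act 0 n1137 = n1127 := d6_1 D1137 (iv D1127) (iv F3652)
def n1138 : Q := act 8 n835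
theorem D1138 : act 8 n835 = n1138 := rfl
theorem F4858 : act 7 n1138 = n846 := d35_1 D1138 (iv D846) (iv D622) (iv F2765) D835
def n1139 : Q := act 2 n837
theorem D1139 : act 2 n837 = n1139 := rfl
theorem F4859 : act 0 n1139 = n839 := d1_1 D1139 (iv D839) (iv F3665)
theorem F4860 : act 3 n1139 = n872 := d15_2 D837 D1139 (iv D872) (iv D643) (iv F2778)
def n1140 : Q := act 5 n837
theorem D1140 : act 5 n837 = n1140 := rfl
theorem F4861 : act 0 n1140 = n840 := d4_1 D1140 (iv D840) (iv F3665)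
theorem F4862 : act 3 n1140 = n838 := d22_1 D1140 (iv D838) D837
def n1141 : Q := act 7 n837
theorem D1141 : act 7 n837 = n1141 := rfl
theorem F4863 : act 0 n1141 = n841 := d6_1 D1141 (iv D841) (iv F3665)
theorem F4864 : act 3 n1141 = n848 := d24_1 D1141 (iv D848) (iv D624) (iv F2779) D837
def n1142 : Q := act 6 n838
theorem D1142 : act 6 n838 = n1142 := rfl
theorem F4865 : act 0 n1142 = n842 := d5_1 D1142 (iv D842) (iv F3666)
theorem F4866 : act 2 n1142 = n874 := d18_1 D1142 (iv D874) (iv F3667)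
theorem F4867 : act 4 n1142 = n1142 := d27_1 D1142 (iv D1142) F3668
theorem F4868 : act 7 n1142 = n849 := d33_2 (iv F3669) D1142 (iv D849)
def n1143 : Q := act 5 n839
theorem D1143 : act 5 n839 = n1143 := rfl
theorem F4869 : act 1 n1143 = n1143 := d11_1 D1143 (iv D1143) F3670
theorem F4870 : act 2 n1143 = n840 := d17_1 D1143 (iv D840) D839
theorem F4871 : act 3 n1143 = n875 := d22_1 D1143 (iv D875) (iv F3671)
def n1144 : Q := act 7 n839
theorem D1144 : act 7 n839 = n1144 := rfl
theorem F4872 : act 1 n1144 = n1144 := d13_1 D1144 (iv D1144) F3670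
theorem F4873 : act 2 n1144 = n841 := d19_1 D1144 (iv D841) D839
theorem F4874 : act 3 n1144 = n1144 := d24_1 D1144 (iv D1144) F3671 F2872 (iv F3671)
def n1145 : Q := act 4 n840
theorem D1145 : act 4 n840 = n1145 := rfl
theorem F4875 : act 1 n1145 = n843 := d10_1 D1145 (iv D843) (iv F3672)
def n1146 : Q := act 6 n840
theorem D1146 : act 6 n840 = n1146 := rfl
theorem F4877 : act 1 n1146 = n844 := d12_1 D1146 (iv D844) (iv F3672)
theorem F4878 : act 3 n1146 = n842 := d23_1 D1146 (iv D842) (iv F3673)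
def n1147 : Q := act 7 n840
theorem D1147 : act 7 n840 = n1147 := rfl
theorem F4880 : act 3 n1147 = n852 := d24_1 D1147 (iv D852) F2802 (iv F2784) (iv F3673)
theorem F4881 : act 5 n1147 = n841 := d31_1 D1147 (iv D841) D840
def n1148 : Q := act 8 n841
theorem D1148 : act 8 n841 = n1148 := rfl
theorem F4883 : act 3 n1148 = n853 := d25_1 D1148 (iv D853) (iv F3675)
def n1149 : Q := act 6 n843
theorem D1149 : act 6 n843 = n1149 := rfl
theorem F4886 : act 4 n1149 = n844 := d27_1 D1149 (iv D844) D843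
def n1150 : Q := act 7 n843
theorem D1150 : act 7 n843 = n1150 := rfl
theorem F4888 : act 4 n1150 = n845 := d28_1 D1150 (iv D845) D843
def n1151 : Q := act 7 n844
theorem D1151 : act 7 n844 = n1151 := rfl
theorem F4890 : act 3 n1151 = n856 := d24_1 D1151 (iv D856) F2816 (iv F2791) (iv F3683)
def n1154 : Q := act 6 n847
theorem D1154 : act 6 n847 = n1154 := rfl
theorem F4902 : act 3 n1154 = n849 := d23_1 D1154 (iv D849) (iv F3691)
def n1155 : Q := act 7 n847
theorem D1155 : act 7 n847 = n1155 := rfl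
theorem F4906 : act 5 n1155 = n848 := d31_1 D1155 (iv D848) D847
def n1156 : Q := act 8 n848
theorem D1156 : act 8 n848 = n1156 := rfl
def n1159 : Q := act 7 n851
theorem D1159 : act 7 n851 = n1159 := rfl
def n1171 : Q := act 2 n863
theorem D1171 : act 2 n863 = n1171 := rfl
theorem F4961 : act 0 n1171 = n865 := d1_1 D1171 (iv D865) (iv F3747)
theorem F4962 : act 4 n1171 = n1171 := d16_2 F3749 D1171 (iv D1171)
theorem F4963 : act 8 n1171 = n872 := d20_2 (iv F3750) D1171 (iv D872)
def n1172 : Q := act 5 n863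
theorem D1172 : act 5 n863 = n1172 := rfl
theorem F4964 : act 0 n1172 = n866 := d4_1 D1172 (iv D866) (iv F3747)
theorem F4965 : act 1 n1172 = n1172 := d11_1 D1172 (iv D1172) F3748
theorem F4966 : act 3 n1172 = n864 := d22_1 D1172 (iv D864) D863
theorem F4967 : act 8 n1172 = n873 := d32_2 (iv F3750) D1172 (iv D873)
def n1173 : Q := act 7 n863
theorem D1173 : act 7 n863 = n1173 := rfl
theorem F4968 : act 0 n1173 = n867 := d6_1 D1173 (iv D867) (iv F3747)
theorem F4969 : act 1 n1173 = n1173 := d13_1 D1173 (iv D1173) F3748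
theorem F4970 : act 3 n1173 = n1173 := d24_1 D1173 (iv D1173) (iv D863) F2839 D863
theorem F4971 : act 4 n1173 = n1173 := d28_1 D1173 (iv D1173) F3749
theorem F4972 : act 8 n1173 = n1173 := d35_2 (iv F3750) D1173 (iv D1173) F3750 F2865
def n1174 : Q := act 6 n864
theorem D1174 : act 6 n864 = n1174 := rfl
theorem F4973 : act 0 n1174 = n868 := d5_1 D1174 (iv D868) (iv F3751)
theorem F4974 : act 1 n1174 = n1174 := d12_1 D1174 (iv D1174) F3752
theorem F4975 : act 4 n1174 = n1174 := d27_1 D1174 (iv D1174) F3753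
theorem F4976 : act 7 n1174 = n1174 := d33_2 F3754 D1174 (iv D1174)
theorem F4977 : act 8 n1174 = n874 := d34_2 (iv F3755) D1174 (iv D874)
def n1175 : Q := act 5 n865
theorem D1175 : act 5 n865 = n1175 := rfl
theorem F4978 : act 1 n1175 = n1175 := d11_1 D1175 (iv D1175) F3756
theorem F4979 : act 2 n1175 = n866 := d17_1 D1175 (iv D866) D865
theorem F4980 : act 8 n1175 = n875 := d32_2 (iv F3758) D1175 (iv D875)
def n1176 : Q := act 7 n865
theorem D1176 : act 7 n865 = n1176 := rfl
theorem F4981 : act 1 n1176 = n1176 := d13_1 D1176 (iv D1176) F3756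
theorem F4982 : act 2 n1176 = n867 := d19_1 D1176 (iv D867) D865
theorem F4983 : act 4 n1176 = n1176 := d28_1 D1176 (iv D1176) F3757
theorem F4984 : act 8 n1176 = n1176 := d35_2 (iv F3758) D1176 (iv D1176) F3758 F2872
def n1177 : Q := act 4 n866
theorem D1177 : act 4 n866 = n1177 := rfl
theorem F4985 : act 1 n1177 = n869 := d10_1 D1177 (iv D869) (iv F3759)
theorem F4986 : act 3 n1177 = n1177 := d21_1 D1177 (iv D1177) F3760 F2845 (iv F3760)
theorem F4987 : act 5 n1177 = n1177 := d26_2 D866 D1177 (iv D1177) (iv D866) F2842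
theorem F4988 : act 8 n1177 = n876 := d29_2 (iv F3761) D1177 (iv D876)
def n1178 : Q := act 6 n866
theorem D1178 : act 6 n866 = n1178 := rfl
theorem F4989 : act 1 n1178 = n870 := d12_1 D1178 (iv D870) (iv F3759)
theorem F4990 : act 3 n1178 = n868 := d23_1 D1178 (iv D868) (iv F3760)
theorem F4991 : act 8 n1178 = n877 := d34_2 (iv F3761) D1178 (iv D877)
def n1179 : Q := act 7 n866
theorem D1179 : act 7 n866 = n1179 := rfl
theorem F4992 : act 1 n1179 = n871 := d13_1 D1179 (iv D871) (iv F3759)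
theorem F4993 : act 3 n1179 = n1179 := d24_1 D1179 (iv D1179) F3760 F2846 (iv F3760)
theorem F4994 : act 5 n1179 = n867 := d31_1 D1179 (iv D867) D866
theorem F4995 : act 8 n1179 = n1179 := d35_2 (iv F3761) D1179 (iv D1179) F3761 F2875
def n1180 : Q := act 6 n869
theorem D1180 : act 6 n869 = n1180 := rfl
theorem F4996 : act 0 n1180 = n1180 := d5_1 D1180 (iv D1180) F3770
theorem F4997 : act 2 n1180 = n1180 := d18_1 D1180 (iv D1180) F3771
theorem F4998 : act 3 n1180 = n1180 := d23_1 D1180 (iv D1180) F3772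
theorem F4999 : act 4 n1180 = n870 := d27_1 D1180 (iv D870) D869
theorem F5000 : act 8 n1180 = n878 := d34_2 (iv F3774) D1180 (iv D878)
def n1181 : Q := act 7 n869
theorem D1181 : act 7 n869 = n1181 := rfl
theorem F5001 : act 0 n1181 = n1181 := d6_1 D1181 (iv D1181) F3770
theorem F5002 : act 2 n1181 = n1181 := d19_1 D1181 (iv D1181) F3771
theorem F5003 : act 4 n1181 = n871 := d28_1 D1181 (iv D871) D869
theorem F5004 : act 5 n1181 = n1181 := d31_1 D1181 (iv D1181) F3773
theorem F5005 : act 8 n1181 = n1181 := d35_2 (iv F3774) D1181 (iv D1181) F3774 F2883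
def n1182 : Q := act 7 n870
theorem D1182 : act 7 n870 = n1182 := rfl
theorem F5006 : act 0 n1182 = n1182 := d6_1 D1182 (iv D1182) F3775
theorem F5007 : act 2 n1182 = n1182 := d19_1 D1182 (iv D1182) F3776
theorem F5008 : act 3 n1182 = n1182 := d24_1 D1182 (iv D1182) F3777 F2860 (iv F3777)
theorem F5009 : act 6 n1182 = n871 := d33_1 D1182 (iv D871) D870
theorem F5010 : act 8 n1182 = n1182 := d35_2 (iv F3778) D1182 (iv D1182) F3778 F2887
def n1183 : Q := act 1 n872
theorem D1183 : act 1 n872 = n1183 := rfl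
theorem F5011 : act 0 n1183 = n1183 := d0_1 D1183 (iv D1183) F3784 F2870 (iv F3784)
theorem F5012 : act 2 n1183 = n1183 := d8_2 D872 D1183 (iv D1183) (iv D872) F2863
theorem F5013 : act 4 n1183 = n1183 := d10_2 F3785 D1183 (iv D1183)
theorem F5014 : act 7 n1183 = n1183 := d13_2 F3786 D1183 (iv D1183)
def n1184 : Q := act 5 n872
theorem D1184 : act 5 n872 = n1184 := rfl
theorem F5015 : act 0 n1184 = n875 := d4_1 D1184 (iv D875) (iv F3784)
theorem F5016 : act 2 n1184 = n873 := d17_1 D1184 (iv D873) D872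
theorem F5017 : act 7 n1184 = n1184 := d31_2 F3786 D1184 (iv D1184)
def n1185 : Q := act 4 n873
theorem D1185 : act 4 n873 = n1185 := rfl
theorem F5018 : act 0 n1185 = n876 := d3_1 D1185 (iv D876) (iv F3787)
theorem F5019 : act 1 n1185 = n1185 := d10_1 D1185 (iv D1185) F3788
theorem F5020 : act 3 n1185 = n1185 := d21_1 D1185 (iv D1185) F3789 F2868 (iv F3789)
theorem F5021 : act 5 n1185 = n1185 := d26_2 D873 D1185 (iv D1185) (iv D873) F2864
theorem F5022 : act 7 n1185 = n1185 := d28_2 F3790 D1185 (iv D1185)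
def n1186 : Q := act 6 n873
theorem D1186 : act 6 n873 = n1186 := rfl
theorem F5023 : act 0 n1186 = n877 := d5_1 D1186 (iv D877) (iv F3787)
theorem F5024 : act 1 n1186 = n1186 := d12_1 D1186 (iv D1186) F3788
theorem F5025 : act 3 n1186 = n874 := d23_1 D1186 (iv D874) (iv F3789)
theorem F5026 : act 7 n1186 = n1186 := d33_2 F3790 D1186 (iv D1186)
def n1187 : Q := act 4 n875
theorem D1187 : act 4 n875 = n1187 := rfl
theorem F5027 : act 1 n1187 = n1187 := d10_1 D1187 (iv D1187) F3795
theorem F5028 : act 2 n1187 = n876 := d16_1 D1187 (iv D876) (iv F3796)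
theorem F5029 : act 5 n1187 = n1187 := d26_2 D875 D1187 (iv D1187) (iv D875) F2871
theorem F5030 : act 7 n1187 = n1187 := d28_2 F3797 D1187 (iv D1187)
def n1188 : Q := act 6 n875
theorem D1188 : act 6 n875 = n1188 := rfl
theorem F5031 : act 1 n1188 = n1188 := d12_1 D1188 (iv D1188) F3795
theorem F5032 : act 2 n1188 = n877 := d18_1 D1188 (iv D877) (iv F3796)
theorem F5033 : act 7 n1188 = n1188 := d33_2 F3797 D1188 (iv D1188)
def n1189 : Q := act 6 n876
theorem D1189 : act 6 n876 = n1189 := rfl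
theorem F5034 : act 1 n1189 = n878 := d12_1 D1189 (iv D878) (iv F3798)
theorem F5035 : act 3 n1189 = n1189 := d23_1 D1189 (iv D1189) F3799
theorem F5036 : act 4 n1189 = n877 := d27_1 D1189 (iv D877) D876
theorem F5037 : act 7 n1189 = n1189 := d33_2 F3801 D1189 (iv D1189)
def n1190 : Q := act 5 n878
theorem D1190 : act 5 n878 = n1190 := rfl
theorem F5038 : act 0 n1190 = n1190 := d4_1 D1190 (iv D1190) F3805
theorem F5039 : act 2 n1190 = n1190 := d17_1 D1190 (iv D1190) F3806
theorem F5040 : act 3 n1190 = n1190 := d22_1 D1190 (iv D1190) F3807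
theorem F5041 : act 6 n1190 = n1190 := d30_2 D878 D1190 (iv D1190) (iv D878) F2882
theorem F5042 : act 7 n1190 = n1190 := d31_2 F3809 D1190 (iv D1190)
def n1216 : Q := act 0 n898
theorem D1216 : act 0 n898 = n1216 := rfl
theorem F5157 : act 1 n1216 = n959 := d0_2 D898 D1216 (iv D959) (iv D709) (iv F2963)
theorem F5158 : act 2 n1216 = n1216 := d1_2 F3897 D1216 (iv D1216)
theorem F5159 : act 5 n1216 = n1216 := d4_2 F3898 D1216 (iv D1216)
theorem F5160 : act 6 n1216 = n1216 := d5_2 F3899 D1216 (iv D1216)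
theorem F5161 : act 7 n1216 = n1216 := d6_2 F3900 D1216 (iv D1216)
def n1217 : Q := act 4 n898
theorem D1217 : act 4 n898 = n1217 := rfl
theorem F5162 : act 1 n1217 = n899 := d10_1 D1217 (iv D899) D898
theorem F5163 : act 2 n1217 = n1217 := d16_1 D1217 (iv D1217) F3897
theorem F5164 : act 6 n1217 = n1217 := d27_2 F3899 D1217 (iv D1217)
theorem F5165 : act 7 n1217 = n1217 := d28_2 F3900 D1217 (iv D1217)
def n1218 : Q := act 3 n899
theorem D1218 : act 3 n899 = n1218 := rfl
theorem F5166 : act 0 n1218 = n961 := d2_1 D1218 (iv D961) (iv F3901)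
theorem F5167 : act 2 n1218 = n903 := d15_1 D1218 (iv D903) F2977 (iv F2969) (iv F3902)
theorem F5168 : act 6 n1218 = n1218 := d23_2 F3903 D1218 (iv D1218)
def n1219 : Q := act 5 n899
theorem D1219 : act 5 n899 = n1219 := rfl
theorem F5169 : act 0 n1219 = n962 := d4_1 D1219 (iv D962) (iv F3901)
theorem F5170 : act 2 n1219 = n900 := d17_1 D1219 (iv D900) (iv F3902)
theorem F5171 : act 4 n1219 = n1219 := d26_1 D1219 (iv D1219) (iv D899) F2964 D899
theorem F5172 : act 7 n1219 = n1219 := d31_2 F3904 D1219 (iv D1219)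
def n1220 : Q := act 6 n900
theorem D1220 : act 6 n900 = n1220 := rfl
theorem F5173 : act 0 n1220 = n963 := d5_1 D1220 (iv D963) (iv F3905)
theorem F5175 : act 3 n1220 = n905 := d23_1 D1220 (iv D905) (iv F3907)
def n1221 : Q := act 4 n901
theorem D1221 : act 4 n901 = n1221 := rfl
theorem F5179 : act 0 n1221 = n902 := d3_1 D1221 (iv D902) D901
theorem F5180 : act 1 n1221 = n969 := d10_1 D1221 (iv D969) (iv F3910)
theorem F5181 : act 2 n1221 = n1221 := d16_1 D1221 (iv D1221) F3911
theorem F5182 : act 6 n1221 = n1221 := d27_2 F3913 D1221 (iv D1221)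
theorem F5183 : act 7 n1221 = n912 := d28_2 (iv F3914) D1221 (iv D912)
def n1222 : Q := act 3 n902
theorem D1222 : act 3 n902 = n1222 := rfl
theorem F5184 : act 1 n1222 = n903 := d9_1 D1222 (iv D903) (iv F3915)
theorem F5185 : act 6 n1222 = n1222 := d23_2 F3917 D1222 (iv D1222)
def n1223 : Q := act 5 n902
theorem D1223 : act 5 n902 = n1223 := rfl
theorem F5186 : act 1 n1223 = n904 := d11_1 D1223 (iv D904) (iv F3915)
theorem F5187 : act 2 n1223 = n1223 := d17_1 D1223 (iv D1223) F3916
theorem F5188 : act 4 n1223 = n908 := d26_1 D1223 (iv D908) (iv D672) (iv F2973) D902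
theorem F5189 : act 7 n1223 = n914 := d31_2 (iv F3918) D1223 (iv D914)
def n1224 : Q := act 5 n903
theorem D1224 : act 5 n903 = n1224 := rfl
theorem F5190 : act 0 n1224 = n972 := d4_1 D1224 (iv D972) (iv F3919)
theorem F5191 : act 3 n1224 = n904 := d22_1 D1224 (iv D904) D903
def n1225 : Q := act 7 n903
theorem D1225 : act 7 n903 = n1225 := rfl
theorem F5192 : act 0 n1225 = n973 := d6_1 D1225 (iv D973) (iv F3919)
theorem F5193 : act 3 n1225 = n916 := d24_1 D1225 (iv D916) (iv D678) (iv F2979) D903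
theorem F5194 : act 6 n1225 = n1225 := d33_1 D1225 (iv D1225) F3920
def n1226 : Q := act 6 n904
theorem D1226 : act 6 n904 = n1226 := rfl
theorem F5195 : act 0 n1226 = n974 := d5_1 D1226 (iv D974) (iv F3921)
theorem F5199 : act 7 n1226 = n917 := d33_2 (iv F3924) D1226 (iv D917)
def n1227 : Q := act 3 n906
theorem D1227 : act 3 n906 = n1227 := rfl
theorem F5200 : act 0 n1227 = n907 := d2_1 D1227 (iv D907) (iv F3930)
theorem F5201 : act 1 n1227 = n981 := d9_1 D1227 (iv D981) (iv F3931)
theorem F5202 : act 6 n1227 = n1081 := d23_2 (iv F3933) D1227 (iv D1081)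
def n1228 : Q := act 5 n906
theorem D1228 : act 5 n906 = n1228 := rfl
theorem F5203 : act 0 n1228 = n908 := d4_1 D1228 (iv D908) (iv F3930)
theorem F5204 : act 1 n1228 = n982 := d11_1 D1228 (iv D982) (iv F3931)
theorem F5205 : act 2 n1228 = n1228 := d17_1 D1228 (iv D1228) F3932
theorem F5206 : act 7 n1228 = n919 := d31_2 (iv F3934) D1228 (iv D919)
def n1229 : Q := act 2 n907
theorem D1229 : act 2 n907 = n1229 := rfl
theorem F5207 : act 1 n1229 = n1229 := d8_1 D1229 (iv D1229) F3935 F2993 (iv F3935)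
theorem F5208 : act 3 n1229 = n1229 := d15_2 D907 D1229 (iv D1229) (iv D907) F2989
theorem F5209 : act 6 n1229 = n1083 := d18_2 (iv F3936) D1229 (iv D1083)
def n1230 : Q := act 5 n907
theorem D1230 : act 5 n907 = n1230 := rfl
theorem F5210 : act 1 n1230 = n909 := d11_1 D1230 (iv D909) (iv F3935)
theorem F5211 : act 3 n1230 = n908 := d22_1 D1230 (iv D908) D907
def n1231 : Q := act 7 n907
theorem D1231 : act 7 n907 = n1231 := rfl
def n1232 : Q := act 6 n908
theorem D1232 : act 6 n908 = n1232 := rfl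
def n1233 : Q := act 4 n909
theorem D1233 : act 4 n909 = n1233 := rfl
theorem F5219 : act 0 n1233 = n987 := d3_1 D1233 (iv D987) (iv F3940)
theorem F5220 : act 2 n1233 = n1233 := d16_1 D1233 (iv D1233) F3941
def n1234 : Q := act 6 n909
theorem D1234 : act 6 n909 = n1234 := rfl
theorem F5221 : act 0 n1234 = n988 := d5_1 D1234 (iv D988) (iv F3940)
def n1235 : Q := act 7 n909
theorem D1235 : act 7 n909 = n1235 := rfl
def n1236 : Q := act 8 n910
theorem D1236 : act 8 n910 = n1236 := rfl
theorem F5229 : act 0 n1236 = n990 := d7_1 D1236 (iv D990) (iv F3943)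
theorem F5231 : act 3 n1236 = n927 := d25_1 D1236 (iv D927) (iv F3945)
def n1237 : Q := act 3 n912
theorem D1237 : act 3 n912 = n1237 := rfl
theorem F5233 : act 0 n1237 = n913 := d2_1 D1237 (iv D913) (iv F3951)
theorem F5234 : act 1 n1237 = n991 := d9_1 D1237 (iv D991) (iv F3952)
theorem F5235 : act 4 n1237 = n1237 := d21_2 D912 D1237 (iv D1237) (iv D912) F3005
theorem F5236 : act 6 n1237 = n1237 := d23_2 F3954 D1237 (iv D1237)
theorem F5237 : act 8 n1237 = n1237 := d25_2 F3955 D1237 (iv D1237)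
def n1238 : Q := act 5 n912
theorem D1238 : act 5 n912 = n1238 := rfl
theorem F5238 : act 0 n1238 = n914 := d4_1 D1238 (iv D914) (iv F3951)
theorem F5239 : act 1 n1238 = n992 := d11_1 D1238 (iv D992) (iv F3952)
theorem F5240 : act 2 n1238 = n1238 := d17_1 D1238 (iv D1238) F3953
theorem F5241 : act 4 n1238 = n919 := d26_1 D1238 (iv D919) (iv D681) (iv F3006) D912
theorem F5242 : act 8 n1238 = n1238 := d32_2 F3955 D1238 (iv D1238)
def n1239 : Q := act 2 n913
theorem D1239 : act 2 n913 = n1239 := rfl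
theorem F5243 : act 1 n1239 = n1239 := d8_1 D1239 (iv D1239) F3956 F3014 (iv F3956)
theorem F5244 : act 3 n1239 = n1239 := d15_2 D913 D1239 (iv D1239) (iv D913) F3010
theorem F5245 : act 4 n1239 = n1239 := d16_2 F3957 D1239 (iv D1239)
theorem F5246 : act 6 n1239 = n1239 := d18_2 F3958 D1239 (iv D1239)
theorem F5247 : act 8 n1239 = n1239 := d20_2 F3959 D1239 (iv D1239)
def n1240 : Q := act 5 n913
theorem D1240 : act 5 n913 = n1240 := rfl
theorem F5248 : act 1 n1240 = n915 := d11_1 D1240 (iv D915) (iv F3956)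
theorem F5249 : act 3 n1240 = n914 := d22_1 D1240 (iv D914) D913
theorem F5250 : act 8 n1240 = n1240 := d32_2 F3959 D1240 (iv D1240)
def n1241 : Q := act 7 n913
theorem D1241 : act 7 n913 = n1241 := rfl
theorem F5251 : act 1 n1241 = n916 := d13_1 D1241 (iv D916) (iv F3956)
theorem F5252 : act 4 n1241 = n1241 := d28_1 D1241 (iv D1241) F3957
theorem F5253 : act 6 n1241 = n1241 := d33_1 D1241 (iv D1241) F3958
def n1244 : Q := act 6 n915
theorem D1244 : act 6 n915 = n1244 := rfl
theorem F5264 : act 0 n1244 = n998 := d5_1 D1244 (iv D998) (iv F3964)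
theorem F5266 : act 3 n1244 = n917 := d23_1 D1244 (iv D917) (iv F3966)
def n1245 : Q := act 7 n915
theorem D1245 : act 7 n915 = n1245 := rfl
theorem F5269 : act 0 n1245 = n999 := d6_1 D1245 (iv D999) (iv F3964)
theorem F5270 : act 2 n1245 = n1245 := d19_1 D1245 (iv D1245) F3965
theorem F5271 : act 5 n1245 = n916 := d31_1 D1245 (iv D916) D915
def n1246 : Q := act 8 n916
theorem D1246 : act 8 n916 = n1246 := rfl
theorem F5272 : act 0 n1246 = n1000 := d7_1 D1246 (iv D1000) (iv F3968)
theorem F5273 : act 2 n1246 = n1246 := d20_1 D1246 (iv D1246) F3969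
theorem F5274 : act 4 n1246 = n1246 := d29_1 D1246 (iv D1246) F3970
theorem F5275 : act 6 n1246 = n1246 := d34_1 D1246 (iv D1246) F3971
theorem F5276 : act 7 n1246 = n1246 := d35_1 D1246 (iv D1246) (iv D916) F3017 D916
def n1249 : Q := act 7 n918
theorem D1249 : act 7 n918 = n1249 := rfl
theorem F5288 : act 1 n1249 = n1002 := d13_1 D1249 (iv D1002) (iv F3978)
def n1250 : Q := act 6 n919
theorem D1250 : act 6 n919 = n1250 := rfl
theorem F5292 : act 1 n1250 = n1003 := d12_1 D1250 (iv D1003) (iv F3983)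
def n1275 : Q := act 1 n938
theorem D1275 : act 1 n938 = n1275 := rfl
theorem F5394 : act 2 n1275 = n1275 := d8_2 D938 D1275 (iv D1275) (iv D938) F3089
theorem F5395 : act 3 n1275 = n1275 := d9_2 F4061 D1275 (iv D1275)
theorem F5396 : act 5 n1275 = n1275 := d11_2 F4062 D1275 (iv D1275)
theorem F5397 : act 6 n1275 = n1275 := d12_2 F4063 D1275 (iv D1275)
theorem F5398 : act 7 n1275 = n940 := d13_2 (iv F4064) D1275 (iv D940)
theorem F5399 : act 8 n1275 = n1275 := d14_2 F4065 D1275 (iv D1275)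
def n1276 : Q := act 4 n938
theorem D1276 : act 4 n938 = n1276 := rfl
theorem F5400 : act 2 n1276 = n939 := d16_1 D1276 (iv D939) D938
theorem F5401 : act 6 n1276 = n1276 := d27_2 F4063 D1276 (iv D1276)
theorem F5402 : act 7 n1276 = n941 := d28_2 (iv F4064) D1276 (iv D941)
theorem F5403 : act 8 n1276 = n1276 := d29_2 F4065 D1276 (iv D1276)
def n1277 : Q := act 5 n939
theorem D1277 : act 5 n939 = n1277 := rfl
theorem F5404 : act 1 n1277 = n1277 := d11_1 D1277 (iv D1277) F4066
theorem F5405 : act 3 n1277 = n1277 := d22_1 D1277 (iv D1277) F4067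
theorem F5406 : act 4 n1277 = n1277 := d26_1 D1277 (iv D1277) (iv D939) F3090 D939
theorem F5407 : act 7 n1277 = n942 := d31_2 (iv F4069) D1277 (iv D942)
theorem F5408 : act 8 n1277 = n1277 := d32_2 F4070 D1277 (iv D1277)
def n1278 : Q := act 0 n940
theorem D1278 : act 0 n940 = n1278 := rfl
theorem F5409 : act 2 n1278 = n1278 := d1_2 F4071 D1278 (iv D1278)
theorem F5410 : act 3 n1278 = n959 := d2_2 (iv F4072) D1278 (iv D959)
theorem F5411 : act 5 n1278 = n1278 := d4_2 F4073 D1278 (iv D1278)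
theorem F5412 : act 6 n1278 = n1278 := d5_2 F4074 D1278 (iv D1278)
theorem F5413 : act 8 n1278 = n1216 := d7_2 (iv F4075) D1278 (iv D1216)
def n1279 : Q := act 4 n940
theorem D1279 : act 4 n940 = n1279 := rfl
theorem F5414 : act 1 n1279 = n941 := d10_1 D1279 (iv D941) D940
theorem F5415 : act 2 n1279 = n1279 := d16_1 D1279 (iv D1279) F4071
theorem F5416 : act 6 n1279 = n1279 := d27_2 F4074 D1279 (iv D1279)
theorem F5417 : act 8 n1279 = n1217 := d29_2 (iv F4075) D1279 (iv D1217)
def n1280 : Q := act 3 n941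
theorem D1280 : act 3 n941 = n1280 := rfl
theorem F5418 : act 2 n1280 = n945 := d15_1 D1280 (iv D945) F3108 (iv F3099) (iv F4076)
theorem F5419 : act 4 n1280 = n961 := d21_2 D941 D1280 (iv D961) (iv D710) (iv F3094)
theorem F5420 : act 6 n1280 = n1280 := d23_2 F4077 D1280 (iv D1280)
theorem F5421 : act 8 n1280 = n1218 := d25_2 (iv F4078) D1280 (iv D1218)
def n1281 : Q := act 5 n941
theorem D1281 : act 5 n941 = n1281 := rfl
theorem F5422 : act 2 n1281 = n942 := d17_1 D1281 (iv D942) (iv F4076)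
theorem F5423 : act 4 n1281 = n1281 := d26_1 D1281 (iv D1281) (iv D941) F3095 D941
theorem F5424 : act 8 n1281 = n1219 := d32_2 (iv F4078) D1281 (iv D1219)
def n1282 : Q := act 6 n942
theorem D1282 : act 6 n942 = n1282 := rfl
theorem F5425 : act 1 n1282 = n1282 := d12_1 D1282 (iv D1282) F4079
theorem F5426 : act 3 n1282 = n947 := d23_1 D1282 (iv D947) (iv F4080)
theorem F5427 : act 4 n1282 = n1282 := d27_1 D1282 (iv D1282) F4081
theorem F5428 : act 5 n1282 = n1282 := d30_1 D1282 (iv D1282) (iv D942) F3100 D942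
theorem F5429 : act 8 n1282 = n1220 := d34_2 (iv F4082) D1282 (iv D1220)
def n1283 : Q := act 4 n943
theorem D1283 : act 4 n943 = n1283 := rfl
theorem F5430 : act 0 n1283 = n944 := d3_1 D1283 (iv D944) D943
theorem F5431 : act 2 n1283 = n1283 := d16_1 D1283 (iv D1283) F4083
theorem F5432 : act 6 n1283 = n1283 := d27_2 F4086 D1283 (iv D1283)
theorem F5433 : act 7 n1283 = n1283 := d28_2 F4087 D1283 (iv D1283)
theorem F5434 : act 8 n1283 = n1221 := d29_2 (iv F4088) D1283 (iv D1221)
def n1284 : Q := act 3 n944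
theorem D1284 : act 3 n944 = n1284 := rfl
theorem F5435 : act 1 n1284 = n945 := d9_1 D1284 (iv D945) (iv F4089)
theorem F5436 : act 4 n1284 = n970 := d21_2 D944 D1284 (iv D970) (iv D716) (iv F3103)
theorem F5437 : act 6 n1284 = n1284 := d23_2 F4091 D1284 (iv D1284)
theorem F5438 : act 8 n1284 = n1222 := d25_2 (iv F4093) D1284 (iv D1222)
def n1285 : Q := act 5 n944
theorem D1285 : act 5 n944 = n1285 := rfl
theorem F5439 : act 1 n1285 = n946 := d11_1 D1285 (iv D946) (iv F4089)
theorem F5440 : act 2 n1285 = n1285 := d17_1 D1285 (iv D1285) F4090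
theorem F5441 : act 4 n1285 = n950 := d26_1 D1285 (iv D950) (iv D702) (iv F3104) D944
theorem F5442 : act 7 n1285 = n1285 := d31_2 F4092 D1285 (iv D1285)
theorem F5443 : act 8 n1285 = n1223 := d32_2 (iv F4093) D1285 (iv D1223)
def n1286 : Q := act 5 n945
theorem D1286 : act 5 n945 = n1286 := rfl
theorem F5444 : act 3 n1286 = n946 := d22_1 D1286 (iv D946) D945
theorem F5445 : act 8 n1286 = n1224 := d32_2 (iv F4096) D1286 (iv D1224)
def n1287 : Q := act 7 n945
theorem D1287 : act 7 n945 = n1287 := rfl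
theorem F5446 : act 3 n1287 = n1287 := d24_1 D1287 (iv D1287) (iv D945) F3110 D945
theorem F5447 : act 4 n1287 = n973 := d28_1 D1287 (iv D973) (iv F4094)
theorem F5448 : act 6 n1287 = n1287 := d33_1 D1287 (iv D1287) F4095
def n1288 : Q := act 6 n946
theorem D1288 : act 6 n946 = n1288 := rfl
theorem F5449 : act 2 n1288 = n947 := d18_1 D1288 (iv D947) (iv F4097)
theorem F5450 : act 4 n1288 = n953 := d27_1 D1288 (iv D953) (iv F4098)
theorem F5451 : act 5 n1288 = n1288 := d30_1 D1288 (iv D1288) (iv D946) F3109 D946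
theorem F5452 : act 7 n1288 = n1288 := d33_2 F4099 D1288 (iv D1288)
theorem F5453 : act 8 n1288 = n1226 := d34_2 (iv F4100) D1288 (iv D1226)
def n1289 : Q := act 3 n948
theorem D1289 : act 3 n948 = n1289 := rfl
theorem F5454 : act 0 n1289 = n949 := d2_1 D1289 (iv D949) (iv F4106)
theorem F5455 : act 4 n1289 = n981 := d21_2 D948 D1289 (iv D981) (iv D725) (iv F3117)
theorem F5456 : act 6 n1289 = n1119 := d23_2 (iv F4108) D1289 (iv D1119)
theorem F5457 : act 8 n1289 = n1227 := d25_2 (iv F4110) D1289 (iv D1227)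
def n1290 : Q := act 5 n948
theorem D1290 : act 5 n948 = n1290 := rfl
theorem F5458 : act 0 n1290 = n950 := d4_1 D1290 (iv D950) (iv F4106)
theorem F5459 : act 2 n1290 = n1290 := d17_1 D1290 (iv D1290) F4107
theorem F5460 : act 7 n1290 = n1290 := d31_2 F4109 D1290 (iv D1290)
theorem F5461 : act 8 n1290 = n1228 := d32_2 (iv F4110) D1290 (iv D1228)
def n1291 : Q := act 2 n949
theorem D1291 : act 2 n949 = n1291 := rfl
theorem F5462 : act 1 n1291 = n1291 := d8_1 D1291 (iv D1291) F4111 F3126 (iv F4111)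
theorem F5463 : act 3 n1291 = n1291 := d15_2 D949 D1291 (iv D1291) (iv D949) F3122
theorem F5464 : act 4 n1291 = n983 := d16_2 (iv F4112) D1291 (iv D983)
theorem F5465 : act 6 n1291 = n1121 := d18_2 (iv F4113) D1291 (iv D1121)
theorem F5466 : act 8 n1291 = n1229 := d20_2 (iv F4114) D1291 (iv D1229)
def n1292 : Q := act 5 n949
theorem D1292 : act 5 n949 = n1292 := rfl
theorem F5467 : act 1 n1292 = n951 := d11_1 D1292 (iv D951) (iv F4111)
theorem F5468 : act 3 n1292 = n950 := d22_1 D1292 (iv D950) D949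
theorem F5469 : act 8 n1292 = n1230 := d32_2 (iv F4114) D1292 (iv D1230)
def n1293 : Q := act 7 n949
theorem D1293 : act 7 n949 = n1293 := rfl
theorem F5470 : act 1 n1293 = n952 := d13_1 D1293 (iv D952) (iv F4111)
theorem F5471 : act 3 n1293 = n1293 := d24_1 D1293 (iv D1293) (iv D949) F3124 D949
theorem F5472 : act 4 n1293 = n985 := d28_1 D1293 (iv D985) (iv F4112)
theorem F5473 : act 6 n1293 = n1123 := d33_1 D1293 (iv D1123) (iv F4113)
def n1294 : Q := act 6 n950
theorem D1294 : act 6 n950 = n1294 := rfl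
theorem F5474 : act 1 n1294 = n953 := d12_1 D1294 (iv D953) (iv F4115)
theorem F5475 : act 2 n1294 = n1294 := d18_1 D1294 (iv D1294) F4116
theorem F5477 : act 7 n1294 = n1294 := d33_2 F4117 D1294 (iv D1294)
theorem F5478 : act 8 n1294 = n1232 := d34_2 (iv F4118) D1294 (iv D1232)
def n1295 : Q := act 4 n951
theorem D1295 : act 4 n951 = n1295 := rfl
theorem F5479 : act 2 n1295 = n1295 := d16_1 D1295 (iv D1295) F4119
theorem F5480 : act 5 n1295 = n987 := d26_2 D951 D1295 (iv D987) (iv D728) (iv F3127)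
theorem F5481 : act 8 n1295 = n1233 := d29_2 (iv F4121) D1295 (iv D1233)
def n1296 : Q := act 6 n951
theorem D1296 : act 6 n951 = n1296 := rfl
theorem F5482 : act 2 n1296 = n1296 := d18_1 D1296 (iv D1296) F4119
theorem F5483 : act 3 n1296 = n953 := d23_1 D1296 (iv D953) (iv F4120)
theorem F5484 : act 5 n1296 = n1126 := d30_1 D1296 (iv D1126) (iv D828) (iv F3128) D951
theorem F5485 : act 8 n1296 = n1234 := d34_2 (iv F4121) D1296 (iv D1234)
def n1297 : Q := act 7 n951
theorem D1297 : act 7 n951 = n1297 := rfl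
theorem F5486 : act 2 n1297 = n1297 := d19_1 D1297 (iv D1297) F4119
theorem F5487 : act 3 n1297 = n1297 := d24_1 D1297 (iv D1297) F4120 F3131 (iv F4120)
theorem F5488 : act 5 n1297 = n952 := d31_1 D1297 (iv D952) D951
def n1298 : Q := act 8 n952
theorem D1298 : act 8 n952 = n1298 := rfl
theorem F5489 : act 2 n1298 = n1298 := d20_1 D1298 (iv D1298) F4122
theorem F5490 : act 3 n1298 = n1298 := d25_1 D1298 (iv D1298) F4123
theorem F5491 : act 4 n1298 = n990 := d29_1 D1298 (iv D990) (iv F4124)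
theorem F5493 : act 7 n1298 = n1236 := d35_1 D1298 (iv D1236) (iv D910) (iv F3129) D952
def n1299 : Q := act 1 n954
theorem D1299 : act 1 n954 = n1299 := rfl
theorem F5494 : act 2 n1299 = n1019 := d8_2 D954 D1299 (iv D1019) (iv D751) (iv F3139)
theorem F5495 : act 3 n1299 = n1299 := d9_2 F4131 D1299 (iv D1299)
theorem F5496 : act 5 n1299 = n1299 := d11_2 F4132 D1299 (iv D1299)
theorem F5497 : act 6 n1299 = n1299 := d12_2 F4133 D1299 (iv D1299)
theorem F5498 : act 7 n1299 = n956 := d13_2 (iv F4134) D1299 (iv D956)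
theorem F5499 : act 8 n1299 = n1299 := d14_2 F4135 D1299 (iv D1299)
def n1300 : Q := act 4 n954
theorem D1300 : act 4 n954 = n1300 := rfl
theorem F5500 : act 0 n1300 = n1276 := d3_1 D1300 (iv D1276) (iv F4130)
theorem F5501 : act 2 n1300 = n955 := d16_1 D1300 (iv D955) D954
theorem F5502 : act 6 n1300 = n1300 := d27_2 F4133 D1300 (iv D1300)
theorem F5503 : act 7 n1300 = n957 := d28_2 (iv F4134) D1300 (iv D957)
theorem F5504 : act 8 n1300 = n1300 := d29_2 F4135 D1300 (iv D1300)
def n1301 : Q := act 5 n955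
theorem D1301 : act 5 n955 = n1301 := rfl
theorem F5505 : act 0 n1301 = n1277 := d4_1 D1301 (iv D1277) (iv F4136)
theorem F5506 : act 1 n1301 = n1021 := d11_1 D1301 (iv D1021) (iv F4137)
theorem F5507 : act 3 n1301 = n1301 := d22_1 D1301 (iv D1301) F4138
theorem F5508 : act 4 n1301 = n1301 := d26_1 D1301 (iv D1301) (iv D955) F3140 D955
theorem F5509 : act 7 n1301 = n958 := d31_2 (iv F4140) D1301 (iv D958)
theorem F5510 : act 8 n1301 = n1301 := d32_2 F4141 D1301 (iv D1301)
def n1302 : Q := act 0 n956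
theorem D1302 : act 0 n956 = n1302 := rfl
theorem F5511 : act 1 n1302 = n1278 := d0_2 D956 D1302 (iv D1278) (iv D940) (iv F3144)
theorem F5512 : act 2 n1302 = n1022 := d1_2 (iv F4142) D1302 (iv D1022)
theorem F5513 : act 3 n1302 = n1216 := d2_2 (iv F4143) D1302 (iv D1216)
theorem F5514 : act 5 n1302 = n1302 := d4_2 F4144 D1302 (iv D1302)
theorem F5515 : act 6 n1302 = n1302 := d5_2 F4145 D1302 (iv D1302)
theorem F5516 : act 8 n1302 = n959 := d7_2 (iv F4146) D1302 (iv D959)
def n1303 : Q := act 4 n956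
theorem D1303 : act 4 n956 = n1303 := rfl
theorem F5517 : act 1 n1303 = n957 := d10_1 D1303 (iv D957) D956
theorem F5518 : act 2 n1303 = n1023 := d16_1 D1303 (iv D1023) (iv F4142)
theorem F5519 : act 6 n1303 = n1303 := d27_2 F4145 D1303 (iv D1303)
theorem F5520 : act 8 n1303 = n960 := d29_2 (iv F4146) D1303 (iv D960)
def n1304 : Q := act 3 n957
theorem D1304 : act 3 n957 = n1304 := rfl
theorem F5521 : act 0 n1304 = n1280 := d2_1 D1304 (iv D1280) (iv F4147)
theorem F5522 : act 2 n1304 = n966 := d15_1 D1304 (iv D966) F3172 (iv F3151) (iv F4148)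
theorem F5523 : act 4 n1304 = n1218 := d21_2 D957 D1304 (iv D1218) (iv D899) (iv F3145)
theorem F5524 : act 6 n1304 = n1304 := d23_2 F4149 D1304 (iv D1304)
theorem F5525 : act 8 n1304 = n961 := d25_2 (iv F4150) D1304 (iv D961)
def n1305 : Q := act 5 n957
theorem D1305 : act 5 n957 = n1305 := rfl
theorem F5526 : act 0 n1305 = n1281 := d4_1 D1305 (iv D1281) (iv F4147)
theorem F5527 : act 2 n1305 = n958 := d17_1 D1305 (iv D958) (iv F4148)
theorem F5528 : act 4 n1305 = n1305 := d26_1 D1305 (iv D1305) (iv D957) F3146 D957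
theorem F5529 : act 8 n1305 = n962 := d32_2 (iv F4150) D1305 (iv D962)
def n1306 : Q := act 6 n958
theorem D1306 : act 6 n958 = n1306 := rfl
theorem F5530 : act 0 n1306 = n1282 := d5_1 D1306 (iv D1282) (iv F4151)
theorem F5531 : act 1 n1306 = n1026 := d12_1 D1306 (iv D1026) (iv F4152)
theorem F5532 : act 3 n1306 = n968 := d23_1 D1306 (iv D968) (iv F4153)
theorem F5533 : act 4 n1306 = n1306 := d27_1 D1306 (iv D1306) F4154
theorem F5534 : act 5 n1306 = n1306 := d30_1 D1306 (iv D1306) (iv D958) F3152 D958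
theorem F5535 : act 8 n1306 = n963 := d34_2 (iv F4155) D1306 (iv D963)
def n1307 : Q := act 4 n959
theorem D1307 : act 4 n959 = n1307 := rfl
theorem F5536 : act 0 n1307 = n960 := d3_1 D1307 (iv D960) D959
theorem F5537 : act 2 n1307 = n1027 := d16_1 D1307 (iv D1027) (iv F4156)
theorem F5538 : act 6 n1307 = n1307 := d27_2 F4158 D1307 (iv D1307)
theorem F5539 : act 7 n1307 = n1307 := d28_2 F4159 D1307 (iv D1307)
def n1308 : Q := act 3 n960
theorem D1308 : act 3 n960 = n1308 := rfl
theorem F5540 : act 1 n1308 = n961 := d9_1 D1308 (iv D961) (iv F4160)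
theorem F5541 : act 6 n1308 = n1308 := d23_2 F4162 D1308 (iv D1308)
def n1309 : Q := act 5 n960
theorem D1309 : act 5 n960 = n1309 := rfl
theorem F5542 : act 1 n1309 = n962 := d11_1 D1309 (iv D962) (iv F4160)
theorem F5543 : act 2 n1309 = n1029 := d17_1 D1309 (iv D1029) (iv F4161)
theorem F5544 : act 4 n1309 = n1309 := d26_1 D1309 (iv D1309) (iv D960) F3155 D960
theorem F5545 : act 7 n1309 = n1309 := d31_2 F4163 D1309 (iv D1309)
def n1310 : Q := act 5 n961
theorem D1310 : act 5 n961 = n1310 := rfl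
theorem F5546 : act 2 n1310 = n972 := d17_1 D1310 (iv D972) (iv F4164)
theorem F5547 : act 3 n1310 = n962 := d22_1 D1310 (iv D962) D961
def n1311 : Q := act 7 n961
theorem D1311 : act 7 n961 = n1311 := rfl
theorem F5548 : act 2 n1311 = n973 := d19_1 D1311 (iv D973) (iv F4164)
theorem F5549 : act 3 n1311 = n1311 := d24_1 D1311 (iv D1311) (iv D961) F3160 D961
theorem F5550 : act 6 n1311 = n1311 := d33_1 D1311 (iv D1311) F4165
def n1312 : Q := act 6 n962
theorem D1312 : act 6 n962 = n1312 := rfl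
theorem F5551 : act 2 n1312 = n963 := d18_1 D1312 (iv D963) (iv F4166)
theorem F5552 : act 4 n1312 = n1312 := d27_1 D1312 (iv D1312) F4167
theorem F5553 : act 5 n1312 = n1312 := d30_1 D1312 (iv D1312) (iv D962) F3159 D962
theorem F5554 : act 7 n1312 = n1312 := d33_2 F4168 D1312 (iv D1312)
def n1313 : Q := act 4 n964
theorem D1313 : act 4 n964 = n1313 := rfl
theorem F5555 : act 0 n1313 = n965 := d3_1 D1313 (iv D965) D964
theorem F5556 : act 1 n1313 = n1283 := d10_1 D1313 (iv D1283) (iv F4174)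
theorem F5557 : act 2 n1313 = n1033 := d16_1 D1313 (iv D1033) (iv F4175)
theorem F5558 : act 6 n1313 = n1313 := d27_2 F4178 D1313 (iv D1313)
theorem F5559 : act 7 n1313 = n1313 := d28_2 F4179 D1313 (iv D1313)
theorem F5560 : act 8 n1313 = n969 := d29_2 (iv F4180) D1313 (iv D969)
def n1314 : Q := act 3 n965
theorem D1314 : act 3 n965 = n1314 := rfl
theorem F5561 : act 1 n1314 = n966 := d9_1 D1314 (iv D966) (iv F4181)
theorem F5562 : act 4 n1314 = n1222 := d21_2 D965 D1314 (iv D1222) (iv D902) (iv F3166)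
theorem F5563 : act 6 n1314 = n1314 := d23_2 F4183 D1314 (iv D1314)
theorem F5564 : act 8 n1314 = n970 := d25_2 (iv F4185) D1314 (iv D970)
def n1315 : Q := act 5 n965
theorem D1315 : act 5 n965 = n1315 := rfl
theorem F5565 : act 1 n1315 = n967 := d11_1 D1315 (iv D967) (iv F4181)
theorem F5566 : act 2 n1315 = n1035 := d17_1 D1315 (iv D1035) (iv F4182)
theorem F5567 : act 4 n1315 = n977 := d26_1 D1315 (iv D977) (iv D721) (iv F3167) D965
theorem F5568 : act 7 n1315 = n1315 := d31_2 F4184 D1315 (iv D1315)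
theorem F5569 : act 8 n1315 = n971 := d32_2 (iv F4185) D1315 (iv D971)
def n1316 : Q := act 5 n966
theorem D1316 : act 5 n966 = n1316 := rfl
theorem F5570 : act 0 n1316 = n1286 := d4_1 D1316 (iv D1286) (iv F4186)
theorem F5571 : act 3 n1316 = n967 := d22_1 D1316 (iv D967) D966
theorem F5572 : act 8 n1316 = n972 := d32_2 (iv F4189) D1316 (iv D972)
def n1317 : Q := act 7 n966
theorem D1317 : act 7 n966 = n1317 := rfl
theorem F5573 : act 0 n1317 = n1287 := d6_1 D1317 (iv D1287) (iv F4186)
theorem F5574 : act 3 n1317 = n1317 := d24_1 D1317 (iv D1317) (iv D966) F3174 D966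
theorem F5575 : act 4 n1317 = n1225 := d28_1 D1317 (iv D1225) (iv F4187)
theorem F5576 : act 6 n1317 = n1317 := d33_1 D1317 (iv D1317) F4188
def n1318 : Q := act 6 n967
theorem D1318 : act 6 n967 = n1318 := rfl
theorem F5577 : act 0 n1318 = n1288 := d5_1 D1318 (iv D1288) (iv F4190)
theorem F5578 : act 2 n1318 = n968 := d18_1 D1318 (iv D968) (iv F4191)
theorem F5579 : act 4 n1318 = n980 := d27_1 D1318 (iv D980) (iv F4192)
theorem F5580 : act 5 n1318 = n1318 := d30_1 D1318 (iv D1318) (iv D967) F3173 D967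
theorem F5581 : act 7 n1318 = n1318 := d33_2 F4193 D1318 (iv D1318)
theorem F5582 : act 8 n1318 = n974 := d34_2 (iv F4194) D1318 (iv D974)
def n1319 : Q := act 3 n969
theorem D1319 : act 3 n969 = n1319 := rfl
theorem F5583 : act 0 n1319 = n970 := d2_1 D1319 (iv D970) (iv F4201)
theorem F5584 : act 6 n1319 = n1319 := d23_2 F4203 D1319 (iv D1319)
def n1320 : Q := act 5 n969
theorem D1320 : act 5 n969 = n1320 := rfl
theorem F5585 : act 0 n1320 = n971 := d4_1 D1320 (iv D971) (iv F4201)
theorem F5586 : act 2 n1320 = n1040 := d17_1 D1320 (iv D1040) (iv F4202)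
theorem F5587 : act 4 n1320 = n982 := d26_1 D1320 (iv D982) (iv D725) (iv F3182) D969
theorem F5588 : act 7 n1320 = n992 := d31_2 (iv F4204) D1320 (iv D992)
def n1321 : Q := act 2 n970
theorem D1321 : act 2 n970 = n1321 := rfl
theorem F5589 : act 3 n1321 = n1041 := d15_2 D970 D1321 (iv D1041) (iv D767) (iv F3186)
theorem F5590 : act 6 n1321 = n1321 := d18_2 F4206 D1321 (iv D1321)
def n1322 : Q := act 5 n970
theorem D1322 : act 5 n970 = n1322 := rfl
theorem F5591 : act 1 n1322 = n972 := d11_1 D1322 (iv D972) (iv F4205)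
theorem F5592 : act 3 n1322 = n971 := d22_1 D1322 (iv D971) D970
def n1323 : Q := act 7 n970
theorem D1323 : act 7 n970 = n1323 := rfl
theorem F5593 : act 1 n1323 = n973 := d13_1 D1323 (iv D973) (iv F4205)
theorem F5594 : act 3 n1323 = n995 := d24_1 D1323 (iv D995) (iv D732) (iv F3188) D970
theorem F5595 : act 6 n1323 = n1323 := d33_1 D1323 (iv D1323) F4206
def n1324 : Q := act 6 n971
theorem D1324 : act 6 n971 = n1324 := rfl
theorem F5596 : act 1 n1324 = n974 := d12_1 D1324 (iv D974) (iv F4207)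
theorem F5597 : act 2 n1324 = n1044 := d18_1 D1324 (iv D1044) (iv F4208)
theorem F5598 : act 4 n1324 = n986 := d27_1 D1324 (iv D986) (iv F4209)
theorem F5599 : act 5 n1324 = n1324 := d30_1 D1324 (iv D1324) (iv D971) F3187 D971
theorem F5600 : act 7 n1324 = n996 := d33_2 (iv F4210) D1324 (iv D996)
def n1325 : Q := act 4 n972
theorem D1325 : act 4 n972 = n1325 := rfl
theorem F5601 : act 3 n1325 = n987 := d21_1 D1325 (iv D987) F3233 (iv F3191) (iv F4211)
def n1326 : Q := act 6 n972
theorem D1326 : act 6 n972 = n1326 := rfl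
theorem F5602 : act 3 n1326 = n974 := d23_1 D1326 (iv D974) (iv F4211)
theorem F5603 : act 5 n1326 = n1326 := d30_1 D1326 (iv D1326) (iv D972) F3189 D972
def n1327 : Q := act 7 n972
theorem D1327 : act 7 n972 = n1327 := rfl
theorem F5604 : act 3 n1327 = n999 := d24_1 D1327 (iv D999) F3253 (iv F3192) (iv F4211)
theorem F5605 : act 5 n1327 = n973 := d31_1 D1327 (iv D973) D972
def n1328 : Q := act 8 n973
theorem D1328 : act 8 n973 = n1328 := rfl
theorem F5606 : act 3 n1328 = n1000 := d25_1 D1328 (iv D1000) (iv F4212)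
theorem F5607 : act 6 n1328 = n1328 := d34_1 D1328 (iv D1328) F4213
def n1329 : Q := act 3 n975
theorem D1329 : act 3 n975 = n1329 := rfl
theorem F5608 : act 0 n1329 = n976 := d2_1 D1329 (iv D976) (iv F4218)
theorem F5609 : act 1 n1329 = n1289 := d9_1 D1329 (iv D1289) (iv F4219)
theorem F5610 : act 4 n1329 = n1227 := d21_2 D975 D1329 (iv D1227) (iv D906) (iv F3199)
theorem F5611 : act 6 n1329 = n1129 := d23_2 (iv F4221) D1329 (iv D1129)
theorem F5612 : act 8 n1329 = n981 := d25_2 (iv F4223) D1329 (iv D981)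
def n1330 : Q := act 5 n975
theorem D1330 : act 5 n975 = n1330 := rfl
theorem F5613 : act 0 n1330 = n977 := d4_1 D1330 (iv D977) (iv F4218)
theorem F5614 : act 1 n1330 = n1290 := d11_1 D1330 (iv D1290) (iv F4219)
theorem F5615 : act 2 n1330 = n1050 := d17_1 D1330 (iv D1050) (iv F4220)
theorem F5616 : act 7 n1330 = n1330 := d31_2 F4222 D1330 (iv D1330)
theorem F5617 : act 8 n1330 = n982 := d32_2 (iv F4223) D1330 (iv D982)
def n1331 : Q := act 2 n976
theorem D1331 : act 2 n976 = n1331 := rfl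
theorem F5618 : act 1 n1331 = n1331 := d8_1 D1331 (iv D1331) F4224 F3209 (iv F4224)
theorem F5619 : act 3 n1331 = n1051 := d15_2 D976 D1331 (iv D1051) (iv D773) (iv F3204)
theorem F5620 : act 4 n1331 = n1229 := d16_2 (iv F4225) D1331 (iv D1229)
theorem F5621 : act 6 n1331 = n1131 := d18_2 (iv F4226) D1331 (iv D1131)
theorem F5622 : act 8 n1331 = n983 := d20_2 (iv F4227) D1331 (iv D983)
def n1332 : Q := act 5 n976
theorem D1332 : act 5 n976 = n1332 := rfl
theorem F5623 : act 1 n1332 = n978 := d11_1 D1332 (iv D978) (iv F4224)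
theorem F5624 : act 3 n1332 = n977 := d22_1 D1332 (iv D977) D976
theorem F5625 : act 8 n1332 = n984 := d32_2 (iv F4227) D1332 (iv D984)
def n1333 : Q := act 7 n976
theorem D1333 : act 7 n976 = n1333 := rfl
theorem F5626 : act 1 n1333 = n979 := d13_1 D1333 (iv D979) (iv F4224)
theorem F5627 : act 3 n1333 = n1333 := d24_1 D1333 (iv D1333) (iv D976) F3206 D976
theorem F5628 : act 4 n1333 = n1231 := d28_1 D1333 (iv D1231) (iv F4225)
theorem F5629 : act 6 n1333 = n1133 := d33_1 D1333 (iv D1133) (iv F4226)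
def n1334 : Q := act 6 n977
theorem D1334 : act 6 n977 = n1334 := rfl
theorem F5630 : act 1 n1334 = n980 := d12_1 D1334 (iv D980) (iv F4228)
theorem F5631 : act 2 n1334 = n1054 := d18_1 D1334 (iv D1054) (iv F4229)
theorem F5632 : act 5 n1334 = n1134 := d30_1 D1334 (iv D1134) (iv D833) (iv F3205) D977
theorem F5633 : act 7 n1334 = n1334 := d33_2 F4230 D1334 (iv D1334)
theorem F5634 : act 8 n1334 = n986 := d34_2 (iv F4231) D1334 (iv D986)
def n1335 : Q := act 4 n978
theorem D1335 : act 4 n978 = n1335 := rfl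
theorem F5635 : act 0 n1335 = n1295 := d3_1 D1335 (iv D1295) (iv F4232)
theorem F5636 : act 2 n1335 = n1335 := d16_1 D1335 (iv D1335) F4233
theorem F5637 : act 5 n1335 = n1233 := d26_2 D978 D1335 (iv D1233) (iv D909) (iv F3210)
theorem F5638 : act 8 n1335 = n987 := d29_2 (iv F4235) D1335 (iv D987)
def n1336 : Q := act 6 n978
theorem D1336 : act 6 n978 = n1336 := rfl
theorem F5639 : act 0 n1336 = n1296 := d5_1 D1336 (iv D1296) (iv F4232)
theorem F5640 : act 2 n1336 = n1336 := d18_1 D1336 (iv D1336) F4233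
theorem F5641 : act 3 n1336 = n980 := d23_1 D1336 (iv D980) (iv F4234)
theorem F5642 : act 5 n1336 = n1136 := d30_1 D1336 (iv D1136) (iv D834) (iv F3211) D978
theorem F5643 : act 8 n1336 = n988 := d34_2 (iv F4235) D1336 (iv D988)
def n1337 : Q := act 7 n978
theorem D1337 : act 7 n978 = n1337 := rfl
theorem F5644 : act 0 n1337 = n1297 := d6_1 D1337 (iv D1297) (iv F4232)
theorem F5645 : act 2 n1337 = n1337 := d19_1 D1337 (iv D1337) F4233
theorem F5646 : act 3 n1337 = n1337 := d24_1 D1337 (iv D1337) F4234 F3215 (iv F4234)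
theorem F5647 : act 5 n1337 = n979 := d31_1 D1337 (iv D979) D978
def n1338 : Q := act 8 n979
theorem D1338 : act 8 n979 = n1338 := rfl
theorem F5648 : act 0 n1338 = n1298 := d7_1 D1338 (iv D1298) (iv F4236)
theorem F5649 : act 2 n1338 = n1338 := d20_1 D1338 (iv D1338) F4237
theorem F5650 : act 3 n1338 = n1338 := d25_1 D1338 (iv D1338) F4238
theorem F5651 : act 4 n1338 = n1236 := d29_1 D1338 (iv D1236) (iv F4239)
theorem F5653 : act 7 n1338 = n990 := d35_1 D1338 (iv D990) (iv D729) (iv F3212) D979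
def n1339 : Q := act 2 n981
theorem D1339 : act 2 n981 = n1339 := rfl
theorem F5654 : act 0 n1339 = n983 := d1_1 D1339 (iv D983) (iv F4246)
theorem F5655 : act 3 n1339 = n1058 := d15_2 D981 D1339 (iv D1058) (iv D778) (iv F3224)
theorem F5656 : act 6 n1339 = n1139 := d18_2 (iv F4247) D1339 (iv D1139)
def n1340 : Q := act 5 n981
theorem D1340 : act 5 n981 = n1340 := rfl
theorem F5657 : act 0 n1340 = n984 := d4_1 D1340 (iv D984) (iv F4246)
theorem F5658 : act 3 n1340 = n982 := d22_1 D1340 (iv D982) D981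
def n1341 : Q := act 7 n981
theorem D1341 : act 7 n981 = n1341 := rfl
theorem F5659 : act 0 n1341 = n985 := d6_1 D1341 (iv D985) (iv F4246)
theorem F5660 : act 3 n1341 = n1002 := d24_1 D1341 (iv D1002) (iv D737) (iv F3226) D981
theorem F5661 : act 6 n1341 = n1141 := d33_1 D1341 (iv D1141) (iv F4247)
def n1342 : Q := act 6 n982
theorem D1342 : act 6 n982 = n1342 := rfl
theorem F5662 : act 0 n1342 = n986 := d5_1 D1342 (iv D986) (iv F4248)
theorem F5663 : act 2 n1342 = n1060 := d18_1 D1342 (iv D1060) (iv F4249)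
theorem F5664 : act 5 n1342 = n1142 := d30_1 D1342 (iv D1142) (iv D838) (iv F3225) D982
theorem F5665 : act 7 n1342 = n1003 := d33_2 (iv F4250) D1342 (iv D1003)
def n1343 : Q := act 5 n983
theorem D1343 : act 5 n983 = n1343 := rfl
theorem F5666 : act 1 n1343 = n1343 := d11_1 D1343 (iv D1343) F4251
theorem F5667 : act 2 n1343 = n984 := d17_1 D1343 (iv D984) D983
theorem F5668 : act 3 n1343 = n1061 := d22_1 D1343 (iv D1061) (iv F4252)
def n1344 : Q := act 7 n983
theorem D1344 : act 7 n983 = n1344 := rfl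
theorem F5669 : act 1 n1344 = n1344 := d13_1 D1344 (iv D1344) F4251
theorem F5670 : act 2 n1344 = n985 := d19_1 D1344 (iv D985) D983
theorem F5671 : act 3 n1344 = n1344 := d24_1 D1344 (iv D1344) F4252 F3442 (iv F4252)
theorem F5672 : act 6 n1344 = n1144 := d33_1 D1344 (iv D1144) (iv F4253)
def n1345 : Q := act 4 n984
theorem D1345 : act 4 n984 = n1345 := rfl
theorem F5673 : act 1 n1345 = n987 := d10_1 D1345 (iv D987) (iv F4254)
def n1346 : Q := act 6 n984
theorem D1346 : act 6 n984 = n1346 := rfl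
theorem F5674 : act 1 n1346 = n988 := d12_1 D1346 (iv D988) (iv F4254)
theorem F5675 : act 3 n1346 = n986 := d23_1 D1346 (iv D986) (iv F4255)
theorem F5676 : act 5 n1346 = n1146 := d30_1 D1346 (iv D1146) (iv D840) (iv F3228) D984
def n1347 : Q := act 7 n984
theorem D1347 : act 7 n984 = n1347 := rfl
theorem F5677 : act 1 n1347 = n989 := d13_1 D1347 (iv D989) (iv F4254)
theorem F5678 : act 3 n1347 = n1006 := d24_1 D1347 (iv D1006) F3272 (iv F3231) (iv F4255)
theorem F5679 : act 5 n1347 = n985 := d31_1 D1347 (iv D985) D984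
def n1348 : Q := act 8 n985
theorem D1348 : act 8 n985 = n1348 := rfl
theorem F5680 : act 1 n1348 = n990 := d14_1 D1348 (iv D990) (iv F4256)
theorem F5681 : act 3 n1348 = n1007 := d25_1 D1348 (iv D1007) (iv F4257)
theorem F5682 : act 6 n1348 = n1148 := d34_1 D1348 (iv D1148) (iv F4258)
def n1349 : Q := act 6 n987
theorem D1349 : act 6 n987 = n1349 := rfl
theorem F5683 : act 2 n1349 = n1349 := d18_1 D1349 (iv D1349) F4263
theorem F5684 : act 4 n1349 = n988 := d27_1 D1349 (iv D988) D987
def n1350 : Q := act 7 n987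
theorem D1350 : act 7 n987 = n1350 := rfl
theorem F5685 : act 2 n1350 = n1350 := d19_1 D1350 (iv D1350) F4263
theorem F5686 : act 4 n1350 = n989 := d28_1 D1350 (iv D989) D987
def n1351 : Q := act 7 n988
theorem D1351 : act 7 n988 = n1351 := rfl
theorem F5688 : act 3 n1351 = n1010 := d24_1 D1351 (iv D1010) F3286 (iv F3239) (iv F4265)
theorem F5689 : act 5 n1351 = n1151 := d31_1 D1351 (iv D1151) (iv F4266)
theorem F5690 : act 6 n1351 = n989 := d33_1 D1351 (iv D989) D988
def n1352 : Q := act 8 n989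
theorem D1352 : act 8 n989 = n1352 := rfl
theorem F5693 : act 5 n1352 = n990 := d32_1 D1352 (iv D990) (iv F4269)
def n1353 : Q := act 2 n991
theorem D1353 : act 2 n991 = n1353 := rfl
theorem F5694 : act 0 n1353 = n993 := d1_1 D1353 (iv D993) (iv F4273)
theorem F5695 : act 3 n1353 = n1065 := d15_2 D991 D1353 (iv D1065) (iv D785) (iv F3241)
theorem F5696 : act 4 n1353 = n1353 := d16_2 F4274 D1353 (iv D1353)
theorem F5697 : act 6 n1353 = n1353 := d18_2 F4275 D1353 (iv D1353)
theorem F5698 : act 8 n1353 = n1353 := d20_2 F4276 D1353 (iv D1353)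
def n1354 : Q := act 5 n991
theorem D1354 : act 5 n991 = n1354 := rfl
theorem F5699 : act 0 n1354 = n994 := d4_1 D1354 (iv D994) (iv F4273)
theorem F5700 : act 3 n1354 = n992 := d22_1 D1354 (iv D992) D991
theorem F5701 : act 8 n1354 = n1354 := d32_2 F4276 D1354 (iv D1354)
def n1355 : Q := act 7 n991
theorem D1355 : act 7 n991 = n1355 := rfl
theorem F5702 : act 0 n1355 = n995 := d6_1 D1355 (iv D995) (iv F4273)
theorem F5703 : act 4 n1355 = n1355 := d28_1 D1355 (iv D1355) F4274
theorem F5704 : act 6 n1355 = n1355 := d33_1 D1355 (iv D1355) F4275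
def n1356 : Q := act 6 n992
theorem D1356 : act 6 n992 = n1356 := rfl
theorem F5705 : act 0 n1356 = n996 := d5_1 D1356 (iv D996) (iv F4277)
theorem F5706 : act 2 n1356 = n1068 := d18_1 D1356 (iv D1068) (iv F4278)
theorem F5707 : act 4 n1356 = n1003 := d27_1 D1356 (iv D1003) (iv F4279)
theorem F5708 : act 5 n1356 = n1356 := d30_1 D1356 (iv D1356) (iv D992) F3242 D992
theorem F5709 : act 8 n1356 = n1356 := d34_2 F4280 D1356 (iv D1356)
def n1357 : Q := act 5 n993
theorem D1357 : act 5 n993 = n1357 := rfl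
theorem F5710 : act 1 n1357 = n1357 := d11_1 D1357 (iv D1357) F4281
theorem F5711 : act 2 n1357 = n994 := d17_1 D1357 (iv D994) D993
theorem F5712 : act 3 n1357 = n1069 := d22_1 D1357 (iv D1069) (iv F4282)
theorem F5713 : act 8 n1357 = n1357 := d32_2 F4285 D1357 (iv D1357)
def n1358 : Q := act 7 n993
theorem D1358 : act 7 n993 = n1358 := rfl
theorem F5714 : act 1 n1358 = n1358 := d13_1 D1358 (iv D1358) F4281
theorem F5715 : act 2 n1358 = n995 := d19_1 D1358 (iv D995) D993
theorem F5716 : act 4 n1358 = n1358 := d28_1 D1358 (iv D1358) F4283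
theorem F5717 : act 6 n1358 = n1358 := d33_1 D1358 (iv D1358) F4284
def n1359 : Q := act 4 n994
theorem D1359 : act 4 n994 = n1359 := rfl
theorem F5718 : act 1 n1359 = n997 := d10_1 D1359 (iv D997) (iv F4286)
theorem F5719 : act 3 n1359 = n1004 := d21_1 D1359 (iv D1004) F3272 (iv F3250) (iv F4287)
theorem F5720 : act 5 n1359 = n1359 := d26_2 D994 D1359 (iv D1359) (iv D994) F3245
theorem F5721 : act 8 n1359 = n1359 := d29_2 F4288 D1359 (iv D1359)
def n1360 : Q := act 6 n994
theorem D1360 : act 6 n994 = n1360 := rfl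
theorem F5722 : act 1 n1360 = n998 := d12_1 D1360 (iv D998) (iv F4286)
theorem F5723 : act 3 n1360 = n996 := d23_1 D1360 (iv D996) (iv F4287)
theorem F5724 : act 5 n1360 = n1360 := d30_1 D1360 (iv D1360) (iv D994) F3246 D994
theorem F5725 : act 8 n1360 = n1360 := d34_2 F4288 D1360 (iv D1360)
def n1361 : Q := act 7 n994
theorem D1361 : act 7 n994 = n1361 := rfl
theorem F5726 : act 1 n1361 = n999 := d13_1 D1361 (iv D999) (iv F4286)
theorem F5727 : act 5 n1361 = n995 := d31_1 D1361 (iv D995) D994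
def n1362 : Q := act 8 n995
theorem D1362 : act 8 n995 = n1362 := rfl
theorem F5728 : act 1 n1362 = n1000 := d14_1 D1362 (iv D1000) (iv F4289)
theorem F5729 : act 4 n1362 = n1362 := d29_1 D1362 (iv D1362) F4290
theorem F5730 : act 6 n1362 = n1362 := d34_1 D1362 (iv D1362) F4291
theorem F5731 : act 7 n1362 = n1362 := d35_1 D1362 (iv D1362) (iv D995) F3247 D995
def n1363 : Q := act 6 n997
theorem D1363 : act 6 n997 = n1363 := rfl
theorem F5733 : act 3 n1363 = n1008 := d23_1 D1363 (iv D1008) (iv F4298)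
theorem F5734 : act 4 n1363 = n998 := d27_1 D1363 (iv D998) D997
def n1364 : Q := act 7 n997
theorem D1364 : act 7 n997 = n1364 := rfl
theorem F5736 : act 2 n1364 = n1364 := d19_1 D1364 (iv D1364) F4297
theorem F5737 : act 4 n1364 = n999 := d28_1 D1364 (iv D999) D997
theorem F5738 : act 5 n1364 = n1364 := d31_1 D1364 (iv D1364) F4299
def n1365 : Q := act 7 n998
theorem D1365 : act 7 n998 = n1365 := rfl
theorem F5739 : act 2 n1365 = n1365 := d19_1 D1365 (iv D1365) F4301
theorem F5740 : act 5 n1365 = n1365 := d31_1 D1365 (iv D1365) F4303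
theorem F5741 : act 6 n1365 = n999 := d33_1 D1365 (iv D999) D998
def n1366 : Q := act 8 n999
theorem D1366 : act 8 n999 = n1366 := rfl
theorem F5742 : act 2 n1366 = n1366 := d20_1 D1366 (iv D1366) F4305
theorem F5743 : act 5 n1366 = n1000 := d32_1 D1366 (iv D1000) (iv F4306)
theorem F5744 : act 7 n1366 = n1366 := d35_1 D1366 (iv D1366) (iv D999) F3254 D999
def n1367 : Q := act 4 n1001
theorem D1367 : act 4 n1001 = n1367 := rfl
theorem F5745 : act 0 n1367 = n1004 := d3_1 D1367 (iv D1004) (iv F4311)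
theorem F5746 : act 2 n1367 = n1367 := d16_1 D1367 (iv D1367) F4312
theorem F5747 : act 5 n1367 = n1367 := d26_2 D1001 D1367 (iv D1367) (iv D1001) F3264
theorem F5748 : act 8 n1367 = n1367 := d29_2 F4314 D1367 (iv D1367)
def n1368 : Q := act 6 n1001
theorem D1368 : act 6 n1001 = n1368 := rfl
theorem F5751 : act 3 n1368 = n1003 := d23_1 D1368 (iv D1003) (iv F4313)
theorem F5752 : act 5 n1368 = n1154 := d30_1 D1368 (iv D1154) (iv D847) (iv F3265) D1001
def n1369 : Q := act 7 n1001
theorem D1369 : act 7 n1001 = n1369 := rfl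
theorem F5754 : act 0 n1369 = n1006 := d6_1 D1369 (iv D1006) (iv F4311)
theorem F5755 : act 2 n1369 = n1369 := d19_1 D1369 (iv D1369) F4312
theorem F5756 : act 5 n1369 = n1002 := d31_1 D1369 (iv D1002) D1001
def n1370 : Q := act 8 n1002
theorem D1370 : act 8 n1002 = n1370 := rfl
theorem F5757 : act 0 n1370 = n1007 := d7_1 D1370 (iv D1007) (iv F4315)
theorem F5758 : act 2 n1370 = n1370 := d20_1 D1370 (iv D1370) F4316
theorem F5759 : act 4 n1370 = n1370 := d29_1 D1370 (iv D1370) F4317
theorem F5760 : act 6 n1370 = n1156 := d34_1 D1370 (iv D1156) (iv F4318)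
theorem F5761 : act 7 n1370 = n1370 := d35_1 D1370 (iv D1370) (iv D1002) F3266 D1002
def n1371 : Q := act 6 n1004
theorem D1371 : act 6 n1004 = n1371 := rfl
theorem F5764 : act 4 n1371 = n1005 := d27_1 D1371 (iv D1005) D1004
def n1372 : Q := act 7 n1004
theorem D1372 : act 7 n1004 = n1372 := rfl
theorem F5766 : act 1 n1372 = n1009 := d13_1 D1372 (iv D1009) (iv F4323)
theorem F5767 : act 2 n1372 = n1372 := d19_1 D1372 (iv D1372) F4324
theorem F5768 : act 4 n1372 = n1006 := d28_1 D1372 (iv D1006) D1004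
theorem F5769 : act 5 n1372 = n1372 := d31_1 D1372 (iv D1372) F4325
def n1373 : Q := act 7 n1005
theorem D1373 : act 7 n1005 = n1373 := rfl
theorem F5772 : act 5 n1373 = n1159 := d31_1 D1373 (iv D1159) (iv F4330)
theorem F5773 : act 6 n1373 = n1006 := d33_1 D1373 (iv D1006) D1005
def n1374 : Q := act 8 n1006
theorem D1374 : act 8 n1006 = n1374 := rfl
theorem F5776 : act 5 n1374 = n1007 := d32_1 D1374 (iv D1007) (iv F4334)
def n1376 : Q := act 7 n1008
theorem D1376 : act 7 n1008 = n1376 := rfl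
theorem F5782 : act 2 n1376 = n1013 := d19_1 D1376 (iv D1013) (iv F4340)
theorem F5783 : act 4 n1376 = n1010 := d28_1 D1376 (iv D1010) (iv F4341)
theorem F5784 : act 6 n1376 = n1009 := d33_1 D1376 (iv D1009) D1008
def n1377 : Q := act 3 n1009
theorem D1377 : act 3 n1009 = n1377 := rfl
theorem F5785 : act 5 n1377 = n1377 := d22_2 F4345 D1377 (iv D1377)
def n1381 : Q := act 3 n1013
theorem D1381 : act 3 n1013 = n1381 := rfl
theorem F5800 : act 6 n1381 = n1014 := d23_2 (iv F4359) D1381 (iv D1014)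
def n1383 : Q := act 2 n1014
theorem D1383 : act 2 n1014 = n1383 := rfl
theorem F5806 : act 4 n1383 = n1383 := d16_2 F4361 D1383 (iv D1383)
theorem F5807 : act 5 n1383 = n1383 := d17_2 F4362 D1383 (iv D1383)
theorem F5808 : act 7 n1383 = n1383 := d19_2 F4363 D1383 (iv D1383)
def n1385 : Q := act 1 n1017
theorem D1385 : act 1 n1017 = n1385 := rfl
theorem F5813 : act 2 n1385 = n1385 := d8_2 D1017 D1385 (iv D1385) (iv D1017) F3311
theorem F5814 : act 3 n1385 = n1019 := d9_2 (iv F4374) D1385 (iv D1019)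
theorem F5815 : act 5 n1385 = n1385 := d11_2 F4375 D1385 (iv D1385)
theorem F5816 : act 6 n1385 = n1385 := d12_2 F4376 D1385 (iv D1385)
theorem F5817 : act 7 n1385 = n1385 := d13_2 F4377 D1385 (iv D1385)
theorem F5818 : act 8 n1385 = n1385 := d14_2 F4378 D1385 (iv D1385)
def n1386 : Q := act 4 n1017
theorem D1386 : act 4 n1017 = n1386 := rfl
theorem F5819 : act 0 n1386 = n1386 := d3_1 D1386 (iv D1386) F4373
theorem F5820 : act 2 n1386 = n1018 := d16_1 D1386 (iv D1018) D1017
theorem F5821 : act 6 n1386 = n1386 := d27_2 F4376 D1386 (iv D1386)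
theorem F5822 : act 7 n1386 = n1386 := d28_2 F4377 D1386 (iv D1386)
theorem F5823 : act 8 n1386 = n1386 := d29_2 F4378 D1386 (iv D1386)
def n1387 : Q := act 5 n1018
theorem D1387 : act 5 n1018 = n1387 := rfl
theorem F5824 : act 0 n1387 = n1387 := d4_1 D1387 (iv D1387) F4379
theorem F5825 : act 1 n1387 = n1387 := d11_1 D1387 (iv D1387) F4380
theorem F5826 : act 3 n1387 = n1387 := d22_1 D1387 (iv D1387) F4381
theorem F5827 : act 4 n1387 = n1387 := d26_1 D1387 (iv D1387) (iv D1018) F3312 D1018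
theorem F5828 : act 7 n1387 = n1387 := d31_2 F4383 D1387 (iv D1387)
theorem F5829 : act 8 n1387 = n1387 := d32_2 F4384 D1387 (iv D1387)
def n1388 : Q := act 0 n1019
theorem D1388 : act 0 n1019 = n1388 := rfl
theorem F5830 : act 1 n1388 = n1388 := d0_2 D1019 D1388 (iv D1388) (iv D1019) F3316
theorem F5831 : act 5 n1388 = n1388 := d4_2 F4385 D1388 (iv D1388)
theorem F5832 : act 6 n1388 = n1388 := d5_2 F4386 D1388 (iv D1388)
theorem F5833 : act 7 n1388 = n1022 := d6_2 (iv F4387) D1388 (iv D1022)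
theorem F5834 : act 8 n1388 = n1388 := d7_2 F4388 D1388 (iv D1388)
def n1389 : Q := act 4 n1019
theorem D1389 : act 4 n1019 = n1389 := rfl
theorem F5835 : act 1 n1389 = n1020 := d10_1 D1389 (iv D1020) D1019
theorem F5836 : act 6 n1389 = n1389 := d27_2 F4386 D1389 (iv D1389)
theorem F5837 : act 7 n1389 = n1023 := d28_2 (iv F4387) D1389 (iv D1023)
theorem F5838 : act 8 n1389 = n1389 := d29_2 F4388 D1389 (iv D1389)
def n1390 : Q := act 3 n1020
theorem D1390 : act 3 n1020 = n1390 := rfl
theorem F5839 : act 0 n1390 = n1390 := d2_1 D1390 (iv D1390) F4389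
theorem F5840 : act 2 n1390 = n1390 := d15_1 D1390 (iv D1390) F4390 F3322 (iv F4390)
theorem F5841 : act 6 n1390 = n1390 := d23_2 F4391 D1390 (iv D1390)
theorem F5842 : act 8 n1390 = n1390 := d25_2 F4393 D1390 (iv D1390)
def n1391 : Q := act 5 n1020
theorem D1391 : act 5 n1020 = n1391 := rfl
theorem F5843 : act 0 n1391 = n1391 := d4_1 D1391 (iv D1391) F4389
theorem F5844 : act 2 n1391 = n1021 := d17_1 D1391 (iv D1021) (iv F4390)
theorem F5845 : act 4 n1391 = n1391 := d26_1 D1391 (iv D1391) (iv D1020) F3317 D1020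
theorem F5846 : act 7 n1391 = n1025 := d31_2 (iv F4392) D1391 (iv D1025)
theorem F5847 : act 8 n1391 = n1391 := d32_2 F4393 D1391 (iv D1391)
def n1392 : Q := act 6 n1021
theorem D1392 : act 6 n1021 = n1392 := rfl
theorem F5848 : act 0 n1392 = n1392 := d5_1 D1392 (iv D1392) F4394
theorem F5849 : act 3 n1392 = n1392 := d23_1 D1392 (iv D1392) F4395
theorem F5850 : act 4 n1392 = n1392 := d27_1 D1392 (iv D1392) F4396
theorem F5851 : act 5 n1392 = n1392 := d30_1 D1392 (iv D1392) (iv D1021) F3323 D1021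
theorem F5852 : act 7 n1392 = n1026 := d33_2 (iv F4397) D1392 (iv D1026)
theorem F5853 : act 8 n1392 = n1392 := d34_2 F4398 D1392 (iv D1392)
def n1393 : Q := act 4 n1022
theorem D1393 : act 4 n1022 = n1393 := rfl
theorem F5854 : act 0 n1393 = n1023 := d3_1 D1393 (iv D1023) D1022
theorem F5855 : act 1 n1393 = n1393 := d10_1 D1393 (iv D1393) F4399
theorem F5856 : act 6 n1393 = n1393 := d27_2 F4402 D1393 (iv D1393)
theorem F5857 : act 8 n1393 = n1027 := d29_2 (iv F4403) D1393 (iv D1027)
def n1394 : Q := act 3 n1023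
theorem D1394 : act 3 n1023 = n1394 := rfl
theorem F5858 : act 1 n1394 = n1024 := d9_1 D1394 (iv D1024) (iv F4404)
theorem F5859 : act 4 n1394 = n1394 := d21_2 D1023 D1394 (iv D1394) (iv D1023) F3326
theorem F5860 : act 6 n1394 = n1394 := d23_2 F4405 D1394 (iv D1394)
theorem F5861 : act 8 n1394 = n1028 := d25_2 (iv F4406) D1394 (iv D1028)
def n1395 : Q := act 5 n1023
theorem D1395 : act 5 n1023 = n1395 := rfl
theorem F5862 : act 1 n1395 = n1025 := d11_1 D1395 (iv D1025) (iv F4404)
theorem F5863 : act 4 n1395 = n1395 := d26_1 D1395 (iv D1395) (iv D1023) F3327 D1023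
theorem F5864 : act 8 n1395 = n1029 := d32_2 (iv F4406) D1395 (iv D1029)
def n1396 : Q := act 5 n1024
theorem D1396 : act 5 n1024 = n1396 := rfl
theorem F5865 : act 0 n1396 = n1396 := d4_1 D1396 (iv D1396) F4407
theorem F5866 : act 2 n1396 = n1036 := d17_1 D1396 (iv D1036) (iv F4408)
theorem F5867 : act 3 n1396 = n1025 := d22_1 D1396 (iv D1025) D1024
theorem F5868 : act 8 n1396 = n1030 := d32_2 (iv F4411) D1396 (iv D1030)
def n1397 : Q := act 7 n1024
theorem D1397 : act 7 n1024 = n1397 := rfl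
theorem F5869 : act 0 n1397 = n1397 := d6_1 D1397 (iv D1397) F4407
theorem F5870 : act 2 n1397 = n1037 := d19_1 D1397 (iv D1037) (iv F4408)
theorem F5871 : act 4 n1397 = n1397 := d28_1 D1397 (iv D1397) F4409
theorem F5872 : act 6 n1397 = n1397 := d33_1 D1397 (iv D1397) F4410
def n1398 : Q := act 6 n1025
theorem D1398 : act 6 n1025 = n1398 := rfl
theorem F5873 : act 0 n1398 = n1398 := d5_1 D1398 (iv D1398) F4412
theorem F5874 : act 2 n1398 = n1026 := d18_1 D1398 (iv D1026) (iv F4413)
theorem F5875 : act 4 n1398 = n1398 := d27_1 D1398 (iv D1398) F4414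
theorem F5876 : act 5 n1398 = n1398 := d30_1 D1398 (iv D1398) (iv D1025) F3332 D1025
theorem F5877 : act 8 n1398 = n1032 := d34_2 (iv F4415) D1398 (iv D1032)
def n1399 : Q := act 3 n1027
theorem D1399 : act 3 n1027 = n1399 := rfl
theorem F5878 : act 0 n1399 = n1028 := d2_1 D1399 (iv D1028) (iv F4421)
theorem F5879 : act 1 n1399 = n1399 := d9_1 D1399 (iv D1399) F4422
theorem F5880 : act 4 n1399 = n1399 := d21_2 D1027 D1399 (iv D1399) (iv D1027) F3339
theorem F5881 : act 6 n1399 = n1399 := d23_2 F4423 D1399 (iv D1399)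
def n1400 : Q := act 5 n1027
theorem D1400 : act 5 n1027 = n1400 := rfl
theorem F5882 : act 0 n1400 = n1029 := d4_1 D1400 (iv D1029) (iv F4421)
theorem F5883 : act 1 n1400 = n1400 := d11_1 D1400 (iv D1400) F4422
theorem F5884 : act 4 n1400 = n1400 := d26_1 D1400 (iv D1400) (iv D1027) F3340 D1027
theorem F5885 : act 7 n1400 = n1400 := d31_2 F4424 D1400 (iv D1400)
def n1401 : Q := act 2 n1028
theorem D1401 : act 2 n1028 = n1401 := rfl
theorem F5886 : act 1 n1401 = n1041 := d8_1 D1401 (iv D1041) F3387 (iv F3347) (iv F4425)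
theorem F5887 : act 4 n1401 = n1401 := d16_2 F4426 D1401 (iv D1401)
theorem F5888 : act 6 n1401 = n1401 := d18_2 F4427 D1401 (iv D1401)
def n1402 : Q := act 5 n1028
theorem D1402 : act 5 n1028 = n1402 := rfl
theorem F5889 : act 1 n1402 = n1030 := d11_1 D1402 (iv D1030) (iv F4425)
theorem F5890 : act 3 n1402 = n1029 := d22_1 D1402 (iv D1029) D1028
def n1403 : Q := act 7 n1028
theorem D1403 : act 7 n1028 = n1403 := rfl
theorem F5891 : act 1 n1403 = n1031 := d13_1 D1403 (iv D1031) (iv F4425)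
theorem F5892 : act 3 n1403 = n1403 := d24_1 D1403 (iv D1403) (iv D1028) F3345 D1028
theorem F5893 : act 4 n1403 = n1403 := d28_1 D1403 (iv D1403) F4426
theorem F5894 : act 6 n1403 = n1403 := d33_1 D1403 (iv D1403) F4427
def n1404 : Q := act 6 n1029
theorem D1404 : act 6 n1029 = n1404 := rfl
theorem F5895 : act 1 n1404 = n1032 := d12_1 D1404 (iv D1032) (iv F4428)
theorem F5896 : act 4 n1404 = n1404 := d27_1 D1404 (iv D1404) F4429
theorem F5897 : act 5 n1404 = n1404 := d30_1 D1404 (iv D1404) (iv D1029) F3344 D1029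
theorem F5898 : act 7 n1404 = n1404 := d33_2 F4430 D1404 (iv D1404)
def n1405 : Q := act 4 n1030
theorem D1405 : act 4 n1030 = n1405 := rfl
theorem F5899 : act 0 n1405 = n1405 := d3_1 D1405 (iv D1405) F4431
theorem F5900 : act 2 n1405 = n1045 := d16_1 D1405 (iv D1045) (iv F4432)
theorem F5901 : act 3 n1405 = n1405 := d21_1 D1405 (iv D1405) F4433 F3352 (iv F4433)
theorem F5902 : act 5 n1405 = n1405 := d26_2 D1030 D1405 (iv D1405) (iv D1030) F3348
def n1406 : Q := act 6 n1030
theorem D1406 : act 6 n1030 = n1406 := rfl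
theorem F5903 : act 0 n1406 = n1406 := d5_1 D1406 (iv D1406) F4431
theorem F5904 : act 2 n1406 = n1046 := d18_1 D1406 (iv D1046) (iv F4432)
theorem F5905 : act 3 n1406 = n1032 := d23_1 D1406 (iv D1032) (iv F4433)
theorem F5906 : act 5 n1406 = n1406 := d30_1 D1406 (iv D1406) (iv D1030) F3349 D1030
def n1407 : Q := act 7 n1030
theorem D1407 : act 7 n1030 = n1407 := rfl
theorem F5907 : act 0 n1407 = n1407 := d6_1 D1407 (iv D1407) F4431
theorem F5908 : act 2 n1407 = n1047 := d19_1 D1407 (iv D1047) (iv F4432)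
theorem F5909 : act 3 n1407 = n1407 := d24_1 D1407 (iv D1407) F4433 F3353 (iv F4433)
theorem F5910 : act 5 n1407 = n1031 := d31_1 D1407 (iv D1031) D1030
def n1408 : Q := act 8 n1031
theorem D1408 : act 8 n1031 = n1408 := rfl
theorem F5911 : act 0 n1408 = n1408 := d7_1 D1408 (iv D1408) F4434
theorem F5912 : act 2 n1408 = n1048 := d20_1 D1408 (iv D1048) (iv F4435)
theorem F5913 : act 3 n1408 = n1408 := d25_1 D1408 (iv D1408) F4436
theorem F5914 : act 4 n1408 = n1408 := d29_1 D1408 (iv D1408) F4437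
theorem F5915 : act 6 n1408 = n1408 := d34_1 D1408 (iv D1408) F4438
def n1409 : Q := act 3 n1033
theorem D1409 : act 3 n1033 = n1409 := rfl
theorem F5916 : act 0 n1409 = n1034 := d2_1 D1409 (iv D1034) (iv F4444)
theorem F5917 : act 1 n1409 = n1409 := d9_1 D1409 (iv D1409) F4445
theorem F5918 : act 4 n1409 = n1409 := d21_2 D1033 D1409 (iv D1409) (iv D1033) F3360
theorem F5919 : act 6 n1409 = n1409 := d23_2 F4446 D1409 (iv D1409)
theorem F5920 : act 8 n1409 = n1039 := d25_2 (iv F4448) D1409 (iv D1039)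
def n1410 : Q := act 5 n1033
theorem D1410 : act 5 n1033 = n1410 := rfl
theorem F5921 : act 0 n1410 = n1035 := d4_1 D1410 (iv D1035) (iv F4444)
theorem F5922 : act 1 n1410 = n1410 := d11_1 D1410 (iv D1410) F4445
theorem F5923 : act 4 n1410 = n1050 := d26_1 D1410 (iv D1050) (iv D772) (iv F3361) D1033
theorem F5924 : act 7 n1410 = n1410 := d31_2 F4447 D1410 (iv D1410)
theorem F5925 : act 8 n1410 = n1040 := d32_2 (iv F4448) D1410 (iv D1040)
def n1411 : Q := act 2 n1034
theorem D1411 : act 2 n1034 = n1411 := rfl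
theorem F5926 : act 4 n1411 = n1411 := d16_2 F4450 D1411 (iv D1411)
theorem F5927 : act 6 n1411 = n1411 := d18_2 F4451 D1411 (iv D1411)
theorem F5928 : act 8 n1411 = n1041 := d20_2 (iv F4452) D1411 (iv D1041)
def n1412 : Q := act 5 n1034
theorem D1412 : act 5 n1034 = n1412 := rfl
theorem F5929 : act 1 n1412 = n1036 := d11_1 D1412 (iv D1036) (iv F4449)
theorem F5930 : act 3 n1412 = n1035 := d22_1 D1412 (iv D1035) D1034
theorem F5931 : act 8 n1412 = n1042 := d32_2 (iv F4452) D1412 (iv D1042)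
def n1413 : Q := act 7 n1034
theorem D1413 : act 7 n1034 = n1413 := rfl
theorem F5932 : act 1 n1413 = n1037 := d13_1 D1413 (iv D1037) (iv F4449)
theorem F5933 : act 3 n1413 = n1413 := d24_1 D1413 (iv D1413) (iv D1034) F3367 D1034
theorem F5934 : act 4 n1413 = n1413 := d28_1 D1413 (iv D1413) F4450
theorem F5935 : act 6 n1413 = n1413 := d33_1 D1413 (iv D1413) F4451
def n1414 : Q := act 6 n1035
theorem D1414 : act 6 n1035 = n1414 := rfl
theorem F5936 : act 1 n1414 = n1038 := d12_1 D1414 (iv D1038) (iv F4453)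
theorem F5937 : act 4 n1414 = n1054 := d27_1 D1414 (iv D1054) (iv F4454)
theorem F5938 : act 5 n1414 = n1414 := d30_1 D1414 (iv D1414) (iv D1035) F3366 D1035
theorem F5939 : act 7 n1414 = n1414 := d33_2 F4455 D1414 (iv D1414)
theorem F5940 : act 8 n1414 = n1044 := d34_2 (iv F4456) D1414 (iv D1044)
def n1415 : Q := act 4 n1036
theorem D1415 : act 4 n1036 = n1415 := rfl
theorem F5941 : act 0 n1415 = n1415 := d3_1 D1415 (iv D1415) F4457
theorem F5942 : act 3 n1415 = n1055 := d21_1 D1415 (iv D1055) F3418 (iv F3375) (iv F4458)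
theorem F5943 : act 5 n1415 = n1415 := d26_2 D1036 D1415 (iv D1415) (iv D1036) F3370
theorem F5944 : act 8 n1415 = n1045 := d29_2 (iv F4459) D1415 (iv D1045)
def n1416 : Q := act 6 n1036
theorem D1416 : act 6 n1036 = n1416 := rfl
theorem F5945 : act 0 n1416 = n1416 := d5_1 D1416 (iv D1416) F4457
theorem F5946 : act 3 n1416 = n1038 := d23_1 D1416 (iv D1038) (iv F4458)
theorem F5947 : act 5 n1416 = n1416 := d30_1 D1416 (iv D1416) (iv D1036) F3371 D1036
theorem F5948 : act 8 n1416 = n1046 := d34_2 (iv F4459) D1416 (iv D1046)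
def n1417 : Q := act 7 n1036
theorem D1417 : act 7 n1036 = n1417 := rfl
theorem F5949 : act 0 n1417 = n1417 := d6_1 D1417 (iv D1417) F4457
theorem F5950 : act 3 n1417 = n1417 := d24_1 D1417 (iv D1417) F4458 F3376 (iv F4458)
theorem F5951 : act 5 n1417 = n1037 := d31_1 D1417 (iv D1037) D1036
def n1418 : Q := act 8 n1037
theorem D1418 : act 8 n1037 = n1418 := rfl
theorem F5952 : act 0 n1418 = n1418 := d7_1 D1418 (iv D1418) F4460
theorem F5953 : act 3 n1418 = n1418 := d25_1 D1418 (iv D1418) F4461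
theorem F5954 : act 4 n1418 = n1418 := d29_1 D1418 (iv D1418) F4462
theorem F5955 : act 6 n1418 = n1418 := d34_1 D1418 (iv D1418) F4463
theorem F5956 : act 7 n1418 = n1048 := d35_1 D1418 (iv D1048) (iv D770) (iv F3372) D1037
def n1419 : Q := act 2 n1039
theorem D1419 : act 2 n1039 = n1419 := rfl
theorem F5957 : act 0 n1419 = n1041 := d1_1 D1419 (iv D1041) (iv F4470)
theorem F5958 : act 4 n1419 = n1419 := d16_2 F4472 D1419 (iv D1419)
theorem F5959 : act 6 n1419 = n1419 := d18_2 F4473 D1419 (iv D1419)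
def n1420 : Q := act 5 n1039
theorem D1420 : act 5 n1039 = n1420 := rfl
theorem F5960 : act 0 n1420 = n1042 := d4_1 D1420 (iv D1042) (iv F4470)
theorem F5961 : act 1 n1420 = n1420 := d11_1 D1420 (iv D1420) F4471
theorem F5962 : act 3 n1420 = n1040 := d22_1 D1420 (iv D1040) D1039
def n1421 : Q := act 7 n1039
theorem D1421 : act 7 n1039 = n1421 := rfl
theorem F5963 : act 0 n1421 = n1043 := d6_1 D1421 (iv D1043) (iv F4470)
theorem F5964 : act 1 n1421 = n1421 := d13_1 D1421 (iv D1421) F4471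
theorem F5965 : act 3 n1421 = n1067 := d24_1 D1421 (iv D1067) (iv D785) (iv F3386) D1039
theorem F5966 : act 4 n1421 = n1421 := d28_1 D1421 (iv D1421) F4472
theorem F5967 : act 6 n1421 = n1421 := d33_1 D1421 (iv D1421) F4473
def n1422 : Q := act 6 n1040
theorem D1422 : act 6 n1040 = n1422 := rfl
theorem F5968 : act 0 n1422 = n1044 := d5_1 D1422 (iv D1044) (iv F4474)
theorem F5969 : act 1 n1422 = n1422 := d12_1 D1422 (iv D1422) F4475
theorem F5970 : act 4 n1422 = n1060 := d27_1 D1422 (iv D1060) (iv F4476)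
theorem F5971 : act 5 n1422 = n1422 := d30_1 D1422 (iv D1422) (iv D1040) F3385 D1040
theorem F5972 : act 7 n1422 = n1068 := d33_2 (iv F4477) D1422 (iv D1068)
def n1423 : Q := act 5 n1041
theorem D1423 : act 5 n1041 = n1423 := rfl
theorem F5973 : act 2 n1423 = n1042 := d17_1 D1423 (iv D1042) D1041
def n1424 : Q := act 7 n1041
theorem D1424 : act 7 n1041 = n1424 := rfl
theorem F5974 : act 2 n1424 = n1043 := d19_1 D1424 (iv D1043) D1041
theorem F5975 : act 4 n1424 = n1424 := d28_1 D1424 (iv D1424) F4478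
theorem F5976 : act 6 n1424 = n1424 := d33_1 D1424 (iv D1424) F4479
def n1425 : Q := act 4 n1042
theorem D1425 : act 4 n1042 = n1425 := rfl
theorem F5977 : act 1 n1425 = n1045 := d10_1 D1425 (iv D1045) (iv F4480)
theorem F5978 : act 3 n1425 = n1062 := d21_1 D1425 (iv D1062) F3444 (iv F3391) (iv F4481)
theorem F5979 : act 5 n1425 = n1425 := d26_2 D1042 D1425 (iv D1425) (iv D1042) F3388
def n1426 : Q := act 6 n1042
theorem D1426 : act 6 n1042 = n1426 := rfl
theorem F5980 : act 1 n1426 = n1046 := d12_1 D1426 (iv D1046) (iv F4480)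
theorem F5981 : act 3 n1426 = n1044 := d23_1 D1426 (iv D1044) (iv F4481)
theorem F5982 : act 5 n1426 = n1426 := d30_1 D1426 (iv D1426) (iv D1042) F3389 D1042
def n1427 : Q := act 7 n1042
theorem D1427 : act 7 n1042 = n1427 := rfl
theorem F5983 : act 1 n1427 = n1047 := d13_1 D1427 (iv D1047) (iv F4480)
theorem F5984 : act 3 n1427 = n1072 := d24_1 D1427 (iv D1072) F3472 (iv F3392) (iv F4481)
theorem F5985 : act 5 n1427 = n1043 := d31_1 D1427 (iv D1043) D1042
def n1428 : Q := act 8 n1043
theorem D1428 : act 8 n1043 = n1428 := rfl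
theorem F5986 : act 1 n1428 = n1048 := d14_1 D1428 (iv D1048) (iv F4482)
theorem F5987 : act 3 n1428 = n1073 := d25_1 D1428 (iv D1073) (iv F4483)
theorem F5988 : act 4 n1428 = n1428 := d29_1 D1428 (iv D1428) F4484
theorem F5989 : act 6 n1428 = n1428 := d34_1 D1428 (iv D1428) F4485
def n1429 : Q := act 6 n1045
theorem D1429 : act 6 n1045 = n1429 := rfl
theorem F5990 : act 0 n1429 = n1429 := d5_1 D1429 (iv D1429) F4490
theorem F5991 : act 3 n1429 = n1064 := d23_1 D1429 (iv D1064) (iv F4491)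
theorem F5992 : act 4 n1429 = n1046 := d27_1 D1429 (iv D1046) D1045
def n1430 : Q := act 7 n1045
theorem D1430 : act 7 n1045 = n1430 := rfl
theorem F5993 : act 0 n1430 = n1430 := d6_1 D1430 (iv D1430) F4490
theorem F5994 : act 3 n1430 = n1430 := d24_1 D1430 (iv D1430) F4491 F3452 (iv F4491)
theorem F5995 : act 4 n1430 = n1047 := d28_1 D1430 (iv D1047) D1045
theorem F5996 : act 5 n1430 = n1430 := d31_1 D1430 (iv D1430) F4492
def n1431 : Q := act 7 n1046
theorem D1431 : act 7 n1046 = n1431 := rfl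
theorem F5997 : act 0 n1431 = n1431 := d6_1 D1431 (iv D1431) F4493
theorem F5998 : act 3 n1431 = n1074 := d24_1 D1431 (iv D1074) F3484 (iv F3403) (iv F4494)
theorem F5999 : act 5 n1431 = n1431 := d31_1 D1431 (iv D1431) F4495
theorem F6000 : act 6 n1431 = n1047 := d33_1 D1431 (iv D1047) D1046
def n1432 : Q := act 8 n1047
theorem D1432 : act 8 n1047 = n1432 := rfl
theorem F6001 : act 0 n1432 = n1432 := d7_1 D1432 (iv D1432) F4496
theorem F6002 : act 3 n1432 = n1075 := d25_1 D1432 (iv D1075) (iv F4497)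
theorem F6003 : act 5 n1432 = n1048 := d32_1 D1432 (iv D1048) (iv F4498)
def n1433 : Q := act 2 n1049
theorem D1433 : act 2 n1049 = n1433 := rfl
theorem F6004 : act 0 n1433 = n1051 := d1_1 D1433 (iv D1051) (iv F4503)
theorem F6005 : act 4 n1433 = n1433 := d16_2 F4505 D1433 (iv D1433)
theorem F6006 : act 6 n1433 = n1171 := d18_2 (iv F4506) D1433 (iv D1171)
theorem F6007 : act 8 n1433 = n1058 := d20_2 (iv F4507) D1433 (iv D1058)
def n1434 : Q := act 5 n1049
theorem D1434 : act 5 n1049 = n1434 := rfl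
theorem F6008 : act 0 n1434 = n1052 := d4_1 D1434 (iv D1052) (iv F4503)
theorem F6009 : act 1 n1434 = n1434 := d11_1 D1434 (iv D1434) F4504
theorem F6010 : act 3 n1434 = n1050 := d22_1 D1434 (iv D1050) D1049
theorem F6011 : act 8 n1434 = n1059 := d32_2 (iv F4507) D1434 (iv D1059)
def n1435 : Q := act 7 n1049
theorem D1435 : act 7 n1049 = n1435 := rfl
theorem F6012 : act 0 n1435 = n1053 := d6_1 D1435 (iv D1053) (iv F4503)
theorem F6013 : act 1 n1435 = n1435 := d13_1 D1435 (iv D1435) F4504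
theorem F6014 : act 3 n1435 = n1435 := d24_1 D1435 (iv D1435) (iv D1049) F3407 D1049
theorem F6015 : act 4 n1435 = n1435 := d28_1 D1435 (iv D1435) F4505
theorem F6016 : act 6 n1435 = n1173 := d33_1 D1435 (iv D1173) (iv F4506)
theorem F6017 : act 8 n1435 = n1435 := d35_2 (iv F4507) D1435 (iv D1435) F4507 F3435
def n1436 : Q := act 6 n1050
theorem D1436 : act 6 n1050 = n1436 := rfl
theorem F6018 : act 0 n1436 = n1054 := d5_1 D1436 (iv D1054) (iv F4508)
theorem F6019 : act 1 n1436 = n1436 := d12_1 D1436 (iv D1436) F4509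
theorem F6020 : act 5 n1436 = n1174 := d30_1 D1436 (iv D1174) (iv D864) (iv F3406) D1050
theorem F6021 : act 7 n1436 = n1436 := d33_2 F4510 D1436 (iv D1436)
theorem F6022 : act 8 n1436 = n1060 := d34_2 (iv F4511) D1436 (iv D1060)
def n1437 : Q := act 5 n1051
theorem D1437 : act 5 n1051 = n1437 := rfl
theorem F6023 : act 1 n1437 = n1437 := d11_1 D1437 (iv D1437) F4512
theorem F6024 : act 2 n1437 = n1052 := d17_1 D1437 (iv D1052) D1051
theorem F6025 : act 8 n1437 = n1061 := d32_2 (iv F4515) D1437 (iv D1061)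
def n1438 : Q := act 7 n1051
theorem D1438 : act 7 n1051 = n1438 := rfl
theorem F6026 : act 1 n1438 = n1438 := d13_1 D1438 (iv D1438) F4512
theorem F6027 : act 2 n1438 = n1053 := d19_1 D1438 (iv D1053) D1051
theorem F6028 : act 4 n1438 = n1438 := d28_1 D1438 (iv D1438) F4513
theorem F6029 : act 6 n1438 = n1176 := d33_1 D1438 (iv D1176) (iv F4514)
theorem F6030 : act 8 n1438 = n1438 := d35_2 (iv F4515) D1438 (iv D1438) F4515 F3442
def n1439 : Q := act 4 n1052
theorem D1439 : act 4 n1052 = n1439 := rfl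
theorem F6031 : act 1 n1439 = n1055 := d10_1 D1439 (iv D1055) (iv F4516)
theorem F6032 : act 5 n1439 = n1439 := d26_2 D1052 D1439 (iv D1439) (iv D1052) F3410
theorem F6033 : act 8 n1439 = n1062 := d29_2 (iv F4518) D1439 (iv D1062)
def n1440 : Q := act 6 n1052
theorem D1440 : act 6 n1052 = n1440 := rfl
theorem F6034 : act 1 n1440 = n1056 := d12_1 D1440 (iv D1056) (iv F4516)
theorem F6035 : act 3 n1440 = n1054 := d23_1 D1440 (iv D1054) (iv F4517)
theorem F6036 : act 5 n1440 = n1178 := d30_1 D1440 (iv D1178) (iv D866) (iv F3411) D1052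
theorem F6037 : act 8 n1440 = n1063 := d34_2 (iv F4518) D1440 (iv D1063)
def n1441 : Q := act 7 n1052
theorem D1441 : act 7 n1052 = n1441 := rfl
theorem F6038 : act 1 n1441 = n1057 := d13_1 D1441 (iv D1057) (iv F4516)
theorem F6039 : act 3 n1441 = n1441 := d24_1 D1441 (iv D1441) F4517 F3414 (iv F4517)
theorem F6040 : act 5 n1441 = n1053 := d31_1 D1441 (iv D1053) D1052
theorem F6041 : act 8 n1441 = n1441 := d35_2 (iv F4518) D1441 (iv D1441) F4518 F3445
def n1442 : Q := act 6 n1055
theorem D1442 : act 6 n1055 = n1442 := rfl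
theorem F6042 : act 0 n1442 = n1442 := d5_1 D1442 (iv D1442) F4528
theorem F6043 : act 2 n1442 = n1442 := d18_1 D1442 (iv D1442) F4529
theorem F6044 : act 4 n1442 = n1056 := d27_1 D1442 (iv D1056) D1055
theorem F6045 : act 8 n1442 = n1064 := d34_2 (iv F4531) D1442 (iv D1064)
def n1443 : Q := act 7 n1055
theorem D1443 : act 7 n1055 = n1443 := rfl
theorem F6046 : act 0 n1443 = n1443 := d6_1 D1443 (iv D1443) F4528
theorem F6047 : act 2 n1443 = n1443 := d19_1 D1443 (iv D1443) F4529
theorem F6048 : act 4 n1443 = n1057 := d28_1 D1443 (iv D1057) D1055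
theorem F6049 : act 5 n1443 = n1443 := d31_1 D1443 (iv D1443) F4530
theorem F6050 : act 8 n1443 = n1443 := d35_2 (iv F4531) D1443 (iv D1443) F4531 F3452
def n1444 : Q := act 7 n1056
theorem D1444 : act 7 n1056 = n1444 := rfl
theorem F6051 : act 0 n1444 = n1444 := d6_1 D1444 (iv D1444) F4532
theorem F6052 : act 2 n1444 = n1444 := d19_1 D1444 (iv D1444) F4533
theorem F6053 : act 3 n1444 = n1444 := d24_1 D1444 (iv D1444) F4534 F3429 (iv F4534)
theorem F6054 : act 5 n1444 = n1182 := d31_1 D1444 (iv D1182) (iv F4535)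
theorem F6055 : act 6 n1444 = n1057 := d33_1 D1444 (iv D1057) D1056
theorem F6056 : act 8 n1444 = n1444 := d35_2 (iv F4536) D1444 (iv D1444) F4536 F3457
def n1445 : Q := act 1 n1058
theorem D1445 : act 1 n1058 = n1445 := rfl
theorem F6057 : act 0 n1445 = n1445 := d0_1 D1445 (iv D1445) F4542 F3439 (iv F4542)
theorem F6058 : act 2 n1445 = n1445 := d8_2 D1058 D1445 (iv D1445) (iv D1058) F3432
theorem F6059 : act 4 n1445 = n1445 := d10_2 F4543 D1445 (iv D1445)
theorem F6060 : act 6 n1445 = n1183 := d12_2 (iv F4544) D1445 (iv D1183)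
theorem F6061 : act 7 n1445 = n1445 := d13_2 F4545 D1445 (iv D1445)
def n1446 : Q := act 5 n1058
theorem D1446 : act 5 n1058 = n1446 := rfl
theorem F6062 : act 0 n1446 = n1061 := d4_1 D1446 (iv D1061) (iv F4542)
theorem F6063 : act 2 n1446 = n1059 := d17_1 D1446 (iv D1059) D1058
theorem F6064 : act 7 n1446 = n1446 := d31_2 F4545 D1446 (iv D1446)
def n1447 : Q := act 4 n1059
theorem D1447 : act 4 n1059 = n1447 := rfl
theorem F6065 : act 0 n1447 = n1062 := d3_1 D1447 (iv D1062) (iv F4546)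
theorem F6066 : act 1 n1447 = n1447 := d10_1 D1447 (iv D1447) F4547
theorem F6067 : act 5 n1447 = n1447 := d26_2 D1059 D1447 (iv D1447) (iv D1059) F3433
theorem F6068 : act 7 n1447 = n1447 := d28_2 F4549 D1447 (iv D1447)
def n1448 : Q := act 6 n1059
theorem D1448 : act 6 n1059 = n1448 := rfl
theorem F6069 : act 0 n1448 = n1063 := d5_1 D1448 (iv D1063) (iv F4546)
theorem F6070 : act 1 n1448 = n1448 := d12_1 D1448 (iv D1448) F4547
theorem F6071 : act 3 n1448 = n1060 := d23_1 D1448 (iv D1060) (iv F4548)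
theorem F6072 : act 5 n1448 = n1186 := d30_1 D1448 (iv D1186) (iv D873) (iv F3434) D1059
theorem F6073 : act 7 n1448 = n1448 := d33_2 F4549 D1448 (iv D1448)
def n1449 : Q := act 4 n1061
theorem D1449 : act 4 n1061 = n1449 := rfl
theorem F6074 : act 1 n1449 = n1449 := d10_1 D1449 (iv D1449) F4554
theorem F6075 : act 2 n1449 = n1062 := d16_1 D1449 (iv D1062) (iv F4555)
theorem F6076 : act 5 n1449 = n1449 := d26_2 D1061 D1449 (iv D1449) (iv D1061) F3440
theorem F6077 : act 7 n1449 = n1449 := d28_2 F4556 D1449 (iv D1449)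
def n1450 : Q := act 6 n1061
theorem D1450 : act 6 n1061 = n1450 := rfl
theorem F6078 : act 1 n1450 = n1450 := d12_1 D1450 (iv D1450) F4554
theorem F6079 : act 2 n1450 = n1063 := d18_1 D1450 (iv D1063) (iv F4555)
theorem F6080 : act 5 n1450 = n1188 := d30_1 D1450 (iv D1188) (iv D875) (iv F3441) D1061
theorem F6081 : act 7 n1450 = n1450 := d33_2 F4556 D1450 (iv D1450)
def n1451 : Q := act 6 n1062
theorem D1451 : act 6 n1062 = n1451 := rfl
theorem F6082 : act 1 n1451 = n1064 := d12_1 D1451 (iv D1064) (iv F4557)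
theorem F6083 : act 4 n1451 = n1063 := d27_1 D1451 (iv D1063) D1062
theorem F6084 : act 7 n1451 = n1451 := d33_2 F4559 D1451 (iv D1451)
def n1452 : Q := act 5 n1064
theorem D1452 : act 5 n1064 = n1452 := rfl
theorem F6085 : act 0 n1452 = n1452 := d4_1 D1452 (iv D1452) F4564
theorem F6086 : act 2 n1452 = n1452 := d17_1 D1452 (iv D1452) F4565
theorem F6087 : act 4 n1452 = n1190 := d26_1 D1452 (iv D1190) F3808 (iv F3456) (iv F4566)
theorem F6088 : act 6 n1452 = n1452 := d30_2 D1064 D1452 (iv D1452) (iv D1064) F3451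
theorem F6089 : act 7 n1452 = n1452 := d31_2 F4567 D1452 (iv D1452)
def n1453 : Q := act 1 n1065
theorem D1453 : act 1 n1065 = n1453 := rfl
theorem F6090 : act 0 n1453 = n1453 := d0_1 D1453 (iv D1453) F4568 F3467 (iv F4568)
theorem F6091 : act 2 n1453 = n1453 := d8_2 D1065 D1453 (iv D1453) (iv D1065) F3459
theorem F6092 : act 4 n1453 = n1076 := d10_2 (iv F4569) D1453 (iv D1076)
theorem F6093 : act 6 n1453 = n1453 := d12_2 F4570 D1453 (iv D1453)
theorem F6094 : act 8 n1453 = n1453 := d14_2 F4571 D1453 (iv D1453)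
def n1454 : Q := act 5 n1065
theorem D1454 : act 5 n1065 = n1454 := rfl
theorem F6095 : act 0 n1454 = n1069 := d4_1 D1454 (iv D1069) (iv F4568)
theorem F6096 : act 2 n1454 = n1066 := d17_1 D1454 (iv D1066) D1065
theorem F6097 : act 4 n1454 = n1454 := d26_1 D1454 (iv D1454) F4569 F3504 (iv F4569)
theorem F6098 : act 8 n1454 = n1454 := d32_2 F4571 D1454 (iv D1454)
def n1455 : Q := act 7 n1065
theorem D1455 : act 7 n1065 = n1455 := rfl
theorem F6099 : act 0 n1455 = n1070 := d6_1 D1455 (iv D1070) (iv F4568)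
theorem F6100 : act 2 n1455 = n1067 := d19_1 D1455 (iv D1067) D1065
theorem F6101 : act 4 n1455 = n1077 := d28_1 D1455 (iv D1077) (iv F4569)
theorem F6102 : act 6 n1455 = n1455 := d33_1 D1455 (iv D1455) F4570
def n1456 : Q := act 6 n1066
theorem D1456 : act 6 n1066 = n1456 := rfl
theorem F6103 : act 0 n1456 = n1071 := d5_1 D1456 (iv D1071) (iv F4572)
theorem F6104 : act 1 n1456 = n1456 := d12_1 D1456 (iv D1456) F4573
theorem F6105 : act 3 n1456 = n1068 := d23_1 D1456 (iv D1068) (iv F4574)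
theorem F6106 : act 4 n1456 = n1456 := d27_1 D1456 (iv D1456) F4575
theorem F6107 : act 5 n1456 = n1456 := d30_1 D1456 (iv D1456) (iv D1066) F3461 D1066
theorem F6108 : act 8 n1456 = n1456 := d34_2 F4576 D1456 (iv D1456)
def n1457 : Q := act 7 n1066
theorem D1457 : act 7 n1066 = n1457 := rfl
theorem F6109 : act 0 n1457 = n1072 := d6_1 D1457 (iv D1072) (iv F4572)
theorem F6110 : act 1 n1457 = n1457 := d13_1 D1457 (iv D1457) F4573
theorem F6111 : act 4 n1457 = n1457 := d28_1 D1457 (iv D1457) F4575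
theorem F6112 : act 5 n1457 = n1067 := d31_1 D1457 (iv D1067) D1066
def n1458 : Q := act 8 n1067
theorem D1458 : act 8 n1067 = n1458 := rfl
theorem F6113 : act 0 n1458 = n1073 := d7_1 D1458 (iv D1073) (iv F4577)
theorem F6114 : act 1 n1458 = n1458 := d14_1 D1458 (iv D1458) F4578
theorem F6115 : act 4 n1458 = n1078 := d29_1 D1458 (iv D1078) (iv F4579)
theorem F6116 : act 6 n1458 = n1458 := d34_1 D1458 (iv D1458) F4580
theorem F6117 : act 7 n1458 = n1458 := d35_1 D1458 (iv D1458) (iv D1067) F3462 D1067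
def n1459 : Q := act 6 n1069
theorem D1459 : act 6 n1069 = n1459 := rfl
theorem F6118 : act 1 n1459 = n1459 := d12_1 D1459 (iv D1459) F4586
theorem F6119 : act 2 n1459 = n1071 := d18_1 D1459 (iv D1071) (iv F4587)
theorem F6120 : act 4 n1459 = n1459 := d27_1 D1459 (iv D1459) F4588
theorem F6121 : act 5 n1459 = n1459 := d30_1 D1459 (iv D1459) (iv D1069) F3469 D1069
theorem F6122 : act 8 n1459 = n1459 := d34_2 F4589 D1459 (iv D1459)
def n1460 : Q := act 7 n1069
theorem D1460 : act 7 n1069 = n1460 := rfl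
theorem F6123 : act 1 n1460 = n1460 := d13_1 D1460 (iv D1460) F4586
theorem F6124 : act 2 n1460 = n1072 := d19_1 D1460 (iv D1072) (iv F4587)
theorem F6125 : act 4 n1460 = n1460 := d28_1 D1460 (iv D1460) F4588
theorem F6126 : act 5 n1460 = n1070 := d31_1 D1460 (iv D1070) D1069
def n1461 : Q := act 3 n1070
theorem D1461 : act 3 n1070 = n1461 := rfl
theorem F6127 : act 1 n1461 = n1461 := d9_1 D1461 (iv D1461) F4590
theorem F6128 : act 6 n1461 = n1461 := d23_2 F4593 D1461 (iv D1461)
def n1462 : Q := act 8 n1070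
theorem D1462 : act 8 n1070 = n1462 := rfl
theorem F6129 : act 1 n1462 = n1462 := d14_1 D1462 (iv D1462) F4590
theorem F6130 : act 2 n1462 = n1073 := d20_1 D1462 (iv D1073) (iv F4591)
theorem F6131 : act 4 n1462 = n1080 := d29_1 D1462 (iv D1080) (iv F4592)
theorem F6132 : act 6 n1462 = n1462 := d34_1 D1462 (iv D1462) F4593
theorem F6133 : act 7 n1462 = n1462 := d35_1 D1462 (iv D1462) (iv D1070) F3470 D1070
def n1463 : Q := act 7 n1071
theorem D1463 : act 7 n1071 = n1463 := rfl
theorem F6134 : act 1 n1463 = n1074 := d13_1 D1463 (iv D1074) (iv F4594)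
theorem F6135 : act 4 n1463 = n1463 := d28_1 D1463 (iv D1463) F4596
theorem F6136 : act 5 n1463 = n1463 := d31_1 D1463 (iv D1463) F4597
theorem F6137 : act 6 n1463 = n1072 := d33_1 D1463 (iv D1072) D1071
def n1464 : Q := act 8 n1072
theorem D1464 : act 8 n1072 = n1464 := rfl
theorem F6138 : act 1 n1464 = n1075 := d14_1 D1464 (iv D1075) (iv F4599)
theorem F6139 : act 4 n1464 = n1464 := d29_1 D1464 (iv D1464) F4600
theorem F6140 : act 5 n1464 = n1073 := d32_1 D1464 (iv D1073) (iv F4601)
theorem F6141 : act 7 n1464 = n1464 := d35_1 D1464 (iv D1464) (iv D1072) F3474 D1072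
def n1465 : Q := act 8 n1074
theorem D1465 : act 8 n1074 = n1465 := rfl
theorem F6142 : act 0 n1465 = n1465 := d7_1 D1465 (iv D1465) F4606
theorem F6143 : act 2 n1465 = n1465 := d20_1 D1465 (iv D1465) F4607
theorem F6144 : act 4 n1465 = n1465 := d29_1 D1465 (iv D1465) F4608
theorem F6145 : act 5 n1465 = n1465 := d32_1 D1465 (iv D1465) F4609
theorem F6146 : act 6 n1465 = n1075 := d34_1 D1465 (iv D1075) (iv F4610)
theorem F6147 : act 7 n1465 = n1465 := d35_1 D1465 (iv D1465) (iv D1074) F3487 D1074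
def n1466 : Q := act 7 n1076
theorem D1466 : act 7 n1076 = n1466 := rfl
theorem F6148 : act 0 n1466 = n1466 := d6_1 D1466 (iv D1466) F4616
theorem F6149 : act 1 n1466 = n1077 := d13_1 D1466 (iv D1077) D1076
theorem F6150 : act 2 n1466 = n1466 := d19_1 D1466 (iv D1466) F4617
theorem F6151 : act 5 n1466 = n1466 := d31_1 D1466 (iv D1466) F4619
theorem F6152 : act 6 n1466 = n1466 := d33_1 D1466 (iv D1466) F4620
def n1467 : Q := act 3 n1077
theorem D1467 : act 3 n1077 = n1467 := rfl
theorem F6153 : act 0 n1467 = n1079 := d2_1 D1467 (iv D1079) (iv F4622)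
theorem F6154 : act 2 n1467 = n1467 := d15_1 D1467 (iv D1467) F4623 F3509 (iv F4623)
theorem F6155 : act 5 n1467 = n1467 := d22_2 F4624 D1467 (iv D1467)
theorem F6156 : act 6 n1467 = n1467 := d23_2 F4625 D1467 (iv D1467)
theorem F6157 : act 7 n1467 = n1467 := d24_2 D1077 D1467 (iv D1467) (iv D1077) F3503
def n1468 : Q := act 8 n1077
theorem D1468 : act 8 n1077 = n1468 := rfl
theorem F6158 : act 0 n1468 = n1080 := d7_1 D1468 (iv D1080) (iv F4622)
theorem F6159 : act 2 n1468 = n1078 := d20_1 D1468 (iv D1078) (iv F4623)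
theorem F6160 : act 5 n1468 = n1468 := d32_1 D1468 (iv D1468) F4624
theorem F6161 : act 6 n1468 = n1468 := d34_1 D1468 (iv D1468) F4625
theorem F6162 : act 7 n1468 = n1468 := d35_1 D1468 (iv D1468) (iv D1077) F3506 D1077
def n1469 : Q := act 4 n1079
theorem D1469 : act 4 n1079 = n1469 := rfl
theorem F6163 : act 1 n1469 = n1469 := d10_1 D1469 (iv D1469) F4632
theorem F6164 : act 2 n1469 = n1469 := d16_1 D1469 (iv D1469) F4633
theorem F6165 : act 6 n1469 = n1469 := d27_2 F4635 D1469 (iv D1469)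
theorem F6166 : act 7 n1469 = n1469 := d28_2 F4636 D1469 (iv D1469)
def n1470 : Q := act 8 n1079
theorem D1470 : act 8 n1079 = n1470 := rfl
theorem F6167 : act 1 n1470 = n1470 := d14_1 D1470 (iv D1470) F4632
theorem F6168 : act 2 n1470 = n1470 := d20_1 D1470 (iv D1470) F4633
theorem F6169 : act 3 n1470 = n1080 := d25_1 D1470 (iv D1080) D1079
theorem F6170 : act 5 n1470 = n1470 := d32_1 D1470 (iv D1470) F4634
theorem F6171 : act 6 n1470 = n1470 := d34_1 D1470 (iv D1470) F4635
def n1471 : Q := act 2 n1081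
theorem D1471 : act 2 n1081 = n1471 := rfl
theorem F6172 : act 0 n1471 = n1083 := d1_1 D1471 (iv D1083) (iv F4642)
theorem F6173 : act 3 n1471 = n1471 := d15_2 D1081 D1471 (iv D1471) (iv D1081) F3523
def n1472 : Q := act 5 n1081
theorem D1472 : act 5 n1081 = n1472 := rfl
theorem F6175 : act 1 n1472 = n1140 := d11_1 D1472 (iv D1140) (iv F4643)
def n1473 : Q := act 7 n1081
theorem D1473 : act 7 n1081 = n1473 := rfl
def n1474 : Q := act 6 n1082
theorem D1474 : act 6 n1082 = n1474 := rfl
theorem F6181 : act 1 n1474 = n1142 := d12_1 D1474 (iv D1142) (iv F4645)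
theorem F6184 : act 7 n1474 = n1094 := d33_2 (iv F4648) D1474 (iv D1094)
def n1475 : Q := act 5 n1083
theorem D1475 : act 5 n1083 = n1475 := rfl
def n1476 : Q := act 7 n1083
theorem D1476 : act 7 n1083 = n1476 := rfl
theorem F6189 : act 2 n1476 = n1085 := d19_1 D1476 (iv D1085) D1083
def n1477 : Q := act 4 n1084
theorem D1477 : act 4 n1084 = n1477 := rfl
theorem F6190 : act 1 n1477 = n1087 := d10_1 D1477 (iv D1087) (iv F4651)
def n1481 : Q := act 6 n1087
theorem D1481 : act 6 n1087 = n1481 := rfl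
def n1482 : Q := act 7 n1087
theorem D1482 : act 7 n1087 = n1482 := rfl
def n1494 : Q := act 3 n1096
theorem D1494 : act 3 n1096 = n1494 := rfl
theorem F6250 : act 1 n1494 = n1108 := d9_1 D1494 (iv D1108) (iv F4693)
def n1511 : Q := act 4 n1108
theorem D1511 : act 4 n1108 = n1511 := rfl
theorem F6313 : act 0 n1511 = n1511 := d3_1 D1511 (iv D1511) F4735
theorem F6316 : act 7 n1511 = n1511 := d28_2 F4737 D1511 (iv D1511)
def n1523 : Q := act 2 n1119
theorem D1523 : act 2 n1119 = n1523 := rfl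
theorem F6363 : act 0 n1523 = n1121 := d1_1 D1523 (iv D1121) (iv F4779)
theorem F6364 : act 3 n1523 = n1523 := d15_2 D1119 D1523 (iv D1523) (iv D1119) F3618
theorem F6365 : act 4 n1523 = n1139 := d16_2 (iv F4780) D1523 (iv D1139)
theorem F6366 : act 8 n1523 = n1471 := d20_2 (iv F4781) D1523 (iv D1471)
def n1524 : Q := act 5 n1119
theorem D1524 : act 5 n1119 = n1524 := rfl
theorem F6367 : act 0 n1524 = n1122 := d4_1 D1524 (iv D1122) (iv F4779)
theorem F6368 : act 3 n1524 = n1120 := d22_1 D1524 (iv D1120) D1119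
theorem F6369 : act 8 n1524 = n1472 := d32_2 (iv F4781) D1524 (iv D1472)
def n1525 : Q := act 7 n1119
theorem D1525 : act 7 n1119 = n1525 := rfl
theorem F6370 : act 0 n1525 = n1123 := d6_1 D1525 (iv D1123) (iv F4779)
theorem F6371 : act 3 n1525 = n1525 := d24_1 D1525 (iv D1525) (iv D1119) F3619 D1119
theorem F6372 : act 4 n1525 = n1141 := d28_1 D1525 (iv D1141) (iv F4780)
def n1526 : Q := act 6 n1120
theorem D1526 : act 6 n1120 = n1526 := rfl
theorem F6377 : act 8 n1526 = n1474 := d34_2 (iv F4786) D1526 (iv D1474)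
def n1527 : Q := act 5 n1121
theorem D1527 : act 5 n1121 = n1527 := rfl
theorem F6378 : act 1 n1527 = n1527 := d11_1 D1527 (iv D1527) F4787
theorem F6379 : act 2 n1527 = n1122 := d17_1 D1527 (iv D1122) D1121
theorem F6380 : act 3 n1527 = n1527 := d22_1 D1527 (iv D1527) F4788
theorem F6381 : act 8 n1527 = n1475 := d32_2 (iv F4790) D1527 (iv D1475)
def n1528 : Q := act 7 n1121
theorem D1528 : act 7 n1121 = n1528 := rfl
theorem F6382 : act 1 n1528 = n1528 := d13_1 D1528 (iv D1528) F4787
theorem F6383 : act 2 n1528 = n1123 := d19_1 D1528 (iv D1123) D1121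
theorem F6384 : act 4 n1528 = n1144 := d28_1 D1528 (iv D1144) (iv F4789)
def n1529 : Q := act 4 n1122
theorem D1529 : act 4 n1122 = n1529 := rfl
theorem F6385 : act 1 n1529 = n1125 := d10_1 D1529 (iv D1125) (iv F4791)
theorem F6386 : act 3 n1529 = n1529 := d21_1 D1529 (iv D1529) F4792 F3626 (iv F4792)
theorem F6387 : act 5 n1529 = n1145 := d26_2 D1122 D1529 (iv D1145) (iv D840) (iv F3622)
theorem F6388 : act 8 n1529 = n1477 := d29_2 (iv F4793) D1529 (iv D1477)
def n1530 : Q := act 6 n1122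
theorem D1530 : act 6 n1122 = n1530 := rfl
def n1531 : Q := act 7 n1122
theorem D1531 : act 7 n1122 = n1531 := rfl
theorem F6392 : act 1 n1531 = n1127 := d13_1 D1531 (iv D1127) (iv F4791)
theorem F6393 : act 3 n1531 = n1531 := d24_1 D1531 (iv D1531) F4792 F3627 (iv F4792)
theorem F6394 : act 5 n1531 = n1123 := d31_1 D1531 (iv D1123) D1122
def n1532 : Q := act 8 n1123
theorem D1532 : act 8 n1123 = n1532 := rfl
def n1533 : Q := act 6 n1125
theorem D1533 : act 6 n1125 = n1533 := rfl
theorem F6401 : act 4 n1533 = n1126 := d27_1 D1533 (iv D1126) D1125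
theorem F6402 : act 8 n1533 = n1481 := d34_2 (iv F4805) D1533 (iv D1481)
def n1534 : Q := act 7 n1125
theorem D1534 : act 7 n1125 = n1534 := rfl
def n1535 : Q := act 7 n1126
theorem D1535 : act 7 n1126 = n1535 := rfl
theorem F6408 : act 6 n1535 = n1127 := d33_1 D1535 (iv D1127) D1126
def n1536 : Q := act 8 n1127
theorem D1536 : act 8 n1127 = n1536 := rfl
def n1537 : Q := act 2 n1129
theorem D1537 : act 2 n1129 = n1537 := rfl
theorem F6413 : act 0 n1537 = n1131 := d1_1 D1537 (iv D1131) (iv F4816)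
theorem F6414 : act 3 n1537 = n1171 := d15_2 D1129 D1537 (iv D1171) (iv D863) (iv F3641)
theorem F6415 : act 4 n1537 = n1471 := d16_2 (iv F4818) D1537 (iv D1471)
theorem F6416 : act 8 n1537 = n1139 := d20_2 (iv F4819) D1537 (iv D1139)
def n1538 : Q := act 5 n1129
theorem D1538 : act 5 n1129 = n1538 := rfl
theorem F6417 : act 0 n1538 = n1132 := d4_1 D1538 (iv D1132) (iv F4816)
theorem F6418 : act 1 n1538 = n1524 := d11_1 D1538 (iv D1524) (iv F4817)
theorem F6419 : act 3 n1538 = n1130 := d22_1 D1538 (iv D1130) D1129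
theorem F6420 : act 8 n1538 = n1140 := d32_2 (iv F4819) D1538 (iv D1140)
def n1539 : Q := act 7 n1129
theorem D1539 : act 7 n1129 = n1539 := rfl
theorem F6421 : act 0 n1539 = n1133 := d6_1 D1539 (iv D1133) (iv F4816)
theorem F6422 : act 1 n1539 = n1525 := d13_1 D1539 (iv D1525) (iv F4817)
theorem F6423 : act 3 n1539 = n1539 := d24_1 D1539 (iv D1539) (iv D1129) F3642 D1129
theorem F6424 : act 4 n1539 = n1473 := d28_1 D1539 (iv D1473) (iv F4818)
def n1540 : Q := act 6 n1130
theorem D1540 : act 6 n1130 = n1540 := rfl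
theorem F6425 : act 0 n1540 = n1134 := d5_1 D1540 (iv D1134) (iv F4820)
theorem F6427 : act 2 n1540 = n1174 := d18_1 D1540 (iv D1174) (iv F4822)
theorem F6428 : act 4 n1540 = n1540 := d27_1 D1540 (iv D1540) F4823
theorem F6429 : act 7 n1540 = n1540 := d33_2 F4824 D1540 (iv D1540)
theorem F6430 : act 8 n1540 = n1142 := d34_2 (iv F4825) D1540 (iv D1142)
def n1541 : Q := act 5 n1131
theorem D1541 : act 5 n1131 = n1541 := rfl
theorem F6431 : act 1 n1541 = n1541 := d11_1 D1541 (iv D1541) F4826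
theorem F6432 : act 2 n1541 = n1132 := d17_1 D1541 (iv D1132) D1131
theorem F6433 : act 3 n1541 = n1175 := d22_1 D1541 (iv D1175) (iv F4827)
theorem F6434 : act 8 n1541 = n1143 := d32_2 (iv F4829) D1541 (iv D1143)
def n1542 : Q := act 7 n1131
theorem D1542 : act 7 n1131 = n1542 := rfl
theorem F6435 : act 1 n1542 = n1542 := d13_1 D1542 (iv D1542) F4826
theorem F6436 : act 2 n1542 = n1133 := d19_1 D1542 (iv D1133) D1131
theorem F6437 : act 4 n1542 = n1476 := d28_1 D1542 (iv D1476) (iv F4828)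
def n1543 : Q := act 4 n1132
theorem D1543 : act 4 n1132 = n1543 := rfl
theorem F6438 : act 1 n1543 = n1135 := d10_1 D1543 (iv D1135) (iv F4830)
theorem F6441 : act 8 n1543 = n1145 := d29_2 (iv F4832) D1543 (iv D1145)
def n1544 : Q := act 6 n1132
theorem D1544 : act 6 n1132 = n1544 := rfl
theorem F6442 : act 1 n1544 = n1136 := d12_1 D1544 (iv D1136) (iv F4830)
theorem F6443 : act 3 n1544 = n1134 := d23_1 D1544 (iv D1134) (iv F4831)
theorem F6444 : act 8 n1544 = n1146 := d34_2 (iv F4832) D1544 (iv D1146)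
def n1545 : Q := act 7 n1132
theorem D1545 : act 7 n1132 = n1545 := rfl
theorem F6445 : act 1 n1545 = n1137 := d13_1 D1545 (iv D1137) (iv F4830)
def n1546 : Q := act 8 n1133
theorem D1546 : act 8 n1133 = n1546 := rfl
theorem F6451 : act 7 n1546 = n1148 := d35_1 D1546 (iv D1148) (iv D841) (iv F3646) D1133
def n1547 : Q := act 6 n1135
theorem D1547 : act 6 n1135 = n1547 := rfl
theorem F6452 : act 0 n1547 = n1533 := d5_1 D1547 (iv D1533) (iv F4841)
theorem F6455 : act 4 n1547 = n1136 := d27_1 D1547 (iv D1136) D1135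
def n1548 : Q := act 7 n1135
theorem D1548 : act 7 n1135 = n1548 := rfl
theorem F6459 : act 4 n1548 = n1137 := d28_1 D1548 (iv D1137) D1135
def n1549 : Q := act 7 n1136
theorem D1549 : act 7 n1136 = n1549 := rfl
theorem F6461 : act 0 n1549 = n1535 := d6_1 D1549 (iv D1535) (iv F4846)
def n1550 : Q := act 8 n1137
theorem D1550 : act 8 n1137 = n1550 := rfl
theorem F6465 : act 0 n1550 = n1536 := d7_1 D1550 (iv D1536) (iv F4850)
def n1551 : Q := act 1 n1139
theorem D1551 : act 1 n1139 = n1551 := rfl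
theorem F6470 : act 0 n1551 = n1551 := d0_1 D1551 (iv D1551) F4859 F3670 (iv F4859)
theorem F6471 : act 3 n1551 = n1183 := d9_2 (iv F4860) D1551 (iv D1183)
def n1552 : Q := act 5 n1139
theorem D1552 : act 5 n1139 = n1552 := rfl
theorem F6472 : act 0 n1552 = n1143 := d4_1 D1552 (iv D1143) (iv F4859)
theorem F6473 : act 2 n1552 = n1140 := d17_1 D1552 (iv D1140) D1139
theorem F6474 : act 3 n1552 = n1184 := d22_1 D1552 (iv D1184) (iv F4860)
def n1553 : Q := act 7 n1139
theorem D1553 : act 7 n1139 = n1553 := rfl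
theorem F6475 : act 0 n1553 = n1144 := d6_1 D1553 (iv D1144) (iv F4859)
theorem F6476 : act 2 n1553 = n1141 := d19_1 D1553 (iv D1141) D1139
theorem F6477 : act 3 n1553 = n1553 := d24_1 D1553 (iv D1553) F4860 F3786 (iv F4860)
def n1554 : Q := act 4 n1140
theorem D1554 : act 4 n1140 = n1554 := rfl
theorem F6479 : act 3 n1554 = n1554 := d21_1 D1554 (iv D1554) F4862 F3668 (iv F4862)
def n1555 : Q := act 6 n1140
theorem D1555 : act 6 n1140 = n1555 := rfl
theorem F6480 : act 0 n1555 = n1146 := d5_1 D1555 (iv D1146) (iv F4861)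
theorem F6481 : act 3 n1555 = n1142 := d23_1 D1555 (iv D1142) (iv F4862)
def n1556 : Q := act 7 n1140
theorem D1556 : act 7 n1140 = n1556 := rfl
theorem F6483 : act 3 n1556 = n1155 := d24_1 D1556 (iv D1155) F3691 (iv F3669) (iv F4862)
theorem F6484 : act 5 n1556 = n1141 := d31_1 D1556 (iv D1141) D1140
def n1557 : Q := act 8 n1141
theorem D1557 : act 8 n1141 = n1557 := rfl
theorem F6486 : act 3 n1557 = n1156 := d25_1 D1557 (iv D1156) (iv F4864)
def n1558 : Q := act 4 n1143
theorem D1558 : act 4 n1143 = n1558 := rfl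
theorem F6488 : act 2 n1558 = n1145 := d16_1 D1558 (iv D1145) (iv F4870)
def n1559 : Q := act 6 n1143
theorem D1559 : act 6 n1143 = n1559 := rfl
theorem F6489 : act 1 n1559 = n1559 := d12_1 D1559 (iv D1559) F4869
theorem F6490 : act 2 n1559 = n1146 := d18_1 D1559 (iv D1146) (iv F4870)
theorem F6491 : act 3 n1559 = n1188 := d23_1 D1559 (iv D1188) (iv F4871)
def n1560 : Q := act 7 n1143
theorem D1560 : act 7 n1143 = n1560 := rfl
theorem F6495 : act 5 n1560 = n1144 := d31_1 D1560 (iv D1144) D1143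
def n1561 : Q := act 8 n1144
theorem D1561 : act 8 n1144 = n1561 := rfl
def n1562 : Q := act 6 n1145
theorem D1562 : act 6 n1145 = n1562 := rfl
theorem F6499 : act 1 n1562 = n1149 := d12_1 D1562 (iv D1149) (iv F4875)
theorem F6501 : act 4 n1562 = n1146 := d27_1 D1562 (iv D1146) D1145
def n1563 : Q := act 7 n1145
theorem D1563 : act 7 n1145 = n1563 := rfl
theorem F6502 : act 1 n1563 = n1150 := d13_1 D1563 (iv D1150) (iv F4875)
theorem F6503 : act 4 n1563 = n1147 := d28_1 D1563 (iv D1147) D1145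
def n1564 : Q := act 7 n1146
theorem D1564 : act 7 n1146 = n1564 := rfl
theorem F6505 : act 3 n1564 = n1159 := d24_1 D1564 (iv D1159) F3707 (iv F3679) (iv F4878)
def n1566 : Q := act 5 n1149
theorem D1566 : act 5 n1149 = n1566 := rfl
def n1567 : Q := act 7 n1149
theorem D1567 : act 7 n1149 = n1567 := rfl
theorem F6513 : act 4 n1567 = n1151 := d28_1 D1567 (iv D1151) (iv F4886)
def n1573 : Q := act 7 n1154
theorem D1573 : act 7 n1154 = n1573 := rfl
def n1592 : Q := act 1 n1171
theorem D1592 : act 1 n1171 = n1592 := rfl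
theorem F6600 : act 0 n1592 = n1592 := d0_1 D1592 (iv D1592) F4961 F3756 (iv F4961)
theorem F6601 : act 2 n1592 = n1592 := d8_2 D1171 D1592 (iv D1592) (iv D1171) F3748
theorem F6602 : act 4 n1592 = n1592 := d10_2 F4962 D1592 (iv D1592)
theorem F6603 : act 8 n1592 = n1183 := d14_2 (iv F4963) D1592 (iv D1183)
def n1593 : Q := act 5 n1171
theorem D1593 : act 5 n1171 = n1593 := rfl
theorem F6604 : act 0 n1593 = n1175 := d4_1 D1593 (iv D1175) (iv F4961)
theorem F6605 : act 2 n1593 = n1172 := d17_1 D1593 (iv D1172) D1171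
theorem F6606 : act 8 n1593 = n1184 := d32_2 (iv F4963) D1593 (iv D1184)
def n1594 : Q := act 7 n1171
theorem D1594 : act 7 n1171 = n1594 := rfl
theorem F6607 : act 0 n1594 = n1176 := d6_1 D1594 (iv D1176) (iv F4961)
theorem F6608 : act 2 n1594 = n1173 := d19_1 D1594 (iv D1173) D1171
theorem F6609 : act 4 n1594 = n1594 := d28_1 D1594 (iv D1594) F4962
theorem F6610 : act 8 n1594 = n1594 := d35_2 (iv F4963) D1594 (iv D1594) F4963 F3786
def n1595 : Q := act 4 n1172
theorem D1595 : act 4 n1172 = n1595 := rfl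
theorem F6611 : act 0 n1595 = n1177 := d3_1 D1595 (iv D1177) (iv F4964)
theorem F6612 : act 1 n1595 = n1595 := d10_1 D1595 (iv D1595) F4965
theorem F6613 : act 3 n1595 = n1595 := d21_1 D1595 (iv D1595) F4966 F3753 (iv F4966)
theorem F6614 : act 5 n1595 = n1595 := d26_2 D1172 D1595 (iv D1595) (iv D1172) F3749
theorem F6615 : act 8 n1595 = n1185 := d29_2 (iv F4967) D1595 (iv D1185)
def n1596 : Q := act 6 n1172
theorem D1596 : act 6 n1172 = n1596 := rfl
theorem F6616 : act 0 n1596 = n1178 := d5_1 D1596 (iv D1178) (iv F4964)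
theorem F6617 : act 1 n1596 = n1596 := d12_1 D1596 (iv D1596) F4965
theorem F6618 : act 3 n1596 = n1174 := d23_1 D1596 (iv D1174) (iv F4966)
theorem F6619 : act 8 n1596 = n1186 := d34_2 (iv F4967) D1596 (iv D1186)
def n1597 : Q := act 7 n1172
theorem D1597 : act 7 n1172 = n1597 := rfl
theorem F6620 : act 0 n1597 = n1179 := d6_1 D1597 (iv D1179) (iv F4964)
theorem F6621 : act 1 n1597 = n1597 := d13_1 D1597 (iv D1597) F4965
theorem F6622 : act 3 n1597 = n1597 := d24_1 D1597 (iv D1597) F4966 F3754 (iv F4966)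
theorem F6623 : act 5 n1597 = n1173 := d31_1 D1597 (iv D1173) D1172
theorem F6624 : act 8 n1597 = n1597 := d35_2 (iv F4967) D1597 (iv D1597) F4967 F3790
def n1598 : Q := act 4 n1175
theorem D1598 : act 4 n1175 = n1598 := rfl
theorem F6625 : act 1 n1598 = n1598 := d10_1 D1598 (iv D1598) F4978
theorem F6626 : act 2 n1598 = n1177 := d16_1 D1598 (iv D1177) (iv F4979)
theorem F6627 : act 5 n1598 = n1598 := d26_2 D1175 D1598 (iv D1598) (iv D1175) F3757
theorem F6628 : act 8 n1598 = n1187 := d29_2 (iv F4980) D1598 (iv D1187)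
def n1599 : Q := act 6 n1175
theorem D1599 : act 6 n1175 = n1599 := rfl
theorem F6629 : act 1 n1599 = n1599 := d12_1 D1599 (iv D1599) F4978
theorem F6630 : act 2 n1599 = n1178 := d18_1 D1599 (iv D1178) (iv F4979)
theorem F6631 : act 8 n1599 = n1188 := d34_2 (iv F4980) D1599 (iv D1188)
def n1600 : Q := act 7 n1175
theorem D1600 : act 7 n1175 = n1600 := rfl
theorem F6632 : act 1 n1600 = n1600 := d13_1 D1600 (iv D1600) F4978
theorem F6633 : act 2 n1600 = n1179 := d19_1 D1600 (iv D1179) (iv F4979)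
theorem F6634 : act 5 n1600 = n1176 := d31_1 D1600 (iv D1176) D1175
theorem F6635 : act 8 n1600 = n1600 := d35_2 (iv F4980) D1600 (iv D1600) F4980 F3797
def n1601 : Q := act 3 n1176
theorem D1601 : act 3 n1176 = n1601 := rfl
theorem F6636 : act 1 n1601 = n1601 := d9_1 D1601 (iv D1601) F4981
theorem F6637 : act 2 n1601 = n1601 := d15_1 D1601 (iv D1601) F4982 F3763 (iv F4982)
theorem F6638 : act 8 n1601 = n1601 := d25_2 F4984 D1601 (iv D1601)
def n1602 : Q := act 6 n1177
theorem D1602 : act 6 n1177 = n1602 := rfl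
theorem F6639 : act 1 n1602 = n1180 := d12_1 D1602 (iv D1180) (iv F4985)
theorem F6640 : act 3 n1602 = n1602 := d23_1 D1602 (iv D1602) F4986
theorem F6641 : act 4 n1602 = n1178 := d27_1 D1602 (iv D1178) D1177
theorem F6642 : act 8 n1602 = n1189 := d34_2 (iv F4988) D1602 (iv D1189)
def n1603 : Q := act 7 n1177
theorem D1603 : act 7 n1177 = n1603 := rfl
theorem F6643 : act 1 n1603 = n1181 := d13_1 D1603 (iv D1181) (iv F4985)
theorem F6644 : act 4 n1603 = n1179 := d28_1 D1603 (iv D1179) D1177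
theorem F6645 : act 5 n1603 = n1603 := d31_1 D1603 (iv D1603) F4987
theorem F6646 : act 8 n1603 = n1603 := d35_2 (iv F4988) D1603 (iv D1603) F4988 F3801
def n1604 : Q := act 7 n1178
theorem D1604 : act 7 n1178 = n1604 := rfl
theorem F6647 : act 1 n1604 = n1182 := d13_1 D1604 (iv D1182) (iv F4989)
theorem F6648 : act 3 n1604 = n1604 := d24_1 D1604 (iv D1604) F4990 F3768 (iv F4990)
theorem F6649 : act 6 n1604 = n1179 := d33_1 D1604 (iv D1179) D1178
theorem F6650 : act 8 n1604 = n1604 := d35_2 (iv F4991) D1604 (iv D1604) F4991 F3804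
def n1605 : Q := act 5 n1180
theorem D1605 : act 5 n1180 = n1605 := rfl
theorem F6651 : act 0 n1605 = n1605 := d4_1 D1605 (iv D1605) F4996
theorem F6652 : act 2 n1605 = n1605 := d17_1 D1605 (iv D1605) F4997
theorem F6653 : act 3 n1605 = n1605 := d22_1 D1605 (iv D1605) F4998
theorem F6654 : act 6 n1605 = n1605 := d30_2 D1180 D1605 (iv D1605) (iv D1180) F3773
theorem F6655 : act 8 n1605 = n1190 := d32_2 (iv F5000) D1605 (iv D1190)
def n1606 : Q := act 7 n1180
theorem D1606 : act 7 n1180 = n1606 := rfl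
theorem F6656 : act 0 n1606 = n1606 := d6_1 D1606 (iv D1606) F4996
theorem F6657 : act 2 n1606 = n1606 := d19_1 D1606 (iv D1606) F4997
theorem F6658 : act 4 n1606 = n1182 := d28_1 D1606 (iv D1182) (iv F4999)
theorem F6659 : act 6 n1606 = n1181 := d33_1 D1606 (iv D1181) D1180
theorem F6660 : act 8 n1606 = n1606 := d35_2 (iv F5000) D1606 (iv D1606) F5000 F3809
def n1607 : Q := act 3 n1181
theorem D1607 : act 3 n1181 = n1607 := rfl
theorem F6661 : act 0 n1607 = n1607 := d2_1 D1607 (iv D1607) F5001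
theorem F6662 : act 4 n1607 = n1607 := d21_2 (iv F5003) D1607 (iv D1607) F5003 F3781
theorem F6663 : act 5 n1607 = n1607 := d22_2 F5004 D1607 (iv D1607)
theorem F6664 : act 7 n1607 = n1607 := d24_2 D1181 D1607 (iv D1607) (iv D1181) F3772
theorem F6665 : act 8 n1607 = n1607 := d25_2 F5005 D1607 (iv D1607)
def n1608 : Q := act 5 n1183
theorem D1608 : act 5 n1183 = n1608 := rfl
theorem F6666 : act 0 n1608 = n1608 := d4_1 D1608 (iv D1608) F5011
theorem F6667 : act 1 n1608 = n1184 := d11_1 D1608 (iv D1184) D1183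
theorem F6668 : act 2 n1608 = n1608 := d17_1 D1608 (iv D1608) F5012
theorem F6669 : act 7 n1608 = n1608 := d31_2 F5014 D1608 (iv D1608)
def n1609 : Q := act 4 n1184
theorem D1609 : act 4 n1184 = n1609 := rfl
theorem F6670 : act 0 n1609 = n1187 := d3_1 D1609 (iv D1187) (iv F5015)
theorem F6671 : act 2 n1609 = n1185 := d16_1 D1609 (iv D1185) (iv F5016)
theorem F6672 : act 5 n1609 = n1609 := d26_2 D1184 D1609 (iv D1609) (iv D1184) F3785
theorem F6673 : act 7 n1609 = n1609 := d28_2 F5017 D1609 (iv D1609)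
def n1610 : Q := act 6 n1184
theorem D1610 : act 6 n1184 = n1610 := rfl
theorem F6674 : act 0 n1610 = n1188 := d5_1 D1610 (iv D1188) (iv F5015)
theorem F6675 : act 2 n1610 = n1186 := d18_1 D1610 (iv D1186) (iv F5016)
theorem F6676 : act 7 n1610 = n1610 := d33_2 F5017 D1610 (iv D1610)
def n1611 : Q := act 6 n1185
theorem D1611 : act 6 n1185 = n1611 := rfl
theorem F6677 : act 0 n1611 = n1189 := d5_1 D1611 (iv D1189) (iv F5018)
theorem F6678 : act 1 n1611 = n1611 := d12_1 D1611 (iv D1611) F5019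
theorem F6679 : act 3 n1611 = n1611 := d23_1 D1611 (iv D1611) F5020
theorem F6680 : act 4 n1611 = n1186 := d27_1 D1611 (iv D1186) D1185
theorem F6681 : act 7 n1611 = n1611 := d33_2 F5022 D1611 (iv D1611)
def n1612 : Q := act 3 n1187
theorem D1612 : act 3 n1187 = n1612 := rfl
theorem F6682 : act 1 n1612 = n1612 := d9_1 D1612 (iv D1612) F5027
theorem F6683 : act 2 n1612 = n1612 := d15_1 D1612 (iv D1612) F5028 F3799 (iv F5028)
theorem F6684 : act 5 n1612 = n1612 := d22_2 F5029 D1612 (iv D1612)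
def n1613 : Q := act 6 n1187
theorem D1613 : act 6 n1187 = n1613 := rfl
theorem F6685 : act 1 n1613 = n1613 := d12_1 D1613 (iv D1613) F5027
theorem F6686 : act 2 n1613 = n1189 := d18_1 D1613 (iv D1189) (iv F5028)
theorem F6687 : act 4 n1613 = n1188 := d27_1 D1613 (iv D1188) D1187
theorem F6688 : act 7 n1613 = n1613 := d33_2 F5030 D1613 (iv D1613)
def n1614 : Q := act 5 n1189
theorem D1614 : act 5 n1189 = n1614 := rfl
theorem F6689 : act 1 n1614 = n1190 := d11_1 D1614 (iv D1190) (iv F5034)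
theorem F6690 : act 3 n1614 = n1614 := d22_1 D1614 (iv D1614) F5035
theorem F6691 : act 6 n1614 = n1614 := d30_2 D1189 D1614 (iv D1614) (iv D1189) F3800
theorem F6692 : act 7 n1614 = n1614 := d31_2 F5037 D1614 (iv D1614)
def n1649 : Q := act 4 n1216
theorem D1649 : act 4 n1216 = n1649 := rfl
theorem F6846 : act 0 n1649 = n1217 := d3_1 D1649 (iv D1217) D1216
theorem F6847 : act 1 n1649 = n1307 := d10_1 D1649 (iv D1307) (iv F5157)
theorem F6848 : act 2 n1649 = n1649 := d16_1 D1649 (iv D1649) F5158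
theorem F6849 : act 6 n1649 = n1649 := d27_2 F5160 D1649 (iv D1649)
theorem F6850 : act 7 n1649 = n1649 := d28_2 F5161 D1649 (iv D1649)
def n1650 : Q := act 3 n1217
theorem D1650 : act 3 n1217 = n1650 := rfl
theorem F6851 : act 1 n1650 = n1218 := d9_1 D1650 (iv D1218) (iv F5162)
theorem F6852 : act 6 n1650 = n1650 := d23_2 F5164 D1650 (iv D1650)
def n1651 : Q := act 5 n1217
theorem D1651 : act 5 n1217 = n1651 := rfl
theorem F6853 : act 1 n1651 = n1219 := d11_1 D1651 (iv D1219) (iv F5162)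
theorem F6854 : act 2 n1651 = n1651 := d17_1 D1651 (iv D1651) F5163
theorem F6855 : act 4 n1651 = n1651 := d26_1 D1651 (iv D1651) (iv D1217) F3898 D1217
theorem F6856 : act 7 n1651 = n1651 := d31_2 F5165 D1651 (iv D1651)
def n1652 : Q := act 5 n1218
theorem D1652 : act 5 n1218 = n1652 := rfl
theorem F6857 : act 0 n1652 = n1310 := d4_1 D1652 (iv D1310) (iv F5166)
theorem F6858 : act 2 n1652 = n1224 := d17_1 D1652 (iv D1224) (iv F5167)
theorem F6859 : act 3 n1652 = n1219 := d22_1 D1652 (iv D1219) D1218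
def n1653 : Q := act 7 n1218
theorem D1653 : act 7 n1218 = n1653 := rfl
theorem F6860 : act 0 n1653 = n1311 := d6_1 D1653 (iv D1311) (iv F5166)
theorem F6861 : act 2 n1653 = n1225 := d19_1 D1653 (iv D1225) (iv F5167)
theorem F6862 : act 3 n1653 = n1653 := d24_1 D1653 (iv D1653) (iv D1218) F3904 D1218
theorem F6863 : act 6 n1653 = n1653 := d33_1 D1653 (iv D1653) F5168
def n1654 : Q := act 6 n1219
theorem D1654 : act 6 n1219 = n1654 := rfl
theorem F6864 : act 0 n1654 = n1312 := d5_1 D1654 (iv D1312) (iv F5169)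
def n1655 : Q := act 3 n1221
theorem D1655 : act 3 n1221 = n1655 := rfl
theorem F6869 : act 0 n1655 = n1222 := d2_1 D1655 (iv D1222) (iv F5179)
theorem F6870 : act 1 n1655 = n1319 := d9_1 D1655 (iv D1319) (iv F5180)
theorem F6871 : act 6 n1655 = n1655 := d23_2 F5182 D1655 (iv D1655)
def n1656 : Q := act 5 n1221
theorem D1656 : act 5 n1221 = n1656 := rfl
theorem F6872 : act 0 n1656 = n1223 := d4_1 D1656 (iv D1223) (iv F5179)
theorem F6873 : act 1 n1656 = n1320 := d11_1 D1656 (iv D1320) (iv F5180)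
theorem F6874 : act 2 n1656 = n1656 := d17_1 D1656 (iv D1656) F5181
theorem F6875 : act 4 n1656 = n1228 := d26_1 D1656 (iv D1228) (iv D906) (iv F3912) D1221
theorem F6876 : act 7 n1656 = n1238 := d31_2 (iv F5183) D1656 (iv D1238)
def n1657 : Q := act 2 n1222
theorem D1657 : act 2 n1222 = n1657 := rfl
theorem F6877 : act 3 n1657 = n1657 := d15_2 D1222 D1657 (iv D1657) (iv D1222) F3916
theorem F6878 : act 6 n1657 = n1657 := d18_2 F5185 D1657 (iv D1657)
def n1658 : Q := act 5 n1222
theorem D1658 : act 5 n1222 = n1658 := rfl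
theorem F6879 : act 1 n1658 = n1224 := d11_1 D1658 (iv D1224) (iv F5184)
theorem F6880 : act 3 n1658 = n1223 := d22_1 D1658 (iv D1223) D1222
def n1659 : Q := act 7 n1222
theorem D1659 : act 7 n1222 = n1659 := rfl
theorem F6881 : act 1 n1659 = n1225 := d13_1 D1659 (iv D1225) (iv F5184)
theorem F6882 : act 3 n1659 = n1241 := d24_1 D1659 (iv D1241) (iv D913) (iv F3918) D1222
theorem F6883 : act 6 n1659 = n1659 := d33_1 D1659 (iv D1659) F5185
def n1660 : Q := act 6 n1223
theorem D1660 : act 6 n1223 = n1660 := rfl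
theorem F6886 : act 4 n1660 = n1232 := d27_1 D1660 (iv D1232) (iv F5188)
def n1661 : Q := act 4 n1224
theorem D1661 : act 4 n1224 = n1661 := rfl
theorem F6889 : act 0 n1661 = n1325 := d3_1 D1661 (iv D1325) (iv F5190)
theorem F6890 : act 3 n1661 = n1233 := d21_1 D1661 (iv D1233) F3942 (iv F3923) (iv F5191)
def n1662 : Q := act 6 n1224
theorem D1662 : act 6 n1224 = n1662 := rfl
theorem F6891 : act 0 n1662 = n1326 := d5_1 D1662 (iv D1326) (iv F5190)
theorem F6892 : act 3 n1662 = n1226 := d23_1 D1662 (iv D1226) (iv F5191)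
def n1663 : Q := act 7 n1224
theorem D1663 : act 7 n1224 = n1663 := rfl
theorem F6894 : act 0 n1663 = n1327 := d6_1 D1663 (iv D1327) (iv F5190)
theorem F6895 : act 3 n1663 = n1245 := d24_1 D1663 (iv D1245) F3966 (iv F3924) (iv F5191)
theorem F6896 : act 5 n1663 = n1225 := d31_1 D1663 (iv D1225) D1224
def n1664 : Q := act 8 n1225
theorem D1664 : act 8 n1225 = n1664 := rfl
theorem F6897 : act 0 n1664 = n1328 := d7_1 D1664 (iv D1328) (iv F5192)
theorem F6898 : act 3 n1664 = n1246 := d25_1 D1664 (iv D1246) (iv F5193)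
theorem F6899 : act 6 n1664 = n1664 := d34_1 D1664 (iv D1664) F5194
def n1665 : Q := act 2 n1227
theorem D1665 : act 2 n1227 = n1665 := rfl
theorem F6900 : act 0 n1665 = n1229 := d1_1 D1665 (iv D1229) (iv F5200)
theorem F6901 : act 3 n1665 = n1665 := d15_2 D1227 D1665 (iv D1665) (iv D1227) F3932
theorem F6902 : act 6 n1665 = n1471 := d18_2 (iv F5202) D1665 (iv D1471)
def n1666 : Q := act 5 n1227
theorem D1666 : act 5 n1227 = n1666 := rfl
theorem F6903 : act 0 n1666 = n1230 := d4_1 D1666 (iv D1230) (iv F5200)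
theorem F6904 : act 1 n1666 = n1340 := d11_1 D1666 (iv D1340) (iv F5201)
theorem F6905 : act 3 n1666 = n1228 := d22_1 D1666 (iv D1228) D1227
def n1667 : Q := act 7 n1227
theorem D1667 : act 7 n1227 = n1667 := rfl
theorem F6907 : act 1 n1667 = n1341 := d13_1 D1667 (iv D1341) (iv F5201)
theorem F6908 : act 3 n1667 = n1249 := d24_1 D1667 (iv D1249) (iv D918) (iv F3934) D1227
def n1668 : Q := act 6 n1228
theorem D1668 : act 6 n1228 = n1668 := rfl
theorem F6911 : act 1 n1668 = n1342 := d12_1 D1668 (iv D1342) (iv F5204)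
theorem F6914 : act 7 n1668 = n1250 := d33_2 (iv F5206) D1668 (iv D1250)
def n1669 : Q := act 5 n1229
theorem D1669 : act 5 n1229 = n1669 := rfl
theorem F6915 : act 1 n1669 = n1669 := d11_1 D1669 (iv D1669) F5207
theorem F6916 : act 2 n1669 = n1230 := d17_1 D1669 (iv D1230) D1229
theorem F6917 : act 3 n1669 = n1669 := d22_1 D1669 (iv D1669) F5208
def n1670 : Q := act 7 n1229
theorem D1670 : act 7 n1229 = n1670 := rfl
def n1671 : Q := act 4 n1230
theorem D1671 : act 4 n1230 = n1671 := rfl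
theorem F6921 : act 1 n1671 = n1233 := d10_1 D1671 (iv D1233) (iv F5210)
def n1672 : Q := act 6 n1230
theorem D1672 : act 6 n1230 = n1672 := rfl
def n1673 : Q := act 7 n1230
theorem D1673 : act 7 n1230 = n1673 := rfl
theorem F6925 : act 1 n1673 = n1235 := d13_1 D1673 (iv D1235) (iv F5210)
def n1674 : Q := act 8 n1231
theorem D1674 : act 8 n1231 = n1674 := rfl
def n1675 : Q := act 6 n1233
theorem D1675 : act 6 n1233 = n1675 := rfl
theorem F6931 : act 0 n1675 = n1349 := d5_1 D1675 (iv D1349) (iv F5219)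
def n1676 : Q := act 7 n1233
theorem D1676 : act 7 n1233 = n1676 := rfl
def n1678 : Q := act 8 n1235
theorem D1678 : act 8 n1235 = n1678 := rfl
def n1679 : Q := act 2 n1237
theorem D1679 : act 2 n1237 = n1679 := rfl
theorem F6946 : act 0 n1679 = n1239 := d1_1 D1679 (iv D1239) (iv F5233)
theorem F6947 : act 3 n1679 = n1679 := d15_2 D1237 D1679 (iv D1679) (iv D1237) F3953
theorem F6948 : act 4 n1679 = n1679 := d16_2 F5235 D1679 (iv D1679)
theorem F6949 : act 6 n1679 = n1679 := d18_2 F5236 D1679 (iv D1679)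
theorem F6950 : act 8 n1679 = n1679 := d20_2 F5237 D1679 (iv D1679)
def n1680 : Q := act 5 n1237
theorem D1680 : act 5 n1237 = n1680 := rfl
theorem F6951 : act 0 n1680 = n1240 := d4_1 D1680 (iv D1240) (iv F5233)
theorem F6952 : act 1 n1680 = n1354 := d11_1 D1680 (iv D1354) (iv F5234)
theorem F6953 : act 3 n1680 = n1238 := d22_1 D1680 (iv D1238) D1237
theorem F6954 : act 8 n1680 = n1680 := d32_2 F5237 D1680 (iv D1680)
def n1681 : Q := act 7 n1237
theorem D1681 : act 7 n1237 = n1681 := rfl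
theorem F6955 : act 0 n1681 = n1241 := d6_1 D1681 (iv D1241) (iv F5233)
theorem F6956 : act 1 n1681 = n1355 := d13_1 D1681 (iv D1355) (iv F5234)
theorem F6957 : act 4 n1681 = n1681 := d28_1 D1681 (iv D1681) F5235
theorem F6958 : act 6 n1681 = n1681 := d33_1 D1681 (iv D1681) F5236
def n1682 : Q := act 6 n1238
theorem D1682 : act 6 n1238 = n1682 := rfl
theorem F6960 : act 1 n1682 = n1356 := d12_1 D1682 (iv D1356) (iv F5239)
def n1683 : Q := act 5 n1239
theorem D1683 : act 5 n1239 = n1683 := rfl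
theorem F6965 : act 1 n1683 = n1683 := d11_1 D1683 (iv D1683) F5243
theorem F6966 : act 2 n1683 = n1240 := d17_1 D1683 (iv D1240) D1239
theorem F6967 : act 3 n1683 = n1683 := d22_1 D1683 (iv D1683) F5244
theorem F6968 : act 8 n1683 = n1683 := d32_2 F5247 D1683 (iv D1683)
def n1684 : Q := act 7 n1239
theorem D1684 : act 7 n1239 = n1684 := rfl
theorem F6969 : act 1 n1684 = n1684 := d13_1 D1684 (iv D1684) F5243
theorem F6970 : act 2 n1684 = n1241 := d19_1 D1684 (iv D1241) D1239
theorem F6971 : act 4 n1684 = n1684 := d28_1 D1684 (iv D1684) F5245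
theorem F6972 : act 6 n1684 = n1684 := d33_1 D1684 (iv D1684) F5246
def n1687 : Q := act 7 n1240
theorem D1687 : act 7 n1240 = n1687 := rfl
theorem F6981 : act 1 n1687 = n1245 := d13_1 D1687 (iv D1245) (iv F5248)
theorem F6982 : act 5 n1687 = n1241 := d31_1 D1687 (iv D1241) D1240
def n1688 : Q := act 8 n1241
theorem D1688 : act 8 n1241 = n1688 := rfl
theorem F6983 : act 1 n1688 = n1246 := d14_1 D1688 (iv D1246) (iv F5251)
theorem F6984 : act 4 n1688 = n1688 := d29_1 D1688 (iv D1688) F5252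
theorem F6985 : act 6 n1688 = n1688 := d34_1 D1688 (iv D1688) F5253
theorem F6986 : act 7 n1688 = n1688 := d35_1 D1688 (iv D1688) (iv D1241) F3959 D1241
def n1691 : Q := act 7 n1244
theorem D1691 : act 7 n1244 = n1691 := rfl
theorem F6996 : act 0 n1691 = n1365 := d6_1 D1691 (iv D1365) (iv F5264)
def n1692 : Q := act 8 n1245
theorem D1692 : act 8 n1245 = n1692 := rfl
theorem F7000 : act 0 n1692 = n1366 := d7_1 D1692 (iv D1366) (iv F5269)
theorem F7001 : act 2 n1692 = n1692 := d20_1 D1692 (iv D1692) F5270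
theorem F7002 : act 5 n1692 = n1246 := d32_1 D1692 (iv D1246) (iv F5271)
theorem F7003 : act 7 n1692 = n1692 := d35_1 D1692 (iv D1692) (iv D1245) F3967 D1245
def n1698 : Q := act 8 n1249
theorem D1698 : act 8 n1249 = n1698 := rfl
theorem F7027 : act 1 n1698 = n1370 := d14_1 D1698 (iv D1370) (iv F5288)
def n1731 : Q := act 0 n1275
theorem D1731 : act 0 n1275 = n1731 := rfl
theorem F7164 : act 2 n1731 = n1731 := d1_2 F5394 D1731 (iv D1731)
theorem F7165 : act 3 n1731 = n1731 := d2_2 F5395 D1731 (iv D1731)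
theorem F7166 : act 5 n1731 = n1731 := d4_2 F5396 D1731 (iv D1731)
theorem F7167 : act 6 n1731 = n1731 := d5_2 F5397 D1731 (iv D1731)
theorem F7168 : act 7 n1731 = n1278 := d6_2 (iv F5398) D1731 (iv D1278)
theorem F7169 : act 8 n1731 = n1731 := d7_2 F5399 D1731 (iv D1731)
def n1732 : Q := act 4 n1275
theorem D1732 : act 4 n1275 = n1732 := rfl
theorem F7170 : act 1 n1732 = n1276 := d10_1 D1732 (iv D1276) D1275
theorem F7171 : act 2 n1732 = n1732 := d16_1 D1732 (iv D1732) F5394
theorem F7172 : act 6 n1732 = n1732 := d27_2 F5397 D1732 (iv D1732)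
theorem F7173 : act 7 n1732 = n1279 := d28_2 (iv F5398) D1732 (iv D1279)
theorem F7174 : act 8 n1732 = n1732 := d29_2 F5399 D1732 (iv D1732)
def n1733 : Q := act 3 n1276
theorem D1733 : act 3 n1276 = n1733 := rfl
theorem F7175 : act 2 n1733 = n1733 := d15_1 D1733 (iv D1733) F5400 F4067 (iv F5400)
theorem F7176 : act 4 n1733 = n1733 := d21_2 D1276 D1733 (iv D1733) (iv D1276) F4061
theorem F7177 : act 6 n1733 = n1733 := d23_2 F5401 D1733 (iv D1733)
theorem F7178 : act 8 n1733 = n1733 := d25_2 F5403 D1733 (iv D1733)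
def n1734 : Q := act 5 n1276
theorem D1734 : act 5 n1276 = n1734 := rfl
theorem F7179 : act 2 n1734 = n1277 := d17_1 D1734 (iv D1277) (iv F5400)
theorem F7180 : act 4 n1734 = n1734 := d26_1 D1734 (iv D1734) (iv D1276) F4062 D1276
theorem F7181 : act 7 n1734 = n1281 := d31_2 (iv F5402) D1734 (iv D1281)
theorem F7182 : act 8 n1734 = n1734 := d32_2 F5403 D1734 (iv D1734)
def n1735 : Q := act 6 n1277
theorem D1735 : act 6 n1277 = n1735 := rfl
theorem F7183 : act 1 n1735 = n1735 := d12_1 D1735 (iv D1735) F5404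
theorem F7184 : act 3 n1735 = n1735 := d23_1 D1735 (iv D1735) F5405
theorem F7185 : act 4 n1735 = n1735 := d27_1 D1735 (iv D1735) F5406
theorem F7186 : act 5 n1735 = n1735 := d30_1 D1735 (iv D1735) (iv D1277) F4068 D1277
theorem F7187 : act 7 n1735 = n1282 := d33_2 (iv F5407) D1735 (iv D1282)
theorem F7188 : act 8 n1735 = n1735 := d34_2 F5408 D1735 (iv D1735)
def n1736 : Q := act 4 n1278
theorem D1736 : act 4 n1278 = n1736 := rfl
theorem F7189 : act 0 n1736 = n1279 := d3_1 D1736 (iv D1279) D1278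
theorem F7190 : act 2 n1736 = n1736 := d16_1 D1736 (iv D1736) F5409
theorem F7191 : act 6 n1736 = n1736 := d27_2 F5412 D1736 (iv D1736)
theorem F7192 : act 8 n1736 = n1649 := d29_2 (iv F5413) D1736 (iv D1649)
def n1737 : Q := act 3 n1279
theorem D1737 : act 3 n1279 = n1737 := rfl
theorem F7193 : act 1 n1737 = n1280 := d9_1 D1737 (iv D1280) (iv F5414)
theorem F7194 : act 4 n1737 = n1308 := d21_2 D1279 D1737 (iv D1308) (iv D960) (iv F4072)
theorem F7195 : act 6 n1737 = n1737 := d23_2 F5416 D1737 (iv D1737)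
theorem F7196 : act 8 n1737 = n1650 := d25_2 (iv F5417) D1737 (iv D1650)
def n1738 : Q := act 5 n1279
theorem D1738 : act 5 n1279 = n1738 := rfl
theorem F7197 : act 1 n1738 = n1281 := d11_1 D1738 (iv D1281) (iv F5414)
theorem F7198 : act 2 n1738 = n1738 := d17_1 D1738 (iv D1738) F5415
theorem F7199 : act 4 n1738 = n1738 := d26_1 D1738 (iv D1738) (iv D1279) F4073 D1279
theorem F7200 : act 8 n1738 = n1651 := d32_2 (iv F5417) D1738 (iv D1651)
def n1739 : Q := act 5 n1280
theorem D1739 : act 5 n1280 = n1739 := rfl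
theorem F7201 : act 2 n1739 = n1286 := d17_1 D1739 (iv D1286) (iv F5418)
theorem F7202 : act 3 n1739 = n1281 := d22_1 D1739 (iv D1281) D1280
theorem F7203 : act 8 n1739 = n1652 := d32_2 (iv F5421) D1739 (iv D1652)
def n1740 : Q := act 7 n1280
theorem D1740 : act 7 n1280 = n1740 := rfl
theorem F7204 : act 2 n1740 = n1287 := d19_1 D1740 (iv D1287) (iv F5418)
theorem F7205 : act 4 n1740 = n1311 := d28_1 D1740 (iv D1311) (iv F5419)
theorem F7206 : act 6 n1740 = n1740 := d33_1 D1740 (iv D1740) F5420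
def n1741 : Q := act 6 n1281
theorem D1741 : act 6 n1281 = n1741 := rfl
theorem F7207 : act 2 n1741 = n1282 := d18_1 D1741 (iv D1282) (iv F5422)
theorem F7208 : act 4 n1741 = n1741 := d27_1 D1741 (iv D1741) F5423
theorem F7209 : act 5 n1741 = n1741 := d30_1 D1741 (iv D1741) (iv D1281) F4077 D1281
theorem F7210 : act 8 n1741 = n1654 := d34_2 (iv F5424) D1741 (iv D1654)
def n1742 : Q := act 3 n1283
theorem D1742 : act 3 n1283 = n1742 := rfl
theorem F7211 : act 0 n1742 = n1284 := d2_1 D1742 (iv D1284) (iv F5430)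
theorem F7212 : act 4 n1742 = n1319 := d21_2 D1283 D1742 (iv D1319) (iv D969) (iv F4084)
theorem F7213 : act 6 n1742 = n1742 := d23_2 F5432 D1742 (iv D1742)
theorem F7214 : act 8 n1742 = n1655 := d25_2 (iv F5434) D1742 (iv D1655)
def n1743 : Q := act 5 n1283
theorem D1743 : act 5 n1283 = n1743 := rfl
theorem F7215 : act 0 n1743 = n1285 := d4_1 D1743 (iv D1285) (iv F5430)
theorem F7216 : act 2 n1743 = n1743 := d17_1 D1743 (iv D1743) F5431
theorem F7217 : act 4 n1743 = n1290 := d26_1 D1743 (iv D1290) (iv D948) (iv F4085) D1283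
theorem F7218 : act 7 n1743 = n1743 := d31_2 F5433 D1743 (iv D1743)
theorem F7219 : act 8 n1743 = n1656 := d32_2 (iv F5434) D1743 (iv D1656)
def n1744 : Q := act 2 n1284
theorem D1744 : act 2 n1284 = n1744 := rfl
theorem F7220 : act 3 n1744 = n1744 := d15_2 D1284 D1744 (iv D1744) (iv D1284) F4090
theorem F7221 : act 4 n1744 = n1321 := d16_2 (iv F5436) D1744 (iv D1321)
theorem F7222 : act 6 n1744 = n1744 := d18_2 F5437 D1744 (iv D1744)
theorem F7223 : act 8 n1744 = n1657 := d20_2 (iv F5438) D1744 (iv D1657)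
def n1745 : Q := act 5 n1284
theorem D1745 : act 5 n1284 = n1745 := rfl
theorem F7224 : act 1 n1745 = n1286 := d11_1 D1745 (iv D1286) (iv F5435)
theorem F7225 : act 3 n1745 = n1285 := d22_1 D1745 (iv D1285) D1284
theorem F7226 : act 8 n1745 = n1658 := d32_2 (iv F5438) D1745 (iv D1658)
def n1746 : Q := act 7 n1284
theorem D1746 : act 7 n1284 = n1746 := rfl
theorem F7227 : act 1 n1746 = n1287 := d13_1 D1746 (iv D1287) (iv F5435)
theorem F7228 : act 3 n1746 = n1746 := d24_1 D1746 (iv D1746) (iv D1284) F4092 D1284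
theorem F7229 : act 4 n1746 = n1323 := d28_1 D1746 (iv D1323) (iv F5436)
theorem F7230 : act 6 n1746 = n1746 := d33_1 D1746 (iv D1746) F5437
def n1747 : Q := act 6 n1285
theorem D1747 : act 6 n1285 = n1747 := rfl
theorem F7231 : act 1 n1747 = n1288 := d12_1 D1747 (iv D1288) (iv F5439)
theorem F7232 : act 2 n1747 = n1747 := d18_1 D1747 (iv D1747) F5440
theorem F7233 : act 4 n1747 = n1294 := d27_1 D1747 (iv D1294) (iv F5441)
theorem F7234 : act 5 n1747 = n1747 := d30_1 D1747 (iv D1747) (iv D1285) F4091 D1285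
theorem F7235 : act 7 n1747 = n1747 := d33_2 F5442 D1747 (iv D1747)
theorem F7236 : act 8 n1747 = n1660 := d34_2 (iv F5443) D1747 (iv D1660)
def n1748 : Q := act 4 n1286
theorem D1748 : act 4 n1286 = n1748 := rfl
theorem F7237 : act 3 n1748 = n1295 := d21_1 D1748 (iv D1295) F4120 (iv F4098) (iv F5444)
theorem F7238 : act 5 n1748 = n1325 := d26_2 D1286 D1748 (iv D1325) (iv D972) (iv F4094)
theorem F7239 : act 8 n1748 = n1661 := d29_2 (iv F5445) D1748 (iv D1661)
def n1749 : Q := act 6 n1286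
theorem D1749 : act 6 n1286 = n1749 := rfl
theorem F7240 : act 3 n1749 = n1288 := d23_1 D1749 (iv D1288) (iv F5444)
theorem F7241 : act 5 n1749 = n1749 := d30_1 D1749 (iv D1749) (iv D1286) F4095 D1286
theorem F7242 : act 8 n1749 = n1662 := d34_2 (iv F5445) D1749 (iv D1662)
def n1750 : Q := act 7 n1286
theorem D1750 : act 7 n1286 = n1750 := rfl
theorem F7243 : act 3 n1750 = n1750 := d24_1 D1750 (iv D1750) F5444 F4099 (iv F5444)
theorem F7244 : act 5 n1750 = n1287 := d31_1 D1750 (iv D1287) D1286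
def n1751 : Q := act 8 n1287
theorem D1751 : act 8 n1287 = n1751 := rfl
theorem F7245 : act 3 n1751 = n1751 := d25_1 D1751 (iv D1751) F5446
theorem F7246 : act 4 n1751 = n1328 := d29_1 D1751 (iv D1328) (iv F5447)
theorem F7247 : act 6 n1751 = n1751 := d34_1 D1751 (iv D1751) F5448
theorem F7248 : act 7 n1751 = n1664 := d35_1 D1751 (iv D1664) (iv D1225) (iv F4096) D1287
def n1752 : Q := act 2 n1289
theorem D1752 : act 2 n1289 = n1752 := rfl
theorem F7249 : act 0 n1752 = n1291 := d1_1 D1752 (iv D1291) (iv F5454)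
theorem F7250 : act 3 n1752 = n1752 := d15_2 D1289 D1752 (iv D1752) (iv D1289) F4107
theorem F7251 : act 4 n1752 = n1339 := d16_2 (iv F5455) D1752 (iv D1339)
theorem F7252 : act 6 n1752 = n1523 := d18_2 (iv F5456) D1752 (iv D1523)
theorem F7253 : act 8 n1752 = n1665 := d20_2 (iv F5457) D1752 (iv D1665)
def n1753 : Q := act 5 n1289
theorem D1753 : act 5 n1289 = n1753 := rfl
theorem F7254 : act 0 n1753 = n1292 := d4_1 D1753 (iv D1292) (iv F5454)
theorem F7255 : act 3 n1753 = n1290 := d22_1 D1753 (iv D1290) D1289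
theorem F7256 : act 8 n1753 = n1666 := d32_2 (iv F5457) D1753 (iv D1666)
def n1754 : Q := act 7 n1289
theorem D1754 : act 7 n1289 = n1754 := rfl
theorem F7257 : act 0 n1754 = n1293 := d6_1 D1754 (iv D1293) (iv F5454)
theorem F7258 : act 3 n1754 = n1754 := d24_1 D1754 (iv D1754) (iv D1289) F4109 D1289
theorem F7259 : act 4 n1754 = n1341 := d28_1 D1754 (iv D1341) (iv F5455)
theorem F7260 : act 6 n1754 = n1525 := d33_1 D1754 (iv D1525) (iv F5456)
def n1755 : Q := act 6 n1290
theorem D1755 : act 6 n1290 = n1755 := rfl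
theorem F7261 : act 0 n1755 = n1294 := d5_1 D1755 (iv D1294) (iv F5458)
theorem F7262 : act 2 n1755 = n1755 := d18_1 D1755 (iv D1755) F5459
theorem F7264 : act 7 n1755 = n1755 := d33_2 F5460 D1755 (iv D1755)
theorem F7265 : act 8 n1755 = n1668 := d34_2 (iv F5461) D1755 (iv D1668)
def n1756 : Q := act 5 n1291
theorem D1756 : act 5 n1291 = n1756 := rfl
theorem F7266 : act 1 n1756 = n1756 := d11_1 D1756 (iv D1756) F5462
theorem F7267 : act 2 n1756 = n1292 := d17_1 D1756 (iv D1292) D1291
theorem F7268 : act 3 n1756 = n1756 := d22_1 D1756 (iv D1756) F5463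
theorem F7269 : act 8 n1756 = n1669 := d32_2 (iv F5466) D1756 (iv D1669)
def n1757 : Q := act 7 n1291
theorem D1757 : act 7 n1291 = n1757 := rfl
theorem F7270 : act 1 n1757 = n1757 := d13_1 D1757 (iv D1757) F5462
theorem F7271 : act 2 n1757 = n1293 := d19_1 D1757 (iv D1293) D1291
theorem F7272 : act 4 n1757 = n1344 := d28_1 D1757 (iv D1344) (iv F5464)
theorem F7273 : act 6 n1757 = n1528 := d33_1 D1757 (iv D1528) (iv F5465)
def n1758 : Q := act 4 n1292
theorem D1758 : act 4 n1292 = n1758 := rfl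
theorem F7274 : act 1 n1758 = n1295 := d10_1 D1758 (iv D1295) (iv F5467)
theorem F7275 : act 5 n1758 = n1345 := d26_2 D1292 D1758 (iv D1345) (iv D984) (iv F4112)
theorem F7276 : act 8 n1758 = n1671 := d29_2 (iv F5469) D1758 (iv D1671)
def n1759 : Q := act 6 n1292
theorem D1759 : act 6 n1292 = n1759 := rfl
theorem F7277 : act 1 n1759 = n1296 := d12_1 D1759 (iv D1296) (iv F5467)
theorem F7278 : act 3 n1759 = n1294 := d23_1 D1759 (iv D1294) (iv F5468)
theorem F7279 : act 5 n1759 = n1530 := d30_1 D1759 (iv D1530) (iv D1122) (iv F4113) D1292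
theorem F7280 : act 8 n1759 = n1672 := d34_2 (iv F5469) D1759 (iv D1672)
def n1760 : Q := act 7 n1292
theorem D1760 : act 7 n1292 = n1760 := rfl
theorem F7281 : act 1 n1760 = n1297 := d13_1 D1760 (iv D1297) (iv F5467)
theorem F7282 : act 3 n1760 = n1760 := d24_1 D1760 (iv D1760) F5468 F4117 (iv F5468)
theorem F7283 : act 5 n1760 = n1293 := d31_1 D1760 (iv D1293) D1292
def n1761 : Q := act 8 n1293
theorem D1761 : act 8 n1293 = n1761 := rfl
theorem F7284 : act 1 n1761 = n1298 := d14_1 D1761 (iv D1298) (iv F5470)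
theorem F7285 : act 3 n1761 = n1761 := d25_1 D1761 (iv D1761) F5471
theorem F7286 : act 4 n1761 = n1348 := d29_1 D1761 (iv D1348) (iv F5472)
theorem F7288 : act 7 n1761 = n1674 := d35_1 D1761 (iv D1674) (iv D1231) (iv F4114) D1293
def n1762 : Q := act 6 n1295
theorem D1762 : act 6 n1295 = n1762 := rfl
theorem F7289 : act 2 n1762 = n1762 := d18_1 D1762 (iv D1762) F5479
theorem F7290 : act 4 n1762 = n1296 := d27_1 D1762 (iv D1296) D1295
theorem F7291 : act 8 n1762 = n1675 := d34_2 (iv F5481) D1762 (iv D1675)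
def n1763 : Q := act 7 n1295
theorem D1763 : act 7 n1295 = n1763 := rfl
theorem F7292 : act 2 n1763 = n1763 := d19_1 D1763 (iv D1763) F5479
theorem F7293 : act 4 n1763 = n1297 := d28_1 D1763 (iv D1297) D1295
theorem F7294 : act 5 n1763 = n1350 := d31_1 D1763 (iv D1350) (iv F5480)
def n1764 : Q := act 7 n1296
theorem D1764 : act 7 n1296 = n1764 := rfl
theorem F7295 : act 2 n1764 = n1764 := d19_1 D1764 (iv D1764) F5482
theorem F7296 : act 3 n1764 = n1764 := d24_1 D1764 (iv D1764) F5483 F4128 (iv F5483)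
theorem F7298 : act 6 n1764 = n1297 := d33_1 D1764 (iv D1297) D1296
def n1765 : Q := act 8 n1297
theorem D1765 : act 8 n1297 = n1765 := rfl
theorem F7299 : act 2 n1765 = n1765 := d20_1 D1765 (iv D1765) F5486
theorem F7300 : act 3 n1765 = n1765 := d25_1 D1765 (iv D1765) F5487
theorem F7301 : act 5 n1765 = n1298 := d32_1 D1765 (iv D1298) (iv F5488)
theorem F7302 : act 7 n1765 = n1678 := d35_1 D1765 (iv D1678) (iv D1235) (iv F4121) D1297
def n1766 : Q := act 0 n1299
theorem D1766 : act 0 n1299 = n1766 := rfl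
theorem F7303 : act 1 n1766 = n1731 := d0_2 D1299 D1766 (iv D1731) (iv D1275) (iv F4130)
theorem F7304 : act 2 n1766 = n1388 := d1_2 (iv F5494) D1766 (iv D1388)
theorem F7305 : act 3 n1766 = n1766 := d2_2 F5495 D1766 (iv D1766)
theorem F7306 : act 5 n1766 = n1766 := d4_2 F5496 D1766 (iv D1766)
theorem F7307 : act 6 n1766 = n1766 := d5_2 F5497 D1766 (iv D1766)
theorem F7308 : act 7 n1766 = n1302 := d6_2 (iv F5498) D1766 (iv D1302)
theorem F7309 : act 8 n1766 = n1766 := d7_2 F5499 D1766 (iv D1766)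
def n1767 : Q := act 4 n1299
theorem D1767 : act 4 n1299 = n1767 := rfl
theorem F7310 : act 1 n1767 = n1300 := d10_1 D1767 (iv D1300) D1299
theorem F7311 : act 2 n1767 = n1389 := d16_1 D1767 (iv D1389) (iv F5494)
theorem F7312 : act 6 n1767 = n1767 := d27_2 F5497 D1767 (iv D1767)
theorem F7313 : act 7 n1767 = n1303 := d28_2 (iv F5498) D1767 (iv D1303)
theorem F7314 : act 8 n1767 = n1767 := d29_2 F5499 D1767 (iv D1767)
def n1768 : Q := act 3 n1300
theorem D1768 : act 3 n1300 = n1768 := rfl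
theorem F7315 : act 0 n1768 = n1733 := d2_1 D1768 (iv D1733) (iv F5500)
theorem F7316 : act 2 n1768 = n1768 := d15_1 D1768 (iv D1768) F5501 F4138 (iv F5501)
theorem F7317 : act 4 n1768 = n1768 := d21_2 D1300 D1768 (iv D1768) (iv D1300) F4131
theorem F7318 : act 6 n1768 = n1768 := d23_2 F5502 D1768 (iv D1768)
theorem F7319 : act 8 n1768 = n1768 := d25_2 F5504 D1768 (iv D1768)
def n1769 : Q := act 5 n1300
theorem D1769 : act 5 n1300 = n1769 := rfl
theorem F7320 : act 0 n1769 = n1734 := d4_1 D1769 (iv D1734) (iv F5500)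
theorem F7321 : act 2 n1769 = n1301 := d17_1 D1769 (iv D1301) (iv F5501)
theorem F7322 : act 4 n1769 = n1769 := d26_1 D1769 (iv D1769) (iv D1300) F4132 D1300
theorem F7323 : act 7 n1769 = n1305 := d31_2 (iv F5503) D1769 (iv D1305)
theorem F7324 : act 8 n1769 = n1769 := d32_2 F5504 D1769 (iv D1769)
def n1770 : Q := act 6 n1301
theorem D1770 : act 6 n1301 = n1770 := rfl
theorem F7325 : act 0 n1770 = n1735 := d5_1 D1770 (iv D1735) (iv F5505)
theorem F7326 : act 1 n1770 = n1392 := d12_1 D1770 (iv D1392) (iv F5506)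
theorem F7327 : act 3 n1770 = n1770 := d23_1 D1770 (iv D1770) F5507
theorem F7328 : act 4 n1770 = n1770 := d27_1 D1770 (iv D1770) F5508
theorem F7329 : act 5 n1770 = n1770 := d30_1 D1770 (iv D1770) (iv D1301) F4139 D1301
theorem F7330 : act 7 n1770 = n1306 := d33_2 (iv F5509) D1770 (iv D1306)
theorem F7331 : act 8 n1770 = n1770 := d34_2 F5510 D1770 (iv D1770)
def n1771 : Q := act 4 n1302
theorem D1771 : act 4 n1302 = n1771 := rfl
theorem F7332 : act 0 n1771 = n1303 := d3_1 D1771 (iv D1303) D1302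
theorem F7333 : act 1 n1771 = n1736 := d10_1 D1771 (iv D1736) (iv F5511)
theorem F7334 : act 2 n1771 = n1393 := d16_1 D1771 (iv D1393) (iv F5512)
theorem F7335 : act 6 n1771 = n1771 := d27_2 F5515 D1771 (iv D1771)
theorem F7336 : act 8 n1771 = n1307 := d29_2 (iv F5516) D1771 (iv D1307)
def n1772 : Q := act 3 n1303
theorem D1772 : act 3 n1303 = n1772 := rfl
theorem F7337 : act 1 n1772 = n1304 := d9_1 D1772 (iv D1304) (iv F5517)
theorem F7338 : act 4 n1772 = n1650 := d21_2 D1303 D1772 (iv D1650) (iv D1217) (iv F4143)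
theorem F7339 : act 6 n1772 = n1772 := d23_2 F5519 D1772 (iv D1772)
theorem F7340 : act 8 n1772 = n1308 := d25_2 (iv F5520) D1772 (iv D1308)
def n1773 : Q := act 5 n1303
theorem D1773 : act 5 n1303 = n1773 := rfl
theorem F7341 : act 1 n1773 = n1305 := d11_1 D1773 (iv D1305) (iv F5517)
theorem F7342 : act 2 n1773 = n1395 := d17_1 D1773 (iv D1395) (iv F5518)
theorem F7343 : act 4 n1773 = n1773 := d26_1 D1773 (iv D1773) (iv D1303) F4144 D1303
theorem F7344 : act 8 n1773 = n1309 := d32_2 (iv F5520) D1773 (iv D1309)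
def n1774 : Q := act 5 n1304
theorem D1774 : act 5 n1304 = n1774 := rfl
theorem F7345 : act 0 n1774 = n1739 := d4_1 D1774 (iv D1739) (iv F5521)
theorem F7346 : act 2 n1774 = n1316 := d17_1 D1774 (iv D1316) (iv F5522)
theorem F7347 : act 3 n1774 = n1305 := d22_1 D1774 (iv D1305) D1304
theorem F7348 : act 8 n1774 = n1310 := d32_2 (iv F5525) D1774 (iv D1310)
def n1775 : Q := act 7 n1304
theorem D1775 : act 7 n1304 = n1775 := rfl
theorem F7349 : act 0 n1775 = n1740 := d6_1 D1775 (iv D1740) (iv F5521)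
theorem F7350 : act 2 n1775 = n1317 := d19_1 D1775 (iv D1317) (iv F5522)
theorem F7351 : act 4 n1775 = n1653 := d28_1 D1775 (iv D1653) (iv F5523)
theorem F7352 : act 6 n1775 = n1775 := d33_1 D1775 (iv D1775) F5524
def n1776 : Q := act 6 n1305
theorem D1776 : act 6 n1305 = n1776 := rfl
theorem F7353 : act 0 n1776 = n1741 := d5_1 D1776 (iv D1741) (iv F5526)
theorem F7354 : act 2 n1776 = n1306 := d18_1 D1776 (iv D1306) (iv F5527)
theorem F7355 : act 4 n1776 = n1776 := d27_1 D1776 (iv D1776) F5528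
theorem F7356 : act 5 n1776 = n1776 := d30_1 D1776 (iv D1776) (iv D1305) F4149 D1305
theorem F7357 : act 8 n1776 = n1312 := d34_2 (iv F5529) D1776 (iv D1312)
def n1777 : Q := act 3 n1307
theorem D1777 : act 3 n1307 = n1777 := rfl
theorem F7358 : act 0 n1777 = n1308 := d2_1 D1777 (iv D1308) (iv F5536)
theorem F7359 : act 6 n1777 = n1777 := d23_2 F5538 D1777 (iv D1777)
def n1778 : Q := act 5 n1307
theorem D1778 : act 5 n1307 = n1778 := rfl
theorem F7360 : act 0 n1778 = n1309 := d4_1 D1778 (iv D1309) (iv F5536)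
theorem F7361 : act 2 n1778 = n1400 := d17_1 D1778 (iv D1400) (iv F5537)
theorem F7362 : act 4 n1778 = n1778 := d26_1 D1778 (iv D1778) (iv D1307) F4157 D1307
theorem F7363 : act 7 n1778 = n1778 := d31_2 F5539 D1778 (iv D1778)
def n1779 : Q := act 2 n1308
theorem D1779 : act 2 n1308 = n1779 := rfl
theorem F7364 : act 1 n1779 = n1321 := d8_1 D1779 (iv D1321) F4205 (iv F4164) (iv F5540)
theorem F7365 : act 3 n1779 = n1401 := d15_2 D1308 D1779 (iv D1401) (iv D1028) (iv F4161)
theorem F7366 : act 6 n1779 = n1779 := d18_2 F5541 D1779 (iv D1779)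
def n1780 : Q := act 5 n1308
theorem D1780 : act 5 n1308 = n1780 := rfl
theorem F7367 : act 1 n1780 = n1310 := d11_1 D1780 (iv D1310) (iv F5540)
theorem F7368 : act 3 n1780 = n1309 := d22_1 D1780 (iv D1309) D1308
def n1781 : Q := act 7 n1308
theorem D1781 : act 7 n1308 = n1781 := rfl
theorem F7369 : act 1 n1781 = n1311 := d13_1 D1781 (iv D1311) (iv F5540)
theorem F7370 : act 3 n1781 = n1781 := d24_1 D1781 (iv D1781) (iv D1308) F4163 D1308
theorem F7371 : act 6 n1781 = n1781 := d33_1 D1781 (iv D1781) F5541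
def n1782 : Q := act 6 n1309
theorem D1782 : act 6 n1309 = n1782 := rfl
theorem F7372 : act 1 n1782 = n1312 := d12_1 D1782 (iv D1312) (iv F5542)
theorem F7373 : act 2 n1782 = n1404 := d18_1 D1782 (iv D1404) (iv F5543)
theorem F7374 : act 4 n1782 = n1782 := d27_1 D1782 (iv D1782) F5544
theorem F7375 : act 5 n1782 = n1782 := d30_1 D1782 (iv D1782) (iv D1309) F4162 D1309
theorem F7376 : act 7 n1782 = n1782 := d33_2 F5545 D1782 (iv D1782)
def n1783 : Q := act 4 n1310
theorem D1783 : act 4 n1310 = n1783 := rfl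
theorem F7377 : act 2 n1783 = n1325 := d16_1 D1783 (iv D1325) (iv F5546)
theorem F7378 : act 3 n1783 = n1783 := d21_1 D1783 (iv D1783) F5547 F4167 (iv F5547)
def n1784 : Q := act 6 n1310
theorem D1784 : act 6 n1310 = n1784 := rfl
theorem F7379 : act 2 n1784 = n1326 := d18_1 D1784 (iv D1326) (iv F5546)
theorem F7380 : act 3 n1784 = n1312 := d23_1 D1784 (iv D1312) (iv F5547)
theorem F7381 : act 5 n1784 = n1784 := d30_1 D1784 (iv D1784) (iv D1310) F4165 D1310
def n1785 : Q := act 7 n1310
theorem D1785 : act 7 n1310 = n1785 := rfl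
theorem F7382 : act 2 n1785 = n1327 := d19_1 D1785 (iv D1327) (iv F5546)
theorem F7383 : act 3 n1785 = n1785 := d24_1 D1785 (iv D1785) F5547 F4168 (iv F5547)
theorem F7384 : act 5 n1785 = n1311 := d31_1 D1785 (iv D1311) D1310
def n1786 : Q := act 8 n1311
theorem D1786 : act 8 n1311 = n1786 := rfl
theorem F7385 : act 2 n1786 = n1328 := d20_1 D1786 (iv D1328) (iv F5548)
theorem F7386 : act 3 n1786 = n1786 := d25_1 D1786 (iv D1786) F5549
theorem F7387 : act 6 n1786 = n1786 := d34_1 D1786 (iv D1786) F5550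
def n1787 : Q := act 3 n1313
theorem D1787 : act 3 n1313 = n1787 := rfl
theorem F7388 : act 0 n1787 = n1314 := d2_1 D1787 (iv D1314) (iv F5555)
theorem F7389 : act 1 n1787 = n1742 := d9_1 D1787 (iv D1742) (iv F5556)
theorem F7390 : act 4 n1787 = n1655 := d21_2 D1313 D1787 (iv D1655) (iv D1221) (iv F4176)
theorem F7391 : act 6 n1787 = n1787 := d23_2 F5558 D1787 (iv D1787)
theorem F7392 : act 8 n1787 = n1319 := d25_2 (iv F5560) D1787 (iv D1319)
def n1788 : Q := act 5 n1313
theorem D1788 : act 5 n1313 = n1788 := rfl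
theorem F7393 : act 0 n1788 = n1315 := d4_1 D1788 (iv D1315) (iv F5555)
theorem F7394 : act 1 n1788 = n1743 := d11_1 D1788 (iv D1743) (iv F5556)
theorem F7395 : act 2 n1788 = n1410 := d17_1 D1788 (iv D1410) (iv F5557)
theorem F7396 : act 4 n1788 = n1330 := d26_1 D1788 (iv D1330) (iv D975) (iv F4177) D1313
theorem F7397 : act 7 n1788 = n1788 := d31_2 F5559 D1788 (iv D1788)
theorem F7398 : act 8 n1788 = n1320 := d32_2 (iv F5560) D1788 (iv D1320)
def n1789 : Q := act 2 n1314
theorem D1789 : act 2 n1314 = n1789 := rfl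
theorem F7399 : act 3 n1789 = n1411 := d15_2 D1314 D1789 (iv D1411) (iv D1034) (iv F4182)
theorem F7400 : act 4 n1789 = n1657 := d16_2 (iv F5562) D1789 (iv D1657)
theorem F7401 : act 6 n1789 = n1789 := d18_2 F5563 D1789 (iv D1789)
theorem F7402 : act 8 n1789 = n1321 := d20_2 (iv F5564) D1789 (iv D1321)
def n1790 : Q := act 5 n1314
theorem D1790 : act 5 n1314 = n1790 := rfl
theorem F7403 : act 1 n1790 = n1316 := d11_1 D1790 (iv D1316) (iv F5561)
theorem F7404 : act 3 n1790 = n1315 := d22_1 D1790 (iv D1315) D1314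
theorem F7405 : act 8 n1790 = n1322 := d32_2 (iv F5564) D1790 (iv D1322)
def n1791 : Q := act 7 n1314
theorem D1791 : act 7 n1314 = n1791 := rfl
theorem F7406 : act 1 n1791 = n1317 := d13_1 D1791 (iv D1317) (iv F5561)
theorem F7407 : act 3 n1791 = n1791 := d24_1 D1791 (iv D1791) (iv D1314) F4184 D1314
theorem F7408 : act 4 n1791 = n1659 := d28_1 D1791 (iv D1659) (iv F5562)
theorem F7409 : act 6 n1791 = n1791 := d33_1 D1791 (iv D1791) F5563
def n1792 : Q := act 6 n1315
theorem D1792 : act 6 n1315 = n1792 := rfl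
theorem F7410 : act 1 n1792 = n1318 := d12_1 D1792 (iv D1318) (iv F5565)
theorem F7411 : act 2 n1792 = n1414 := d18_1 D1792 (iv D1414) (iv F5566)
theorem F7412 : act 4 n1792 = n1334 := d27_1 D1792 (iv D1334) (iv F5567)
theorem F7413 : act 5 n1792 = n1792 := d30_1 D1792 (iv D1792) (iv D1315) F4183 D1315
theorem F7414 : act 7 n1792 = n1792 := d33_2 F5568 D1792 (iv D1792)
theorem F7415 : act 8 n1792 = n1324 := d34_2 (iv F5569) D1792 (iv D1324)
def n1793 : Q := act 4 n1316
theorem D1793 : act 4 n1316 = n1793 := rfl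
theorem F7416 : act 0 n1793 = n1748 := d3_1 D1793 (iv D1748) (iv F5570)
theorem F7417 : act 3 n1793 = n1335 := d21_1 D1793 (iv D1335) F4234 (iv F4192) (iv F5571)
theorem F7418 : act 5 n1793 = n1661 := d26_2 D1316 D1793 (iv D1661) (iv D1224) (iv F4187)
theorem F7419 : act 8 n1793 = n1325 := d29_2 (iv F5572) D1793 (iv D1325)
def n1794 : Q := act 6 n1316
theorem D1794 : act 6 n1316 = n1794 := rfl
theorem F7420 : act 0 n1794 = n1749 := d5_1 D1794 (iv D1749) (iv F5570)
theorem F7421 : act 3 n1794 = n1318 := d23_1 D1794 (iv D1318) (iv F5571)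
theorem F7422 : act 5 n1794 = n1794 := d30_1 D1794 (iv D1794) (iv D1316) F4188 D1316
theorem F7423 : act 8 n1794 = n1326 := d34_2 (iv F5572) D1794 (iv D1326)
def n1795 : Q := act 7 n1316
theorem D1795 : act 7 n1316 = n1795 := rfl
theorem F7424 : act 0 n1795 = n1750 := d6_1 D1795 (iv D1750) (iv F5570)
theorem F7425 : act 3 n1795 = n1795 := d24_1 D1795 (iv D1795) F5571 F4193 (iv F5571)
theorem F7426 : act 5 n1795 = n1317 := d31_1 D1795 (iv D1317) D1316
def n1796 : Q := act 8 n1317
theorem D1796 : act 8 n1317 = n1796 := rfl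
theorem F7427 : act 0 n1796 = n1751 := d7_1 D1796 (iv D1751) (iv F5573)
theorem F7428 : act 3 n1796 = n1796 := d25_1 D1796 (iv D1796) F5574
theorem F7429 : act 4 n1796 = n1664 := d29_1 D1796 (iv D1664) (iv F5575)
theorem F7430 : act 6 n1796 = n1796 := d34_1 D1796 (iv D1796) F5576
theorem F7431 : act 7 n1796 = n1328 := d35_1 D1796 (iv D1328) (iv D973) (iv F4189) D1317
def n1797 : Q := act 2 n1319
theorem D1797 : act 2 n1319 = n1797 := rfl
theorem F7432 : act 0 n1797 = n1321 := d1_1 D1797 (iv D1321) (iv F5583)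
theorem F7433 : act 3 n1797 = n1419 := d15_2 D1319 D1797 (iv D1419) (iv D1039) (iv F4202)
theorem F7434 : act 6 n1797 = n1797 := d18_2 F5584 D1797 (iv D1797)
def n1798 : Q := act 5 n1319
theorem D1798 : act 5 n1319 = n1798 := rfl
theorem F7435 : act 0 n1798 = n1322 := d4_1 D1798 (iv D1322) (iv F5583)
theorem F7436 : act 3 n1798 = n1320 := d22_1 D1798 (iv D1320) D1319
def n1799 : Q := act 7 n1319
theorem D1799 : act 7 n1319 = n1799 := rfl
theorem F7437 : act 0 n1799 = n1323 := d6_1 D1799 (iv D1323) (iv F5583)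
theorem F7438 : act 3 n1799 = n1355 := d24_1 D1799 (iv D1355) (iv D991) (iv F4204) D1319
theorem F7439 : act 6 n1799 = n1799 := d33_1 D1799 (iv D1799) F5584
def n1800 : Q := act 6 n1320
theorem D1800 : act 6 n1320 = n1800 := rfl
theorem F7440 : act 0 n1800 = n1324 := d5_1 D1800 (iv D1324) (iv F5585)
theorem F7441 : act 2 n1800 = n1422 := d18_1 D1800 (iv D1422) (iv F5586)
theorem F7442 : act 4 n1800 = n1342 := d27_1 D1800 (iv D1342) (iv F5587)
theorem F7443 : act 5 n1800 = n1800 := d30_1 D1800 (iv D1800) (iv D1320) F4203 D1320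
theorem F7444 : act 7 n1800 = n1356 := d33_2 (iv F5588) D1800 (iv D1356)
def n1801 : Q := act 5 n1321
theorem D1801 : act 5 n1321 = n1801 := rfl
theorem F7445 : act 2 n1801 = n1322 := d17_1 D1801 (iv D1322) D1321
theorem F7446 : act 3 n1801 = n1423 := d22_1 D1801 (iv D1423) (iv F5589)
def n1802 : Q := act 7 n1321
theorem D1802 : act 7 n1321 = n1802 := rfl
theorem F7447 : act 2 n1802 = n1323 := d19_1 D1802 (iv D1323) D1321
theorem F7448 : act 6 n1802 = n1802 := d33_1 D1802 (iv D1802) F5590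
def n1803 : Q := act 4 n1322
theorem D1803 : act 4 n1322 = n1803 := rfl
theorem F7449 : act 1 n1803 = n1325 := d10_1 D1803 (iv D1325) (iv F5591)
theorem F7450 : act 3 n1803 = n1345 := d21_1 D1803 (iv D1345) F4255 (iv F4209) (iv F5592)
def n1804 : Q := act 6 n1322
theorem D1804 : act 6 n1322 = n1804 := rfl
theorem F7451 : act 1 n1804 = n1326 := d12_1 D1804 (iv D1326) (iv F5591)
theorem F7452 : act 3 n1804 = n1324 := d23_1 D1804 (iv D1324) (iv F5592)
theorem F7453 : act 5 n1804 = n1804 := d30_1 D1804 (iv D1804) (iv D1322) F4206 D1322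
def n1805 : Q := act 7 n1322
theorem D1805 : act 7 n1322 = n1805 := rfl
theorem F7454 : act 1 n1805 = n1327 := d13_1 D1805 (iv D1327) (iv F5591)
theorem F7455 : act 3 n1805 = n1361 := d24_1 D1805 (iv D1361) F4287 (iv F4210) (iv F5592)
theorem F7456 : act 5 n1805 = n1323 := d31_1 D1805 (iv D1323) D1322
def n1806 : Q := act 8 n1323
theorem D1806 : act 8 n1323 = n1806 := rfl
theorem F7457 : act 1 n1806 = n1328 := d14_1 D1806 (iv D1328) (iv F5593)
theorem F7458 : act 3 n1806 = n1362 := d25_1 D1806 (iv D1362) (iv F5594)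
theorem F7459 : act 6 n1806 = n1806 := d34_1 D1806 (iv D1806) F5595
def n1807 : Q := act 6 n1325
theorem D1807 : act 6 n1325 = n1807 := rfl
theorem F7460 : act 3 n1807 = n1349 := d23_1 D1807 (iv D1349) (iv F5601)
theorem F7461 : act 4 n1807 = n1326 := d27_1 D1807 (iv D1326) D1325
def n1808 : Q := act 7 n1325
theorem D1808 : act 7 n1325 = n1808 := rfl
theorem F7462 : act 4 n1808 = n1327 := d28_1 D1808 (iv D1327) D1325
def n1809 : Q := act 7 n1326
theorem D1809 : act 7 n1326 = n1809 := rfl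
theorem F7463 : act 3 n1809 = n1365 := d24_1 D1809 (iv D1365) F4302 (iv F4217) (iv F5602)
theorem F7464 : act 5 n1809 = n1809 := d31_1 D1809 (iv D1809) F5603
theorem F7465 : act 6 n1809 = n1327 := d33_1 D1809 (iv D1327) D1326
def n1810 : Q := act 8 n1327
theorem D1810 : act 8 n1327 = n1810 := rfl
theorem F7466 : act 3 n1810 = n1366 := d25_1 D1810 (iv D1366) (iv F5604)
theorem F7467 : act 5 n1810 = n1328 := d32_1 D1810 (iv D1328) (iv F5605)
def n1811 : Q := act 2 n1329
theorem D1811 : act 2 n1329 = n1811 := rfl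
theorem F7468 : act 0 n1811 = n1331 := d1_1 D1811 (iv D1331) (iv F5608)
theorem F7469 : act 3 n1811 = n1433 := d15_2 D1329 D1811 (iv D1433) (iv D1049) (iv F4220)
theorem F7470 : act 4 n1811 = n1665 := d16_2 (iv F5610) D1811 (iv D1665)
theorem F7471 : act 6 n1811 = n1537 := d18_2 (iv F5611) D1811 (iv D1537)
theorem F7472 : act 8 n1811 = n1339 := d20_2 (iv F5612) D1811 (iv D1339)
def n1812 : Q := act 5 n1329
theorem D1812 : act 5 n1329 = n1812 := rfl
theorem F7473 : act 0 n1812 = n1332 := d4_1 D1812 (iv D1332) (iv F5608)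
theorem F7474 : act 1 n1812 = n1753 := d11_1 D1812 (iv D1753) (iv F5609)
theorem F7475 : act 3 n1812 = n1330 := d22_1 D1812 (iv D1330) D1329
theorem F7476 : act 8 n1812 = n1340 := d32_2 (iv F5612) D1812 (iv D1340)
def n1813 : Q := act 7 n1329
theorem D1813 : act 7 n1329 = n1813 := rfl
theorem F7477 : act 0 n1813 = n1333 := d6_1 D1813 (iv D1333) (iv F5608)
theorem F7478 : act 1 n1813 = n1754 := d13_1 D1813 (iv D1754) (iv F5609)
theorem F7479 : act 3 n1813 = n1813 := d24_1 D1813 (iv D1813) (iv D1329) F4222 D1329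
theorem F7480 : act 4 n1813 = n1667 := d28_1 D1813 (iv D1667) (iv F5610)
theorem F7481 : act 6 n1813 = n1539 := d33_1 D1813 (iv D1539) (iv F5611)
def n1814 : Q := act 6 n1330
theorem D1814 : act 6 n1330 = n1814 := rfl
theorem F7482 : act 0 n1814 = n1334 := d5_1 D1814 (iv D1334) (iv F5613)
theorem F7483 : act 1 n1814 = n1755 := d12_1 D1814 (iv D1755) (iv F5614)
theorem F7484 : act 2 n1814 = n1436 := d18_1 D1814 (iv D1436) (iv F5615)
theorem F7485 : act 5 n1814 = n1540 := d30_1 D1814 (iv D1540) (iv D1130) (iv F4221) D1330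
theorem F7486 : act 7 n1814 = n1814 := d33_2 F5616 D1814 (iv D1814)
theorem F7487 : act 8 n1814 = n1342 := d34_2 (iv F5617) D1814 (iv D1342)
def n1815 : Q := act 5 n1331
theorem D1815 : act 5 n1331 = n1815 := rfl
theorem F7488 : act 1 n1815 = n1815 := d11_1 D1815 (iv D1815) F5618
theorem F7489 : act 2 n1815 = n1332 := d17_1 D1815 (iv D1332) D1331
theorem F7490 : act 3 n1815 = n1437 := d22_1 D1815 (iv D1437) (iv F5619)
theorem F7491 : act 8 n1815 = n1343 := d32_2 (iv F5622) D1815 (iv D1343)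
def n1816 : Q := act 7 n1331
theorem D1816 : act 7 n1331 = n1816 := rfl
theorem F7492 : act 1 n1816 = n1816 := d13_1 D1816 (iv D1816) F5618
theorem F7493 : act 2 n1816 = n1333 := d19_1 D1816 (iv D1333) D1331
theorem F7494 : act 4 n1816 = n1670 := d28_1 D1816 (iv D1670) (iv F5620)
theorem F7495 : act 6 n1816 = n1542 := d33_1 D1816 (iv D1542) (iv F5621)
def n1817 : Q := act 4 n1332
theorem D1817 : act 4 n1332 = n1817 := rfl
theorem F7496 : act 1 n1817 = n1335 := d10_1 D1817 (iv D1335) (iv F5623)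
theorem F7497 : act 5 n1817 = n1671 := d26_2 D1332 D1817 (iv D1671) (iv D1230) (iv F4225)
theorem F7498 : act 8 n1817 = n1345 := d29_2 (iv F5625) D1817 (iv D1345)
def n1818 : Q := act 6 n1332
theorem D1818 : act 6 n1332 = n1818 := rfl
theorem F7499 : act 1 n1818 = n1336 := d12_1 D1818 (iv D1336) (iv F5623)
theorem F7500 : act 3 n1818 = n1334 := d23_1 D1818 (iv D1334) (iv F5624)
theorem F7501 : act 5 n1818 = n1544 := d30_1 D1818 (iv D1544) (iv D1132) (iv F4226) D1332
theorem F7502 : act 8 n1818 = n1346 := d34_2 (iv F5625) D1818 (iv D1346)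
def n1819 : Q := act 7 n1332
theorem D1819 : act 7 n1332 = n1819 := rfl
theorem F7503 : act 1 n1819 = n1337 := d13_1 D1819 (iv D1337) (iv F5623)
theorem F7504 : act 3 n1819 = n1819 := d24_1 D1819 (iv D1819) F5624 F4230 (iv F5624)
theorem F7505 : act 5 n1819 = n1333 := d31_1 D1819 (iv D1333) D1332
def n1820 : Q := act 8 n1333
theorem D1820 : act 8 n1333 = n1820 := rfl
theorem F7506 : act 1 n1820 = n1338 := d14_1 D1820 (iv D1338) (iv F5626)
theorem F7507 : act 3 n1820 = n1820 := d25_1 D1820 (iv D1820) F5627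
theorem F7508 : act 4 n1820 = n1674 := d29_1 D1820 (iv D1674) (iv F5628)
theorem F7510 : act 7 n1820 = n1348 := d35_1 D1820 (iv D1348) (iv D985) (iv F4227) D1333
def n1821 : Q := act 6 n1335
theorem D1821 : act 6 n1335 = n1821 := rfl
theorem F7511 : act 0 n1821 = n1762 := d5_1 D1821 (iv D1762) (iv F5635)
theorem F7512 : act 2 n1821 = n1821 := d18_1 D1821 (iv D1821) F5636
theorem F7513 : act 4 n1821 = n1336 := d27_1 D1821 (iv D1336) D1335
theorem F7514 : act 8 n1821 = n1349 := d34_2 (iv F5638) D1821 (iv D1349)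
def n1822 : Q := act 7 n1335
theorem D1822 : act 7 n1335 = n1822 := rfl
theorem F7515 : act 0 n1822 = n1763 := d6_1 D1822 (iv D1763) (iv F5635)
theorem F7516 : act 2 n1822 = n1822 := d19_1 D1822 (iv D1822) F5636
theorem F7517 : act 4 n1822 = n1337 := d28_1 D1822 (iv D1337) D1335
theorem F7518 : act 5 n1822 = n1676 := d31_1 D1822 (iv D1676) (iv F5637)
def n1823 : Q := act 7 n1336
theorem D1823 : act 7 n1336 = n1823 := rfl
theorem F7519 : act 0 n1823 = n1764 := d6_1 D1823 (iv D1764) (iv F5639)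
def n1824 : Q := act 8 n1337
theorem D1824 : act 8 n1337 = n1824 := rfl
theorem F7527 : act 5 n1824 = n1338 := d32_1 D1824 (iv D1338) (iv F5647)
def n1825 : Q := act 1 n1339
theorem D1825 : act 1 n1339 = n1825 := rfl
theorem F7529 : act 0 n1825 = n1825 := d0_1 D1825 (iv D1825) F5654 F4251 (iv F5654)
theorem F7530 : act 3 n1825 = n1445 := d9_2 (iv F5655) D1825 (iv D1445)
theorem F7531 : act 6 n1825 = n1551 := d12_2 (iv F5656) D1825 (iv D1551)
def n1826 : Q := act 5 n1339
theorem D1826 : act 5 n1339 = n1826 := rfl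
theorem F7532 : act 0 n1826 = n1343 := d4_1 D1826 (iv D1343) (iv F5654)
theorem F7533 : act 2 n1826 = n1340 := d17_1 D1826 (iv D1340) D1339
theorem F7534 : act 3 n1826 = n1446 := d22_1 D1826 (iv D1446) (iv F5655)
def n1827 : Q := act 7 n1339
theorem D1827 : act 7 n1339 = n1827 := rfl
theorem F7535 : act 0 n1827 = n1344 := d6_1 D1827 (iv D1344) (iv F5654)
theorem F7536 : act 2 n1827 = n1341 := d19_1 D1827 (iv D1341) D1339
theorem F7537 : act 3 n1827 = n1827 := d24_1 D1827 (iv D1827) F5655 F4545 (iv F5655)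
theorem F7538 : act 6 n1827 = n1553 := d33_1 D1827 (iv D1553) (iv F5656)
def n1828 : Q := act 4 n1340
theorem D1828 : act 4 n1340 = n1828 := rfl
theorem F7539 : act 0 n1828 = n1345 := d3_1 D1828 (iv D1345) (iv F5657)
def n1829 : Q := act 6 n1340
theorem D1829 : act 6 n1340 = n1829 := rfl
theorem F7540 : act 0 n1829 = n1346 := d5_1 D1829 (iv D1346) (iv F5657)
theorem F7541 : act 3 n1829 = n1342 := d23_1 D1829 (iv D1342) (iv F5658)
theorem F7542 : act 5 n1829 = n1555 := d30_1 D1829 (iv D1555) (iv D1140) (iv F4247) D1340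
def n1830 : Q := act 7 n1340
theorem D1830 : act 7 n1340 = n1830 := rfl
theorem F7543 : act 0 n1830 = n1347 := d6_1 D1830 (iv D1347) (iv F5657)
theorem F7544 : act 3 n1830 = n1369 := d24_1 D1830 (iv D1369) F4313 (iv F4250) (iv F5658)
theorem F7545 : act 5 n1830 = n1341 := d31_1 D1830 (iv D1341) D1340
def n1831 : Q := act 8 n1341
theorem D1831 : act 8 n1341 = n1831 := rfl
theorem F7546 : act 0 n1831 = n1348 := d7_1 D1831 (iv D1348) (iv F5659)
theorem F7547 : act 3 n1831 = n1370 := d25_1 D1831 (iv D1370) (iv F5660)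
theorem F7548 : act 6 n1831 = n1557 := d34_1 D1831 (iv D1557) (iv F5661)
def n1832 : Q := act 4 n1343
theorem D1832 : act 4 n1343 = n1832 := rfl
theorem F7549 : act 1 n1832 = n1832 := d10_1 D1832 (iv D1832) F5666
theorem F7550 : act 2 n1832 = n1345 := d16_1 D1832 (iv D1345) (iv F5667)
def n1833 : Q := act 6 n1343
theorem D1833 : act 6 n1343 = n1833 := rfl
theorem F7551 : act 1 n1833 = n1833 := d12_1 D1833 (iv D1833) F5666
theorem F7552 : act 2 n1833 = n1346 := d18_1 D1833 (iv D1346) (iv F5667)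
theorem F7553 : act 3 n1833 = n1450 := d23_1 D1833 (iv D1450) (iv F5668)
theorem F7554 : act 5 n1833 = n1559 := d30_1 D1833 (iv D1559) (iv D1143) (iv F4253) D1343
def n1834 : Q := act 7 n1343
theorem D1834 : act 7 n1343 = n1834 := rfl
theorem F7555 : act 1 n1834 = n1834 := d13_1 D1834 (iv D1834) F5666
theorem F7556 : act 2 n1834 = n1347 := d19_1 D1834 (iv D1347) (iv F5667)
theorem F7557 : act 3 n1834 = n1834 := d24_1 D1834 (iv D1834) F5668 F4556 (iv F5668)
theorem F7558 : act 5 n1834 = n1344 := d31_1 D1834 (iv D1344) D1343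
def n1835 : Q := act 8 n1344
theorem D1835 : act 8 n1344 = n1835 := rfl
theorem F7559 : act 1 n1835 = n1835 := d14_1 D1835 (iv D1835) F5669
theorem F7560 : act 2 n1835 = n1348 := d20_1 D1835 (iv D1348) (iv F5670)
theorem F7561 : act 3 n1835 = n1835 := d25_1 D1835 (iv D1835) F5671
theorem F7562 : act 6 n1835 = n1561 := d34_1 D1835 (iv D1561) (iv F5672)
def n1836 : Q := act 6 n1345
theorem D1836 : act 6 n1345 = n1836 := rfl
theorem F7563 : act 1 n1836 = n1349 := d12_1 D1836 (iv D1349) (iv F5673)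
theorem F7564 : act 4 n1836 = n1346 := d27_1 D1836 (iv D1346) D1345
def n1837 : Q := act 7 n1345
theorem D1837 : act 7 n1345 = n1837 := rfl
theorem F7565 : act 1 n1837 = n1350 := d13_1 D1837 (iv D1350) (iv F5673)
theorem F7566 : act 4 n1837 = n1347 := d28_1 D1837 (iv D1347) D1345
def n1838 : Q := act 7 n1346
theorem D1838 : act 7 n1346 = n1838 := rfl
theorem F7568 : act 3 n1838 = n1373 := d24_1 D1838 (iv D1373) F4329 (iv F4262) (iv F5675)
theorem F7569 : act 5 n1838 = n1564 := d31_1 D1838 (iv D1564) (iv F5676)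
theorem F7570 : act 6 n1838 = n1347 := d33_1 D1838 (iv D1347) D1346
def n1839 : Q := act 8 n1347
theorem D1839 : act 8 n1347 = n1839 := rfl
theorem F7573 : act 5 n1839 = n1348 := d32_1 D1839 (iv D1348) (iv F5679)
def n1840 : Q := act 5 n1349
theorem D1840 : act 5 n1349 = n1840 := rfl
theorem F7575 : act 4 n1840 = n1566 := d26_1 D1840 (iv D1566) F4886 (iv F4266) (iv F5684)
def n1841 : Q := act 7 n1349
theorem D1841 : act 7 n1349 = n1841 := rfl
theorem F7577 : act 4 n1841 = n1351 := d28_1 D1841 (iv D1351) (iv F5684)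
theorem F7578 : act 6 n1841 = n1350 := d33_1 D1841 (iv D1350) D1349
def n1842 : Q := act 3 n1350
theorem D1842 : act 3 n1350 = n1842 := rfl
theorem F7579 : act 4 n1842 = n1377 := d21_2 (iv F5686) D1842 (iv D1377) F4344 (iv F4268)
def n1845 : Q := act 1 n1353
theorem D1845 : act 1 n1353 = n1845 := rfl
theorem F7586 : act 0 n1845 = n1845 := d0_1 D1845 (iv D1845) F5694 F4281 (iv F5694)
theorem F7587 : act 3 n1845 = n1453 := d9_2 (iv F5695) D1845 (iv D1453)
theorem F7588 : act 4 n1845 = n1845 := d10_2 F5696 D1845 (iv D1845)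
theorem F7589 : act 6 n1845 = n1845 := d12_2 F5697 D1845 (iv D1845)
theorem F7590 : act 8 n1845 = n1845 := d14_2 F5698 D1845 (iv D1845)
def n1846 : Q := act 5 n1353
theorem D1846 : act 5 n1353 = n1846 := rfl
theorem F7591 : act 0 n1846 = n1357 := d4_1 D1846 (iv D1357) (iv F5694)
theorem F7592 : act 2 n1846 = n1354 := d17_1 D1846 (iv D1354) D1353
theorem F7593 : act 3 n1846 = n1454 := d22_1 D1846 (iv D1454) (iv F5695)
theorem F7594 : act 8 n1846 = n1846 := d32_2 F5698 D1846 (iv D1846)
def n1847 : Q := act 7 n1353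
theorem D1847 : act 7 n1353 = n1847 := rfl
theorem F7595 : act 0 n1847 = n1358 := d6_1 D1847 (iv D1358) (iv F5694)
theorem F7596 : act 2 n1847 = n1355 := d19_1 D1847 (iv D1355) D1353
theorem F7597 : act 4 n1847 = n1847 := d28_1 D1847 (iv D1847) F5696
theorem F7598 : act 6 n1847 = n1847 := d33_1 D1847 (iv D1847) F5697
def n1848 : Q := act 4 n1354
theorem D1848 : act 4 n1354 = n1848 := rfl
theorem F7599 : act 0 n1848 = n1359 := d3_1 D1848 (iv D1359) (iv F5699)
theorem F7600 : act 3 n1848 = n1367 := d21_1 D1848 (iv D1367) F4313 (iv F4279) (iv F5700)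
theorem F7601 : act 5 n1848 = n1848 := d26_2 D1354 D1848 (iv D1848) (iv D1354) F4274
theorem F7602 : act 8 n1848 = n1848 := d29_2 F5701 D1848 (iv D1848)
def n1849 : Q := act 6 n1354
theorem D1849 : act 6 n1354 = n1849 := rfl
theorem F7603 : act 0 n1849 = n1360 := d5_1 D1849 (iv D1360) (iv F5699)
theorem F7604 : act 3 n1849 = n1356 := d23_1 D1849 (iv D1356) (iv F5700)
theorem F7605 : act 5 n1849 = n1849 := d30_1 D1849 (iv D1849) (iv D1354) F4275 D1354
theorem F7606 : act 8 n1849 = n1849 := d34_2 F5701 D1849 (iv D1849)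
def n1850 : Q := act 7 n1354
theorem D1850 : act 7 n1354 = n1850 := rfl
theorem F7607 : act 0 n1850 = n1361 := d6_1 D1850 (iv D1361) (iv F5699)
theorem F7608 : act 5 n1850 = n1355 := d31_1 D1850 (iv D1355) D1354
def n1851 : Q := act 8 n1355
theorem D1851 : act 8 n1355 = n1851 := rfl
theorem F7609 : act 0 n1851 = n1362 := d7_1 D1851 (iv D1362) (iv F5702)
theorem F7610 : act 4 n1851 = n1851 := d29_1 D1851 (iv D1851) F5703
theorem F7611 : act 6 n1851 = n1851 := d34_1 D1851 (iv D1851) F5704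
theorem F7612 : act 7 n1851 = n1851 := d35_1 D1851 (iv D1851) (iv D1355) F4276 D1355
def n1852 : Q := act 4 n1357
theorem D1852 : act 4 n1357 = n1852 := rfl
theorem F7613 : act 1 n1852 = n1852 := d10_1 D1852 (iv D1852) F5710
theorem F7614 : act 2 n1852 = n1359 := d16_1 D1852 (iv D1359) (iv F5711)
theorem F7615 : act 3 n1852 = n1852 := d21_1 D1852 (iv D1852) F5712 F4588 (iv F5712)
theorem F7616 : act 5 n1852 = n1852 := d26_2 D1357 D1852 (iv D1852) (iv D1357) F4283
theorem F7617 : act 8 n1852 = n1852 := d29_2 F5713 D1852 (iv D1852)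
def n1853 : Q := act 6 n1357
theorem D1853 : act 6 n1357 = n1853 := rfl
theorem F7618 : act 1 n1853 = n1853 := d12_1 D1853 (iv D1853) F5710
theorem F7619 : act 2 n1853 = n1360 := d18_1 D1853 (iv D1360) (iv F5711)
theorem F7620 : act 3 n1853 = n1459 := d23_1 D1853 (iv D1459) (iv F5712)
theorem F7621 : act 5 n1853 = n1853 := d30_1 D1853 (iv D1853) (iv D1357) F4284 D1357
theorem F7622 : act 8 n1853 = n1853 := d34_2 F5713 D1853 (iv D1853)
def n1854 : Q := act 7 n1357
theorem D1854 : act 7 n1357 = n1854 := rfl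
theorem F7623 : act 1 n1854 = n1854 := d13_1 D1854 (iv D1854) F5710
theorem F7624 : act 2 n1854 = n1361 := d19_1 D1854 (iv D1361) (iv F5711)
theorem F7625 : act 5 n1854 = n1358 := d31_1 D1854 (iv D1358) D1357
def n1855 : Q := act 3 n1358
theorem D1855 : act 3 n1358 = n1855 := rfl
theorem F7626 : act 1 n1855 = n1855 := d9_1 D1855 (iv D1855) F5714
theorem F7627 : act 6 n1855 = n1855 := d23_2 F5717 D1855 (iv D1855)
theorem F7628 : act 7 n1855 = n1461 := d24_2 D1358 D1855 (iv D1461) (iv D1070) (iv F4282)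
def n1856 : Q := act 8 n1358
theorem D1856 : act 8 n1358 = n1856 := rfl
theorem F7629 : act 1 n1856 = n1856 := d14_1 D1856 (iv D1856) F5714
theorem F7630 : act 2 n1856 = n1362 := d20_1 D1856 (iv D1362) (iv F5715)
theorem F7631 : act 4 n1856 = n1856 := d29_1 D1856 (iv D1856) F5716
theorem F7632 : act 6 n1856 = n1856 := d34_1 D1856 (iv D1856) F5717
theorem F7633 : act 7 n1856 = n1856 := d35_1 D1856 (iv D1856) (iv D1358) F4285 D1358
def n1857 : Q := act 6 n1359
theorem D1857 : act 6 n1359 = n1857 := rfl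
theorem F7635 : act 3 n1857 = n1371 := d23_1 D1857 (iv D1371) (iv F5719)
theorem F7636 : act 4 n1857 = n1360 := d27_1 D1857 (iv D1360) D1359
def n1858 : Q := act 7 n1359
theorem D1858 : act 7 n1359 = n1858 := rfl
theorem F7638 : act 1 n1858 = n1364 := d13_1 D1858 (iv D1364) (iv F5718)
theorem F7639 : act 4 n1858 = n1361 := d28_1 D1858 (iv D1361) D1359
theorem F7640 : act 5 n1858 = n1858 := d31_1 D1858 (iv D1858) F5720
def n1859 : Q := act 7 n1360
theorem D1859 : act 7 n1360 = n1859 := rfl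
theorem F7641 : act 1 n1859 = n1365 := d13_1 D1859 (iv D1365) (iv F5722)
theorem F7642 : act 5 n1859 = n1859 := d31_1 D1859 (iv D1859) F5724
theorem F7643 : act 6 n1859 = n1361 := d33_1 D1859 (iv D1361) D1360
def n1860 : Q := act 8 n1361
theorem D1860 : act 8 n1361 = n1860 := rfl
theorem F7644 : act 1 n1860 = n1366 := d14_1 D1860 (iv D1366) (iv F5726)
theorem F7645 : act 5 n1860 = n1362 := d32_1 D1860 (iv D1362) (iv F5727)
theorem F7646 : act 7 n1860 = n1860 := d35_1 D1860 (iv D1860) (iv D1361) F4288 D1361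
def n1862 : Q := act 7 n1363
theorem D1862 : act 7 n1363 = n1862 := rfl
theorem F7653 : act 4 n1862 = n1365 := d28_1 D1862 (iv D1365) (iv F5734)
theorem F7654 : act 6 n1862 = n1364 := d33_1 D1862 (iv D1364) D1363
def n1863 : Q := act 3 n1364
theorem D1863 : act 3 n1364 = n1863 := rfl
theorem F7655 : act 5 n1863 = n1863 := d22_2 F5738 D1863 (iv D1863)
theorem F7656 : act 7 n1863 = n1377 := d24_2 D1364 D1863 (iv D1377) (iv D1009) (iv F4298)
def n1864 : Q := act 8 n1364
theorem D1864 : act 8 n1364 = n1864 := rfl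
theorem F7657 : act 2 n1864 = n1864 := d20_1 D1864 (iv D1864) F5736
theorem F7658 : act 4 n1864 = n1366 := d29_1 D1864 (iv D1366) (iv F5737)
theorem F7659 : act 5 n1864 = n1864 := d32_1 D1864 (iv D1864) F5738
theorem F7660 : act 7 n1864 = n1864 := d35_1 D1864 (iv D1864) (iv D1364) F4300 D1364
def n1865 : Q := act 8 n1365
theorem D1865 : act 8 n1365 = n1865 := rfl
theorem F7661 : act 2 n1865 = n1865 := d20_1 D1865 (iv D1865) F5739
theorem F7662 : act 5 n1865 = n1865 := d32_1 D1865 (iv D1865) F5740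
theorem F7663 : act 6 n1865 = n1366 := d34_1 D1865 (iv D1366) (iv F5741)
theorem F7664 : act 7 n1865 = n1865 := d35_1 D1865 (iv D1865) (iv D1365) F4304 D1365
def n1866 : Q := act 6 n1367
theorem D1866 : act 6 n1367 = n1866 := rfl
theorem F7667 : act 4 n1866 = n1368 := d27_1 D1866 (iv D1368) D1367
def n1867 : Q := act 7 n1367
theorem D1867 : act 7 n1367 = n1867 := rfl
theorem F7669 : act 0 n1867 = n1372 := d6_1 D1867 (iv D1372) (iv F5745)
theorem F7670 : act 2 n1867 = n1867 := d19_1 D1867 (iv D1867) F5746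
theorem F7671 : act 4 n1867 = n1369 := d28_1 D1867 (iv D1369) D1367
theorem F7672 : act 5 n1867 = n1867 := d31_1 D1867 (iv D1867) F5747
def n1868 : Q := act 7 n1368
theorem D1868 : act 7 n1368 = n1868 := rfl
theorem F7675 : act 5 n1868 = n1573 := d31_1 D1868 (iv D1573) (iv F5752)
theorem F7676 : act 6 n1868 = n1369 := d33_1 D1868 (iv D1369) D1368
def n1869 : Q := act 8 n1369
theorem D1869 : act 8 n1369 = n1869 := rfl
theorem F7679 : act 5 n1869 = n1370 := d32_1 D1869 (iv D1370) (iv F5756)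
def n1871 : Q := act 7 n1371
theorem D1871 : act 7 n1371 = n1871 := rfl
theorem F7688 : act 4 n1871 = n1373 := d28_1 D1871 (iv D1373) (iv F5764)
theorem F7689 : act 6 n1871 = n1372 := d33_1 D1871 (iv D1372) D1371
def n1872 : Q := act 3 n1372
theorem D1872 : act 3 n1372 = n1872 := rfl
theorem F7690 : act 1 n1872 = n1377 := d9_1 D1872 (iv D1377) (iv F5766)
theorem F7691 : act 5 n1872 = n1872 := d22_2 F5769 D1872 (iv D1872)
def n1876 : Q := act 3 n1376
theorem D1876 : act 3 n1376 = n1876 := rfl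
theorem F7706 : act 6 n1876 = n1377 := d23_2 (iv F5784) D1876 (iv D1377)
def n1878 : Q := act 2 n1377
theorem D1878 : act 2 n1377 = n1878 := rfl
theorem F7711 : act 3 n1878 = n1383 := d15_2 D1377 D1878 (iv D1383) (iv D1014) (iv F4343)
theorem F7712 : act 5 n1878 = n1878 := d17_2 F5785 D1878 (iv D1878)
def n1882 : Q := act 2 n1381
theorem D1882 : act 2 n1381 = n1882 := rfl
theorem F7725 : act 6 n1882 = n1383 := d18_2 (iv F5800) D1882 (iv D1383)
def n1884 : Q := act 1 n1383
theorem D1884 : act 1 n1383 = n1884 := rfl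
theorem F7731 : act 2 n1884 = n1884 := d8_2 D1383 D1884 (iv D1884) (iv D1383) F4360
theorem F7732 : act 4 n1884 = n1884 := d10_2 F5806 D1884 (iv D1884)
theorem F7733 : act 5 n1884 = n1884 := d11_2 F5807 D1884 (iv D1884)
theorem F7734 : act 7 n1884 = n1884 := d13_2 F5808 D1884 (iv D1884)
def n1887 : Q := act 0 n1385
theorem D1887 : act 0 n1385 = n1887 := rfl
theorem F7743 : act 1 n1887 = n1887 := d0_2 D1385 D1887 (iv D1887) (iv D1385) F4373
theorem F7744 : act 2 n1887 = n1887 := d1_2 F5813 D1887 (iv D1887)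
theorem F7745 : act 3 n1887 = n1388 := d2_2 (iv F5814) D1887 (iv D1388)
theorem F7746 : act 5 n1887 = n1887 := d4_2 F5815 D1887 (iv D1887)
theorem F7747 : act 6 n1887 = n1887 := d5_2 F5816 D1887 (iv D1887)
theorem F7748 : act 7 n1887 = n1887 := d6_2 F5817 D1887 (iv D1887)
theorem F7749 : act 8 n1887 = n1887 := d7_2 F5818 D1887 (iv D1887)
def n1888 : Q := act 4 n1385
theorem D1888 : act 4 n1385 = n1888 := rfl
theorem F7750 : act 1 n1888 = n1386 := d10_1 D1888 (iv D1386) D1385
theorem F7751 : act 2 n1888 = n1888 := d16_1 D1888 (iv D1888) F5813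
theorem F7752 : act 6 n1888 = n1888 := d27_2 F5816 D1888 (iv D1888)
theorem F7753 : act 7 n1888 = n1888 := d28_2 F5817 D1888 (iv D1888)
theorem F7754 : act 8 n1888 = n1888 := d29_2 F5818 D1888 (iv D1888)
def n1889 : Q := act 3 n1386
theorem D1889 : act 3 n1386 = n1889 := rfl
theorem F7755 : act 0 n1889 = n1889 := d2_1 D1889 (iv D1889) F5819
theorem F7756 : act 2 n1889 = n1889 := d15_1 D1889 (iv D1889) F5820 F4381 (iv F5820)
theorem F7757 : act 4 n1889 = n1390 := d21_2 D1386 D1889 (iv D1390) (iv D1020) (iv F4374)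
theorem F7758 : act 6 n1889 = n1889 := d23_2 F5821 D1889 (iv D1889)
theorem F7759 : act 8 n1889 = n1889 := d25_2 F5823 D1889 (iv D1889)
def n1890 : Q := act 5 n1386
theorem D1890 : act 5 n1386 = n1890 := rfl
theorem F7760 : act 0 n1890 = n1890 := d4_1 D1890 (iv D1890) F5819
theorem F7761 : act 2 n1890 = n1387 := d17_1 D1890 (iv D1387) (iv F5820)
theorem F7762 : act 4 n1890 = n1890 := d26_1 D1890 (iv D1890) (iv D1386) F4375 D1386
theorem F7763 : act 7 n1890 = n1890 := d31_2 F5822 D1890 (iv D1890)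
theorem F7764 : act 8 n1890 = n1890 := d32_2 F5823 D1890 (iv D1890)
def n1891 : Q := act 6 n1387
theorem D1891 : act 6 n1387 = n1891 := rfl
theorem F7765 : act 0 n1891 = n1891 := d5_1 D1891 (iv D1891) F5824
theorem F7766 : act 1 n1891 = n1891 := d12_1 D1891 (iv D1891) F5825
theorem F7767 : act 3 n1891 = n1891 := d23_1 D1891 (iv D1891) F5826
theorem F7768 : act 4 n1891 = n1891 := d27_1 D1891 (iv D1891) F5827
theorem F7769 : act 5 n1891 = n1891 := d30_1 D1891 (iv D1891) (iv D1387) F4382 D1387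
theorem F7770 : act 7 n1891 = n1891 := d33_2 F5828 D1891 (iv D1891)
theorem F7771 : act 8 n1891 = n1891 := d34_2 F5829 D1891 (iv D1891)
def n1892 : Q := act 4 n1388
theorem D1892 : act 4 n1388 = n1892 := rfl
theorem F7772 : act 0 n1892 = n1389 := d3_1 D1892 (iv D1389) D1388
theorem F7773 : act 1 n1892 = n1892 := d10_1 D1892 (iv D1892) F5830
theorem F7774 : act 6 n1892 = n1892 := d27_2 F5832 D1892 (iv D1892)
theorem F7775 : act 7 n1892 = n1393 := d28_2 (iv F5833) D1892 (iv D1393)
theorem F7776 : act 8 n1892 = n1892 := d29_2 F5834 D1892 (iv D1892)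
def n1893 : Q := act 3 n1389
theorem D1893 : act 3 n1389 = n1893 := rfl
theorem F7777 : act 1 n1893 = n1390 := d9_1 D1893 (iv D1390) (iv F5835)
theorem F7778 : act 6 n1893 = n1893 := d23_2 F5836 D1893 (iv D1893)
theorem F7779 : act 8 n1893 = n1893 := d25_2 F5838 D1893 (iv D1893)
def n1894 : Q := act 5 n1389
theorem D1894 : act 5 n1389 = n1894 := rfl
theorem F7780 : act 1 n1894 = n1391 := d11_1 D1894 (iv D1391) (iv F5835)
theorem F7781 : act 4 n1894 = n1894 := d26_1 D1894 (iv D1894) (iv D1389) F4385 D1389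
theorem F7782 : act 7 n1894 = n1395 := d31_2 (iv F5837) D1894 (iv D1395)
theorem F7783 : act 8 n1894 = n1894 := d32_2 F5838 D1894 (iv D1894)
def n1895 : Q := act 5 n1390
theorem D1895 : act 5 n1390 = n1895 := rfl
theorem F7784 : act 0 n1895 = n1895 := d4_1 D1895 (iv D1895) F5839
theorem F7785 : act 2 n1895 = n1895 := d17_1 D1895 (iv D1895) F5840
theorem F7786 : act 3 n1895 = n1391 := d22_1 D1895 (iv D1391) D1390
theorem F7787 : act 8 n1895 = n1895 := d32_2 F5842 D1895 (iv D1895)
def n1896 : Q := act 7 n1390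
theorem D1896 : act 7 n1390 = n1896 := rfl
theorem F7788 : act 0 n1896 = n1896 := d6_1 D1896 (iv D1896) F5839
theorem F7789 : act 2 n1896 = n1896 := d19_1 D1896 (iv D1896) F5840
theorem F7790 : act 3 n1896 = n1397 := d24_1 D1896 (iv D1397) (iv D1024) (iv F4392) D1390
theorem F7791 : act 6 n1896 = n1896 := d33_1 D1896 (iv D1896) F5841
def n1897 : Q := act 6 n1391
theorem D1897 : act 6 n1391 = n1897 := rfl
theorem F7792 : act 0 n1897 = n1897 := d5_1 D1897 (iv D1897) F5843
theorem F7793 : act 2 n1897 = n1392 := d18_1 D1897 (iv D1392) (iv F5844)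
theorem F7794 : act 4 n1897 = n1897 := d27_1 D1897 (iv D1897) F5845
theorem F7795 : act 5 n1897 = n1897 := d30_1 D1897 (iv D1897) (iv D1391) F4391 D1391
theorem F7796 : act 7 n1897 = n1398 := d33_2 (iv F5846) D1897 (iv D1398)
theorem F7797 : act 8 n1897 = n1897 := d34_2 F5847 D1897 (iv D1897)
def n1898 : Q := act 3 n1393
theorem D1898 : act 3 n1393 = n1898 := rfl
theorem F7798 : act 0 n1898 = n1394 := d2_1 D1898 (iv D1394) (iv F5854)
theorem F7799 : act 1 n1898 = n1898 := d9_1 D1898 (iv D1898) F5855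
theorem F7800 : act 4 n1898 = n1898 := d21_2 D1393 D1898 (iv D1898) (iv D1393) F4400
theorem F7801 : act 6 n1898 = n1898 := d23_2 F5856 D1898 (iv D1898)
theorem F7802 : act 8 n1898 = n1399 := d25_2 (iv F5857) D1898 (iv D1399)
def n1899 : Q := act 5 n1393
theorem D1899 : act 5 n1393 = n1899 := rfl
theorem F7803 : act 0 n1899 = n1395 := d4_1 D1899 (iv D1395) (iv F5854)
theorem F7804 : act 1 n1899 = n1899 := d11_1 D1899 (iv D1899) F5855
theorem F7805 : act 4 n1899 = n1899 := d26_1 D1899 (iv D1899) (iv D1393) F4401 D1393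
theorem F7806 : act 8 n1899 = n1400 := d32_2 (iv F5857) D1899 (iv D1400)
def n1900 : Q := act 2 n1394
theorem D1900 : act 2 n1394 = n1900 := rfl
theorem F7807 : act 1 n1900 = n1411 := d8_1 D1900 (iv D1411) F4449 (iv F4408) (iv F5858)
theorem F7808 : act 4 n1900 = n1900 := d16_2 F5859 D1900 (iv D1900)
theorem F7809 : act 6 n1900 = n1900 := d18_2 F5860 D1900 (iv D1900)
theorem F7810 : act 8 n1900 = n1401 := d20_2 (iv F5861) D1900 (iv D1401)
def n1901 : Q := act 5 n1394
theorem D1901 : act 5 n1394 = n1901 := rfl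
theorem F7811 : act 1 n1901 = n1396 := d11_1 D1901 (iv D1396) (iv F5858)
theorem F7812 : act 3 n1901 = n1395 := d22_1 D1901 (iv D1395) D1394
theorem F7813 : act 8 n1901 = n1402 := d32_2 (iv F5861) D1901 (iv D1402)
def n1902 : Q := act 7 n1394
theorem D1902 : act 7 n1394 = n1902 := rfl
theorem F7814 : act 1 n1902 = n1397 := d13_1 D1902 (iv D1397) (iv F5858)
theorem F7815 : act 4 n1902 = n1902 := d28_1 D1902 (iv D1902) F5859
theorem F7816 : act 6 n1902 = n1902 := d33_1 D1902 (iv D1902) F5860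
def n1903 : Q := act 6 n1395
theorem D1903 : act 6 n1395 = n1903 := rfl
theorem F7817 : act 1 n1903 = n1398 := d12_1 D1903 (iv D1398) (iv F5862)
theorem F7818 : act 4 n1903 = n1903 := d27_1 D1903 (iv D1903) F5863
theorem F7819 : act 5 n1903 = n1903 := d30_1 D1903 (iv D1903) (iv D1395) F4405 D1395
theorem F7820 : act 8 n1903 = n1404 := d34_2 (iv F5864) D1903 (iv D1404)
def n1904 : Q := act 4 n1396
theorem D1904 : act 4 n1396 = n1904 := rfl
theorem F7821 : act 0 n1904 = n1904 := d3_1 D1904 (iv D1904) F5865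
theorem F7822 : act 2 n1904 = n1415 := d16_1 D1904 (iv D1415) (iv F5866)
theorem F7823 : act 3 n1904 = n1904 := d21_1 D1904 (iv D1904) F5867 F4414 (iv F5867)
theorem F7824 : act 5 n1904 = n1904 := d26_2 D1396 D1904 (iv D1904) (iv D1396) F4409
theorem F7825 : act 8 n1904 = n1405 := d29_2 (iv F5868) D1904 (iv D1405)
def n1905 : Q := act 6 n1396
theorem D1905 : act 6 n1396 = n1905 := rfl
theorem F7826 : act 0 n1905 = n1905 := d5_1 D1905 (iv D1905) F5865
theorem F7827 : act 2 n1905 = n1416 := d18_1 D1905 (iv D1416) (iv F5866)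
theorem F7828 : act 3 n1905 = n1398 := d23_1 D1905 (iv D1398) (iv F5867)
theorem F7829 : act 5 n1905 = n1905 := d30_1 D1905 (iv D1905) (iv D1396) F4410 D1396
theorem F7830 : act 8 n1905 = n1406 := d34_2 (iv F5868) D1905 (iv D1406)
def n1906 : Q := act 7 n1396
theorem D1906 : act 7 n1396 = n1906 := rfl
theorem F7831 : act 0 n1906 = n1906 := d6_1 D1906 (iv D1906) F5865
theorem F7832 : act 2 n1906 = n1417 := d19_1 D1906 (iv D1417) (iv F5866)
theorem F7833 : act 5 n1906 = n1397 := d31_1 D1906 (iv D1397) D1396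
def n1907 : Q := act 8 n1397
theorem D1907 : act 8 n1397 = n1907 := rfl
theorem F7834 : act 0 n1907 = n1907 := d7_1 D1907 (iv D1907) F5869
theorem F7835 : act 2 n1907 = n1418 := d20_1 D1907 (iv D1418) (iv F5870)
theorem F7836 : act 4 n1907 = n1907 := d29_1 D1907 (iv D1907) F5871
theorem F7837 : act 6 n1907 = n1907 := d34_1 D1907 (iv D1907) F5872
theorem F7838 : act 7 n1907 = n1408 := d35_1 D1907 (iv D1408) (iv D1031) (iv F4411) D1397
def n1908 : Q := act 2 n1399
theorem D1908 : act 2 n1399 = n1908 := rfl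
theorem F7839 : act 0 n1908 = n1401 := d1_1 D1908 (iv D1401) (iv F5878)
theorem F7840 : act 4 n1908 = n1908 := d16_2 F5880 D1908 (iv D1908)
theorem F7841 : act 6 n1908 = n1908 := d18_2 F5881 D1908 (iv D1908)
def n1909 : Q := act 5 n1399
theorem D1909 : act 5 n1399 = n1909 := rfl
theorem F7842 : act 0 n1909 = n1402 := d4_1 D1909 (iv D1402) (iv F5878)
theorem F7843 : act 1 n1909 = n1909 := d11_1 D1909 (iv D1909) F5879
theorem F7844 : act 3 n1909 = n1400 := d22_1 D1909 (iv D1400) D1399
def n1910 : Q := act 7 n1399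
theorem D1910 : act 7 n1399 = n1910 := rfl
theorem F7845 : act 0 n1910 = n1403 := d6_1 D1910 (iv D1403) (iv F5878)
theorem F7846 : act 1 n1910 = n1910 := d13_1 D1910 (iv D1910) F5879
theorem F7847 : act 3 n1910 = n1910 := d24_1 D1910 (iv D1910) (iv D1399) F4424 D1399
theorem F7848 : act 4 n1910 = n1910 := d28_1 D1910 (iv D1910) F5880
theorem F7849 : act 6 n1910 = n1910 := d33_1 D1910 (iv D1910) F5881
def n1911 : Q := act 6 n1400
theorem D1911 : act 6 n1400 = n1911 := rfl
theorem F7850 : act 0 n1911 = n1404 := d5_1 D1911 (iv D1404) (iv F5882)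
theorem F7851 : act 1 n1911 = n1911 := d12_1 D1911 (iv D1911) F5883
theorem F7852 : act 4 n1911 = n1911 := d27_1 D1911 (iv D1911) F5884
theorem F7853 : act 5 n1911 = n1911 := d30_1 D1911 (iv D1911) (iv D1400) F4423 D1400
theorem F7854 : act 7 n1911 = n1911 := d33_2 F5885 D1911 (iv D1911)
def n1912 : Q := act 5 n1401
theorem D1912 : act 5 n1401 = n1912 := rfl
theorem F7855 : act 1 n1912 = n1423 := d11_1 D1912 (iv D1423) (iv F5886)
theorem F7856 : act 2 n1912 = n1402 := d17_1 D1912 (iv D1402) D1401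
def n1913 : Q := act 7 n1401
theorem D1913 : act 7 n1401 = n1913 := rfl
theorem F7857 : act 1 n1913 = n1424 := d13_1 D1913 (iv D1424) (iv F5886)
theorem F7858 : act 2 n1913 = n1403 := d19_1 D1913 (iv D1403) D1401
theorem F7859 : act 4 n1913 = n1913 := d28_1 D1913 (iv D1913) F5887
theorem F7860 : act 6 n1913 = n1913 := d33_1 D1913 (iv D1913) F5888
def n1914 : Q := act 4 n1402
theorem D1914 : act 4 n1402 = n1914 := rfl
theorem F7861 : act 1 n1914 = n1405 := d10_1 D1914 (iv D1405) (iv F5889)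
theorem F7862 : act 3 n1914 = n1914 := d21_1 D1914 (iv D1914) F5890 F4429 (iv F5890)
theorem F7863 : act 5 n1914 = n1914 := d26_2 D1402 D1914 (iv D1914) (iv D1402) F4426
def n1915 : Q := act 6 n1402
theorem D1915 : act 6 n1402 = n1915 := rfl
theorem F7864 : act 1 n1915 = n1406 := d12_1 D1915 (iv D1406) (iv F5889)
theorem F7865 : act 3 n1915 = n1404 := d23_1 D1915 (iv D1404) (iv F5890)
theorem F7866 : act 5 n1915 = n1915 := d30_1 D1915 (iv D1915) (iv D1402) F4427 D1402
def n1916 : Q := act 7 n1402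
theorem D1916 : act 7 n1402 = n1916 := rfl
theorem F7867 : act 1 n1916 = n1407 := d13_1 D1916 (iv D1407) (iv F5889)
theorem F7868 : act 3 n1916 = n1916 := d24_1 D1916 (iv D1916) F5890 F4430 (iv F5890)
theorem F7869 : act 5 n1916 = n1403 := d31_1 D1916 (iv D1403) D1402
def n1917 : Q := act 8 n1403
theorem D1917 : act 8 n1403 = n1917 := rfl
theorem F7870 : act 1 n1917 = n1408 := d14_1 D1917 (iv D1408) (iv F5891)
theorem F7871 : act 3 n1917 = n1917 := d25_1 D1917 (iv D1917) F5892
theorem F7872 : act 4 n1917 = n1917 := d29_1 D1917 (iv D1917) F5893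
theorem F7873 : act 6 n1917 = n1917 := d34_1 D1917 (iv D1917) F5894
def n1918 : Q := act 6 n1405
theorem D1918 : act 6 n1405 = n1918 := rfl
theorem F7874 : act 0 n1918 = n1918 := d5_1 D1918 (iv D1918) F5899
theorem F7875 : act 2 n1918 = n1429 := d18_1 D1918 (iv D1429) (iv F5900)
theorem F7876 : act 3 n1918 = n1918 := d23_1 D1918 (iv D1918) F5901
theorem F7877 : act 4 n1918 = n1406 := d27_1 D1918 (iv D1406) D1405
def n1919 : Q := act 7 n1405
theorem D1919 : act 7 n1405 = n1919 := rfl
theorem F7878 : act 0 n1919 = n1919 := d6_1 D1919 (iv D1919) F5899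
theorem F7879 : act 2 n1919 = n1430 := d19_1 D1919 (iv D1430) (iv F5900)
theorem F7880 : act 4 n1919 = n1407 := d28_1 D1919 (iv D1407) D1405
theorem F7881 : act 5 n1919 = n1919 := d31_1 D1919 (iv D1919) F5902
def n1920 : Q := act 7 n1406
theorem D1920 : act 7 n1406 = n1920 := rfl
theorem F7882 : act 0 n1920 = n1920 := d6_1 D1920 (iv D1920) F5903
theorem F7883 : act 2 n1920 = n1431 := d19_1 D1920 (iv D1431) (iv F5904)
theorem F7884 : act 3 n1920 = n1920 := d24_1 D1920 (iv D1920) F5905 F4443 (iv F5905)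
theorem F7885 : act 5 n1920 = n1920 := d31_1 D1920 (iv D1920) F5906
theorem F7886 : act 6 n1920 = n1407 := d33_1 D1920 (iv D1407) D1406
def n1921 : Q := act 8 n1407
theorem D1921 : act 8 n1407 = n1921 := rfl
theorem F7887 : act 0 n1921 = n1921 := d7_1 D1921 (iv D1921) F5907
theorem F7888 : act 2 n1921 = n1432 := d20_1 D1921 (iv D1432) (iv F5908)
theorem F7889 : act 3 n1921 = n1921 := d25_1 D1921 (iv D1921) F5909
theorem F7890 : act 5 n1921 = n1408 := d32_1 D1921 (iv D1408) (iv F5910)
def n1922 : Q := act 2 n1409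
theorem D1922 : act 2 n1409 = n1922 := rfl
theorem F7891 : act 0 n1922 = n1411 := d1_1 D1922 (iv D1411) (iv F5916)
theorem F7892 : act 4 n1922 = n1922 := d16_2 F5918 D1922 (iv D1922)
theorem F7893 : act 6 n1922 = n1922 := d18_2 F5919 D1922 (iv D1922)
theorem F7894 : act 8 n1922 = n1419 := d20_2 (iv F5920) D1922 (iv D1419)
def n1923 : Q := act 5 n1409
theorem D1923 : act 5 n1409 = n1923 := rfl
theorem F7895 : act 0 n1923 = n1412 := d4_1 D1923 (iv D1412) (iv F5916)
theorem F7896 : act 1 n1923 = n1923 := d11_1 D1923 (iv D1923) F5917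
theorem F7897 : act 3 n1923 = n1410 := d22_1 D1923 (iv D1410) D1409
theorem F7898 : act 8 n1923 = n1420 := d32_2 (iv F5920) D1923 (iv D1420)
def n1924 : Q := act 7 n1409
theorem D1924 : act 7 n1409 = n1924 := rfl
theorem F7899 : act 0 n1924 = n1413 := d6_1 D1924 (iv D1413) (iv F5916)
theorem F7900 : act 1 n1924 = n1924 := d13_1 D1924 (iv D1924) F5917
theorem F7901 : act 3 n1924 = n1924 := d24_1 D1924 (iv D1924) (iv D1409) F4447 D1409
theorem F7902 : act 4 n1924 = n1924 := d28_1 D1924 (iv D1924) F5918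
theorem F7903 : act 6 n1924 = n1924 := d33_1 D1924 (iv D1924) F5919
def n1925 : Q := act 6 n1410
theorem D1925 : act 6 n1410 = n1925 := rfl
theorem F7904 : act 0 n1925 = n1414 := d5_1 D1925 (iv D1414) (iv F5921)
theorem F7905 : act 1 n1925 = n1925 := d12_1 D1925 (iv D1925) F5922
theorem F7906 : act 4 n1925 = n1436 := d27_1 D1925 (iv D1436) (iv F5923)
theorem F7907 : act 5 n1925 = n1925 := d30_1 D1925 (iv D1925) (iv D1410) F4446 D1410
theorem F7908 : act 7 n1925 = n1925 := d33_2 F5924 D1925 (iv D1925)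
theorem F7909 : act 8 n1925 = n1422 := d34_2 (iv F5925) D1925 (iv D1422)
def n1926 : Q := act 5 n1411
theorem D1926 : act 5 n1411 = n1926 := rfl
theorem F7910 : act 2 n1926 = n1412 := d17_1 D1926 (iv D1412) D1411
theorem F7911 : act 8 n1926 = n1423 := d32_2 (iv F5928) D1926 (iv D1423)
def n1927 : Q := act 7 n1411
theorem D1927 : act 7 n1411 = n1927 := rfl
theorem F7912 : act 2 n1927 = n1413 := d19_1 D1927 (iv D1413) D1411
theorem F7913 : act 4 n1927 = n1927 := d28_1 D1927 (iv D1927) F5926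
theorem F7914 : act 6 n1927 = n1927 := d33_1 D1927 (iv D1927) F5927
def n1928 : Q := act 4 n1412
theorem D1928 : act 4 n1412 = n1928 := rfl
theorem F7915 : act 1 n1928 = n1415 := d10_1 D1928 (iv D1415) (iv F5929)
theorem F7916 : act 3 n1928 = n1439 := d21_1 D1928 (iv D1439) F4517 (iv F4454) (iv F5930)
theorem F7917 : act 5 n1928 = n1928 := d26_2 D1412 D1928 (iv D1928) (iv D1412) F4450
theorem F7918 : act 8 n1928 = n1425 := d29_2 (iv F5931) D1928 (iv D1425)
def n1929 : Q := act 6 n1412
theorem D1929 : act 6 n1412 = n1929 := rfl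
theorem F7919 : act 1 n1929 = n1416 := d12_1 D1929 (iv D1416) (iv F5929)
theorem F7920 : act 3 n1929 = n1414 := d23_1 D1929 (iv D1414) (iv F5930)
theorem F7921 : act 5 n1929 = n1929 := d30_1 D1929 (iv D1929) (iv D1412) F4451 D1412
theorem F7922 : act 8 n1929 = n1426 := d34_2 (iv F5931) D1929 (iv D1426)
def n1930 : Q := act 7 n1412
theorem D1930 : act 7 n1412 = n1930 := rfl
theorem F7923 : act 1 n1930 = n1417 := d13_1 D1930 (iv D1417) (iv F5929)
theorem F7924 : act 3 n1930 = n1930 := d24_1 D1930 (iv D1930) F5930 F4455 (iv F5930)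
theorem F7925 : act 5 n1930 = n1413 := d31_1 D1930 (iv D1413) D1412
def n1931 : Q := act 8 n1413
theorem D1931 : act 8 n1413 = n1931 := rfl
theorem F7926 : act 1 n1931 = n1418 := d14_1 D1931 (iv D1418) (iv F5932)
theorem F7927 : act 3 n1931 = n1931 := d25_1 D1931 (iv D1931) F5933
theorem F7928 : act 4 n1931 = n1931 := d29_1 D1931 (iv D1931) F5934
theorem F7929 : act 6 n1931 = n1931 := d34_1 D1931 (iv D1931) F5935
theorem F7930 : act 7 n1931 = n1428 := d35_1 D1931 (iv D1428) (iv D1043) (iv F4452) D1413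
def n1932 : Q := act 6 n1415
theorem D1932 : act 6 n1415 = n1932 := rfl
theorem F7933 : act 4 n1932 = n1416 := d27_1 D1932 (iv D1416) D1415
theorem F7934 : act 8 n1932 = n1429 := d34_2 (iv F5944) D1932 (iv D1429)
def n1933 : Q := act 7 n1415
theorem D1933 : act 7 n1415 = n1933 := rfl
def n1934 : Q := act 7 n1416
theorem D1934 : act 7 n1416 = n1934 := rfl
theorem F7941 : act 6 n1934 = n1417 := d33_1 D1934 (iv D1417) D1416
def n1935 : Q := act 8 n1417
theorem D1935 : act 8 n1417 = n1935 := rfl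
theorem F7945 : act 7 n1935 = n1432 := d35_1 D1935 (iv D1432) (iv D1047) (iv F4459) D1417
def n1936 : Q := act 1 n1419
theorem D1936 : act 1 n1419 = n1936 := rfl
theorem F7946 : act 2 n1936 = n1936 := d8_2 D1419 D1936 (iv D1936) (iv D1419) F4471
theorem F7947 : act 4 n1936 = n1936 := d10_2 F5958 D1936 (iv D1936)
theorem F7948 : act 6 n1936 = n1936 := d12_2 F5959 D1936 (iv D1936)
def n1937 : Q := act 5 n1419
theorem D1937 : act 5 n1419 = n1937 := rfl
theorem F7949 : act 0 n1937 = n1423 := d4_1 D1937 (iv D1423) (iv F5957)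
theorem F7950 : act 2 n1937 = n1420 := d17_1 D1937 (iv D1420) D1419
def n1938 : Q := act 7 n1419
theorem D1938 : act 7 n1419 = n1938 := rfl
theorem F7951 : act 0 n1938 = n1424 := d6_1 D1938 (iv D1424) (iv F5957)
theorem F7952 : act 2 n1938 = n1421 := d19_1 D1938 (iv D1421) D1419
theorem F7953 : act 4 n1938 = n1938 := d28_1 D1938 (iv D1938) F5958
theorem F7954 : act 6 n1938 = n1938 := d33_1 D1938 (iv D1938) F5959
def n1939 : Q := act 4 n1420
theorem D1939 : act 4 n1420 = n1939 := rfl
theorem F7955 : act 0 n1939 = n1425 := d3_1 D1939 (iv D1425) (iv F5960)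
theorem F7956 : act 1 n1939 = n1939 := d10_1 D1939 (iv D1939) F5961
theorem F7957 : act 3 n1939 = n1447 := d21_1 D1939 (iv D1447) F4548 (iv F4476) (iv F5962)
theorem F7958 : act 5 n1939 = n1939 := d26_2 D1420 D1939 (iv D1939) (iv D1420) F4472
def n1940 : Q := act 6 n1420
theorem D1940 : act 6 n1420 = n1940 := rfl
theorem F7959 : act 0 n1940 = n1426 := d5_1 D1940 (iv D1426) (iv F5960)
theorem F7960 : act 1 n1940 = n1940 := d12_1 D1940 (iv D1940) F5961
theorem F7961 : act 3 n1940 = n1422 := d23_1 D1940 (iv D1422) (iv F5962)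
theorem F7962 : act 5 n1940 = n1940 := d30_1 D1940 (iv D1940) (iv D1420) F4473 D1420
def n1941 : Q := act 7 n1420
theorem D1941 : act 7 n1420 = n1941 := rfl
theorem F7963 : act 0 n1941 = n1427 := d6_1 D1941 (iv D1427) (iv F5960)
theorem F7964 : act 1 n1941 = n1941 := d13_1 D1941 (iv D1941) F5961
theorem F7965 : act 3 n1941 = n1457 := d24_1 D1941 (iv D1457) F4574 (iv F4477) (iv F5962)
theorem F7966 : act 5 n1941 = n1421 := d31_1 D1941 (iv D1421) D1420
def n1942 : Q := act 8 n1421
theorem D1942 : act 8 n1421 = n1942 := rfl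
theorem F7967 : act 0 n1942 = n1428 := d7_1 D1942 (iv D1428) (iv F5963)
theorem F7968 : act 1 n1942 = n1942 := d14_1 D1942 (iv D1942) F5964
theorem F7969 : act 3 n1942 = n1458 := d25_1 D1942 (iv D1458) (iv F5965)
theorem F7970 : act 4 n1942 = n1942 := d29_1 D1942 (iv D1942) F5966
theorem F7971 : act 6 n1942 = n1942 := d34_1 D1942 (iv D1942) F5967
def n1943 : Q := act 4 n1423
theorem D1943 : act 4 n1423 = n1943 := rfl
theorem F7972 : act 2 n1943 = n1425 := d16_1 D1943 (iv D1425) (iv F5973)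
theorem F7973 : act 5 n1943 = n1943 := d26_2 D1423 D1943 (iv D1943) (iv D1423) F4478
def n1944 : Q := act 6 n1423
theorem D1944 : act 6 n1423 = n1944 := rfl
theorem F7974 : act 2 n1944 = n1426 := d18_1 D1944 (iv D1426) (iv F5973)
theorem F7975 : act 5 n1944 = n1944 := d30_1 D1944 (iv D1944) (iv D1423) F4479 D1423
def n1945 : Q := act 7 n1423
theorem D1945 : act 7 n1423 = n1945 := rfl
theorem F7976 : act 2 n1945 = n1427 := d19_1 D1945 (iv D1427) (iv F5973)
theorem F7977 : act 5 n1945 = n1424 := d31_1 D1945 (iv D1424) D1423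
def n1946 : Q := act 3 n1424
theorem D1946 : act 3 n1424 = n1946 := rfl
theorem F7978 : act 2 n1946 = n1461 := d15_1 D1946 (iv D1461) F4591 (iv F4483) (iv F5974)
theorem F7979 : act 6 n1946 = n1946 := d23_2 F5976 D1946 (iv D1946)
def n1947 : Q := act 8 n1424
theorem D1947 : act 8 n1424 = n1947 := rfl
theorem F7980 : act 2 n1947 = n1428 := d20_1 D1947 (iv D1428) (iv F5974)
theorem F7981 : act 4 n1947 = n1947 := d29_1 D1947 (iv D1947) F5975
theorem F7982 : act 6 n1947 = n1947 := d34_1 D1947 (iv D1947) F5976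
def n1948 : Q := act 6 n1425
theorem D1948 : act 6 n1425 = n1948 := rfl
theorem F7983 : act 1 n1948 = n1429 := d12_1 D1948 (iv D1429) (iv F5977)
theorem F7984 : act 3 n1948 = n1451 := d23_1 D1948 (iv D1451) (iv F5978)
theorem F7985 : act 4 n1948 = n1426 := d27_1 D1948 (iv D1426) D1425
def n1949 : Q := act 7 n1425
theorem D1949 : act 7 n1425 = n1949 := rfl
theorem F7986 : act 1 n1949 = n1430 := d13_1 D1949 (iv D1430) (iv F5977)
theorem F7987 : act 3 n1949 = n1949 := d24_1 D1949 (iv D1949) F5978 F4559 (iv F5978)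
theorem F7988 : act 4 n1949 = n1427 := d28_1 D1949 (iv D1427) D1425
theorem F7989 : act 5 n1949 = n1949 := d31_1 D1949 (iv D1949) F5979
def n1950 : Q := act 7 n1426
theorem D1950 : act 7 n1426 = n1950 := rfl
theorem F7990 : act 1 n1950 = n1431 := d13_1 D1950 (iv D1431) (iv F5980)
theorem F7991 : act 3 n1950 = n1463 := d24_1 D1950 (iv D1463) F4595 (iv F4489) (iv F5981)
theorem F7992 : act 5 n1950 = n1950 := d31_1 D1950 (iv D1950) F5982
theorem F7993 : act 6 n1950 = n1427 := d33_1 D1950 (iv D1427) D1426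
def n1951 : Q := act 8 n1427
theorem D1951 : act 8 n1427 = n1951 := rfl
theorem F7994 : act 1 n1951 = n1432 := d14_1 D1951 (iv D1432) (iv F5983)
theorem F7995 : act 3 n1951 = n1464 := d25_1 D1951 (iv D1464) (iv F5984)
theorem F7996 : act 5 n1951 = n1428 := d32_1 D1951 (iv D1428) (iv F5985)
def n1952 : Q := act 5 n1429
theorem D1952 : act 5 n1429 = n1952 := rfl
theorem F7998 : act 3 n1952 = n1452 := d22_1 D1952 (iv D1452) (iv F5991)
def n1953 : Q := act 7 n1429
theorem D1953 : act 7 n1429 = n1953 := rfl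
theorem F8003 : act 4 n1953 = n1431 := d28_1 D1953 (iv D1431) (iv F5992)
theorem F8004 : act 6 n1953 = n1430 := d33_1 D1953 (iv D1430) D1429
def n1954 : Q := act 8 n1430
theorem D1954 : act 8 n1430 = n1954 := rfl
def n1955 : Q := act 8 n1431
theorem D1955 : act 8 n1431 = n1955 := rfl
theorem F8012 : act 6 n1955 = n1432 := d34_1 D1955 (iv D1432) (iv F6000)
def n1956 : Q := act 1 n1433
theorem D1956 : act 1 n1433 = n1956 := rfl
theorem F8013 : act 0 n1956 = n1956 := d0_1 D1956 (iv D1956) F6004 F4512 (iv F6004)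
theorem F8014 : act 2 n1956 = n1956 := d8_2 D1433 D1956 (iv D1956) (iv D1433) F4504
theorem F8015 : act 4 n1956 = n1956 := d10_2 F6005 D1956 (iv D1956)
theorem F8016 : act 6 n1956 = n1592 := d12_2 (iv F6006) D1956 (iv D1592)
theorem F8017 : act 8 n1956 = n1445 := d14_2 (iv F6007) D1956 (iv D1445)
def n1957 : Q := act 5 n1433
theorem D1957 : act 5 n1433 = n1957 := rfl
theorem F8018 : act 0 n1957 = n1437 := d4_1 D1957 (iv D1437) (iv F6004)
theorem F8019 : act 2 n1957 = n1434 := d17_1 D1957 (iv D1434) D1433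
theorem F8020 : act 8 n1957 = n1446 := d32_2 (iv F6007) D1957 (iv D1446)
def n1958 : Q := act 7 n1433
theorem D1958 : act 7 n1433 = n1958 := rfl
theorem F8021 : act 0 n1958 = n1438 := d6_1 D1958 (iv D1438) (iv F6004)
theorem F8022 : act 2 n1958 = n1435 := d19_1 D1958 (iv D1435) D1433
theorem F8023 : act 4 n1958 = n1958 := d28_1 D1958 (iv D1958) F6005
theorem F8024 : act 6 n1958 = n1594 := d33_1 D1958 (iv D1594) (iv F6006)
theorem F8025 : act 8 n1958 = n1958 := d35_2 (iv F6007) D1958 (iv D1958) F6007 F4545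
def n1959 : Q := act 4 n1434
theorem D1959 : act 4 n1434 = n1959 := rfl
theorem F8026 : act 0 n1959 = n1439 := d3_1 D1959 (iv D1439) (iv F6008)
theorem F8027 : act 1 n1959 = n1959 := d10_1 D1959 (iv D1959) F6009
theorem F8028 : act 5 n1959 = n1959 := d26_2 D1434 D1959 (iv D1959) (iv D1434) F4505
theorem F8029 : act 8 n1959 = n1447 := d29_2 (iv F6011) D1959 (iv D1447)
def n1960 : Q := act 6 n1434
theorem D1960 : act 6 n1434 = n1960 := rfl
theorem F8030 : act 0 n1960 = n1440 := d5_1 D1960 (iv D1440) (iv F6008)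
theorem F8031 : act 1 n1960 = n1960 := d12_1 D1960 (iv D1960) F6009
theorem F8032 : act 3 n1960 = n1436 := d23_1 D1960 (iv D1436) (iv F6010)
theorem F8033 : act 5 n1960 = n1596 := d30_1 D1960 (iv D1596) (iv D1172) (iv F4506) D1434
theorem F8034 : act 8 n1960 = n1448 := d34_2 (iv F6011) D1960 (iv D1448)
def n1961 : Q := act 7 n1434
theorem D1961 : act 7 n1434 = n1961 := rfl
theorem F8035 : act 0 n1961 = n1441 := d6_1 D1961 (iv D1441) (iv F6008)
theorem F8036 : act 1 n1961 = n1961 := d13_1 D1961 (iv D1961) F6009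
theorem F8037 : act 3 n1961 = n1961 := d24_1 D1961 (iv D1961) F6010 F4510 (iv F6010)
theorem F8038 : act 5 n1961 = n1435 := d31_1 D1961 (iv D1435) D1434
theorem F8039 : act 8 n1961 = n1961 := d35_2 (iv F6011) D1961 (iv D1961) F6011 F4549
def n1962 : Q := act 4 n1437
theorem D1962 : act 4 n1437 = n1962 := rfl
theorem F8040 : act 1 n1962 = n1962 := d10_1 D1962 (iv D1962) F6023
theorem F8041 : act 2 n1962 = n1439 := d16_1 D1962 (iv D1439) (iv F6024)
theorem F8042 : act 5 n1962 = n1962 := d26_2 D1437 D1962 (iv D1962) (iv D1437) F4513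
theorem F8043 : act 8 n1962 = n1449 := d29_2 (iv F6025) D1962 (iv D1449)
def n1963 : Q := act 6 n1437
theorem D1963 : act 6 n1437 = n1963 := rfl
theorem F8044 : act 1 n1963 = n1963 := d12_1 D1963 (iv D1963) F6023
theorem F8045 : act 2 n1963 = n1440 := d18_1 D1963 (iv D1440) (iv F6024)
theorem F8046 : act 5 n1963 = n1599 := d30_1 D1963 (iv D1599) (iv D1175) (iv F4514) D1437
theorem F8047 : act 8 n1963 = n1450 := d34_2 (iv F6025) D1963 (iv D1450)
def n1964 : Q := act 7 n1437
theorem D1964 : act 7 n1437 = n1964 := rfl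
theorem F8048 : act 1 n1964 = n1964 := d13_1 D1964 (iv D1964) F6023
theorem F8049 : act 2 n1964 = n1441 := d19_1 D1964 (iv D1441) (iv F6024)
theorem F8050 : act 5 n1964 = n1438 := d31_1 D1964 (iv D1438) D1437
theorem F8051 : act 8 n1964 = n1964 := d35_2 (iv F6025) D1964 (iv D1964) F6025 F4556
def n1965 : Q := act 3 n1438
theorem D1965 : act 3 n1438 = n1965 := rfl
theorem F8052 : act 1 n1965 = n1965 := d9_1 D1965 (iv D1965) F6026
theorem F8053 : act 2 n1965 = n1965 := d15_1 D1965 (iv D1965) F6027 F4520 (iv F6027)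
theorem F8054 : act 6 n1965 = n1601 := d23_2 (iv F6029) D1965 (iv D1601)
theorem F8055 : act 8 n1965 = n1965 := d25_2 F6030 D1965 (iv D1965)
def n1966 : Q := act 6 n1439
theorem D1966 : act 6 n1439 = n1966 := rfl
theorem F8056 : act 1 n1966 = n1442 := d12_1 D1966 (iv D1442) (iv F6031)
theorem F8057 : act 4 n1966 = n1440 := d27_1 D1966 (iv D1440) D1439
theorem F8058 : act 8 n1966 = n1451 := d34_2 (iv F6033) D1966 (iv D1451)
def n1967 : Q := act 7 n1439
theorem D1967 : act 7 n1439 = n1967 := rfl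
theorem F8059 : act 1 n1967 = n1443 := d13_1 D1967 (iv D1443) (iv F6031)
theorem F8060 : act 4 n1967 = n1441 := d28_1 D1967 (iv D1441) D1439
theorem F8061 : act 5 n1967 = n1967 := d31_1 D1967 (iv D1967) F6032
theorem F8062 : act 8 n1967 = n1967 := d35_2 (iv F6033) D1967 (iv D1967) F6033 F4559
def n1968 : Q := act 7 n1440
theorem D1968 : act 7 n1440 = n1968 := rfl
theorem F8063 : act 1 n1968 = n1444 := d13_1 D1968 (iv D1444) (iv F6034)
theorem F8064 : act 3 n1968 = n1968 := d24_1 D1968 (iv D1968) F6035 F4526 (iv F6035)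
theorem F8065 : act 5 n1968 = n1604 := d31_1 D1968 (iv D1604) (iv F6036)
theorem F8066 : act 6 n1968 = n1441 := d33_1 D1968 (iv D1441) D1440
theorem F8067 : act 8 n1968 = n1968 := d35_2 (iv F6037) D1968 (iv D1968) F6037 F4563
def n1969 : Q := act 5 n1442
theorem D1969 : act 5 n1442 = n1969 := rfl
theorem F8072 : act 8 n1969 = n1452 := d32_2 (iv F6045) D1969 (iv D1452)
def n1970 : Q := act 7 n1442
theorem D1970 : act 7 n1442 = n1970 := rfl
theorem F8076 : act 6 n1970 = n1443 := d33_1 D1970 (iv D1443) D1442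
def n1971 : Q := act 3 n1443
theorem D1971 : act 3 n1443 = n1971 := rfl
def n1972 : Q := act 5 n1445
theorem D1972 : act 5 n1445 = n1972 := rfl
theorem F8082 : act 0 n1972 = n1972 := d4_1 D1972 (iv D1972) F6057
theorem F8083 : act 1 n1972 = n1446 := d11_1 D1972 (iv D1446) D1445
theorem F8084 : act 2 n1972 = n1972 := d17_1 D1972 (iv D1972) F6058
theorem F8085 : act 7 n1972 = n1972 := d31_2 F6061 D1972 (iv D1972)
def n1973 : Q := act 4 n1446
theorem D1973 : act 4 n1446 = n1973 := rfl
theorem F8086 : act 0 n1973 = n1449 := d3_1 D1973 (iv D1449) (iv F6062)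
theorem F8087 : act 2 n1973 = n1447 := d16_1 D1973 (iv D1447) (iv F6063)
theorem F8088 : act 5 n1973 = n1973 := d26_2 D1446 D1973 (iv D1973) (iv D1446) F4543
theorem F8089 : act 7 n1973 = n1973 := d28_2 F6064 D1973 (iv D1973)
def n1974 : Q := act 6 n1446
theorem D1974 : act 6 n1446 = n1974 := rfl
theorem F8090 : act 0 n1974 = n1450 := d5_1 D1974 (iv D1450) (iv F6062)
theorem F8091 : act 2 n1974 = n1448 := d18_1 D1974 (iv D1448) (iv F6063)
theorem F8092 : act 5 n1974 = n1610 := d30_1 D1974 (iv D1610) (iv D1184) (iv F4544) D1446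
theorem F8093 : act 7 n1974 = n1974 := d33_2 F6064 D1974 (iv D1974)
def n1975 : Q := act 6 n1447
theorem D1975 : act 6 n1447 = n1975 := rfl
theorem F8094 : act 0 n1975 = n1451 := d5_1 D1975 (iv D1451) (iv F6065)
theorem F8095 : act 1 n1975 = n1975 := d12_1 D1975 (iv D1975) F6066
theorem F8096 : act 4 n1975 = n1448 := d27_1 D1975 (iv D1448) D1447
theorem F8097 : act 7 n1975 = n1975 := d33_2 F6068 D1975 (iv D1975)
def n1976 : Q := act 3 n1449
theorem D1976 : act 3 n1449 = n1976 := rfl
theorem F8098 : act 1 n1976 = n1976 := d9_1 D1976 (iv D1976) F6074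
theorem F8099 : act 5 n1976 = n1976 := d22_2 F6076 D1976 (iv D1976)
def n1977 : Q := act 6 n1449
theorem D1977 : act 6 n1449 = n1977 := rfl
theorem F8100 : act 1 n1977 = n1977 := d12_1 D1977 (iv D1977) F6074
theorem F8101 : act 2 n1977 = n1451 := d18_1 D1977 (iv D1451) (iv F6075)
theorem F8102 : act 4 n1977 = n1450 := d27_1 D1977 (iv D1450) D1449
theorem F8103 : act 7 n1977 = n1977 := d33_2 F6077 D1977 (iv D1977)
def n1978 : Q := act 5 n1451
theorem D1978 : act 5 n1451 = n1978 := rfl
theorem F8104 : act 1 n1978 = n1452 := d11_1 D1978 (iv D1452) (iv F6082)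
theorem F8105 : act 4 n1978 = n1614 := d26_1 D1978 (iv D1614) F5036 (iv F4562) (iv F6083)
theorem F8106 : act 6 n1978 = n1978 := d30_2 D1451 D1978 (iv D1978) (iv D1451) F4558
theorem F8107 : act 7 n1978 = n1978 := d31_2 F6084 D1978 (iv D1978)
def n1979 : Q := act 5 n1453
theorem D1979 : act 5 n1453 = n1979 := rfl
theorem F8108 : act 0 n1979 = n1979 := d4_1 D1979 (iv D1979) F6090
theorem F8109 : act 1 n1979 = n1454 := d11_1 D1979 (iv D1454) D1453
theorem F8110 : act 2 n1979 = n1979 := d17_1 D1979 (iv D1979) F6091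
theorem F8111 : act 4 n1979 = n1979 := d26_1 D1979 (iv D1979) F6092 F4619 (iv F6092)
theorem F8112 : act 8 n1979 = n1979 := d32_2 F6094 D1979 (iv D1979)
def n1980 : Q := act 7 n1453
theorem D1980 : act 7 n1453 = n1980 := rfl
theorem F8113 : act 0 n1980 = n1980 := d6_1 D1980 (iv D1980) F6090
theorem F8114 : act 1 n1980 = n1455 := d13_1 D1980 (iv D1455) D1453
theorem F8115 : act 2 n1980 = n1980 := d19_1 D1980 (iv D1980) F6091
theorem F8116 : act 4 n1980 = n1466 := d28_1 D1980 (iv D1466) (iv F6092)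
theorem F8117 : act 6 n1980 = n1980 := d33_1 D1980 (iv D1980) F6093
def n1981 : Q := act 6 n1454
theorem D1981 : act 6 n1454 = n1981 := rfl
theorem F8118 : act 0 n1981 = n1459 := d5_1 D1981 (iv D1459) (iv F6095)
theorem F8119 : act 2 n1981 = n1456 := d18_1 D1981 (iv D1456) (iv F6096)
theorem F8120 : act 4 n1981 = n1981 := d27_1 D1981 (iv D1981) F6097
theorem F8121 : act 5 n1981 = n1981 := d30_1 D1981 (iv D1981) (iv D1454) F4570 D1454
theorem F8122 : act 8 n1981 = n1981 := d34_2 F6098 D1981 (iv D1981)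
def n1982 : Q := act 7 n1454
theorem D1982 : act 7 n1454 = n1982 := rfl
theorem F8123 : act 0 n1982 = n1460 := d6_1 D1982 (iv D1460) (iv F6095)
theorem F8124 : act 2 n1982 = n1457 := d19_1 D1982 (iv D1457) (iv F6096)
theorem F8125 : act 4 n1982 = n1982 := d28_1 D1982 (iv D1982) F6097
theorem F8126 : act 5 n1982 = n1455 := d31_1 D1982 (iv D1455) D1454
def n1983 : Q := act 3 n1455
theorem D1983 : act 3 n1455 = n1983 := rfl
theorem F8127 : act 0 n1983 = n1461 := d2_1 D1983 (iv D1461) (iv F6099)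
theorem F8128 : act 6 n1983 = n1983 := d23_2 F6102 D1983 (iv D1983)
def n1984 : Q := act 8 n1455
theorem D1984 : act 8 n1455 = n1984 := rfl
theorem F8129 : act 0 n1984 = n1462 := d7_1 D1984 (iv D1462) (iv F6099)
theorem F8130 : act 2 n1984 = n1458 := d20_1 D1984 (iv D1458) (iv F6100)
theorem F8131 : act 4 n1984 = n1468 := d29_1 D1984 (iv D1468) (iv F6101)
theorem F8132 : act 6 n1984 = n1984 := d34_1 D1984 (iv D1984) F6102
theorem F8133 : act 7 n1984 = n1984 := d35_1 D1984 (iv D1984) (iv D1455) F4571 D1455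
def n1985 : Q := act 7 n1456
theorem D1985 : act 7 n1456 = n1985 := rfl
theorem F8134 : act 0 n1985 = n1463 := d6_1 D1985 (iv D1463) (iv F6103)
theorem F8135 : act 1 n1985 = n1985 := d13_1 D1985 (iv D1985) F6104
theorem F8136 : act 4 n1985 = n1985 := d28_1 D1985 (iv D1985) F6106
theorem F8137 : act 5 n1985 = n1985 := d31_1 D1985 (iv D1985) F6107
theorem F8138 : act 6 n1985 = n1457 := d33_1 D1985 (iv D1457) D1456
def n1986 : Q := act 8 n1457
theorem D1986 : act 8 n1457 = n1986 := rfl
theorem F8139 : act 0 n1986 = n1464 := d7_1 D1986 (iv D1464) (iv F6109)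
theorem F8140 : act 1 n1986 = n1986 := d14_1 D1986 (iv D1986) F6110
theorem F8141 : act 4 n1986 = n1986 := d29_1 D1986 (iv D1986) F6111
theorem F8142 : act 5 n1986 = n1458 := d32_1 D1986 (iv D1458) (iv F6112)
theorem F8143 : act 7 n1986 = n1986 := d35_1 D1986 (iv D1986) (iv D1457) F4576 D1457
def n1987 : Q := act 7 n1459
theorem D1987 : act 7 n1459 = n1987 := rfl
theorem F8144 : act 1 n1987 = n1987 := d13_1 D1987 (iv D1987) F6118
theorem F8145 : act 2 n1987 = n1463 := d19_1 D1987 (iv D1463) (iv F6119)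
theorem F8146 : act 4 n1987 = n1987 := d28_1 D1987 (iv D1987) F6120
theorem F8147 : act 5 n1987 = n1987 := d31_1 D1987 (iv D1987) F6121
theorem F8148 : act 6 n1987 = n1460 := d33_1 D1987 (iv D1460) D1459
def n1988 : Q := act 3 n1460
theorem D1988 : act 3 n1460 = n1988 := rfl
theorem F8149 : act 1 n1988 = n1988 := d9_1 D1988 (iv D1988) F6123
theorem F8150 : act 5 n1988 = n1461 := d22_2 (iv F6126) D1988 (iv D1461)
def n1989 : Q := act 8 n1460
theorem D1989 : act 8 n1460 = n1989 := rfl
theorem F8151 : act 1 n1989 = n1989 := d14_1 D1989 (iv D1989) F6123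
theorem F8152 : act 2 n1989 = n1464 := d20_1 D1989 (iv D1464) (iv F6124)
theorem F8153 : act 4 n1989 = n1989 := d29_1 D1989 (iv D1989) F6125
theorem F8154 : act 5 n1989 = n1462 := d32_1 D1989 (iv D1462) (iv F6126)
theorem F8155 : act 7 n1989 = n1989 := d35_1 D1989 (iv D1989) (iv D1460) F4589 D1460
def n1990 : Q := act 4 n1461
theorem D1990 : act 4 n1461 = n1990 := rfl
theorem F8156 : act 1 n1990 = n1990 := d10_1 D1990 (iv D1990) F6127
theorem F8157 : act 3 n1990 = n1469 := d21_1 D1990 (iv D1469) (iv D1079) (iv F4592) D1461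
theorem F8158 : act 6 n1990 = n1990 := d27_2 F6128 D1990 (iv D1990)
def n1991 : Q := act 8 n1461
theorem D1991 : act 8 n1461 = n1991 := rfl
theorem F8159 : act 1 n1991 = n1991 := d14_1 D1991 (iv D1991) F6127
theorem F8160 : act 3 n1991 = n1462 := d25_1 D1991 (iv D1462) D1461
theorem F8161 : act 6 n1991 = n1991 := d34_1 D1991 (iv D1991) F6128
def n1992 : Q := act 8 n1463
theorem D1992 : act 8 n1463 = n1992 := rfl
theorem F8162 : act 1 n1992 = n1465 := d14_1 D1992 (iv D1465) (iv F6134)
theorem F8163 : act 4 n1992 = n1992 := d29_1 D1992 (iv D1992) F6135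
theorem F8164 : act 5 n1992 = n1992 := d32_1 D1992 (iv D1992) F6136
theorem F8165 : act 6 n1992 = n1464 := d34_1 D1992 (iv D1464) (iv F6137)
theorem F8166 : act 7 n1992 = n1992 := d35_1 D1992 (iv D1992) (iv D1463) F4598 D1463
def n1993 : Q := act 3 n1466
theorem D1993 : act 3 n1466 = n1993 := rfl
theorem F8167 : act 0 n1993 = n1993 := d2_1 D1993 (iv D1993) F6148
theorem F8168 : act 1 n1993 = n1467 := d9_1 D1993 (iv D1467) (iv F6149)
theorem F8169 : act 5 n1993 = n1993 := d22_2 F6151 D1993 (iv D1993)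
theorem F8170 : act 6 n1993 = n1993 := d23_2 F6152 D1993 (iv D1993)
theorem F8171 : act 7 n1993 = n1993 := d24_2 D1466 D1993 (iv D1993) (iv D1466) F4618
def n1994 : Q := act 8 n1466
theorem D1994 : act 8 n1466 = n1994 := rfl
theorem F8172 : act 0 n1994 = n1994 := d7_1 D1994 (iv D1994) F6148
theorem F8173 : act 1 n1994 = n1468 := d14_1 D1994 (iv D1468) (iv F6149)
theorem F8174 : act 2 n1994 = n1994 := d20_1 D1994 (iv D1994) F6150
theorem F8175 : act 5 n1994 = n1994 := d32_1 D1994 (iv D1994) F6151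
theorem F8176 : act 6 n1994 = n1994 := d34_1 D1994 (iv D1994) F6152
theorem F8177 : act 7 n1994 = n1994 := d35_1 D1994 (iv D1994) (iv D1466) F4621 D1466
def n1995 : Q := act 4 n1467
theorem D1995 : act 4 n1467 = n1995 := rfl
theorem F8178 : act 0 n1995 = n1469 := d3_1 D1995 (iv D1469) (iv F6153)
theorem F8179 : act 2 n1995 = n1995 := d16_1 D1995 (iv D1995) F6154
theorem F8180 : act 6 n1995 = n1995 := d27_2 F6156 D1995 (iv D1995)
theorem F8181 : act 7 n1995 = n1995 := d28_2 F6157 D1995 (iv D1995)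
def n1996 : Q := act 8 n1467
theorem D1996 : act 8 n1467 = n1996 := rfl
theorem F8182 : act 0 n1996 = n1470 := d7_1 D1996 (iv D1470) (iv F6153)
theorem F8183 : act 2 n1996 = n1996 := d20_1 D1996 (iv D1996) F6154
theorem F8184 : act 3 n1996 = n1468 := d25_1 D1996 (iv D1468) D1467
theorem F8185 : act 5 n1996 = n1996 := d32_1 D1996 (iv D1996) F6155
theorem F8186 : act 6 n1996 = n1996 := d34_1 D1996 (iv D1996) F6156
def n1997 : Q := act 5 n1469
theorem D1997 : act 5 n1469 = n1997 := rfl
theorem F8187 : act 1 n1997 = n1997 := d11_1 D1997 (iv D1997) F6163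
theorem F8188 : act 2 n1997 = n1997 := d17_1 D1997 (iv D1997) F6164
theorem F8189 : act 4 n1997 = n1997 := d26_1 D1997 (iv D1997) (iv D1469) F4634 D1469
theorem F8190 : act 7 n1997 = n1997 := d31_2 F6166 D1997 (iv D1997)
def n1998 : Q := act 8 n1469
theorem D1998 : act 8 n1469 = n1998 := rfl
theorem F8191 : act 1 n1998 = n1998 := d14_1 D1998 (iv D1998) F6163
theorem F8192 : act 2 n1998 = n1998 := d20_1 D1998 (iv D1998) F6164
theorem F8193 : act 4 n1998 = n1470 := d29_1 D1998 (iv D1470) D1469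
theorem F8194 : act 6 n1998 = n1998 := d34_1 D1998 (iv D1998) F6165
def n1999 : Q := act 7 n1470
theorem D1999 : act 7 n1470 = n1999 := rfl
theorem F8195 : act 1 n1999 = n1999 := d13_1 D1999 (iv D1999) F6167
theorem F8196 : act 2 n1999 = n1999 := d19_1 D1999 (iv D1999) F6168
theorem F8197 : act 3 n1999 = n1999 := d24_1 D1999 (iv D1999) F6169 F4641 (iv F6169)
theorem F8198 : act 5 n1999 = n1999 := d31_1 D1999 (iv D1999) F6170
theorem F8199 : act 6 n1999 = n1999 := d33_1 D1999 (iv D1999) F6171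
theorem F8200 : act 8 n1999 = n1999 := d35_2 D1470 D1999 (iv D1999) (iv D1470) F4636
def n2000 : Q := act 1 n1471
theorem D2000 : act 1 n1471 = n2000 := rfl
theorem F8201 : act 0 n2000 = n2000 := d0_1 D2000 (iv D2000) F6172 F4649 (iv F6172)
theorem F8202 : act 2 n2000 = n1551 := d8_2 D1471 D2000 (iv D1551) (iv D1139) (iv F4643)
theorem F8203 : act 3 n2000 = n2000 := d9_2 F6173 D2000 (iv D2000)
def n2001 : Q := act 5 n1471
theorem D2001 : act 5 n1471 = n2001 := rfl
theorem F8204 : act 0 n2001 = n1475 := d4_1 D2001 (iv D1475) (iv F6172)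
def n2002 : Q := act 7 n1471
theorem D2002 : act 7 n1471 = n2002 := rfl
def n2003 : Q := act 4 n1472
theorem D2003 : act 4 n1472 = n2003 := rfl
def n2004 : Q := act 6 n1472
theorem D2004 : act 6 n1472 = n2004 := rfl
theorem F8213 : act 1 n2004 = n1555 := d12_1 D2004 (iv D1555) (iv F6175)
def n2007 : Q := act 4 n1475
theorem D2007 : act 4 n1475 = n2007 := rfl
def n2009 : Q := act 7 n1475
theorem D2009 : act 7 n1475 = n2009 := rfl
theorem F8229 : act 5 n2009 = n1476 := d31_1 D2009 (iv D1476) D1475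
def n2010 : Q := act 3 n1476
theorem D2010 : act 3 n1476 = n2010 := rfl
theorem F8231 : act 2 n2010 = n1494 := d15_1 D2010 (iv D1494) F4694 (iv F4654) (iv F6189)
def n2012 : Q := act 6 n1477
theorem D2012 : act 6 n1477 = n2012 := rfl
def n2013 : Q := act 7 n1477
theorem D2013 : act 7 n1477 = n2013 := rfl
theorem F8238 : act 1 n2013 = n1482 := d13_1 D2013 (iv D1482) (iv F6190)
def n2016 : Q := act 5 n1481
theorem D2016 : act 5 n1481 = n2016 := rfl
def n2017 : Q := act 7 n1481
theorem D2017 : act 7 n1481 = n2017 := rfl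
theorem F8252 : act 6 n2017 = n1482 := d33_1 D2017 (iv D1482) D1481
def n2018 : Q := act 3 n1482
theorem D2018 : act 3 n1482 = n2018 := rfl
def n2019 : Q := act 8 n1482
theorem D2019 : act 8 n1482 = n2019 := rfl
def n2036 : Q := act 4 n1494
theorem D2036 : act 4 n1494 = n2036 := rfl
theorem F8324 : act 1 n2036 = n1511 := d10_1 D2036 (iv D1511) (iv F6250)
def n2058 : Q := act 5 n1511
theorem D2058 : act 5 n1511 = n2058 := rfl
theorem F8404 : act 0 n2058 = n2058 := d4_1 D2058 (iv D2058) F6313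
theorem F8407 : act 7 n2058 = n2058 := d31_2 F6316 D2058 (iv D2058)
def n2073 : Q := act 1 n1523
theorem D2073 : act 1 n1523 = n2073 := rfl
theorem F8467 : act 0 n2073 = n2073 := d0_1 D2073 (iv D2073) F6363 F4787 (iv F6363)
theorem F8468 : act 3 n2073 = n2073 := d9_2 F6364 D2073 (iv D2073)
theorem F8469 : act 4 n2073 = n1551 := d10_2 (iv F6365) D2073 (iv D1551)
theorem F8470 : act 8 n2073 = n2000 := d14_2 (iv F6366) D2073 (iv D2000)
def n2074 : Q := act 5 n1523
theorem D2074 : act 5 n1523 = n2074 := rfl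
theorem F8471 : act 0 n2074 = n1527 := d4_1 D2074 (iv D1527) (iv F6363)
theorem F8472 : act 2 n2074 = n1524 := d17_1 D2074 (iv D1524) D1523
theorem F8473 : act 3 n2074 = n2074 := d22_1 D2074 (iv D2074) F6364
theorem F8474 : act 8 n2074 = n2001 := d32_2 (iv F6366) D2074 (iv D2001)
def n2075 : Q := act 7 n1523
theorem D2075 : act 7 n1523 = n2075 := rfl
theorem F8475 : act 0 n2075 = n1528 := d6_1 D2075 (iv D1528) (iv F6363)
theorem F8476 : act 2 n2075 = n1525 := d19_1 D2075 (iv D1525) D1523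
theorem F8477 : act 4 n2075 = n1553 := d28_1 D2075 (iv D1553) (iv F6365)
def n2076 : Q := act 4 n1524
theorem D2076 : act 4 n1524 = n2076 := rfl
theorem F8478 : act 0 n2076 = n1529 := d3_1 D2076 (iv D1529) (iv F6367)
theorem F8479 : act 3 n2076 = n2076 := d21_1 D2076 (iv D2076) F6368 F4784 (iv F6368)
theorem F8480 : act 5 n2076 = n1554 := d26_2 D1524 D2076 (iv D1554) (iv D1140) (iv F4780)
theorem F8481 : act 8 n2076 = n2003 := d29_2 (iv F6369) D2076 (iv D2003)
def n2077 : Q := act 6 n1524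
theorem D2077 : act 6 n1524 = n2077 := rfl
theorem F8483 : act 3 n2077 = n1526 := d23_1 D2077 (iv D1526) (iv F6368)
theorem F8484 : act 8 n2077 = n2004 := d34_2 (iv F6369) D2077 (iv D2004)
def n2078 : Q := act 7 n1524
theorem D2078 : act 7 n1524 = n2078 := rfl
theorem F8485 : act 0 n2078 = n1531 := d6_1 D2078 (iv D1531) (iv F6367)
theorem F8486 : act 3 n2078 = n2078 := d24_1 D2078 (iv D2078) F6368 F4785 (iv F6368)
theorem F8487 : act 5 n2078 = n1525 := d31_1 D2078 (iv D1525) D1524
def n2079 : Q := act 8 n1525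
theorem D2079 : act 8 n1525 = n2079 := rfl
def n2080 : Q := act 4 n1527
theorem D2080 : act 4 n1527 = n2080 := rfl
theorem F8492 : act 1 n2080 = n2080 := d10_1 D2080 (iv D2080) F6378
theorem F8493 : act 2 n2080 = n1529 := d16_1 D2080 (iv D1529) (iv F6379)
theorem F8494 : act 5 n2080 = n1558 := d26_2 D1527 D2080 (iv D1558) (iv D1143) (iv F4789)
theorem F8495 : act 8 n2080 = n2007 := d29_2 (iv F6381) D2080 (iv D2007)
def n2081 : Q := act 6 n1527
theorem D2081 : act 6 n1527 = n2081 := rfl
def n2082 : Q := act 7 n1527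
theorem D2082 : act 7 n1527 = n2082 := rfl
theorem F8500 : act 1 n2082 = n2082 := d13_1 D2082 (iv D2082) F6378
theorem F8501 : act 2 n2082 = n1531 := d19_1 D2082 (iv D1531) (iv F6379)
theorem F8502 : act 5 n2082 = n1528 := d31_1 D2082 (iv D1528) D1527
def n2083 : Q := act 3 n1528
theorem D2083 : act 3 n1528 = n2083 := rfl
theorem F8503 : act 1 n2083 = n2083 := d9_1 D2083 (iv D2083) F6382
theorem F8504 : act 2 n2083 = n2083 := d15_1 D2083 (iv D2083) F6383 F4795 (iv F6383)
theorem F8505 : act 4 n2083 = n2083 := d21_2 (iv F6384) D2083 (iv D2083) F6384 F4874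
theorem F8506 : act 7 n2083 = n2083 := d24_2 D1528 D2083 (iv D2083) (iv D1528) F4788
def n2084 : Q := act 8 n1528
theorem D2084 : act 8 n1528 = n2084 := rfl
def n2085 : Q := act 6 n1529
theorem D2085 : act 6 n1529 = n2085 := rfl
theorem F8511 : act 1 n2085 = n1533 := d12_1 D2085 (iv D1533) (iv F6385)
theorem F8513 : act 4 n2085 = n1530 := d27_1 D2085 (iv D1530) D1529
theorem F8514 : act 8 n2085 = n2012 := d34_2 (iv F6388) D2085 (iv D2012)
def n2086 : Q := act 7 n1529
theorem D2086 : act 7 n1529 = n2086 := rfl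
theorem F8515 : act 1 n2086 = n1534 := d13_1 D2086 (iv D1534) (iv F6385)
def n2087 : Q := act 7 n1530
theorem D2087 : act 7 n1530 = n2087 := rfl
theorem F8520 : act 6 n2087 = n1531 := d33_1 D2087 (iv D1531) D1530
def n2088 : Q := act 8 n1531
theorem D2088 : act 8 n1531 = n2088 := rfl
def n2089 : Q := act 5 n1533
theorem D2089 : act 5 n1533 = n2089 := rfl
theorem F8528 : act 8 n2089 = n2016 := d32_2 (iv F6402) D2089 (iv D2016)
def n2090 : Q := act 7 n1533
theorem D2090 : act 7 n1533 = n2090 := rfl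
theorem F8531 : act 6 n2090 = n1534 := d33_1 D2090 (iv D1534) D1533
def n2091 : Q := act 3 n1534
theorem D2091 : act 3 n1534 = n2091 := rfl
def n2092 : Q := act 8 n1534
theorem D2092 : act 8 n1534 = n2092 := rfl
theorem F8538 : act 7 n2092 = n2019 := d35_1 D2092 (iv D2019) (iv D1482) (iv F4805) D1534
def n2094 : Q := act 1 n1537
theorem D2094 : act 1 n1537 = n2094 := rfl
theorem F8543 : act 0 n2094 = n2094 := d0_1 D2094 (iv D2094) F6413 F4826 (iv F6413)
theorem F8544 : act 2 n2094 = n2073 := d8_2 D1537 D2094 (iv D2073) (iv D1523) (iv F4817)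
theorem F8545 : act 3 n2094 = n1592 := d9_2 (iv F6414) D2094 (iv D1592)
theorem F8546 : act 4 n2094 = n2000 := d10_2 (iv F6415) D2094 (iv D2000)
theorem F8547 : act 8 n2094 = n1551 := d14_2 (iv F6416) D2094 (iv D1551)
def n2095 : Q := act 5 n1537
theorem D2095 : act 5 n1537 = n2095 := rfl
theorem F8548 : act 0 n2095 = n1541 := d4_1 D2095 (iv D1541) (iv F6413)
theorem F8549 : act 2 n2095 = n1538 := d17_1 D2095 (iv D1538) D1537
theorem F8550 : act 3 n2095 = n1593 := d22_1 D2095 (iv D1593) (iv F6414)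
theorem F8551 : act 8 n2095 = n1552 := d32_2 (iv F6416) D2095 (iv D1552)
def n2096 : Q := act 7 n1537
theorem D2096 : act 7 n1537 = n2096 := rfl
theorem F8552 : act 0 n2096 = n1542 := d6_1 D2096 (iv D1542) (iv F6413)
theorem F8553 : act 2 n2096 = n1539 := d19_1 D2096 (iv D1539) D1537
theorem F8554 : act 4 n2096 = n2002 := d28_1 D2096 (iv D2002) (iv F6415)
def n2097 : Q := act 4 n1538
theorem D2097 : act 4 n1538 = n2097 := rfl
theorem F8555 : act 0 n2097 = n1543 := d3_1 D2097 (iv D1543) (iv F6417)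
theorem F8556 : act 1 n2097 = n2076 := d10_1 D2097 (iv D2076) (iv F6418)
theorem F8559 : act 8 n2097 = n1554 := d29_2 (iv F6420) D2097 (iv D1554)
def n2098 : Q := act 6 n1538
theorem D2098 : act 6 n1538 = n2098 := rfl
theorem F8560 : act 0 n2098 = n1544 := d5_1 D2098 (iv D1544) (iv F6417)
theorem F8561 : act 1 n2098 = n2077 := d12_1 D2098 (iv D2077) (iv F6418)
theorem F8562 : act 3 n2098 = n1540 := d23_1 D2098 (iv D1540) (iv F6419)
theorem F8563 : act 8 n2098 = n1555 := d34_2 (iv F6420) D2098 (iv D1555)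
def n2099 : Q := act 7 n1538
theorem D2099 : act 7 n1538 = n2099 := rfl
theorem F8565 : act 1 n2099 = n2078 := d13_1 D2099 (iv D2078) (iv F6418)
def n2100 : Q := act 8 n1539
theorem D2100 : act 8 n1539 = n2100 := rfl
theorem F8572 : act 7 n2100 = n1557 := d35_1 D2100 (iv D1557) (iv D1141) (iv F4819) D1539
def n2101 : Q := act 4 n1541
theorem D2101 : act 4 n1541 = n2101 := rfl
theorem F8574 : act 2 n2101 = n1543 := d16_1 D2101 (iv D1543) (iv F6432)
theorem F8575 : act 5 n2101 = n2007 := d26_2 D1541 D2101 (iv D2007) (iv D1475) (iv F4828)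
theorem F8576 : act 8 n2101 = n1558 := d29_2 (iv F6434) D2101 (iv D1558)
def n2102 : Q := act 6 n1541
theorem D2102 : act 6 n1541 = n2102 := rfl
theorem F8577 : act 1 n2102 = n2102 := d12_1 D2102 (iv D2102) F6431
theorem F8578 : act 2 n2102 = n1544 := d18_1 D2102 (iv D1544) (iv F6432)
theorem F8579 : act 3 n2102 = n1599 := d23_1 D2102 (iv D1599) (iv F6433)
theorem F8580 : act 8 n2102 = n1559 := d34_2 (iv F6434) D2102 (iv D1559)
def n2103 : Q := act 7 n1541
theorem D2103 : act 7 n1541 = n2103 := rfl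
theorem F8582 : act 2 n2103 = n1545 := d19_1 D2103 (iv D1545) (iv F6432)
theorem F8583 : act 5 n2103 = n1542 := d31_1 D2103 (iv D1542) D1541
def n2104 : Q := act 3 n1542
theorem D2104 : act 3 n1542 = n2104 := rfl
theorem F8584 : act 1 n2104 = n2104 := d9_1 D2104 (iv D2104) F6435
theorem F8585 : act 2 n2104 = n2104 := d15_1 D2104 (iv D2104) F6436 F4834 (iv F6436)
theorem F8586 : act 7 n2104 = n1601 := d24_2 D1542 D2104 (iv D1601) (iv D1176) (iv F4827)
def n2105 : Q := act 8 n1542
theorem D2105 : act 8 n1542 = n2105 := rfl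
theorem F8590 : act 7 n2105 = n1561 := d35_1 D2105 (iv D1561) (iv D1144) (iv F4829) D1542
def n2106 : Q := act 6 n1543
theorem D2106 : act 6 n1543 = n2106 := rfl
theorem F8591 : act 1 n2106 = n1547 := d12_1 D2106 (iv D1547) (iv F6438)
theorem F8593 : act 4 n2106 = n1544 := d27_1 D2106 (iv D1544) D1543
def n2108 : Q := act 7 n1544
theorem D2108 : act 7 n1544 = n2108 := rfl
theorem F8598 : act 1 n2108 = n1549 := d13_1 D2108 (iv D1549) (iv F6442)
def n2109 : Q := act 8 n1545
theorem D2109 : act 8 n1545 = n2109 := rfl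
theorem F8601 : act 1 n2109 = n1550 := d14_1 D2109 (iv D1550) (iv F6445)
def n2110 : Q := act 5 n1547
theorem D2110 : act 5 n1547 = n2110 := rfl
theorem F8605 : act 0 n2110 = n2089 := d4_1 D2110 (iv D2089) (iv F6452)
def n2111 : Q := act 7 n1547
theorem D2111 : act 7 n1547 = n2111 := rfl
theorem F8612 : act 4 n2111 = n1549 := d28_1 D2111 (iv D1549) (iv F6455)
def n2112 : Q := act 3 n1548
theorem D2112 : act 3 n1548 = n2112 := rfl
def n2113 : Q := act 8 n1548
theorem D2113 : act 8 n1548 = n2113 := rfl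
theorem F8620 : act 4 n2113 = n1550 := d29_1 D2113 (iv D1550) (iv F6459)
def n2115 : Q := act 5 n1551
theorem D2115 : act 5 n1551 = n2115 := rfl
theorem F8628 : act 0 n2115 = n2115 := d4_1 D2115 (iv D2115) F6470
theorem F8629 : act 1 n2115 = n1552 := d11_1 D2115 (iv D1552) D1551
theorem F8630 : act 3 n2115 = n1608 := d22_1 D2115 (iv D1608) (iv F6471)
def n2116 : Q := act 7 n1551
theorem D2116 : act 7 n1551 = n2116 := rfl
theorem F8631 : act 0 n2116 = n2116 := d6_1 D2116 (iv D2116) F6470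
theorem F8632 : act 1 n2116 = n1553 := d13_1 D2116 (iv D1553) D1551
theorem F8633 : act 3 n2116 = n2116 := d24_1 D2116 (iv D2116) F6471 F5014 (iv F6471)
def n2117 : Q := act 4 n1552
theorem D2117 : act 4 n1552 = n2117 := rfl
theorem F8635 : act 2 n2117 = n1554 := d16_1 D2117 (iv D1554) (iv F6473)
def n2118 : Q := act 6 n1552
theorem D2118 : act 6 n1552 = n2118 := rfl
theorem F8636 : act 0 n2118 = n1559 := d5_1 D2118 (iv D1559) (iv F6472)
theorem F8637 : act 2 n2118 = n1555 := d18_1 D2118 (iv D1555) (iv F6473)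
theorem F8638 : act 3 n2118 = n1610 := d23_1 D2118 (iv D1610) (iv F6474)
def n2119 : Q := act 7 n1552
theorem D2119 : act 7 n1552 = n2119 := rfl
theorem F8642 : act 5 n2119 = n1553 := d31_1 D2119 (iv D1553) D1552
def n2120 : Q := act 8 n1553
theorem D2120 : act 8 n1553 = n2120 := rfl
def n2121 : Q := act 6 n1554
theorem D2121 : act 6 n1554 = n2121 := rfl
theorem F8648 : act 4 n2121 = n1555 := d27_1 D2121 (iv D1555) D1554
def n2122 : Q := act 7 n1554
theorem D2122 : act 7 n1554 = n2122 := rfl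
theorem F8650 : act 4 n2122 = n1556 := d28_1 D2122 (iv D1556) D1554
def n2123 : Q := act 7 n1555
theorem D2123 : act 7 n1555 = n2123 := rfl
theorem F8652 : act 3 n2123 = n1573 := d24_1 D2123 (iv D1573) F4902 (iv F4868) (iv F6481)
def n2125 : Q := act 3 n1558
theorem D2125 : act 3 n1558 = n2125 := rfl
theorem F8659 : act 4 n2125 = n1612 := d21_2 D1558 D2125 (iv D1612) (iv D1187) (iv F4871)
def n2126 : Q := act 6 n1558
theorem D2126 : act 6 n1558 = n2126 := rfl
theorem F8661 : act 2 n2126 = n1562 := d18_1 D2126 (iv D1562) (iv F6488)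
theorem F8662 : act 4 n2126 = n1559 := d27_1 D2126 (iv D1559) D1558
def n2127 : Q := act 7 n1558
theorem D2127 : act 7 n1558 = n2127 := rfl
theorem F8664 : act 2 n2127 = n1563 := d19_1 D2127 (iv D1563) (iv F6488)
theorem F8665 : act 4 n2127 = n1560 := d28_1 D2127 (iv D1560) D1558
def n2128 : Q := act 7 n1559
theorem D2128 : act 7 n1559 = n2128 := rfl
def n2130 : Q := act 5 n1562
theorem D2130 : act 5 n1562 = n2130 := rfl
theorem F8674 : act 1 n2130 = n1566 := d11_1 D2130 (iv D1566) (iv F6499)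
def n2131 : Q := act 7 n1562
theorem D2131 : act 7 n1562 = n2131 := rfl
theorem F8676 : act 1 n2131 = n1567 := d13_1 D2131 (iv D1567) (iv F6499)
theorem F8677 : act 4 n2131 = n1564 := d28_1 D2131 (iv D1564) (iv F6501)
def n2135 : Q := act 7 n1566
theorem D2135 : act 7 n1566 = n2135 := rfl
def n2166 : Q := act 5 n1592
theorem D2166 : act 5 n1592 = n2166 := rfl
theorem F8795 : act 0 n2166 = n2166 := d4_1 D2166 (iv D2166) F6600
theorem F8796 : act 1 n2166 = n1593 := d11_1 D2166 (iv D1593) D1592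
theorem F8797 : act 2 n2166 = n2166 := d17_1 D2166 (iv D2166) F6601
theorem F8798 : act 8 n2166 = n1608 := d32_2 (iv F6603) D2166 (iv D1608)
def n2167 : Q := act 7 n1592
theorem D2167 : act 7 n1592 = n2167 := rfl
theorem F8799 : act 0 n2167 = n2167 := d6_1 D2167 (iv D2167) F6600
theorem F8800 : act 1 n2167 = n1594 := d13_1 D2167 (iv D1594) D1592
theorem F8801 : act 2 n2167 = n2167 := d19_1 D2167 (iv D2167) F6601
theorem F8802 : act 4 n2167 = n2167 := d28_1 D2167 (iv D2167) F6602
theorem F8803 : act 8 n2167 = n2167 := d35_2 (iv F6603) D2167 (iv D2167) F6603 F5014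
def n2168 : Q := act 4 n1593
theorem D2168 : act 4 n1593 = n2168 := rfl
theorem F8804 : act 0 n2168 = n1598 := d3_1 D2168 (iv D1598) (iv F6604)
theorem F8805 : act 2 n2168 = n1595 := d16_1 D2168 (iv D1595) (iv F6605)
theorem F8806 : act 5 n2168 = n2168 := d26_2 D1593 D2168 (iv D2168) (iv D1593) F4962
theorem F8807 : act 8 n2168 = n1609 := d29_2 (iv F6606) D2168 (iv D1609)
def n2169 : Q := act 6 n1593
theorem D2169 : act 6 n1593 = n2169 := rfl
theorem F8808 : act 0 n2169 = n1599 := d5_1 D2169 (iv D1599) (iv F6604)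
theorem F8809 : act 2 n2169 = n1596 := d18_1 D2169 (iv D1596) (iv F6605)
theorem F8810 : act 8 n2169 = n1610 := d34_2 (iv F6606) D2169 (iv D1610)
def n2170 : Q := act 7 n1593
theorem D2170 : act 7 n1593 = n2170 := rfl
theorem F8811 : act 0 n2170 = n1600 := d6_1 D2170 (iv D1600) (iv F6604)
theorem F8812 : act 2 n2170 = n1597 := d19_1 D2170 (iv D1597) (iv F6605)
theorem F8813 : act 5 n2170 = n1594 := d31_1 D2170 (iv D1594) D1593
theorem F8814 : act 8 n2170 = n2170 := d35_2 (iv F6606) D2170 (iv D2170) F6606 F5017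
def n2171 : Q := act 3 n1594
theorem D2171 : act 3 n1594 = n2171 := rfl
theorem F8815 : act 0 n2171 = n1601 := d2_1 D2171 (iv D1601) (iv F6607)
theorem F8816 : act 2 n2171 = n2171 := d15_1 D2171 (iv D2171) F6608 F4970 (iv F6608)
theorem F8817 : act 8 n2171 = n2171 := d25_2 F6610 D2171 (iv D2171)
def n2172 : Q := act 6 n1595
theorem D2172 : act 6 n1595 = n2172 := rfl
theorem F8818 : act 0 n2172 = n1602 := d5_1 D2172 (iv D1602) (iv F6611)
theorem F8819 : act 1 n2172 = n2172 := d12_1 D2172 (iv D2172) F6612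
theorem F8820 : act 3 n2172 = n2172 := d23_1 D2172 (iv D2172) F6613
theorem F8821 : act 4 n2172 = n1596 := d27_1 D2172 (iv D1596) D1595
theorem F8822 : act 8 n2172 = n1611 := d34_2 (iv F6615) D2172 (iv D1611)
def n2173 : Q := act 7 n1595
theorem D2173 : act 7 n1595 = n2173 := rfl
theorem F8823 : act 0 n2173 = n1603 := d6_1 D2173 (iv D1603) (iv F6611)
theorem F8824 : act 1 n2173 = n2173 := d13_1 D2173 (iv D2173) F6612
theorem F8825 : act 4 n2173 = n1597 := d28_1 D2173 (iv D1597) D1595
theorem F8826 : act 5 n2173 = n2173 := d31_1 D2173 (iv D2173) F6614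
theorem F8827 : act 8 n2173 = n2173 := d35_2 (iv F6615) D2173 (iv D2173) F6615 F5022
def n2174 : Q := act 7 n1596
theorem D2174 : act 7 n1596 = n2174 := rfl
theorem F8828 : act 0 n2174 = n1604 := d6_1 D2174 (iv D1604) (iv F6616)
theorem F8829 : act 1 n2174 = n2174 := d13_1 D2174 (iv D2174) F6617
theorem F8830 : act 3 n2174 = n2174 := d24_1 D2174 (iv D2174) F6618 F4976 (iv F6618)
theorem F8831 : act 6 n2174 = n1597 := d33_1 D2174 (iv D1597) D1596
theorem F8832 : act 8 n2174 = n2174 := d35_2 (iv F6619) D2174 (iv D2174) F6619 F5026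
def n2175 : Q := act 3 n1598
theorem D2175 : act 3 n1598 = n2175 := rfl
theorem F8833 : act 1 n2175 = n2175 := d9_1 D2175 (iv D2175) F6625
theorem F8834 : act 2 n2175 = n2175 := d15_1 D2175 (iv D2175) F6626 F4986 (iv F6626)
theorem F8835 : act 5 n2175 = n2175 := d22_2 F6627 D2175 (iv D2175)
theorem F8836 : act 8 n2175 = n1612 := d25_2 (iv F6628) D2175 (iv D1612)
def n2176 : Q := act 6 n1598
theorem D2176 : act 6 n1598 = n2176 := rfl
theorem F8837 : act 1 n2176 = n2176 := d12_1 D2176 (iv D2176) F6625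
theorem F8838 : act 2 n2176 = n1602 := d18_1 D2176 (iv D1602) (iv F6626)
theorem F8839 : act 4 n2176 = n1599 := d27_1 D2176 (iv D1599) D1598
theorem F8840 : act 8 n2176 = n1613 := d34_2 (iv F6628) D2176 (iv D1613)
def n2177 : Q := act 7 n1598
theorem D2177 : act 7 n1598 = n2177 := rfl
theorem F8841 : act 1 n2177 = n2177 := d13_1 D2177 (iv D2177) F6625
theorem F8842 : act 2 n2177 = n1603 := d19_1 D2177 (iv D1603) (iv F6626)
theorem F8843 : act 4 n2177 = n1600 := d28_1 D2177 (iv D1600) D1598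
theorem F8844 : act 5 n2177 = n2177 := d31_1 D2177 (iv D2177) F6627
theorem F8845 : act 8 n2177 = n2177 := d35_2 (iv F6628) D2177 (iv D2177) F6628 F5030
def n2178 : Q := act 7 n1599
theorem D2178 : act 7 n1599 = n2178 := rfl
theorem F8846 : act 1 n2178 = n2178 := d13_1 D2178 (iv D2178) F6629
theorem F8847 : act 2 n2178 = n1604 := d19_1 D2178 (iv D1604) (iv F6630)
theorem F8848 : act 6 n2178 = n1600 := d33_1 D2178 (iv D1600) D1599
theorem F8849 : act 8 n2178 = n2178 := d35_2 (iv F6631) D2178 (iv D2178) F6631 F5033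
def n2179 : Q := act 3 n1600
theorem D2179 : act 3 n1600 = n2179 := rfl
theorem F8850 : act 1 n2179 = n2179 := d9_1 D2179 (iv D2179) F6632
theorem F8851 : act 2 n2179 = n2179 := d15_1 D2179 (iv D2179) F6633 F4993 (iv F6633)
theorem F8852 : act 5 n2179 = n1601 := d22_2 (iv F6634) D2179 (iv D1601)
theorem F8853 : act 8 n2179 = n2179 := d25_2 F6635 D2179 (iv D2179)
def n2180 : Q := act 4 n1601
theorem D2180 : act 4 n1601 = n2180 := rfl
theorem F8854 : act 1 n2180 = n2180 := d10_1 D2180 (iv D2180) F6636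
theorem F8855 : act 2 n2180 = n2180 := d16_1 D2180 (iv D2180) F6637
theorem F8856 : act 3 n2180 = n2180 := d21_1 D2180 (iv D2180) (iv D1601) F4983 D1601
theorem F8857 : act 8 n2180 = n2180 := d29_2 F6638 D2180 (iv D2180)
def n2181 : Q := act 5 n1602
theorem D2181 : act 5 n1602 = n2181 := rfl
theorem F8858 : act 1 n2181 = n1605 := d11_1 D2181 (iv D1605) (iv F6639)
theorem F8859 : act 3 n2181 = n2181 := d22_1 D2181 (iv D2181) F6640
theorem F8860 : act 6 n2181 = n2181 := d30_2 D1602 D2181 (iv D2181) (iv D1602) F4987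
theorem F8861 : act 8 n2181 = n1614 := d32_2 (iv F6642) D2181 (iv D1614)
def n2182 : Q := act 7 n1602
theorem D2182 : act 7 n1602 = n2182 := rfl
theorem F8862 : act 1 n2182 = n1606 := d13_1 D2182 (iv D1606) (iv F6639)
theorem F8863 : act 4 n2182 = n1604 := d28_1 D2182 (iv D1604) (iv F6641)
theorem F8864 : act 6 n2182 = n1603 := d33_1 D2182 (iv D1603) D1602
theorem F8865 : act 8 n2182 = n2182 := d35_2 (iv F6642) D2182 (iv D2182) F6642 F5037
def n2183 : Q := act 3 n1603
theorem D2183 : act 3 n1603 = n2183 := rfl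
theorem F8866 : act 1 n2183 = n1607 := d9_1 D2183 (iv D1607) (iv F6643)
theorem F8867 : act 4 n2183 = n2183 := d21_2 (iv F6644) D2183 (iv D2183) F6644 F4993
theorem F8868 : act 5 n2183 = n2183 := d22_2 F6645 D2183 (iv D2183)
theorem F8869 : act 7 n2183 = n2183 := d24_2 D1603 D2183 (iv D2183) (iv D1603) F4986
theorem F8870 : act 8 n2183 = n2183 := d25_2 F6646 D2183 (iv D2183)
def n2184 : Q := act 7 n1605
theorem D2184 : act 7 n1605 = n2184 := rfl
def n2185 : Q := act 3 n1606
theorem D2185 : act 3 n1606 = n2185 := rfl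
def n2186 : Q := act 2 n1607
theorem D2186 : act 2 n1607 = n2186 := rfl
def n2187 : Q := act 4 n1608
theorem D2187 : act 4 n1608 = n2187 := rfl
theorem F8887 : act 0 n2187 = n2187 := d3_1 D2187 (iv D2187) F6666
theorem F8888 : act 1 n2187 = n1609 := d10_1 D2187 (iv D1609) (iv F6667)
theorem F8889 : act 2 n2187 = n2187 := d16_1 D2187 (iv D2187) F6668
theorem F8890 : act 5 n2187 = n2187 := d26_2 D1608 D2187 (iv D2187) (iv D1608) F5013
theorem F8891 : act 7 n2187 = n2187 := d28_2 F6669 D2187 (iv D2187)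
def n2188 : Q := act 6 n1608
theorem D2188 : act 6 n1608 = n2188 := rfl
theorem F8892 : act 0 n2188 = n2188 := d5_1 D2188 (iv D2188) F6666
theorem F8893 : act 1 n2188 = n1610 := d12_1 D2188 (iv D1610) (iv F6667)
theorem F8894 : act 2 n2188 = n2188 := d18_1 D2188 (iv D2188) F6668
theorem F8895 : act 7 n2188 = n2188 := d33_2 F6669 D2188 (iv D2188)
def n2189 : Q := act 3 n1609
theorem D2189 : act 3 n1609 = n2189 := rfl
theorem F8896 : act 0 n2189 = n1612 := d2_1 D2189 (iv D1612) (iv F6670)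
theorem F8897 : act 2 n2189 = n2189 := d15_1 D2189 (iv D2189) F6671 F5020 (iv F6671)
theorem F8898 : act 5 n2189 = n2189 := d22_2 F6672 D2189 (iv D2189)
def n2190 : Q := act 6 n1609
theorem D2190 : act 6 n1609 = n2190 := rfl
theorem F8899 : act 0 n2190 = n1613 := d5_1 D2190 (iv D1613) (iv F6670)
theorem F8900 : act 2 n2190 = n1611 := d18_1 D2190 (iv D1611) (iv F6671)
theorem F8901 : act 4 n2190 = n1610 := d27_1 D2190 (iv D1610) D1609
theorem F8902 : act 7 n2190 = n2190 := d33_2 F6673 D2190 (iv D2190)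
def n2191 : Q := act 5 n1611
theorem D2191 : act 5 n1611 = n2191 := rfl
theorem F8903 : act 0 n2191 = n1614 := d4_1 D2191 (iv D1614) (iv F6677)
theorem F8904 : act 1 n2191 = n2191 := d11_1 D2191 (iv D2191) F6678
theorem F8905 : act 3 n2191 = n2191 := d22_1 D2191 (iv D2191) F6679
theorem F8906 : act 6 n2191 = n2191 := d30_2 D1611 D2191 (iv D2191) (iv D1611) F5021
theorem F8907 : act 7 n2191 = n2191 := d31_2 F6681 D2191 (iv D2191)
def n2192 : Q := act 6 n1612
theorem D2192 : act 6 n1612 = n2192 := rfl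
theorem F8908 : act 1 n2192 = n2192 := d12_1 D2192 (iv D2192) F6682
theorem F8909 : act 2 n2192 = n2192 := d18_1 D2192 (iv D2192) F6683
theorem F8910 : act 3 n2192 = n1613 := d23_1 D2192 (iv D1613) D1612
def n2193 : Q := act 7 n1612
theorem D2193 : act 7 n1612 = n2193 := rfl
def n2194 : Q := act 5 n1613
theorem D2194 : act 5 n1613 = n2194 := rfl
theorem F8915 : act 1 n2194 = n2194 := d11_1 D2194 (iv D2194) F6685
theorem F8916 : act 2 n2194 = n1614 := d17_1 D2194 (iv D1614) (iv F6686)
theorem F8917 : act 6 n2194 = n2194 := d30_2 D1613 D2194 (iv D2194) (iv D1613) F5029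
theorem F8918 : act 7 n2194 = n2194 := d31_2 F6688 D2194 (iv D2194)
def n2240 : Q := act 3 n1649
theorem D2240 : act 3 n1649 = n2240 := rfl
theorem F9115 : act 0 n2240 = n1650 := d2_1 D2240 (iv D1650) (iv F6846)
theorem F9116 : act 1 n2240 = n1777 := d9_1 D2240 (iv D1777) (iv F6847)
theorem F9117 : act 6 n2240 = n2240 := d23_2 F6849 D2240 (iv D2240)
def n2241 : Q := act 5 n1649
theorem D2241 : act 5 n1649 = n2241 := rfl
theorem F9118 : act 0 n2241 = n1651 := d4_1 D2241 (iv D1651) (iv F6846)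
theorem F9119 : act 1 n2241 = n1778 := d11_1 D2241 (iv D1778) (iv F6847)
theorem F9120 : act 2 n2241 = n2241 := d17_1 D2241 (iv D2241) F6848
theorem F9121 : act 4 n2241 = n2241 := d26_1 D2241 (iv D2241) (iv D1649) F5159 D1649
theorem F9122 : act 7 n2241 = n2241 := d31_2 F6850 D2241 (iv D2241)
def n2242 : Q := act 2 n1650
theorem D2242 : act 2 n1650 = n2242 := rfl
theorem F9123 : act 1 n2242 = n1657 := d8_1 D2242 (iv D1657) F5184 (iv F5167) (iv F6851)
theorem F9124 : act 3 n2242 = n2242 := d15_2 D1650 D2242 (iv D2242) (iv D1650) F5163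
theorem F9125 : act 6 n2242 = n2242 := d18_2 F6852 D2242 (iv D2242)
def n2243 : Q := act 5 n1650
theorem D2243 : act 5 n1650 = n2243 := rfl
theorem F9126 : act 1 n2243 = n1652 := d11_1 D2243 (iv D1652) (iv F6851)
theorem F9127 : act 3 n2243 = n1651 := d22_1 D2243 (iv D1651) D1650
def n2244 : Q := act 7 n1650
theorem D2244 : act 7 n1650 = n2244 := rfl
theorem F9128 : act 1 n2244 = n1653 := d13_1 D2244 (iv D1653) (iv F6851)
theorem F9129 : act 3 n2244 = n2244 := d24_1 D2244 (iv D2244) (iv D1650) F5165 D1650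
theorem F9130 : act 6 n2244 = n2244 := d33_1 D2244 (iv D2244) F6852
def n2245 : Q := act 6 n1651
theorem D2245 : act 6 n1651 = n2245 := rfl
def n2246 : Q := act 4 n1652
theorem D2246 : act 4 n1652 = n2246 := rfl
theorem F9136 : act 0 n2246 = n1783 := d3_1 D2246 (iv D1783) (iv F6857)
theorem F9137 : act 2 n2246 = n1661 := d16_1 D2246 (iv D1661) (iv F6858)
theorem F9138 : act 3 n2246 = n2246 := d21_1 D2246 (iv D2246) F6859 F5171 (iv F6859)
def n2247 : Q := act 6 n1652
theorem D2247 : act 6 n1652 = n2247 := rfl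
theorem F9139 : act 0 n2247 = n1784 := d5_1 D2247 (iv D1784) (iv F6857)
theorem F9141 : act 3 n2247 = n1654 := d23_1 D2247 (iv D1654) (iv F6859)
def n2248 : Q := act 7 n1652
theorem D2248 : act 7 n1652 = n2248 := rfl
theorem F9143 : act 0 n2248 = n1785 := d6_1 D2248 (iv D1785) (iv F6857)
theorem F9144 : act 2 n2248 = n1663 := d19_1 D2248 (iv D1663) (iv F6858)
theorem F9145 : act 3 n2248 = n2248 := d24_1 D2248 (iv D2248) F6859 F5172 (iv F6859)
theorem F9146 : act 5 n2248 = n1653 := d31_1 D2248 (iv D1653) D1652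
def n2249 : Q := act 8 n1653
theorem D2249 : act 8 n1653 = n2249 := rfl
theorem F9147 : act 0 n2249 = n1786 := d7_1 D2249 (iv D1786) (iv F6860)
theorem F9148 : act 2 n2249 = n1664 := d20_1 D2249 (iv D1664) (iv F6861)
theorem F9149 : act 3 n2249 = n2249 := d25_1 D2249 (iv D2249) F6862
theorem F9150 : act 6 n2249 = n2249 := d34_1 D2249 (iv D2249) F6863
def n2250 : Q := act 2 n1655
theorem D2250 : act 2 n1655 = n2250 := rfl
theorem F9151 : act 0 n2250 = n1657 := d1_1 D2250 (iv D1657) (iv F6869)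
theorem F9152 : act 3 n2250 = n2250 := d15_2 D1655 D2250 (iv D2250) (iv D1655) F5181
theorem F9153 : act 6 n2250 = n2250 := d18_2 F6871 D2250 (iv D2250)
def n2251 : Q := act 5 n1655
theorem D2251 : act 5 n1655 = n2251 := rfl
theorem F9154 : act 0 n2251 = n1658 := d4_1 D2251 (iv D1658) (iv F6869)
theorem F9155 : act 1 n2251 = n1798 := d11_1 D2251 (iv D1798) (iv F6870)
theorem F9156 : act 3 n2251 = n1656 := d22_1 D2251 (iv D1656) D1655
def n2252 : Q := act 7 n1655
theorem D2252 : act 7 n1655 = n2252 := rfl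
theorem F9157 : act 0 n2252 = n1659 := d6_1 D2252 (iv D1659) (iv F6869)
theorem F9158 : act 1 n2252 = n1799 := d13_1 D2252 (iv D1799) (iv F6870)
theorem F9159 : act 3 n2252 = n1681 := d24_1 D2252 (iv D1681) (iv D1237) (iv F5183) D1655
theorem F9160 : act 6 n2252 = n2252 := d33_1 D2252 (iv D2252) F6871
def n2253 : Q := act 6 n1656
theorem D2253 : act 6 n1656 = n2253 := rfl
theorem F9162 : act 1 n2253 = n1800 := d12_1 D2253 (iv D1800) (iv F6873)
theorem F9166 : act 7 n2253 = n1682 := d33_2 (iv F6876) D2253 (iv D1682)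
def n2254 : Q := act 5 n1657
theorem D2254 : act 5 n1657 = n2254 := rfl
theorem F9167 : act 2 n2254 = n1658 := d17_1 D2254 (iv D1658) D1657
theorem F9168 : act 3 n2254 = n2254 := d22_1 D2254 (iv D2254) F6877
def n2255 : Q := act 7 n1657
theorem D2255 : act 7 n1657 = n2255 := rfl
theorem F9169 : act 2 n2255 = n1659 := d19_1 D2255 (iv D1659) D1657
theorem F9170 : act 6 n2255 = n2255 := d33_1 D2255 (iv D2255) F6878
def n2256 : Q := act 4 n1658
theorem D2256 : act 4 n1658 = n2256 := rfl
theorem F9171 : act 1 n2256 = n1661 := d10_1 D2256 (iv D1661) (iv F6879)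
theorem F9172 : act 3 n2256 = n1671 := d21_1 D2256 (iv D1671) F5211 (iv F5188) (iv F6880)
def n2257 : Q := act 6 n1658
theorem D2257 : act 6 n1658 = n2257 := rfl
def n2258 : Q := act 7 n1658
theorem D2258 : act 7 n1658 = n2258 := rfl
theorem F9176 : act 1 n2258 = n1663 := d13_1 D2258 (iv D1663) (iv F6879)
theorem F9177 : act 3 n2258 = n1687 := d24_1 D2258 (iv D1687) F5249 (iv F5189) (iv F6880)
theorem F9178 : act 5 n2258 = n1659 := d31_1 D2258 (iv D1659) D1658
def n2259 : Q := act 8 n1659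
theorem D2259 : act 8 n1659 = n2259 := rfl
theorem F9179 : act 1 n2259 = n1664 := d14_1 D2259 (iv D1664) (iv F6881)
theorem F9180 : act 3 n2259 = n1688 := d25_1 D2259 (iv D1688) (iv F6882)
theorem F9181 : act 6 n2259 = n2259 := d34_1 D2259 (iv D2259) F6883
def n2260 : Q := act 6 n1661
theorem D2260 : act 6 n1661 = n2260 := rfl
theorem F9182 : act 0 n2260 = n1807 := d5_1 D2260 (iv D1807) (iv F6889)
def n2261 : Q := act 7 n1661
theorem D2261 : act 7 n1661 = n2261 := rfl
theorem F9185 : act 0 n2261 = n1808 := d6_1 D2261 (iv D1808) (iv F6889)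
theorem F9186 : act 4 n2261 = n1663 := d28_1 D2261 (iv D1663) D1661
def n2262 : Q := act 7 n1662
theorem D2262 : act 7 n1662 = n2262 := rfl
theorem F9187 : act 0 n2262 = n1809 := d6_1 D2262 (iv D1809) (iv F6891)
theorem F9188 : act 3 n2262 = n1691 := d24_1 D2262 (iv D1691) F5266 (iv F5199) (iv F6892)
def n2263 : Q := act 8 n1663
theorem D2263 : act 8 n1663 = n2263 := rfl
theorem F9191 : act 0 n2263 = n1810 := d7_1 D2263 (iv D1810) (iv F6894)
theorem F9192 : act 3 n2263 = n1692 := d25_1 D2263 (iv D1692) (iv F6895)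
theorem F9193 : act 5 n2263 = n1664 := d32_1 D2263 (iv D1664) (iv F6896)
def n2264 : Q := act 1 n1665
theorem D2264 : act 1 n1665 = n2264 := rfl
theorem F9194 : act 0 n2264 = n2264 := d0_1 D2264 (iv D2264) F6900 F5207 (iv F6900)
theorem F9195 : act 2 n2264 = n1825 := d8_2 D1665 D2264 (iv D1825) (iv D1339) (iv F5201)
theorem F9196 : act 3 n2264 = n2264 := d9_2 F6901 D2264 (iv D2264)
theorem F9197 : act 6 n2264 = n2000 := d12_2 (iv F6902) D2264 (iv D2000)
def n2265 : Q := act 5 n1665
theorem D2265 : act 5 n1665 = n2265 := rfl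
theorem F9198 : act 0 n2265 = n1669 := d4_1 D2265 (iv D1669) (iv F6900)
theorem F9199 : act 2 n2265 = n1666 := d17_1 D2265 (iv D1666) D1665
theorem F9200 : act 3 n2265 = n2265 := d22_1 D2265 (iv D2265) F6901
def n2266 : Q := act 7 n1665
theorem D2266 : act 7 n1665 = n2266 := rfl
def n2267 : Q := act 4 n1666
theorem D2267 : act 4 n1666 = n2267 := rfl
theorem F9204 : act 0 n2267 = n1671 := d3_1 D2267 (iv D1671) (iv F6903)
theorem F9205 : act 1 n2267 = n1828 := d10_1 D2267 (iv D1828) (iv F6904)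
def n2268 : Q := act 6 n1666
theorem D2268 : act 6 n1666 = n2268 := rfl
theorem F9207 : act 1 n2268 = n1829 := d12_1 D2268 (iv D1829) (iv F6904)
theorem F9209 : act 5 n2268 = n2004 := d30_1 D2268 (iv D2004) (iv D1472) (iv F5202) D1666
def n2269 : Q := act 7 n1666
theorem D2269 : act 7 n1666 = n2269 := rfl
theorem F9210 : act 0 n2269 = n1673 := d6_1 D2269 (iv D1673) (iv F6903)
def n2270 : Q := act 8 n1667
theorem D2270 : act 8 n1667 = n2270 := rfl
theorem F9215 : act 1 n2270 = n1831 := d14_1 D2270 (iv D1831) (iv F6907)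
theorem F9216 : act 3 n2270 = n1698 := d25_1 D2270 (iv D1698) (iv F6908)
def n2271 : Q := act 4 n1669
theorem D2271 : act 4 n1669 = n2271 := rfl
theorem F9218 : act 1 n2271 = n2271 := d10_1 D2271 (iv D2271) F6915
theorem F9219 : act 2 n2271 = n1671 := d16_1 D2271 (iv D1671) (iv F6916)
def n2272 : Q := act 6 n1669
theorem D2272 : act 6 n1669 = n2272 := rfl
def n2273 : Q := act 7 n1669
theorem D2273 : act 7 n1669 = n2273 := rfl
theorem F9226 : act 5 n2273 = n1670 := d31_1 D2273 (iv D1670) D1669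
def n2275 : Q := act 8 n1670
theorem D2275 : act 8 n1670 = n2275 := rfl
def n2276 : Q := act 6 n1671
theorem D2276 : act 6 n1671 = n2276 := rfl
def n2277 : Q := act 7 n1671
theorem D2277 : act 7 n1671 = n2277 := rfl
def n2279 : Q := act 8 n1673
theorem D2279 : act 8 n1673 = n2279 := rfl
theorem F9242 : act 1 n2279 = n1678 := d14_1 D2279 (iv D1678) (iv F6925)
def n2280 : Q := act 5 n1675
theorem D2280 : act 5 n1675 = n2280 := rfl
def n2282 : Q := act 3 n1676
theorem D2282 : act 3 n1676 = n2282 := rfl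
def n2285 : Q := act 1 n1679
theorem D2285 : act 1 n1679 = n2285 := rfl
theorem F9262 : act 0 n2285 = n2285 := d0_1 D2285 (iv D2285) F6946 F5243 (iv F6946)
theorem F9263 : act 2 n2285 = n1845 := d8_2 D1679 D2285 (iv D1845) (iv D1353) (iv F5234)
theorem F9264 : act 3 n2285 = n2285 := d9_2 F6947 D2285 (iv D2285)
theorem F9265 : act 4 n2285 = n2285 := d10_2 F6948 D2285 (iv D2285)
theorem F9266 : act 6 n2285 = n2285 := d12_2 F6949 D2285 (iv D2285)
theorem F9267 : act 8 n2285 = n2285 := d14_2 F6950 D2285 (iv D2285)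
def n2286 : Q := act 5 n1679
theorem D2286 : act 5 n1679 = n2286 := rfl
theorem F9268 : act 0 n2286 = n1683 := d4_1 D2286 (iv D1683) (iv F6946)
theorem F9269 : act 2 n2286 = n1680 := d17_1 D2286 (iv D1680) D1679
theorem F9270 : act 3 n2286 = n2286 := d22_1 D2286 (iv D2286) F6947
theorem F9271 : act 8 n2286 = n2286 := d32_2 F6950 D2286 (iv D2286)
def n2287 : Q := act 7 n1679
theorem D2287 : act 7 n1679 = n2287 := rfl
theorem F9272 : act 0 n2287 = n1684 := d6_1 D2287 (iv D1684) (iv F6946)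
theorem F9273 : act 2 n2287 = n1681 := d19_1 D2287 (iv D1681) D1679
theorem F9274 : act 4 n2287 = n2287 := d28_1 D2287 (iv D2287) F6948
theorem F9275 : act 6 n2287 = n2287 := d33_1 D2287 (iv D2287) F6949
def n2289 : Q := act 6 n1680
theorem D2289 : act 6 n1680 = n2289 := rfl
theorem F9282 : act 1 n2289 = n1849 := d12_1 D2289 (iv D1849) (iv F6952)
theorem F9283 : act 3 n2289 = n1682 := d23_1 D2289 (iv D1682) (iv F6953)
def n2290 : Q := act 7 n1680
theorem D2290 : act 7 n1680 = n2290 := rfl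
theorem F9286 : act 0 n2290 = n1687 := d6_1 D2290 (iv D1687) (iv F6951)
theorem F9287 : act 1 n2290 = n1850 := d13_1 D2290 (iv D1850) (iv F6952)
theorem F9288 : act 5 n2290 = n1681 := d31_1 D2290 (iv D1681) D1680
def n2291 : Q := act 8 n1681
theorem D2291 : act 8 n1681 = n2291 := rfl
theorem F9289 : act 0 n2291 = n1688 := d7_1 D2291 (iv D1688) (iv F6955)
theorem F9290 : act 1 n2291 = n1851 := d14_1 D2291 (iv D1851) (iv F6956)
theorem F9291 : act 4 n2291 = n2291 := d29_1 D2291 (iv D2291) F6957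
theorem F9292 : act 6 n2291 = n2291 := d34_1 D2291 (iv D2291) F6958
theorem F9293 : act 7 n2291 = n2291 := d35_1 D2291 (iv D2291) (iv D1681) F5237 D1681
def n2294 : Q := act 7 n1683
theorem D2294 : act 7 n1683 = n2294 := rfl
theorem F9303 : act 1 n2294 = n2294 := d13_1 D2294 (iv D2294) F6965
theorem F9304 : act 2 n2294 = n1687 := d19_1 D2294 (iv D1687) (iv F6966)
theorem F9305 : act 5 n2294 = n1684 := d31_1 D2294 (iv D1684) D1683
def n2295 : Q := act 3 n1684
theorem D2295 : act 3 n1684 = n2295 := rfl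
theorem F9306 : act 1 n2295 = n2295 := d9_1 D2295 (iv D2295) F6969
theorem F9307 : act 6 n2295 = n2295 := d23_2 F6972 D2295 (iv D2295)
theorem F9308 : act 7 n2295 = n2295 := d24_2 D1684 D2295 (iv D2295) (iv D1684) F5244
def n2296 : Q := act 8 n1684
theorem D2296 : act 8 n1684 = n2296 := rfl
theorem F9309 : act 1 n2296 = n2296 := d14_1 D2296 (iv D2296) F6969
theorem F9310 : act 2 n2296 = n1688 := d20_1 D2296 (iv D1688) (iv F6970)
theorem F9311 : act 4 n2296 = n2296 := d29_1 D2296 (iv D2296) F6971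
theorem F9312 : act 6 n2296 = n2296 := d34_1 D2296 (iv D2296) F6972
theorem F9313 : act 7 n2296 = n2296 := d35_1 D2296 (iv D2296) (iv D1684) F5247 D1684
def n2300 : Q := act 8 n1687
theorem D2300 : act 8 n1687 = n2300 := rfl
theorem F9324 : act 1 n2300 = n1692 := d14_1 D2300 (iv D1692) (iv F6981)
theorem F9325 : act 5 n2300 = n1688 := d32_1 D2300 (iv D1688) (iv F6982)
theorem F9326 : act 7 n2300 = n2300 := d35_1 D2300 (iv D2300) (iv D1687) F5250 D1687
def n2305 : Q := act 8 n1691
theorem D2305 : act 8 n1691 = n2305 := rfl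
theorem F9345 : act 0 n2305 = n1865 := d7_1 D2305 (iv D1865) (iv F6996)
def n2358 : Q := act 4 n1731
theorem D2358 : act 4 n1731 = n2358 := rfl
theorem F9565 : act 0 n2358 = n1732 := d3_1 D2358 (iv D1732) D1731
theorem F9566 : act 2 n2358 = n2358 := d16_1 D2358 (iv D2358) F7164
theorem F9567 : act 6 n2358 = n2358 := d27_2 F7167 D2358 (iv D2358)
theorem F9568 : act 7 n2358 = n1736 := d28_2 (iv F7168) D2358 (iv D1736)
theorem F9569 : act 8 n2358 = n2358 := d29_2 F7169 D2358 (iv D2358)
def n2359 : Q := act 3 n1732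
theorem D2359 : act 3 n1732 = n2359 := rfl
theorem F9570 : act 1 n2359 = n1733 := d9_1 D2359 (iv D1733) (iv F7170)
theorem F9571 : act 4 n2359 = n2359 := d21_2 D1732 D2359 (iv D2359) (iv D1732) F5395
theorem F9572 : act 6 n2359 = n2359 := d23_2 F7172 D2359 (iv D2359)
theorem F9573 : act 8 n2359 = n2359 := d25_2 F7174 D2359 (iv D2359)
def n2360 : Q := act 5 n1732
theorem D2360 : act 5 n1732 = n2360 := rfl
theorem F9574 : act 1 n2360 = n1734 := d11_1 D2360 (iv D1734) (iv F7170)
theorem F9575 : act 2 n2360 = n2360 := d17_1 D2360 (iv D2360) F7171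
theorem F9576 : act 4 n2360 = n2360 := d26_1 D2360 (iv D2360) (iv D1732) F5396 D1732
theorem F9577 : act 7 n2360 = n1738 := d31_2 (iv F7173) D2360 (iv D1738)
theorem F9578 : act 8 n2360 = n2360 := d32_2 F7174 D2360 (iv D2360)
def n2361 : Q := act 5 n1733
theorem D2361 : act 5 n1733 = n2361 := rfl
theorem F9579 : act 2 n2361 = n2361 := d17_1 D2361 (iv D2361) F7175
theorem F9580 : act 3 n2361 = n1734 := d22_1 D2361 (iv D1734) D1733
theorem F9581 : act 8 n2361 = n2361 := d32_2 F7178 D2361 (iv D2361)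
def n2362 : Q := act 7 n1733
theorem D2362 : act 7 n1733 = n2362 := rfl
theorem F9582 : act 2 n2362 = n2362 := d19_1 D2362 (iv D2362) F7175
theorem F9583 : act 3 n2362 = n1740 := d24_1 D2362 (iv D1740) (iv D1280) (iv F5402) D1733
theorem F9584 : act 4 n2362 = n2362 := d28_1 D2362 (iv D2362) F7176
theorem F9585 : act 6 n2362 = n2362 := d33_1 D2362 (iv D2362) F7177
def n2363 : Q := act 6 n1734
theorem D2363 : act 6 n1734 = n2363 := rfl
theorem F9586 : act 2 n2363 = n1735 := d18_1 D2363 (iv D1735) (iv F7179)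
theorem F9587 : act 4 n2363 = n2363 := d27_1 D2363 (iv D2363) F7180
theorem F9588 : act 5 n2363 = n2363 := d30_1 D2363 (iv D2363) (iv D1734) F5401 D1734
theorem F9589 : act 7 n2363 = n1741 := d33_2 (iv F7181) D2363 (iv D1741)
theorem F9590 : act 8 n2363 = n2363 := d34_2 F7182 D2363 (iv D2363)
def n2364 : Q := act 3 n1736
theorem D2364 : act 3 n1736 = n2364 := rfl
theorem F9591 : act 0 n2364 = n1737 := d2_1 D2364 (iv D1737) (iv F7189)
theorem F9592 : act 4 n2364 = n1777 := d21_2 D1736 D2364 (iv D1777) (iv D1307) (iv F5410)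
theorem F9593 : act 6 n2364 = n2364 := d23_2 F7191 D2364 (iv D2364)
theorem F9594 : act 8 n2364 = n2240 := d25_2 (iv F7192) D2364 (iv D2240)
def n2365 : Q := act 5 n1736
theorem D2365 : act 5 n1736 = n2365 := rfl
theorem F9595 : act 0 n2365 = n1738 := d4_1 D2365 (iv D1738) (iv F7189)
theorem F9596 : act 2 n2365 = n2365 := d17_1 D2365 (iv D2365) F7190
theorem F9597 : act 4 n2365 = n2365 := d26_1 D2365 (iv D2365) (iv D1736) F5411 D1736
theorem F9598 : act 8 n2365 = n2241 := d32_2 (iv F7192) D2365 (iv D2241)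
def n2366 : Q := act 2 n1737
theorem D2366 : act 2 n1737 = n2366 := rfl
theorem F9599 : act 1 n2366 = n1744 := d8_1 D2366 (iv D1744) F5435 (iv F5418) (iv F7193)
theorem F9600 : act 3 n2366 = n2366 := d15_2 D1737 D2366 (iv D2366) (iv D1737) F5415
theorem F9601 : act 4 n2366 = n1779 := d16_2 (iv F7194) D2366 (iv D1779)
theorem F9602 : act 6 n2366 = n2366 := d18_2 F7195 D2366 (iv D2366)
theorem F9603 : act 8 n2366 = n2242 := d20_2 (iv F7196) D2366 (iv D2242)
def n2367 : Q := act 5 n1737
theorem D2367 : act 5 n1737 = n2367 := rfl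
theorem F9604 : act 1 n2367 = n1739 := d11_1 D2367 (iv D1739) (iv F7193)
theorem F9605 : act 3 n2367 = n1738 := d22_1 D2367 (iv D1738) D1737
theorem F9606 : act 8 n2367 = n2243 := d32_2 (iv F7196) D2367 (iv D2243)
def n2368 : Q := act 7 n1737
theorem D2368 : act 7 n1737 = n2368 := rfl
theorem F9607 : act 1 n2368 = n1740 := d13_1 D2368 (iv D1740) (iv F7193)
theorem F9608 : act 4 n2368 = n1781 := d28_1 D2368 (iv D1781) (iv F7194)
theorem F9609 : act 6 n2368 = n2368 := d33_1 D2368 (iv D2368) F7195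
def n2369 : Q := act 6 n1738
theorem D2369 : act 6 n1738 = n2369 := rfl
theorem F9610 : act 1 n2369 = n1741 := d12_1 D2369 (iv D1741) (iv F7197)
theorem F9611 : act 2 n2369 = n2369 := d18_1 D2369 (iv D2369) F7198
theorem F9612 : act 4 n2369 = n2369 := d27_1 D2369 (iv D2369) F7199
theorem F9613 : act 5 n2369 = n2369 := d30_1 D2369 (iv D2369) (iv D1738) F5416 D1738
theorem F9614 : act 8 n2369 = n2245 := d34_2 (iv F7200) D2369 (iv D2245)
def n2370 : Q := act 4 n1739
theorem D2370 : act 4 n1739 = n2370 := rfl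
theorem F9615 : act 2 n2370 = n1748 := d16_1 D2370 (iv D1748) (iv F7201)
theorem F9616 : act 3 n2370 = n2370 := d21_1 D2370 (iv D2370) F7202 F5423 (iv F7202)
theorem F9617 : act 5 n2370 = n1783 := d26_2 D1739 D2370 (iv D1783) (iv D1310) (iv F5419)
theorem F9618 : act 8 n2370 = n2246 := d29_2 (iv F7203) D2370 (iv D2246)
def n2371 : Q := act 6 n1739
theorem D2371 : act 6 n1739 = n2371 := rfl
theorem F9619 : act 2 n2371 = n1749 := d18_1 D2371 (iv D1749) (iv F7201)
theorem F9620 : act 3 n2371 = n1741 := d23_1 D2371 (iv D1741) (iv F7202)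
theorem F9621 : act 5 n2371 = n2371 := d30_1 D2371 (iv D2371) (iv D1739) F5420 D1739
theorem F9622 : act 8 n2371 = n2247 := d34_2 (iv F7203) D2371 (iv D2247)
def n2372 : Q := act 7 n1739
theorem D2372 : act 7 n1739 = n2372 := rfl
theorem F9623 : act 2 n2372 = n1750 := d19_1 D2372 (iv D1750) (iv F7201)
theorem F9624 : act 5 n2372 = n1740 := d31_1 D2372 (iv D1740) D1739
def n2373 : Q := act 8 n1740
theorem D2373 : act 8 n1740 = n2373 := rfl
theorem F9625 : act 2 n2373 = n1751 := d20_1 D2373 (iv D1751) (iv F7204)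
theorem F9626 : act 4 n2373 = n1786 := d29_1 D2373 (iv D1786) (iv F7205)
theorem F9627 : act 6 n2373 = n2373 := d34_1 D2373 (iv D2373) F7206
theorem F9628 : act 7 n2373 = n2249 := d35_1 D2373 (iv D2249) (iv D1653) (iv F5421) D1740
def n2374 : Q := act 2 n1742
theorem D2374 : act 2 n1742 = n2374 := rfl
theorem F9629 : act 0 n2374 = n1744 := d1_1 D2374 (iv D1744) (iv F7211)
theorem F9630 : act 3 n2374 = n2374 := d15_2 D1742 D2374 (iv D2374) (iv D1742) F5431
theorem F9631 : act 4 n2374 = n1797 := d16_2 (iv F7212) D2374 (iv D1797)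
theorem F9632 : act 6 n2374 = n2374 := d18_2 F7213 D2374 (iv D2374)
theorem F9633 : act 8 n2374 = n2250 := d20_2 (iv F7214) D2374 (iv D2250)
def n2375 : Q := act 5 n1742
theorem D2375 : act 5 n1742 = n2375 := rfl
theorem F9634 : act 0 n2375 = n1745 := d4_1 D2375 (iv D1745) (iv F7211)
theorem F9635 : act 3 n2375 = n1743 := d22_1 D2375 (iv D1743) D1742
theorem F9636 : act 8 n2375 = n2251 := d32_2 (iv F7214) D2375 (iv D2251)
def n2376 : Q := act 7 n1742
theorem D2376 : act 7 n1742 = n2376 := rfl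
theorem F9637 : act 0 n2376 = n1746 := d6_1 D2376 (iv D1746) (iv F7211)
theorem F9638 : act 3 n2376 = n2376 := d24_1 D2376 (iv D2376) (iv D1742) F5433 D1742
theorem F9639 : act 4 n2376 = n1799 := d28_1 D2376 (iv D1799) (iv F7212)
theorem F9640 : act 6 n2376 = n2376 := d33_1 D2376 (iv D2376) F7213
def n2377 : Q := act 6 n1743
theorem D2377 : act 6 n1743 = n2377 := rfl
theorem F9641 : act 0 n2377 = n1747 := d5_1 D2377 (iv D1747) (iv F7215)
theorem F9642 : act 2 n2377 = n2377 := d18_1 D2377 (iv D2377) F7216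
theorem F9643 : act 4 n2377 = n1755 := d27_1 D2377 (iv D1755) (iv F7217)
theorem F9644 : act 5 n2377 = n2377 := d30_1 D2377 (iv D2377) (iv D1743) F5432 D1743
theorem F9645 : act 7 n2377 = n2377 := d33_2 F7218 D2377 (iv D2377)
theorem F9646 : act 8 n2377 = n2253 := d34_2 (iv F7219) D2377 (iv D2253)
def n2378 : Q := act 5 n1744
theorem D2378 : act 5 n1744 = n2378 := rfl
theorem F9647 : act 2 n2378 = n1745 := d17_1 D2378 (iv D1745) D1744
theorem F9648 : act 3 n2378 = n2378 := d22_1 D2378 (iv D2378) F7220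
theorem F9649 : act 8 n2378 = n2254 := d32_2 (iv F7223) D2378 (iv D2254)
def n2379 : Q := act 7 n1744
theorem D2379 : act 7 n1744 = n2379 := rfl
theorem F9650 : act 2 n2379 = n1746 := d19_1 D2379 (iv D1746) D1744
theorem F9651 : act 4 n2379 = n1802 := d28_1 D2379 (iv D1802) (iv F7221)
theorem F9652 : act 6 n2379 = n2379 := d33_1 D2379 (iv D2379) F7222
def n2380 : Q := act 4 n1745
theorem D2380 : act 4 n1745 = n2380 := rfl
theorem F9653 : act 1 n2380 = n1748 := d10_1 D2380 (iv D1748) (iv F7224)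
theorem F9654 : act 3 n2380 = n1758 := d21_1 D2380 (iv D1758) F5468 (iv F5441) (iv F7225)
theorem F9655 : act 5 n2380 = n1803 := d26_2 D1745 D2380 (iv D1803) (iv D1322) (iv F5436)
theorem F9656 : act 8 n2380 = n2256 := d29_2 (iv F7226) D2380 (iv D2256)
def n2381 : Q := act 6 n1745
theorem D2381 : act 6 n1745 = n2381 := rfl
theorem F9657 : act 1 n2381 = n1749 := d12_1 D2381 (iv D1749) (iv F7224)
theorem F9658 : act 3 n2381 = n1747 := d23_1 D2381 (iv D1747) (iv F7225)
theorem F9659 : act 5 n2381 = n2381 := d30_1 D2381 (iv D2381) (iv D1745) F5437 D1745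
theorem F9660 : act 8 n2381 = n2257 := d34_2 (iv F7226) D2381 (iv D2257)
def n2382 : Q := act 7 n1745
theorem D2382 : act 7 n1745 = n2382 := rfl
theorem F9661 : act 1 n2382 = n1750 := d13_1 D2382 (iv D1750) (iv F7224)
theorem F9662 : act 3 n2382 = n2382 := d24_1 D2382 (iv D2382) F7225 F5442 (iv F7225)
theorem F9663 : act 5 n2382 = n1746 := d31_1 D2382 (iv D1746) D1745
def n2383 : Q := act 8 n1746
theorem D2383 : act 8 n1746 = n2383 := rfl
theorem F9664 : act 1 n2383 = n1751 := d14_1 D2383 (iv D1751) (iv F7227)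
theorem F9665 : act 3 n2383 = n2383 := d25_1 D2383 (iv D2383) F7228
theorem F9666 : act 4 n2383 = n1806 := d29_1 D2383 (iv D1806) (iv F7229)
theorem F9667 : act 6 n2383 = n2383 := d34_1 D2383 (iv D2383) F7230
theorem F9668 : act 7 n2383 = n2259 := d35_1 D2383 (iv D2259) (iv D1659) (iv F5438) D1746
def n2384 : Q := act 6 n1748
theorem D2384 : act 6 n1748 = n2384 := rfl
theorem F9669 : act 3 n2384 = n1762 := d23_1 D2384 (iv D1762) (iv F7237)
theorem F9670 : act 4 n2384 = n1749 := d27_1 D2384 (iv D1749) D1748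
theorem F9671 : act 8 n2384 = n2260 := d34_2 (iv F7239) D2384 (iv D2260)
def n2385 : Q := act 7 n1748
theorem D2385 : act 7 n1748 = n2385 := rfl
theorem F9672 : act 4 n2385 = n1750 := d28_1 D2385 (iv D1750) D1748
theorem F9673 : act 5 n2385 = n1808 := d31_1 D2385 (iv D1808) (iv F7238)
def n2386 : Q := act 7 n1749
theorem D2386 : act 7 n1749 = n2386 := rfl
theorem F9674 : act 3 n2386 = n2386 := d24_1 D2386 (iv D2386) F7240 F5452 (iv F7240)
theorem F9675 : act 5 n2386 = n2386 := d31_1 D2386 (iv D2386) F7241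
theorem F9676 : act 6 n2386 = n1750 := d33_1 D2386 (iv D1750) D1749
def n2387 : Q := act 8 n1750
theorem D2387 : act 8 n1750 = n2387 := rfl
theorem F9677 : act 3 n2387 = n2387 := d25_1 D2387 (iv D2387) F7243
theorem F9678 : act 5 n2387 = n1751 := d32_1 D2387 (iv D1751) (iv F7244)
theorem F9679 : act 7 n2387 = n2263 := d35_1 D2387 (iv D2263) (iv D1663) (iv F5445) D1750
def n2388 : Q := act 1 n1752
theorem D2388 : act 1 n1752 = n2388 := rfl
theorem F9680 : act 0 n2388 = n2388 := d0_1 D2388 (iv D2388) F7249 F5462 (iv F7249)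
theorem F9681 : act 3 n2388 = n2388 := d9_2 F7250 D2388 (iv D2388)
theorem F9682 : act 4 n2388 = n1825 := d10_2 (iv F7251) D2388 (iv D1825)
theorem F9683 : act 6 n2388 = n2073 := d12_2 (iv F7252) D2388 (iv D2073)
theorem F9684 : act 8 n2388 = n2264 := d14_2 (iv F7253) D2388 (iv D2264)
def n2389 : Q := act 5 n1752
theorem D2389 : act 5 n1752 = n2389 := rfl
theorem F9685 : act 0 n2389 = n1756 := d4_1 D2389 (iv D1756) (iv F7249)
theorem F9686 : act 2 n2389 = n1753 := d17_1 D2389 (iv D1753) D1752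
theorem F9687 : act 3 n2389 = n2389 := d22_1 D2389 (iv D2389) F7250
theorem F9688 : act 8 n2389 = n2265 := d32_2 (iv F7253) D2389 (iv D2265)
def n2390 : Q := act 7 n1752
theorem D2390 : act 7 n1752 = n2390 := rfl
theorem F9689 : act 0 n2390 = n1757 := d6_1 D2390 (iv D1757) (iv F7249)
theorem F9690 : act 2 n2390 = n1754 := d19_1 D2390 (iv D1754) D1752
theorem F9691 : act 4 n2390 = n1827 := d28_1 D2390 (iv D1827) (iv F7251)
theorem F9692 : act 6 n2390 = n2075 := d33_1 D2390 (iv D2075) (iv F7252)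
def n2391 : Q := act 4 n1753
theorem D2391 : act 4 n1753 = n2391 := rfl
theorem F9693 : act 0 n2391 = n1758 := d3_1 D2391 (iv D1758) (iv F7254)
theorem F9694 : act 5 n2391 = n1828 := d26_2 D1753 D2391 (iv D1828) (iv D1340) (iv F5455)
theorem F9695 : act 8 n2391 = n2267 := d29_2 (iv F7256) D2391 (iv D2267)
def n2392 : Q := act 6 n1753
theorem D2392 : act 6 n1753 = n2392 := rfl
theorem F9696 : act 0 n2392 = n1759 := d5_1 D2392 (iv D1759) (iv F7254)
theorem F9697 : act 3 n2392 = n1755 := d23_1 D2392 (iv D1755) (iv F7255)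
theorem F9698 : act 5 n2392 = n2077 := d30_1 D2392 (iv D2077) (iv D1524) (iv F5456) D1753
theorem F9699 : act 8 n2392 = n2268 := d34_2 (iv F7256) D2392 (iv D2268)
def n2393 : Q := act 7 n1753
theorem D2393 : act 7 n1753 = n2393 := rfl
theorem F9700 : act 0 n2393 = n1760 := d6_1 D2393 (iv D1760) (iv F7254)
theorem F9701 : act 3 n2393 = n2393 := d24_1 D2393 (iv D2393) F7255 F5460 (iv F7255)
theorem F9702 : act 5 n2393 = n1754 := d31_1 D2393 (iv D1754) D1753
def n2394 : Q := act 8 n1754
theorem D2394 : act 8 n1754 = n2394 := rfl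
theorem F9703 : act 0 n2394 = n1761 := d7_1 D2394 (iv D1761) (iv F7257)
theorem F9704 : act 3 n2394 = n2394 := d25_1 D2394 (iv D2394) F7258
theorem F9705 : act 4 n2394 = n1831 := d29_1 D2394 (iv D1831) (iv F7259)
theorem F9707 : act 7 n2394 = n2270 := d35_1 D2394 (iv D2270) (iv D1667) (iv F5457) D1754
def n2395 : Q := act 4 n1756
theorem D2395 : act 4 n1756 = n2395 := rfl
theorem F9708 : act 1 n2395 = n2395 := d10_1 D2395 (iv D2395) F7266
theorem F9709 : act 2 n2395 = n1758 := d16_1 D2395 (iv D1758) (iv F7267)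
theorem F9710 : act 5 n2395 = n1832 := d26_2 D1756 D2395 (iv D1832) (iv D1343) (iv F5464)
theorem F9711 : act 8 n2395 = n2271 := d29_2 (iv F7269) D2395 (iv D2271)
def n2396 : Q := act 6 n1756
theorem D2396 : act 6 n1756 = n2396 := rfl
theorem F9712 : act 1 n2396 = n2396 := d12_1 D2396 (iv D2396) F7266
theorem F9713 : act 2 n2396 = n1759 := d18_1 D2396 (iv D1759) (iv F7267)
theorem F9714 : act 3 n2396 = n2396 := d23_1 D2396 (iv D2396) F7268
theorem F9715 : act 5 n2396 = n2081 := d30_1 D2396 (iv D2081) (iv D1527) (iv F5465) D1756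
theorem F9716 : act 8 n2396 = n2272 := d34_2 (iv F7269) D2396 (iv D2272)
def n2397 : Q := act 7 n1756
theorem D2397 : act 7 n1756 = n2397 := rfl
theorem F9717 : act 1 n2397 = n2397 := d13_1 D2397 (iv D2397) F7266
theorem F9718 : act 2 n2397 = n1760 := d19_1 D2397 (iv D1760) (iv F7267)
theorem F9719 : act 5 n2397 = n1757 := d31_1 D2397 (iv D1757) D1756
def n2398 : Q := act 3 n1757
theorem D2398 : act 3 n1757 = n2398 := rfl
theorem F9720 : act 1 n2398 = n2398 := d9_1 D2398 (iv D2398) F7270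
theorem F9721 : act 2 n2398 = n2398 := d15_1 D2398 (iv D2398) F7271 F5471 (iv F7271)
theorem F9722 : act 4 n2398 = n2398 := d21_2 (iv F7272) D2398 (iv D2398) F7272 F5671
theorem F9723 : act 6 n2398 = n2083 := d23_2 (iv F7273) D2398 (iv D2083)
theorem F9724 : act 7 n2398 = n2398 := d24_2 D1757 D2398 (iv D2398) (iv D1757) F5463
def n2399 : Q := act 8 n1757
theorem D2399 : act 8 n1757 = n2399 := rfl
theorem F9725 : act 1 n2399 = n2399 := d14_1 D2399 (iv D2399) F7270
theorem F9726 : act 2 n2399 = n1761 := d20_1 D2399 (iv D1761) (iv F7271)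
theorem F9727 : act 4 n2399 = n1835 := d29_1 D2399 (iv D1835) (iv F7272)
theorem F9729 : act 7 n2399 = n2275 := d35_1 D2399 (iv D2275) (iv D1670) (iv F5466) D1757
def n2400 : Q := act 6 n1758
theorem D2400 : act 6 n1758 = n2400 := rfl
theorem F9730 : act 1 n2400 = n1762 := d12_1 D2400 (iv D1762) (iv F7274)
theorem F9731 : act 4 n2400 = n1759 := d27_1 D2400 (iv D1759) D1758
theorem F9732 : act 8 n2400 = n2276 := d34_2 (iv F7276) D2400 (iv D2276)
def n2401 : Q := act 7 n1758
theorem D2401 : act 7 n1758 = n2401 := rfl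
theorem F9733 : act 1 n2401 = n1763 := d13_1 D2401 (iv D1763) (iv F7274)
theorem F9734 : act 4 n2401 = n1760 := d28_1 D2401 (iv D1760) D1758
theorem F9735 : act 5 n2401 = n1837 := d31_1 D2401 (iv D1837) (iv F7275)
def n2402 : Q := act 7 n1759
theorem D2402 : act 7 n1759 = n2402 := rfl
theorem F9736 : act 1 n2402 = n1764 := d13_1 D2402 (iv D1764) (iv F7277)
theorem F9737 : act 3 n2402 = n2402 := d24_1 D2402 (iv D2402) F7278 F5477 (iv F7278)
theorem F9739 : act 6 n2402 = n1760 := d33_1 D2402 (iv D1760) D1759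
def n2403 : Q := act 8 n1760
theorem D2403 : act 8 n1760 = n2403 := rfl
theorem F9740 : act 1 n2403 = n1765 := d14_1 D2403 (iv D1765) (iv F7281)
theorem F9741 : act 3 n2403 = n2403 := d25_1 D2403 (iv D2403) F7282
theorem F9742 : act 5 n2403 = n1761 := d32_1 D2403 (iv D1761) (iv F7283)
theorem F9743 : act 7 n2403 = n2279 := d35_1 D2403 (iv D2279) (iv D1673) (iv F5469) D1760
def n2404 : Q := act 5 n1762
theorem D2404 : act 5 n1762 = n2404 := rfl
theorem F9744 : act 2 n2404 = n2404 := d17_1 D2404 (iv D2404) F7289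
theorem F9745 : act 4 n2404 = n2089 := d26_1 D2404 (iv D2089) F6401 (iv F5484) (iv F7290)
theorem F9746 : act 6 n2404 = n1840 := d30_2 D1762 D2404 (iv D1840) (iv D1349) (iv F5480)
theorem F9747 : act 8 n2404 = n2280 := d32_2 (iv F7291) D2404 (iv D2280)
def n2405 : Q := act 7 n1762
theorem D2405 : act 7 n1762 = n2405 := rfl
theorem F9748 : act 2 n2405 = n2405 := d19_1 D2405 (iv D2405) F7289
theorem F9749 : act 4 n2405 = n1764 := d28_1 D2405 (iv D1764) (iv F7290)
theorem F9750 : act 6 n2405 = n1763 := d33_1 D2405 (iv D1763) D1762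
def n2406 : Q := act 3 n1763
theorem D2406 : act 3 n1763 = n2406 := rfl
theorem F9751 : act 4 n2406 = n2406 := d21_2 (iv F7293) D2406 (iv D2406) F7293 F5487
theorem F9752 : act 5 n2406 = n1842 := d22_2 (iv F7294) D2406 (iv D1842)
def n2407 : Q := act 8 n1763
theorem D2407 : act 8 n1763 = n2407 := rfl
theorem F9754 : act 4 n2407 = n1765 := d29_1 D2407 (iv D1765) (iv F7293)
def n2408 : Q := act 8 n1764
theorem D2408 : act 8 n1764 = n2408 := rfl
theorem F9760 : act 6 n2408 = n1765 := d34_1 D2408 (iv D1765) (iv F7298)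
def n2409 : Q := act 4 n1766
theorem D2409 : act 4 n1766 = n2409 := rfl
theorem F9762 : act 0 n2409 = n1767 := d3_1 D2409 (iv D1767) D1766
theorem F9763 : act 1 n2409 = n2358 := d10_1 D2409 (iv D2358) (iv F7303)
theorem F9764 : act 2 n2409 = n1892 := d16_1 D2409 (iv D1892) (iv F7304)
theorem F9765 : act 6 n2409 = n2409 := d27_2 F7307 D2409 (iv D2409)
theorem F9766 : act 7 n2409 = n1771 := d28_2 (iv F7308) D2409 (iv D1771)
theorem F9767 : act 8 n2409 = n2409 := d29_2 F7309 D2409 (iv D2409)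
def n2410 : Q := act 3 n1767
theorem D2410 : act 3 n1767 = n2410 := rfl
theorem F9768 : act 1 n2410 = n1768 := d9_1 D2410 (iv D1768) (iv F7310)
theorem F9769 : act 4 n2410 = n2410 := d21_2 D1767 D2410 (iv D2410) (iv D1767) F5495
theorem F9770 : act 6 n2410 = n2410 := d23_2 F7312 D2410 (iv D2410)
theorem F9771 : act 8 n2410 = n2410 := d25_2 F7314 D2410 (iv D2410)
def n2411 : Q := act 5 n1767
theorem D2411 : act 5 n1767 = n2411 := rfl
theorem F9772 : act 1 n2411 = n1769 := d11_1 D2411 (iv D1769) (iv F7310)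
theorem F9773 : act 2 n2411 = n1894 := d17_1 D2411 (iv D1894) (iv F7311)
theorem F9774 : act 4 n2411 = n2411 := d26_1 D2411 (iv D2411) (iv D1767) F5496 D1767
theorem F9775 : act 7 n2411 = n1773 := d31_2 (iv F7313) D2411 (iv D1773)
theorem F9776 : act 8 n2411 = n2411 := d32_2 F7314 D2411 (iv D2411)
def n2412 : Q := act 5 n1768
theorem D2412 : act 5 n1768 = n2412 := rfl
theorem F9777 : act 0 n2412 = n2361 := d4_1 D2412 (iv D2361) (iv F7315)
theorem F9778 : act 2 n2412 = n2412 := d17_1 D2412 (iv D2412) F7316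
theorem F9779 : act 3 n2412 = n1769 := d22_1 D2412 (iv D1769) D1768
theorem F9780 : act 8 n2412 = n2412 := d32_2 F7319 D2412 (iv D2412)
def n2413 : Q := act 7 n1768
theorem D2413 : act 7 n1768 = n2413 := rfl
theorem F9781 : act 0 n2413 = n2362 := d6_1 D2413 (iv D2362) (iv F7315)
theorem F9782 : act 2 n2413 = n2413 := d19_1 D2413 (iv D2413) F7316
theorem F9783 : act 3 n2413 = n1775 := d24_1 D2413 (iv D1775) (iv D1304) (iv F5503) D1768
theorem F9784 : act 4 n2413 = n2413 := d28_1 D2413 (iv D2413) F7317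
theorem F9785 : act 6 n2413 = n2413 := d33_1 D2413 (iv D2413) F7318
def n2414 : Q := act 6 n1769
theorem D2414 : act 6 n1769 = n2414 := rfl
theorem F9786 : act 0 n2414 = n2363 := d5_1 D2414 (iv D2363) (iv F7320)
theorem F9787 : act 2 n2414 = n1770 := d18_1 D2414 (iv D1770) (iv F7321)
theorem F9788 : act 4 n2414 = n2414 := d27_1 D2414 (iv D2414) F7322
theorem F9789 : act 5 n2414 = n2414 := d30_1 D2414 (iv D2414) (iv D1769) F5502 D1769
theorem F9790 : act 7 n2414 = n1776 := d33_2 (iv F7323) D2414 (iv D1776)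
theorem F9791 : act 8 n2414 = n2414 := d34_2 F7324 D2414 (iv D2414)
def n2415 : Q := act 3 n1771
theorem D2415 : act 3 n1771 = n2415 := rfl
theorem F9792 : act 0 n2415 = n1772 := d2_1 D2415 (iv D1772) (iv F7332)
theorem F9793 : act 1 n2415 = n2364 := d9_1 D2415 (iv D2364) (iv F7333)
theorem F9794 : act 4 n2415 = n2240 := d21_2 D1771 D2415 (iv D2240) (iv D1649) (iv F5513)
theorem F9795 : act 6 n2415 = n2415 := d23_2 F7335 D2415 (iv D2415)
theorem F9796 : act 8 n2415 = n1777 := d25_2 (iv F7336) D2415 (iv D1777)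
def n2416 : Q := act 5 n1771
theorem D2416 : act 5 n1771 = n2416 := rfl
theorem F9797 : act 0 n2416 = n1773 := d4_1 D2416 (iv D1773) (iv F7332)
theorem F9798 : act 1 n2416 = n2365 := d11_1 D2416 (iv D2365) (iv F7333)
theorem F9799 : act 2 n2416 = n1899 := d17_1 D2416 (iv D1899) (iv F7334)
theorem F9800 : act 4 n2416 = n2416 := d26_1 D2416 (iv D2416) (iv D1771) F5514 D1771
theorem F9801 : act 8 n2416 = n1778 := d32_2 (iv F7336) D2416 (iv D1778)
def n2417 : Q := act 2 n1772
theorem D2417 : act 2 n1772 = n2417 := rfl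
theorem F9802 : act 1 n2417 = n1789 := d8_1 D2417 (iv D1789) F5561 (iv F5522) (iv F7337)
theorem F9803 : act 3 n2417 = n1900 := d15_2 D1772 D2417 (iv D1900) (iv D1394) (iv F5518)
theorem F9804 : act 4 n2417 = n2242 := d16_2 (iv F7338) D2417 (iv D2242)
theorem F9805 : act 6 n2417 = n2417 := d18_2 F7339 D2417 (iv D2417)
theorem F9806 : act 8 n2417 = n1779 := d20_2 (iv F7340) D2417 (iv D1779)
def n2418 : Q := act 5 n1772
theorem D2418 : act 5 n1772 = n2418 := rfl
theorem F9807 : act 1 n2418 = n1774 := d11_1 D2418 (iv D1774) (iv F7337)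
theorem F9808 : act 3 n2418 = n1773 := d22_1 D2418 (iv D1773) D1772
theorem F9809 : act 8 n2418 = n1780 := d32_2 (iv F7340) D2418 (iv D1780)
def n2419 : Q := act 7 n1772
theorem D2419 : act 7 n1772 = n2419 := rfl
theorem F9810 : act 1 n2419 = n1775 := d13_1 D2419 (iv D1775) (iv F7337)
theorem F9811 : act 4 n2419 = n2244 := d28_1 D2419 (iv D2244) (iv F7338)
theorem F9812 : act 6 n2419 = n2419 := d33_1 D2419 (iv D2419) F7339
def n2420 : Q := act 6 n1773
theorem D2420 : act 6 n1773 = n2420 := rfl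
theorem F9813 : act 1 n2420 = n1776 := d12_1 D2420 (iv D1776) (iv F7341)
theorem F9814 : act 2 n2420 = n1903 := d18_1 D2420 (iv D1903) (iv F7342)
theorem F9815 : act 4 n2420 = n2420 := d27_1 D2420 (iv D2420) F7343
theorem F9816 : act 5 n2420 = n2420 := d30_1 D2420 (iv D2420) (iv D1773) F5519 D1773
theorem F9817 : act 8 n2420 = n1782 := d34_2 (iv F7344) D2420 (iv D1782)
def n2421 : Q := act 4 n1774
theorem D2421 : act 4 n1774 = n2421 := rfl
theorem F9818 : act 0 n2421 = n2370 := d3_1 D2421 (iv D2370) (iv F7345)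
theorem F9819 : act 2 n2421 = n1793 := d16_1 D2421 (iv D1793) (iv F7346)
theorem F9820 : act 3 n2421 = n2421 := d21_1 D2421 (iv D2421) F7347 F5528 (iv F7347)
theorem F9821 : act 5 n2421 = n2246 := d26_2 D1774 D2421 (iv D2246) (iv D1652) (iv F5523)
theorem F9822 : act 8 n2421 = n1783 := d29_2 (iv F7348) D2421 (iv D1783)
def n2422 : Q := act 6 n1774
theorem D2422 : act 6 n1774 = n2422 := rfl
theorem F9823 : act 0 n2422 = n2371 := d5_1 D2422 (iv D2371) (iv F7345)
theorem F9824 : act 2 n2422 = n1794 := d18_1 D2422 (iv D1794) (iv F7346)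
theorem F9825 : act 3 n2422 = n1776 := d23_1 D2422 (iv D1776) (iv F7347)
theorem F9826 : act 5 n2422 = n2422 := d30_1 D2422 (iv D2422) (iv D1774) F5524 D1774
theorem F9827 : act 8 n2422 = n1784 := d34_2 (iv F7348) D2422 (iv D1784)
def n2423 : Q := act 7 n1774
theorem D2423 : act 7 n1774 = n2423 := rfl
theorem F9828 : act 0 n2423 = n2372 := d6_1 D2423 (iv D2372) (iv F7345)
theorem F9829 : act 2 n2423 = n1795 := d19_1 D2423 (iv D1795) (iv F7346)
theorem F9830 : act 5 n2423 = n1775 := d31_1 D2423 (iv D1775) D1774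
def n2424 : Q := act 8 n1775
theorem D2424 : act 8 n1775 = n2424 := rfl
theorem F9831 : act 0 n2424 = n2373 := d7_1 D2424 (iv D2373) (iv F7349)
theorem F9832 : act 2 n2424 = n1796 := d20_1 D2424 (iv D1796) (iv F7350)
theorem F9833 : act 4 n2424 = n2249 := d29_1 D2424 (iv D2249) (iv F7351)
theorem F9834 : act 6 n2424 = n2424 := d34_1 D2424 (iv D2424) F7352
theorem F9835 : act 7 n2424 = n1786 := d35_1 D2424 (iv D1786) (iv D1311) (iv F5525) D1775
def n2425 : Q := act 2 n1777
theorem D2425 : act 2 n1777 = n2425 := rfl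
theorem F9836 : act 0 n2425 = n1779 := d1_1 D2425 (iv D1779) (iv F7358)
theorem F9837 : act 3 n2425 = n1908 := d15_2 D1777 D2425 (iv D1908) (iv D1399) (iv F5537)
theorem F9838 : act 6 n2425 = n2425 := d18_2 F7359 D2425 (iv D2425)
def n2426 : Q := act 5 n1777
theorem D2426 : act 5 n1777 = n2426 := rfl
theorem F9839 : act 0 n2426 = n1780 := d4_1 D2426 (iv D1780) (iv F7358)
theorem F9840 : act 3 n2426 = n1778 := d22_1 D2426 (iv D1778) D1777
def n2427 : Q := act 7 n1777
theorem D2427 : act 7 n1777 = n2427 := rfl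
theorem F9841 : act 0 n2427 = n1781 := d6_1 D2427 (iv D1781) (iv F7358)
theorem F9842 : act 3 n2427 = n2427 := d24_1 D2427 (iv D2427) (iv D1777) F5539 D1777
theorem F9843 : act 6 n2427 = n2427 := d33_1 D2427 (iv D2427) F7359
def n2428 : Q := act 6 n1778
theorem D2428 : act 6 n1778 = n2428 := rfl
theorem F9844 : act 0 n2428 = n1782 := d5_1 D2428 (iv D1782) (iv F7360)
theorem F9845 : act 2 n2428 = n1911 := d18_1 D2428 (iv D1911) (iv F7361)
theorem F9846 : act 4 n2428 = n2428 := d27_1 D2428 (iv D2428) F7362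
theorem F9847 : act 5 n2428 = n2428 := d30_1 D2428 (iv D2428) (iv D1778) F5538 D1778
theorem F9848 : act 7 n2428 = n2428 := d33_2 F7363 D2428 (iv D2428)
def n2429 : Q := act 5 n1779
theorem D2429 : act 5 n1779 = n2429 := rfl
theorem F9849 : act 1 n2429 = n1801 := d11_1 D2429 (iv D1801) (iv F7364)
theorem F9850 : act 2 n2429 = n1780 := d17_1 D2429 (iv D1780) D1779
theorem F9851 : act 3 n2429 = n1912 := d22_1 D2429 (iv D1912) (iv F7365)
def n2430 : Q := act 7 n1779
theorem D2430 : act 7 n1779 = n2430 := rfl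
theorem F9852 : act 1 n2430 = n1802 := d13_1 D2430 (iv D1802) (iv F7364)
theorem F9853 : act 2 n2430 = n1781 := d19_1 D2430 (iv D1781) D1779
theorem F9854 : act 6 n2430 = n2430 := d33_1 D2430 (iv D2430) F7366
def n2431 : Q := act 4 n1780
theorem D2431 : act 4 n1780 = n2431 := rfl
theorem F9855 : act 1 n2431 = n1783 := d10_1 D2431 (iv D1783) (iv F7367)
theorem F9856 : act 3 n2431 = n2431 := d21_1 D2431 (iv D2431) F7368 F5544 (iv F7368)
def n2432 : Q := act 6 n1780
theorem D2432 : act 6 n1780 = n2432 := rfl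
theorem F9857 : act 1 n2432 = n1784 := d12_1 D2432 (iv D1784) (iv F7367)
theorem F9858 : act 3 n2432 = n1782 := d23_1 D2432 (iv D1782) (iv F7368)
theorem F9859 : act 5 n2432 = n2432 := d30_1 D2432 (iv D2432) (iv D1780) F5541 D1780
def n2433 : Q := act 7 n1780
theorem D2433 : act 7 n1780 = n2433 := rfl
theorem F9860 : act 1 n2433 = n1785 := d13_1 D2433 (iv D1785) (iv F7367)
theorem F9861 : act 3 n2433 = n2433 := d24_1 D2433 (iv D2433) F7368 F5545 (iv F7368)
theorem F9862 : act 5 n2433 = n1781 := d31_1 D2433 (iv D1781) D1780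
def n2434 : Q := act 8 n1781
theorem D2434 : act 8 n1781 = n2434 := rfl
theorem F9863 : act 1 n2434 = n1786 := d14_1 D2434 (iv D1786) (iv F7369)
theorem F9864 : act 3 n2434 = n2434 := d25_1 D2434 (iv D2434) F7370
theorem F9865 : act 6 n2434 = n2434 := d34_1 D2434 (iv D2434) F7371
def n2435 : Q := act 6 n1783
theorem D2435 : act 6 n1783 = n2435 := rfl
theorem F9866 : act 2 n2435 = n1807 := d18_1 D2435 (iv D1807) (iv F7377)
theorem F9867 : act 3 n2435 = n2435 := d23_1 D2435 (iv D2435) F7378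
theorem F9868 : act 4 n2435 = n1784 := d27_1 D2435 (iv D1784) D1783
def n2436 : Q := act 7 n1783
theorem D2436 : act 7 n1783 = n2436 := rfl
theorem F9869 : act 2 n2436 = n1808 := d19_1 D2436 (iv D1808) (iv F7377)
theorem F9870 : act 4 n2436 = n1785 := d28_1 D2436 (iv D1785) D1783
def n2437 : Q := act 7 n1784
theorem D2437 : act 7 n1784 = n2437 := rfl
theorem F9871 : act 2 n2437 = n1809 := d19_1 D2437 (iv D1809) (iv F7379)
theorem F9872 : act 3 n2437 = n2437 := d24_1 D2437 (iv D2437) F7380 F5554 (iv F7380)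
theorem F9873 : act 5 n2437 = n2437 := d31_1 D2437 (iv D2437) F7381
theorem F9874 : act 6 n2437 = n1785 := d33_1 D2437 (iv D1785) D1784
def n2438 : Q := act 8 n1785
theorem D2438 : act 8 n1785 = n2438 := rfl
theorem F9875 : act 2 n2438 = n1810 := d20_1 D2438 (iv D1810) (iv F7382)
theorem F9876 : act 3 n2438 = n2438 := d25_1 D2438 (iv D2438) F7383
theorem F9877 : act 5 n2438 = n1786 := d32_1 D2438 (iv D1786) (iv F7384)
def n2439 : Q := act 2 n1787
theorem D2439 : act 2 n1787 = n2439 := rfl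
theorem F9878 : act 0 n2439 = n1789 := d1_1 D2439 (iv D1789) (iv F7388)
theorem F9879 : act 3 n2439 = n1922 := d15_2 D1787 D2439 (iv D1922) (iv D1409) (iv F5557)
theorem F9880 : act 4 n2439 = n2250 := d16_2 (iv F7390) D2439 (iv D2250)
theorem F9881 : act 6 n2439 = n2439 := d18_2 F7391 D2439 (iv D2439)
theorem F9882 : act 8 n2439 = n1797 := d20_2 (iv F7392) D2439 (iv D1797)
def n2440 : Q := act 5 n1787
theorem D2440 : act 5 n1787 = n2440 := rfl
theorem F9883 : act 0 n2440 = n1790 := d4_1 D2440 (iv D1790) (iv F7388)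
theorem F9884 : act 1 n2440 = n2375 := d11_1 D2440 (iv D2375) (iv F7389)
theorem F9885 : act 3 n2440 = n1788 := d22_1 D2440 (iv D1788) D1787
theorem F9886 : act 8 n2440 = n1798 := d32_2 (iv F7392) D2440 (iv D1798)
def n2441 : Q := act 7 n1787
theorem D2441 : act 7 n1787 = n2441 := rfl
theorem F9887 : act 0 n2441 = n1791 := d6_1 D2441 (iv D1791) (iv F7388)
theorem F9888 : act 1 n2441 = n2376 := d13_1 D2441 (iv D2376) (iv F7389)
theorem F9889 : act 3 n2441 = n2441 := d24_1 D2441 (iv D2441) (iv D1787) F5559 D1787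
theorem F9890 : act 4 n2441 = n2252 := d28_1 D2441 (iv D2252) (iv F7390)
theorem F9891 : act 6 n2441 = n2441 := d33_1 D2441 (iv D2441) F7391
def n2442 : Q := act 6 n1788
theorem D2442 : act 6 n1788 = n2442 := rfl
theorem F9892 : act 0 n2442 = n1792 := d5_1 D2442 (iv D1792) (iv F7393)
theorem F9893 : act 1 n2442 = n2377 := d12_1 D2442 (iv D2377) (iv F7394)
theorem F9894 : act 2 n2442 = n1925 := d18_1 D2442 (iv D1925) (iv F7395)
theorem F9895 : act 4 n2442 = n1814 := d27_1 D2442 (iv D1814) (iv F7396)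
theorem F9896 : act 5 n2442 = n2442 := d30_1 D2442 (iv D2442) (iv D1788) F5558 D1788
theorem F9897 : act 7 n2442 = n2442 := d33_2 F7397 D2442 (iv D2442)
theorem F9898 : act 8 n2442 = n1800 := d34_2 (iv F7398) D2442 (iv D1800)
def n2443 : Q := act 5 n1789
theorem D2443 : act 5 n1789 = n2443 := rfl
theorem F9899 : act 2 n2443 = n1790 := d17_1 D2443 (iv D1790) D1789
theorem F9900 : act 3 n2443 = n1926 := d22_1 D2443 (iv D1926) (iv F7399)
theorem F9901 : act 8 n2443 = n1801 := d32_2 (iv F7402) D2443 (iv D1801)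
def n2444 : Q := act 7 n1789
theorem D2444 : act 7 n1789 = n2444 := rfl
theorem F9902 : act 2 n2444 = n1791 := d19_1 D2444 (iv D1791) D1789
theorem F9903 : act 4 n2444 = n2255 := d28_1 D2444 (iv D2255) (iv F7400)
theorem F9904 : act 6 n2444 = n2444 := d33_1 D2444 (iv D2444) F7401
def n2445 : Q := act 4 n1790
theorem D2445 : act 4 n1790 = n2445 := rfl
theorem F9905 : act 1 n2445 = n1793 := d10_1 D2445 (iv D1793) (iv F7403)
theorem F9906 : act 3 n2445 = n1817 := d21_1 D2445 (iv D1817) F5624 (iv F5567) (iv F7404)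
theorem F9907 : act 5 n2445 = n2256 := d26_2 D1790 D2445 (iv D2256) (iv D1658) (iv F5562)
theorem F9908 : act 8 n2445 = n1803 := d29_2 (iv F7405) D2445 (iv D1803)
def n2446 : Q := act 6 n1790
theorem D2446 : act 6 n1790 = n2446 := rfl
theorem F9909 : act 1 n2446 = n1794 := d12_1 D2446 (iv D1794) (iv F7403)
theorem F9910 : act 3 n2446 = n1792 := d23_1 D2446 (iv D1792) (iv F7404)
theorem F9911 : act 5 n2446 = n2446 := d30_1 D2446 (iv D2446) (iv D1790) F5563 D1790
theorem F9912 : act 8 n2446 = n1804 := d34_2 (iv F7405) D2446 (iv D1804)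
def n2447 : Q := act 7 n1790
theorem D2447 : act 7 n1790 = n2447 := rfl
theorem F9913 : act 1 n2447 = n1795 := d13_1 D2447 (iv D1795) (iv F7403)
theorem F9914 : act 3 n2447 = n2447 := d24_1 D2447 (iv D2447) F7404 F5568 (iv F7404)
theorem F9915 : act 5 n2447 = n1791 := d31_1 D2447 (iv D1791) D1790
def n2448 : Q := act 8 n1791
theorem D2448 : act 8 n1791 = n2448 := rfl
theorem F9916 : act 1 n2448 = n1796 := d14_1 D2448 (iv D1796) (iv F7406)
theorem F9917 : act 3 n2448 = n2448 := d25_1 D2448 (iv D2448) F7407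
theorem F9918 : act 4 n2448 = n2259 := d29_1 D2448 (iv D2259) (iv F7408)
theorem F9919 : act 6 n2448 = n2448 := d34_1 D2448 (iv D2448) F7409
theorem F9920 : act 7 n2448 = n1806 := d35_1 D2448 (iv D1806) (iv D1323) (iv F5564) D1791
def n2449 : Q := act 6 n1793
theorem D2449 : act 6 n1793 = n2449 := rfl
theorem F9921 : act 0 n2449 = n2384 := d5_1 D2449 (iv D2384) (iv F7416)
theorem F9922 : act 3 n2449 = n1821 := d23_1 D2449 (iv D1821) (iv F7417)
theorem F9923 : act 4 n2449 = n1794 := d27_1 D2449 (iv D1794) D1793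
theorem F9924 : act 8 n2449 = n1807 := d34_2 (iv F7419) D2449 (iv D1807)
def n2450 : Q := act 7 n1793
theorem D2450 : act 7 n1793 = n2450 := rfl
theorem F9925 : act 0 n2450 = n2385 := d6_1 D2450 (iv D2385) (iv F7416)
theorem F9926 : act 4 n2450 = n1795 := d28_1 D2450 (iv D1795) D1793
theorem F9927 : act 5 n2450 = n2261 := d31_1 D2450 (iv D2261) (iv F7418)
def n2451 : Q := act 7 n1794
theorem D2451 : act 7 n1794 = n2451 := rfl
theorem F9928 : act 0 n2451 = n2386 := d6_1 D2451 (iv D2386) (iv F7420)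
theorem F9929 : act 3 n2451 = n2451 := d24_1 D2451 (iv D2451) F7421 F5581 (iv F7421)
theorem F9930 : act 5 n2451 = n2451 := d31_1 D2451 (iv D2451) F7422
theorem F9931 : act 6 n2451 = n1795 := d33_1 D2451 (iv D1795) D1794
def n2452 : Q := act 8 n1795
theorem D2452 : act 8 n1795 = n2452 := rfl
theorem F9932 : act 0 n2452 = n2387 := d7_1 D2452 (iv D2387) (iv F7424)
theorem F9933 : act 3 n2452 = n2452 := d25_1 D2452 (iv D2452) F7425
theorem F9934 : act 5 n2452 = n1796 := d32_1 D2452 (iv D1796) (iv F7426)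
theorem F9935 : act 7 n2452 = n1810 := d35_1 D2452 (iv D1810) (iv D1327) (iv F5572) D1795
def n2453 : Q := act 1 n1797
theorem D2453 : act 1 n1797 = n2453 := rfl
theorem F9936 : act 3 n2453 = n1936 := d9_2 (iv F7433) D2453 (iv D1936)
theorem F9937 : act 6 n2453 = n2453 := d12_2 F7434 D2453 (iv D2453)
def n2454 : Q := act 5 n1797
theorem D2454 : act 5 n1797 = n2454 := rfl
theorem F9938 : act 0 n2454 = n1801 := d4_1 D2454 (iv D1801) (iv F7432)
theorem F9939 : act 2 n2454 = n1798 := d17_1 D2454 (iv D1798) D1797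
theorem F9940 : act 3 n2454 = n1937 := d22_1 D2454 (iv D1937) (iv F7433)
def n2455 : Q := act 7 n1797
theorem D2455 : act 7 n1797 = n2455 := rfl
theorem F9941 : act 0 n2455 = n1802 := d6_1 D2455 (iv D1802) (iv F7432)
theorem F9942 : act 2 n2455 = n1799 := d19_1 D2455 (iv D1799) D1797
theorem F9943 : act 6 n2455 = n2455 := d33_1 D2455 (iv D2455) F7434
def n2456 : Q := act 4 n1798
theorem D2456 : act 4 n1798 = n2456 := rfl
theorem F9944 : act 0 n2456 = n1803 := d3_1 D2456 (iv D1803) (iv F7435)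
theorem F9945 : act 3 n2456 = n1828 := d21_1 D2456 (iv D1828) F5658 (iv F5587) (iv F7436)
def n2457 : Q := act 6 n1798
theorem D2457 : act 6 n1798 = n2457 := rfl
theorem F9946 : act 0 n2457 = n1804 := d5_1 D2457 (iv D1804) (iv F7435)
theorem F9947 : act 3 n2457 = n1800 := d23_1 D2457 (iv D1800) (iv F7436)
theorem F9948 : act 5 n2457 = n2457 := d30_1 D2457 (iv D2457) (iv D1798) F5584 D1798
def n2458 : Q := act 7 n1798
theorem D2458 : act 7 n1798 = n2458 := rfl
theorem F9949 : act 0 n2458 = n1805 := d6_1 D2458 (iv D1805) (iv F7435)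
theorem F9950 : act 3 n2458 = n1850 := d24_1 D2458 (iv D1850) F5700 (iv F5588) (iv F7436)
theorem F9951 : act 5 n2458 = n1799 := d31_1 D2458 (iv D1799) D1798
def n2459 : Q := act 8 n1799
theorem D2459 : act 8 n1799 = n2459 := rfl
theorem F9952 : act 0 n2459 = n1806 := d7_1 D2459 (iv D1806) (iv F7437)
theorem F9953 : act 3 n2459 = n1851 := d25_1 D2459 (iv D1851) (iv F7438)
theorem F9954 : act 6 n2459 = n2459 := d34_1 D2459 (iv D2459) F7439
def n2460 : Q := act 4 n1801
theorem D2460 : act 4 n1801 = n2460 := rfl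
theorem F9955 : act 2 n2460 = n1803 := d16_1 D2460 (iv D1803) (iv F7445)
def n2461 : Q := act 6 n1801
theorem D2461 : act 6 n1801 = n2461 := rfl
theorem F9956 : act 2 n2461 = n1804 := d18_1 D2461 (iv D1804) (iv F7445)
theorem F9957 : act 3 n2461 = n1944 := d23_1 D2461 (iv D1944) (iv F7446)
theorem F9958 : act 5 n2461 = n2461 := d30_1 D2461 (iv D2461) (iv D1801) F5590 D1801
def n2462 : Q := act 7 n1801
theorem D2462 : act 7 n1801 = n2462 := rfl
theorem F9959 : act 2 n2462 = n1805 := d19_1 D2462 (iv D1805) (iv F7445)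
theorem F9960 : act 5 n2462 = n1802 := d31_1 D2462 (iv D1802) D1801
def n2463 : Q := act 3 n1802
theorem D2463 : act 3 n1802 = n2463 := rfl
theorem F9961 : act 2 n2463 = n1855 := d15_1 D2463 (iv D1855) F5715 (iv F5594) (iv F7447)
theorem F9962 : act 6 n2463 = n2463 := d23_2 F7448 D2463 (iv D2463)
theorem F9963 : act 7 n2463 = n1946 := d24_2 D1802 D2463 (iv D1946) (iv D1424) (iv F5589)
def n2464 : Q := act 8 n1802
theorem D2464 : act 8 n1802 = n2464 := rfl
theorem F9964 : act 2 n2464 = n1806 := d20_1 D2464 (iv D1806) (iv F7447)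
theorem F9965 : act 6 n2464 = n2464 := d34_1 D2464 (iv D2464) F7448
def n2465 : Q := act 6 n1803
theorem D2465 : act 6 n1803 = n2465 := rfl
theorem F9966 : act 1 n2465 = n1807 := d12_1 D2465 (iv D1807) (iv F7449)
theorem F9967 : act 3 n2465 = n1836 := d23_1 D2465 (iv D1836) (iv F7450)
theorem F9968 : act 4 n2465 = n1804 := d27_1 D2465 (iv D1804) D1803
def n2466 : Q := act 7 n1803
theorem D2466 : act 7 n1803 = n2466 := rfl
theorem F9969 : act 1 n2466 = n1808 := d13_1 D2466 (iv D1808) (iv F7449)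
theorem F9970 : act 4 n2466 = n1805 := d28_1 D2466 (iv D1805) D1803
def n2467 : Q := act 7 n1804
theorem D2467 : act 7 n1804 = n2467 := rfl
theorem F9971 : act 1 n2467 = n1809 := d13_1 D2467 (iv D1809) (iv F7451)
theorem F9972 : act 3 n2467 = n1859 := d24_1 D2467 (iv D1859) F5723 (iv F5600) (iv F7452)
theorem F9973 : act 5 n2467 = n2467 := d31_1 D2467 (iv D2467) F7453
theorem F9974 : act 6 n2467 = n1805 := d33_1 D2467 (iv D1805) D1804
def n2468 : Q := act 8 n1805
theorem D2468 : act 8 n1805 = n2468 := rfl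
theorem F9975 : act 1 n2468 = n1810 := d14_1 D2468 (iv D1810) (iv F7454)
theorem F9976 : act 3 n2468 = n1860 := d25_1 D2468 (iv D1860) (iv F7455)
theorem F9977 : act 5 n2468 = n1806 := d32_1 D2468 (iv D1806) (iv F7456)
def n2469 : Q := act 5 n1807
theorem D2469 : act 5 n1807 = n2469 := rfl
theorem F9978 : act 3 n2469 = n1840 := d22_1 D2469 (iv D1840) (iv F7460)
theorem F9979 : act 4 n2469 = n2469 := d26_1 D2469 (iv D2469) F7461 F5603 (iv F7461)
def n2470 : Q := act 7 n1807
theorem D2470 : act 7 n1807 = n2470 := rfl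
theorem F9980 : act 4 n2470 = n1809 := d28_1 D2470 (iv D1809) (iv F7461)
theorem F9981 : act 6 n2470 = n1808 := d33_1 D2470 (iv D1808) D1807
def n2471 : Q := act 3 n1808
theorem D2471 : act 3 n1808 = n2471 := rfl
theorem F9982 : act 4 n2471 = n1863 := d21_2 (iv F7462) D2471 (iv D1863) F5737 (iv F5604)
theorem F9983 : act 7 n2471 = n1842 := d24_2 D1808 D2471 (iv D1842) (iv D1350) (iv F5601)
def n2472 : Q := act 8 n1808
theorem D2472 : act 8 n1808 = n2472 := rfl
theorem F9984 : act 4 n2472 = n1810 := d29_1 D2472 (iv D1810) (iv F7462)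
def n2473 : Q := act 8 n1809
theorem D2473 : act 8 n1809 = n2473 := rfl
theorem F9985 : act 3 n2473 = n1865 := d25_1 D2473 (iv D1865) (iv F7463)
theorem F9986 : act 5 n2473 = n2473 := d32_1 D2473 (iv D2473) F7464
theorem F9987 : act 6 n2473 = n1810 := d34_1 D2473 (iv D1810) (iv F7465)
def n2474 : Q := act 1 n1811
theorem D2474 : act 1 n1811 = n2474 := rfl
theorem F9988 : act 0 n2474 = n2474 := d0_1 D2474 (iv D2474) F7468 F5618 (iv F7468)
theorem F9989 : act 2 n2474 = n2388 := d8_2 D1811 D2474 (iv D2388) (iv D1752) (iv F5609)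
theorem F9990 : act 3 n2474 = n1956 := d9_2 (iv F7469) D2474 (iv D1956)
theorem F9991 : act 4 n2474 = n2264 := d10_2 (iv F7470) D2474 (iv D2264)
theorem F9992 : act 6 n2474 = n2094 := d12_2 (iv F7471) D2474 (iv D2094)
theorem F9993 : act 8 n2474 = n1825 := d14_2 (iv F7472) D2474 (iv D1825)
def n2475 : Q := act 5 n1811
theorem D2475 : act 5 n1811 = n2475 := rfl
theorem F9994 : act 0 n2475 = n1815 := d4_1 D2475 (iv D1815) (iv F7468)
theorem F9995 : act 2 n2475 = n1812 := d17_1 D2475 (iv D1812) D1811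
theorem F9996 : act 3 n2475 = n1957 := d22_1 D2475 (iv D1957) (iv F7469)
theorem F9997 : act 8 n2475 = n1826 := d32_2 (iv F7472) D2475 (iv D1826)
def n2476 : Q := act 7 n1811
theorem D2476 : act 7 n1811 = n2476 := rfl
theorem F9998 : act 0 n2476 = n1816 := d6_1 D2476 (iv D1816) (iv F7468)
theorem F9999 : act 2 n2476 = n1813 := d19_1 D2476 (iv D1813) D1811
theorem F10000 : act 4 n2476 = n2266 := d28_1 D2476 (iv D2266) (iv F7470)
theorem F10001 : act 6 n2476 = n2096 := d33_1 D2476 (iv D2096) (iv F7471)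
def n2477 : Q := act 4 n1812
theorem D2477 : act 4 n1812 = n2477 := rfl
theorem F10002 : act 0 n2477 = n1817 := d3_1 D2477 (iv D1817) (iv F7473)
theorem F10003 : act 1 n2477 = n2391 := d10_1 D2477 (iv D2391) (iv F7474)
theorem F10004 : act 5 n2477 = n2267 := d26_2 D1812 D2477 (iv D2267) (iv D1666) (iv F5610)
theorem F10005 : act 8 n2477 = n1828 := d29_2 (iv F7476) D2477 (iv D1828)
def n2478 : Q := act 6 n1812
theorem D2478 : act 6 n1812 = n2478 := rfl
theorem F10006 : act 0 n2478 = n1818 := d5_1 D2478 (iv D1818) (iv F7473)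
theorem F10007 : act 1 n2478 = n2392 := d12_1 D2478 (iv D2392) (iv F7474)
theorem F10008 : act 3 n2478 = n1814 := d23_1 D2478 (iv D1814) (iv F7475)
theorem F10009 : act 5 n2478 = n2098 := d30_1 D2478 (iv D2098) (iv D1538) (iv F5611) D1812
theorem F10010 : act 8 n2478 = n1829 := d34_2 (iv F7476) D2478 (iv D1829)
def n2479 : Q := act 7 n1812
theorem D2479 : act 7 n1812 = n2479 := rfl
theorem F10011 : act 0 n2479 = n1819 := d6_1 D2479 (iv D1819) (iv F7473)
theorem F10012 : act 1 n2479 = n2393 := d13_1 D2479 (iv D2393) (iv F7474)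
theorem F10013 : act 3 n2479 = n2479 := d24_1 D2479 (iv D2479) F7475 F5616 (iv F7475)
theorem F10014 : act 5 n2479 = n1813 := d31_1 D2479 (iv D1813) D1812
def n2480 : Q := act 8 n1813
theorem D2480 : act 8 n1813 = n2480 := rfl
theorem F10015 : act 0 n2480 = n1820 := d7_1 D2480 (iv D1820) (iv F7477)
theorem F10016 : act 1 n2480 = n2394 := d14_1 D2480 (iv D2394) (iv F7478)
theorem F10017 : act 3 n2480 = n2480 := d25_1 D2480 (iv D2480) F7479
theorem F10018 : act 4 n2480 = n2270 := d29_1 D2480 (iv D2270) (iv F7480)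
theorem F10020 : act 7 n2480 = n1831 := d35_1 D2480 (iv D1831) (iv D1341) (iv F5612) D1813
def n2481 : Q := act 4 n1815
theorem D2481 : act 4 n1815 = n2481 := rfl
theorem F10021 : act 1 n2481 = n2481 := d10_1 D2481 (iv D2481) F7488
theorem F10022 : act 2 n2481 = n1817 := d16_1 D2481 (iv D1817) (iv F7489)
theorem F10023 : act 5 n2481 = n2271 := d26_2 D1815 D2481 (iv D2271) (iv D1669) (iv F5620)
theorem F10024 : act 8 n2481 = n1832 := d29_2 (iv F7491) D2481 (iv D1832)
def n2482 : Q := act 6 n1815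
theorem D2482 : act 6 n1815 = n2482 := rfl
theorem F10025 : act 1 n2482 = n2482 := d12_1 D2482 (iv D2482) F7488
theorem F10026 : act 2 n2482 = n1818 := d18_1 D2482 (iv D1818) (iv F7489)
theorem F10027 : act 3 n2482 = n1963 := d23_1 D2482 (iv D1963) (iv F7490)
theorem F10028 : act 5 n2482 = n2102 := d30_1 D2482 (iv D2102) (iv D1541) (iv F5621) D1815
theorem F10029 : act 8 n2482 = n1833 := d34_2 (iv F7491) D2482 (iv D1833)
def n2483 : Q := act 7 n1815
theorem D2483 : act 7 n1815 = n2483 := rfl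
theorem F10030 : act 1 n2483 = n2483 := d13_1 D2483 (iv D2483) F7488
theorem F10031 : act 2 n2483 = n1819 := d19_1 D2483 (iv D1819) (iv F7489)
theorem F10032 : act 5 n2483 = n1816 := d31_1 D2483 (iv D1816) D1815
def n2484 : Q := act 3 n1816
theorem D2484 : act 3 n1816 = n2484 := rfl
theorem F10033 : act 1 n2484 = n2484 := d9_1 D2484 (iv D2484) F7492
theorem F10034 : act 2 n2484 = n2484 := d15_1 D2484 (iv D2484) F7493 F5627 (iv F7493)
theorem F10035 : act 6 n2484 = n2104 := d23_2 (iv F7495) D2484 (iv D2104)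
theorem F10036 : act 7 n2484 = n1965 := d24_2 D1816 D2484 (iv D1965) (iv D1438) (iv F5619)
def n2485 : Q := act 8 n1816
theorem D2485 : act 8 n1816 = n2485 := rfl
theorem F10037 : act 1 n2485 = n2485 := d14_1 D2485 (iv D2485) F7492
theorem F10038 : act 2 n2485 = n1820 := d20_1 D2485 (iv D1820) (iv F7493)
theorem F10039 : act 4 n2485 = n2275 := d29_1 D2485 (iv D2275) (iv F7494)
theorem F10041 : act 7 n2485 = n1835 := d35_1 D2485 (iv D1835) (iv D1344) (iv F5622) D1816
def n2486 : Q := act 6 n1817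
theorem D2486 : act 6 n1817 = n2486 := rfl
theorem F10042 : act 1 n2486 = n1821 := d12_1 D2486 (iv D1821) (iv F7496)
theorem F10043 : act 4 n2486 = n1818 := d27_1 D2486 (iv D1818) D1817
theorem F10044 : act 8 n2486 = n1836 := d34_2 (iv F7498) D2486 (iv D1836)
def n2487 : Q := act 7 n1817
theorem D2487 : act 7 n1817 = n2487 := rfl
theorem F10045 : act 1 n2487 = n1822 := d13_1 D2487 (iv D1822) (iv F7496)
theorem F10046 : act 4 n2487 = n1819 := d28_1 D2487 (iv D1819) D1817
theorem F10047 : act 5 n2487 = n2277 := d31_1 D2487 (iv D2277) (iv F7497)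
def n2488 : Q := act 7 n1818
theorem D2488 : act 7 n1818 = n2488 := rfl
theorem F10048 : act 1 n2488 = n1823 := d13_1 D2488 (iv D1823) (iv F7499)
def n2489 : Q := act 8 n1819
theorem D2489 : act 8 n1819 = n2489 := rfl
theorem F10054 : act 5 n2489 = n1820 := d32_1 D2489 (iv D1820) (iv F7505)
def n2490 : Q := act 5 n1821
theorem D2490 : act 5 n1821 = n2490 := rfl
theorem F10056 : act 0 n2490 = n2404 := d4_1 D2490 (iv D2404) (iv F7511)
theorem F10058 : act 4 n2490 = n2110 := d26_1 D2490 (iv D2110) F6455 (iv F5642) (iv F7513)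
def n2491 : Q := act 7 n1821
theorem D2491 : act 7 n1821 = n2491 := rfl
theorem F10063 : act 4 n2491 = n1823 := d28_1 D2491 (iv D1823) (iv F7513)
def n2492 : Q := act 3 n1822
theorem D2492 : act 3 n1822 = n2492 := rfl
theorem F10067 : act 5 n2492 = n2282 := d22_2 (iv F7518) D2492 (iv D2282)
def n2494 : Q := act 8 n1823
theorem D2494 : act 8 n1823 = n2494 := rfl
def n2495 : Q := act 5 n1825
theorem D2495 : act 5 n1825 = n2495 := rfl
theorem F10079 : act 0 n2495 = n2495 := d4_1 D2495 (iv D2495) F7529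
theorem F10080 : act 1 n2495 = n1826 := d11_1 D2495 (iv D1826) D1825
theorem F10081 : act 3 n2495 = n1972 := d22_1 D2495 (iv D1972) (iv F7530)
def n2496 : Q := act 7 n1825
theorem D2496 : act 7 n1825 = n2496 := rfl
theorem F10082 : act 0 n2496 = n2496 := d6_1 D2496 (iv D2496) F7529
theorem F10083 : act 1 n2496 = n1827 := d13_1 D2496 (iv D1827) D1825
theorem F10084 : act 3 n2496 = n2496 := d24_1 D2496 (iv D2496) F7530 F6061 (iv F7530)
theorem F10085 : act 6 n2496 = n2116 := d33_1 D2496 (iv D2116) (iv F7531)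
def n2497 : Q := act 4 n1826
theorem D2497 : act 4 n1826 = n2497 := rfl
theorem F10086 : act 0 n2497 = n1832 := d3_1 D2497 (iv D1832) (iv F7532)
theorem F10087 : act 2 n2497 = n1828 := d16_1 D2497 (iv D1828) (iv F7533)
def n2498 : Q := act 6 n1826
theorem D2498 : act 6 n1826 = n2498 := rfl
theorem F10088 : act 0 n2498 = n1833 := d5_1 D2498 (iv D1833) (iv F7532)
theorem F10089 : act 2 n2498 = n1829 := d18_1 D2498 (iv D1829) (iv F7533)
theorem F10090 : act 3 n2498 = n1974 := d23_1 D2498 (iv D1974) (iv F7534)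
theorem F10091 : act 5 n2498 = n2118 := d30_1 D2498 (iv D2118) (iv D1552) (iv F5656) D1826
def n2499 : Q := act 7 n1826
theorem D2499 : act 7 n1826 = n2499 := rfl
theorem F10092 : act 0 n2499 = n1834 := d6_1 D2499 (iv D1834) (iv F7532)
theorem F10093 : act 2 n2499 = n1830 := d19_1 D2499 (iv D1830) (iv F7533)
theorem F10094 : act 3 n2499 = n2499 := d24_1 D2499 (iv D2499) F7534 F6064 (iv F7534)
theorem F10095 : act 5 n2499 = n1827 := d31_1 D2499 (iv D1827) D1826
def n2500 : Q := act 8 n1827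
theorem D2500 : act 8 n1827 = n2500 := rfl
theorem F10096 : act 0 n2500 = n1835 := d7_1 D2500 (iv D1835) (iv F7535)
theorem F10097 : act 2 n2500 = n1831 := d20_1 D2500 (iv D1831) (iv F7536)
theorem F10098 : act 3 n2500 = n2500 := d25_1 D2500 (iv D2500) F7537
theorem F10099 : act 6 n2500 = n2120 := d34_1 D2500 (iv D2120) (iv F7538)
def n2501 : Q := act 6 n1828
theorem D2501 : act 6 n1828 = n2501 := rfl
theorem F10100 : act 0 n2501 = n1836 := d5_1 D2501 (iv D1836) (iv F7539)
theorem F10101 : act 4 n2501 = n1829 := d27_1 D2501 (iv D1829) D1828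
def n2502 : Q := act 7 n1828
theorem D2502 : act 7 n1828 = n2502 := rfl
theorem F10102 : act 0 n2502 = n1837 := d6_1 D2502 (iv D1837) (iv F7539)
theorem F10103 : act 4 n2502 = n1830 := d28_1 D2502 (iv D1830) D1828
def n2503 : Q := act 7 n1829
theorem D2503 : act 7 n1829 = n2503 := rfl
theorem F10106 : act 5 n2503 = n2123 := d31_1 D2503 (iv D2123) (iv F7542)
theorem F10107 : act 6 n2503 = n1830 := d33_1 D2503 (iv D1830) D1829
def n2504 : Q := act 8 n1830
theorem D2504 : act 8 n1830 = n2504 := rfl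
theorem F10110 : act 5 n2504 = n1831 := d32_1 D2504 (iv D1831) (iv F7545)
def n2505 : Q := act 3 n1832
theorem D2505 : act 3 n1832 = n2505 := rfl
theorem F10111 : act 1 n2505 = n2505 := d9_1 D2505 (iv D2505) F7549
theorem F10112 : act 4 n2505 = n1976 := d21_2 D1832 D2505 (iv D1976) (iv D1449) (iv F5668)
def n2506 : Q := act 6 n1832
theorem D2506 : act 6 n1832 = n2506 := rfl
theorem F10113 : act 1 n2506 = n2506 := d12_1 D2506 (iv D2506) F7549
theorem F10114 : act 2 n2506 = n1836 := d18_1 D2506 (iv D1836) (iv F7550)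
theorem F10115 : act 4 n2506 = n1833 := d27_1 D2506 (iv D1833) D1832
def n2507 : Q := act 7 n1832
theorem D2507 : act 7 n1832 = n2507 := rfl
theorem F10116 : act 1 n2507 = n2507 := d13_1 D2507 (iv D2507) F7549
theorem F10117 : act 2 n2507 = n1837 := d19_1 D2507 (iv D1837) (iv F7550)
theorem F10118 : act 4 n2507 = n1834 := d28_1 D2507 (iv D1834) D1832
def n2508 : Q := act 7 n1833
theorem D2508 : act 7 n1833 = n2508 := rfl
theorem F10122 : act 5 n2508 = n2128 := d31_1 D2508 (iv D2128) (iv F7554)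
theorem F10123 : act 6 n2508 = n1834 := d33_1 D2508 (iv D1834) D1833
def n2509 : Q := act 8 n1834
theorem D2509 : act 8 n1834 = n2509 := rfl
theorem F10127 : act 5 n2509 = n1835 := d32_1 D2509 (iv D1835) (iv F7558)
def n2510 : Q := act 5 n1836
theorem D2510 : act 5 n1836 = n2510 := rfl
theorem F10129 : act 4 n2510 = n2130 := d26_1 D2510 (iv D2130) F6501 (iv F5676) (iv F7564)
def n2511 : Q := act 7 n1836
theorem D2511 : act 7 n1836 = n2511 := rfl
theorem F10131 : act 4 n2511 = n1838 := d28_1 D2511 (iv D1838) (iv F7564)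
theorem F10132 : act 6 n2511 = n1837 := d33_1 D2511 (iv D1837) D1836
def n2512 : Q := act 3 n1837
theorem D2512 : act 3 n1837 = n2512 := rfl
theorem F10133 : act 1 n2512 = n1842 := d9_1 D2512 (iv D1842) (iv F7565)
theorem F10134 : act 4 n2512 = n1872 := d21_2 (iv F7566) D2512 (iv D1872) F5768 (iv F5678)
def n2515 : Q := act 7 n1840
theorem D2515 : act 7 n1840 = n2515 := rfl
theorem F10142 : act 4 n2515 = n2135 := d28_1 D2515 (iv D2135) (iv F7575)
theorem F10143 : act 5 n2515 = n1841 := d31_1 D2515 (iv D1841) D1840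
def n2516 : Q := act 3 n1841
theorem D2516 : act 3 n1841 = n2516 := rfl
theorem F10144 : act 4 n2516 = n1876 := d21_2 (iv F7577) D2516 (iv D1876) F5783 (iv F5688)
theorem F10145 : act 6 n2516 = n1842 := d23_2 (iv F7578) D2516 (iv D1842)
def n2518 : Q := act 2 n1842
theorem D2518 : act 2 n1842 = n2518 := rfl
theorem F10149 : act 3 n2518 = n2518 := d15_2 D1842 D2518 (iv D2518) (iv D1842) F5685
theorem F10150 : act 4 n2518 = n1878 := d16_2 (iv F7579) D2518 (iv D1878)
def n2520 : Q := act 5 n1845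
theorem D2520 : act 5 n1845 = n2520 := rfl
theorem F10153 : act 0 n2520 = n2520 := d4_1 D2520 (iv D2520) F7586
theorem F10154 : act 1 n2520 = n1846 := d11_1 D2520 (iv D1846) D1845
theorem F10155 : act 3 n2520 = n1979 := d22_1 D2520 (iv D1979) (iv F7587)
theorem F10156 : act 8 n2520 = n2520 := d32_2 F7590 D2520 (iv D2520)
def n2521 : Q := act 7 n1845
theorem D2521 : act 7 n1845 = n2521 := rfl
theorem F10157 : act 0 n2521 = n2521 := d6_1 D2521 (iv D2521) F7586
theorem F10158 : act 1 n2521 = n1847 := d13_1 D2521 (iv D1847) D1845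
theorem F10159 : act 4 n2521 = n2521 := d28_1 D2521 (iv D2521) F7588
theorem F10160 : act 6 n2521 = n2521 := d33_1 D2521 (iv D2521) F7589
def n2522 : Q := act 4 n1846
theorem D2522 : act 4 n1846 = n2522 := rfl
theorem F10161 : act 0 n2522 = n1852 := d3_1 D2522 (iv D1852) (iv F7591)
theorem F10162 : act 2 n2522 = n1848 := d16_1 D2522 (iv D1848) (iv F7592)
theorem F10163 : act 3 n2522 = n2522 := d21_1 D2522 (iv D2522) F7593 F6097 (iv F7593)
theorem F10164 : act 5 n2522 = n2522 := d26_2 D1846 D2522 (iv D2522) (iv D1846) F5696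
theorem F10165 : act 8 n2522 = n2522 := d29_2 F7594 D2522 (iv D2522)
def n2523 : Q := act 6 n1846
theorem D2523 : act 6 n1846 = n2523 := rfl
theorem F10166 : act 0 n2523 = n1853 := d5_1 D2523 (iv D1853) (iv F7591)
theorem F10167 : act 2 n2523 = n1849 := d18_1 D2523 (iv D1849) (iv F7592)
theorem F10168 : act 3 n2523 = n1981 := d23_1 D2523 (iv D1981) (iv F7593)
theorem F10169 : act 5 n2523 = n2523 := d30_1 D2523 (iv D2523) (iv D1846) F5697 D1846
theorem F10170 : act 8 n2523 = n2523 := d34_2 F7594 D2523 (iv D2523)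
def n2524 : Q := act 7 n1846
theorem D2524 : act 7 n1846 = n2524 := rfl
theorem F10171 : act 0 n2524 = n1854 := d6_1 D2524 (iv D1854) (iv F7591)
theorem F10172 : act 2 n2524 = n1850 := d19_1 D2524 (iv D1850) (iv F7592)
theorem F10173 : act 5 n2524 = n1847 := d31_1 D2524 (iv D1847) D1846
def n2525 : Q := act 3 n1847
theorem D2525 : act 3 n1847 = n2525 := rfl
theorem F10174 : act 0 n2525 = n1855 := d2_1 D2525 (iv D1855) (iv F7595)
theorem F10175 : act 6 n2525 = n2525 := d23_2 F7598 D2525 (iv D2525)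
theorem F10176 : act 7 n2525 = n1983 := d24_2 D1847 D2525 (iv D1983) (iv D1455) (iv F5695)
def n2526 : Q := act 8 n1847
theorem D2526 : act 8 n1847 = n2526 := rfl
theorem F10177 : act 0 n2526 = n1856 := d7_1 D2526 (iv D1856) (iv F7595)
theorem F10178 : act 2 n2526 = n1851 := d20_1 D2526 (iv D1851) (iv F7596)
theorem F10179 : act 4 n2526 = n2526 := d29_1 D2526 (iv D2526) F7597
theorem F10180 : act 6 n2526 = n2526 := d34_1 D2526 (iv D2526) F7598
theorem F10181 : act 7 n2526 = n2526 := d35_1 D2526 (iv D2526) (iv D1847) F5698 D1847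
def n2527 : Q := act 6 n1848
theorem D2527 : act 6 n1848 = n2527 := rfl
theorem F10183 : act 3 n2527 = n1866 := d23_1 D2527 (iv D1866) (iv F7600)
theorem F10184 : act 4 n2527 = n1849 := d27_1 D2527 (iv D1849) D1848
def n2528 : Q := act 7 n1848
theorem D2528 : act 7 n1848 = n2528 := rfl
theorem F10186 : act 0 n2528 = n1858 := d6_1 D2528 (iv D1858) (iv F7599)
theorem F10187 : act 4 n2528 = n1850 := d28_1 D2528 (iv D1850) D1848
theorem F10188 : act 5 n2528 = n2528 := d31_1 D2528 (iv D2528) F7601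
def n2529 : Q := act 7 n1849
theorem D2529 : act 7 n1849 = n2529 := rfl
theorem F10189 : act 0 n2529 = n1859 := d6_1 D2529 (iv D1859) (iv F7603)
theorem F10190 : act 5 n2529 = n2529 := d31_1 D2529 (iv D2529) F7605
theorem F10191 : act 6 n2529 = n1850 := d33_1 D2529 (iv D1850) D1849
def n2530 : Q := act 8 n1850
theorem D2530 : act 8 n1850 = n2530 := rfl
theorem F10192 : act 0 n2530 = n1860 := d7_1 D2530 (iv D1860) (iv F7607)
theorem F10193 : act 5 n2530 = n1851 := d32_1 D2530 (iv D1851) (iv F7608)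
theorem F10194 : act 7 n2530 = n2530 := d35_1 D2530 (iv D2530) (iv D1850) F5701 D1850
def n2531 : Q := act 6 n1852
theorem D2531 : act 6 n1852 = n2531 := rfl
theorem F10196 : act 2 n2531 = n1857 := d18_1 D2531 (iv D1857) (iv F7614)
theorem F10198 : act 4 n2531 = n1853 := d27_1 D2531 (iv D1853) D1852
def n2532 : Q := act 7 n1852
theorem D2532 : act 7 n1852 = n2532 := rfl
theorem F10200 : act 1 n2532 = n2532 := d13_1 D2532 (iv D2532) F7613
theorem F10201 : act 2 n2532 = n1858 := d19_1 D2532 (iv D1858) (iv F7614)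
theorem F10202 : act 4 n2532 = n1854 := d28_1 D2532 (iv D1854) D1852
theorem F10203 : act 5 n2532 = n2532 := d31_1 D2532 (iv D2532) F7616
def n2533 : Q := act 7 n1853
theorem D2533 : act 7 n1853 = n2533 := rfl
theorem F10204 : act 1 n2533 = n2533 := d13_1 D2533 (iv D2533) F7618
theorem F10205 : act 2 n2533 = n1859 := d19_1 D2533 (iv D1859) (iv F7619)
theorem F10206 : act 5 n2533 = n2533 := d31_1 D2533 (iv D2533) F7621
theorem F10207 : act 6 n2533 = n1854 := d33_1 D2533 (iv D1854) D1853
def n2534 : Q := act 3 n1854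
theorem D2534 : act 3 n1854 = n2534 := rfl
theorem F10208 : act 1 n2534 = n2534 := d9_1 D2534 (iv D2534) F7623
theorem F10209 : act 5 n2534 = n1855 := d22_2 (iv F7625) D2534 (iv D1855)
theorem F10210 : act 7 n2534 = n1988 := d24_2 D1854 D2534 (iv D1988) (iv D1460) (iv F5712)
def n2535 : Q := act 8 n1854
theorem D2535 : act 8 n1854 = n2535 := rfl
theorem F10211 : act 1 n2535 = n2535 := d14_1 D2535 (iv D2535) F7623
theorem F10212 : act 2 n2535 = n1860 := d20_1 D2535 (iv D1860) (iv F7624)
theorem F10213 : act 5 n2535 = n1856 := d32_1 D2535 (iv D1856) (iv F7625)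
theorem F10214 : act 7 n2535 = n2535 := d35_1 D2535 (iv D2535) (iv D1854) F5713 D1854
def n2536 : Q := act 4 n1855
theorem D2536 : act 4 n1855 = n2536 := rfl
theorem F10215 : act 1 n2536 = n2536 := d10_1 D2536 (iv D2536) F7626
theorem F10216 : act 3 n2536 = n2536 := d21_1 D2536 (iv D2536) (iv D1855) F5716 D1855
theorem F10217 : act 6 n2536 = n2536 := d27_2 F7627 D2536 (iv D2536)
theorem F10218 : act 7 n2536 = n1990 := d28_2 (iv F7628) D2536 (iv D1990)
def n2537 : Q := act 8 n1855
theorem D2537 : act 8 n1855 = n2537 := rfl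
theorem F10219 : act 1 n2537 = n2537 := d14_1 D2537 (iv D2537) F7626
theorem F10220 : act 3 n2537 = n1856 := d25_1 D2537 (iv D1856) D1855
theorem F10221 : act 6 n2537 = n2537 := d34_1 D2537 (iv D2537) F7627
def n2539 : Q := act 7 n1857
theorem D2539 : act 7 n1857 = n2539 := rfl
theorem F10228 : act 4 n2539 = n1859 := d28_1 D2539 (iv D1859) (iv F7636)
theorem F10229 : act 6 n2539 = n1858 := d33_1 D2539 (iv D1858) D1857
def n2540 : Q := act 3 n1858
theorem D2540 : act 3 n1858 = n2540 := rfl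
theorem F10230 : act 1 n2540 = n1863 := d9_1 D2540 (iv D1863) (iv F7638)
theorem F10231 : act 5 n2540 = n2540 := d22_2 F7640 D2540 (iv D2540)
theorem F10232 : act 7 n2540 = n1872 := d24_2 D1858 D2540 (iv D1872) (iv D1372) (iv F5719)
def n2541 : Q := act 8 n1858
theorem D2541 : act 8 n1858 = n2541 := rfl
theorem F10233 : act 1 n2541 = n1864 := d14_1 D2541 (iv D1864) (iv F7638)
theorem F10234 : act 4 n2541 = n1860 := d29_1 D2541 (iv D1860) (iv F7639)
theorem F10235 : act 5 n2541 = n2541 := d32_1 D2541 (iv D2541) F7640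
theorem F10236 : act 7 n2541 = n2541 := d35_1 D2541 (iv D2541) (iv D1858) F5721 D1858
def n2542 : Q := act 8 n1859
theorem D2542 : act 8 n1859 = n2542 := rfl
theorem F10237 : act 1 n2542 = n1865 := d14_1 D2542 (iv D1865) (iv F7641)
theorem F10238 : act 5 n2542 = n2542 := d32_1 D2542 (iv D2542) F7642
theorem F10239 : act 6 n2542 = n1860 := d34_1 D2542 (iv D1860) (iv F7643)
theorem F10240 : act 7 n2542 = n2542 := d35_1 D2542 (iv D2542) (iv D1859) F5725 D1859
def n2544 : Q := act 3 n1862
theorem D2544 : act 3 n1862 = n2544 := rfl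
theorem F10245 : act 6 n2544 = n1863 := d23_2 (iv F7654) D2544 (iv D1863)
theorem F10246 : act 7 n2544 = n1876 := d24_2 D1862 D2544 (iv D1876) (iv D1376) (iv F5733)
def n2545 : Q := act 8 n1862
theorem D2545 : act 8 n1862 = n2545 := rfl
theorem F10248 : act 4 n2545 = n1865 := d29_1 D2545 (iv D1865) (iv F7653)
theorem F10249 : act 6 n2545 = n1864 := d34_1 D2545 (iv D1864) (iv F7654)
def n2546 : Q := act 2 n1863
theorem D2546 : act 2 n1863 = n2546 := rfl
theorem F10251 : act 3 n2546 = n2546 := d15_2 D1863 D2546 (iv D2546) (iv D1863) F5736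
theorem F10252 : act 5 n2546 = n2546 := d17_2 F7655 D2546 (iv D2546)
theorem F10253 : act 7 n2546 = n1878 := d19_2 (iv F7656) D2546 (iv D1878)
def n2547 : Q := act 8 n1863
theorem D2547 : act 8 n1863 = n2547 := rfl
theorem F10254 : act 3 n2547 = n1864 := d25_1 D2547 (iv D1864) D1863
theorem F10255 : act 5 n2547 = n2547 := d32_1 D2547 (iv D2547) F7655
def n2549 : Q := act 7 n1866
theorem D2549 : act 7 n1866 = n2549 := rfl
theorem F10263 : act 4 n2549 = n1868 := d28_1 D2549 (iv D1868) (iv F7667)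
theorem F10264 : act 6 n2549 = n1867 := d33_1 D2549 (iv D1867) D1866
def n2550 : Q := act 3 n1867
theorem D2550 : act 3 n1867 = n2550 := rfl
theorem F10265 : act 0 n2550 = n1872 := d2_1 D2550 (iv D1872) (iv F7669)
theorem F10266 : act 5 n2550 = n2550 := d22_2 F7672 D2550 (iv D2550)
def n2551 : Q := act 8 n1867
theorem D2551 : act 8 n1867 = n2551 := rfl
theorem F10269 : act 4 n2551 = n1869 := d29_1 D2551 (iv D1869) (iv F7671)
def n2554 : Q := act 3 n1871
theorem D2554 : act 3 n1871 = n2554 := rfl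
theorem F10283 : act 6 n2554 = n1872 := d23_2 (iv F7689) D2554 (iv D1872)
def n2556 : Q := act 2 n1872
theorem D2556 : act 2 n1872 = n2556 := rfl
theorem F10289 : act 3 n2556 = n2556 := d15_2 D1872 D2556 (iv D2556) (iv D1872) F5767
theorem F10290 : act 5 n2556 = n2556 := d17_2 F7691 D2556 (iv D2556)
def n2560 : Q := act 2 n1876
theorem D2560 : act 2 n1876 = n2560 := rfl
theorem F10301 : act 3 n2560 = n1882 := d15_2 D1876 D2560 (iv D1882) (iv D1381) (iv F5782)
theorem F10302 : act 6 n2560 = n1878 := d18_2 (iv F7706) D2560 (iv D1878)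
def n2562 : Q := act 1 n1878
theorem D2562 : act 1 n1878 = n2562 := rfl
theorem F10305 : act 3 n2562 = n1884 := d9_2 (iv F7711) D2562 (iv D1884)
theorem F10306 : act 5 n2562 = n2562 := d11_2 F7712 D2562 (iv D2562)
def n2568 : Q := act 1 n1882
theorem D2568 : act 1 n1882 = n2568 := rfl
theorem F10326 : act 6 n2568 = n1884 := d12_2 (iv F7725) D2568 (iv D1884)
def n2571 : Q := act 0 n1884
theorem D2571 : act 0 n1884 = n2571 := rfl
theorem F10336 : act 2 n2571 = n2571 := d1_2 F7731 D2571 (iv D2571)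
theorem F10337 : act 4 n2571 = n2571 := d3_2 F7732 D2571 (iv D2571)
theorem F10338 : act 5 n2571 = n2571 := d4_2 F7733 D2571 (iv D2571)
theorem F10339 : act 7 n2571 = n2571 := d6_2 F7734 D2571 (iv D2571)
def n2574 : Q := act 4 n1887
theorem D2574 : act 4 n1887 = n2574 := rfl
theorem F10348 : act 0 n2574 = n1888 := d3_1 D2574 (iv D1888) D1887
theorem F10349 : act 1 n2574 = n2574 := d10_1 D2574 (iv D2574) F7743
theorem F10350 : act 2 n2574 = n2574 := d16_1 D2574 (iv D2574) F7744
theorem F10351 : act 6 n2574 = n2574 := d27_2 F7747 D2574 (iv D2574)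
theorem F10352 : act 7 n2574 = n2574 := d28_2 F7748 D2574 (iv D2574)
theorem F10353 : act 8 n2574 = n2574 := d29_2 F7749 D2574 (iv D2574)
def n2575 : Q := act 3 n1888
theorem D2575 : act 3 n1888 = n2575 := rfl
theorem F10354 : act 1 n2575 = n1889 := d9_1 D2575 (iv D1889) (iv F7750)
theorem F10355 : act 4 n2575 = n1893 := d21_2 D1888 D2575 (iv D1893) (iv D1389) (iv F5814)
theorem F10356 : act 6 n2575 = n2575 := d23_2 F7752 D2575 (iv D2575)
theorem F10357 : act 8 n2575 = n2575 := d25_2 F7754 D2575 (iv D2575)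
def n2576 : Q := act 5 n1888
theorem D2576 : act 5 n1888 = n2576 := rfl
theorem F10358 : act 1 n2576 = n1890 := d11_1 D2576 (iv D1890) (iv F7750)
theorem F10359 : act 2 n2576 = n2576 := d17_1 D2576 (iv D2576) F7751
theorem F10360 : act 4 n2576 = n2576 := d26_1 D2576 (iv D2576) (iv D1888) F5815 D1888
theorem F10361 : act 7 n2576 = n2576 := d31_2 F7753 D2576 (iv D2576)
theorem F10362 : act 8 n2576 = n2576 := d32_2 F7754 D2576 (iv D2576)
def n2577 : Q := act 5 n1889
theorem D2577 : act 5 n1889 = n2577 := rfl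
theorem F10365 : act 3 n2577 = n1890 := d22_1 D2577 (iv D1890) D1889
def n2578 : Q := act 7 n1889
theorem D2578 : act 7 n1889 = n2578 := rfl
theorem F10370 : act 4 n2578 = n1896 := d28_1 D2578 (iv D1896) (iv F7757)
def n2579 : Q := act 6 n1890
theorem D2579 : act 6 n1890 = n2579 := rfl
theorem F10373 : act 2 n2579 = n1891 := d18_1 D2579 (iv D1891) (iv F7761)
def n2580 : Q := act 3 n1892
theorem D2580 : act 3 n1892 = n2580 := rfl
theorem F10378 : act 0 n2580 = n1893 := d2_1 D2580 (iv D1893) (iv F7772)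
theorem F10379 : act 1 n2580 = n2580 := d9_1 D2580 (iv D2580) F7773
theorem F10380 : act 6 n2580 = n2580 := d23_2 F7774 D2580 (iv D2580)
theorem F10381 : act 8 n2580 = n2580 := d25_2 F7776 D2580 (iv D2580)
def n2581 : Q := act 5 n1892
theorem D2581 : act 5 n1892 = n2581 := rfl
theorem F10382 : act 0 n2581 = n1894 := d4_1 D2581 (iv D1894) (iv F7772)
theorem F10383 : act 1 n2581 = n2581 := d11_1 D2581 (iv D2581) F7773
theorem F10384 : act 4 n2581 = n2581 := d26_1 D2581 (iv D2581) (iv D1892) F5831 D1892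
theorem F10385 : act 7 n2581 = n1899 := d31_2 (iv F7775) D2581 (iv D1899)
theorem F10386 : act 8 n2581 = n2581 := d32_2 F7776 D2581 (iv D2581)
def n2582 : Q := act 2 n1893
theorem D2582 : act 2 n1893 = n2582 := rfl
theorem F10387 : act 1 n2582 = n2582 := d8_1 D2582 (iv D2582) F7777 F5840 (iv F7777)
theorem F10388 : act 6 n2582 = n2582 := d18_2 F7778 D2582 (iv D2582)
theorem F10389 : act 8 n2582 = n2582 := d20_2 F7779 D2582 (iv D2582)
def n2583 : Q := act 5 n1893
theorem D2583 : act 5 n1893 = n2583 := rfl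
theorem F10390 : act 1 n2583 = n1895 := d11_1 D2583 (iv D1895) (iv F7777)
theorem F10391 : act 3 n2583 = n1894 := d22_1 D2583 (iv D1894) D1893
theorem F10392 : act 8 n2583 = n2583 := d32_2 F7779 D2583 (iv D2583)
def n2584 : Q := act 7 n1893
theorem D2584 : act 7 n1893 = n2584 := rfl
theorem F10393 : act 1 n2584 = n1896 := d13_1 D2584 (iv D1896) (iv F7777)
theorem F10394 : act 3 n2584 = n1902 := d24_1 D2584 (iv D1902) (iv D1394) (iv F5837) D1893
theorem F10395 : act 6 n2584 = n2584 := d33_1 D2584 (iv D2584) F7778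
def n2585 : Q := act 6 n1894
theorem D2585 : act 6 n1894 = n2585 := rfl
theorem F10396 : act 1 n2585 = n1897 := d12_1 D2585 (iv D1897) (iv F7780)
theorem F10397 : act 4 n2585 = n2585 := d27_1 D2585 (iv D2585) F7781
theorem F10398 : act 5 n2585 = n2585 := d30_1 D2585 (iv D2585) (iv D1894) F5836 D1894
theorem F10399 : act 7 n2585 = n1903 := d33_2 (iv F7782) D2585 (iv D1903)
theorem F10400 : act 8 n2585 = n2585 := d34_2 F7783 D2585 (iv D2585)
def n2586 : Q := act 4 n1895
theorem D2586 : act 4 n1895 = n2586 := rfl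
def n2587 : Q := act 6 n1895
theorem D2587 : act 6 n1895 = n2587 := rfl
theorem F10407 : act 3 n2587 = n1897 := d23_1 D2587 (iv D1897) (iv F7786)
def n2588 : Q := act 7 n1895
theorem D2588 : act 7 n1895 = n2588 := rfl
theorem F10412 : act 3 n2588 = n1906 := d24_1 D2588 (iv D1906) F5867 (iv F5846) (iv F7786)
def n2589 : Q := act 8 n1896
theorem D2589 : act 8 n1896 = n2589 := rfl
theorem F10416 : act 3 n2589 = n1907 := d25_1 D2589 (iv D1907) (iv F7790)
def n2590 : Q := act 2 n1898
theorem D2590 : act 2 n1898 = n2590 := rfl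
theorem F10419 : act 0 n2590 = n1900 := d1_1 D2590 (iv D1900) (iv F7798)
theorem F10420 : act 4 n2590 = n2590 := d16_2 F7800 D2590 (iv D2590)
theorem F10421 : act 6 n2590 = n2590 := d18_2 F7801 D2590 (iv D2590)
theorem F10422 : act 8 n2590 = n1908 := d20_2 (iv F7802) D2590 (iv D1908)
def n2591 : Q := act 5 n1898
theorem D2591 : act 5 n1898 = n2591 := rfl
theorem F10423 : act 0 n2591 = n1901 := d4_1 D2591 (iv D1901) (iv F7798)
theorem F10424 : act 1 n2591 = n2591 := d11_1 D2591 (iv D2591) F7799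
theorem F10425 : act 3 n2591 = n1899 := d22_1 D2591 (iv D1899) D1898
theorem F10426 : act 8 n2591 = n1909 := d32_2 (iv F7802) D2591 (iv D1909)
def n2592 : Q := act 7 n1898
theorem D2592 : act 7 n1898 = n2592 := rfl
theorem F10427 : act 0 n2592 = n1902 := d6_1 D2592 (iv D1902) (iv F7798)
theorem F10428 : act 1 n2592 = n2592 := d13_1 D2592 (iv D2592) F7799
theorem F10429 : act 4 n2592 = n2592 := d28_1 D2592 (iv D2592) F7800
theorem F10430 : act 6 n2592 = n2592 := d33_1 D2592 (iv D2592) F7801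
def n2593 : Q := act 6 n1899
theorem D2593 : act 6 n1899 = n2593 := rfl
theorem F10431 : act 0 n2593 = n1903 := d5_1 D2593 (iv D1903) (iv F7803)
theorem F10432 : act 1 n2593 = n2593 := d12_1 D2593 (iv D2593) F7804
theorem F10433 : act 4 n2593 = n2593 := d27_1 D2593 (iv D2593) F7805
theorem F10434 : act 5 n2593 = n2593 := d30_1 D2593 (iv D2593) (iv D1899) F5856 D1899
theorem F10435 : act 8 n2593 = n1911 := d34_2 (iv F7806) D2593 (iv D1911)
def n2594 : Q := act 5 n1900
theorem D2594 : act 5 n1900 = n2594 := rfl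
theorem F10436 : act 1 n2594 = n1926 := d11_1 D2594 (iv D1926) (iv F7807)
theorem F10437 : act 2 n2594 = n1901 := d17_1 D2594 (iv D1901) D1900
theorem F10438 : act 8 n2594 = n1912 := d32_2 (iv F7810) D2594 (iv D1912)
def n2595 : Q := act 7 n1900
theorem D2595 : act 7 n1900 = n2595 := rfl
theorem F10439 : act 1 n2595 = n1927 := d13_1 D2595 (iv D1927) (iv F7807)
theorem F10440 : act 2 n2595 = n1902 := d19_1 D2595 (iv D1902) D1900
theorem F10441 : act 4 n2595 = n2595 := d28_1 D2595 (iv D2595) F7808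
theorem F10442 : act 6 n2595 = n2595 := d33_1 D2595 (iv D2595) F7809
def n2596 : Q := act 4 n1901
theorem D2596 : act 4 n1901 = n2596 := rfl
theorem F10443 : act 1 n2596 = n1904 := d10_1 D2596 (iv D1904) (iv F7811)
theorem F10444 : act 3 n2596 = n2596 := d21_1 D2596 (iv D2596) F7812 F5863 (iv F7812)
theorem F10445 : act 5 n2596 = n2596 := d26_2 D1901 D2596 (iv D2596) (iv D1901) F5859
theorem F10446 : act 8 n2596 = n1914 := d29_2 (iv F7813) D2596 (iv D1914)
def n2597 : Q := act 6 n1901
theorem D2597 : act 6 n1901 = n2597 := rfl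
theorem F10447 : act 1 n2597 = n1905 := d12_1 D2597 (iv D1905) (iv F7811)
theorem F10448 : act 3 n2597 = n1903 := d23_1 D2597 (iv D1903) (iv F7812)
theorem F10449 : act 5 n2597 = n2597 := d30_1 D2597 (iv D2597) (iv D1901) F5860 D1901
theorem F10450 : act 8 n2597 = n1915 := d34_2 (iv F7813) D2597 (iv D1915)
def n2598 : Q := act 7 n1901
theorem D2598 : act 7 n1901 = n2598 := rfl
theorem F10451 : act 1 n2598 = n1906 := d13_1 D2598 (iv D1906) (iv F7811)
theorem F10452 : act 5 n2598 = n1902 := d31_1 D2598 (iv D1902) D1901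
def n2599 : Q := act 8 n1902
theorem D2599 : act 8 n1902 = n2599 := rfl
theorem F10453 : act 1 n2599 = n1907 := d14_1 D2599 (iv D1907) (iv F7814)
theorem F10454 : act 4 n2599 = n2599 := d29_1 D2599 (iv D2599) F7815
theorem F10455 : act 6 n2599 = n2599 := d34_1 D2599 (iv D2599) F7816
theorem F10456 : act 7 n2599 = n1917 := d35_1 D2599 (iv D1917) (iv D1403) (iv F5861) D1902
def n2600 : Q := act 6 n1904
theorem D2600 : act 6 n1904 = n2600 := rfl
theorem F10460 : act 4 n2600 = n1905 := d27_1 D2600 (iv D1905) D1904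
theorem F10461 : act 8 n2600 = n1918 := d34_2 (iv F7825) D2600 (iv D1918)
def n2601 : Q := act 7 n1904
theorem D2601 : act 7 n1904 = n2601 := rfl
def n2602 : Q := act 7 n1905
theorem D2602 : act 7 n1905 = n2602 := rfl
def n2603 : Q := act 8 n1906
theorem D2603 : act 8 n1906 = n2603 := rfl
theorem F10473 : act 7 n2603 = n1921 := d35_1 D2603 (iv D1921) (iv D1407) (iv F5868) D1906
def n2604 : Q := act 1 n1908
theorem D2604 : act 1 n1908 = n2604 := rfl
theorem F10474 : act 0 n2604 = n1936 := d0_1 D2604 (iv D1936) F5957 (iv F5886) (iv F7839)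
theorem F10475 : act 2 n2604 = n2604 := d8_2 D1908 D2604 (iv D2604) (iv D1908) F5879
theorem F10476 : act 4 n2604 = n2604 := d10_2 F7840 D2604 (iv D2604)
theorem F10477 : act 6 n2604 = n2604 := d12_2 F7841 D2604 (iv D2604)
def n2605 : Q := act 5 n1908
theorem D2605 : act 5 n1908 = n2605 := rfl
theorem F10478 : act 0 n2605 = n1912 := d4_1 D2605 (iv D1912) (iv F7839)
theorem F10479 : act 2 n2605 = n1909 := d17_1 D2605 (iv D1909) D1908
def n2606 : Q := act 7 n1908
theorem D2606 : act 7 n1908 = n2606 := rfl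
theorem F10480 : act 0 n2606 = n1913 := d6_1 D2606 (iv D1913) (iv F7839)
theorem F10481 : act 2 n2606 = n1910 := d19_1 D2606 (iv D1910) D1908
theorem F10482 : act 4 n2606 = n2606 := d28_1 D2606 (iv D2606) F7840
theorem F10483 : act 6 n2606 = n2606 := d33_1 D2606 (iv D2606) F7841
def n2607 : Q := act 4 n1909
theorem D2607 : act 4 n1909 = n2607 := rfl
theorem F10484 : act 0 n2607 = n1914 := d3_1 D2607 (iv D1914) (iv F7842)
theorem F10485 : act 1 n2607 = n2607 := d10_1 D2607 (iv D2607) F7843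
theorem F10486 : act 3 n2607 = n2607 := d21_1 D2607 (iv D2607) F7844 F5884 (iv F7844)
theorem F10487 : act 5 n2607 = n2607 := d26_2 D1909 D2607 (iv D2607) (iv D1909) F5880
def n2608 : Q := act 6 n1909
theorem D2608 : act 6 n1909 = n2608 := rfl
theorem F10488 : act 0 n2608 = n1915 := d5_1 D2608 (iv D1915) (iv F7842)
theorem F10489 : act 1 n2608 = n2608 := d12_1 D2608 (iv D2608) F7843
theorem F10490 : act 3 n2608 = n1911 := d23_1 D2608 (iv D1911) (iv F7844)
theorem F10491 : act 5 n2608 = n2608 := d30_1 D2608 (iv D2608) (iv D1909) F5881 D1909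
def n2609 : Q := act 7 n1909
theorem D2609 : act 7 n1909 = n2609 := rfl
theorem F10492 : act 0 n2609 = n1916 := d6_1 D2609 (iv D1916) (iv F7842)
theorem F10493 : act 1 n2609 = n2609 := d13_1 D2609 (iv D2609) F7843
theorem F10494 : act 3 n2609 = n2609 := d24_1 D2609 (iv D2609) F7844 F5885 (iv F7844)
theorem F10495 : act 5 n2609 = n1910 := d31_1 D2609 (iv D1910) D1909
def n2610 : Q := act 8 n1910
theorem D2610 : act 8 n1910 = n2610 := rfl
theorem F10496 : act 0 n2610 = n1917 := d7_1 D2610 (iv D1917) (iv F7845)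
theorem F10497 : act 1 n2610 = n2610 := d14_1 D2610 (iv D2610) F7846
theorem F10498 : act 3 n2610 = n2610 := d25_1 D2610 (iv D2610) F7847
theorem F10499 : act 4 n2610 = n2610 := d29_1 D2610 (iv D2610) F7848
theorem F10500 : act 6 n2610 = n2610 := d34_1 D2610 (iv D2610) F7849
def n2611 : Q := act 4 n1912
theorem D2611 : act 4 n1912 = n2611 := rfl
theorem F10501 : act 1 n2611 = n1943 := d10_1 D2611 (iv D1943) (iv F7855)
theorem F10502 : act 2 n2611 = n1914 := d16_1 D2611 (iv D1914) (iv F7856)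
theorem F10503 : act 5 n2611 = n2611 := d26_2 D1912 D2611 (iv D2611) (iv D1912) F5887
def n2612 : Q := act 6 n1912
theorem D2612 : act 6 n1912 = n2612 := rfl
theorem F10504 : act 1 n2612 = n1944 := d12_1 D2612 (iv D1944) (iv F7855)
theorem F10505 : act 2 n2612 = n1915 := d18_1 D2612 (iv D1915) (iv F7856)
theorem F10506 : act 5 n2612 = n2612 := d30_1 D2612 (iv D2612) (iv D1912) F5888 D1912
def n2613 : Q := act 7 n1912
theorem D2613 : act 7 n1912 = n2613 := rfl
theorem F10507 : act 1 n2613 = n1945 := d13_1 D2613 (iv D1945) (iv F7855)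
theorem F10508 : act 2 n2613 = n1916 := d19_1 D2613 (iv D1916) (iv F7856)
theorem F10509 : act 5 n2613 = n1913 := d31_1 D2613 (iv D1913) D1912
def n2614 : Q := act 3 n1913
theorem D2614 : act 3 n1913 = n2614 := rfl
theorem F10510 : act 1 n2614 = n1946 := d9_1 D2614 (iv D1946) (iv F7857)
theorem F10511 : act 2 n2614 = n2614 := d15_1 D2614 (iv D2614) F7858 F5892 (iv F7858)
theorem F10512 : act 6 n2614 = n2614 := d23_2 F7860 D2614 (iv D2614)
def n2615 : Q := act 8 n1913
theorem D2615 : act 8 n1913 = n2615 := rfl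
theorem F10513 : act 1 n2615 = n1947 := d14_1 D2615 (iv D1947) (iv F7857)
theorem F10514 : act 2 n2615 = n1917 := d20_1 D2615 (iv D1917) (iv F7858)
theorem F10515 : act 4 n2615 = n2615 := d29_1 D2615 (iv D2615) F7859
theorem F10516 : act 6 n2615 = n2615 := d34_1 D2615 (iv D2615) F7860
def n2616 : Q := act 6 n1914
theorem D2616 : act 6 n1914 = n2616 := rfl
theorem F10517 : act 1 n2616 = n1918 := d12_1 D2616 (iv D1918) (iv F7861)
theorem F10518 : act 3 n2616 = n2616 := d23_1 D2616 (iv D2616) F7862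
theorem F10519 : act 4 n2616 = n1915 := d27_1 D2616 (iv D1915) D1914
def n2617 : Q := act 7 n1914
theorem D2617 : act 7 n1914 = n2617 := rfl
theorem F10520 : act 1 n2617 = n1919 := d13_1 D2617 (iv D1919) (iv F7861)
theorem F10521 : act 4 n2617 = n1916 := d28_1 D2617 (iv D1916) D1914
theorem F10522 : act 5 n2617 = n2617 := d31_1 D2617 (iv D2617) F7863
def n2618 : Q := act 7 n1915
theorem D2618 : act 7 n1915 = n2618 := rfl
theorem F10523 : act 1 n2618 = n1920 := d13_1 D2618 (iv D1920) (iv F7864)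
theorem F10524 : act 3 n2618 = n2618 := d24_1 D2618 (iv D2618) F7865 F5898 (iv F7865)
theorem F10525 : act 5 n2618 = n2618 := d31_1 D2618 (iv D2618) F7866
theorem F10526 : act 6 n2618 = n1916 := d33_1 D2618 (iv D1916) D1915
def n2619 : Q := act 8 n1916
theorem D2619 : act 8 n1916 = n2619 := rfl
theorem F10527 : act 1 n2619 = n1921 := d14_1 D2619 (iv D1921) (iv F7867)
theorem F10528 : act 3 n2619 = n2619 := d25_1 D2619 (iv D2619) F7868
theorem F10529 : act 5 n2619 = n1917 := d32_1 D2619 (iv D1917) (iv F7869)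
def n2620 : Q := act 5 n1918
theorem D2620 : act 5 n1918 = n2620 := rfl
def n2621 : Q := act 7 n1918
theorem D2621 : act 7 n1918 = n2621 := rfl
theorem F10537 : act 4 n2621 = n1920 := d28_1 D2621 (iv D1920) (iv F7877)
def n2622 : Q := act 3 n1919
theorem D2622 : act 3 n1919 = n2622 := rfl
def n2623 : Q := act 8 n1919
theorem D2623 : act 8 n1919 = n2623 := rfl
def n2624 : Q := act 8 n1920
theorem D2624 : act 8 n1920 = n2624 := rfl
def n2625 : Q := act 1 n1922
theorem D2625 : act 1 n1922 = n2625 := rfl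
theorem F10553 : act 2 n2625 = n2625 := d8_2 D1922 D2625 (iv D2625) (iv D1922) F5917
theorem F10554 : act 4 n2625 = n2625 := d10_2 F7892 D2625 (iv D2625)
theorem F10555 : act 6 n2625 = n2625 := d12_2 F7893 D2625 (iv D2625)
theorem F10556 : act 8 n2625 = n1936 := d14_2 (iv F7894) D2625 (iv D1936)
def n2626 : Q := act 5 n1922
theorem D2626 : act 5 n1922 = n2626 := rfl
theorem F10557 : act 0 n2626 = n1926 := d4_1 D2626 (iv D1926) (iv F7891)
theorem F10558 : act 2 n2626 = n1923 := d17_1 D2626 (iv D1923) D1922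
theorem F10559 : act 8 n2626 = n1937 := d32_2 (iv F7894) D2626 (iv D1937)
def n2627 : Q := act 7 n1922
theorem D2627 : act 7 n1922 = n2627 := rfl
theorem F10560 : act 0 n2627 = n1927 := d6_1 D2627 (iv D1927) (iv F7891)
theorem F10561 : act 2 n2627 = n1924 := d19_1 D2627 (iv D1924) D1922
theorem F10562 : act 4 n2627 = n2627 := d28_1 D2627 (iv D2627) F7892
theorem F10563 : act 6 n2627 = n2627 := d33_1 D2627 (iv D2627) F7893
def n2628 : Q := act 4 n1923
theorem D2628 : act 4 n1923 = n2628 := rfl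
theorem F10564 : act 0 n2628 = n1928 := d3_1 D2628 (iv D1928) (iv F7895)
theorem F10565 : act 1 n2628 = n2628 := d10_1 D2628 (iv D2628) F7896
theorem F10566 : act 3 n2628 = n1959 := d21_1 D2628 (iv D1959) F6010 (iv F5923) (iv F7897)
theorem F10567 : act 5 n2628 = n2628 := d26_2 D1923 D2628 (iv D2628) (iv D1923) F5918
theorem F10568 : act 8 n2628 = n1939 := d29_2 (iv F7898) D2628 (iv D1939)
def n2629 : Q := act 6 n1923
theorem D2629 : act 6 n1923 = n2629 := rfl
theorem F10569 : act 0 n2629 = n1929 := d5_1 D2629 (iv D1929) (iv F7895)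
theorem F10570 : act 1 n2629 = n2629 := d12_1 D2629 (iv D2629) F7896
theorem F10571 : act 3 n2629 = n1925 := d23_1 D2629 (iv D1925) (iv F7897)
theorem F10572 : act 5 n2629 = n2629 := d30_1 D2629 (iv D2629) (iv D1923) F5919 D1923
theorem F10573 : act 8 n2629 = n1940 := d34_2 (iv F7898) D2629 (iv D1940)
def n2630 : Q := act 7 n1923
theorem D2630 : act 7 n1923 = n2630 := rfl
theorem F10574 : act 0 n2630 = n1930 := d6_1 D2630 (iv D1930) (iv F7895)
theorem F10575 : act 1 n2630 = n2630 := d13_1 D2630 (iv D2630) F7896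
theorem F10576 : act 3 n2630 = n2630 := d24_1 D2630 (iv D2630) F7897 F5924 (iv F7897)
theorem F10577 : act 5 n2630 = n1924 := d31_1 D2630 (iv D1924) D1923
def n2631 : Q := act 8 n1924
theorem D2631 : act 8 n1924 = n2631 := rfl
theorem F10578 : act 0 n2631 = n1931 := d7_1 D2631 (iv D1931) (iv F7899)
theorem F10579 : act 1 n2631 = n2631 := d14_1 D2631 (iv D2631) F7900
theorem F10580 : act 3 n2631 = n2631 := d25_1 D2631 (iv D2631) F7901
theorem F10581 : act 4 n2631 = n2631 := d29_1 D2631 (iv D2631) F7902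
theorem F10582 : act 6 n2631 = n2631 := d34_1 D2631 (iv D2631) F7903
theorem F10583 : act 7 n2631 = n1942 := d35_1 D2631 (iv D1942) (iv D1421) (iv F5920) D1924
def n2632 : Q := act 4 n1926
theorem D2632 : act 4 n1926 = n2632 := rfl
theorem F10584 : act 2 n2632 = n1928 := d16_1 D2632 (iv D1928) (iv F7910)
theorem F10585 : act 5 n2632 = n2632 := d26_2 D1926 D2632 (iv D2632) (iv D1926) F5926
theorem F10586 : act 8 n2632 = n1943 := d29_2 (iv F7911) D2632 (iv D1943)
def n2633 : Q := act 6 n1926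
theorem D2633 : act 6 n1926 = n2633 := rfl
theorem F10587 : act 2 n2633 = n1929 := d18_1 D2633 (iv D1929) (iv F7910)
theorem F10588 : act 5 n2633 = n2633 := d30_1 D2633 (iv D2633) (iv D1926) F5927 D1926
theorem F10589 : act 8 n2633 = n1944 := d34_2 (iv F7911) D2633 (iv D1944)
def n2634 : Q := act 7 n1926
theorem D2634 : act 7 n1926 = n2634 := rfl
theorem F10590 : act 2 n2634 = n1930 := d19_1 D2634 (iv D1930) (iv F7910)
theorem F10591 : act 5 n2634 = n1927 := d31_1 D2634 (iv D1927) D1926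
def n2635 : Q := act 3 n1927
theorem D2635 : act 3 n1927 = n2635 := rfl
theorem F10592 : act 2 n2635 = n2635 := d15_1 D2635 (iv D2635) F7912 F5933 (iv F7912)
theorem F10593 : act 6 n2635 = n2635 := d23_2 F7914 D2635 (iv D2635)
def n2636 : Q := act 8 n1927
theorem D2636 : act 8 n1927 = n2636 := rfl
theorem F10594 : act 2 n2636 = n1931 := d20_1 D2636 (iv D1931) (iv F7912)
theorem F10595 : act 4 n2636 = n2636 := d29_1 D2636 (iv D2636) F7913
theorem F10596 : act 6 n2636 = n2636 := d34_1 D2636 (iv D2636) F7914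
theorem F10597 : act 7 n2636 = n1947 := d35_1 D2636 (iv D1947) (iv D1424) (iv F5928) D1927
def n2637 : Q := act 6 n1928
theorem D2637 : act 6 n1928 = n2637 := rfl
theorem F10600 : act 4 n2637 = n1929 := d27_1 D2637 (iv D1929) D1928
theorem F10601 : act 8 n2637 = n1948 := d34_2 (iv F7918) D2637 (iv D1948)
def n2638 : Q := act 7 n1928
theorem D2638 : act 7 n1928 = n2638 := rfl
def n2639 : Q := act 7 n1929
theorem D2639 : act 7 n1929 = n2639 := rfl
theorem F10608 : act 6 n2639 = n1930 := d33_1 D2639 (iv D1930) D1929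
def n2640 : Q := act 8 n1930
theorem D2640 : act 8 n1930 = n2640 := rfl
theorem F10612 : act 7 n2640 = n1951 := d35_1 D2640 (iv D1951) (iv D1427) (iv F5931) D1930
def n2643 : Q := act 3 n1933
theorem D2643 : act 3 n1933 = n2643 := rfl
theorem F10624 : act 7 n2643 = n1971 := d24_2 D1933 D2643 (iv D1971) (iv D1443) (iv F5942)
def n2644 : Q := act 8 n1933
theorem D2644 : act 8 n1933 = n2644 := rfl
theorem F10628 : act 7 n2644 = n1954 := d35_1 D2644 (iv D1954) (iv D1430) (iv F5944) D1933
def n2646 : Q := act 5 n1936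
theorem D2646 : act 5 n1936 = n2646 := rfl
theorem F10634 : act 1 n2646 = n1937 := d11_1 D2646 (iv D1937) D1936
theorem F10635 : act 2 n2646 = n2646 := d17_1 D2646 (iv D2646) F7946
def n2647 : Q := act 7 n1936
theorem D2647 : act 7 n1936 = n2647 := rfl
theorem F10636 : act 1 n2647 = n1938 := d13_1 D2647 (iv D1938) D1936
theorem F10637 : act 2 n2647 = n2647 := d19_1 D2647 (iv D2647) F7946
theorem F10638 : act 4 n2647 = n2647 := d28_1 D2647 (iv D2647) F7947
theorem F10639 : act 6 n2647 = n2647 := d33_1 D2647 (iv D2647) F7948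
def n2648 : Q := act 4 n1937
theorem D2648 : act 4 n1937 = n2648 := rfl
theorem F10640 : act 0 n2648 = n1943 := d3_1 D2648 (iv D1943) (iv F7949)
theorem F10641 : act 2 n2648 = n1939 := d16_1 D2648 (iv D1939) (iv F7950)
theorem F10642 : act 5 n2648 = n2648 := d26_2 D1937 D2648 (iv D2648) (iv D1937) F5958
def n2649 : Q := act 6 n1937
theorem D2649 : act 6 n1937 = n2649 := rfl
theorem F10643 : act 0 n2649 = n1944 := d5_1 D2649 (iv D1944) (iv F7949)
theorem F10644 : act 2 n2649 = n1940 := d18_1 D2649 (iv D1940) (iv F7950)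
theorem F10645 : act 5 n2649 = n2649 := d30_1 D2649 (iv D2649) (iv D1937) F5959 D1937
def n2650 : Q := act 7 n1937
theorem D2650 : act 7 n1937 = n2650 := rfl
theorem F10646 : act 0 n2650 = n1945 := d6_1 D2650 (iv D1945) (iv F7949)
theorem F10647 : act 2 n2650 = n1941 := d19_1 D2650 (iv D1941) (iv F7950)
theorem F10648 : act 5 n2650 = n1938 := d31_1 D2650 (iv D1938) D1937
def n2651 : Q := act 3 n1938
theorem D2651 : act 3 n1938 = n2651 := rfl
theorem F10649 : act 0 n2651 = n1946 := d2_1 D2651 (iv D1946) (iv F7951)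
theorem F10650 : act 2 n2651 = n1983 := d15_1 D2651 (iv D1983) F6100 (iv F5965) (iv F7952)
theorem F10651 : act 6 n2651 = n2651 := d23_2 F7954 D2651 (iv D2651)
def n2652 : Q := act 8 n1938
theorem D2652 : act 8 n1938 = n2652 := rfl
theorem F10652 : act 0 n2652 = n1947 := d7_1 D2652 (iv D1947) (iv F7951)
theorem F10653 : act 2 n2652 = n1942 := d20_1 D2652 (iv D1942) (iv F7952)
theorem F10654 : act 4 n2652 = n2652 := d29_1 D2652 (iv D2652) F7953
theorem F10655 : act 6 n2652 = n2652 := d34_1 D2652 (iv D2652) F7954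
def n2653 : Q := act 6 n1939
theorem D2653 : act 6 n1939 = n2653 := rfl
theorem F10656 : act 0 n2653 = n1948 := d5_1 D2653 (iv D1948) (iv F7955)
theorem F10657 : act 1 n2653 = n2653 := d12_1 D2653 (iv D2653) F7956
theorem F10658 : act 3 n2653 = n1975 := d23_1 D2653 (iv D1975) (iv F7957)
theorem F10659 : act 4 n2653 = n1940 := d27_1 D2653 (iv D1940) D1939
def n2654 : Q := act 7 n1939
theorem D2654 : act 7 n1939 = n2654 := rfl
theorem F10660 : act 0 n2654 = n1949 := d6_1 D2654 (iv D1949) (iv F7955)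
theorem F10661 : act 1 n2654 = n2654 := d13_1 D2654 (iv D2654) F7956
theorem F10662 : act 3 n2654 = n2654 := d24_1 D2654 (iv D2654) F7957 F6068 (iv F7957)
theorem F10663 : act 4 n2654 = n1941 := d28_1 D2654 (iv D1941) D1939
theorem F10664 : act 5 n2654 = n2654 := d31_1 D2654 (iv D2654) F7958
def n2655 : Q := act 7 n1940
theorem D2655 : act 7 n1940 = n2655 := rfl
theorem F10665 : act 0 n2655 = n1950 := d6_1 D2655 (iv D1950) (iv F7959)
theorem F10666 : act 1 n2655 = n2655 := d13_1 D2655 (iv D2655) F7960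
theorem F10667 : act 3 n2655 = n1985 := d24_1 D2655 (iv D1985) F6105 (iv F5972) (iv F7961)
theorem F10668 : act 5 n2655 = n2655 := d31_1 D2655 (iv D2655) F7962
theorem F10669 : act 6 n2655 = n1941 := d33_1 D2655 (iv D1941) D1940
def n2656 : Q := act 8 n1941
theorem D2656 : act 8 n1941 = n2656 := rfl
theorem F10670 : act 0 n2656 = n1951 := d7_1 D2656 (iv D1951) (iv F7963)
theorem F10671 : act 1 n2656 = n2656 := d14_1 D2656 (iv D2656) F7964
theorem F10672 : act 3 n2656 = n1986 := d25_1 D2656 (iv D1986) (iv F7965)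
theorem F10673 : act 5 n2656 = n1942 := d32_1 D2656 (iv D1942) (iv F7966)
def n2657 : Q := act 3 n1943
theorem D2657 : act 3 n1943 = n2657 := rfl
theorem F10674 : act 2 n2657 = n1976 := d15_1 D2657 (iv D1976) F6075 (iv F5978) (iv F7972)
theorem F10675 : act 5 n2657 = n2657 := d22_2 F7973 D2657 (iv D2657)
def n2658 : Q := act 6 n1943
theorem D2658 : act 6 n1943 = n2658 := rfl
theorem F10676 : act 2 n2658 = n1948 := d18_1 D2658 (iv D1948) (iv F7972)
theorem F10677 : act 4 n2658 = n1944 := d27_1 D2658 (iv D1944) D1943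
def n2659 : Q := act 7 n1943
theorem D2659 : act 7 n1943 = n2659 := rfl
theorem F10678 : act 2 n2659 = n1949 := d19_1 D2659 (iv D1949) (iv F7972)
theorem F10679 : act 4 n2659 = n1945 := d28_1 D2659 (iv D1945) D1943
theorem F10680 : act 5 n2659 = n2659 := d31_1 D2659 (iv D2659) F7973
def n2660 : Q := act 7 n1944
theorem D2660 : act 7 n1944 = n2660 := rfl
theorem F10681 : act 2 n2660 = n1950 := d19_1 D2660 (iv D1950) (iv F7974)
theorem F10682 : act 5 n2660 = n2660 := d31_1 D2660 (iv D2660) F7975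
theorem F10683 : act 6 n2660 = n1945 := d33_1 D2660 (iv D1945) D1944
def n2661 : Q := act 3 n1945
theorem D2661 : act 3 n1945 = n2661 := rfl
theorem F10684 : act 2 n2661 = n1988 := d15_1 D2661 (iv D1988) F6124 (iv F5984) (iv F7976)
theorem F10685 : act 5 n2661 = n1946 := d22_2 (iv F7977) D2661 (iv D1946)
def n2662 : Q := act 8 n1945
theorem D2662 : act 8 n1945 = n2662 := rfl
theorem F10686 : act 2 n2662 = n1951 := d20_1 D2662 (iv D1951) (iv F7976)
theorem F10687 : act 5 n2662 = n1947 := d32_1 D2662 (iv D1947) (iv F7977)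
def n2663 : Q := act 4 n1946
theorem D2663 : act 4 n1946 = n2663 := rfl
theorem F10688 : act 2 n2663 = n1990 := d16_1 D2663 (iv D1990) (iv F7978)
theorem F10689 : act 3 n2663 = n2663 := d21_1 D2663 (iv D2663) (iv D1946) F5975 D1946
theorem F10690 : act 6 n2663 = n2663 := d27_2 F7979 D2663 (iv D2663)
def n2664 : Q := act 8 n1946
theorem D2664 : act 8 n1946 = n2664 := rfl
theorem F10691 : act 2 n2664 = n1991 := d20_1 D2664 (iv D1991) (iv F7978)
theorem F10692 : act 3 n2664 = n1947 := d25_1 D2664 (iv D1947) D1946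
theorem F10693 : act 6 n2664 = n2664 := d34_1 D2664 (iv D2664) F7979
def n2665 : Q := act 5 n1948
theorem D2665 : act 5 n1948 = n2665 := rfl
theorem F10694 : act 1 n2665 = n1952 := d11_1 D2665 (iv D1952) (iv F7983)
theorem F10695 : act 3 n2665 = n1978 := d22_1 D2665 (iv D1978) (iv F7984)
def n2666 : Q := act 7 n1948
theorem D2666 : act 7 n1948 = n2666 := rfl
theorem F10698 : act 1 n2666 = n1953 := d13_1 D2666 (iv D1953) (iv F7983)
theorem F10700 : act 4 n2666 = n1950 := d28_1 D2666 (iv D1950) (iv F7985)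
theorem F10701 : act 6 n2666 = n1949 := d33_1 D2666 (iv D1949) D1948
def n2667 : Q := act 8 n1949
theorem D2667 : act 8 n1949 = n2667 := rfl
theorem F10702 : act 1 n2667 = n1954 := d14_1 D2667 (iv D1954) (iv F7986)
def n2668 : Q := act 8 n1950
theorem D2668 : act 8 n1950 = n2668 := rfl
theorem F10709 : act 6 n2668 = n1951 := d34_1 D2668 (iv D1951) (iv F7993)
def n2669 : Q := act 7 n1952
theorem D2669 : act 7 n1952 = n2669 := rfl
def n2671 : Q := act 5 n1956
theorem D2671 : act 5 n1956 = n2671 := rfl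
theorem F10719 : act 0 n2671 = n2671 := d4_1 D2671 (iv D2671) F8013
theorem F10720 : act 1 n2671 = n1957 := d11_1 D2671 (iv D1957) D1956
theorem F10721 : act 2 n2671 = n2671 := d17_1 D2671 (iv D2671) F8014
theorem F10722 : act 8 n2671 = n1972 := d32_2 (iv F8017) D2671 (iv D1972)
def n2672 : Q := act 7 n1956
theorem D2672 : act 7 n1956 = n2672 := rfl
theorem F10723 : act 0 n2672 = n2672 := d6_1 D2672 (iv D2672) F8013
theorem F10724 : act 1 n2672 = n1958 := d13_1 D2672 (iv D1958) D1956
theorem F10725 : act 2 n2672 = n2672 := d19_1 D2672 (iv D2672) F8014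
theorem F10726 : act 4 n2672 = n2672 := d28_1 D2672 (iv D2672) F8015
theorem F10727 : act 6 n2672 = n2167 := d33_1 D2672 (iv D2167) (iv F8016)
theorem F10728 : act 8 n2672 = n2672 := d35_2 (iv F8017) D2672 (iv D2672) F8017 F6061
def n2673 : Q := act 4 n1957
theorem D2673 : act 4 n1957 = n2673 := rfl
theorem F10729 : act 0 n2673 = n1962 := d3_1 D2673 (iv D1962) (iv F8018)
theorem F10730 : act 2 n2673 = n1959 := d16_1 D2673 (iv D1959) (iv F8019)
theorem F10731 : act 5 n2673 = n2673 := d26_2 D1957 D2673 (iv D2673) (iv D1957) F6005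
theorem F10732 : act 8 n2673 = n1973 := d29_2 (iv F8020) D2673 (iv D1973)
def n2674 : Q := act 6 n1957
theorem D2674 : act 6 n1957 = n2674 := rfl
theorem F10733 : act 0 n2674 = n1963 := d5_1 D2674 (iv D1963) (iv F8018)
theorem F10734 : act 2 n2674 = n1960 := d18_1 D2674 (iv D1960) (iv F8019)
theorem F10735 : act 5 n2674 = n2169 := d30_1 D2674 (iv D2169) (iv D1593) (iv F6006) D1957
theorem F10736 : act 8 n2674 = n1974 := d34_2 (iv F8020) D2674 (iv D1974)
def n2675 : Q := act 7 n1957
theorem D2675 : act 7 n1957 = n2675 := rfl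
theorem F10737 : act 0 n2675 = n1964 := d6_1 D2675 (iv D1964) (iv F8018)
theorem F10738 : act 2 n2675 = n1961 := d19_1 D2675 (iv D1961) (iv F8019)
theorem F10739 : act 5 n2675 = n1958 := d31_1 D2675 (iv D1958) D1957
theorem F10740 : act 8 n2675 = n2675 := d35_2 (iv F8020) D2675 (iv D2675) F8020 F6064
def n2676 : Q := act 3 n1958
theorem D2676 : act 3 n1958 = n2676 := rfl
theorem F10741 : act 0 n2676 = n1965 := d2_1 D2676 (iv D1965) (iv F8021)
theorem F10742 : act 2 n2676 = n2676 := d15_1 D2676 (iv D2676) F8022 F6014 (iv F8022)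
theorem F10743 : act 6 n2676 = n2171 := d23_2 (iv F8024) D2676 (iv D2171)
theorem F10744 : act 8 n2676 = n2676 := d25_2 F8025 D2676 (iv D2676)
def n2677 : Q := act 6 n1959
theorem D2677 : act 6 n1959 = n2677 := rfl
theorem F10745 : act 0 n2677 = n1966 := d5_1 D2677 (iv D1966) (iv F8026)
theorem F10746 : act 1 n2677 = n2677 := d12_1 D2677 (iv D2677) F8027
theorem F10747 : act 4 n2677 = n1960 := d27_1 D2677 (iv D1960) D1959
theorem F10748 : act 8 n2677 = n1975 := d34_2 (iv F8029) D2677 (iv D1975)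
def n2678 : Q := act 7 n1959
theorem D2678 : act 7 n1959 = n2678 := rfl
theorem F10749 : act 0 n2678 = n1967 := d6_1 D2678 (iv D1967) (iv F8026)
theorem F10750 : act 1 n2678 = n2678 := d13_1 D2678 (iv D2678) F8027
theorem F10751 : act 4 n2678 = n1961 := d28_1 D2678 (iv D1961) D1959
theorem F10752 : act 5 n2678 = n2678 := d31_1 D2678 (iv D2678) F8028
theorem F10753 : act 8 n2678 = n2678 := d35_2 (iv F8029) D2678 (iv D2678) F8029 F6068
def n2679 : Q := act 7 n1960
theorem D2679 : act 7 n1960 = n2679 := rfl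
theorem F10754 : act 0 n2679 = n1968 := d6_1 D2679 (iv D1968) (iv F8030)
theorem F10755 : act 1 n2679 = n2679 := d13_1 D2679 (iv D2679) F8031
theorem F10756 : act 3 n2679 = n2679 := d24_1 D2679 (iv D2679) F8032 F6021 (iv F8032)
theorem F10757 : act 5 n2679 = n2174 := d31_1 D2679 (iv D2174) (iv F8033)
theorem F10758 : act 6 n2679 = n1961 := d33_1 D2679 (iv D1961) D1960
theorem F10759 : act 8 n2679 = n2679 := d35_2 (iv F8034) D2679 (iv D2679) F8034 F6073
def n2680 : Q := act 3 n1962
theorem D2680 : act 3 n1962 = n2680 := rfl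
theorem F10760 : act 1 n2680 = n2680 := d9_1 D2680 (iv D2680) F8040
theorem F10761 : act 5 n2680 = n2680 := d22_2 F8042 D2680 (iv D2680)
theorem F10762 : act 8 n2680 = n1976 := d25_2 (iv F8043) D2680 (iv D1976)
def n2681 : Q := act 6 n1962
theorem D2681 : act 6 n1962 = n2681 := rfl
theorem F10763 : act 1 n2681 = n2681 := d12_1 D2681 (iv D2681) F8040
theorem F10764 : act 2 n2681 = n1966 := d18_1 D2681 (iv D1966) (iv F8041)
theorem F10765 : act 4 n2681 = n1963 := d27_1 D2681 (iv D1963) D1962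
theorem F10766 : act 8 n2681 = n1977 := d34_2 (iv F8043) D2681 (iv D1977)
def n2682 : Q := act 7 n1962
theorem D2682 : act 7 n1962 = n2682 := rfl
theorem F10767 : act 1 n2682 = n2682 := d13_1 D2682 (iv D2682) F8040
theorem F10768 : act 2 n2682 = n1967 := d19_1 D2682 (iv D1967) (iv F8041)
theorem F10769 : act 4 n2682 = n1964 := d28_1 D2682 (iv D1964) D1962
theorem F10770 : act 5 n2682 = n2682 := d31_1 D2682 (iv D2682) F8042
theorem F10771 : act 8 n2682 = n2682 := d35_2 (iv F8043) D2682 (iv D2682) F8043 F6077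
def n2683 : Q := act 7 n1963
theorem D2683 : act 7 n1963 = n2683 := rfl
theorem F10772 : act 1 n2683 = n2683 := d13_1 D2683 (iv D2683) F8044
theorem F10773 : act 2 n2683 = n1968 := d19_1 D2683 (iv D1968) (iv F8045)
theorem F10774 : act 5 n2683 = n2178 := d31_1 D2683 (iv D2178) (iv F8046)
theorem F10775 : act 6 n2683 = n1964 := d33_1 D2683 (iv D1964) D1963
theorem F10776 : act 8 n2683 = n2683 := d35_2 (iv F8047) D2683 (iv D2683) F8047 F6081
def n2684 : Q := act 3 n1964
theorem D2684 : act 3 n1964 = n2684 := rfl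
theorem F10777 : act 1 n2684 = n2684 := d9_1 D2684 (iv D2684) F8048
theorem F10778 : act 2 n2684 = n2684 := d15_1 D2684 (iv D2684) F8049 F6039 (iv F8049)
theorem F10779 : act 5 n2684 = n1965 := d22_2 (iv F8050) D2684 (iv D1965)
theorem F10780 : act 8 n2684 = n2684 := d25_2 F8051 D2684 (iv D2684)
def n2685 : Q := act 4 n1965
theorem D2685 : act 4 n1965 = n2685 := rfl
theorem F10781 : act 1 n2685 = n2685 := d10_1 D2685 (iv D2685) F8052
theorem F10782 : act 2 n2685 = n2685 := d16_1 D2685 (iv D2685) F8053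
theorem F10783 : act 3 n2685 = n2685 := d21_1 D2685 (iv D2685) (iv D1965) F6028 D1965
theorem F10784 : act 6 n2685 = n2180 := d27_2 (iv F8054) D2685 (iv D2180)
theorem F10785 : act 8 n2685 = n2685 := d29_2 F8055 D2685 (iv D2685)
def n2686 : Q := act 5 n1966
theorem D2686 : act 5 n1966 = n2686 := rfl
theorem F10789 : act 8 n2686 = n1978 := d32_2 (iv F8058) D2686 (iv D1978)
def n2687 : Q := act 7 n1966
theorem D2687 : act 7 n1966 = n2687 := rfl
theorem F10792 : act 6 n2687 = n1967 := d33_1 D2687 (iv D1967) D1966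
def n2688 : Q := act 3 n1967
theorem D2688 : act 3 n1967 = n2688 := rfl
def n2692 : Q := act 4 n1972
theorem D2692 : act 4 n1972 = n2692 := rfl
theorem F10813 : act 0 n2692 = n2692 := d3_1 D2692 (iv D2692) F8082
theorem F10814 : act 1 n2692 = n1973 := d10_1 D2692 (iv D1973) (iv F8083)
theorem F10815 : act 2 n2692 = n2692 := d16_1 D2692 (iv D2692) F8084
theorem F10816 : act 5 n2692 = n2692 := d26_2 D1972 D2692 (iv D2692) (iv D1972) F6059
theorem F10817 : act 7 n2692 = n2692 := d28_2 F8085 D2692 (iv D2692)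
def n2693 : Q := act 6 n1972
theorem D2693 : act 6 n1972 = n2693 := rfl
theorem F10818 : act 0 n2693 = n2693 := d5_1 D2693 (iv D2693) F8082
theorem F10819 : act 1 n2693 = n1974 := d12_1 D2693 (iv D1974) (iv F8083)
theorem F10820 : act 2 n2693 = n2693 := d18_1 D2693 (iv D2693) F8084
theorem F10821 : act 5 n2693 = n2188 := d30_1 D2693 (iv D2188) (iv D1608) (iv F6060) D1972
theorem F10822 : act 7 n2693 = n2693 := d33_2 F8085 D2693 (iv D2693)
def n2694 : Q := act 3 n1973
theorem D2694 : act 3 n1973 = n2694 := rfl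
theorem F10823 : act 0 n2694 = n1976 := d2_1 D2694 (iv D1976) (iv F8086)
theorem F10824 : act 5 n2694 = n2694 := d22_2 F8088 D2694 (iv D2694)
def n2695 : Q := act 6 n1973
theorem D2695 : act 6 n1973 = n2695 := rfl
theorem F10825 : act 0 n2695 = n1977 := d5_1 D2695 (iv D1977) (iv F8086)
theorem F10826 : act 2 n2695 = n1975 := d18_1 D2695 (iv D1975) (iv F8087)
theorem F10827 : act 4 n2695 = n1974 := d27_1 D2695 (iv D1974) D1973
theorem F10828 : act 7 n2695 = n2695 := d33_2 F8089 D2695 (iv D2695)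
def n2696 : Q := act 5 n1975
theorem D2696 : act 5 n1975 = n2696 := rfl
theorem F10829 : act 0 n2696 = n1978 := d4_1 D2696 (iv D1978) (iv F8094)
theorem F10830 : act 1 n2696 = n2696 := d11_1 D2696 (iv D2696) F8095
theorem F10831 : act 4 n2696 = n2191 := d26_1 D2696 (iv D2191) F6680 (iv F6072) (iv F8096)
theorem F10832 : act 6 n2696 = n2696 := d30_2 D1975 D2696 (iv D2696) (iv D1975) F6067
theorem F10833 : act 7 n2696 = n2696 := d31_2 F8097 D2696 (iv D2696)
def n2697 : Q := act 6 n1976
theorem D2697 : act 6 n1976 = n2697 := rfl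
theorem F10834 : act 1 n2697 = n2697 := d12_1 D2697 (iv D2697) F8098
theorem F10835 : act 3 n2697 = n1977 := d23_1 D2697 (iv D1977) D1976
def n2698 : Q := act 7 n1976
theorem D2698 : act 7 n1976 = n2698 := rfl
theorem F10836 : act 1 n2698 = n2698 := d13_1 D2698 (iv D2698) F8098
theorem F10837 : act 3 n2698 = n2698 := d24_1 D2698 (iv D2698) (iv D1976) F6077 D1976
theorem F10838 : act 5 n2698 = n2698 := d31_1 D2698 (iv D2698) F8099
def n2699 : Q := act 5 n1977
theorem D2699 : act 5 n1977 = n2699 := rfl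
theorem F10839 : act 1 n2699 = n2699 := d11_1 D2699 (iv D2699) F8100
theorem F10840 : act 2 n2699 = n1978 := d17_1 D2699 (iv D1978) (iv F8101)
theorem F10841 : act 4 n2699 = n2194 := d26_1 D2699 (iv D2194) F6687 (iv F6080) (iv F8102)
theorem F10842 : act 6 n2699 = n2699 := d30_2 D1977 D2699 (iv D2699) (iv D1977) F6076
theorem F10843 : act 7 n2699 = n2699 := d31_2 F8103 D2699 (iv D2699)
def n2700 : Q := act 6 n1979
theorem D2700 : act 6 n1979 = n2700 := rfl
theorem F10844 : act 0 n2700 = n2700 := d5_1 D2700 (iv D2700) F8108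
theorem F10845 : act 1 n2700 = n1981 := d12_1 D2700 (iv D1981) (iv F8109)
theorem F10846 : act 2 n2700 = n2700 := d18_1 D2700 (iv D2700) F8110
theorem F10847 : act 4 n2700 = n2700 := d27_1 D2700 (iv D2700) F8111
theorem F10848 : act 5 n2700 = n2700 := d30_1 D2700 (iv D2700) (iv D1979) F6093 D1979
theorem F10849 : act 8 n2700 = n2700 := d34_2 F8112 D2700 (iv D2700)
def n2701 : Q := act 7 n1979
theorem D2701 : act 7 n1979 = n2701 := rfl
theorem F10850 : act 0 n2701 = n2701 := d6_1 D2701 (iv D2701) F8108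
theorem F10851 : act 1 n2701 = n1982 := d13_1 D2701 (iv D1982) (iv F8109)
theorem F10852 : act 2 n2701 = n2701 := d19_1 D2701 (iv D2701) F8110
theorem F10853 : act 4 n2701 = n2701 := d28_1 D2701 (iv D2701) F8111
theorem F10854 : act 5 n2701 = n1980 := d31_1 D2701 (iv D1980) D1979
def n2702 : Q := act 3 n1980
theorem D2702 : act 3 n1980 = n2702 := rfl
theorem F10855 : act 0 n2702 = n2702 := d2_1 D2702 (iv D2702) F8113
theorem F10856 : act 1 n2702 = n1983 := d9_1 D2702 (iv D1983) (iv F8114)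
theorem F10857 : act 6 n2702 = n2702 := d23_2 F8117 D2702 (iv D2702)
def n2703 : Q := act 8 n1980
theorem D2703 : act 8 n1980 = n2703 := rfl
theorem F10858 : act 0 n2703 = n2703 := d7_1 D2703 (iv D2703) F8113
theorem F10859 : act 1 n2703 = n1984 := d14_1 D2703 (iv D1984) (iv F8114)
theorem F10860 : act 2 n2703 = n2703 := d20_1 D2703 (iv D2703) F8115
theorem F10861 : act 4 n2703 = n1994 := d29_1 D2703 (iv D1994) (iv F8116)
theorem F10862 : act 6 n2703 = n2703 := d34_1 D2703 (iv D2703) F8117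
theorem F10863 : act 7 n2703 = n2703 := d35_1 D2703 (iv D2703) (iv D1980) F6094 D1980
def n2704 : Q := act 7 n1981
theorem D2704 : act 7 n1981 = n2704 := rfl
theorem F10864 : act 0 n2704 = n1987 := d6_1 D2704 (iv D1987) (iv F8118)
theorem F10865 : act 2 n2704 = n1985 := d19_1 D2704 (iv D1985) (iv F8119)
theorem F10866 : act 4 n2704 = n2704 := d28_1 D2704 (iv D2704) F8120
theorem F10867 : act 5 n2704 = n2704 := d31_1 D2704 (iv D2704) F8121
theorem F10868 : act 6 n2704 = n1982 := d33_1 D2704 (iv D1982) D1981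
def n2705 : Q := act 3 n1982
theorem D2705 : act 3 n1982 = n2705 := rfl
theorem F10869 : act 0 n2705 = n1988 := d2_1 D2705 (iv D1988) (iv F8123)
theorem F10870 : act 5 n2705 = n1983 := d22_2 (iv F8126) D2705 (iv D1983)
def n2706 : Q := act 8 n1982
theorem D2706 : act 8 n1982 = n2706 := rfl
theorem F10871 : act 0 n2706 = n1989 := d7_1 D2706 (iv D1989) (iv F8123)
theorem F10872 : act 2 n2706 = n1986 := d20_1 D2706 (iv D1986) (iv F8124)
theorem F10873 : act 4 n2706 = n2706 := d29_1 D2706 (iv D2706) F8125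
theorem F10874 : act 5 n2706 = n1984 := d32_1 D2706 (iv D1984) (iv F8126)
theorem F10875 : act 7 n2706 = n2706 := d35_1 D2706 (iv D2706) (iv D1982) F6098 D1982
def n2707 : Q := act 4 n1983
theorem D2707 : act 4 n1983 = n2707 := rfl
theorem F10876 : act 0 n2707 = n1990 := d3_1 D2707 (iv D1990) (iv F8127)
theorem F10877 : act 3 n2707 = n1995 := d21_1 D2707 (iv D1995) (iv D1467) (iv F6101) D1983
theorem F10878 : act 6 n2707 = n2707 := d27_2 F8128 D2707 (iv D2707)
def n2708 : Q := act 8 n1983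
theorem D2708 : act 8 n1983 = n2708 := rfl
theorem F10879 : act 0 n2708 = n1991 := d7_1 D2708 (iv D1991) (iv F8127)
theorem F10880 : act 3 n2708 = n1984 := d25_1 D2708 (iv D1984) D1983
theorem F10881 : act 6 n2708 = n2708 := d34_1 D2708 (iv D2708) F8128
def n2709 : Q := act 8 n1985
theorem D2709 : act 8 n1985 = n2709 := rfl
theorem F10882 : act 0 n2709 = n1992 := d7_1 D2709 (iv D1992) (iv F8134)
theorem F10883 : act 1 n2709 = n2709 := d14_1 D2709 (iv D2709) F8135
theorem F10884 : act 4 n2709 = n2709 := d29_1 D2709 (iv D2709) F8136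
theorem F10885 : act 5 n2709 = n2709 := d32_1 D2709 (iv D2709) F8137
theorem F10886 : act 6 n2709 = n1986 := d34_1 D2709 (iv D1986) (iv F8138)
theorem F10887 : act 7 n2709 = n2709 := d35_1 D2709 (iv D2709) (iv D1985) F6108 D1985
def n2710 : Q := act 3 n1987
theorem D2710 : act 3 n1987 = n2710 := rfl
theorem F10888 : act 1 n2710 = n2710 := d9_1 D2710 (iv D2710) F8144
theorem F10889 : act 5 n2710 = n2710 := d22_2 F8147 D2710 (iv D2710)
theorem F10890 : act 6 n2710 = n1988 := d23_2 (iv F8148) D2710 (iv D1988)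
def n2711 : Q := act 8 n1987
theorem D2711 : act 8 n1987 = n2711 := rfl
theorem F10891 : act 1 n2711 = n2711 := d14_1 D2711 (iv D2711) F8144
theorem F10892 : act 2 n2711 = n1992 := d20_1 D2711 (iv D1992) (iv F8145)
theorem F10893 : act 4 n2711 = n2711 := d29_1 D2711 (iv D2711) F8146
theorem F10894 : act 5 n2711 = n2711 := d32_1 D2711 (iv D2711) F8147
theorem F10895 : act 6 n2711 = n1989 := d34_1 D2711 (iv D1989) (iv F8148)
theorem F10896 : act 7 n2711 = n2711 := d35_1 D2711 (iv D2711) (iv D1987) F6122 D1987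
def n2712 : Q := act 4 n1988
theorem D2712 : act 4 n1988 = n2712 := rfl
theorem F10897 : act 1 n2712 = n2712 := d10_1 D2712 (iv D2712) F8149
theorem F10898 : act 3 n2712 = n2712 := d21_1 D2712 (iv D2712) (iv D1988) F6125 D1988
def n2713 : Q := act 8 n1988
theorem D2713 : act 8 n1988 = n2713 := rfl
theorem F10899 : act 1 n2713 = n2713 := d14_1 D2713 (iv D2713) F8149
theorem F10900 : act 3 n2713 = n1989 := d25_1 D2713 (iv D1989) D1988
theorem F10901 : act 5 n2713 = n1991 := d32_1 D2713 (iv D1991) (iv F8150)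
def n2714 : Q := act 5 n1990
theorem D2714 : act 5 n1990 = n2714 := rfl
theorem F10902 : act 1 n2714 = n2714 := d11_1 D2714 (iv D2714) F8156
theorem F10903 : act 3 n2714 = n1997 := d22_1 D2714 (iv D1997) (iv F8157)
def n2715 : Q := act 8 n1990
theorem D2715 : act 8 n1990 = n2715 := rfl
theorem F10904 : act 1 n2715 = n2715 := d14_1 D2715 (iv D2715) F8156
theorem F10905 : act 3 n2715 = n1998 := d25_1 D2715 (iv D1998) (iv F8157)
theorem F10906 : act 4 n2715 = n1991 := d29_1 D2715 (iv D1991) D1990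
theorem F10907 : act 6 n2715 = n2715 := d34_1 D2715 (iv D2715) F8158
def n2716 : Q := act 7 n1991
theorem D2716 : act 7 n1991 = n2716 := rfl
theorem F10908 : act 1 n2716 = n2716 := d13_1 D2716 (iv D2716) F8159
theorem F10909 : act 3 n2716 = n2716 := d24_1 D2716 (iv D2716) F8160 F6133 (iv F8160)
theorem F10910 : act 6 n2716 = n2716 := d33_1 D2716 (iv D2716) F8161
def n2717 : Q := act 2 n1993
theorem D2717 : act 2 n1993 = n2717 := rfl
theorem F10911 : act 0 n2717 = n2717 := d1_1 D2717 (iv D2717) F8167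
theorem F10912 : act 1 n2717 = n2717 := d8_1 D2717 (iv D2717) F8168 F6154 (iv F8168)
theorem F10913 : act 3 n2717 = n2717 := d15_2 D1993 D2717 (iv D2717) (iv D1993) F6150
theorem F10914 : act 5 n2717 = n2717 := d17_2 F8169 D2717 (iv D2717)
theorem F10915 : act 6 n2717 = n2717 := d18_2 F8170 D2717 (iv D2717)
theorem F10916 : act 7 n2717 = n2717 := d19_2 F8171 D2717 (iv D2717)
def n2718 : Q := act 4 n1993
theorem D2718 : act 4 n1993 = n2718 := rfl
theorem F10917 : act 0 n2718 = n2718 := d3_1 D2718 (iv D2718) F8167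
theorem F10918 : act 1 n2718 = n1995 := d10_1 D2718 (iv D1995) (iv F8168)
theorem F10919 : act 6 n2718 = n2718 := d27_2 F8170 D2718 (iv D2718)
theorem F10920 : act 7 n2718 = n2718 := d28_2 F8171 D2718 (iv D2718)
def n2719 : Q := act 8 n1993
theorem D2719 : act 8 n1993 = n2719 := rfl
theorem F10921 : act 0 n2719 = n2719 := d7_1 D2719 (iv D2719) F8167
theorem F10922 : act 1 n2719 = n1996 := d14_1 D2719 (iv D1996) (iv F8168)
theorem F10923 : act 3 n2719 = n1994 := d25_1 D2719 (iv D1994) D1993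
theorem F10924 : act 5 n2719 = n2719 := d32_1 D2719 (iv D2719) F8169
theorem F10925 : act 6 n2719 = n2719 := d34_1 D2719 (iv D2719) F8170
def n2720 : Q := act 5 n1995
theorem D2720 : act 5 n1995 = n2720 := rfl
theorem F10926 : act 0 n2720 = n1997 := d4_1 D2720 (iv D1997) (iv F8178)
theorem F10927 : act 2 n2720 = n2720 := d17_1 D2720 (iv D2720) F8179
theorem F10928 : act 4 n2720 = n2720 := d26_1 D2720 (iv D2720) (iv D1995) F6155 D1995
theorem F10929 : act 7 n2720 = n2720 := d31_2 F8181 D2720 (iv D2720)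
def n2721 : Q := act 8 n1995
theorem D2721 : act 8 n1995 = n2721 := rfl
theorem F10930 : act 0 n2721 = n1998 := d7_1 D2721 (iv D1998) (iv F8178)
theorem F10931 : act 2 n2721 = n2721 := d20_1 D2721 (iv D2721) F8179
theorem F10932 : act 4 n2721 = n1996 := d29_1 D2721 (iv D1996) D1995
theorem F10933 : act 6 n2721 = n2721 := d34_1 D2721 (iv D2721) F8180
def n2722 : Q := act 7 n1996
theorem D2722 : act 7 n1996 = n2722 := rfl
theorem F10934 : act 0 n2722 = n1999 := d6_1 D2722 (iv D1999) (iv F8182)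
theorem F10935 : act 2 n2722 = n2722 := d19_1 D2722 (iv D2722) F8183
theorem F10936 : act 3 n2722 = n2722 := d24_1 D2722 (iv D2722) F8184 F6162 (iv F8184)
theorem F10937 : act 5 n2722 = n2722 := d31_1 D2722 (iv D2722) F8185
theorem F10938 : act 6 n2722 = n2722 := d33_1 D2722 (iv D2722) F8186
theorem F10939 : act 8 n2722 = n2722 := d35_2 D1996 D2722 (iv D2722) (iv D1996) F6157
def n2723 : Q := act 6 n1997
theorem D2723 : act 6 n1997 = n2723 := rfl
theorem F10940 : act 1 n2723 = n2723 := d12_1 D2723 (iv D2723) F8187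
theorem F10941 : act 2 n2723 = n2723 := d18_1 D2723 (iv D2723) F8188
theorem F10942 : act 4 n2723 = n2723 := d27_1 D2723 (iv D2723) F8189
theorem F10943 : act 5 n2723 = n2723 := d30_1 D2723 (iv D2723) (iv D1997) F6165 D1997
theorem F10944 : act 7 n2723 = n2723 := d33_2 F8190 D2723 (iv D2723)
def n2724 : Q := act 8 n1997
theorem D2724 : act 8 n1997 = n2724 := rfl
theorem F10945 : act 1 n2724 = n2724 := d14_1 D2724 (iv D2724) F8187
theorem F10946 : act 2 n2724 = n2724 := d20_1 D2724 (iv D2724) F8188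
theorem F10947 : act 4 n2724 = n2724 := d29_1 D2724 (iv D2724) F8189
theorem F10948 : act 5 n2724 = n1998 := d32_1 D2724 (iv D1998) D1997
def n2725 : Q := act 7 n1998
theorem D2725 : act 7 n1998 = n2725 := rfl
theorem F10949 : act 1 n2725 = n2725 := d13_1 D2725 (iv D2725) F8191
theorem F10950 : act 2 n2725 = n2725 := d19_1 D2725 (iv D2725) F8192
theorem F10951 : act 4 n2725 = n1999 := d28_1 D2725 (iv D1999) (iv F8193)
theorem F10952 : act 6 n2725 = n2725 := d33_1 D2725 (iv D2725) F8194
theorem F10953 : act 8 n2725 = n2725 := d35_2 D1998 D2725 (iv D2725) (iv D1998) F6166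
def n2726 : Q := act 5 n2000
theorem D2726 : act 5 n2000 = n2726 := rfl
theorem F10955 : act 1 n2726 = n2001 := d11_1 D2726 (iv D2001) D2000
theorem F10956 : act 2 n2726 = n2115 := d17_1 D2726 (iv D2115) (iv F8202)
def n2727 : Q := act 7 n2000
theorem D2727 : act 7 n2000 = n2727 := rfl
def n2728 : Q := act 4 n2001
theorem D2728 : act 4 n2001 = n2728 := rfl
theorem F10961 : act 0 n2728 = n2007 := d3_1 D2728 (iv D2007) (iv F8204)
def n2729 : Q := act 6 n2001
theorem D2729 : act 6 n2001 = n2729 := rfl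
def n2730 : Q := act 7 n2001
theorem D2730 : act 7 n2001 = n2730 := rfl
theorem F10968 : act 5 n2730 = n2002 := d31_1 D2730 (iv D2002) D2001
def n2731 : Q := act 3 n2002
theorem D2731 : act 3 n2002 = n2731 := rfl
def n2733 : Q := act 6 n2003
theorem D2733 : act 6 n2003 = n2733 := rfl
theorem F10977 : act 4 n2733 = n2004 := d27_1 D2733 (iv D2004) D2003
def n2737 : Q := act 3 n2007
theorem D2737 : act 3 n2007 = n2737 := rfl
def n2738 : Q := act 6 n2007
theorem D2738 : act 6 n2007 = n2738 := rfl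
def n2739 : Q := act 7 n2007
theorem D2739 : act 7 n2007 = n2739 := rfl
theorem F10997 : act 4 n2739 = n2009 := d28_1 D2739 (iv D2009) D2007
def n2741 : Q := act 3 n2009
theorem D2741 : act 3 n2009 = n2741 := rfl
theorem F11003 : act 5 n2741 = n2010 := d22_2 (iv F8229) D2741 (iv D2010)
def n2743 : Q := act 4 n2010
theorem D2743 : act 4 n2010 = n2743 := rfl
theorem F11009 : act 2 n2743 = n2036 := d16_1 D2743 (iv D2036) (iv F8231)
def n2745 : Q := act 5 n2012
theorem D2745 : act 5 n2012 = n2745 := rfl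
def n2746 : Q := act 7 n2012
theorem D2746 : act 7 n2012 = n2746 := rfl
theorem F11018 : act 6 n2746 = n2013 := d33_1 D2746 (iv D2013) D2012
def n2747 : Q := act 3 n2013
theorem D2747 : act 3 n2013 = n2747 := rfl
theorem F11019 : act 1 n2747 = n2018 := d9_1 D2747 (iv D2018) (iv F8238)
def n2748 : Q := act 8 n2013
theorem D2748 : act 8 n2013 = n2748 := rfl
def n2750 : Q := act 7 n2016
theorem D2750 : act 7 n2016 = n2750 := rfl
theorem F11029 : act 5 n2750 = n2017 := d31_1 D2750 (iv D2017) D2016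
def n2751 : Q := act 3 n2017
theorem D2751 : act 3 n2017 = n2751 := rfl
theorem F11032 : act 6 n2751 = n2018 := d23_2 (iv F8252) D2751 (iv D2018)
def n2752 : Q := act 8 n2017
theorem D2752 : act 8 n2017 = n2752 := rfl
def n2753 : Q := act 2 n2018
theorem D2753 : act 2 n2018 = n2753 := rfl
def n2754 : Q := act 8 n2018
theorem D2754 : act 8 n2018 = n2754 := rfl
theorem F11043 : act 3 n2754 = n2019 := d25_1 D2754 (iv D2019) D2018
def n2778 : Q := act 5 n2036
theorem D2778 : act 5 n2036 = n2778 := rfl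
theorem F11139 : act 1 n2778 = n2058 := d11_1 D2778 (iv D2058) (iv F8324)
def n2827 : Q := act 5 n2073
theorem D2827 : act 5 n2073 = n2827 := rfl
theorem F11327 : act 0 n2827 = n2827 := d4_1 D2827 (iv D2827) F8467
theorem F11328 : act 1 n2827 = n2074 := d11_1 D2827 (iv D2074) D2073
theorem F11329 : act 3 n2827 = n2827 := d22_1 D2827 (iv D2827) F8468
theorem F11330 : act 8 n2827 = n2726 := d32_2 (iv F8470) D2827 (iv D2726)
def n2828 : Q := act 7 n2073
theorem D2828 : act 7 n2073 = n2828 := rfl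
theorem F11331 : act 0 n2828 = n2828 := d6_1 D2828 (iv D2828) F8467
theorem F11332 : act 1 n2828 = n2075 := d13_1 D2828 (iv D2075) D2073
theorem F11333 : act 4 n2828 = n2116 := d28_1 D2828 (iv D2116) (iv F8469)
def n2829 : Q := act 4 n2074
theorem D2829 : act 4 n2074 = n2829 := rfl
theorem F11334 : act 0 n2829 = n2080 := d3_1 D2829 (iv D2080) (iv F8471)
theorem F11335 : act 2 n2829 = n2076 := d16_1 D2829 (iv D2076) (iv F8472)
theorem F11336 : act 5 n2829 = n2117 := d26_2 D2074 D2829 (iv D2117) (iv D1552) (iv F6365)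
theorem F11337 : act 8 n2829 = n2728 := d29_2 (iv F8474) D2829 (iv D2728)
def n2830 : Q := act 6 n2074
theorem D2830 : act 6 n2074 = n2830 := rfl
def n2831 : Q := act 7 n2074
theorem D2831 : act 7 n2074 = n2831 := rfl
theorem F11342 : act 0 n2831 = n2082 := d6_1 D2831 (iv D2082) (iv F8471)
theorem F11343 : act 2 n2831 = n2078 := d19_1 D2831 (iv D2078) (iv F8472)
theorem F11344 : act 5 n2831 = n2075 := d31_1 D2831 (iv D2075) D2074
def n2832 : Q := act 3 n2075
theorem D2832 : act 3 n2075 = n2832 := rfl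
theorem F11345 : act 0 n2832 = n2083 := d2_1 D2832 (iv D2083) (iv F8475)
theorem F11346 : act 2 n2832 = n2832 := d15_1 D2832 (iv D2832) F8476 F6371 (iv F8476)
theorem F11347 : act 4 n2832 = n2832 := d21_2 (iv F8477) D2832 (iv D2832) F8477 F6477
theorem F11348 : act 7 n2832 = n2832 := d24_2 D2075 D2832 (iv D2832) (iv D2075) F6364
def n2833 : Q := act 8 n2075
theorem D2833 : act 8 n2075 = n2833 := rfl
def n2834 : Q := act 6 n2076
theorem D2834 : act 6 n2076 = n2834 := rfl
theorem F11355 : act 4 n2834 = n2077 := d27_1 D2834 (iv D2077) D2076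
theorem F11356 : act 8 n2834 = n2733 := d34_2 (iv F8481) D2834 (iv D2733)
def n2835 : Q := act 7 n2076
theorem D2835 : act 7 n2076 = n2835 := rfl
def n2836 : Q := act 7 n2077
theorem D2836 : act 7 n2077 = n2836 := rfl
theorem F11362 : act 6 n2836 = n2078 := d33_1 D2836 (iv D2078) D2077
def n2837 : Q := act 8 n2078
theorem D2837 : act 8 n2078 = n2837 := rfl
theorem F11363 : act 0 n2837 = n2088 := d7_1 D2837 (iv D2088) (iv F8485)
def n2838 : Q := act 3 n2080
theorem D2838 : act 3 n2080 = n2838 := rfl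
theorem F11367 : act 1 n2838 = n2838 := d9_1 D2838 (iv D2838) F8492
theorem F11368 : act 2 n2838 = n2838 := d15_1 D2838 (iv D2838) F8493 F6386 (iv F8493)
theorem F11369 : act 4 n2838 = n2838 := d21_2 D2080 D2838 (iv D2838) (iv D2080) F6380
theorem F11370 : act 5 n2838 = n2125 := d22_2 (iv F8494) D2838 (iv D2125)
theorem F11371 : act 8 n2838 = n2737 := d25_2 (iv F8495) D2838 (iv D2737)
def n2839 : Q := act 6 n2080
theorem D2839 : act 6 n2080 = n2839 := rfl
theorem F11373 : act 2 n2839 = n2085 := d18_1 D2839 (iv D2085) (iv F8493)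
theorem F11374 : act 4 n2839 = n2081 := d27_1 D2839 (iv D2081) D2080
theorem F11375 : act 8 n2839 = n2738 := d34_2 (iv F8495) D2839 (iv D2738)
def n2840 : Q := act 7 n2080
theorem D2840 : act 7 n2080 = n2840 := rfl
theorem F11377 : act 2 n2840 = n2086 := d19_1 D2840 (iv D2086) (iv F8493)
def n2841 : Q := act 7 n2081
theorem D2841 : act 7 n2081 = n2841 := rfl
theorem F11382 : act 6 n2841 = n2082 := d33_1 D2841 (iv D2082) D2081
def n2842 : Q := act 3 n2082
theorem D2842 : act 3 n2082 = n2842 := rfl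
theorem F11383 : act 1 n2842 = n2842 := d9_1 D2842 (iv D2842) F8500
theorem F11384 : act 2 n2842 = n2842 := d15_1 D2842 (iv D2842) F8501 F6393 (iv F8501)
theorem F11385 : act 5 n2842 = n2083 := d22_2 (iv F8502) D2842 (iv D2083)
theorem F11386 : act 7 n2842 = n2842 := d24_2 D2082 D2842 (iv D2842) (iv D2082) F6380
def n2843 : Q := act 8 n2082
theorem D2843 : act 8 n2082 = n2843 := rfl
def n2844 : Q := act 8 n2083
theorem D2844 : act 8 n2083 = n2844 := rfl
def n2845 : Q := act 5 n2085
theorem D2845 : act 5 n2085 = n2845 := rfl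
theorem F11395 : act 1 n2845 = n2089 := d11_1 D2845 (iv D2089) (iv F8511)
theorem F11398 : act 8 n2845 = n2745 := d32_2 (iv F8514) D2845 (iv D2745)
def n2846 : Q := act 7 n2085
theorem D2846 : act 7 n2085 = n2846 := rfl
theorem F11399 : act 1 n2846 = n2090 := d13_1 D2846 (iv D2090) (iv F8511)
theorem F11401 : act 6 n2846 = n2086 := d33_1 D2846 (iv D2086) D2085
def n2847 : Q := act 3 n2086
theorem D2847 : act 3 n2086 = n2847 := rfl
theorem F11402 : act 1 n2847 = n2091 := d9_1 D2847 (iv D2091) (iv F8515)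
def n2848 : Q := act 8 n2086
theorem D2848 : act 8 n2086 = n2848 := rfl
theorem F11409 : act 7 n2848 = n2748 := d35_1 D2848 (iv D2748) (iv D2013) (iv F6388) D2086
def n2850 : Q := act 7 n2089
theorem D2850 : act 7 n2089 = n2850 := rfl
theorem F11415 : act 5 n2850 = n2090 := d31_1 D2850 (iv D2090) D2089
def n2851 : Q := act 3 n2090
theorem D2851 : act 3 n2090 = n2851 := rfl
theorem F11418 : act 6 n2851 = n2091 := d23_2 (iv F8531) D2851 (iv D2091)
def n2852 : Q := act 8 n2090
theorem D2852 : act 8 n2090 = n2852 := rfl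
theorem F11423 : act 7 n2852 = n2752 := d35_1 D2852 (iv D2752) (iv D2017) (iv F6402) D2090
def n2853 : Q := act 2 n2091
theorem D2853 : act 2 n2091 = n2853 := rfl
def n2854 : Q := act 8 n2091
theorem D2854 : act 8 n2091 = n2854 := rfl
theorem F11428 : act 3 n2854 = n2092 := d25_1 D2854 (iv D2092) D2091
def n2855 : Q := act 5 n2094
theorem D2855 : act 5 n2094 = n2855 := rfl
theorem F11431 : act 0 n2855 = n2855 := d4_1 D2855 (iv D2855) F8543
theorem F11432 : act 1 n2855 = n2095 := d11_1 D2855 (iv D2095) D2094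
theorem F11433 : act 2 n2855 = n2827 := d17_1 D2855 (iv D2827) (iv F8544)
theorem F11434 : act 3 n2855 = n2166 := d22_1 D2855 (iv D2166) (iv F8545)
theorem F11435 : act 8 n2855 = n2115 := d32_2 (iv F8547) D2855 (iv D2115)
def n2856 : Q := act 7 n2094
theorem D2856 : act 7 n2094 = n2856 := rfl
theorem F11436 : act 0 n2856 = n2856 := d6_1 D2856 (iv D2856) F8543
theorem F11437 : act 1 n2856 = n2096 := d13_1 D2856 (iv D2096) D2094
theorem F11438 : act 2 n2856 = n2828 := d19_1 D2856 (iv D2828) (iv F8544)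
theorem F11439 : act 4 n2856 = n2727 := d28_1 D2856 (iv D2727) (iv F8546)
def n2857 : Q := act 4 n2095
theorem D2857 : act 4 n2095 = n2857 := rfl
theorem F11440 : act 0 n2857 = n2101 := d3_1 D2857 (iv D2101) (iv F8548)
theorem F11441 : act 2 n2857 = n2097 := d16_1 D2857 (iv D2097) (iv F8549)
theorem F11442 : act 5 n2857 = n2728 := d26_2 D2095 D2857 (iv D2728) (iv D2001) (iv F6415)
theorem F11443 : act 8 n2857 = n2117 := d29_2 (iv F8551) D2857 (iv D2117)
def n2858 : Q := act 6 n2095
theorem D2858 : act 6 n2095 = n2858 := rfl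
theorem F11444 : act 0 n2858 = n2102 := d5_1 D2858 (iv D2102) (iv F8548)
theorem F11445 : act 2 n2858 = n2098 := d18_1 D2858 (iv D2098) (iv F8549)
theorem F11446 : act 3 n2858 = n2169 := d23_1 D2858 (iv D2169) (iv F8550)
theorem F11447 : act 8 n2858 = n2118 := d34_2 (iv F8551) D2858 (iv D2118)
def n2859 : Q := act 7 n2095
theorem D2859 : act 7 n2095 = n2859 := rfl
theorem F11448 : act 0 n2859 = n2103 := d6_1 D2859 (iv D2103) (iv F8548)
theorem F11449 : act 2 n2859 = n2099 := d19_1 D2859 (iv D2099) (iv F8549)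
def n2860 : Q := act 3 n2096
theorem D2860 : act 3 n2096 = n2860 := rfl
theorem F11451 : act 0 n2860 = n2104 := d2_1 D2860 (iv D2104) (iv F8552)
theorem F11452 : act 2 n2860 = n2860 := d15_1 D2860 (iv D2860) F8553 F6423 (iv F8553)
theorem F11453 : act 7 n2860 = n2171 := d24_2 D2096 D2860 (iv D2171) (iv D1594) (iv F6414)
def n2861 : Q := act 8 n2096
theorem D2861 : act 8 n2096 = n2861 := rfl
theorem F11457 : act 7 n2861 = n2120 := d35_1 D2861 (iv D2120) (iv D1553) (iv F6416) D2096
def n2862 : Q := act 6 n2097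
theorem D2862 : act 6 n2097 = n2862 := rfl
theorem F11458 : act 0 n2862 = n2106 := d5_1 D2862 (iv D2106) (iv F8555)
theorem F11459 : act 1 n2862 = n2834 := d12_1 D2862 (iv D2834) (iv F8556)
theorem F11461 : act 4 n2862 = n2098 := d27_1 D2862 (iv D2098) D2097
def n2863 : Q := act 7 n2097
theorem D2863 : act 7 n2097 = n2863 := rfl
theorem F11465 : act 4 n2863 = n2099 := d28_1 D2863 (iv D2099) D2097
def n2864 : Q := act 7 n2098
theorem D2864 : act 7 n2098 = n2864 := rfl
theorem F11468 : act 1 n2864 = n2836 := d13_1 D2864 (iv D2836) (iv F8561)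
def n2865 : Q := act 8 n2099
theorem D2865 : act 8 n2099 = n2865 := rfl
theorem F11472 : act 1 n2865 = n2837 := d14_1 D2865 (iv D2837) (iv F8565)
def n2866 : Q := act 3 n2101
theorem D2866 : act 3 n2101 = n2866 := rfl
theorem F11478 : act 4 n2866 = n2175 := d21_2 D2101 D2866 (iv D2175) (iv D1598) (iv F6433)
theorem F11479 : act 5 n2866 = n2737 := d22_2 (iv F8575) D2866 (iv D2737)
theorem F11480 : act 8 n2866 = n2125 := d25_2 (iv F8576) D2866 (iv D2125)
def n2867 : Q := act 6 n2101
theorem D2867 : act 6 n2101 = n2867 := rfl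
theorem F11482 : act 2 n2867 = n2106 := d18_1 D2867 (iv D2106) (iv F8574)
theorem F11483 : act 4 n2867 = n2102 := d27_1 D2867 (iv D2102) D2101
def n2869 : Q := act 7 n2102
theorem D2869 : act 7 n2102 = n2869 := rfl
theorem F11490 : act 2 n2869 = n2108 := d19_1 D2869 (iv D2108) (iv F8578)
theorem F11491 : act 6 n2869 = n2103 := d33_1 D2869 (iv D2103) D2102
def n2870 : Q := act 3 n2103
theorem D2870 : act 3 n2103 = n2870 := rfl
theorem F11494 : act 5 n2870 = n2104 := d22_2 (iv F8583) D2870 (iv D2104)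
theorem F11495 : act 7 n2870 = n2179 := d24_2 D2103 D2870 (iv D2179) (iv D1600) (iv F6433)
def n2871 : Q := act 8 n2103
theorem D2871 : act 8 n2103 = n2871 := rfl
theorem F11497 : act 2 n2871 = n2109 := d20_1 D2871 (iv D2109) (iv F8582)
def n2872 : Q := act 4 n2104
theorem D2872 : act 4 n2104 = n2872 := rfl
theorem F11502 : act 3 n2872 = n2743 := d21_1 D2872 (iv D2743) (iv D2010) (iv F6437) D2104
theorem F11503 : act 7 n2872 = n2180 := d28_2 (iv F8586) D2872 (iv D2180)
def n2873 : Q := act 8 n2104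
theorem D2873 : act 8 n2104 = n2873 := rfl
def n2874 : Q := act 5 n2106
theorem D2874 : act 5 n2106 = n2874 := rfl
def n2875 : Q := act 7 n2106
theorem D2875 : act 7 n2106 = n2875 := rfl
theorem F11512 : act 1 n2875 = n2111 := d13_1 D2875 (iv D2111) (iv F8591)
theorem F11513 : act 4 n2875 = n2108 := d28_1 D2875 (iv D2108) (iv F8593)
def n2879 : Q := act 7 n2110
theorem D2879 : act 7 n2110 = n2879 := rfl
theorem F11529 : act 5 n2879 = n2111 := d31_1 D2879 (iv D2111) D2110
def n2880 : Q := act 3 n2111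
theorem D2880 : act 3 n2111 = n2880 := rfl
def n2881 : Q := act 8 n2111
theorem D2881 : act 8 n2111 = n2881 := rfl
def n2882 : Q := act 2 n2112
theorem D2882 : act 2 n2112 = n2882 := rfl
def n2883 : Q := act 8 n2112
theorem D2883 : act 8 n2112 = n2883 := rfl
theorem F11546 : act 3 n2883 = n2113 := d25_1 D2883 (iv D2113) D2112
def n2884 : Q := act 4 n2115
theorem D2884 : act 4 n2115 = n2884 := rfl
theorem F11549 : act 0 n2884 = n2884 := d3_1 D2884 (iv D2884) F8628
theorem F11550 : act 1 n2884 = n2117 := d10_1 D2884 (iv D2117) (iv F8629)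
def n2885 : Q := act 6 n2115
theorem D2885 : act 6 n2115 = n2885 := rfl
theorem F11551 : act 0 n2885 = n2885 := d5_1 D2885 (iv D2885) F8628
theorem F11552 : act 1 n2885 = n2118 := d12_1 D2885 (iv D2118) (iv F8629)
theorem F11553 : act 3 n2885 = n2188 := d23_1 D2885 (iv D2188) (iv F8630)
def n2886 : Q := act 7 n2115
theorem D2886 : act 7 n2115 = n2886 := rfl
theorem F11557 : act 5 n2886 = n2116 := d31_1 D2886 (iv D2116) D2115
def n2887 : Q := act 8 n2116
theorem D2887 : act 8 n2116 = n2887 := rfl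
def n2888 : Q := act 3 n2117
theorem D2888 : act 3 n2117 = n2888 := rfl
theorem F11562 : act 2 n2888 = n2888 := d15_1 D2888 (iv D2888) F8635 F6479 (iv F8635)
theorem F11563 : act 4 n2888 = n2189 := d21_2 D2117 D2888 (iv D2189) (iv D1609) (iv F6474)
def n2889 : Q := act 6 n2117
theorem D2889 : act 6 n2117 = n2889 := rfl
theorem F11565 : act 2 n2889 = n2121 := d18_1 D2889 (iv D2121) (iv F8635)
theorem F11566 : act 4 n2889 = n2118 := d27_1 D2889 (iv D2118) D2117
def n2890 : Q := act 7 n2117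
theorem D2890 : act 7 n2117 = n2890 := rfl
theorem F11568 : act 2 n2890 = n2122 := d19_1 D2890 (iv D2122) (iv F8635)
theorem F11569 : act 4 n2890 = n2119 := d28_1 D2890 (iv D2119) D2117
def n2891 : Q := act 7 n2118
theorem D2891 : act 7 n2118 = n2891 := rfl
def n2893 : Q := act 5 n2121
theorem D2893 : act 5 n2121 = n2893 := rfl
def n2894 : Q := act 7 n2121
theorem D2894 : act 7 n2121 = n2894 := rfl
theorem F11581 : act 4 n2894 = n2123 := d28_1 D2894 (iv D2123) (iv F8648)
def n2898 : Q := act 6 n2125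
theorem D2898 : act 6 n2125 = n2898 := rfl
theorem F11593 : act 3 n2898 = n2126 := d23_1 D2898 (iv D2126) D2125
def n2899 : Q := act 7 n2125
theorem D2899 : act 7 n2125 = n2899 := rfl
theorem F11597 : act 4 n2899 = n2193 := d28_1 D2899 (iv D2193) (iv F8659)
def n2900 : Q := act 5 n2126
theorem D2900 : act 5 n2126 = n2900 := rfl
theorem F11599 : act 2 n2900 = n2130 := d17_1 D2900 (iv D2130) (iv F8661)
def n2901 : Q := act 7 n2126
theorem D2901 : act 7 n2126 = n2901 := rfl
theorem F11601 : act 2 n2901 = n2131 := d19_1 D2901 (iv D2131) (iv F8661)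
theorem F11602 : act 4 n2901 = n2128 := d28_1 D2901 (iv D2128) (iv F8662)
def n2902 : Q := act 3 n2127
theorem D2902 : act 3 n2127 = n2902 := rfl
def n2905 : Q := act 7 n2130
theorem D2905 : act 7 n2130 = n2905 := rfl
theorem F11613 : act 1 n2905 = n2135 := d13_1 D2905 (iv D2135) (iv F8674)
def n2949 : Q := act 4 n2166
theorem D2949 : act 4 n2166 = n2949 := rfl
theorem F11762 : act 0 n2949 = n2949 := d3_1 D2949 (iv D2949) F8795
theorem F11763 : act 1 n2949 = n2168 := d10_1 D2949 (iv D2168) (iv F8796)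
theorem F11764 : act 2 n2949 = n2949 := d16_1 D2949 (iv D2949) F8797
theorem F11765 : act 5 n2949 = n2949 := d26_2 D2166 D2949 (iv D2949) (iv D2166) F6602
theorem F11766 : act 8 n2949 = n2187 := d29_2 (iv F8798) D2949 (iv D2187)
def n2950 : Q := act 6 n2166
theorem D2950 : act 6 n2166 = n2950 := rfl
theorem F11767 : act 0 n2950 = n2950 := d5_1 D2950 (iv D2950) F8795
theorem F11768 : act 1 n2950 = n2169 := d12_1 D2950 (iv D2169) (iv F8796)
theorem F11769 : act 2 n2950 = n2950 := d18_1 D2950 (iv D2950) F8797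
theorem F11770 : act 8 n2950 = n2188 := d34_2 (iv F8798) D2950 (iv D2188)
def n2951 : Q := act 7 n2166
theorem D2951 : act 7 n2166 = n2951 := rfl
theorem F11771 : act 0 n2951 = n2951 := d6_1 D2951 (iv D2951) F8795
theorem F11772 : act 1 n2951 = n2170 := d13_1 D2951 (iv D2170) (iv F8796)
theorem F11773 : act 2 n2951 = n2951 := d19_1 D2951 (iv D2951) F8797
theorem F11774 : act 5 n2951 = n2167 := d31_1 D2951 (iv D2167) D2166
theorem F11775 : act 8 n2951 = n2951 := d35_2 (iv F8798) D2951 (iv D2951) F8798 F6669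
def n2952 : Q := act 3 n2167
theorem D2952 : act 3 n2167 = n2952 := rfl
theorem F11776 : act 0 n2952 = n2952 := d2_1 D2952 (iv D2952) F8799
theorem F11777 : act 1 n2952 = n2171 := d9_1 D2952 (iv D2171) (iv F8800)
theorem F11778 : act 8 n2952 = n2952 := d25_2 F8803 D2952 (iv D2952)
def n2953 : Q := act 3 n2168
theorem D2953 : act 3 n2168 = n2953 := rfl
theorem F11779 : act 0 n2953 = n2175 := d2_1 D2953 (iv D2175) (iv F8804)
theorem F11780 : act 2 n2953 = n2953 := d15_1 D2953 (iv D2953) F8805 F6613 (iv F8805)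
theorem F11781 : act 5 n2953 = n2953 := d22_2 F8806 D2953 (iv D2953)
theorem F11782 : act 8 n2953 = n2189 := d25_2 (iv F8807) D2953 (iv D2189)
def n2954 : Q := act 6 n2168
theorem D2954 : act 6 n2168 = n2954 := rfl
theorem F11783 : act 0 n2954 = n2176 := d5_1 D2954 (iv D2176) (iv F8804)
theorem F11784 : act 2 n2954 = n2172 := d18_1 D2954 (iv D2172) (iv F8805)
theorem F11785 : act 4 n2954 = n2169 := d27_1 D2954 (iv D2169) D2168
theorem F11786 : act 8 n2954 = n2190 := d34_2 (iv F8807) D2954 (iv D2190)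
def n2955 : Q := act 7 n2168
theorem D2955 : act 7 n2168 = n2955 := rfl
theorem F11787 : act 0 n2955 = n2177 := d6_1 D2955 (iv D2177) (iv F8804)
theorem F11788 : act 2 n2955 = n2173 := d19_1 D2955 (iv D2173) (iv F8805)
theorem F11789 : act 4 n2955 = n2170 := d28_1 D2955 (iv D2170) D2168
theorem F11790 : act 5 n2955 = n2955 := d31_1 D2955 (iv D2955) F8806
theorem F11791 : act 8 n2955 = n2955 := d35_2 (iv F8807) D2955 (iv D2955) F8807 F6673
def n2956 : Q := act 7 n2169
theorem D2956 : act 7 n2169 = n2956 := rfl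
theorem F11792 : act 0 n2956 = n2178 := d6_1 D2956 (iv D2178) (iv F8808)
theorem F11793 : act 2 n2956 = n2174 := d19_1 D2956 (iv D2174) (iv F8809)
theorem F11794 : act 6 n2956 = n2170 := d33_1 D2956 (iv D2170) D2169
theorem F11795 : act 8 n2956 = n2956 := d35_2 (iv F8810) D2956 (iv D2956) F8810 F6676
def n2957 : Q := act 3 n2170
theorem D2957 : act 3 n2170 = n2957 := rfl
theorem F11796 : act 0 n2957 = n2179 := d2_1 D2957 (iv D2179) (iv F8811)
theorem F11797 : act 2 n2957 = n2957 := d15_1 D2957 (iv D2957) F8812 F6622 (iv F8812)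
theorem F11798 : act 5 n2957 = n2171 := d22_2 (iv F8813) D2957 (iv D2171)
theorem F11799 : act 8 n2957 = n2957 := d25_2 F8814 D2957 (iv D2957)
def n2958 : Q := act 4 n2171
theorem D2958 : act 4 n2171 = n2958 := rfl
theorem F11800 : act 0 n2958 = n2180 := d3_1 D2958 (iv D2180) (iv F8815)
theorem F11801 : act 2 n2958 = n2958 := d16_1 D2958 (iv D2958) F8816
theorem F11802 : act 3 n2958 = n2958 := d21_1 D2958 (iv D2958) (iv D2171) F6609 D2171
theorem F11803 : act 8 n2958 = n2958 := d29_2 F8817 D2958 (iv D2958)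
def n2959 : Q := act 5 n2172
theorem D2959 : act 5 n2172 = n2959 := rfl
theorem F11804 : act 0 n2959 = n2181 := d4_1 D2959 (iv D2181) (iv F8818)
theorem F11805 : act 1 n2959 = n2959 := d11_1 D2959 (iv D2959) F8819
theorem F11806 : act 3 n2959 = n2959 := d22_1 D2959 (iv D2959) F8820
theorem F11807 : act 6 n2959 = n2959 := d30_2 D2172 D2959 (iv D2959) (iv D2172) F6614
theorem F11808 : act 8 n2959 = n2191 := d32_2 (iv F8822) D2959 (iv D2191)
def n2960 : Q := act 7 n2172
theorem D2960 : act 7 n2172 = n2960 := rfl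
theorem F11809 : act 0 n2960 = n2182 := d6_1 D2960 (iv D2182) (iv F8818)
theorem F11810 : act 1 n2960 = n2960 := d13_1 D2960 (iv D2960) F8819
theorem F11811 : act 4 n2960 = n2174 := d28_1 D2960 (iv D2174) (iv F8821)
theorem F11812 : act 6 n2960 = n2173 := d33_1 D2960 (iv D2173) D2172
theorem F11813 : act 8 n2960 = n2960 := d35_2 (iv F8822) D2960 (iv D2960) F8822 F6681
def n2961 : Q := act 3 n2173
theorem D2961 : act 3 n2173 = n2961 := rfl
theorem F11814 : act 0 n2961 = n2183 := d2_1 D2961 (iv D2183) (iv F8823)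
theorem F11815 : act 1 n2961 = n2961 := d9_1 D2961 (iv D2961) F8824
theorem F11816 : act 4 n2961 = n2961 := d21_2 (iv F8825) D2961 (iv D2961) F8825 F6622
theorem F11817 : act 5 n2961 = n2961 := d22_2 F8826 D2961 (iv D2961)
theorem F11818 : act 7 n2961 = n2961 := d24_2 D2173 D2961 (iv D2961) (iv D2173) F6613
theorem F11819 : act 8 n2961 = n2961 := d25_2 F8827 D2961 (iv D2961)
def n2962 : Q := act 6 n2175
theorem D2962 : act 6 n2175 = n2962 := rfl
theorem F11820 : act 1 n2962 = n2962 := d12_1 D2962 (iv D2962) F8833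
theorem F11821 : act 2 n2962 = n2962 := d18_1 D2962 (iv D2962) F8834
theorem F11822 : act 3 n2962 = n2176 := d23_1 D2962 (iv D2176) D2175
theorem F11823 : act 8 n2962 = n2192 := d34_2 (iv F8836) D2962 (iv D2192)
def n2963 : Q := act 7 n2175
theorem D2963 : act 7 n2175 = n2963 := rfl
def n2964 : Q := act 5 n2176
theorem D2964 : act 5 n2176 = n2964 := rfl
theorem F11827 : act 1 n2964 = n2964 := d11_1 D2964 (iv D2964) F8837
theorem F11828 : act 2 n2964 = n2181 := d17_1 D2964 (iv D2181) (iv F8838)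
theorem F11829 : act 6 n2964 = n2964 := d30_2 D2176 D2964 (iv D2964) (iv D2176) F6627
theorem F11830 : act 8 n2964 = n2194 := d32_2 (iv F8840) D2964 (iv D2194)
def n2965 : Q := act 7 n2176
theorem D2965 : act 7 n2176 = n2965 := rfl
theorem F11831 : act 1 n2965 = n2965 := d13_1 D2965 (iv D2965) F8837
theorem F11832 : act 2 n2965 = n2182 := d19_1 D2965 (iv D2182) (iv F8838)
theorem F11833 : act 4 n2965 = n2178 := d28_1 D2965 (iv D2178) (iv F8839)
theorem F11834 : act 6 n2965 = n2177 := d33_1 D2965 (iv D2177) D2176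
theorem F11835 : act 8 n2965 = n2965 := d35_2 (iv F8840) D2965 (iv D2965) F8840 F6688
def n2966 : Q := act 3 n2177
theorem D2966 : act 3 n2177 = n2966 := rfl
def n2967 : Q := act 3 n2178
theorem D2967 : act 3 n2178 = n2967 := rfl
theorem F11839 : act 1 n2967 = n2967 := d9_1 D2967 (iv D2967) F8846
theorem F11840 : act 2 n2967 = n2967 := d15_1 D2967 (iv D2967) F8847 F6648 (iv F8847)
theorem F11841 : act 6 n2967 = n2179 := d23_2 (iv F8848) D2967 (iv D2179)
theorem F11842 : act 8 n2967 = n2967 := d25_2 F8849 D2967 (iv D2967)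
def n2968 : Q := act 4 n2179
theorem D2968 : act 4 n2179 = n2968 := rfl
def n2969 : Q := act 5 n2180
theorem D2969 : act 5 n2180 = n2969 := rfl
def n2970 : Q := act 7 n2181
theorem D2970 : act 7 n2181 = n2970 := rfl
def n2971 : Q := act 3 n2182
theorem D2971 : act 3 n2182 = n2971 := rfl
def n2972 : Q := act 2 n2183
theorem D2972 : act 2 n2183 = n2972 := rfl
def n2976 : Q := act 3 n2187
theorem D2976 : act 3 n2187 = n2976 := rfl
theorem F11879 : act 0 n2976 = n2976 := d2_1 D2976 (iv D2976) F8887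
theorem F11880 : act 1 n2976 = n2189 := d9_1 D2976 (iv D2189) (iv F8888)
theorem F11881 : act 5 n2976 = n2976 := d22_2 F8890 D2976 (iv D2976)
def n2977 : Q := act 6 n2187
theorem D2977 : act 6 n2187 = n2977 := rfl
theorem F11882 : act 0 n2977 = n2977 := d5_1 D2977 (iv D2977) F8887
theorem F11883 : act 1 n2977 = n2190 := d12_1 D2977 (iv D2190) (iv F8888)
theorem F11884 : act 2 n2977 = n2977 := d18_1 D2977 (iv D2977) F8889
theorem F11885 : act 4 n2977 = n2188 := d27_1 D2977 (iv D2188) D2187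
theorem F11886 : act 7 n2977 = n2977 := d33_2 F8891 D2977 (iv D2977)
def n2978 : Q := act 6 n2189
theorem D2978 : act 6 n2189 = n2978 := rfl
theorem F11887 : act 0 n2978 = n2192 := d5_1 D2978 (iv D2192) (iv F8896)
theorem F11888 : act 2 n2978 = n2978 := d18_1 D2978 (iv D2978) F8897
theorem F11889 : act 3 n2978 = n2190 := d23_1 D2978 (iv D2190) D2189
def n2979 : Q := act 7 n2189
theorem D2979 : act 7 n2189 = n2979 := rfl
def n2980 : Q := act 5 n2190
theorem D2980 : act 5 n2190 = n2980 := rfl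
theorem F11894 : act 0 n2980 = n2194 := d4_1 D2980 (iv D2194) (iv F8899)
theorem F11895 : act 2 n2980 = n2191 := d17_1 D2980 (iv D2191) (iv F8900)
theorem F11896 : act 6 n2980 = n2980 := d30_2 D2190 D2980 (iv D2980) (iv D2190) F6672
theorem F11897 : act 7 n2980 = n2980 := d31_2 F8902 D2980 (iv D2980)
def n2981 : Q := act 5 n2192
theorem D2981 : act 5 n2192 = n2981 := rfl
theorem F11898 : act 1 n2981 = n2981 := d11_1 D2981 (iv D2981) F8908
theorem F11899 : act 2 n2981 = n2981 := d17_1 D2981 (iv D2981) F8909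
theorem F11900 : act 3 n2981 = n2194 := d22_1 D2981 (iv D2194) (iv F8910)
theorem F11901 : act 6 n2981 = n2981 := d30_2 D2192 D2981 (iv D2981) (iv D2192) F6684
def n2982 : Q := act 7 n2192
theorem D2982 : act 7 n2192 = n2982 := rfl
theorem F11905 : act 6 n2982 = n2193 := d33_1 D2982 (iv D2193) D2192
def n3044 : Q := act 2 n2240
theorem D3044 : act 2 n2240 = n3044 := rfl
theorem F12165 : act 0 n3044 = n2242 := d1_1 D3044 (iv D2242) (iv F9115)
theorem F12166 : act 3 n3044 = n3044 := d15_2 D2240 D3044 (iv D3044) (iv D2240) F6848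
theorem F12167 : act 6 n3044 = n3044 := d18_2 F9117 D3044 (iv D3044)
def n3045 : Q := act 5 n2240
theorem D3045 : act 5 n2240 = n3045 := rfl
theorem F12168 : act 0 n3045 = n2243 := d4_1 D3045 (iv D2243) (iv F9115)
theorem F12169 : act 1 n3045 = n2426 := d11_1 D3045 (iv D2426) (iv F9116)
theorem F12170 : act 3 n3045 = n2241 := d22_1 D3045 (iv D2241) D2240
def n3046 : Q := act 7 n2240
theorem D3046 : act 7 n2240 = n3046 := rfl
theorem F12171 : act 0 n3046 = n2244 := d6_1 D3046 (iv D2244) (iv F9115)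
theorem F12172 : act 1 n3046 = n2427 := d13_1 D3046 (iv D2427) (iv F9116)
theorem F12173 : act 3 n3046 = n3046 := d24_1 D3046 (iv D3046) (iv D2240) F6850 D2240
theorem F12174 : act 6 n3046 = n3046 := d33_1 D3046 (iv D3046) F9117
def n3047 : Q := act 6 n2241
theorem D3047 : act 6 n2241 = n3047 := rfl
theorem F12176 : act 1 n3047 = n2428 := d12_1 D3047 (iv D2428) (iv F9119)
def n3048 : Q := act 5 n2242
theorem D3048 : act 5 n2242 = n3048 := rfl
theorem F12181 : act 1 n3048 = n2254 := d11_1 D3048 (iv D2254) (iv F9123)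
theorem F12182 : act 2 n3048 = n2243 := d17_1 D3048 (iv D2243) D2242
theorem F12183 : act 3 n3048 = n3048 := d22_1 D3048 (iv D3048) F9124
def n3049 : Q := act 7 n2242
theorem D3049 : act 7 n2242 = n3049 := rfl
theorem F12184 : act 1 n3049 = n2255 := d13_1 D3049 (iv D2255) (iv F9123)
theorem F12185 : act 2 n3049 = n2244 := d19_1 D3049 (iv D2244) D2242
theorem F12186 : act 6 n3049 = n3049 := d33_1 D3049 (iv D3049) F9125
def n3050 : Q := act 4 n2243
theorem D3050 : act 4 n2243 = n3050 := rfl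
theorem F12187 : act 1 n3050 = n2246 := d10_1 D3050 (iv D2246) (iv F9126)
theorem F12188 : act 3 n3050 = n3050 := d21_1 D3050 (iv D3050) F9127 F6855 (iv F9127)
def n3051 : Q := act 6 n2243
theorem D3051 : act 6 n2243 = n3051 := rfl
theorem F12190 : act 3 n3051 = n2245 := d23_1 D3051 (iv D2245) (iv F9127)
def n3052 : Q := act 7 n2243
theorem D3052 : act 7 n2243 = n3052 := rfl
theorem F12192 : act 1 n3052 = n2248 := d13_1 D3052 (iv D2248) (iv F9126)
theorem F12193 : act 3 n3052 = n3052 := d24_1 D3052 (iv D3052) F9127 F6856 (iv F9127)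
theorem F12194 : act 5 n3052 = n2244 := d31_1 D3052 (iv D2244) D2243
def n3053 : Q := act 8 n2244
theorem D3053 : act 8 n2244 = n3053 := rfl
theorem F12195 : act 1 n3053 = n2249 := d14_1 D3053 (iv D2249) (iv F9128)
theorem F12196 : act 3 n3053 = n3053 := d25_1 D3053 (iv D3053) F9129
theorem F12197 : act 6 n3053 = n3053 := d34_1 D3053 (iv D3053) F9130
def n3054 : Q := act 6 n2246
theorem D3054 : act 6 n2246 = n3054 := rfl
theorem F12198 : act 0 n3054 = n2435 := d5_1 D3054 (iv D2435) (iv F9136)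
theorem F12201 : act 4 n3054 = n2247 := d27_1 D3054 (iv D2247) D2246
def n3055 : Q := act 7 n2246
theorem D3055 : act 7 n2246 = n3055 := rfl
theorem F12202 : act 0 n3055 = n2436 := d6_1 D3055 (iv D2436) (iv F9136)
theorem F12203 : act 2 n3055 = n2261 := d19_1 D3055 (iv D2261) (iv F9137)
theorem F12204 : act 4 n3055 = n2248 := d28_1 D3055 (iv D2248) D2246
def n3056 : Q := act 7 n2247
theorem D3056 : act 7 n2247 = n3056 := rfl
theorem F12205 : act 0 n3056 = n2437 := d6_1 D3056 (iv D2437) (iv F9139)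
def n3057 : Q := act 8 n2248
theorem D3057 : act 8 n2248 = n3057 := rfl
theorem F12210 : act 0 n3057 = n2438 := d7_1 D3057 (iv D2438) (iv F9143)
theorem F12211 : act 2 n3057 = n2263 := d20_1 D3057 (iv D2263) (iv F9144)
theorem F12212 : act 3 n3057 = n3057 := d25_1 D3057 (iv D3057) F9145
theorem F12213 : act 5 n3057 = n2249 := d32_1 D3057 (iv D2249) (iv F9146)
def n3058 : Q := act 1 n2250
theorem D3058 : act 1 n2250 = n3058 := rfl
theorem F12214 : act 2 n3058 = n2453 := d8_2 D2250 D3058 (iv D2453) (iv D1797) (iv F6870)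
theorem F12215 : act 3 n3058 = n3058 := d9_2 F9152 D3058 (iv D3058)
theorem F12216 : act 6 n3058 = n3058 := d12_2 F9153 D3058 (iv D3058)
def n3059 : Q := act 5 n2250
theorem D3059 : act 5 n2250 = n3059 := rfl
theorem F12217 : act 0 n3059 = n2254 := d4_1 D3059 (iv D2254) (iv F9151)
theorem F12218 : act 2 n3059 = n2251 := d17_1 D3059 (iv D2251) D2250
theorem F12219 : act 3 n3059 = n3059 := d22_1 D3059 (iv D3059) F9152
def n3060 : Q := act 7 n2250
theorem D3060 : act 7 n2250 = n3060 := rfl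
theorem F12220 : act 0 n3060 = n2255 := d6_1 D3060 (iv D2255) (iv F9151)
theorem F12221 : act 2 n3060 = n2252 := d19_1 D3060 (iv D2252) D2250
theorem F12222 : act 6 n3060 = n3060 := d33_1 D3060 (iv D3060) F9153
def n3061 : Q := act 4 n2251
theorem D3061 : act 4 n2251 = n3061 := rfl
theorem F12223 : act 0 n3061 = n2256 := d3_1 D3061 (iv D2256) (iv F9154)
theorem F12224 : act 1 n3061 = n2456 := d10_1 D3061 (iv D2456) (iv F9155)
theorem F12225 : act 3 n3061 = n2267 := d21_1 D3061 (iv D2267) F6905 (iv F6875) (iv F9156)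
def n3062 : Q := act 6 n2251
theorem D3062 : act 6 n2251 = n3062 := rfl
theorem F12227 : act 1 n3062 = n2457 := d12_1 D3062 (iv D2457) (iv F9155)
theorem F12228 : act 3 n3062 = n2253 := d23_1 D3062 (iv D2253) (iv F9156)
def n3063 : Q := act 7 n2251
theorem D3063 : act 7 n2251 = n3063 := rfl
theorem F12230 : act 0 n3063 = n2258 := d6_1 D3063 (iv D2258) (iv F9154)
theorem F12231 : act 1 n3063 = n2458 := d13_1 D3063 (iv D2458) (iv F9155)
theorem F12232 : act 3 n3063 = n2290 := d24_1 D3063 (iv D2290) F6953 (iv F6876) (iv F9156)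
theorem F12233 : act 5 n3063 = n2252 := d31_1 D3063 (iv D2252) D2251
def n3064 : Q := act 8 n2252
theorem D3064 : act 8 n2252 = n3064 := rfl
theorem F12234 : act 0 n3064 = n2259 := d7_1 D3064 (iv D2259) (iv F9157)
theorem F12235 : act 1 n3064 = n2459 := d14_1 D3064 (iv D2459) (iv F9158)
theorem F12236 : act 3 n3064 = n2291 := d25_1 D3064 (iv D2291) (iv F9159)
theorem F12237 : act 6 n3064 = n3064 := d34_1 D3064 (iv D3064) F9160
def n3065 : Q := act 4 n2254
theorem D3065 : act 4 n2254 = n3065 := rfl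
theorem F12238 : act 2 n3065 = n2256 := d16_1 D3065 (iv D2256) (iv F9167)
def n3066 : Q := act 6 n2254
theorem D3066 : act 6 n2254 = n3066 := rfl
def n3067 : Q := act 7 n2254
theorem D3067 : act 7 n2254 = n3067 := rfl
theorem F12242 : act 2 n3067 = n2258 := d19_1 D3067 (iv D2258) (iv F9167)
theorem F12243 : act 5 n3067 = n2255 := d31_1 D3067 (iv D2255) D2254
def n3068 : Q := act 3 n2255
theorem D3068 : act 3 n2255 = n3068 := rfl
theorem F12244 : act 2 n3068 = n2295 := d15_1 D3068 (iv D2295) F6970 (iv F6882) (iv F9169)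
theorem F12245 : act 6 n3068 = n3068 := d23_2 F9170 D3068 (iv D3068)
theorem F12246 : act 7 n3068 = n3068 := d24_2 D2255 D3068 (iv D3068) (iv D2255) F6877
def n3069 : Q := act 8 n2255
theorem D3069 : act 8 n2255 = n3069 := rfl
theorem F12247 : act 2 n3069 = n2259 := d20_1 D3069 (iv D2259) (iv F9169)
theorem F12248 : act 6 n3069 = n3069 := d34_1 D3069 (iv D3069) F9170
def n3070 : Q := act 6 n2256
theorem D3070 : act 6 n2256 = n3070 := rfl
theorem F12251 : act 4 n3070 = n2257 := d27_1 D3070 (iv D2257) D2256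
def n3071 : Q := act 7 n2256
theorem D3071 : act 7 n2256 = n3071 := rfl
theorem F12252 : act 1 n3071 = n2261 := d13_1 D3071 (iv D2261) (iv F9171)
theorem F12253 : act 4 n3071 = n2258 := d28_1 D3071 (iv D2258) D2256
def n3072 : Q := act 7 n2257
theorem D3072 : act 7 n2257 = n3072 := rfl
def n3073 : Q := act 8 n2258
theorem D3073 : act 8 n2258 = n3073 := rfl
theorem F12258 : act 1 n3073 = n2263 := d14_1 D3073 (iv D2263) (iv F9176)
theorem F12259 : act 3 n3073 = n2300 := d25_1 D3073 (iv D2300) (iv F9177)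
theorem F12260 : act 5 n3073 = n2259 := d32_1 D3073 (iv D2259) (iv F9178)
def n3074 : Q := act 5 n2260
theorem D3074 : act 5 n2260 = n3074 := rfl
theorem F12261 : act 0 n3074 = n2469 := d4_1 D3074 (iv D2469) (iv F9182)
def n3075 : Q := act 7 n2260
theorem D3075 : act 7 n2260 = n3075 := rfl
theorem F12264 : act 0 n3075 = n2470 := d6_1 D3075 (iv D2470) (iv F9182)
def n3076 : Q := act 3 n2261
theorem D3076 : act 3 n2261 = n3076 := rfl
theorem F12269 : act 7 n3076 = n2282 := d24_2 D2261 D3076 (iv D2282) (iv D1676) (iv F6890)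
def n3077 : Q := act 8 n2261
theorem D3077 : act 8 n2261 = n3077 := rfl
theorem F12270 : act 0 n3077 = n2472 := d7_1 D3077 (iv D2472) (iv F9185)
theorem F12271 : act 4 n3077 = n2263 := d29_1 D3077 (iv D2263) (iv F9186)
def n3078 : Q := act 8 n2262
theorem D3078 : act 8 n2262 = n3078 := rfl
theorem F12272 : act 0 n3078 = n2473 := d7_1 D3078 (iv D2473) (iv F9187)
def n3079 : Q := act 5 n2264
theorem D3079 : act 5 n2264 = n3079 := rfl
theorem F12276 : act 0 n3079 = n3079 := d4_1 D3079 (iv D3079) F9194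
theorem F12277 : act 1 n3079 = n2265 := d11_1 D3079 (iv D2265) D2264
theorem F12278 : act 2 n3079 = n2495 := d17_1 D3079 (iv D2495) (iv F9195)
theorem F12279 : act 3 n3079 = n3079 := d22_1 D3079 (iv D3079) F9196
def n3080 : Q := act 7 n2264
theorem D3080 : act 7 n2264 = n3080 := rfl
def n3081 : Q := act 4 n2265
theorem D3081 : act 4 n2265 = n3081 := rfl
theorem F12284 : act 0 n3081 = n2271 := d3_1 D3081 (iv D2271) (iv F9198)
theorem F12285 : act 2 n3081 = n2267 := d16_1 D3081 (iv D2267) (iv F9199)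
def n3082 : Q := act 6 n2265
theorem D3082 : act 6 n2265 = n3082 := rfl
theorem F12289 : act 5 n3082 = n2729 := d30_1 D3082 (iv D2729) (iv D2001) (iv F6902) D2265
def n3083 : Q := act 7 n2265
theorem D3083 : act 7 n2265 = n3083 := rfl
theorem F12292 : act 5 n3083 = n2266 := d31_1 D3083 (iv D2266) D2265
def n3085 : Q := act 8 n2266
theorem D3085 : act 8 n2266 = n3085 := rfl
def n3086 : Q := act 6 n2267
theorem D3086 : act 6 n2267 = n3086 := rfl
theorem F12301 : act 1 n3086 = n2501 := d12_1 D3086 (iv D2501) (iv F9205)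
theorem F12302 : act 4 n3086 = n2268 := d27_1 D3086 (iv D2268) D2267
def n3087 : Q := act 7 n2267
theorem D3087 : act 7 n2267 = n3087 := rfl
def n3089 : Q := act 8 n2269
theorem D3089 : act 8 n2269 = n3089 := rfl
theorem F12311 : act 0 n3089 = n2279 := d7_1 D3089 (iv D2279) (iv F9210)
def n3090 : Q := act 3 n2271
theorem D3090 : act 3 n2271 = n3090 := rfl
theorem F12315 : act 1 n3090 = n3090 := d9_1 D3090 (iv D3090) F9218
theorem F12316 : act 4 n3090 = n3090 := d21_2 D2271 D3090 (iv D3090) (iv D2271) F6917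
def n3091 : Q := act 6 n2271
theorem D3091 : act 6 n2271 = n3091 := rfl
def n3092 : Q := act 7 n2271
theorem D3092 : act 7 n2271 = n3092 := rfl
def n3095 : Q := act 8 n2273
theorem D3095 : act 8 n2273 = n3095 := rfl
theorem F12333 : act 5 n3095 = n2275 := d32_1 D3095 (iv D2275) (iv F9226)
def n3098 : Q := act 5 n2276
theorem D3098 : act 5 n2276 = n3098 := rfl
def n3100 : Q := act 3 n2277
theorem D3100 : act 3 n2277 = n3100 := rfl
def n3106 : Q := act 2 n2282
theorem D3106 : act 2 n2282 = n3106 := rfl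
def n3108 : Q := act 5 n2285
theorem D3108 : act 5 n2285 = n3108 := rfl
theorem F12372 : act 0 n3108 = n3108 := d4_1 D3108 (iv D3108) F9262
theorem F12373 : act 1 n3108 = n2286 := d11_1 D3108 (iv D2286) D2285
theorem F12374 : act 2 n3108 = n2520 := d17_1 D3108 (iv D2520) (iv F9263)
theorem F12375 : act 3 n3108 = n3108 := d22_1 D3108 (iv D3108) F9264
theorem F12376 : act 8 n3108 = n3108 := d32_2 F9267 D3108 (iv D3108)
def n3109 : Q := act 7 n2285
theorem D3109 : act 7 n2285 = n3109 := rfl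
theorem F12377 : act 0 n3109 = n3109 := d6_1 D3109 (iv D3109) F9262
theorem F12378 : act 1 n3109 = n2287 := d13_1 D3109 (iv D2287) D2285
theorem F12379 : act 2 n3109 = n2521 := d19_1 D3109 (iv D2521) (iv F9263)
theorem F12380 : act 4 n3109 = n3109 := d28_1 D3109 (iv D3109) F9265
theorem F12381 : act 6 n3109 = n3109 := d33_1 D3109 (iv D3109) F9266
def n3111 : Q := act 6 n2286
theorem D3111 : act 6 n2286 = n3111 := rfl
theorem F12387 : act 2 n3111 = n2289 := d18_1 D3111 (iv D2289) (iv F9269)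
def n3112 : Q := act 7 n2286
theorem D3112 : act 7 n2286 = n3112 := rfl
theorem F12391 : act 0 n3112 = n2294 := d6_1 D3112 (iv D2294) (iv F9268)
theorem F12392 : act 2 n3112 = n2290 := d19_1 D3112 (iv D2290) (iv F9269)
theorem F12393 : act 5 n3112 = n2287 := d31_1 D3112 (iv D2287) D2286
def n3113 : Q := act 3 n2287
theorem D3113 : act 3 n2287 = n3113 := rfl
theorem F12394 : act 0 n3113 = n2295 := d2_1 D3113 (iv D2295) (iv F9272)
theorem F12395 : act 6 n3113 = n3113 := d23_2 F9275 D3113 (iv D3113)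
theorem F12396 : act 7 n3113 = n3113 := d24_2 D2287 D3113 (iv D3113) (iv D2287) F6947
def n3114 : Q := act 8 n2287
theorem D3114 : act 8 n2287 = n3114 := rfl
theorem F12397 : act 0 n3114 = n2296 := d7_1 D3114 (iv D2296) (iv F9272)
theorem F12398 : act 2 n3114 = n2291 := d20_1 D3114 (iv D2291) (iv F9273)
theorem F12399 : act 4 n3114 = n3114 := d29_1 D3114 (iv D3114) F9274
theorem F12400 : act 6 n3114 = n3114 := d34_1 D3114 (iv D3114) F9275
theorem F12401 : act 7 n3114 = n3114 := d35_1 D3114 (iv D3114) (iv D2287) F6950 D2287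
def n3117 : Q := act 7 n2289
theorem D3117 : act 7 n2289 = n3117 := rfl
theorem F12412 : act 1 n3117 = n2529 := d13_1 D3117 (iv D2529) (iv F9282)
def n3118 : Q := act 8 n2290
theorem D3118 : act 8 n2290 = n3118 := rfl
theorem F12415 : act 0 n3118 = n2300 := d7_1 D3118 (iv D2300) (iv F9286)
theorem F12416 : act 1 n3118 = n2530 := d14_1 D3118 (iv D2530) (iv F9287)
theorem F12417 : act 5 n3118 = n2291 := d32_1 D3118 (iv D2291) (iv F9288)
theorem F12418 : act 7 n3118 = n3118 := d35_1 D3118 (iv D3118) (iv D2290) F6954 D2290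
def n3123 : Q := act 3 n2294
theorem D3123 : act 3 n2294 = n3123 := rfl
theorem F12436 : act 1 n3123 = n3123 := d9_1 D3123 (iv D3123) F9303
theorem F12437 : act 5 n3123 = n2295 := d22_2 (iv F9305) D3123 (iv D2295)
theorem F12438 : act 7 n3123 = n3123 := d24_2 D2294 D3123 (iv D3123) (iv D2294) F6967
def n3124 : Q := act 8 n2294
theorem D3124 : act 8 n2294 = n3124 := rfl
theorem F12439 : act 1 n3124 = n3124 := d14_1 D3124 (iv D3124) F9303
theorem F12440 : act 2 n3124 = n2300 := d20_1 D3124 (iv D2300) (iv F9304)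
theorem F12441 : act 5 n3124 = n2296 := d32_1 D3124 (iv D2296) (iv F9305)
theorem F12442 : act 7 n3124 = n3124 := d35_1 D3124 (iv D3124) (iv D2294) F6968 D2294
def n3125 : Q := act 4 n2295
theorem D3125 : act 4 n2295 = n3125 := rfl
theorem F12443 : act 1 n3125 = n3125 := d10_1 D3125 (iv D3125) F9306
theorem F12444 : act 3 n3125 = n3125 := d21_1 D3125 (iv D3125) (iv D2295) F6971 D2295
theorem F12445 : act 6 n3125 = n3125 := d27_2 F9307 D3125 (iv D3125)
theorem F12446 : act 7 n3125 = n3125 := d28_2 F9308 D3125 (iv D3125)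
def n3126 : Q := act 8 n2295
theorem D3126 : act 8 n2295 = n3126 := rfl
theorem F12447 : act 1 n3126 = n3126 := d14_1 D3126 (iv D3126) F9306
theorem F12448 : act 3 n3126 = n2296 := d25_1 D3126 (iv D2296) D2295
theorem F12449 : act 6 n3126 = n3126 := d34_1 D3126 (iv D3126) F9307
def n3209 : Q := act 3 n2358
theorem D3209 : act 3 n2358 = n3209 := rfl
theorem F12778 : act 0 n3209 = n2359 := d2_1 D3209 (iv D2359) (iv F9565)
theorem F12779 : act 4 n3209 = n3209 := d21_2 D2358 D3209 (iv D3209) (iv D2358) F7165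
theorem F12780 : act 6 n3209 = n3209 := d23_2 F9567 D3209 (iv D3209)
theorem F12781 : act 8 n3209 = n3209 := d25_2 F9569 D3209 (iv D3209)
def n3210 : Q := act 5 n2358
theorem D3210 : act 5 n2358 = n3210 := rfl
theorem F12782 : act 0 n3210 = n2360 := d4_1 D3210 (iv D2360) (iv F9565)
theorem F12783 : act 2 n3210 = n3210 := d17_1 D3210 (iv D3210) F9566
theorem F12784 : act 4 n3210 = n3210 := d26_1 D3210 (iv D3210) (iv D2358) F7166 D2358
theorem F12785 : act 7 n3210 = n2365 := d31_2 (iv F9568) D3210 (iv D2365)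
theorem F12786 : act 8 n3210 = n3210 := d32_2 F9569 D3210 (iv D3210)
def n3211 : Q := act 2 n2359
theorem D3211 : act 2 n2359 = n3211 := rfl
theorem F12787 : act 1 n3211 = n3211 := d8_1 D3211 (iv D3211) F9570 F7175 (iv F9570)
theorem F12788 : act 3 n3211 = n3211 := d15_2 D2359 D3211 (iv D3211) (iv D2359) F7171
theorem F12789 : act 4 n3211 = n3211 := d16_2 F9571 D3211 (iv D3211)
theorem F12790 : act 6 n3211 = n3211 := d18_2 F9572 D3211 (iv D3211)
theorem F12791 : act 8 n3211 = n3211 := d20_2 F9573 D3211 (iv D3211)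
def n3212 : Q := act 5 n2359
theorem D3212 : act 5 n2359 = n3212 := rfl
theorem F12792 : act 1 n3212 = n2361 := d11_1 D3212 (iv D2361) (iv F9570)
theorem F12793 : act 3 n3212 = n2360 := d22_1 D3212 (iv D2360) D2359
theorem F12794 : act 8 n3212 = n3212 := d32_2 F9573 D3212 (iv D3212)
def n3213 : Q := act 7 n2359
theorem D3213 : act 7 n2359 = n3213 := rfl
theorem F12795 : act 1 n3213 = n2362 := d13_1 D3213 (iv D2362) (iv F9570)
theorem F12796 : act 3 n3213 = n2368 := d24_1 D3213 (iv D2368) (iv D1737) (iv F7173) D2359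
theorem F12797 : act 4 n3213 = n3213 := d28_1 D3213 (iv D3213) F9571
theorem F12798 : act 6 n3213 = n3213 := d33_1 D3213 (iv D3213) F9572
def n3214 : Q := act 6 n2360
theorem D3214 : act 6 n2360 = n3214 := rfl
theorem F12799 : act 1 n3214 = n2363 := d12_1 D3214 (iv D2363) (iv F9574)
theorem F12800 : act 2 n3214 = n3214 := d18_1 D3214 (iv D3214) F9575
theorem F12801 : act 4 n3214 = n3214 := d27_1 D3214 (iv D3214) F9576
theorem F12802 : act 5 n3214 = n3214 := d30_1 D3214 (iv D3214) (iv D2360) F7172 D2360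
theorem F12803 : act 7 n3214 = n2369 := d33_2 (iv F9577) D3214 (iv D2369)
theorem F12804 : act 8 n3214 = n3214 := d34_2 F9578 D3214 (iv D3214)
def n3215 : Q := act 4 n2361
theorem D3215 : act 4 n2361 = n3215 := rfl
theorem F12805 : act 2 n3215 = n3215 := d16_1 D3215 (iv D3215) F9579
theorem F12806 : act 3 n3215 = n3215 := d21_1 D3215 (iv D3215) F9580 F7180 (iv F9580)
theorem F12807 : act 5 n3215 = n3215 := d26_2 D2361 D3215 (iv D3215) (iv D2361) F7176
theorem F12808 : act 8 n3215 = n3215 := d29_2 F9581 D3215 (iv D3215)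
def n3216 : Q := act 6 n2361
theorem D3216 : act 6 n2361 = n3216 := rfl
theorem F12809 : act 2 n3216 = n3216 := d18_1 D3216 (iv D3216) F9579
theorem F12810 : act 3 n3216 = n2363 := d23_1 D3216 (iv D2363) (iv F9580)
theorem F12811 : act 5 n3216 = n3216 := d30_1 D3216 (iv D3216) (iv D2361) F7177 D2361
theorem F12812 : act 8 n3216 = n3216 := d34_2 F9581 D3216 (iv D3216)
def n3217 : Q := act 7 n2361
theorem D3217 : act 7 n2361 = n3217 := rfl
theorem F12813 : act 2 n3217 = n3217 := d19_1 D3217 (iv D3217) F9579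
theorem F12814 : act 3 n3217 = n2372 := d24_1 D3217 (iv D2372) F7202 (iv F7181) (iv F9580)
theorem F12815 : act 5 n3217 = n2362 := d31_1 D3217 (iv D2362) D2361
def n3218 : Q := act 8 n2362
theorem D3218 : act 8 n2362 = n3218 := rfl
theorem F12816 : act 2 n3218 = n3218 := d20_1 D3218 (iv D3218) F9582
theorem F12817 : act 3 n3218 = n2373 := d25_1 D3218 (iv D2373) (iv F9583)
theorem F12818 : act 4 n3218 = n3218 := d29_1 D3218 (iv D3218) F9584
theorem F12819 : act 6 n3218 = n3218 := d34_1 D3218 (iv D3218) F9585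
theorem F12820 : act 7 n3218 = n3218 := d35_1 D3218 (iv D3218) (iv D2362) F7178 D2362
def n3219 : Q := act 2 n2364
theorem D3219 : act 2 n2364 = n3219 := rfl
theorem F12821 : act 0 n3219 = n2366 := d1_1 D3219 (iv D2366) (iv F9591)
theorem F12822 : act 3 n3219 = n3219 := d15_2 D2364 D3219 (iv D3219) (iv D2364) F7190
theorem F12823 : act 4 n3219 = n2425 := d16_2 (iv F9592) D3219 (iv D2425)
theorem F12824 : act 6 n3219 = n3219 := d18_2 F9593 D3219 (iv D3219)
theorem F12825 : act 8 n3219 = n3044 := d20_2 (iv F9594) D3219 (iv D3044)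
def n3220 : Q := act 5 n2364
theorem D3220 : act 5 n2364 = n3220 := rfl
theorem F12826 : act 0 n3220 = n2367 := d4_1 D3220 (iv D2367) (iv F9591)
theorem F12827 : act 3 n3220 = n2365 := d22_1 D3220 (iv D2365) D2364
theorem F12828 : act 8 n3220 = n3045 := d32_2 (iv F9594) D3220 (iv D3045)
def n3221 : Q := act 7 n2364
theorem D3221 : act 7 n2364 = n3221 := rfl
theorem F12829 : act 0 n3221 = n2368 := d6_1 D3221 (iv D2368) (iv F9591)
theorem F12830 : act 4 n3221 = n2427 := d28_1 D3221 (iv D2427) (iv F9592)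
theorem F12831 : act 6 n3221 = n3221 := d33_1 D3221 (iv D3221) F9593
def n3222 : Q := act 6 n2365
theorem D3222 : act 6 n2365 = n3222 := rfl
theorem F12832 : act 0 n3222 = n2369 := d5_1 D3222 (iv D2369) (iv F9595)
theorem F12833 : act 2 n3222 = n3222 := d18_1 D3222 (iv D3222) F9596
theorem F12834 : act 4 n3222 = n3222 := d27_1 D3222 (iv D3222) F9597
theorem F12835 : act 5 n3222 = n3222 := d30_1 D3222 (iv D3222) (iv D2365) F7191 D2365
theorem F12836 : act 8 n3222 = n3047 := d34_2 (iv F9598) D3222 (iv D3047)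
def n3223 : Q := act 5 n2366
theorem D3223 : act 5 n2366 = n3223 := rfl
theorem F12837 : act 1 n3223 = n2378 := d11_1 D3223 (iv D2378) (iv F9599)
theorem F12838 : act 2 n3223 = n2367 := d17_1 D3223 (iv D2367) D2366
theorem F12839 : act 3 n3223 = n3223 := d22_1 D3223 (iv D3223) F9600
theorem F12840 : act 8 n3223 = n3048 := d32_2 (iv F9603) D3223 (iv D3048)
def n3224 : Q := act 7 n2366
theorem D3224 : act 7 n2366 = n3224 := rfl
theorem F12841 : act 1 n3224 = n2379 := d13_1 D3224 (iv D2379) (iv F9599)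
theorem F12842 : act 2 n3224 = n2368 := d19_1 D3224 (iv D2368) D2366
theorem F12843 : act 4 n3224 = n2430 := d28_1 D3224 (iv D2430) (iv F9601)
theorem F12844 : act 6 n3224 = n3224 := d33_1 D3224 (iv D3224) F9602
def n3225 : Q := act 4 n2367
theorem D3225 : act 4 n2367 = n3225 := rfl
theorem F12845 : act 1 n3225 = n2370 := d10_1 D3225 (iv D2370) (iv F9604)
theorem F12846 : act 3 n3225 = n3225 := d21_1 D3225 (iv D3225) F9605 F7199 (iv F9605)
theorem F12847 : act 5 n3225 = n2431 := d26_2 D2367 D3225 (iv D2431) (iv D1780) (iv F7194)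
theorem F12848 : act 8 n3225 = n3050 := d29_2 (iv F9606) D3225 (iv D3050)
def n3226 : Q := act 6 n2367
theorem D3226 : act 6 n2367 = n3226 := rfl
theorem F12849 : act 1 n3226 = n2371 := d12_1 D3226 (iv D2371) (iv F9604)
theorem F12850 : act 3 n3226 = n2369 := d23_1 D3226 (iv D2369) (iv F9605)
theorem F12851 : act 5 n3226 = n3226 := d30_1 D3226 (iv D3226) (iv D2367) F7195 D2367
theorem F12852 : act 8 n3226 = n3051 := d34_2 (iv F9606) D3226 (iv D3051)
def n3227 : Q := act 7 n2367
theorem D3227 : act 7 n2367 = n3227 := rfl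
theorem F12853 : act 1 n3227 = n2372 := d13_1 D3227 (iv D2372) (iv F9604)
theorem F12854 : act 5 n3227 = n2368 := d31_1 D3227 (iv D2368) D2367
def n3228 : Q := act 8 n2368
theorem D3228 : act 8 n2368 = n3228 := rfl
theorem F12855 : act 1 n3228 = n2373 := d14_1 D3228 (iv D2373) (iv F9607)
theorem F12856 : act 4 n3228 = n2434 := d29_1 D3228 (iv D2434) (iv F9608)
theorem F12857 : act 6 n3228 = n3228 := d34_1 D3228 (iv D3228) F9609
theorem F12858 : act 7 n3228 = n3053 := d35_1 D3228 (iv D3053) (iv D2244) (iv F7196) D2368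
def n3229 : Q := act 6 n2370
theorem D3229 : act 6 n2370 = n3229 := rfl
theorem F12859 : act 2 n3229 = n2384 := d18_1 D3229 (iv D2384) (iv F9615)
theorem F12860 : act 3 n3229 = n3229 := d23_1 D3229 (iv D3229) F9616
theorem F12861 : act 4 n3229 = n2371 := d27_1 D3229 (iv D2371) D2370
theorem F12862 : act 8 n3229 = n3054 := d34_2 (iv F9618) D3229 (iv D3054)
def n3230 : Q := act 7 n2370
theorem D3230 : act 7 n2370 = n3230 := rfl
theorem F12863 : act 2 n3230 = n2385 := d19_1 D3230 (iv D2385) (iv F9615)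
theorem F12864 : act 4 n3230 = n2372 := d28_1 D3230 (iv D2372) D2370
theorem F12865 : act 5 n3230 = n2436 := d31_1 D3230 (iv D2436) (iv F9617)
def n3231 : Q := act 7 n2371
theorem D3231 : act 7 n2371 = n3231 := rfl
theorem F12866 : act 2 n3231 = n2386 := d19_1 D3231 (iv D2386) (iv F9619)
theorem F12867 : act 5 n3231 = n3231 := d31_1 D3231 (iv D3231) F9621
theorem F12868 : act 6 n3231 = n2372 := d33_1 D3231 (iv D2372) D2371
def n3232 : Q := act 8 n2372
theorem D3232 : act 8 n2372 = n3232 := rfl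
theorem F12869 : act 2 n3232 = n2387 := d20_1 D3232 (iv D2387) (iv F9623)
theorem F12870 : act 5 n3232 = n2373 := d32_1 D3232 (iv D2373) (iv F9624)
theorem F12871 : act 7 n3232 = n3057 := d35_1 D3232 (iv D3057) (iv D2248) (iv F7203) D2372
def n3233 : Q := act 1 n2374
theorem D3233 : act 1 n2374 = n3233 := rfl
theorem F12872 : act 3 n3233 = n3233 := d9_2 F9630 D3233 (iv D3233)
theorem F12873 : act 4 n3233 = n2453 := d10_2 (iv F9631) D3233 (iv D2453)
theorem F12874 : act 6 n3233 = n3233 := d12_2 F9632 D3233 (iv D3233)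
theorem F12875 : act 8 n3233 = n3058 := d14_2 (iv F9633) D3233 (iv D3058)
def n3234 : Q := act 5 n2374
theorem D3234 : act 5 n2374 = n3234 := rfl
theorem F12876 : act 0 n3234 = n2378 := d4_1 D3234 (iv D2378) (iv F9629)
theorem F12877 : act 2 n3234 = n2375 := d17_1 D3234 (iv D2375) D2374
theorem F12878 : act 3 n3234 = n3234 := d22_1 D3234 (iv D3234) F9630
theorem F12879 : act 8 n3234 = n3059 := d32_2 (iv F9633) D3234 (iv D3059)
def n3235 : Q := act 7 n2374
theorem D3235 : act 7 n2374 = n3235 := rfl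
theorem F12880 : act 0 n3235 = n2379 := d6_1 D3235 (iv D2379) (iv F9629)
theorem F12881 : act 2 n3235 = n2376 := d19_1 D3235 (iv D2376) D2374
theorem F12882 : act 4 n3235 = n2455 := d28_1 D3235 (iv D2455) (iv F9631)
theorem F12883 : act 6 n3235 = n3235 := d33_1 D3235 (iv D3235) F9632
def n3236 : Q := act 4 n2375
theorem D3236 : act 4 n2375 = n3236 := rfl
theorem F12884 : act 0 n3236 = n2380 := d3_1 D3236 (iv D2380) (iv F9634)
theorem F12885 : act 3 n3236 = n2391 := d21_1 D3236 (iv D2391) F7255 (iv F7217) (iv F9635)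
theorem F12886 : act 5 n3236 = n2456 := d26_2 D2375 D3236 (iv D2456) (iv D1798) (iv F7212)
theorem F12887 : act 8 n3236 = n3061 := d29_2 (iv F9636) D3236 (iv D3061)
def n3237 : Q := act 6 n2375
theorem D3237 : act 6 n2375 = n3237 := rfl
theorem F12888 : act 0 n3237 = n2381 := d5_1 D3237 (iv D2381) (iv F9634)
theorem F12889 : act 3 n3237 = n2377 := d23_1 D3237 (iv D2377) (iv F9635)
theorem F12890 : act 5 n3237 = n3237 := d30_1 D3237 (iv D3237) (iv D2375) F7213 D2375
theorem F12891 : act 8 n3237 = n3062 := d34_2 (iv F9636) D3237 (iv D3062)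
def n3238 : Q := act 7 n2375
theorem D3238 : act 7 n2375 = n3238 := rfl
theorem F12892 : act 0 n3238 = n2382 := d6_1 D3238 (iv D2382) (iv F9634)
theorem F12893 : act 3 n3238 = n3238 := d24_1 D3238 (iv D3238) F9635 F7218 (iv F9635)
theorem F12894 : act 5 n3238 = n2376 := d31_1 D3238 (iv D2376) D2375
def n3239 : Q := act 8 n2376
theorem D3239 : act 8 n2376 = n3239 := rfl
theorem F12895 : act 0 n3239 = n2383 := d7_1 D3239 (iv D2383) (iv F9637)
theorem F12896 : act 3 n3239 = n3239 := d25_1 D3239 (iv D3239) F9638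
theorem F12897 : act 4 n3239 = n2459 := d29_1 D3239 (iv D2459) (iv F9639)
theorem F12898 : act 6 n3239 = n3239 := d34_1 D3239 (iv D3239) F9640
theorem F12899 : act 7 n3239 = n3064 := d35_1 D3239 (iv D3064) (iv D2252) (iv F7214) D2376
def n3240 : Q := act 4 n2378
theorem D3240 : act 4 n2378 = n3240 := rfl
theorem F12900 : act 2 n3240 = n2380 := d16_1 D3240 (iv D2380) (iv F9647)
theorem F12901 : act 5 n3240 = n2460 := d26_2 D2378 D3240 (iv D2460) (iv D1801) (iv F7221)
theorem F12902 : act 8 n3240 = n3065 := d29_2 (iv F9649) D3240 (iv D3065)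
def n3241 : Q := act 6 n2378
theorem D3241 : act 6 n2378 = n3241 := rfl
theorem F12903 : act 2 n3241 = n2381 := d18_1 D3241 (iv D2381) (iv F9647)
theorem F12904 : act 3 n3241 = n3241 := d23_1 D3241 (iv D3241) F9648
theorem F12905 : act 5 n3241 = n3241 := d30_1 D3241 (iv D3241) (iv D2378) F7222 D2378
theorem F12906 : act 8 n3241 = n3066 := d34_2 (iv F9649) D3241 (iv D3066)
def n3242 : Q := act 7 n2378
theorem D3242 : act 7 n2378 = n3242 := rfl
theorem F12907 : act 2 n3242 = n2382 := d19_1 D3242 (iv D2382) (iv F9647)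
theorem F12908 : act 5 n3242 = n2379 := d31_1 D3242 (iv D2379) D2378
def n3243 : Q := act 3 n2379
theorem D3243 : act 3 n2379 = n3243 := rfl
theorem F12909 : act 2 n3243 = n3243 := d15_1 D3243 (iv D3243) F9650 F7228 (iv F9650)
theorem F12910 : act 6 n3243 = n3243 := d23_2 F9652 D3243 (iv D3243)
theorem F12911 : act 7 n3243 = n3243 := d24_2 D2379 D3243 (iv D3243) (iv D2379) F7220
def n3244 : Q := act 8 n2379
theorem D3244 : act 8 n2379 = n3244 := rfl
theorem F12912 : act 2 n3244 = n2383 := d20_1 D3244 (iv D2383) (iv F9650)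
theorem F12913 : act 4 n3244 = n2464 := d29_1 D3244 (iv D2464) (iv F9651)
theorem F12914 : act 6 n3244 = n3244 := d34_1 D3244 (iv D3244) F9652
theorem F12915 : act 7 n3244 = n3069 := d35_1 D3244 (iv D3069) (iv D2255) (iv F7223) D2379
def n3245 : Q := act 6 n2380
theorem D3245 : act 6 n2380 = n3245 := rfl
theorem F12916 : act 1 n3245 = n2384 := d12_1 D3245 (iv D2384) (iv F9653)
theorem F12917 : act 3 n3245 = n2400 := d23_1 D3245 (iv D2400) (iv F9654)
theorem F12918 : act 4 n3245 = n2381 := d27_1 D3245 (iv D2381) D2380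
theorem F12919 : act 8 n3245 = n3070 := d34_2 (iv F9656) D3245 (iv D3070)
def n3246 : Q := act 7 n2380
theorem D3246 : act 7 n2380 = n3246 := rfl
theorem F12920 : act 1 n3246 = n2385 := d13_1 D3246 (iv D2385) (iv F9653)
theorem F12921 : act 4 n3246 = n2382 := d28_1 D3246 (iv D2382) D2380
theorem F12922 : act 5 n3246 = n2466 := d31_1 D3246 (iv D2466) (iv F9655)
def n3247 : Q := act 7 n2381
theorem D3247 : act 7 n2381 = n3247 := rfl
theorem F12923 : act 1 n3247 = n2386 := d13_1 D3247 (iv D2386) (iv F9657)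
theorem F12924 : act 3 n3247 = n3247 := d24_1 D3247 (iv D3247) F9658 F7235 (iv F9658)
theorem F12925 : act 5 n3247 = n3247 := d31_1 D3247 (iv D3247) F9659
theorem F12926 : act 6 n3247 = n2382 := d33_1 D3247 (iv D2382) D2381
def n3248 : Q := act 8 n2382
theorem D3248 : act 8 n2382 = n3248 := rfl
theorem F12927 : act 1 n3248 = n2387 := d14_1 D3248 (iv D2387) (iv F9661)
theorem F12928 : act 3 n3248 = n3248 := d25_1 D3248 (iv D3248) F9662
theorem F12929 : act 5 n3248 = n2383 := d32_1 D3248 (iv D2383) (iv F9663)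
theorem F12930 : act 7 n3248 = n3073 := d35_1 D3248 (iv D3073) (iv D2258) (iv F7226) D2382
def n3249 : Q := act 5 n2384
theorem D3249 : act 5 n2384 = n3249 := rfl
theorem F12931 : act 3 n3249 = n2404 := d22_1 D3249 (iv D2404) (iv F9669)
theorem F12932 : act 4 n3249 = n3249 := d26_1 D3249 (iv D3249) F9670 F7241 (iv F9670)
theorem F12933 : act 6 n3249 = n2469 := d30_2 D2384 D3249 (iv D2469) (iv D1807) (iv F7238)
theorem F12934 : act 8 n3249 = n3074 := d32_2 (iv F9671) D3249 (iv D3074)
def n3250 : Q := act 7 n2384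
theorem D3250 : act 7 n2384 = n3250 := rfl
theorem F12935 : act 4 n3250 = n2386 := d28_1 D3250 (iv D2386) (iv F9670)
theorem F12936 : act 6 n3250 = n2385 := d33_1 D3250 (iv D2385) D2384
def n3251 : Q := act 3 n2385
theorem D3251 : act 3 n2385 = n3251 := rfl
theorem F12937 : act 4 n3251 = n3251 := d21_2 (iv F9672) D3251 (iv D3251) F9672 F7243
theorem F12938 : act 5 n3251 = n2471 := d22_2 (iv F9673) D3251 (iv D2471)
theorem F12939 : act 7 n3251 = n2406 := d24_2 D2385 D3251 (iv D2406) (iv D1763) (iv F7237)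
def n3252 : Q := act 8 n2385
theorem D3252 : act 8 n2385 = n3252 := rfl
theorem F12940 : act 4 n3252 = n2387 := d29_1 D3252 (iv D2387) (iv F9672)
theorem F12941 : act 5 n3252 = n2472 := d32_1 D3252 (iv D2472) (iv F9673)
theorem F12942 : act 7 n3252 = n3077 := d35_1 D3252 (iv D3077) (iv D2261) (iv F7239) D2385
def n3253 : Q := act 8 n2386
theorem D3253 : act 8 n2386 = n3253 := rfl
theorem F12943 : act 3 n3253 = n3253 := d25_1 D3253 (iv D3253) F9674
theorem F12944 : act 5 n3253 = n3253 := d32_1 D3253 (iv D3253) F9675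
theorem F12945 : act 6 n3253 = n2387 := d34_1 D3253 (iv D2387) (iv F9676)
theorem F12946 : act 7 n3253 = n3078 := d35_1 D3253 (iv D3078) (iv D2262) (iv F7242) D2386
def n3254 : Q := act 5 n2388
theorem D3254 : act 5 n2388 = n3254 := rfl
theorem F12947 : act 0 n3254 = n3254 := d4_1 D3254 (iv D3254) F9680
theorem F12948 : act 1 n3254 = n2389 := d11_1 D3254 (iv D2389) D2388
theorem F12949 : act 3 n3254 = n3254 := d22_1 D3254 (iv D3254) F9681
theorem F12950 : act 8 n3254 = n3079 := d32_2 (iv F9684) D3254 (iv D3079)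
def n3255 : Q := act 7 n2388
theorem D3255 : act 7 n2388 = n3255 := rfl
theorem F12951 : act 0 n3255 = n3255 := d6_1 D3255 (iv D3255) F9680
theorem F12952 : act 1 n3255 = n2390 := d13_1 D3255 (iv D2390) D2388
theorem F12953 : act 4 n3255 = n2496 := d28_1 D3255 (iv D2496) (iv F9682)
theorem F12954 : act 6 n3255 = n2828 := d33_1 D3255 (iv D2828) (iv F9683)
def n3256 : Q := act 4 n2389
theorem D3256 : act 4 n2389 = n3256 := rfl
theorem F12955 : act 0 n3256 = n2395 := d3_1 D3256 (iv D2395) (iv F9685)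
theorem F12956 : act 2 n3256 = n2391 := d16_1 D3256 (iv D2391) (iv F9686)
theorem F12957 : act 5 n3256 = n2497 := d26_2 D2389 D3256 (iv D2497) (iv D1826) (iv F7251)
theorem F12958 : act 8 n3256 = n3081 := d29_2 (iv F9688) D3256 (iv D3081)
def n3257 : Q := act 6 n2389
theorem D3257 : act 6 n2389 = n3257 := rfl
theorem F12959 : act 0 n3257 = n2396 := d5_1 D3257 (iv D2396) (iv F9685)
theorem F12960 : act 2 n3257 = n2392 := d18_1 D3257 (iv D2392) (iv F9686)
theorem F12961 : act 3 n3257 = n3257 := d23_1 D3257 (iv D3257) F9687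
theorem F12962 : act 5 n3257 = n2830 := d30_1 D3257 (iv D2830) (iv D2074) (iv F7252) D2389
theorem F12963 : act 8 n3257 = n3082 := d34_2 (iv F9688) D3257 (iv D3082)
def n3258 : Q := act 7 n2389
theorem D3258 : act 7 n2389 = n3258 := rfl
theorem F12964 : act 0 n3258 = n2397 := d6_1 D3258 (iv D2397) (iv F9685)
theorem F12965 : act 2 n3258 = n2393 := d19_1 D3258 (iv D2393) (iv F9686)
theorem F12966 : act 5 n3258 = n2390 := d31_1 D3258 (iv D2390) D2389
def n3259 : Q := act 3 n2390
theorem D3259 : act 3 n2390 = n3259 := rfl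
theorem F12967 : act 0 n3259 = n2398 := d2_1 D3259 (iv D2398) (iv F9689)
theorem F12968 : act 2 n3259 = n3259 := d15_1 D3259 (iv D3259) F9690 F7258 (iv F9690)
theorem F12969 : act 4 n3259 = n3259 := d21_2 (iv F9691) D3259 (iv D3259) F9691 F7537
theorem F12970 : act 6 n3259 = n2832 := d23_2 (iv F9692) D3259 (iv D2832)
theorem F12971 : act 7 n3259 = n3259 := d24_2 D2390 D3259 (iv D3259) (iv D2390) F7250
def n3260 : Q := act 8 n2390
theorem D3260 : act 8 n2390 = n3260 := rfl
theorem F12972 : act 0 n3260 = n2399 := d7_1 D3260 (iv D2399) (iv F9689)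
theorem F12973 : act 2 n3260 = n2394 := d20_1 D3260 (iv D2394) (iv F9690)
theorem F12974 : act 4 n3260 = n2500 := d29_1 D3260 (iv D2500) (iv F9691)
theorem F12976 : act 7 n3260 = n3085 := d35_1 D3260 (iv D3085) (iv D2266) (iv F7253) D2390
def n3261 : Q := act 6 n2391
theorem D3261 : act 6 n2391 = n3261 := rfl
theorem F12977 : act 0 n3261 = n2400 := d5_1 D3261 (iv D2400) (iv F9693)
theorem F12978 : act 4 n3261 = n2392 := d27_1 D3261 (iv D2392) D2391
theorem F12979 : act 8 n3261 = n3086 := d34_2 (iv F9695) D3261 (iv D3086)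
def n3262 : Q := act 7 n2391
theorem D3262 : act 7 n2391 = n3262 := rfl
theorem F12980 : act 0 n3262 = n2401 := d6_1 D3262 (iv D2401) (iv F9693)
theorem F12981 : act 4 n3262 = n2393 := d28_1 D3262 (iv D2393) D2391
theorem F12982 : act 5 n3262 = n2502 := d31_1 D3262 (iv D2502) (iv F9694)
def n3263 : Q := act 7 n2392
theorem D3263 : act 7 n2392 = n3263 := rfl
theorem F12983 : act 0 n3263 = n2402 := d6_1 D3263 (iv D2402) (iv F9696)
theorem F12984 : act 3 n3263 = n3263 := d24_1 D3263 (iv D3263) F9697 F7264 (iv F9697)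
theorem F12986 : act 6 n3263 = n2393 := d33_1 D3263 (iv D2393) D2392
def n3264 : Q := act 8 n2393
theorem D3264 : act 8 n2393 = n3264 := rfl
theorem F12987 : act 0 n3264 = n2403 := d7_1 D3264 (iv D2403) (iv F9700)
theorem F12988 : act 3 n3264 = n3264 := d25_1 D3264 (iv D3264) F9701
theorem F12989 : act 5 n3264 = n2394 := d32_1 D3264 (iv D2394) (iv F9702)
theorem F12990 : act 7 n3264 = n3089 := d35_1 D3264 (iv D3089) (iv D2269) (iv F7256) D2393
def n3265 : Q := act 3 n2395
theorem D3265 : act 3 n2395 = n3265 := rfl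
theorem F12991 : act 1 n3265 = n3265 := d9_1 D3265 (iv D3265) F9708
theorem F12992 : act 4 n3265 = n3265 := d21_2 D2395 D3265 (iv D3265) (iv D2395) F7268
theorem F12993 : act 5 n3265 = n2505 := d22_2 (iv F9710) D3265 (iv D2505)
theorem F12994 : act 8 n3265 = n3090 := d25_2 (iv F9711) D3265 (iv D3090)
def n3266 : Q := act 6 n2395
theorem D3266 : act 6 n2395 = n3266 := rfl
theorem F12995 : act 1 n3266 = n3266 := d12_1 D3266 (iv D3266) F9708
theorem F12996 : act 2 n3266 = n2400 := d18_1 D3266 (iv D2400) (iv F9709)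
theorem F12997 : act 4 n3266 = n2396 := d27_1 D3266 (iv D2396) D2395
theorem F12998 : act 8 n3266 = n3091 := d34_2 (iv F9711) D3266 (iv D3091)
def n3267 : Q := act 7 n2395
theorem D3267 : act 7 n2395 = n3267 := rfl
theorem F12999 : act 1 n3267 = n3267 := d13_1 D3267 (iv D3267) F9708
theorem F13000 : act 2 n3267 = n2401 := d19_1 D3267 (iv D2401) (iv F9709)
theorem F13001 : act 4 n3267 = n2397 := d28_1 D3267 (iv D2397) D2395
theorem F13002 : act 5 n3267 = n2507 := d31_1 D3267 (iv D2507) (iv F9710)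
def n3268 : Q := act 7 n2396
theorem D3268 : act 7 n2396 = n3268 := rfl
theorem F13003 : act 1 n3268 = n3268 := d13_1 D3268 (iv D3268) F9712
theorem F13004 : act 2 n3268 = n2402 := d19_1 D3268 (iv D2402) (iv F9713)
theorem F13005 : act 5 n3268 = n2841 := d31_1 D3268 (iv D2841) (iv F9715)
theorem F13006 : act 6 n3268 = n2397 := d33_1 D3268 (iv D2397) D2396
def n3269 : Q := act 3 n2397
theorem D3269 : act 3 n2397 = n3269 := rfl
theorem F13007 : act 1 n3269 = n3269 := d9_1 D3269 (iv D3269) F9717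
theorem F13008 : act 2 n3269 = n3269 := d15_1 D3269 (iv D3269) F9718 F7282 (iv F9718)
theorem F13009 : act 5 n3269 = n2398 := d22_2 (iv F9719) D3269 (iv D2398)
theorem F13010 : act 7 n3269 = n3269 := d24_2 D2397 D3269 (iv D3269) (iv D2397) F7268
def n3270 : Q := act 8 n2397
theorem D3270 : act 8 n2397 = n3270 := rfl
theorem F13011 : act 1 n3270 = n3270 := d14_1 D3270 (iv D3270) F9717
theorem F13012 : act 2 n3270 = n2403 := d20_1 D3270 (iv D2403) (iv F9718)
theorem F13013 : act 5 n3270 = n2399 := d32_1 D3270 (iv D2399) (iv F9719)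
theorem F13014 : act 7 n3270 = n3095 := d35_1 D3270 (iv D3095) (iv D2273) (iv F7269) D2397
def n3271 : Q := act 8 n2398
theorem D3271 : act 8 n2398 = n3271 := rfl
theorem F13015 : act 1 n3271 = n3271 := d14_1 D3271 (iv D3271) F9720
theorem F13016 : act 2 n3271 = n3271 := d20_1 D3271 (iv D3271) F9721
theorem F13017 : act 3 n3271 = n2399 := d25_1 D3271 (iv D2399) D2398
theorem F13018 : act 4 n3271 = n3271 := d29_1 D3271 (iv D3271) F9722
def n3272 : Q := act 5 n2400
theorem D3272 : act 5 n2400 = n3272 := rfl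
theorem F13020 : act 1 n3272 = n2404 := d11_1 D3272 (iv D2404) (iv F9730)
theorem F13021 : act 4 n3272 = n2845 := d26_1 D3272 (iv D2845) F8513 (iv F7279) (iv F9731)
theorem F13022 : act 6 n3272 = n2510 := d30_2 D2400 D3272 (iv D2510) (iv D1836) (iv F7275)
theorem F13023 : act 8 n3272 = n3098 := d32_2 (iv F9732) D3272 (iv D3098)
def n3273 : Q := act 7 n2400
theorem D3273 : act 7 n2400 = n3273 := rfl
theorem F13024 : act 1 n3273 = n2405 := d13_1 D3273 (iv D2405) (iv F9730)
theorem F13025 : act 4 n3273 = n2402 := d28_1 D3273 (iv D2402) (iv F9731)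
theorem F13026 : act 6 n3273 = n2401 := d33_1 D3273 (iv D2401) D2400
def n3274 : Q := act 3 n2401
theorem D3274 : act 3 n2401 = n3274 := rfl
theorem F13027 : act 1 n3274 = n2406 := d9_1 D3274 (iv D2406) (iv F9733)
theorem F13028 : act 4 n3274 = n3274 := d21_2 (iv F9734) D3274 (iv D3274) F9734 F7282
theorem F13029 : act 5 n3274 = n2512 := d22_2 (iv F9735) D3274 (iv D2512)
def n3275 : Q := act 8 n2401
theorem D3275 : act 8 n2401 = n3275 := rfl
theorem F13031 : act 4 n3275 = n2403 := d29_1 D3275 (iv D2403) (iv F9734)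
def n3276 : Q := act 8 n2402
theorem D3276 : act 8 n2402 = n3276 := rfl
theorem F13034 : act 1 n3276 = n2408 := d14_1 D3276 (iv D2408) (iv F9736)
theorem F13037 : act 6 n3276 = n2403 := d34_1 D3276 (iv D2403) (iv F9739)
def n3277 : Q := act 7 n2404
theorem D3277 : act 7 n2404 = n3277 := rfl
theorem F13040 : act 4 n3277 = n2850 := d28_1 D3277 (iv D2850) (iv F9745)
def n3278 : Q := act 3 n2405
theorem D3278 : act 3 n2405 = n3278 := rfl
theorem F13043 : act 4 n3278 = n3278 := d21_2 (iv F9749) D3278 (iv D3278) F9749 F7296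
theorem F13044 : act 6 n3278 = n2406 := d23_2 (iv F9750) D3278 (iv D2406)
def n3279 : Q := act 8 n2405
theorem D3279 : act 8 n2405 = n3279 := rfl
theorem F13046 : act 4 n3279 = n2408 := d29_1 D3279 (iv D2408) (iv F9749)
def n3280 : Q := act 2 n2406
theorem D3280 : act 2 n2406 = n3280 := rfl
theorem F13049 : act 3 n3280 = n3280 := d15_2 D2406 D3280 (iv D3280) (iv D2406) F7292
theorem F13050 : act 4 n3280 = n3280 := d16_2 F9751 D3280 (iv D3280)
theorem F13051 : act 5 n3280 = n2518 := d17_2 (iv F9752) D3280 (iv D2518)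
def n3281 : Q := act 8 n2406
theorem D3281 : act 8 n2406 = n3281 := rfl
theorem F13052 : act 3 n3281 = n2407 := d25_1 D3281 (iv D2407) D2406
def n3282 : Q := act 3 n2409
theorem D3282 : act 3 n2409 = n3282 := rfl
theorem F13055 : act 0 n3282 = n2410 := d2_1 D3282 (iv D2410) (iv F9762)
theorem F13056 : act 1 n3282 = n3209 := d9_1 D3282 (iv D3209) (iv F9763)
theorem F13057 : act 4 n3282 = n3282 := d21_2 D2409 D3282 (iv D3282) (iv D2409) F7305
theorem F13058 : act 6 n3282 = n3282 := d23_2 F9765 D3282 (iv D3282)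
theorem F13059 : act 8 n3282 = n3282 := d25_2 F9767 D3282 (iv D3282)
def n3283 : Q := act 5 n2409
theorem D3283 : act 5 n2409 = n3283 := rfl
theorem F13060 : act 0 n3283 = n2411 := d4_1 D3283 (iv D2411) (iv F9762)
theorem F13061 : act 1 n3283 = n3210 := d11_1 D3283 (iv D3210) (iv F9763)
theorem F13062 : act 2 n3283 = n2581 := d17_1 D3283 (iv D2581) (iv F9764)
theorem F13063 : act 4 n3283 = n3283 := d26_1 D3283 (iv D3283) (iv D2409) F7306 D2409
theorem F13064 : act 7 n3283 = n2416 := d31_2 (iv F9766) D3283 (iv D2416)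
theorem F13065 : act 8 n3283 = n3283 := d32_2 F9767 D3283 (iv D3283)
def n3284 : Q := act 2 n2410
theorem D3284 : act 2 n2410 = n3284 := rfl
theorem F13066 : act 1 n3284 = n3284 := d8_1 D3284 (iv D3284) F9768 F7316 (iv F9768)
theorem F13067 : act 3 n3284 = n2582 := d15_2 D2410 D3284 (iv D2582) (iv D1893) (iv F7311)
theorem F13068 : act 4 n3284 = n3284 := d16_2 F9769 D3284 (iv D3284)
theorem F13069 : act 6 n3284 = n3284 := d18_2 F9770 D3284 (iv D3284)
theorem F13070 : act 8 n3284 = n3284 := d20_2 F9771 D3284 (iv D3284)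
def n3285 : Q := act 5 n2410
theorem D3285 : act 5 n2410 = n3285 := rfl
theorem F13071 : act 1 n3285 = n2412 := d11_1 D3285 (iv D2412) (iv F9768)
theorem F13072 : act 3 n3285 = n2411 := d22_1 D3285 (iv D2411) D2410
theorem F13073 : act 8 n3285 = n3285 := d32_2 F9771 D3285 (iv D3285)
def n3286 : Q := act 7 n2410
theorem D3286 : act 7 n2410 = n3286 := rfl
theorem F13074 : act 1 n3286 = n2413 := d13_1 D3286 (iv D2413) (iv F9768)
theorem F13075 : act 3 n3286 = n2419 := d24_1 D3286 (iv D2419) (iv D1772) (iv F7313) D2410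
theorem F13076 : act 4 n3286 = n3286 := d28_1 D3286 (iv D3286) F9769
theorem F13077 : act 6 n3286 = n3286 := d33_1 D3286 (iv D3286) F9770
def n3287 : Q := act 6 n2411
theorem D3287 : act 6 n2411 = n3287 := rfl
theorem F13078 : act 1 n3287 = n2414 := d12_1 D3287 (iv D2414) (iv F9772)
theorem F13079 : act 2 n3287 = n2585 := d18_1 D3287 (iv D2585) (iv F9773)
theorem F13080 : act 4 n3287 = n3287 := d27_1 D3287 (iv D3287) F9774
theorem F13081 : act 5 n3287 = n3287 := d30_1 D3287 (iv D3287) (iv D2411) F7312 D2411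
theorem F13082 : act 7 n3287 = n2420 := d33_2 (iv F9775) D3287 (iv D2420)
theorem F13083 : act 8 n3287 = n3287 := d34_2 F9776 D3287 (iv D3287)
def n3288 : Q := act 4 n2412
theorem D3288 : act 4 n2412 = n3288 := rfl
theorem F13084 : act 0 n3288 = n3215 := d3_1 D3288 (iv D3215) (iv F9777)
theorem F13085 : act 2 n3288 = n3288 := d16_1 D3288 (iv D3288) F9778
theorem F13086 : act 3 n3288 = n3288 := d21_1 D3288 (iv D3288) F9779 F7322 (iv F9779)
theorem F13087 : act 5 n3288 = n3288 := d26_2 D2412 D3288 (iv D3288) (iv D2412) F7317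
theorem F13088 : act 8 n3288 = n3288 := d29_2 F9780 D3288 (iv D3288)
def n3289 : Q := act 6 n2412
theorem D3289 : act 6 n2412 = n3289 := rfl
theorem F13089 : act 0 n3289 = n3216 := d5_1 D3289 (iv D3216) (iv F9777)
theorem F13090 : act 2 n3289 = n3289 := d18_1 D3289 (iv D3289) F9778
theorem F13091 : act 3 n3289 = n2414 := d23_1 D3289 (iv D2414) (iv F9779)
theorem F13092 : act 5 n3289 = n3289 := d30_1 D3289 (iv D3289) (iv D2412) F7318 D2412
theorem F13093 : act 8 n3289 = n3289 := d34_2 F9780 D3289 (iv D3289)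
def n3290 : Q := act 7 n2412
theorem D3290 : act 7 n2412 = n3290 := rfl
theorem F13094 : act 0 n3290 = n3217 := d6_1 D3290 (iv D3217) (iv F9777)
theorem F13095 : act 2 n3290 = n3290 := d19_1 D3290 (iv D3290) F9778
theorem F13096 : act 3 n3290 = n2423 := d24_1 D3290 (iv D2423) F7347 (iv F7323) (iv F9779)
theorem F13097 : act 5 n3290 = n2413 := d31_1 D3290 (iv D2413) D2412
def n3291 : Q := act 8 n2413
theorem D3291 : act 8 n2413 = n3291 := rfl
theorem F13098 : act 0 n3291 = n3218 := d7_1 D3291 (iv D3218) (iv F9781)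
theorem F13099 : act 2 n3291 = n3291 := d20_1 D3291 (iv D3291) F9782
theorem F13100 : act 3 n3291 = n2424 := d25_1 D3291 (iv D2424) (iv F9783)
theorem F13101 : act 4 n3291 = n3291 := d29_1 D3291 (iv D3291) F9784
theorem F13102 : act 6 n3291 = n3291 := d34_1 D3291 (iv D3291) F9785
theorem F13103 : act 7 n3291 = n3291 := d35_1 D3291 (iv D3291) (iv D2413) F7319 D2413
def n3292 : Q := act 2 n2415
theorem D3292 : act 2 n2415 = n3292 := rfl
theorem F13104 : act 0 n3292 = n2417 := d1_1 D3292 (iv D2417) (iv F9792)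
theorem F13105 : act 3 n3292 = n2590 := d15_2 D2415 D3292 (iv D2590) (iv D1898) (iv F7334)
theorem F13106 : act 4 n3292 = n3044 := d16_2 (iv F9794) D3292 (iv D3044)
theorem F13107 : act 6 n3292 = n3292 := d18_2 F9795 D3292 (iv D3292)
theorem F13108 : act 8 n3292 = n2425 := d20_2 (iv F9796) D3292 (iv D2425)
def n3293 : Q := act 5 n2415
theorem D3293 : act 5 n2415 = n3293 := rfl
theorem F13109 : act 0 n3293 = n2418 := d4_1 D3293 (iv D2418) (iv F9792)
theorem F13110 : act 1 n3293 = n3220 := d11_1 D3293 (iv D3220) (iv F9793)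
theorem F13111 : act 3 n3293 = n2416 := d22_1 D3293 (iv D2416) D2415
theorem F13112 : act 8 n3293 = n2426 := d32_2 (iv F9796) D3293 (iv D2426)
def n3294 : Q := act 7 n2415
theorem D3294 : act 7 n2415 = n3294 := rfl
theorem F13113 : act 0 n3294 = n2419 := d6_1 D3294 (iv D2419) (iv F9792)
theorem F13114 : act 1 n3294 = n3221 := d13_1 D3294 (iv D3221) (iv F9793)
theorem F13115 : act 4 n3294 = n3046 := d28_1 D3294 (iv D3046) (iv F9794)
theorem F13116 : act 6 n3294 = n3294 := d33_1 D3294 (iv D3294) F9795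
def n3295 : Q := act 6 n2416
theorem D3295 : act 6 n2416 = n3295 := rfl
theorem F13117 : act 0 n3295 = n2420 := d5_1 D3295 (iv D2420) (iv F9797)
theorem F13118 : act 1 n3295 = n3222 := d12_1 D3295 (iv D3222) (iv F9798)
theorem F13119 : act 2 n3295 = n2593 := d18_1 D3295 (iv D2593) (iv F9799)
theorem F13120 : act 4 n3295 = n3295 := d27_1 D3295 (iv D3295) F9800
theorem F13121 : act 5 n3295 = n3295 := d30_1 D3295 (iv D3295) (iv D2416) F7335 D2416
theorem F13122 : act 8 n3295 = n2428 := d34_2 (iv F9801) D3295 (iv D2428)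
def n3296 : Q := act 5 n2417
theorem D3296 : act 5 n2417 = n3296 := rfl
theorem F13123 : act 1 n3296 = n2443 := d11_1 D3296 (iv D2443) (iv F9802)
theorem F13124 : act 2 n3296 = n2418 := d17_1 D3296 (iv D2418) D2417
theorem F13125 : act 3 n3296 = n2594 := d22_1 D3296 (iv D2594) (iv F9803)
theorem F13126 : act 8 n3296 = n2429 := d32_2 (iv F9806) D3296 (iv D2429)
def n3297 : Q := act 7 n2417
theorem D3297 : act 7 n2417 = n3297 := rfl
theorem F13127 : act 1 n3297 = n2444 := d13_1 D3297 (iv D2444) (iv F9802)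
theorem F13128 : act 2 n3297 = n2419 := d19_1 D3297 (iv D2419) D2417
theorem F13129 : act 4 n3297 = n3049 := d28_1 D3297 (iv D3049) (iv F9804)
theorem F13130 : act 6 n3297 = n3297 := d33_1 D3297 (iv D3297) F9805
def n3298 : Q := act 4 n2418
theorem D3298 : act 4 n2418 = n3298 := rfl
theorem F13131 : act 1 n3298 = n2421 := d10_1 D3298 (iv D2421) (iv F9807)
theorem F13132 : act 3 n3298 = n3298 := d21_1 D3298 (iv D3298) F9808 F7343 (iv F9808)
theorem F13133 : act 5 n3298 = n3050 := d26_2 D2418 D3298 (iv D3050) (iv D2243) (iv F7338)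
theorem F13134 : act 8 n3298 = n2431 := d29_2 (iv F9809) D3298 (iv D2431)
def n3299 : Q := act 6 n2418
theorem D3299 : act 6 n2418 = n3299 := rfl
theorem F13135 : act 1 n3299 = n2422 := d12_1 D3299 (iv D2422) (iv F9807)
theorem F13136 : act 3 n3299 = n2420 := d23_1 D3299 (iv D2420) (iv F9808)
theorem F13137 : act 5 n3299 = n3299 := d30_1 D3299 (iv D3299) (iv D2418) F7339 D2418
theorem F13138 : act 8 n3299 = n2432 := d34_2 (iv F9809) D3299 (iv D2432)
def n3300 : Q := act 7 n2418
theorem D3300 : act 7 n2418 = n3300 := rfl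
theorem F13139 : act 1 n3300 = n2423 := d13_1 D3300 (iv D2423) (iv F9807)
theorem F13140 : act 5 n3300 = n2419 := d31_1 D3300 (iv D2419) D2418
def n3301 : Q := act 8 n2419
theorem D3301 : act 8 n2419 = n3301 := rfl
theorem F13141 : act 1 n3301 = n2424 := d14_1 D3301 (iv D2424) (iv F9810)
theorem F13142 : act 4 n3301 = n3053 := d29_1 D3301 (iv D3053) (iv F9811)
theorem F13143 : act 6 n3301 = n3301 := d34_1 D3301 (iv D3301) F9812
theorem F13144 : act 7 n3301 = n2434 := d35_1 D3301 (iv D2434) (iv D1781) (iv F7340) D2419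
def n3302 : Q := act 6 n2421
theorem D3302 : act 6 n2421 = n3302 := rfl
theorem F13145 : act 0 n3302 = n3229 := d5_1 D3302 (iv D3229) (iv F9818)
theorem F13146 : act 2 n3302 = n2449 := d18_1 D3302 (iv D2449) (iv F9819)
theorem F13147 : act 3 n3302 = n3302 := d23_1 D3302 (iv D3302) F9820
theorem F13148 : act 4 n3302 = n2422 := d27_1 D3302 (iv D2422) D2421
theorem F13149 : act 8 n3302 = n2435 := d34_2 (iv F9822) D3302 (iv D2435)
def n3303 : Q := act 7 n2421
theorem D3303 : act 7 n2421 = n3303 := rfl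
theorem F13150 : act 0 n3303 = n3230 := d6_1 D3303 (iv D3230) (iv F9818)
theorem F13151 : act 2 n3303 = n2450 := d19_1 D3303 (iv D2450) (iv F9819)
theorem F13152 : act 4 n3303 = n2423 := d28_1 D3303 (iv D2423) D2421
theorem F13153 : act 5 n3303 = n3055 := d31_1 D3303 (iv D3055) (iv F9821)
def n3304 : Q := act 7 n2422
theorem D3304 : act 7 n2422 = n3304 := rfl
theorem F13154 : act 0 n3304 = n3231 := d6_1 D3304 (iv D3231) (iv F9823)
theorem F13155 : act 2 n3304 = n2451 := d19_1 D3304 (iv D2451) (iv F9824)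
theorem F13156 : act 5 n3304 = n3304 := d31_1 D3304 (iv D3304) F9826
theorem F13157 : act 6 n3304 = n2423 := d33_1 D3304 (iv D2423) D2422
def n3305 : Q := act 8 n2423
theorem D3305 : act 8 n2423 = n3305 := rfl
theorem F13158 : act 0 n3305 = n3232 := d7_1 D3305 (iv D3232) (iv F9828)
theorem F13159 : act 2 n3305 = n2452 := d20_1 D3305 (iv D2452) (iv F9829)
theorem F13160 : act 5 n3305 = n2424 := d32_1 D3305 (iv D2424) (iv F9830)
theorem F13161 : act 7 n3305 = n2438 := d35_1 D3305 (iv D2438) (iv D1785) (iv F7348) D2423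
def n3306 : Q := act 1 n2425
theorem D3306 : act 1 n2425 = n3306 := rfl
theorem F13162 : act 0 n3306 = n2453 := d0_1 D3306 (iv D2453) F7432 (iv F7364) (iv F9836)
theorem F13163 : act 3 n3306 = n2604 := d9_2 (iv F9837) D3306 (iv D2604)
theorem F13164 : act 6 n3306 = n3306 := d12_2 F9838 D3306 (iv D3306)
def n3307 : Q := act 5 n2425
theorem D3307 : act 5 n2425 = n3307 := rfl
theorem F13165 : act 0 n3307 = n2429 := d4_1 D3307 (iv D2429) (iv F9836)
theorem F13166 : act 2 n3307 = n2426 := d17_1 D3307 (iv D2426) D2425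
theorem F13167 : act 3 n3307 = n2605 := d22_1 D3307 (iv D2605) (iv F9837)
def n3308 : Q := act 7 n2425
theorem D3308 : act 7 n2425 = n3308 := rfl
theorem F13168 : act 0 n3308 = n2430 := d6_1 D3308 (iv D2430) (iv F9836)
theorem F13169 : act 2 n3308 = n2427 := d19_1 D3308 (iv D2427) D2425
theorem F13170 : act 6 n3308 = n3308 := d33_1 D3308 (iv D3308) F9838
def n3309 : Q := act 4 n2426
theorem D3309 : act 4 n2426 = n3309 := rfl
theorem F13171 : act 0 n3309 = n2431 := d3_1 D3309 (iv D2431) (iv F9839)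
theorem F13172 : act 3 n3309 = n3309 := d21_1 D3309 (iv D3309) F9840 F7362 (iv F9840)
def n3310 : Q := act 6 n2426
theorem D3310 : act 6 n2426 = n3310 := rfl
theorem F13173 : act 0 n3310 = n2432 := d5_1 D3310 (iv D2432) (iv F9839)
theorem F13174 : act 3 n3310 = n2428 := d23_1 D3310 (iv D2428) (iv F9840)
theorem F13175 : act 5 n3310 = n3310 := d30_1 D3310 (iv D3310) (iv D2426) F7359 D2426
def n3311 : Q := act 7 n2426
theorem D3311 : act 7 n2426 = n3311 := rfl
theorem F13176 : act 0 n3311 = n2433 := d6_1 D3311 (iv D2433) (iv F9839)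
theorem F13177 : act 3 n3311 = n3311 := d24_1 D3311 (iv D3311) F9840 F7363 (iv F9840)
theorem F13178 : act 5 n3311 = n2427 := d31_1 D3311 (iv D2427) D2426
def n3312 : Q := act 8 n2427
theorem D3312 : act 8 n2427 = n3312 := rfl
theorem F13179 : act 0 n3312 = n2434 := d7_1 D3312 (iv D2434) (iv F9841)
theorem F13180 : act 3 n3312 = n3312 := d25_1 D3312 (iv D3312) F9842
theorem F13181 : act 6 n3312 = n3312 := d34_1 D3312 (iv D3312) F9843
def n3313 : Q := act 4 n2429
theorem D3313 : act 4 n2429 = n3313 := rfl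
theorem F13182 : act 1 n3313 = n2460 := d10_1 D3313 (iv D2460) (iv F9849)
theorem F13183 : act 2 n3313 = n2431 := d16_1 D3313 (iv D2431) (iv F9850)
def n3314 : Q := act 6 n2429
theorem D3314 : act 6 n2429 = n3314 := rfl
theorem F13184 : act 1 n3314 = n2461 := d12_1 D3314 (iv D2461) (iv F9849)
theorem F13185 : act 2 n3314 = n2432 := d18_1 D3314 (iv D2432) (iv F9850)
theorem F13186 : act 3 n3314 = n2612 := d23_1 D3314 (iv D2612) (iv F9851)
theorem F13187 : act 5 n3314 = n3314 := d30_1 D3314 (iv D3314) (iv D2429) F7366 D2429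
def n3315 : Q := act 7 n2429
theorem D3315 : act 7 n2429 = n3315 := rfl
theorem F13188 : act 1 n3315 = n2462 := d13_1 D3315 (iv D2462) (iv F9849)
theorem F13189 : act 2 n3315 = n2433 := d19_1 D3315 (iv D2433) (iv F9850)
theorem F13190 : act 5 n3315 = n2430 := d31_1 D3315 (iv D2430) D2429
def n3316 : Q := act 3 n2430
theorem D3316 : act 3 n2430 = n3316 := rfl
theorem F13191 : act 1 n3316 = n2463 := d9_1 D3316 (iv D2463) (iv F9852)
theorem F13192 : act 2 n3316 = n3316 := d15_1 D3316 (iv D3316) F9853 F7370 (iv F9853)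
theorem F13193 : act 6 n3316 = n3316 := d23_2 F9854 D3316 (iv D3316)
theorem F13194 : act 7 n3316 = n2614 := d24_2 D2430 D3316 (iv D2614) (iv D1913) (iv F7365)
def n3317 : Q := act 8 n2430
theorem D3317 : act 8 n2430 = n3317 := rfl
theorem F13195 : act 1 n3317 = n2464 := d14_1 D3317 (iv D2464) (iv F9852)
theorem F13196 : act 2 n3317 = n2434 := d20_1 D3317 (iv D2434) (iv F9853)
theorem F13197 : act 6 n3317 = n3317 := d34_1 D3317 (iv D3317) F9854
def n3318 : Q := act 6 n2431
theorem D3318 : act 6 n2431 = n3318 := rfl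
theorem F13198 : act 1 n3318 = n2435 := d12_1 D3318 (iv D2435) (iv F9855)
theorem F13199 : act 3 n3318 = n3318 := d23_1 D3318 (iv D3318) F9856
theorem F13200 : act 4 n3318 = n2432 := d27_1 D3318 (iv D2432) D2431
def n3319 : Q := act 7 n2431
theorem D3319 : act 7 n2431 = n3319 := rfl
theorem F13201 : act 1 n3319 = n2436 := d13_1 D3319 (iv D2436) (iv F9855)
theorem F13202 : act 4 n3319 = n2433 := d28_1 D3319 (iv D2433) D2431
def n3320 : Q := act 7 n2432
theorem D3320 : act 7 n2432 = n3320 := rfl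
theorem F13203 : act 1 n3320 = n2437 := d13_1 D3320 (iv D2437) (iv F9857)
theorem F13204 : act 3 n3320 = n3320 := d24_1 D3320 (iv D3320) F9858 F7376 (iv F9858)
theorem F13205 : act 5 n3320 = n3320 := d31_1 D3320 (iv D3320) F9859
theorem F13206 : act 6 n3320 = n2433 := d33_1 D3320 (iv D2433) D2432
def n3321 : Q := act 8 n2433
theorem D3321 : act 8 n2433 = n3321 := rfl
theorem F13207 : act 1 n3321 = n2438 := d14_1 D3321 (iv D2438) (iv F9860)
theorem F13208 : act 3 n3321 = n3321 := d25_1 D3321 (iv D3321) F9861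
theorem F13209 : act 5 n3321 = n2434 := d32_1 D3321 (iv D2434) (iv F9862)
def n3322 : Q := act 5 n2435
theorem D3322 : act 5 n2435 = n3322 := rfl
theorem F13210 : act 2 n3322 = n2469 := d17_1 D3322 (iv D2469) (iv F9866)
theorem F13211 : act 3 n3322 = n3322 := d22_1 D3322 (iv D3322) F9867
theorem F13212 : act 4 n3322 = n3322 := d26_1 D3322 (iv D3322) F9868 F7381 (iv F9868)
def n3323 : Q := act 7 n2435
theorem D3323 : act 7 n2435 = n3323 := rfl
theorem F13213 : act 2 n3323 = n2470 := d19_1 D3323 (iv D2470) (iv F9866)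
theorem F13214 : act 4 n3323 = n2437 := d28_1 D3323 (iv D2437) (iv F9868)
theorem F13215 : act 6 n3323 = n2436 := d33_1 D3323 (iv D2436) D2435
def n3324 : Q := act 3 n2436
theorem D3324 : act 3 n2436 = n3324 := rfl
theorem F13216 : act 4 n3324 = n3324 := d21_2 (iv F9870) D3324 (iv D3324) F9870 F7383
theorem F13217 : act 7 n3324 = n3324 := d24_2 D2436 D3324 (iv D3324) (iv D2436) F7378
def n3325 : Q := act 8 n2436
theorem D3325 : act 8 n2436 = n3325 := rfl
theorem F13218 : act 2 n3325 = n2472 := d20_1 D3325 (iv D2472) (iv F9869)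
theorem F13219 : act 4 n3325 = n2438 := d29_1 D3325 (iv D2438) (iv F9870)
def n3326 : Q := act 8 n2437
theorem D3326 : act 8 n2437 = n3326 := rfl
theorem F13220 : act 2 n3326 = n2473 := d20_1 D3326 (iv D2473) (iv F9871)
theorem F13221 : act 3 n3326 = n3326 := d25_1 D3326 (iv D3326) F9872
theorem F13222 : act 5 n3326 = n3326 := d32_1 D3326 (iv D3326) F9873
theorem F13223 : act 6 n3326 = n2438 := d34_1 D3326 (iv D2438) (iv F9874)
def n3327 : Q := act 1 n2439
theorem D3327 : act 1 n2439 = n3327 := rfl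
theorem F13224 : act 2 n3327 = n3233 := d8_2 D2439 D3327 (iv D3233) (iv D2374) (iv F7389)
theorem F13225 : act 3 n3327 = n2625 := d9_2 (iv F9879) D3327 (iv D2625)
theorem F13226 : act 4 n3327 = n3058 := d10_2 (iv F9880) D3327 (iv D3058)
theorem F13227 : act 6 n3327 = n3327 := d12_2 F9881 D3327 (iv D3327)
theorem F13228 : act 8 n3327 = n2453 := d14_2 (iv F9882) D3327 (iv D2453)
def n3328 : Q := act 5 n2439
theorem D3328 : act 5 n2439 = n3328 := rfl
theorem F13229 : act 0 n3328 = n2443 := d4_1 D3328 (iv D2443) (iv F9878)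
theorem F13230 : act 2 n3328 = n2440 := d17_1 D3328 (iv D2440) D2439
theorem F13231 : act 3 n3328 = n2626 := d22_1 D3328 (iv D2626) (iv F9879)
theorem F13232 : act 8 n3328 = n2454 := d32_2 (iv F9882) D3328 (iv D2454)
def n3329 : Q := act 7 n2439
theorem D3329 : act 7 n2439 = n3329 := rfl
theorem F13233 : act 0 n3329 = n2444 := d6_1 D3329 (iv D2444) (iv F9878)
theorem F13234 : act 2 n3329 = n2441 := d19_1 D3329 (iv D2441) D2439
theorem F13235 : act 4 n3329 = n3060 := d28_1 D3329 (iv D3060) (iv F9880)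
theorem F13236 : act 6 n3329 = n3329 := d33_1 D3329 (iv D3329) F9881
def n3330 : Q := act 4 n2440
theorem D3330 : act 4 n2440 = n3330 := rfl
theorem F13237 : act 0 n3330 = n2445 := d3_1 D3330 (iv D2445) (iv F9883)
theorem F13238 : act 1 n3330 = n3236 := d10_1 D3330 (iv D3236) (iv F9884)
theorem F13239 : act 3 n3330 = n2477 := d21_1 D3330 (iv D2477) F7475 (iv F7396) (iv F9885)
theorem F13240 : act 5 n3330 = n3061 := d26_2 D2440 D3330 (iv D3061) (iv D2251) (iv F7390)
theorem F13241 : act 8 n3330 = n2456 := d29_2 (iv F9886) D3330 (iv D2456)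
def n3331 : Q := act 6 n2440
theorem D3331 : act 6 n2440 = n3331 := rfl
theorem F13242 : act 0 n3331 = n2446 := d5_1 D3331 (iv D2446) (iv F9883)
theorem F13243 : act 1 n3331 = n3237 := d12_1 D3331 (iv D3237) (iv F9884)
theorem F13244 : act 3 n3331 = n2442 := d23_1 D3331 (iv D2442) (iv F9885)
theorem F13245 : act 5 n3331 = n3331 := d30_1 D3331 (iv D3331) (iv D2440) F7391 D2440
theorem F13246 : act 8 n3331 = n2457 := d34_2 (iv F9886) D3331 (iv D2457)
def n3332 : Q := act 7 n2440
theorem D3332 : act 7 n2440 = n3332 := rfl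
theorem F13247 : act 0 n3332 = n2447 := d6_1 D3332 (iv D2447) (iv F9883)
theorem F13248 : act 1 n3332 = n3238 := d13_1 D3332 (iv D3238) (iv F9884)
theorem F13249 : act 3 n3332 = n3332 := d24_1 D3332 (iv D3332) F9885 F7397 (iv F9885)
theorem F13250 : act 5 n3332 = n2441 := d31_1 D3332 (iv D2441) D2440
def n3333 : Q := act 8 n2441
theorem D3333 : act 8 n2441 = n3333 := rfl
theorem F13251 : act 0 n3333 = n2448 := d7_1 D3333 (iv D2448) (iv F9887)
theorem F13252 : act 1 n3333 = n3239 := d14_1 D3333 (iv D3239) (iv F9888)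
theorem F13253 : act 3 n3333 = n3333 := d25_1 D3333 (iv D3333) F9889
theorem F13254 : act 4 n3333 = n3064 := d29_1 D3333 (iv D3064) (iv F9890)
theorem F13255 : act 6 n3333 = n3333 := d34_1 D3333 (iv D3333) F9891
theorem F13256 : act 7 n3333 = n2459 := d35_1 D3333 (iv D2459) (iv D1799) (iv F7392) D2441
def n3334 : Q := act 4 n2443
theorem D3334 : act 4 n2443 = n3334 := rfl
theorem F13257 : act 2 n3334 = n2445 := d16_1 D3334 (iv D2445) (iv F9899)
theorem F13258 : act 5 n3334 = n3065 := d26_2 D2443 D3334 (iv D3065) (iv D2254) (iv F7400)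
theorem F13259 : act 8 n3334 = n2460 := d29_2 (iv F9901) D3334 (iv D2460)
def n3335 : Q := act 6 n2443
theorem D3335 : act 6 n2443 = n3335 := rfl
theorem F13260 : act 2 n3335 = n2446 := d18_1 D3335 (iv D2446) (iv F9899)
theorem F13261 : act 3 n3335 = n2633 := d23_1 D3335 (iv D2633) (iv F9900)
theorem F13262 : act 5 n3335 = n3335 := d30_1 D3335 (iv D3335) (iv D2443) F7401 D2443
theorem F13263 : act 8 n3335 = n2461 := d34_2 (iv F9901) D3335 (iv D2461)
def n3336 : Q := act 7 n2443
theorem D3336 : act 7 n2443 = n3336 := rfl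
theorem F13264 : act 2 n3336 = n2447 := d19_1 D3336 (iv D2447) (iv F9899)
theorem F13265 : act 5 n3336 = n2444 := d31_1 D3336 (iv D2444) D2443
def n3337 : Q := act 3 n2444
theorem D3337 : act 3 n2444 = n3337 := rfl
theorem F13266 : act 2 n3337 = n3337 := d15_1 D3337 (iv D3337) F9902 F7407 (iv F9902)
theorem F13267 : act 6 n3337 = n3337 := d23_2 F9904 D3337 (iv D3337)
theorem F13268 : act 7 n3337 = n2635 := d24_2 D2444 D3337 (iv D2635) (iv D1927) (iv F7399)
def n3338 : Q := act 8 n2444
theorem D3338 : act 8 n2444 = n3338 := rfl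
theorem F13269 : act 2 n3338 = n2448 := d20_1 D3338 (iv D2448) (iv F9902)
theorem F13270 : act 4 n3338 = n3069 := d29_1 D3338 (iv D3069) (iv F9903)
theorem F13271 : act 6 n3338 = n3338 := d34_1 D3338 (iv D3338) F9904
theorem F13272 : act 7 n3338 = n2464 := d35_1 D3338 (iv D2464) (iv D1802) (iv F7402) D2444
def n3339 : Q := act 6 n2445
theorem D3339 : act 6 n2445 = n3339 := rfl
theorem F13273 : act 1 n3339 = n2449 := d12_1 D3339 (iv D2449) (iv F9905)
theorem F13274 : act 3 n3339 = n2486 := d23_1 D3339 (iv D2486) (iv F9906)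
theorem F13275 : act 4 n3339 = n2446 := d27_1 D3339 (iv D2446) D2445
theorem F13276 : act 8 n3339 = n2465 := d34_2 (iv F9908) D3339 (iv D2465)
def n3340 : Q := act 7 n2445
theorem D3340 : act 7 n2445 = n3340 := rfl
theorem F13277 : act 1 n3340 = n2450 := d13_1 D3340 (iv D2450) (iv F9905)
theorem F13278 : act 4 n3340 = n2447 := d28_1 D3340 (iv D2447) D2445
theorem F13279 : act 5 n3340 = n3071 := d31_1 D3340 (iv D3071) (iv F9907)
def n3341 : Q := act 7 n2446
theorem D3341 : act 7 n2446 = n3341 := rfl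
theorem F13280 : act 1 n3341 = n2451 := d13_1 D3341 (iv D2451) (iv F9909)
theorem F13281 : act 3 n3341 = n3341 := d24_1 D3341 (iv D3341) F9910 F7414 (iv F9910)
theorem F13282 : act 5 n3341 = n3341 := d31_1 D3341 (iv D3341) F9911
theorem F13283 : act 6 n3341 = n2447 := d33_1 D3341 (iv D2447) D2446
def n3342 : Q := act 8 n2447
theorem D3342 : act 8 n2447 = n3342 := rfl
theorem F13284 : act 1 n3342 = n2452 := d14_1 D3342 (iv D2452) (iv F9913)
theorem F13285 : act 3 n3342 = n3342 := d25_1 D3342 (iv D3342) F9914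
theorem F13286 : act 5 n3342 = n2448 := d32_1 D3342 (iv D2448) (iv F9915)
theorem F13287 : act 7 n3342 = n2468 := d35_1 D3342 (iv D2468) (iv D1805) (iv F7405) D2447
def n3343 : Q := act 5 n2449
theorem D3343 : act 5 n2449 = n3343 := rfl
theorem F13288 : act 0 n3343 = n3249 := d4_1 D3343 (iv D3249) (iv F9921)
theorem F13289 : act 3 n3343 = n2490 := d22_1 D3343 (iv D2490) (iv F9922)
def n3344 : Q := act 7 n2449
theorem D3344 : act 7 n2449 = n3344 := rfl
theorem F13293 : act 0 n3344 = n3250 := d6_1 D3344 (iv D3250) (iv F9921)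
theorem F13294 : act 4 n3344 = n2451 := d28_1 D3344 (iv D2451) (iv F9923)
theorem F13295 : act 6 n3344 = n2450 := d33_1 D3344 (iv D2450) D2449
def n3345 : Q := act 3 n2450
theorem D3345 : act 3 n2450 = n3345 := rfl
theorem F13296 : act 0 n3345 = n3251 := d2_1 D3345 (iv D3251) (iv F9925)
theorem F13297 : act 4 n3345 = n3345 := d21_2 (iv F9926) D3345 (iv D3345) F9926 F7425
theorem F13298 : act 5 n3345 = n3076 := d22_2 (iv F9927) D3345 (iv D3076)
theorem F13299 : act 7 n3345 = n2492 := d24_2 D2450 D3345 (iv D2492) (iv D1822) (iv F7417)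
def n3346 : Q := act 8 n2450
theorem D3346 : act 8 n2450 = n3346 := rfl
theorem F13300 : act 0 n3346 = n3252 := d7_1 D3346 (iv D3252) (iv F9925)
theorem F13301 : act 4 n3346 = n2452 := d29_1 D3346 (iv D2452) (iv F9926)
theorem F13302 : act 5 n3346 = n3077 := d32_1 D3346 (iv D3077) (iv F9927)
theorem F13303 : act 7 n3346 = n2472 := d35_1 D3346 (iv D2472) (iv D1808) (iv F7419) D2450
def n3347 : Q := act 8 n2451
theorem D3347 : act 8 n2451 = n3347 := rfl
theorem F13304 : act 0 n3347 = n3253 := d7_1 D3347 (iv D3253) (iv F9928)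
theorem F13305 : act 3 n3347 = n3347 := d25_1 D3347 (iv D3347) F9929
theorem F13306 : act 5 n3347 = n3347 := d32_1 D3347 (iv D3347) F9930
theorem F13307 : act 6 n3347 = n2452 := d34_1 D3347 (iv D2452) (iv F9931)
theorem F13308 : act 7 n3347 = n2473 := d35_1 D3347 (iv D2473) (iv D1809) (iv F7423) D2451
def n3348 : Q := act 5 n2453
theorem D3348 : act 5 n2453 = n3348 := rfl
theorem F13309 : act 1 n3348 = n2454 := d11_1 D3348 (iv D2454) D2453
theorem F13310 : act 3 n3348 = n2646 := d22_1 D3348 (iv D2646) (iv F9936)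
def n3349 : Q := act 7 n2453
theorem D3349 : act 7 n2453 = n3349 := rfl
theorem F13311 : act 1 n3349 = n2455 := d13_1 D3349 (iv D2455) D2453
theorem F13312 : act 6 n3349 = n3349 := d33_1 D3349 (iv D3349) F9937
def n3350 : Q := act 4 n2454
theorem D3350 : act 4 n2454 = n3350 := rfl
theorem F13313 : act 0 n3350 = n2460 := d3_1 D3350 (iv D2460) (iv F9938)
theorem F13314 : act 2 n3350 = n2456 := d16_1 D3350 (iv D2456) (iv F9939)
def n3351 : Q := act 6 n2454
theorem D3351 : act 6 n2454 = n3351 := rfl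
theorem F13315 : act 0 n3351 = n2461 := d5_1 D3351 (iv D2461) (iv F9938)
theorem F13316 : act 2 n3351 = n2457 := d18_1 D3351 (iv D2457) (iv F9939)
theorem F13317 : act 3 n3351 = n2649 := d23_1 D3351 (iv D2649) (iv F9940)
theorem F13318 : act 5 n3351 = n3351 := d30_1 D3351 (iv D3351) (iv D2454) F7434 D2454
def n3352 : Q := act 7 n2454
theorem D3352 : act 7 n2454 = n3352 := rfl
theorem F13319 : act 0 n3352 = n2462 := d6_1 D3352 (iv D2462) (iv F9938)
theorem F13320 : act 2 n3352 = n2458 := d19_1 D3352 (iv D2458) (iv F9939)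
theorem F13321 : act 5 n3352 = n2455 := d31_1 D3352 (iv D2455) D2454
def n3353 : Q := act 3 n2455
theorem D3353 : act 3 n2455 = n3353 := rfl
theorem F13322 : act 0 n3353 = n2463 := d2_1 D3353 (iv D2463) (iv F9941)
theorem F13323 : act 2 n3353 = n2525 := d15_1 D3353 (iv D2525) F7596 (iv F7438) (iv F9942)
theorem F13324 : act 6 n3353 = n3353 := d23_2 F9943 D3353 (iv D3353)
theorem F13325 : act 7 n3353 = n2651 := d24_2 D2455 D3353 (iv D2651) (iv D1938) (iv F7433)
def n3354 : Q := act 8 n2455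
theorem D3354 : act 8 n2455 = n3354 := rfl
theorem F13326 : act 0 n3354 = n2464 := d7_1 D3354 (iv D2464) (iv F9941)
theorem F13327 : act 2 n3354 = n2459 := d20_1 D3354 (iv D2459) (iv F9942)
theorem F13328 : act 6 n3354 = n3354 := d34_1 D3354 (iv D3354) F9943
def n3355 : Q := act 6 n2456
theorem D3355 : act 6 n2456 = n3355 := rfl
theorem F13329 : act 0 n3355 = n2465 := d5_1 D3355 (iv D2465) (iv F9944)
theorem F13330 : act 3 n3355 = n2501 := d23_1 D3355 (iv D2501) (iv F9945)
theorem F13331 : act 4 n3355 = n2457 := d27_1 D3355 (iv D2457) D2456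
def n3356 : Q := act 7 n2456
theorem D3356 : act 7 n2456 = n3356 := rfl
theorem F13332 : act 0 n3356 = n2466 := d6_1 D3356 (iv D2466) (iv F9944)
theorem F13333 : act 4 n3356 = n2458 := d28_1 D3356 (iv D2458) D2456
def n3357 : Q := act 7 n2457
theorem D3357 : act 7 n2457 = n3357 := rfl
theorem F13334 : act 0 n3357 = n2467 := d6_1 D3357 (iv D2467) (iv F9946)
theorem F13335 : act 3 n3357 = n2529 := d24_1 D3357 (iv D2529) F7604 (iv F7444) (iv F9947)
theorem F13336 : act 5 n3357 = n3357 := d31_1 D3357 (iv D3357) F9948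
theorem F13337 : act 6 n3357 = n2458 := d33_1 D3357 (iv D2458) D2457
def n3358 : Q := act 8 n2458
theorem D3358 : act 8 n2458 = n3358 := rfl
theorem F13338 : act 0 n3358 = n2468 := d7_1 D3358 (iv D2468) (iv F9949)
theorem F13339 : act 3 n3358 = n2530 := d25_1 D3358 (iv D2530) (iv F9950)
theorem F13340 : act 5 n3358 = n2459 := d32_1 D3358 (iv D2459) (iv F9951)
def n3359 : Q := act 3 n2460
theorem D3359 : act 3 n2460 = n3359 := rfl
theorem F13341 : act 2 n3359 = n2505 := d15_1 D3359 (iv D2505) F7550 (iv F7450) (iv F9955)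
theorem F13342 : act 4 n3359 = n2657 := d21_2 D2460 D3359 (iv D2657) (iv D1943) (iv F7446)
def n3360 : Q := act 6 n2460
theorem D3360 : act 6 n2460 = n3360 := rfl
theorem F13343 : act 2 n3360 = n2465 := d18_1 D3360 (iv D2465) (iv F9955)
theorem F13344 : act 4 n3360 = n2461 := d27_1 D3360 (iv D2461) D2460
def n3361 : Q := act 7 n2460
theorem D3361 : act 7 n2460 = n3361 := rfl
theorem F13345 : act 2 n3361 = n2466 := d19_1 D3361 (iv D2466) (iv F9955)
theorem F13346 : act 4 n3361 = n2462 := d28_1 D3361 (iv D2462) D2460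
def n3362 : Q := act 7 n2461
theorem D3362 : act 7 n2461 = n3362 := rfl
theorem F13347 : act 2 n3362 = n2467 := d19_1 D3362 (iv D2467) (iv F9956)
theorem F13348 : act 5 n3362 = n3362 := d31_1 D3362 (iv D3362) F9958
theorem F13349 : act 6 n3362 = n2462 := d33_1 D3362 (iv D2462) D2461
def n3363 : Q := act 3 n2462
theorem D3363 : act 3 n2462 = n3363 := rfl
theorem F13350 : act 2 n3363 = n2534 := d15_1 D3363 (iv D2534) F7624 (iv F7455) (iv F9959)
theorem F13351 : act 5 n3363 = n2463 := d22_2 (iv F9960) D3363 (iv D2463)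
theorem F13352 : act 7 n3363 = n2661 := d24_2 D2462 D3363 (iv D2661) (iv D1945) (iv F7446)
def n3364 : Q := act 8 n2462
theorem D3364 : act 8 n2462 = n3364 := rfl
theorem F13353 : act 2 n3364 = n2468 := d20_1 D3364 (iv D2468) (iv F9959)
theorem F13354 : act 5 n3364 = n2464 := d32_1 D3364 (iv D2464) (iv F9960)
def n3365 : Q := act 4 n2463
theorem D3365 : act 4 n2463 = n3365 := rfl
theorem F13355 : act 2 n3365 = n2536 := d16_1 D3365 (iv D2536) (iv F9961)
theorem F13356 : act 6 n3365 = n3365 := d27_2 F9962 D3365 (iv D3365)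
theorem F13357 : act 7 n3365 = n2663 := d28_2 (iv F9963) D3365 (iv D2663)
def n3366 : Q := act 8 n2463
theorem D3366 : act 8 n2463 = n3366 := rfl
theorem F13358 : act 2 n3366 = n2537 := d20_1 D3366 (iv D2537) (iv F9961)
theorem F13359 : act 3 n3366 = n2464 := d25_1 D3366 (iv D2464) D2463
theorem F13360 : act 6 n3366 = n3366 := d34_1 D3366 (iv D3366) F9962
def n3367 : Q := act 5 n2465
theorem D3367 : act 5 n2465 = n3367 := rfl
theorem F13361 : act 1 n3367 = n2469 := d11_1 D3367 (iv D2469) (iv F9966)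
theorem F13362 : act 3 n3367 = n2510 := d22_1 D3367 (iv D2510) (iv F9967)
theorem F13363 : act 4 n3367 = n3367 := d26_1 D3367 (iv D3367) F9968 F7453 (iv F9968)
def n3368 : Q := act 7 n2465
theorem D3368 : act 7 n2465 = n3368 := rfl
theorem F13364 : act 1 n3368 = n2470 := d13_1 D3368 (iv D2470) (iv F9966)
theorem F13365 : act 4 n3368 = n2467 := d28_1 D3368 (iv D2467) (iv F9968)
theorem F13366 : act 6 n3368 = n2466 := d33_1 D3368 (iv D2466) D2465
def n3369 : Q := act 3 n2466
theorem D3369 : act 3 n2466 = n3369 := rfl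
theorem F13367 : act 1 n3369 = n2471 := d9_1 D3369 (iv D2471) (iv F9969)
theorem F13368 : act 4 n3369 = n2540 := d21_2 (iv F9970) D3369 (iv D2540) F7639 (iv F7455)
theorem F13369 : act 7 n3369 = n2512 := d24_2 D2466 D3369 (iv D2512) (iv D1837) (iv F7450)
def n3370 : Q := act 8 n2466
theorem D3370 : act 8 n2466 = n3370 := rfl
theorem F13370 : act 1 n3370 = n2472 := d14_1 D3370 (iv D2472) (iv F9969)
theorem F13371 : act 4 n3370 = n2468 := d29_1 D3370 (iv D2468) (iv F9970)
def n3371 : Q := act 8 n2467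
theorem D3371 : act 8 n2467 = n3371 := rfl
theorem F13372 : act 1 n3371 = n2473 := d14_1 D3371 (iv D2473) (iv F9971)
theorem F13373 : act 3 n3371 = n2542 := d25_1 D3371 (iv D2542) (iv F9972)
theorem F13374 : act 5 n3371 = n3371 := d32_1 D3371 (iv D3371) F9973
theorem F13375 : act 6 n3371 = n2468 := d34_1 D3371 (iv D2468) (iv F9974)
def n3372 : Q := act 7 n2469
theorem D3372 : act 7 n2469 = n3372 := rfl
def n3373 : Q := act 3 n2470
theorem D3373 : act 3 n2470 = n3373 := rfl
theorem F13379 : act 6 n3373 = n2471 := d23_2 (iv F9981) D3373 (iv D2471)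
theorem F13380 : act 7 n3373 = n2516 := d24_2 D2470 D3373 (iv D2516) (iv D1841) (iv F7460)
def n3374 : Q := act 8 n2470
theorem D3374 : act 8 n2470 = n3374 := rfl
theorem F13381 : act 4 n3374 = n2473 := d29_1 D3374 (iv D2473) (iv F9980)
theorem F13382 : act 6 n3374 = n2472 := d34_1 D3374 (iv D2472) (iv F9981)
def n3375 : Q := act 2 n2471
theorem D3375 : act 2 n2471 = n3375 := rfl
theorem F13383 : act 4 n3375 = n2546 := d16_2 (iv F9982) D3375 (iv D2546)
theorem F13384 : act 7 n3375 = n2518 := d19_2 (iv F9983) D3375 (iv D2518)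
def n3376 : Q := act 8 n2471
theorem D3376 : act 8 n2471 = n3376 := rfl
theorem F13385 : act 3 n3376 = n2472 := d25_1 D3376 (iv D2472) D2471
theorem F13386 : act 4 n3376 = n2547 := d29_1 D3376 (iv D2547) (iv F9982)
def n3377 : Q := act 5 n2474
theorem D3377 : act 5 n2474 = n3377 := rfl
theorem F13387 : act 0 n3377 = n3377 := d4_1 D3377 (iv D3377) F9988
theorem F13388 : act 1 n3377 = n2475 := d11_1 D3377 (iv D2475) D2474
theorem F13389 : act 2 n3377 = n3254 := d17_1 D3377 (iv D3254) (iv F9989)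
theorem F13390 : act 3 n3377 = n2671 := d22_1 D3377 (iv D2671) (iv F9990)
theorem F13391 : act 8 n3377 = n2495 := d32_2 (iv F9993) D3377 (iv D2495)
def n3378 : Q := act 7 n2474
theorem D3378 : act 7 n2474 = n3378 := rfl
theorem F13392 : act 0 n3378 = n3378 := d6_1 D3378 (iv D3378) F9988
theorem F13393 : act 1 n3378 = n2476 := d13_1 D3378 (iv D2476) D2474
theorem F13394 : act 2 n3378 = n3255 := d19_1 D3378 (iv D3255) (iv F9989)
theorem F13395 : act 4 n3378 = n3080 := d28_1 D3378 (iv D3080) (iv F9991)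
theorem F13396 : act 6 n3378 = n2856 := d33_1 D3378 (iv D2856) (iv F9992)
def n3379 : Q := act 4 n2475
theorem D3379 : act 4 n2475 = n3379 := rfl
theorem F13397 : act 0 n3379 = n2481 := d3_1 D3379 (iv D2481) (iv F9994)
theorem F13398 : act 2 n3379 = n2477 := d16_1 D3379 (iv D2477) (iv F9995)
theorem F13399 : act 5 n3379 = n3081 := d26_2 D2475 D3379 (iv D3081) (iv D2265) (iv F7470)
theorem F13400 : act 8 n3379 = n2497 := d29_2 (iv F9997) D3379 (iv D2497)
def n3380 : Q := act 6 n2475
theorem D3380 : act 6 n2475 = n3380 := rfl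
theorem F13401 : act 0 n3380 = n2482 := d5_1 D3380 (iv D2482) (iv F9994)
theorem F13402 : act 2 n3380 = n2478 := d18_1 D3380 (iv D2478) (iv F9995)
theorem F13403 : act 3 n3380 = n2674 := d23_1 D3380 (iv D2674) (iv F9996)
theorem F13404 : act 5 n3380 = n2858 := d30_1 D3380 (iv D2858) (iv D2095) (iv F7471) D2475
theorem F13405 : act 8 n3380 = n2498 := d34_2 (iv F9997) D3380 (iv D2498)
def n3381 : Q := act 7 n2475
theorem D3381 : act 7 n2475 = n3381 := rfl
theorem F13406 : act 0 n3381 = n2483 := d6_1 D3381 (iv D2483) (iv F9994)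
theorem F13407 : act 2 n3381 = n2479 := d19_1 D3381 (iv D2479) (iv F9995)
theorem F13408 : act 5 n3381 = n2476 := d31_1 D3381 (iv D2476) D2475
def n3382 : Q := act 3 n2476
theorem D3382 : act 3 n2476 = n3382 := rfl
theorem F13409 : act 0 n3382 = n2484 := d2_1 D3382 (iv D2484) (iv F9998)
theorem F13410 : act 2 n3382 = n3382 := d15_1 D3382 (iv D3382) F9999 F7479 (iv F9999)
theorem F13411 : act 6 n3382 = n2860 := d23_2 (iv F10001) D3382 (iv D2860)
theorem F13412 : act 7 n3382 = n2676 := d24_2 D2476 D3382 (iv D2676) (iv D1958) (iv F7469)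
def n3383 : Q := act 8 n2476
theorem D3383 : act 8 n2476 = n3383 := rfl
theorem F13413 : act 0 n3383 = n2485 := d7_1 D3383 (iv D2485) (iv F9998)
theorem F13414 : act 2 n3383 = n2480 := d20_1 D3383 (iv D2480) (iv F9999)
theorem F13415 : act 4 n3383 = n3085 := d29_1 D3383 (iv D3085) (iv F10000)
theorem F13417 : act 7 n3383 = n2500 := d35_1 D3383 (iv D2500) (iv D1827) (iv F7472) D2476
def n3384 : Q := act 6 n2477
theorem D3384 : act 6 n2477 = n3384 := rfl
theorem F13418 : act 0 n3384 = n2486 := d5_1 D3384 (iv D2486) (iv F10002)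
theorem F13419 : act 1 n3384 = n3261 := d12_1 D3384 (iv D3261) (iv F10003)
theorem F13420 : act 4 n3384 = n2478 := d27_1 D3384 (iv D2478) D2477
theorem F13421 : act 8 n3384 = n2501 := d34_2 (iv F10005) D3384 (iv D2501)
def n3385 : Q := act 7 n2477
theorem D3385 : act 7 n2477 = n3385 := rfl
theorem F13422 : act 0 n3385 = n2487 := d6_1 D3385 (iv D2487) (iv F10002)
theorem F13423 : act 1 n3385 = n3262 := d13_1 D3385 (iv D3262) (iv F10003)
theorem F13424 : act 4 n3385 = n2479 := d28_1 D3385 (iv D2479) D2477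
theorem F13425 : act 5 n3385 = n3087 := d31_1 D3385 (iv D3087) (iv F10004)
def n3386 : Q := act 7 n2478
theorem D3386 : act 7 n2478 = n3386 := rfl
theorem F13426 : act 0 n3386 = n2488 := d6_1 D3386 (iv D2488) (iv F10006)
theorem F13427 : act 1 n3386 = n3263 := d13_1 D3386 (iv D3263) (iv F10007)
theorem F13429 : act 5 n3386 = n2864 := d31_1 D3386 (iv D2864) (iv F10009)
def n3387 : Q := act 8 n2479
theorem D3387 : act 8 n2479 = n3387 := rfl
theorem F13434 : act 5 n3387 = n2480 := d32_1 D3387 (iv D2480) (iv F10014)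
def n3388 : Q := act 3 n2481
theorem D3388 : act 3 n2481 = n3388 := rfl
theorem F13436 : act 1 n3388 = n3388 := d9_1 D3388 (iv D3388) F10021
theorem F13437 : act 4 n3388 = n2680 := d21_2 D2481 D3388 (iv D2680) (iv D1962) (iv F7490)
theorem F13438 : act 5 n3388 = n3090 := d22_2 (iv F10023) D3388 (iv D3090)
theorem F13439 : act 8 n3388 = n2505 := d25_2 (iv F10024) D3388 (iv D2505)
def n3389 : Q := act 6 n2481
theorem D3389 : act 6 n2481 = n3389 := rfl
theorem F13440 : act 1 n3389 = n3389 := d12_1 D3389 (iv D3389) F10021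
theorem F13441 : act 2 n3389 = n2486 := d18_1 D3389 (iv D2486) (iv F10022)
theorem F13442 : act 4 n3389 = n2482 := d27_1 D3389 (iv D2482) D2481
theorem F13443 : act 8 n3389 = n2506 := d34_2 (iv F10024) D3389 (iv D2506)
def n3390 : Q := act 7 n2481
theorem D3390 : act 7 n2481 = n3390 := rfl
theorem F13444 : act 1 n3390 = n3390 := d13_1 D3390 (iv D3390) F10021
theorem F13445 : act 2 n3390 = n2487 := d19_1 D3390 (iv D2487) (iv F10022)
theorem F13446 : act 4 n3390 = n2483 := d28_1 D3390 (iv D2483) D2481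
theorem F13447 : act 5 n3390 = n3092 := d31_1 D3390 (iv D3092) (iv F10023)
def n3391 : Q := act 7 n2482
theorem D3391 : act 7 n2482 = n3391 := rfl
theorem F13449 : act 2 n3391 = n2488 := d19_1 D3391 (iv D2488) (iv F10026)
theorem F13450 : act 5 n3391 = n2869 := d31_1 D3391 (iv D2869) (iv F10028)
theorem F13451 : act 6 n3391 = n2483 := d33_1 D3391 (iv D2483) D2482
def n3392 : Q := act 3 n2483
theorem D3392 : act 3 n2483 = n3392 := rfl
theorem F13452 : act 1 n3392 = n3392 := d9_1 D3392 (iv D3392) F10030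
theorem F13453 : act 2 n3392 = n3392 := d15_1 D3392 (iv D3392) F10031 F7504 (iv F10031)
theorem F13454 : act 5 n3392 = n2484 := d22_2 (iv F10032) D3392 (iv D2484)
theorem F13455 : act 7 n3392 = n2684 := d24_2 D2483 D3392 (iv D2684) (iv D1964) (iv F7490)
def n3393 : Q := act 8 n2483
theorem D3393 : act 8 n2483 = n3393 := rfl
theorem F13458 : act 5 n3393 = n2485 := d32_1 D3393 (iv D2485) (iv F10032)
def n3394 : Q := act 4 n2484
theorem D3394 : act 4 n2484 = n3394 := rfl
theorem F13463 : act 6 n3394 = n2872 := d27_2 (iv F10035) D3394 (iv D2872)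
theorem F13464 : act 7 n3394 = n2685 := d28_2 (iv F10036) D3394 (iv D2685)
def n3395 : Q := act 8 n2484
theorem D3395 : act 8 n2484 = n3395 := rfl
theorem F13465 : act 1 n3395 = n3395 := d14_1 D3395 (iv D3395) F10033
theorem F13466 : act 2 n3395 = n3395 := d20_1 D3395 (iv D3395) F10034
theorem F13467 : act 3 n3395 = n2485 := d25_1 D3395 (iv D2485) D2484
theorem F13469 : act 7 n3395 = n3395 := d35_1 D3395 (iv D3395) F10036 F8055 (iv F10036)
def n3396 : Q := act 5 n2486
theorem D3396 : act 5 n2486 = n3396 := rfl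
theorem F13471 : act 4 n3396 = n2874 := d26_1 D3396 (iv D2874) F8593 (iv F7501) (iv F10043)
def n3397 : Q := act 7 n2486
theorem D3397 : act 7 n2486 = n3397 := rfl
theorem F13475 : act 4 n3397 = n2488 := d28_1 D3397 (iv D2488) (iv F10043)
def n3398 : Q := act 3 n2487
theorem D3398 : act 3 n2487 = n3398 := rfl
theorem F13477 : act 1 n3398 = n2492 := d9_1 D3398 (iv D2492) (iv F10045)
theorem F13479 : act 5 n3398 = n3100 := d22_2 (iv F10047) D3398 (iv D3100)
def n3399 : Q := act 8 n2487
theorem D3399 : act 8 n2487 = n3399 := rfl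
theorem F13481 : act 4 n3399 = n2489 := d29_1 D3399 (iv D2489) (iv F10046)
def n3400 : Q := act 8 n2488
theorem D3400 : act 8 n2488 = n3400 := rfl
theorem F13484 : act 1 n3400 = n2494 := d14_1 D3400 (iv D2494) (iv F10048)
def n3401 : Q := act 7 n2490
theorem D3401 : act 7 n2490 = n3401 := rfl
theorem F13492 : act 5 n3401 = n2491 := d31_1 D3401 (iv D2491) D2490
def n3402 : Q := act 3 n2491
theorem D3402 : act 3 n2491 = n3402 := rfl
def n3403 : Q := act 8 n2491
theorem D3403 : act 8 n2491 = n3403 := rfl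
theorem F13499 : act 4 n3403 = n2494 := d29_1 D3403 (iv D2494) (iv F10063)
def n3404 : Q := act 2 n2492
theorem D3404 : act 2 n2492 = n3404 := rfl
theorem F13505 : act 5 n3404 = n3106 := d17_2 (iv F10067) D3404 (iv D3106)
def n3406 : Q := act 4 n2495
theorem D3406 : act 4 n2495 = n3406 := rfl
theorem F13510 : act 0 n3406 = n3406 := d3_1 D3406 (iv D3406) F10079
theorem F13511 : act 1 n3406 = n2497 := d10_1 D3406 (iv D2497) (iv F10080)
def n3407 : Q := act 6 n2495
theorem D3407 : act 6 n2495 = n3407 := rfl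
theorem F13512 : act 0 n3407 = n3407 := d5_1 D3407 (iv D3407) F10079
theorem F13513 : act 1 n3407 = n2498 := d12_1 D3407 (iv D2498) (iv F10080)
theorem F13514 : act 3 n3407 = n2693 := d23_1 D3407 (iv D2693) (iv F10081)
theorem F13515 : act 5 n3407 = n2885 := d30_1 D3407 (iv D2885) (iv D2115) (iv F7531) D2495
def n3408 : Q := act 7 n2495
theorem D3408 : act 7 n2495 = n3408 := rfl
theorem F13516 : act 0 n3408 = n3408 := d6_1 D3408 (iv D3408) F10079
theorem F13517 : act 1 n3408 = n2499 := d13_1 D3408 (iv D2499) (iv F10080)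
theorem F13518 : act 3 n3408 = n3408 := d24_1 D3408 (iv D3408) F10081 F8085 (iv F10081)
theorem F13519 : act 5 n3408 = n2496 := d31_1 D3408 (iv D2496) D2495
def n3409 : Q := act 8 n2496
theorem D3409 : act 8 n2496 = n3409 := rfl
theorem F13520 : act 0 n3409 = n3409 := d7_1 D3409 (iv D3409) F10082
theorem F13521 : act 1 n3409 = n2500 := d14_1 D3409 (iv D2500) (iv F10083)
theorem F13522 : act 3 n3409 = n3409 := d25_1 D3409 (iv D3409) F10084
def n3410 : Q := act 3 n2497
theorem D3410 : act 3 n2497 = n3410 := rfl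
theorem F13524 : act 0 n3410 = n2505 := d2_1 D3410 (iv D2505) (iv F10086)
theorem F13525 : act 4 n3410 = n2694 := d21_2 D2497 D3410 (iv D2694) (iv D1973) (iv F7534)
def n3411 : Q := act 6 n2497
theorem D3411 : act 6 n2497 = n3411 := rfl
theorem F13526 : act 0 n3411 = n2506 := d5_1 D3411 (iv D2506) (iv F10086)
theorem F13527 : act 2 n3411 = n2501 := d18_1 D3411 (iv D2501) (iv F10087)
theorem F13528 : act 4 n3411 = n2498 := d27_1 D3411 (iv D2498) D2497
def n3412 : Q := act 7 n2497
theorem D3412 : act 7 n2497 = n3412 := rfl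
theorem F13529 : act 0 n3412 = n2507 := d6_1 D3412 (iv D2507) (iv F10086)
theorem F13530 : act 2 n3412 = n2502 := d19_1 D3412 (iv D2502) (iv F10087)
theorem F13531 : act 4 n3412 = n2499 := d28_1 D3412 (iv D2499) D2497
def n3413 : Q := act 7 n2498
theorem D3413 : act 7 n2498 = n3413 := rfl
theorem F13535 : act 5 n3413 = n2891 := d31_1 D3413 (iv D2891) (iv F10091)
theorem F13536 : act 6 n3413 = n2499 := d33_1 D3413 (iv D2499) D2498
def n3414 : Q := act 8 n2499
theorem D3414 : act 8 n2499 = n3414 := rfl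
theorem F13540 : act 5 n3414 = n2500 := d32_1 D3414 (iv D2500) (iv F10095)
def n3415 : Q := act 5 n2501
theorem D3415 : act 5 n2501 = n3415 := rfl
theorem F13542 : act 4 n3415 = n2893 := d26_1 D3415 (iv D2893) F8648 (iv F7542) (iv F10101)
def n3416 : Q := act 7 n2501
theorem D3416 : act 7 n2501 = n3416 := rfl
theorem F13544 : act 4 n3416 = n2503 := d28_1 D3416 (iv D2503) (iv F10101)
theorem F13545 : act 6 n3416 = n2502 := d33_1 D3416 (iv D2502) D2501
def n3417 : Q := act 3 n2502
theorem D3417 : act 3 n2502 = n3417 := rfl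
theorem F13546 : act 0 n3417 = n2512 := d2_1 D3417 (iv D2512) (iv F10102)
theorem F13547 : act 4 n3417 = n2550 := d21_2 (iv F10103) D3417 (iv D2550) F7671 (iv F7544)
def n3420 : Q := act 6 n2505
theorem D3420 : act 6 n2505 = n3420 := rfl
theorem F13554 : act 1 n3420 = n3420 := d12_1 D3420 (iv D3420) F10111
theorem F13555 : act 3 n3420 = n2506 := d23_1 D3420 (iv D2506) D2505
theorem F13556 : act 4 n3420 = n2697 := d27_1 D3420 (iv D2697) (iv F10112)
def n3421 : Q := act 7 n2505
theorem D3421 : act 7 n2505 = n3421 := rfl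
theorem F13557 : act 1 n3421 = n3421 := d13_1 D3421 (iv D3421) F10111
theorem F13558 : act 4 n3421 = n2698 := d28_1 D3421 (iv D2698) (iv F10112)
def n3422 : Q := act 5 n2506
theorem D3422 : act 5 n2506 = n3422 := rfl
theorem F13561 : act 4 n3422 = n2900 := d26_1 D3422 (iv D2900) F8662 (iv F7554) (iv F10115)
def n3423 : Q := act 7 n2506
theorem D3423 : act 7 n2506 = n3423 := rfl
theorem F13565 : act 6 n3423 = n2507 := d33_1 D3423 (iv D2507) D2506
def n3424 : Q := act 3 n2507
theorem D3424 : act 3 n2507 = n3424 := rfl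
theorem F13566 : act 1 n3424 = n3424 := d9_1 D3424 (iv D3424) F10116
theorem F13567 : act 4 n3424 = n3424 := d21_2 (iv F10118) D3424 (iv D3424) F10118 F7557
def n3427 : Q := act 7 n2510
theorem D3427 : act 7 n2510 = n3427 := rfl
theorem F13577 : act 4 n3427 = n2905 := d28_1 D3427 (iv D2905) (iv F10129)
theorem F13578 : act 5 n3427 = n2511 := d31_1 D3427 (iv D2511) D2510
def n3428 : Q := act 3 n2511
theorem D3428 : act 3 n2511 = n3428 := rfl
theorem F13580 : act 4 n3428 = n2554 := d21_2 (iv F10131) D3428 (iv D2554) F7688 (iv F7568)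
theorem F13581 : act 6 n3428 = n2512 := d23_2 (iv F10132) D3428 (iv D2512)
def n3430 : Q := act 2 n2512
theorem D3430 : act 2 n2512 = n3430 := rfl
theorem F13585 : act 4 n3430 = n2556 := d16_2 (iv F10134) D3430 (iv D2556)
def n3432 : Q := act 3 n2515
theorem D3432 : act 3 n2515 = n3432 := rfl
theorem F13589 : act 5 n3432 = n2516 := d22_2 (iv F10143) D3432 (iv D2516)
def n3434 : Q := act 2 n2516
theorem D3434 : act 2 n2516 = n3434 := rfl
theorem F13594 : act 4 n3434 = n2560 := d16_2 (iv F10144) D3434 (iv D2560)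
theorem F13595 : act 6 n3434 = n2518 := d18_2 (iv F10145) D3434 (iv D2518)
def n3436 : Q := act 1 n2518
theorem D3436 : act 1 n2518 = n3436 := rfl
theorem F13599 : act 3 n3436 = n3436 := d9_2 F10149 D3436 (iv D3436)
theorem F13600 : act 4 n3436 = n2562 := d10_2 (iv F10150) D3436 (iv D2562)
def n3439 : Q := act 4 n2520
theorem D3439 : act 4 n2520 = n3439 := rfl
theorem F13605 : act 0 n3439 = n3439 := d3_1 D3439 (iv D3439) F10153
theorem F13606 : act 1 n3439 = n2522 := d10_1 D3439 (iv D2522) (iv F10154)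
theorem F13607 : act 3 n3439 = n3439 := d21_1 D3439 (iv D3439) F10155 F8111 (iv F10155)
theorem F13608 : act 5 n3439 = n3439 := d26_2 D2520 D3439 (iv D3439) (iv D2520) F7588
theorem F13609 : act 8 n3439 = n3439 := d29_2 F10156 D3439 (iv D3439)
def n3440 : Q := act 6 n2520
theorem D3440 : act 6 n2520 = n3440 := rfl
theorem F13610 : act 0 n3440 = n3440 := d5_1 D3440 (iv D3440) F10153
theorem F13611 : act 1 n3440 = n2523 := d12_1 D3440 (iv D2523) (iv F10154)
theorem F13612 : act 3 n3440 = n2700 := d23_1 D3440 (iv D2700) (iv F10155)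
theorem F13613 : act 5 n3440 = n3440 := d30_1 D3440 (iv D3440) (iv D2520) F7589 D2520
theorem F13614 : act 8 n3440 = n3440 := d34_2 F10156 D3440 (iv D3440)
def n3441 : Q := act 7 n2520
theorem D3441 : act 7 n2520 = n3441 := rfl
theorem F13615 : act 0 n3441 = n3441 := d6_1 D3441 (iv D3441) F10153
theorem F13616 : act 1 n3441 = n2524 := d13_1 D3441 (iv D2524) (iv F10154)
theorem F13617 : act 5 n3441 = n2521 := d31_1 D3441 (iv D2521) D2520
def n3442 : Q := act 3 n2521
theorem D3442 : act 3 n2521 = n3442 := rfl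
theorem F13618 : act 0 n3442 = n3442 := d2_1 D3442 (iv D3442) F10157
theorem F13619 : act 1 n3442 = n2525 := d9_1 D3442 (iv D2525) (iv F10158)
theorem F13620 : act 6 n3442 = n3442 := d23_2 F10160 D3442 (iv D3442)
theorem F13621 : act 7 n3442 = n2702 := d24_2 D2521 D3442 (iv D2702) (iv D1980) (iv F7587)
def n3443 : Q := act 8 n2521
theorem D3443 : act 8 n2521 = n3443 := rfl
theorem F13622 : act 0 n3443 = n3443 := d7_1 D3443 (iv D3443) F10157
theorem F13623 : act 1 n3443 = n2526 := d14_1 D3443 (iv D2526) (iv F10158)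
theorem F13624 : act 4 n3443 = n3443 := d29_1 D3443 (iv D3443) F10159
theorem F13625 : act 6 n3443 = n3443 := d34_1 D3443 (iv D3443) F10160
theorem F13626 : act 7 n3443 = n3443 := d35_1 D3443 (iv D3443) (iv D2521) F7590 D2521
def n3444 : Q := act 6 n2522
theorem D3444 : act 6 n2522 = n3444 := rfl
theorem F13628 : act 2 n3444 = n2527 := d18_1 D3444 (iv D2527) (iv F10162)
theorem F13630 : act 4 n3444 = n2523 := d27_1 D3444 (iv D2523) D2522
def n3445 : Q := act 7 n2522
theorem D3445 : act 7 n2522 = n3445 := rfl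
theorem F13632 : act 0 n3445 = n2532 := d6_1 D3445 (iv D2532) (iv F10161)
theorem F13633 : act 2 n3445 = n2528 := d19_1 D3445 (iv D2528) (iv F10162)
theorem F13634 : act 4 n3445 = n2524 := d28_1 D3445 (iv D2524) D2522
theorem F13635 : act 5 n3445 = n3445 := d31_1 D3445 (iv D3445) F10164
def n3446 : Q := act 7 n2523
theorem D3446 : act 7 n2523 = n3446 := rfl
theorem F13636 : act 0 n3446 = n2533 := d6_1 D3446 (iv D2533) (iv F10166)
theorem F13637 : act 2 n3446 = n2529 := d19_1 D3446 (iv D2529) (iv F10167)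
theorem F13638 : act 5 n3446 = n3446 := d31_1 D3446 (iv D3446) F10169
theorem F13639 : act 6 n3446 = n2524 := d33_1 D3446 (iv D2524) D2523
def n3447 : Q := act 3 n2524
theorem D3447 : act 3 n2524 = n3447 := rfl
theorem F13640 : act 0 n3447 = n2534 := d2_1 D3447 (iv D2534) (iv F10171)
theorem F13641 : act 5 n3447 = n2525 := d22_2 (iv F10173) D3447 (iv D2525)
theorem F13642 : act 7 n3447 = n2705 := d24_2 D2524 D3447 (iv D2705) (iv D1982) (iv F7593)
def n3448 : Q := act 8 n2524
theorem D3448 : act 8 n2524 = n3448 := rfl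
theorem F13643 : act 0 n3448 = n2535 := d7_1 D3448 (iv D2535) (iv F10171)
theorem F13644 : act 2 n3448 = n2530 := d20_1 D3448 (iv D2530) (iv F10172)
theorem F13645 : act 5 n3448 = n2526 := d32_1 D3448 (iv D2526) (iv F10173)
theorem F13646 : act 7 n3448 = n3448 := d35_1 D3448 (iv D3448) (iv D2524) F7594 D2524
def n3449 : Q := act 4 n2525
theorem D3449 : act 4 n2525 = n3449 := rfl
theorem F13647 : act 0 n3449 = n2536 := d3_1 D3449 (iv D2536) (iv F10174)
theorem F13648 : act 3 n3449 = n3449 := d21_1 D3449 (iv D3449) (iv D2525) F7597 D2525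
theorem F13649 : act 6 n3449 = n3449 := d27_2 F10175 D3449 (iv D3449)
theorem F13650 : act 7 n3449 = n2707 := d28_2 (iv F10176) D3449 (iv D2707)
def n3450 : Q := act 8 n2525
theorem D3450 : act 8 n2525 = n3450 := rfl
theorem F13651 : act 0 n3450 = n2537 := d7_1 D3450 (iv D2537) (iv F10174)
theorem F13652 : act 3 n3450 = n2526 := d25_1 D3450 (iv D2526) D2525
theorem F13653 : act 6 n3450 = n3450 := d34_1 D3450 (iv D3450) F10175
def n3452 : Q := act 7 n2527
theorem D3452 : act 7 n2527 = n3452 := rfl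
theorem F13660 : act 4 n3452 = n2529 := d28_1 D3452 (iv D2529) (iv F10184)
theorem F13661 : act 6 n3452 = n2528 := d33_1 D3452 (iv D2528) D2527
def n3453 : Q := act 3 n2528
theorem D3453 : act 3 n2528 = n3453 := rfl
theorem F13662 : act 0 n3453 = n2540 := d2_1 D3453 (iv D2540) (iv F10186)
theorem F13663 : act 5 n3453 = n3453 := d22_2 F10188 D3453 (iv D3453)
theorem F13664 : act 7 n3453 = n2550 := d24_2 D2528 D3453 (iv D2550) (iv D1867) (iv F7600)
def n3454 : Q := act 8 n2528
theorem D3454 : act 8 n2528 = n3454 := rfl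
theorem F13665 : act 0 n3454 = n2541 := d7_1 D3454 (iv D2541) (iv F10186)
theorem F13666 : act 4 n3454 = n2530 := d29_1 D3454 (iv D2530) (iv F10187)
theorem F13667 : act 5 n3454 = n3454 := d32_1 D3454 (iv D3454) F10188
theorem F13668 : act 7 n3454 = n3454 := d35_1 D3454 (iv D3454) (iv D2528) F7602 D2528
def n3455 : Q := act 8 n2529
theorem D3455 : act 8 n2529 = n3455 := rfl
theorem F13669 : act 0 n3455 = n2542 := d7_1 D3455 (iv D2542) (iv F10189)
theorem F13670 : act 5 n3455 = n3455 := d32_1 D3455 (iv D3455) F10190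
theorem F13671 : act 6 n3455 = n2530 := d34_1 D3455 (iv D2530) (iv F10191)
theorem F13672 : act 7 n3455 = n3455 := d35_1 D3455 (iv D3455) (iv D2529) F7606 D2529
def n3457 : Q := act 7 n2531
theorem D3457 : act 7 n2531 = n3457 := rfl
theorem F13680 : act 2 n3457 = n2539 := d19_1 D3457 (iv D2539) (iv F10196)
theorem F13681 : act 4 n3457 = n2533 := d28_1 D3457 (iv D2533) (iv F10198)
theorem F13682 : act 6 n3457 = n2532 := d33_1 D3457 (iv D2532) D2531
def n3458 : Q := act 3 n2532
theorem D3458 : act 3 n2532 = n3458 := rfl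
theorem F13683 : act 1 n3458 = n3458 := d9_1 D3458 (iv D3458) F10200
theorem F13684 : act 5 n3458 = n3458 := d22_2 F10203 D3458 (iv D3458)
theorem F13685 : act 7 n3458 = n3458 := d24_2 D2532 D3458 (iv D3458) (iv D2532) F7615
def n3459 : Q := act 8 n2532
theorem D3459 : act 8 n2532 = n3459 := rfl
theorem F13686 : act 1 n3459 = n3459 := d14_1 D3459 (iv D3459) F10200
theorem F13687 : act 2 n3459 = n2541 := d20_1 D3459 (iv D2541) (iv F10201)
theorem F13688 : act 4 n3459 = n2535 := d29_1 D3459 (iv D2535) (iv F10202)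
theorem F13689 : act 5 n3459 = n3459 := d32_1 D3459 (iv D3459) F10203
theorem F13690 : act 7 n3459 = n3459 := d35_1 D3459 (iv D3459) (iv D2532) F7617 D2532
def n3460 : Q := act 3 n2533
theorem D3460 : act 3 n2533 = n3460 := rfl
theorem F13691 : act 1 n3460 = n3460 := d9_1 D3460 (iv D3460) F10204
theorem F13692 : act 5 n3460 = n3460 := d22_2 F10206 D3460 (iv D3460)
theorem F13693 : act 6 n3460 = n2534 := d23_2 (iv F10207) D3460 (iv D2534)
theorem F13694 : act 7 n3460 = n2710 := d24_2 D2533 D3460 (iv D2710) (iv D1987) (iv F7620)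
def n3461 : Q := act 8 n2533
theorem D3461 : act 8 n2533 = n3461 := rfl
theorem F13695 : act 1 n3461 = n3461 := d14_1 D3461 (iv D3461) F10204
theorem F13696 : act 2 n3461 = n2542 := d20_1 D3461 (iv D2542) (iv F10205)
theorem F13697 : act 5 n3461 = n3461 := d32_1 D3461 (iv D3461) F10206
theorem F13698 : act 6 n3461 = n2535 := d34_1 D3461 (iv D2535) (iv F10207)
theorem F13699 : act 7 n3461 = n3461 := d35_1 D3461 (iv D3461) (iv D2533) F7622 D2533
def n3462 : Q := act 4 n2534
theorem D3462 : act 4 n2534 = n3462 := rfl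
theorem F13700 : act 1 n3462 = n3462 := d10_1 D3462 (iv D3462) F10208
theorem F13701 : act 7 n3462 = n2712 := d28_2 (iv F10210) D3462 (iv D2712)
def n3463 : Q := act 8 n2534
theorem D3463 : act 8 n2534 = n3463 := rfl
theorem F13702 : act 1 n3463 = n3463 := d14_1 D3463 (iv D3463) F10208
theorem F13703 : act 3 n3463 = n2535 := d25_1 D3463 (iv D2535) D2534
theorem F13704 : act 5 n3463 = n2537 := d32_1 D3463 (iv D2537) (iv F10209)
def n3464 : Q := act 5 n2536
theorem D3464 : act 5 n2536 = n3464 := rfl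
theorem F13705 : act 1 n3464 = n3464 := d11_1 D3464 (iv D3464) F10215
theorem F13706 : act 3 n3464 = n3464 := d22_1 D3464 (iv D3464) F10216
theorem F13707 : act 7 n3464 = n2714 := d31_2 (iv F10218) D3464 (iv D2714)
def n3465 : Q := act 8 n2536
theorem D3465 : act 8 n2536 = n3465 := rfl
theorem F13708 : act 1 n3465 = n3465 := d14_1 D3465 (iv D3465) F10215
theorem F13709 : act 3 n3465 = n3465 := d25_1 D3465 (iv D3465) F10216
theorem F13710 : act 4 n3465 = n2537 := d29_1 D3465 (iv D2537) D2536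
theorem F13711 : act 6 n3465 = n3465 := d34_1 D3465 (iv D3465) F10217
def n3466 : Q := act 7 n2537
theorem D3466 : act 7 n2537 = n3466 := rfl
theorem F13712 : act 1 n3466 = n3466 := d13_1 D3466 (iv D3466) F10219
theorem F13713 : act 3 n3466 = n3466 := d24_1 D3466 (iv D3466) F10220 F7633 (iv F10220)
theorem F13714 : act 6 n3466 = n3466 := d33_1 D3466 (iv D3466) F10221
theorem F13715 : act 8 n3466 = n2716 := d35_2 D2537 D3466 (iv D2716) (iv D1991) (iv F7628)
def n3468 : Q := act 3 n2539
theorem D3468 : act 3 n2539 = n3468 := rfl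
theorem F13721 : act 6 n3468 = n2540 := d23_2 (iv F10229) D3468 (iv D2540)
theorem F13722 : act 7 n3468 = n2554 := d24_2 D2539 D3468 (iv D2554) (iv D1871) (iv F7635)
def n3469 : Q := act 8 n2539
theorem D3469 : act 8 n2539 = n3469 := rfl
theorem F13724 : act 4 n3469 = n2542 := d29_1 D3469 (iv D2542) (iv F10228)
theorem F13725 : act 6 n3469 = n2541 := d34_1 D3469 (iv D2541) (iv F10229)
def n3470 : Q := act 2 n2540
theorem D3470 : act 2 n2540 = n3470 := rfl
theorem F13727 : act 5 n3470 = n3470 := d17_2 F10231 D3470 (iv D3470)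
theorem F13728 : act 7 n3470 = n2556 := d19_2 (iv F10232) D3470 (iv D2556)
def n3471 : Q := act 8 n2540
theorem D3471 : act 8 n2540 = n3471 := rfl
theorem F13729 : act 1 n3471 = n2547 := d14_1 D3471 (iv D2547) (iv F10230)
theorem F13730 : act 3 n3471 = n2541 := d25_1 D3471 (iv D2541) D2540
theorem F13731 : act 5 n3471 = n3471 := d32_1 D3471 (iv D3471) F10231
def n3474 : Q := act 2 n2544
theorem D3474 : act 2 n2544 = n3474 := rfl
theorem F13741 : act 6 n3474 = n2546 := d18_2 (iv F10245) D3474 (iv D2546)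
theorem F13742 : act 7 n3474 = n2560 := d19_2 (iv F10246) D3474 (iv D2560)
def n3475 : Q := act 8 n2544
theorem D3475 : act 8 n2544 = n3475 := rfl
theorem F13744 : act 6 n3475 = n2547 := d34_1 D3475 (iv D2547) (iv F10245)
def n3476 : Q := act 1 n2546
theorem D3476 : act 1 n2546 = n3476 := rfl
theorem F13745 : act 3 n3476 = n3476 := d9_2 F10251 D3476 (iv D3476)
theorem F13746 : act 5 n3476 = n3476 := d11_2 F10252 D3476 (iv D3476)
theorem F13747 : act 7 n3476 = n2562 := d13_2 (iv F10253) D3476 (iv D2562)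
def n3477 : Q := act 8 n2546
theorem D3477 : act 8 n2546 = n3477 := rfl
theorem F13748 : act 2 n3477 = n2547 := d20_1 D3477 (iv D2547) D2546
theorem F13749 : act 3 n3477 = n3477 := d25_1 D3477 (iv D3477) F10251
theorem F13750 : act 5 n3477 = n3477 := d32_1 D3477 (iv D3477) F10252
def n3480 : Q := act 3 n2549
theorem D3480 : act 3 n2549 = n3480 := rfl
theorem F13760 : act 6 n3480 = n2550 := d23_2 (iv F10264) D3480 (iv D2550)
def n3482 : Q := act 2 n2550
theorem D3482 : act 2 n2550 = n3482 := rfl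
theorem F13766 : act 0 n3482 = n2556 := d1_1 D3482 (iv D2556) (iv F10265)
theorem F13767 : act 3 n3482 = n3482 := d15_2 D2550 D3482 (iv D3482) (iv D2550) F7670
theorem F13768 : act 5 n3482 = n3482 := d17_2 F10266 D3482 (iv D3482)
def n3483 : Q := act 8 n2550
theorem D3483 : act 8 n2550 = n3483 := rfl
theorem F13770 : act 3 n3483 = n2551 := d25_1 D3483 (iv D2551) D2550
def n3486 : Q := act 2 n2554
theorem D3486 : act 2 n2554 = n3486 := rfl
theorem F13782 : act 6 n3486 = n2556 := d18_2 (iv F10283) D3486 (iv D2556)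
def n3488 : Q := act 1 n2556
theorem D3488 : act 1 n2556 = n3488 := rfl
theorem F13786 : act 2 n3488 = n2562 := d8_2 D2556 D3488 (iv D2562) (iv D1878) (iv F7690)
theorem F13787 : act 3 n3488 = n3488 := d9_2 F10289 D3488 (iv D3488)
theorem F13788 : act 5 n3488 = n3488 := d11_2 F10290 D3488 (iv D3488)
def n3494 : Q := act 1 n2560
theorem D3494 : act 1 n2560 = n3494 := rfl
theorem F13803 : act 3 n3494 = n2568 := d9_2 (iv F10301) D3494 (iv D2568)
theorem F13804 : act 6 n3494 = n2562 := d12_2 (iv F10302) D3494 (iv D2562)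
def n3497 : Q := act 0 n2562
theorem D3497 : act 0 n2562 = n3497 := rfl
theorem F13810 : act 3 n3497 = n2571 := d2_2 (iv F10305) D3497 (iv D2571)
theorem F13811 : act 5 n3497 = n3497 := d4_2 F10306 D3497 (iv D3497)
def n3505 : Q := act 0 n2568
theorem D3505 : act 0 n2568 = n3505 := rfl
theorem F13840 : act 6 n3505 = n2571 := d5_2 (iv F10326) D3505 (iv D2571)
def n3511 : Q := act 3 n2574
theorem D3511 : act 3 n2574 = n3511 := rfl
theorem F13862 : act 0 n3511 = n2575 := d2_1 D3511 (iv D2575) (iv F10348)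
theorem F13863 : act 1 n3511 = n3511 := d9_1 D3511 (iv D3511) F10349
theorem F13864 : act 4 n3511 = n2580 := d21_2 D2574 D3511 (iv D2580) (iv D1892) (iv F7745)
theorem F13865 : act 6 n3511 = n3511 := d23_2 F10351 D3511 (iv D3511)
theorem F13866 : act 8 n3511 = n3511 := d25_2 F10353 D3511 (iv D3511)
def n3512 : Q := act 5 n2574
theorem D3512 : act 5 n2574 = n3512 := rfl
theorem F13867 : act 0 n3512 = n2576 := d4_1 D3512 (iv D2576) (iv F10348)
theorem F13868 : act 1 n3512 = n3512 := d11_1 D3512 (iv D3512) F10349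
theorem F13869 : act 2 n3512 = n3512 := d17_1 D3512 (iv D3512) F10350
theorem F13870 : act 4 n3512 = n3512 := d26_1 D3512 (iv D3512) (iv D2574) F7746 D2574
theorem F13871 : act 7 n3512 = n3512 := d31_2 F10352 D3512 (iv D3512)
theorem F13872 : act 8 n3512 = n3512 := d32_2 F10353 D3512 (iv D3512)
def n3513 : Q := act 2 n2575
theorem D3513 : act 2 n2575 = n3513 := rfl
theorem F13873 : act 1 n3513 = n3513 := d8_1 D3513 (iv D3513) F10354 F7756 (iv F10354)
theorem F13874 : act 3 n3513 = n3513 := d15_2 D2575 D3513 (iv D3513) (iv D2575) F7751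
theorem F13875 : act 4 n3513 = n2582 := d16_2 (iv F10355) D3513 (iv D2582)
theorem F13876 : act 6 n3513 = n3513 := d18_2 F10356 D3513 (iv D3513)
theorem F13877 : act 8 n3513 = n3513 := d20_2 F10357 D3513 (iv D3513)
def n3514 : Q := act 5 n2575
theorem D3514 : act 5 n2575 = n3514 := rfl
theorem F13879 : act 3 n3514 = n2576 := d22_1 D3514 (iv D2576) D2575
def n3515 : Q := act 7 n2575
theorem D3515 : act 7 n2575 = n3515 := rfl
theorem F13883 : act 4 n3515 = n2584 := d28_1 D3515 (iv D2584) (iv F10355)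
def n3516 : Q := act 6 n2576
theorem D3516 : act 6 n2576 = n3516 := rfl
def n3518 : Q := act 6 n2577
theorem D3518 : act 6 n2577 = n3518 := rfl
theorem F13898 : act 3 n3518 = n2579 := d23_1 D3518 (iv D2579) (iv F10365)
def n3519 : Q := act 7 n2577
theorem D3519 : act 7 n2577 = n3519 := rfl
theorem F13904 : act 5 n3519 = n2578 := d31_1 D3519 (iv D2578) D2577
def n3520 : Q := act 8 n2578
theorem D3520 : act 8 n2578 = n3520 := rfl
theorem F13908 : act 4 n3520 = n2589 := d29_1 D3520 (iv D2589) (iv F10370)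
def n3521 : Q := act 2 n2580
theorem D3521 : act 2 n2580 = n3521 := rfl
theorem F13911 : act 0 n3521 = n2582 := d1_1 D3521 (iv D2582) (iv F10378)
theorem F13912 : act 6 n3521 = n3521 := d18_2 F10380 D3521 (iv D3521)
theorem F13913 : act 8 n3521 = n3521 := d20_2 F10381 D3521 (iv D3521)
def n3522 : Q := act 5 n2580
theorem D3522 : act 5 n2580 = n3522 := rfl
theorem F13914 : act 0 n3522 = n2583 := d4_1 D3522 (iv D2583) (iv F10378)
theorem F13915 : act 1 n3522 = n3522 := d11_1 D3522 (iv D3522) F10379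
theorem F13916 : act 3 n3522 = n2581 := d22_1 D3522 (iv D2581) D2580
theorem F13917 : act 8 n3522 = n3522 := d32_2 F10381 D3522 (iv D3522)
def n3523 : Q := act 7 n2580
theorem D3523 : act 7 n2580 = n3523 := rfl
theorem F13918 : act 0 n3523 = n2584 := d6_1 D3523 (iv D2584) (iv F10378)
theorem F13919 : act 1 n3523 = n3523 := d13_1 D3523 (iv D3523) F10379
theorem F13920 : act 3 n3523 = n2592 := d24_1 D3523 (iv D2592) (iv D1898) (iv F7775) D2580
theorem F13921 : act 6 n3523 = n3523 := d33_1 D3523 (iv D3523) F10380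
def n3524 : Q := act 6 n2581
theorem D3524 : act 6 n2581 = n3524 := rfl
theorem F13922 : act 0 n3524 = n2585 := d5_1 D3524 (iv D2585) (iv F10382)
theorem F13923 : act 1 n3524 = n3524 := d12_1 D3524 (iv D3524) F10383
theorem F13924 : act 4 n3524 = n3524 := d27_1 D3524 (iv D3524) F10384
theorem F13925 : act 5 n3524 = n3524 := d30_1 D3524 (iv D3524) (iv D2581) F7774 D2581
theorem F13926 : act 7 n3524 = n2593 := d33_2 (iv F10385) D3524 (iv D2593)
theorem F13927 : act 8 n3524 = n3524 := d34_2 F10386 D3524 (iv D3524)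
def n3525 : Q := act 5 n2582
theorem D3525 : act 5 n2582 = n3525 := rfl
theorem F13928 : act 1 n3525 = n3525 := d11_1 D3525 (iv D3525) F10387
theorem F13929 : act 2 n3525 = n2583 := d17_1 D3525 (iv D2583) D2582
theorem F13930 : act 8 n3525 = n3525 := d32_2 F10389 D3525 (iv D3525)
def n3526 : Q := act 7 n2582
theorem D3526 : act 7 n2582 = n3526 := rfl
theorem F13931 : act 1 n3526 = n3526 := d13_1 D3526 (iv D3526) F10387
theorem F13932 : act 2 n3526 = n2584 := d19_1 D3526 (iv D2584) D2582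
theorem F13933 : act 6 n3526 = n3526 := d33_1 D3526 (iv D3526) F10388
def n3527 : Q := act 4 n2583
theorem D3527 : act 4 n2583 = n3527 := rfl
def n3528 : Q := act 6 n2583
theorem D3528 : act 6 n2583 = n3528 := rfl
theorem F13938 : act 3 n3528 = n2585 := d23_1 D3528 (iv D2585) (iv F10391)
def n3529 : Q := act 7 n2583
theorem D3529 : act 7 n2583 = n3529 := rfl
theorem F13942 : act 3 n3529 = n2598 := d24_1 D3529 (iv D2598) F7812 (iv F7782) (iv F10391)
def n3530 : Q := act 8 n2584
theorem D3530 : act 8 n2584 = n3530 := rfl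
theorem F13945 : act 3 n3530 = n2599 := d25_1 D3530 (iv D2599) (iv F10394)
def n3532 : Q := act 7 n2586
theorem D3532 : act 7 n2586 = n3532 := rfl
theorem F13955 : act 4 n3532 = n2588 := d28_1 D3532 (iv D2588) D2586
def n3534 : Q := act 8 n2588
theorem D3534 : act 8 n2588 = n3534 := rfl
theorem F13963 : act 3 n3534 = n2603 := d25_1 D3534 (iv D2603) (iv F10412)
def n3535 : Q := act 1 n2590
theorem D3535 : act 1 n2590 = n3535 := rfl
theorem F13966 : act 0 n3535 = n2625 := d0_1 D3535 (iv D2625) F7891 (iv F7807) (iv F10419)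
theorem F13967 : act 2 n3535 = n3535 := d8_2 D2590 D3535 (iv D3535) (iv D2590) F7799
theorem F13968 : act 4 n3535 = n3535 := d10_2 F10420 D3535 (iv D3535)
theorem F13969 : act 6 n3535 = n3535 := d12_2 F10421 D3535 (iv D3535)
theorem F13970 : act 8 n3535 = n2604 := d14_2 (iv F10422) D3535 (iv D2604)
def n3536 : Q := act 5 n2590
theorem D3536 : act 5 n2590 = n3536 := rfl
theorem F13971 : act 0 n3536 = n2594 := d4_1 D3536 (iv D2594) (iv F10419)
theorem F13972 : act 2 n3536 = n2591 := d17_1 D3536 (iv D2591) D2590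
theorem F13973 : act 8 n3536 = n2605 := d32_2 (iv F10422) D3536 (iv D2605)
def n3537 : Q := act 7 n2590
theorem D3537 : act 7 n2590 = n3537 := rfl
theorem F13974 : act 0 n3537 = n2595 := d6_1 D3537 (iv D2595) (iv F10419)
theorem F13975 : act 2 n3537 = n2592 := d19_1 D3537 (iv D2592) D2590
theorem F13976 : act 4 n3537 = n3537 := d28_1 D3537 (iv D3537) F10420
theorem F13977 : act 6 n3537 = n3537 := d33_1 D3537 (iv D3537) F10421
def n3538 : Q := act 4 n2591
theorem D3538 : act 4 n2591 = n3538 := rfl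
theorem F13978 : act 0 n3538 = n2596 := d3_1 D3538 (iv D2596) (iv F10423)
theorem F13979 : act 1 n3538 = n3538 := d10_1 D3538 (iv D3538) F10424
theorem F13980 : act 3 n3538 = n3538 := d21_1 D3538 (iv D3538) F10425 F7805 (iv F10425)
theorem F13981 : act 5 n3538 = n3538 := d26_2 D2591 D3538 (iv D3538) (iv D2591) F7800
theorem F13982 : act 8 n3538 = n2607 := d29_2 (iv F10426) D3538 (iv D2607)
def n3539 : Q := act 6 n2591
theorem D3539 : act 6 n2591 = n3539 := rfl
theorem F13983 : act 0 n3539 = n2597 := d5_1 D3539 (iv D2597) (iv F10423)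
theorem F13984 : act 1 n3539 = n3539 := d12_1 D3539 (iv D3539) F10424
theorem F13985 : act 3 n3539 = n2593 := d23_1 D3539 (iv D2593) (iv F10425)
theorem F13986 : act 5 n3539 = n3539 := d30_1 D3539 (iv D3539) (iv D2591) F7801 D2591
theorem F13987 : act 8 n3539 = n2608 := d34_2 (iv F10426) D3539 (iv D2608)
def n3540 : Q := act 7 n2591
theorem D3540 : act 7 n2591 = n3540 := rfl
theorem F13988 : act 0 n3540 = n2598 := d6_1 D3540 (iv D2598) (iv F10423)
theorem F13989 : act 1 n3540 = n3540 := d13_1 D3540 (iv D3540) F10424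
theorem F13990 : act 5 n3540 = n2592 := d31_1 D3540 (iv D2592) D2591
def n3541 : Q := act 8 n2592
theorem D3541 : act 8 n2592 = n3541 := rfl
theorem F13991 : act 0 n3541 = n2599 := d7_1 D3541 (iv D2599) (iv F10427)
theorem F13992 : act 1 n3541 = n3541 := d14_1 D3541 (iv D3541) F10428
theorem F13993 : act 4 n3541 = n3541 := d29_1 D3541 (iv D3541) F10429
theorem F13994 : act 6 n3541 = n3541 := d34_1 D3541 (iv D3541) F10430
theorem F13995 : act 7 n3541 = n2610 := d35_1 D3541 (iv D2610) (iv D1910) (iv F7802) D2592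
def n3542 : Q := act 4 n2594
theorem D3542 : act 4 n2594 = n3542 := rfl
theorem F13996 : act 1 n3542 = n2632 := d10_1 D3542 (iv D2632) (iv F10436)
theorem F13997 : act 2 n3542 = n2596 := d16_1 D3542 (iv D2596) (iv F10437)
theorem F13998 : act 5 n3542 = n3542 := d26_2 D2594 D3542 (iv D3542) (iv D2594) F7808
theorem F13999 : act 8 n3542 = n2611 := d29_2 (iv F10438) D3542 (iv D2611)
def n3543 : Q := act 6 n2594
theorem D3543 : act 6 n2594 = n3543 := rfl
theorem F14000 : act 1 n3543 = n2633 := d12_1 D3543 (iv D2633) (iv F10436)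
theorem F14001 : act 2 n3543 = n2597 := d18_1 D3543 (iv D2597) (iv F10437)
theorem F14002 : act 5 n3543 = n3543 := d30_1 D3543 (iv D3543) (iv D2594) F7809 D2594
theorem F14003 : act 8 n3543 = n2612 := d34_2 (iv F10438) D3543 (iv D2612)
def n3544 : Q := act 7 n2594
theorem D3544 : act 7 n2594 = n3544 := rfl
theorem F14004 : act 1 n3544 = n2634 := d13_1 D3544 (iv D2634) (iv F10436)
theorem F14005 : act 2 n3544 = n2598 := d19_1 D3544 (iv D2598) (iv F10437)
theorem F14006 : act 5 n3544 = n2595 := d31_1 D3544 (iv D2595) D2594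
def n3545 : Q := act 3 n2595
theorem D3545 : act 3 n2595 = n3545 := rfl
theorem F14007 : act 1 n3545 = n2635 := d9_1 D3545 (iv D2635) (iv F10439)
theorem F14008 : act 6 n3545 = n3545 := d23_2 F10442 D3545 (iv D3545)
def n3546 : Q := act 8 n2595
theorem D3546 : act 8 n2595 = n3546 := rfl
theorem F14009 : act 1 n3546 = n2636 := d14_1 D3546 (iv D2636) (iv F10439)
theorem F14010 : act 2 n3546 = n2599 := d20_1 D3546 (iv D2599) (iv F10440)
theorem F14011 : act 4 n3546 = n3546 := d29_1 D3546 (iv D3546) F10441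
theorem F14012 : act 6 n3546 = n3546 := d34_1 D3546 (iv D3546) F10442
theorem F14013 : act 7 n3546 = n2615 := d35_1 D3546 (iv D2615) (iv D1913) (iv F7810) D2595
def n3547 : Q := act 6 n2596
theorem D3547 : act 6 n2596 = n3547 := rfl
theorem F14016 : act 4 n3547 = n2597 := d27_1 D3547 (iv D2597) D2596
theorem F14017 : act 8 n3547 = n2616 := d34_2 (iv F10446) D3547 (iv D2616)
def n3548 : Q := act 7 n2596
theorem D3548 : act 7 n2596 = n3548 := rfl
def n3549 : Q := act 7 n2597
theorem D3549 : act 7 n2597 = n3549 := rfl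
def n3550 : Q := act 8 n2598
theorem D3550 : act 8 n2598 = n3550 := rfl
theorem F14026 : act 7 n3550 = n2619 := d35_1 D3550 (iv D2619) (iv D1916) (iv F7813) D2598
def n3554 : Q := act 8 n2601
theorem D3554 : act 8 n2601 = n3554 := rfl
theorem F14044 : act 7 n3554 = n2623 := d35_1 D3554 (iv D2623) (iv D1919) (iv F7825) D2601
def n3556 : Q := act 5 n2604
theorem D3556 : act 5 n2604 = n3556 := rfl
theorem F14050 : act 0 n3556 = n2646 := d4_1 D3556 (iv D2646) (iv F10474)
theorem F14051 : act 1 n3556 = n2605 := d11_1 D3556 (iv D2605) D2604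
theorem F14052 : act 2 n3556 = n3556 := d17_1 D3556 (iv D3556) F10475
def n3557 : Q := act 7 n2604
theorem D3557 : act 7 n2604 = n3557 := rfl
theorem F14053 : act 0 n3557 = n2647 := d6_1 D3557 (iv D2647) (iv F10474)
theorem F14054 : act 1 n3557 = n2606 := d13_1 D3557 (iv D2606) D2604
theorem F14055 : act 2 n3557 = n3557 := d19_1 D3557 (iv D3557) F10475
theorem F14056 : act 4 n3557 = n3557 := d28_1 D3557 (iv D3557) F10476
theorem F14057 : act 6 n3557 = n3557 := d33_1 D3557 (iv D3557) F10477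
def n3558 : Q := act 4 n2605
theorem D3558 : act 4 n2605 = n3558 := rfl
theorem F14058 : act 0 n3558 = n2611 := d3_1 D3558 (iv D2611) (iv F10478)
theorem F14059 : act 2 n3558 = n2607 := d16_1 D3558 (iv D2607) (iv F10479)
theorem F14060 : act 5 n3558 = n3558 := d26_2 D2605 D3558 (iv D3558) (iv D2605) F7840
def n3559 : Q := act 6 n2605
theorem D3559 : act 6 n2605 = n3559 := rfl
theorem F14061 : act 0 n3559 = n2612 := d5_1 D3559 (iv D2612) (iv F10478)
theorem F14062 : act 2 n3559 = n2608 := d18_1 D3559 (iv D2608) (iv F10479)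
theorem F14063 : act 5 n3559 = n3559 := d30_1 D3559 (iv D3559) (iv D2605) F7841 D2605
def n3560 : Q := act 7 n2605
theorem D3560 : act 7 n2605 = n3560 := rfl
theorem F14064 : act 0 n3560 = n2613 := d6_1 D3560 (iv D2613) (iv F10478)
theorem F14065 : act 2 n3560 = n2609 := d19_1 D3560 (iv D2609) (iv F10479)
theorem F14066 : act 5 n3560 = n2606 := d31_1 D3560 (iv D2606) D2605
def n3561 : Q := act 3 n2606
theorem D3561 : act 3 n2606 = n3561 := rfl
theorem F14067 : act 0 n3561 = n2614 := d2_1 D3561 (iv D2614) (iv F10480)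
theorem F14068 : act 2 n3561 = n3561 := d15_1 D3561 (iv D3561) F10481 F7847 (iv F10481)
theorem F14069 : act 6 n3561 = n3561 := d23_2 F10483 D3561 (iv D3561)
def n3562 : Q := act 8 n2606
theorem D3562 : act 8 n2606 = n3562 := rfl
theorem F14070 : act 0 n3562 = n2615 := d7_1 D3562 (iv D2615) (iv F10480)
theorem F14071 : act 2 n3562 = n2610 := d20_1 D3562 (iv D2610) (iv F10481)
theorem F14072 : act 4 n3562 = n3562 := d29_1 D3562 (iv D3562) F10482
theorem F14073 : act 6 n3562 = n3562 := d34_1 D3562 (iv D3562) F10483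
def n3563 : Q := act 6 n2607
theorem D3563 : act 6 n2607 = n3563 := rfl
theorem F14074 : act 0 n3563 = n2616 := d5_1 D3563 (iv D2616) (iv F10484)
theorem F14075 : act 1 n3563 = n3563 := d12_1 D3563 (iv D3563) F10485
theorem F14076 : act 3 n3563 = n3563 := d23_1 D3563 (iv D3563) F10486
theorem F14077 : act 4 n3563 = n2608 := d27_1 D3563 (iv D2608) D2607
def n3564 : Q := act 7 n2607
theorem D3564 : act 7 n2607 = n3564 := rfl
theorem F14078 : act 0 n3564 = n2617 := d6_1 D3564 (iv D2617) (iv F10484)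
theorem F14079 : act 1 n3564 = n3564 := d13_1 D3564 (iv D3564) F10485
theorem F14080 : act 4 n3564 = n2609 := d28_1 D3564 (iv D2609) D2607
theorem F14081 : act 5 n3564 = n3564 := d31_1 D3564 (iv D3564) F10487
def n3565 : Q := act 7 n2608
theorem D3565 : act 7 n2608 = n3565 := rfl
theorem F14082 : act 0 n3565 = n2618 := d6_1 D3565 (iv D2618) (iv F10488)
theorem F14083 : act 1 n3565 = n3565 := d13_1 D3565 (iv D3565) F10489
theorem F14084 : act 3 n3565 = n3565 := d24_1 D3565 (iv D3565) F10490 F7854 (iv F10490)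
theorem F14085 : act 5 n3565 = n3565 := d31_1 D3565 (iv D3565) F10491
theorem F14086 : act 6 n3565 = n2609 := d33_1 D3565 (iv D2609) D2608
def n3566 : Q := act 8 n2609
theorem D3566 : act 8 n2609 = n3566 := rfl
theorem F14087 : act 0 n3566 = n2619 := d7_1 D3566 (iv D2619) (iv F10492)
theorem F14088 : act 1 n3566 = n3566 := d14_1 D3566 (iv D3566) F10493
theorem F14089 : act 3 n3566 = n3566 := d25_1 D3566 (iv D3566) F10494
theorem F14090 : act 5 n3566 = n2610 := d32_1 D3566 (iv D2610) (iv F10495)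
def n3567 : Q := act 3 n2611
theorem D3567 : act 3 n2611 = n3567 := rfl
theorem F14091 : act 1 n3567 = n2657 := d9_1 D3567 (iv D2657) (iv F10501)
theorem F14092 : act 2 n3567 = n3567 := d15_1 D3567 (iv D3567) F10502 F7862 (iv F10502)
theorem F14093 : act 5 n3567 = n3567 := d22_2 F10503 D3567 (iv D3567)
def n3568 : Q := act 6 n2611
theorem D3568 : act 6 n2611 = n3568 := rfl
theorem F14094 : act 1 n3568 = n2658 := d12_1 D3568 (iv D2658) (iv F10501)
theorem F14095 : act 2 n3568 = n2616 := d18_1 D3568 (iv D2616) (iv F10502)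
theorem F14096 : act 4 n3568 = n2612 := d27_1 D3568 (iv D2612) D2611
def n3569 : Q := act 7 n2611
theorem D3569 : act 7 n2611 = n3569 := rfl
theorem F14097 : act 1 n3569 = n2659 := d13_1 D3569 (iv D2659) (iv F10501)
theorem F14098 : act 2 n3569 = n2617 := d19_1 D3569 (iv D2617) (iv F10502)
theorem F14099 : act 4 n3569 = n2613 := d28_1 D3569 (iv D2613) D2611
theorem F14100 : act 5 n3569 = n3569 := d31_1 D3569 (iv D3569) F10503
def n3570 : Q := act 7 n2612
theorem D3570 : act 7 n2612 = n3570 := rfl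
theorem F14101 : act 1 n3570 = n2660 := d13_1 D3570 (iv D2660) (iv F10504)
theorem F14102 : act 2 n3570 = n2618 := d19_1 D3570 (iv D2618) (iv F10505)
theorem F14103 : act 5 n3570 = n3570 := d31_1 D3570 (iv D3570) F10506
theorem F14104 : act 6 n3570 = n2613 := d33_1 D3570 (iv D2613) D2612
def n3571 : Q := act 3 n2613
theorem D3571 : act 3 n2613 = n3571 := rfl
theorem F14105 : act 1 n3571 = n2661 := d9_1 D3571 (iv D2661) (iv F10507)
theorem F14106 : act 2 n3571 = n3571 := d15_1 D3571 (iv D3571) F10508 F7868 (iv F10508)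
theorem F14107 : act 5 n3571 = n2614 := d22_2 (iv F10509) D3571 (iv D2614)
def n3572 : Q := act 8 n2613
theorem D3572 : act 8 n2613 = n3572 := rfl
theorem F14108 : act 1 n3572 = n2662 := d14_1 D3572 (iv D2662) (iv F10507)
theorem F14109 : act 2 n3572 = n2619 := d20_1 D3572 (iv D2619) (iv F10508)
theorem F14110 : act 5 n3572 = n2615 := d32_1 D3572 (iv D2615) (iv F10509)
def n3573 : Q := act 4 n2614
theorem D3573 : act 4 n2614 = n3573 := rfl
theorem F14111 : act 1 n3573 = n2663 := d10_1 D3573 (iv D2663) (iv F10510)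
theorem F14112 : act 2 n3573 = n3573 := d16_1 D3573 (iv D3573) F10511
theorem F14113 : act 3 n3573 = n3573 := d21_1 D3573 (iv D3573) (iv D2614) F7859 D2614
theorem F14114 : act 6 n3573 = n3573 := d27_2 F10512 D3573 (iv D3573)
def n3574 : Q := act 8 n2614
theorem D3574 : act 8 n2614 = n3574 := rfl
theorem F14115 : act 1 n3574 = n2664 := d14_1 D3574 (iv D2664) (iv F10510)
theorem F14116 : act 2 n3574 = n3574 := d20_1 D3574 (iv D3574) F10511
theorem F14117 : act 3 n3574 = n2615 := d25_1 D3574 (iv D2615) D2614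
theorem F14118 : act 6 n3574 = n3574 := d34_1 D3574 (iv D3574) F10512
def n3575 : Q := act 5 n2616
theorem D3575 : act 5 n2616 = n3575 := rfl
def n3576 : Q := act 7 n2616
theorem D3576 : act 7 n2616 = n3576 := rfl
theorem F14123 : act 1 n3576 = n2621 := d13_1 D3576 (iv D2621) (iv F10517)
theorem F14124 : act 4 n3576 = n2618 := d28_1 D3576 (iv D2618) (iv F10519)
def n3577 : Q := act 3 n2617
theorem D3577 : act 3 n2617 = n3577 := rfl
theorem F14126 : act 1 n3577 = n2622 := d9_1 D3577 (iv D2622) (iv F10520)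
def n3578 : Q := act 8 n2617
theorem D3578 : act 8 n2617 = n3578 := rfl
theorem F14130 : act 1 n3578 = n2623 := d14_1 D3578 (iv D2623) (iv F10520)
def n3579 : Q := act 8 n2618
theorem D3579 : act 8 n2618 = n3579 := rfl
def n3580 : Q := act 7 n2620
theorem D3580 : act 7 n2620 = n3580 := rfl
theorem F14140 : act 5 n3580 = n2621 := d31_1 D3580 (iv D2621) D2620
def n3583 : Q := act 8 n2622
theorem D3583 : act 8 n2622 = n3583 := rfl
def n3584 : Q := act 5 n2625
theorem D3584 : act 5 n2625 = n3584 := rfl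
theorem F14156 : act 1 n3584 = n2626 := d11_1 D3584 (iv D2626) D2625
theorem F14157 : act 2 n3584 = n3584 := d17_1 D3584 (iv D3584) F10553
theorem F14158 : act 8 n3584 = n2646 := d32_2 (iv F10556) D3584 (iv D2646)
def n3585 : Q := act 7 n2625
theorem D3585 : act 7 n2625 = n3585 := rfl
theorem F14159 : act 1 n3585 = n2627 := d13_1 D3585 (iv D2627) D2625
theorem F14160 : act 2 n3585 = n3585 := d19_1 D3585 (iv D3585) F10553
theorem F14161 : act 4 n3585 = n3585 := d28_1 D3585 (iv D3585) F10554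
theorem F14162 : act 6 n3585 = n3585 := d33_1 D3585 (iv D3585) F10555
def n3586 : Q := act 4 n2626
theorem D3586 : act 4 n2626 = n3586 := rfl
theorem F14163 : act 0 n3586 = n2632 := d3_1 D3586 (iv D2632) (iv F10557)
theorem F14164 : act 2 n3586 = n2628 := d16_1 D3586 (iv D2628) (iv F10558)
theorem F14165 : act 5 n3586 = n3586 := d26_2 D2626 D3586 (iv D3586) (iv D2626) F7892
theorem F14166 : act 8 n3586 = n2648 := d29_2 (iv F10559) D3586 (iv D2648)
def n3587 : Q := act 6 n2626
theorem D3587 : act 6 n2626 = n3587 := rfl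
theorem F14167 : act 0 n3587 = n2633 := d5_1 D3587 (iv D2633) (iv F10557)
theorem F14168 : act 2 n3587 = n2629 := d18_1 D3587 (iv D2629) (iv F10558)
theorem F14169 : act 5 n3587 = n3587 := d30_1 D3587 (iv D3587) (iv D2626) F7893 D2626
theorem F14170 : act 8 n3587 = n2649 := d34_2 (iv F10559) D3587 (iv D2649)
def n3588 : Q := act 7 n2626
theorem D3588 : act 7 n2626 = n3588 := rfl
theorem F14171 : act 0 n3588 = n2634 := d6_1 D3588 (iv D2634) (iv F10557)
theorem F14172 : act 2 n3588 = n2630 := d19_1 D3588 (iv D2630) (iv F10558)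
theorem F14173 : act 5 n3588 = n2627 := d31_1 D3588 (iv D2627) D2626
def n3589 : Q := act 3 n2627
theorem D3589 : act 3 n2627 = n3589 := rfl
theorem F14174 : act 0 n3589 = n2635 := d2_1 D3589 (iv D2635) (iv F10560)
theorem F14175 : act 2 n3589 = n3589 := d15_1 D3589 (iv D3589) F10561 F7901 (iv F10561)
theorem F14176 : act 6 n3589 = n3589 := d23_2 F10563 D3589 (iv D3589)
def n3590 : Q := act 8 n2627
theorem D3590 : act 8 n2627 = n3590 := rfl
theorem F14177 : act 0 n3590 = n2636 := d7_1 D3590 (iv D2636) (iv F10560)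
theorem F14178 : act 2 n3590 = n2631 := d20_1 D3590 (iv D2631) (iv F10561)
theorem F14179 : act 4 n3590 = n3590 := d29_1 D3590 (iv D3590) F10562
theorem F14180 : act 6 n3590 = n3590 := d34_1 D3590 (iv D3590) F10563
theorem F14181 : act 7 n3590 = n2652 := d35_1 D3590 (iv D2652) (iv D1938) (iv F7894) D2627
def n3591 : Q := act 6 n2628
theorem D3591 : act 6 n2628 = n3591 := rfl
theorem F14184 : act 3 n3591 = n2677 := d23_1 D3591 (iv D2677) (iv F10566)
theorem F14185 : act 4 n3591 = n2629 := d27_1 D3591 (iv D2629) D2628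
theorem F14186 : act 8 n3591 = n2653 := d34_2 (iv F10568) D3591 (iv D2653)
def n3592 : Q := act 7 n2628
theorem D3592 : act 7 n2628 = n3592 := rfl
def n3593 : Q := act 7 n2629
theorem D3593 : act 7 n2629 = n3593 := rfl
theorem F14195 : act 6 n3593 = n2630 := d33_1 D3593 (iv D2630) D2629
def n3594 : Q := act 8 n2630
theorem D3594 : act 8 n2630 = n3594 := rfl
theorem F14200 : act 7 n3594 = n2656 := d35_1 D3594 (iv D2656) (iv D1941) (iv F7898) D2630
def n3595 : Q := act 3 n2632
theorem D3595 : act 3 n2632 = n3595 := rfl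
theorem F14201 : act 2 n3595 = n2680 := d15_1 D3595 (iv D2680) F8041 (iv F7916) (iv F10584)
theorem F14202 : act 5 n3595 = n3595 := d22_2 F10585 D3595 (iv D3595)
theorem F14203 : act 8 n3595 = n2657 := d25_2 (iv F10586) D3595 (iv D2657)
def n3596 : Q := act 6 n2632
theorem D3596 : act 6 n2632 = n3596 := rfl
theorem F14205 : act 4 n3596 = n2633 := d27_1 D3596 (iv D2633) D2632
theorem F14206 : act 8 n3596 = n2658 := d34_2 (iv F10586) D3596 (iv D2658)
def n3597 : Q := act 7 n2632
theorem D3597 : act 7 n2632 = n3597 := rfl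
def n3598 : Q := act 7 n2633
theorem D3598 : act 7 n2633 = n3598 := rfl
theorem F14212 : act 6 n3598 = n2634 := d33_1 D3598 (iv D2634) D2633
def n3599 : Q := act 3 n2634
theorem D3599 : act 3 n2634 = n3599 := rfl
theorem F14213 : act 2 n3599 = n3599 := d15_1 D3599 (iv D3599) F10590 F7924 (iv F10590)
theorem F14214 : act 5 n3599 = n2635 := d22_2 (iv F10591) D3599 (iv D2635)
def n3600 : Q := act 8 n2634
theorem D3600 : act 8 n2634 = n3600 := rfl
theorem F14217 : act 7 n3600 = n2662 := d35_1 D3600 (iv D2662) (iv D1945) (iv F7911) D2634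
def n3601 : Q := act 4 n2635
theorem D3601 : act 4 n2635 = n3601 := rfl
theorem F14218 : act 2 n3601 = n3601 := d16_1 D3601 (iv D3601) F10592
theorem F14219 : act 3 n3601 = n3601 := d21_1 D3601 (iv D3601) (iv D2635) F7913 D2635
theorem F14220 : act 6 n3601 = n3601 := d27_2 F10593 D3601 (iv D3601)
def n3602 : Q := act 8 n2635
theorem D3602 : act 8 n2635 = n3602 := rfl
theorem F14221 : act 2 n3602 = n3602 := d20_1 D3602 (iv D3602) F10592
theorem F14222 : act 3 n3602 = n2636 := d25_1 D3602 (iv D2636) D2635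
theorem F14223 : act 6 n3602 = n3602 := d34_1 D3602 (iv D3602) F10593
def n3605 : Q := act 3 n2638
theorem D3605 : act 3 n2638 = n3605 := rfl
theorem F14235 : act 7 n3605 = n2688 := d24_2 D2638 D3605 (iv D2688) (iv D1967) (iv F7916)
def n3606 : Q := act 8 n2638
theorem D3606 : act 8 n2638 = n3606 := rfl
theorem F14239 : act 7 n3606 = n2667 := d35_1 D3606 (iv D2667) (iv D1949) (iv F7918) D2638
def n3612 : Q := act 8 n2643
theorem D3612 : act 8 n2643 = n3612 := rfl
theorem F14262 : act 3 n3612 = n2644 := d25_1 D3612 (iv D2644) D2643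
def n3613 : Q := act 4 n2646
theorem D3613 : act 4 n2646 = n3613 := rfl
theorem F14266 : act 1 n3613 = n2648 := d10_1 D3613 (iv D2648) (iv F10634)
theorem F14267 : act 2 n3613 = n3613 := d16_1 D3613 (iv D3613) F10635
theorem F14268 : act 5 n3613 = n3613 := d26_2 D2646 D3613 (iv D3613) (iv D2646) F7947
def n3614 : Q := act 6 n2646
theorem D3614 : act 6 n2646 = n3614 := rfl
theorem F14269 : act 1 n3614 = n2649 := d12_1 D3614 (iv D2649) (iv F10634)
theorem F14270 : act 2 n3614 = n3614 := d18_1 D3614 (iv D3614) F10635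
theorem F14271 : act 5 n3614 = n3614 := d30_1 D3614 (iv D3614) (iv D2646) F7948 D2646
def n3615 : Q := act 7 n2646
theorem D3615 : act 7 n2646 = n3615 := rfl
theorem F14272 : act 1 n3615 = n2650 := d13_1 D3615 (iv D2650) (iv F10634)
theorem F14273 : act 2 n3615 = n3615 := d19_1 D3615 (iv D3615) F10635
theorem F14274 : act 5 n3615 = n2647 := d31_1 D3615 (iv D2647) D2646
def n3616 : Q := act 3 n2647
theorem D3616 : act 3 n2647 = n3616 := rfl
theorem F14275 : act 1 n3616 = n2651 := d9_1 D3616 (iv D2651) (iv F10636)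
theorem F14276 : act 6 n3616 = n3616 := d23_2 F10639 D3616 (iv D3616)
def n3617 : Q := act 8 n2647
theorem D3617 : act 8 n2647 = n3617 := rfl
theorem F14277 : act 1 n3617 = n2652 := d14_1 D3617 (iv D2652) (iv F10636)
theorem F14278 : act 2 n3617 = n3617 := d20_1 D3617 (iv D3617) F10637
theorem F14279 : act 4 n3617 = n3617 := d29_1 D3617 (iv D3617) F10638
theorem F14280 : act 6 n3617 = n3617 := d34_1 D3617 (iv D3617) F10639
def n3618 : Q := act 3 n2648
theorem D3618 : act 3 n2648 = n3618 := rfl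
theorem F14281 : act 0 n3618 = n2657 := d2_1 D3618 (iv D2657) (iv F10640)
theorem F14282 : act 2 n3618 = n2694 := d15_1 D3618 (iv D2694) F8087 (iv F7957) (iv F10641)
theorem F14283 : act 5 n3618 = n3618 := d22_2 F10642 D3618 (iv D3618)
def n3619 : Q := act 6 n2648
theorem D3619 : act 6 n2648 = n3619 := rfl
theorem F14284 : act 0 n3619 = n2658 := d5_1 D3619 (iv D2658) (iv F10640)
theorem F14285 : act 2 n3619 = n2653 := d18_1 D3619 (iv D2653) (iv F10641)
theorem F14286 : act 4 n3619 = n2649 := d27_1 D3619 (iv D2649) D2648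
def n3620 : Q := act 7 n2648
theorem D3620 : act 7 n2648 = n3620 := rfl
theorem F14287 : act 0 n3620 = n2659 := d6_1 D3620 (iv D2659) (iv F10640)
theorem F14288 : act 2 n3620 = n2654 := d19_1 D3620 (iv D2654) (iv F10641)
theorem F14289 : act 4 n3620 = n2650 := d28_1 D3620 (iv D2650) D2648
theorem F14290 : act 5 n3620 = n3620 := d31_1 D3620 (iv D3620) F10642
def n3621 : Q := act 7 n2649
theorem D3621 : act 7 n2649 = n3621 := rfl
theorem F14291 : act 0 n3621 = n2660 := d6_1 D3621 (iv D2660) (iv F10643)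
theorem F14292 : act 2 n3621 = n2655 := d19_1 D3621 (iv D2655) (iv F10644)
theorem F14293 : act 5 n3621 = n3621 := d31_1 D3621 (iv D3621) F10645
theorem F14294 : act 6 n3621 = n2650 := d33_1 D3621 (iv D2650) D2649
def n3622 : Q := act 3 n2650
theorem D3622 : act 3 n2650 = n3622 := rfl
theorem F14295 : act 0 n3622 = n2661 := d2_1 D3622 (iv D2661) (iv F10646)
theorem F14296 : act 2 n3622 = n2705 := d15_1 D3622 (iv D2705) F8124 (iv F7965) (iv F10647)
theorem F14297 : act 5 n3622 = n2651 := d22_2 (iv F10648) D3622 (iv D2651)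
def n3623 : Q := act 8 n2650
theorem D3623 : act 8 n2650 = n3623 := rfl
theorem F14298 : act 0 n3623 = n2662 := d7_1 D3623 (iv D2662) (iv F10646)
theorem F14299 : act 2 n3623 = n2656 := d20_1 D3623 (iv D2656) (iv F10647)
theorem F14300 : act 5 n3623 = n2652 := d32_1 D3623 (iv D2652) (iv F10648)
def n3624 : Q := act 4 n2651
theorem D3624 : act 4 n2651 = n3624 := rfl
theorem F14301 : act 0 n3624 = n2663 := d3_1 D3624 (iv D2663) (iv F10649)
theorem F14302 : act 2 n3624 = n2707 := d16_1 D3624 (iv D2707) (iv F10650)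
theorem F14303 : act 3 n3624 = n3624 := d21_1 D3624 (iv D3624) (iv D2651) F7953 D2651
theorem F14304 : act 6 n3624 = n3624 := d27_2 F10651 D3624 (iv D3624)
def n3625 : Q := act 8 n2651
theorem D3625 : act 8 n2651 = n3625 := rfl
theorem F14305 : act 0 n3625 = n2664 := d7_1 D3625 (iv D2664) (iv F10649)
theorem F14306 : act 2 n3625 = n2708 := d20_1 D3625 (iv D2708) (iv F10650)
theorem F14307 : act 3 n3625 = n2652 := d25_1 D3625 (iv D2652) D2651
theorem F14308 : act 6 n3625 = n3625 := d34_1 D3625 (iv D3625) F10651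
def n3626 : Q := act 5 n2653
theorem D3626 : act 5 n2653 = n3626 := rfl
theorem F14311 : act 3 n3626 = n2696 := d22_1 D3626 (iv D2696) (iv F10658)
def n3627 : Q := act 7 n2653
theorem D3627 : act 7 n2653 = n3627 := rfl
theorem F14317 : act 4 n3627 = n2655 := d28_1 D3627 (iv D2655) (iv F10659)
theorem F14318 : act 6 n3627 = n2654 := d33_1 D3627 (iv D2654) D2653
def n3628 : Q := act 8 n2654
theorem D3628 : act 8 n2654 = n3628 := rfl
def n3629 : Q := act 8 n2655
theorem D3629 : act 8 n2655 = n3629 := rfl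
theorem F14328 : act 6 n3629 = n2656 := d34_1 D3629 (iv D2656) (iv F10669)
def n3630 : Q := act 6 n2657
theorem D3630 : act 6 n2657 = n3630 := rfl
theorem F14329 : act 2 n3630 = n2697 := d18_1 D3630 (iv D2697) (iv F10674)
theorem F14330 : act 3 n3630 = n2658 := d23_1 D3630 (iv D2658) D2657
def n3631 : Q := act 7 n2657
theorem D3631 : act 7 n2657 = n3631 := rfl
theorem F14331 : act 2 n3631 = n2698 := d19_1 D3631 (iv D2698) (iv F10674)
theorem F14332 : act 5 n3631 = n3631 := d31_1 D3631 (iv D3631) F10675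
def n3632 : Q := act 5 n2658
theorem D3632 : act 5 n2658 = n3632 := rfl
theorem F14333 : act 2 n3632 = n2665 := d17_1 D3632 (iv D2665) (iv F10676)
def n3633 : Q := act 7 n2658
theorem D3633 : act 7 n2658 = n3633 := rfl
theorem F14336 : act 2 n3633 = n2666 := d19_1 D3633 (iv D2666) (iv F10676)
theorem F14337 : act 4 n3633 = n2660 := d28_1 D3633 (iv D2660) (iv F10677)
theorem F14338 : act 6 n3633 = n2659 := d33_1 D3633 (iv D2659) D2658
def n3634 : Q := act 3 n2659
theorem D3634 : act 3 n2659 = n3634 := rfl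
theorem F14339 : act 2 n3634 = n3634 := d15_1 D3634 (iv D3634) F10678 F7987 (iv F10678)
theorem F14340 : act 5 n3634 = n3634 := d22_2 F10680 D3634 (iv D3634)
def n3635 : Q := act 8 n2659
theorem D3635 : act 8 n2659 = n3635 := rfl
theorem F14341 : act 2 n3635 = n2667 := d20_1 D3635 (iv D2667) (iv F10678)
def n3636 : Q := act 3 n2660
theorem D3636 : act 3 n2660 = n3636 := rfl
theorem F14344 : act 2 n3636 = n2710 := d15_1 D3636 (iv D2710) F8145 (iv F7991) (iv F10681)
theorem F14345 : act 5 n3636 = n3636 := d22_2 F10682 D3636 (iv D3636)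
theorem F14346 : act 6 n3636 = n2661 := d23_2 (iv F10683) D3636 (iv D2661)
def n3637 : Q := act 8 n2660
theorem D3637 : act 8 n2660 = n3637 := rfl
theorem F14349 : act 6 n3637 = n2662 := d34_1 D3637 (iv D2662) (iv F10683)
def n3638 : Q := act 4 n2661
theorem D3638 : act 4 n2661 = n3638 := rfl
theorem F14350 : act 2 n3638 = n2712 := d16_1 D3638 (iv D2712) (iv F10684)
def n3639 : Q := act 8 n2661
theorem D3639 : act 8 n2661 = n3639 := rfl
theorem F14351 : act 2 n3639 = n2713 := d20_1 D3639 (iv D2713) (iv F10684)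
theorem F14352 : act 3 n3639 = n2662 := d25_1 D3639 (iv D2662) D2661
theorem F14353 : act 5 n3639 = n2664 := d32_1 D3639 (iv D2664) (iv F10685)
def n3640 : Q := act 5 n2663
theorem D3640 : act 5 n2663 = n3640 := rfl
theorem F14354 : act 2 n3640 = n2714 := d17_1 D3640 (iv D2714) (iv F10688)
theorem F14355 : act 3 n3640 = n3640 := d22_1 D3640 (iv D3640) F10689
def n3641 : Q := act 8 n2663
theorem D3641 : act 8 n2663 = n3641 := rfl
theorem F14356 : act 2 n3641 = n2715 := d20_1 D3641 (iv D2715) (iv F10688)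
theorem F14357 : act 3 n3641 = n3641 := d25_1 D3641 (iv D3641) F10689
theorem F14358 : act 4 n3641 = n2664 := d29_1 D3641 (iv D2664) D2663
theorem F14359 : act 6 n3641 = n3641 := d34_1 D3641 (iv D3641) F10690
def n3642 : Q := act 7 n2664
theorem D3642 : act 7 n2664 = n3642 := rfl
theorem F14360 : act 2 n3642 = n2716 := d19_1 D3642 (iv D2716) (iv F10691)
theorem F14361 : act 6 n3642 = n3642 := d33_1 D3642 (iv D3642) F10693
def n3643 : Q := act 7 n2665
theorem D3643 : act 7 n2665 = n3643 := rfl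
theorem F14362 : act 1 n3643 = n2669 := d13_1 D3643 (iv D2669) (iv F10694)
def n3646 : Q := act 4 n2671
theorem D3646 : act 4 n2671 = n3646 := rfl
theorem F14376 : act 0 n3646 = n3646 := d3_1 D3646 (iv D3646) F10719
theorem F14377 : act 1 n3646 = n2673 := d10_1 D3646 (iv D2673) (iv F10720)
theorem F14378 : act 2 n3646 = n3646 := d16_1 D3646 (iv D3646) F10721
theorem F14379 : act 5 n3646 = n3646 := d26_2 D2671 D3646 (iv D3646) (iv D2671) F8015
theorem F14380 : act 8 n3646 = n2692 := d29_2 (iv F10722) D3646 (iv D2692)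
def n3647 : Q := act 6 n2671
theorem D3647 : act 6 n2671 = n3647 := rfl
theorem F14381 : act 0 n3647 = n3647 := d5_1 D3647 (iv D3647) F10719
theorem F14382 : act 1 n3647 = n2674 := d12_1 D3647 (iv D2674) (iv F10720)
theorem F14383 : act 2 n3647 = n3647 := d18_1 D3647 (iv D3647) F10721
theorem F14384 : act 5 n3647 = n2950 := d30_1 D3647 (iv D2950) (iv D2166) (iv F8016) D2671
theorem F14385 : act 8 n3647 = n2693 := d34_2 (iv F10722) D3647 (iv D2693)
def n3648 : Q := act 7 n2671
theorem D3648 : act 7 n2671 = n3648 := rfl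
theorem F14386 : act 0 n3648 = n3648 := d6_1 D3648 (iv D3648) F10719
theorem F14387 : act 1 n3648 = n2675 := d13_1 D3648 (iv D2675) (iv F10720)
theorem F14388 : act 2 n3648 = n3648 := d19_1 D3648 (iv D3648) F10721
theorem F14389 : act 5 n3648 = n2672 := d31_1 D3648 (iv D2672) D2671
theorem F14390 : act 8 n3648 = n3648 := d35_2 (iv F10722) D3648 (iv D3648) F10722 F8085
def n3649 : Q := act 3 n2672
theorem D3649 : act 3 n2672 = n3649 := rfl
theorem F14391 : act 0 n3649 = n3649 := d2_1 D3649 (iv D3649) F10723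
theorem F14392 : act 1 n3649 = n2676 := d9_1 D3649 (iv D2676) (iv F10724)
theorem F14393 : act 6 n3649 = n2952 := d23_2 (iv F10727) D3649 (iv D2952)
theorem F14394 : act 8 n3649 = n3649 := d25_2 F10728 D3649 (iv D3649)
def n3650 : Q := act 3 n2673
theorem D3650 : act 3 n2673 = n3650 := rfl
theorem F14395 : act 0 n3650 = n2680 := d2_1 D3650 (iv D2680) (iv F10729)
theorem F14396 : act 5 n3650 = n3650 := d22_2 F10731 D3650 (iv D3650)
theorem F14397 : act 8 n3650 = n2694 := d25_2 (iv F10732) D3650 (iv D2694)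
def n3651 : Q := act 6 n2673
theorem D3651 : act 6 n2673 = n3651 := rfl
theorem F14398 : act 0 n3651 = n2681 := d5_1 D3651 (iv D2681) (iv F10729)
theorem F14399 : act 2 n3651 = n2677 := d18_1 D3651 (iv D2677) (iv F10730)
theorem F14400 : act 4 n3651 = n2674 := d27_1 D3651 (iv D2674) D2673
theorem F14401 : act 8 n3651 = n2695 := d34_2 (iv F10732) D3651 (iv D2695)
def n3652 : Q := act 7 n2673
theorem D3652 : act 7 n2673 = n3652 := rfl
theorem F14402 : act 0 n3652 = n2682 := d6_1 D3652 (iv D2682) (iv F10729)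
theorem F14403 : act 2 n3652 = n2678 := d19_1 D3652 (iv D2678) (iv F10730)
theorem F14404 : act 4 n3652 = n2675 := d28_1 D3652 (iv D2675) D2673
theorem F14405 : act 5 n3652 = n3652 := d31_1 D3652 (iv D3652) F10731
theorem F14406 : act 8 n3652 = n3652 := d35_2 (iv F10732) D3652 (iv D3652) F10732 F8089
def n3653 : Q := act 7 n2674
theorem D3653 : act 7 n2674 = n3653 := rfl
theorem F14407 : act 0 n3653 = n2683 := d6_1 D3653 (iv D2683) (iv F10733)
theorem F14408 : act 2 n3653 = n2679 := d19_1 D3653 (iv D2679) (iv F10734)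
theorem F14409 : act 5 n3653 = n2956 := d31_1 D3653 (iv D2956) (iv F10735)
theorem F14410 : act 6 n3653 = n2675 := d33_1 D3653 (iv D2675) D2674
theorem F14411 : act 8 n3653 = n3653 := d35_2 (iv F10736) D3653 (iv D3653) F10736 F8093
def n3654 : Q := act 3 n2675
theorem D3654 : act 3 n2675 = n3654 := rfl
theorem F14412 : act 0 n3654 = n2684 := d2_1 D3654 (iv D2684) (iv F10737)
theorem F14413 : act 2 n3654 = n3654 := d15_1 D3654 (iv D3654) F10738 F8037 (iv F10738)
theorem F14414 : act 5 n3654 = n2676 := d22_2 (iv F10739) D3654 (iv D2676)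
theorem F14415 : act 8 n3654 = n3654 := d25_2 F10740 D3654 (iv D3654)
def n3655 : Q := act 4 n2676
theorem D3655 : act 4 n2676 = n3655 := rfl
theorem F14416 : act 0 n3655 = n2685 := d3_1 D3655 (iv D2685) (iv F10741)
theorem F14417 : act 2 n3655 = n3655 := d16_1 D3655 (iv D3655) F10742
theorem F14418 : act 3 n3655 = n3655 := d21_1 D3655 (iv D3655) (iv D2676) F8023 D2676
theorem F14419 : act 6 n3655 = n2958 := d27_2 (iv F10743) D3655 (iv D2958)
theorem F14420 : act 8 n3655 = n3655 := d29_2 F10744 D3655 (iv D3655)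
def n3656 : Q := act 5 n2677
theorem D3656 : act 5 n2677 = n3656 := rfl
theorem F14423 : act 4 n3656 = n2959 := d26_1 D3656 (iv D2959) F8821 (iv F8033) (iv F10747)
theorem F14425 : act 8 n3656 = n2696 := d32_2 (iv F10748) D3656 (iv D2696)
def n3657 : Q := act 7 n2677
theorem D3657 : act 7 n2677 = n3657 := rfl
theorem F14428 : act 4 n3657 = n2679 := d28_1 D3657 (iv D2679) (iv F10747)
theorem F14429 : act 6 n3657 = n2678 := d33_1 D3657 (iv D2678) D2677
def n3658 : Q := act 3 n2678
theorem D3658 : act 3 n2678 = n3658 := rfl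
def n3659 : Q := act 6 n2680
theorem D3659 : act 6 n2680 = n3659 := rfl
theorem F14436 : act 1 n3659 = n3659 := d12_1 D3659 (iv D3659) F10760
theorem F14437 : act 3 n3659 = n2681 := d23_1 D3659 (iv D2681) D2680
theorem F14438 : act 8 n3659 = n2697 := d34_2 (iv F10762) D3659 (iv D2697)
def n3660 : Q := act 7 n2680
theorem D3660 : act 7 n2680 = n3660 := rfl
theorem F14439 : act 1 n3660 = n3660 := d13_1 D3660 (iv D3660) F10760
theorem F14440 : act 5 n3660 = n3660 := d31_1 D3660 (iv D3660) F10761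
def n3661 : Q := act 5 n2681
theorem D3661 : act 5 n2681 = n3661 := rfl
theorem F14445 : act 8 n3661 = n2699 := d32_2 (iv F10766) D3661 (iv D2699)
def n3662 : Q := act 7 n2681
theorem D3662 : act 7 n2681 = n3662 := rfl
theorem F14448 : act 4 n3662 = n2683 := d28_1 D3662 (iv D2683) (iv F10765)
theorem F14449 : act 6 n3662 = n2682 := d33_1 D3662 (iv D2682) D2681
def n3663 : Q := act 3 n2682
theorem D3663 : act 3 n2682 = n3663 := rfl
theorem F14451 : act 1 n3663 = n3663 := d9_1 D3663 (iv D3663) F10767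
theorem F14452 : act 5 n3663 = n3663 := d22_2 F10770 D3663 (iv D3663)
theorem F14453 : act 8 n3663 = n3663 := d25_2 F10771 D3663 (iv D3663)
def n3664 : Q := act 3 n2683
theorem D3664 : act 3 n2683 = n3664 := rfl
theorem F14454 : act 1 n3664 = n3664 := d9_1 D3664 (iv D3664) F10772
theorem F14455 : act 2 n3664 = n3664 := d15_1 D3664 (iv D3664) F10773 F8064 (iv F10773)
theorem F14456 : act 5 n3664 = n2967 := d22_2 (iv F10774) D3664 (iv D2967)
theorem F14457 : act 6 n3664 = n2684 := d23_2 (iv F10775) D3664 (iv D2684)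
theorem F14458 : act 8 n3664 = n3664 := d25_2 F10776 D3664 (iv D3664)
def n3665 : Q := act 4 n2684
theorem D3665 : act 4 n2684 = n3665 := rfl
theorem F14459 : act 1 n3665 = n3665 := d10_1 D3665 (iv D3665) F10777
theorem F14460 : act 2 n3665 = n3665 := d16_1 D3665 (iv D3665) F10778
theorem F14461 : act 8 n3665 = n3665 := d29_2 F10780 D3665 (iv D3665)
def n3666 : Q := act 5 n2685
theorem D3666 : act 5 n2685 = n3666 := rfl
theorem F14462 : act 1 n3666 = n3666 := d11_1 D3666 (iv D3666) F10781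
theorem F14463 : act 2 n3666 = n3666 := d17_1 D3666 (iv D3666) F10782
theorem F14464 : act 3 n3666 = n3666 := d22_1 D3666 (iv D3666) F10783
theorem F14465 : act 8 n3666 = n3666 := d32_2 F10785 D3666 (iv D3666)
def n3669 : Q := act 2 n2688
theorem D3669 : act 2 n2688 = n3669 := rfl
def n3673 : Q := act 3 n2692
theorem D3673 : act 3 n2692 = n3673 := rfl
theorem F14491 : act 0 n3673 = n3673 := d2_1 D3673 (iv D3673) F10813
theorem F14492 : act 1 n3673 = n2694 := d9_1 D3673 (iv D2694) (iv F10814)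
theorem F14493 : act 5 n3673 = n3673 := d22_2 F10816 D3673 (iv D3673)
def n3674 : Q := act 6 n2692
theorem D3674 : act 6 n2692 = n3674 := rfl
theorem F14494 : act 0 n3674 = n3674 := d5_1 D3674 (iv D3674) F10813
theorem F14495 : act 1 n3674 = n2695 := d12_1 D3674 (iv D2695) (iv F10814)
theorem F14496 : act 2 n3674 = n3674 := d18_1 D3674 (iv D3674) F10815
theorem F14497 : act 4 n3674 = n2693 := d27_1 D3674 (iv D2693) D2692
theorem F14498 : act 7 n3674 = n3674 := d33_2 F10817 D3674 (iv D3674)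
def n3675 : Q := act 6 n2694
theorem D3675 : act 6 n2694 = n3675 := rfl
theorem F14499 : act 0 n3675 = n2697 := d5_1 D3675 (iv D2697) (iv F10823)
theorem F14500 : act 3 n3675 = n2695 := d23_1 D3675 (iv D2695) D2694
def n3676 : Q := act 7 n2694
theorem D3676 : act 7 n2694 = n3676 := rfl
theorem F14501 : act 0 n3676 = n2698 := d6_1 D3676 (iv D2698) (iv F10823)
theorem F14502 : act 3 n3676 = n3676 := d24_1 D3676 (iv D3676) (iv D2694) F8089 D2694
theorem F14503 : act 5 n3676 = n3676 := d31_1 D3676 (iv D3676) F10824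
def n3677 : Q := act 5 n2695
theorem D3677 : act 5 n2695 = n3677 := rfl
theorem F14504 : act 0 n3677 = n2699 := d4_1 D3677 (iv D2699) (iv F10825)
theorem F14505 : act 2 n3677 = n2696 := d17_1 D3677 (iv D2696) (iv F10826)
theorem F14506 : act 4 n3677 = n2980 := d26_1 D3677 (iv D2980) F8901 (iv F8092) (iv F10827)
theorem F14507 : act 6 n3677 = n3677 := d30_2 D2695 D3677 (iv D3677) (iv D2695) F8088
theorem F14508 : act 7 n3677 = n3677 := d31_2 F10828 D3677 (iv D3677)
def n3678 : Q := act 5 n2697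
theorem D3678 : act 5 n2697 = n3678 := rfl
theorem F14509 : act 1 n3678 = n3678 := d11_1 D3678 (iv D3678) F10834
theorem F14510 : act 3 n3678 = n2699 := d22_1 D3678 (iv D2699) (iv F10835)
theorem F14511 : act 6 n3678 = n3678 := d30_2 D2697 D3678 (iv D3678) (iv D2697) F8099
def n3679 : Q := act 7 n2697
theorem D3679 : act 7 n2697 = n3679 := rfl
theorem F14512 : act 1 n3679 = n3679 := d13_1 D3679 (iv D3679) F10834
theorem F14513 : act 3 n3679 = n3679 := d24_1 D3679 (iv D3679) F10835 F8103 (iv F10835)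
theorem F14514 : act 6 n3679 = n2698 := d33_1 D3679 (iv D2698) D2697
def n3680 : Q := act 8 n2698
theorem D3680 : act 8 n2698 = n3680 := rfl
theorem F14515 : act 1 n3680 = n3680 := d14_1 D3680 (iv D3680) F10836
theorem F14516 : act 3 n3680 = n3680 := d25_1 D3680 (iv D3680) F10837
theorem F14517 : act 5 n3680 = n3680 := d32_1 D3680 (iv D3680) F10838
def n3681 : Q := act 7 n2700
theorem D3681 : act 7 n2700 = n3681 := rfl
theorem F14518 : act 0 n3681 = n3681 := d6_1 D3681 (iv D3681) F10844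
theorem F14519 : act 1 n3681 = n2704 := d13_1 D3681 (iv D2704) (iv F10845)
theorem F14520 : act 2 n3681 = n3681 := d19_1 D3681 (iv D3681) F10846
theorem F14521 : act 4 n3681 = n3681 := d28_1 D3681 (iv D3681) F10847
theorem F14522 : act 5 n3681 = n3681 := d31_1 D3681 (iv D3681) F10848
theorem F14523 : act 6 n3681 = n2701 := d33_1 D3681 (iv D2701) D2700
def n3682 : Q := act 3 n2701
theorem D3682 : act 3 n2701 = n3682 := rfl
theorem F14524 : act 0 n3682 = n3682 := d2_1 D3682 (iv D3682) F10850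
theorem F14525 : act 1 n3682 = n2705 := d9_1 D3682 (iv D2705) (iv F10851)
theorem F14526 : act 5 n3682 = n2702 := d22_2 (iv F10854) D3682 (iv D2702)
def n3683 : Q := act 8 n2701
theorem D3683 : act 8 n2701 = n3683 := rfl
theorem F14527 : act 0 n3683 = n3683 := d7_1 D3683 (iv D3683) F10850
theorem F14528 : act 1 n3683 = n2706 := d14_1 D3683 (iv D2706) (iv F10851)
theorem F14529 : act 2 n3683 = n3683 := d20_1 D3683 (iv D3683) F10852
theorem F14530 : act 4 n3683 = n3683 := d29_1 D3683 (iv D3683) F10853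
theorem F14531 : act 5 n3683 = n2703 := d32_1 D3683 (iv D2703) (iv F10854)
theorem F14532 : act 7 n3683 = n3683 := d35_1 D3683 (iv D3683) (iv D2701) F8112 D2701
def n3684 : Q := act 2 n2702
theorem D3684 : act 2 n2702 = n3684 := rfl
theorem F14533 : act 0 n3684 = n3684 := d1_1 D3684 (iv D3684) F10855
theorem F14534 : act 3 n3684 = n3684 := d15_2 D2702 D3684 (iv D3684) (iv D2702) F8115
theorem F14535 : act 6 n3684 = n3684 := d18_2 F10857 D3684 (iv D3684)
def n3685 : Q := act 4 n2702
theorem D3685 : act 4 n2702 = n3685 := rfl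
theorem F14536 : act 0 n3685 = n3685 := d3_1 D3685 (iv D3685) F10855
theorem F14537 : act 1 n3685 = n2707 := d10_1 D3685 (iv D2707) (iv F10856)
theorem F14538 : act 3 n3685 = n2718 := d21_1 D3685 (iv D2718) (iv D1993) (iv F8116) D2702
theorem F14539 : act 6 n3685 = n3685 := d27_2 F10857 D3685 (iv D3685)
def n3686 : Q := act 8 n2702
theorem D3686 : act 8 n2702 = n3686 := rfl
theorem F14540 : act 0 n3686 = n3686 := d7_1 D3686 (iv D3686) F10855
theorem F14541 : act 1 n3686 = n2708 := d14_1 D3686 (iv D2708) (iv F10856)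
theorem F14542 : act 3 n3686 = n2703 := d25_1 D3686 (iv D2703) D2702
theorem F14543 : act 6 n3686 = n3686 := d34_1 D3686 (iv D3686) F10857
def n3687 : Q := act 3 n2704
theorem D3687 : act 3 n2704 = n3687 := rfl
theorem F14544 : act 0 n3687 = n2710 := d2_1 D3687 (iv D2710) (iv F10864)
theorem F14545 : act 5 n3687 = n3687 := d22_2 F10867 D3687 (iv D3687)
theorem F14546 : act 6 n3687 = n2705 := d23_2 (iv F10868) D3687 (iv D2705)
def n3688 : Q := act 8 n2704
theorem D3688 : act 8 n2704 = n3688 := rfl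
theorem F14547 : act 0 n3688 = n2711 := d7_1 D3688 (iv D2711) (iv F10864)
theorem F14548 : act 2 n3688 = n2709 := d20_1 D3688 (iv D2709) (iv F10865)
theorem F14549 : act 4 n3688 = n3688 := d29_1 D3688 (iv D3688) F10866
theorem F14550 : act 5 n3688 = n3688 := d32_1 D3688 (iv D3688) F10867
theorem F14551 : act 6 n3688 = n2706 := d34_1 D3688 (iv D2706) (iv F10868)
theorem F14552 : act 7 n3688 = n3688 := d35_1 D3688 (iv D3688) (iv D2704) F8122 D2704
def n3689 : Q := act 4 n2705
theorem D3689 : act 4 n2705 = n3689 := rfl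
theorem F14553 : act 0 n3689 = n2712 := d3_1 D3689 (iv D2712) (iv F10869)
theorem F14554 : act 3 n3689 = n3689 := d21_1 D3689 (iv D3689) (iv D2705) F8125 D2705
def n3690 : Q := act 8 n2705
theorem D3690 : act 8 n2705 = n3690 := rfl
theorem F14555 : act 0 n3690 = n2713 := d7_1 D3690 (iv D2713) (iv F10869)
theorem F14556 : act 3 n3690 = n2706 := d25_1 D3690 (iv D2706) D2705
theorem F14557 : act 5 n3690 = n2708 := d32_1 D3690 (iv D2708) (iv F10870)
def n3691 : Q := act 5 n2707
theorem D3691 : act 5 n2707 = n3691 := rfl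
theorem F14558 : act 0 n3691 = n2714 := d4_1 D3691 (iv D2714) (iv F10876)
theorem F14559 : act 3 n3691 = n2720 := d22_1 D3691 (iv D2720) (iv F10877)
def n3692 : Q := act 8 n2707
theorem D3692 : act 8 n2707 = n3692 := rfl
theorem F14560 : act 0 n3692 = n2715 := d7_1 D3692 (iv D2715) (iv F10876)
theorem F14561 : act 3 n3692 = n2721 := d25_1 D3692 (iv D2721) (iv F10877)
theorem F14562 : act 4 n3692 = n2708 := d29_1 D3692 (iv D2708) D2707
theorem F14563 : act 6 n3692 = n3692 := d34_1 D3692 (iv D3692) F10878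
def n3693 : Q := act 7 n2708
theorem D3693 : act 7 n2708 = n3693 := rfl
theorem F14564 : act 0 n3693 = n2716 := d6_1 D3693 (iv D2716) (iv F10879)
theorem F14565 : act 3 n3693 = n3693 := d24_1 D3693 (iv D3693) F10880 F8133 (iv F10880)
theorem F14566 : act 6 n3693 = n3693 := d33_1 D3693 (iv D3693) F10881
def n3694 : Q := act 4 n2710
theorem D3694 : act 4 n2710 = n3694 := rfl
theorem F14567 : act 1 n3694 = n3694 := d10_1 D3694 (iv D3694) F10888
theorem F14568 : act 3 n3694 = n3694 := d21_1 D3694 (iv D3694) (iv D2710) F8146 D2710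
theorem F14569 : act 6 n3694 = n2712 := d27_2 (iv F10890) D3694 (iv D2712)
def n3695 : Q := act 8 n2710
theorem D3695 : act 8 n2710 = n3695 := rfl
theorem F14570 : act 1 n3695 = n3695 := d14_1 D3695 (iv D3695) F10888
theorem F14571 : act 3 n3695 = n2711 := d25_1 D3695 (iv D2711) D2710
theorem F14572 : act 5 n3695 = n3695 := d32_1 D3695 (iv D3695) F10889
theorem F14573 : act 6 n3695 = n2713 := d34_1 D3695 (iv D2713) (iv F10890)
def n3696 : Q := act 5 n2712
theorem D3696 : act 5 n2712 = n3696 := rfl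
theorem F14574 : act 1 n3696 = n3696 := d11_1 D3696 (iv D3696) F10897
theorem F14575 : act 3 n3696 = n3696 := d22_1 D3696 (iv D3696) F10898
theorem F14576 : act 4 n3696 = n2714 := d26_1 D3696 (iv D2714) (iv D1990) (iv F8150) D2712
def n3697 : Q := act 8 n2712
theorem D3697 : act 8 n2712 = n3697 := rfl
theorem F14577 : act 1 n3697 = n3697 := d14_1 D3697 (iv D3697) F10897
theorem F14578 : act 3 n3697 = n3697 := d25_1 D3697 (iv D3697) F10898
theorem F14579 : act 4 n3697 = n2713 := d29_1 D3697 (iv D2713) D2712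
def n3698 : Q := act 7 n2713
theorem D3698 : act 7 n2713 = n3698 := rfl
theorem F14580 : act 1 n3698 = n3698 := d13_1 D3698 (iv D3698) F10899
theorem F14581 : act 3 n3698 = n3698 := d24_1 D3698 (iv D3698) F10900 F8155 (iv F10900)
theorem F14582 : act 5 n3698 = n2716 := d31_1 D3698 (iv D2716) (iv F10901)
def n3699 : Q := act 6 n2714
theorem D3699 : act 6 n2714 = n3699 := rfl
theorem F14583 : act 1 n3699 = n3699 := d12_1 D3699 (iv D3699) F10902
theorem F14584 : act 3 n3699 = n2723 := d23_1 D3699 (iv D2723) (iv F10903)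
theorem F14585 : act 5 n3699 = n3699 := d30_1 D3699 (iv D3699) (iv D2714) F8158 D2714
def n3700 : Q := act 8 n2714
theorem D3700 : act 8 n2714 = n3700 := rfl
theorem F14586 : act 1 n3700 = n3700 := d14_1 D3700 (iv D3700) F10902
theorem F14587 : act 3 n3700 = n2724 := d25_1 D3700 (iv D2724) (iv F10903)
theorem F14588 : act 5 n3700 = n2715 := d32_1 D3700 (iv D2715) D2714
def n3701 : Q := act 7 n2715
theorem D3701 : act 7 n2715 = n3701 := rfl
theorem F14589 : act 1 n3701 = n3701 := d13_1 D3701 (iv D3701) F10904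
theorem F14590 : act 4 n3701 = n2716 := d28_1 D3701 (iv D2716) (iv F10906)
theorem F14591 : act 6 n3701 = n3701 := d33_1 D3701 (iv D3701) F10907
def n3702 : Q := act 4 n2717
theorem D3702 : act 4 n2717 = n3702 := rfl
theorem F14592 : act 0 n3702 = n3702 := d3_1 D3702 (iv D3702) F10911
theorem F14593 : act 1 n3702 = n3702 := d10_1 D3702 (iv D3702) F10912
theorem F14594 : act 2 n3702 = n2718 := d16_1 D3702 (iv D2718) D2717
theorem F14595 : act 6 n3702 = n3702 := d27_2 F10915 D3702 (iv D3702)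
theorem F14596 : act 7 n3702 = n3702 := d28_2 F10916 D3702 (iv D3702)
def n3703 : Q := act 8 n2717
theorem D3703 : act 8 n2717 = n3703 := rfl
theorem F14597 : act 0 n3703 = n3703 := d7_1 D3703 (iv D3703) F10911
theorem F14598 : act 1 n3703 = n3703 := d14_1 D3703 (iv D3703) F10912
theorem F14599 : act 2 n3703 = n2719 := d20_1 D3703 (iv D2719) D2717
theorem F14600 : act 3 n3703 = n3703 := d25_1 D3703 (iv D3703) F10913
theorem F14601 : act 5 n3703 = n3703 := d32_1 D3703 (iv D3703) F10914
theorem F14602 : act 6 n3703 = n3703 := d34_1 D3703 (iv D3703) F10915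
def n3704 : Q := act 5 n2718
theorem D3704 : act 5 n2718 = n3704 := rfl
theorem F14603 : act 0 n3704 = n3704 := d4_1 D3704 (iv D3704) F10917
theorem F14604 : act 1 n3704 = n2720 := d11_1 D3704 (iv D2720) (iv F10918)
theorem F14605 : act 4 n3704 = n3704 := d26_1 D3704 (iv D3704) (iv D2718) F8169 D2718
theorem F14606 : act 7 n3704 = n3704 := d31_2 F10920 D3704 (iv D3704)
def n3705 : Q := act 8 n2718
theorem D3705 : act 8 n2718 = n3705 := rfl
theorem F14607 : act 0 n3705 = n3705 := d7_1 D3705 (iv D3705) F10917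
theorem F14608 : act 1 n3705 = n2721 := d14_1 D3705 (iv D2721) (iv F10918)
theorem F14609 : act 4 n3705 = n2719 := d29_1 D3705 (iv D2719) D2718
theorem F14610 : act 6 n3705 = n3705 := d34_1 D3705 (iv D3705) F10919
def n3706 : Q := act 7 n2719
theorem D3706 : act 7 n2719 = n3706 := rfl
theorem F14611 : act 0 n3706 = n3706 := d6_1 D3706 (iv D3706) F10921
theorem F14612 : act 1 n3706 = n2722 := d13_1 D3706 (iv D2722) (iv F10922)
theorem F14613 : act 3 n3706 = n3706 := d24_1 D3706 (iv D3706) F10923 F8177 (iv F10923)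
theorem F14614 : act 5 n3706 = n3706 := d31_1 D3706 (iv D3706) F10924
theorem F14615 : act 6 n3706 = n3706 := d33_1 D3706 (iv D3706) F10925
theorem F14616 : act 8 n3706 = n3706 := d35_2 D2719 D3706 (iv D3706) (iv D2719) F8171
def n3707 : Q := act 6 n2720
theorem D3707 : act 6 n2720 = n3707 := rfl
theorem F14617 : act 0 n3707 = n2723 := d5_1 D3707 (iv D2723) (iv F10926)
theorem F14618 : act 2 n3707 = n3707 := d18_1 D3707 (iv D3707) F10927
theorem F14619 : act 4 n3707 = n3707 := d27_1 D3707 (iv D3707) F10928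
theorem F14620 : act 5 n3707 = n3707 := d30_1 D3707 (iv D3707) (iv D2720) F8180 D2720
theorem F14621 : act 7 n3707 = n3707 := d33_2 F10929 D3707 (iv D3707)
def n3708 : Q := act 8 n2720
theorem D3708 : act 8 n2720 = n3708 := rfl
theorem F14622 : act 0 n3708 = n2724 := d7_1 D3708 (iv D2724) (iv F10926)
theorem F14623 : act 2 n3708 = n3708 := d20_1 D3708 (iv D3708) F10927
theorem F14624 : act 4 n3708 = n3708 := d29_1 D3708 (iv D3708) F10928
theorem F14625 : act 5 n3708 = n2721 := d32_1 D3708 (iv D2721) D2720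
def n3709 : Q := act 7 n2721
theorem D3709 : act 7 n2721 = n3709 := rfl
theorem F14626 : act 0 n3709 = n2725 := d6_1 D3709 (iv D2725) (iv F10930)
theorem F14627 : act 2 n3709 = n3709 := d19_1 D3709 (iv D3709) F10931
theorem F14628 : act 4 n3709 = n2722 := d28_1 D3709 (iv D2722) (iv F10932)
theorem F14629 : act 6 n3709 = n3709 := d33_1 D3709 (iv D3709) F10933
theorem F14630 : act 8 n3709 = n3709 := d35_2 D2721 D3709 (iv D3709) (iv D2721) F8181
def n3710 : Q := act 8 n2723
theorem D3710 : act 8 n2723 = n3710 := rfl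
theorem F14631 : act 1 n3710 = n3710 := d14_1 D3710 (iv D3710) F10940
theorem F14632 : act 2 n3710 = n3710 := d20_1 D3710 (iv D3710) F10941
theorem F14633 : act 4 n3710 = n3710 := d29_1 D3710 (iv D3710) F10942
theorem F14634 : act 5 n3710 = n3710 := d32_1 D3710 (iv D3710) F10943
theorem F14635 : act 6 n3710 = n2724 := d34_1 D3710 (iv D2724) D2723
def n3711 : Q := act 7 n2724
theorem D3711 : act 7 n2724 = n3711 := rfl
theorem F14636 : act 1 n3711 = n3711 := d13_1 D3711 (iv D3711) F10945
theorem F14637 : act 2 n3711 = n3711 := d19_1 D3711 (iv D3711) F10946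
theorem F14638 : act 4 n3711 = n3711 := d28_1 D3711 (iv D3711) F10947
theorem F14639 : act 5 n3711 = n2725 := d31_1 D3711 (iv D2725) (iv F10948)
theorem F14640 : act 8 n3711 = n3711 := d35_2 D2724 D3711 (iv D3711) (iv D2724) F8190
def n3712 : Q := act 3 n2725
theorem D3712 : act 3 n2725 = n3712 := rfl
theorem F14641 : act 1 n3712 = n3712 := d9_1 D3712 (iv D3712) F10949
theorem F14642 : act 4 n3712 = n3712 := d21_2 (iv F10951) D3712 (iv D3712) F10951 F8197
theorem F14643 : act 6 n3712 = n3712 := d23_2 F10952 D3712 (iv D3712)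
theorem F14644 : act 8 n3712 = n3712 := d25_2 F10953 D3712 (iv D3712)
def n3713 : Q := act 4 n2726
theorem D3713 : act 4 n2726 = n3713 := rfl
theorem F14646 : act 1 n3713 = n2728 := d10_1 D3713 (iv D2728) (iv F10955)
theorem F14647 : act 2 n3713 = n2884 := d16_1 D3713 (iv D2884) (iv F10956)
def n3714 : Q := act 6 n2726
theorem D3714 : act 6 n2726 = n3714 := rfl
theorem F14650 : act 2 n3714 = n2885 := d18_1 D3714 (iv D2885) (iv F10956)
def n3715 : Q := act 7 n2726
theorem D3715 : act 7 n2726 = n3715 := rfl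
theorem F14655 : act 5 n3715 = n2727 := d31_1 D3715 (iv D2727) D2726
def n3716 : Q := act 3 n2727
theorem D3716 : act 3 n2727 = n3716 := rfl
def n3718 : Q := act 3 n2728
theorem D3718 : act 3 n2728 = n3718 := rfl
theorem F14663 : act 0 n3718 = n2737 := d2_1 D3718 (iv D2737) (iv F10961)
def n3719 : Q := act 6 n2728
theorem D3719 : act 6 n2728 = n3719 := rfl
def n3720 : Q := act 7 n2728
theorem D3720 : act 7 n2728 = n3720 := rfl
theorem F14671 : act 4 n3720 = n2730 := d28_1 D3720 (iv D2730) D2728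
def n3722 : Q := act 3 n2730
theorem D3722 : act 3 n2730 = n3722 := rfl
theorem F14677 : act 5 n3722 = n2731 := d22_2 (iv F10968) D3722 (iv D2731)
def n3724 : Q := act 4 n2731
theorem D3724 : act 4 n2731 = n3724 := rfl
def n3726 : Q := act 5 n2733
theorem D3726 : act 5 n2733 = n3726 := rfl
def n3731 : Q := act 6 n2737
theorem D3731 : act 6 n2737 = n3731 := rfl
def n3732 : Q := act 7 n2737
theorem D3732 : act 7 n2737 = n3732 := rfl
def n3733 : Q := act 5 n2738
theorem D3733 : act 5 n2738 = n3733 := rfl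
def n3735 : Q := act 3 n2739
theorem D3735 : act 3 n2739 = n3735 := rfl
def n3739 : Q := act 4 n2741
theorem D3739 : act 4 n2741 = n3739 := rfl
def n3741 : Q := act 5 n2743
theorem D3741 : act 5 n2743 = n3741 := rfl
theorem F14738 : act 2 n3741 = n2778 := d17_1 D3741 (iv D2778) (iv F11009)
def n3745 : Q := act 3 n2746
theorem D3745 : act 3 n2746 = n3745 := rfl
theorem F14750 : act 6 n3745 = n2747 := d23_2 (iv F11018) D3745 (iv D2747)
def n3746 : Q := act 8 n2746
theorem D3746 : act 8 n2746 = n3746 := rfl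
def n3748 : Q := act 8 n2747
theorem D3748 : act 8 n2747 = n3748 := rfl
theorem F14757 : act 1 n3748 = n2754 := d14_1 D3748 (iv D2754) (iv F11019)
theorem F14758 : act 3 n3748 = n2748 := d25_1 D3748 (iv D2748) D2747
def n3749 : Q := act 3 n2750
theorem D3749 : act 3 n2750 = n3749 := rfl
theorem F14761 : act 5 n3749 = n2751 := d22_2 (iv F11029) D3749 (iv D2751)
def n3750 : Q := act 8 n2750
theorem D3750 : act 8 n2750 = n3750 := rfl
def n3752 : Q := act 8 n2751
theorem D3752 : act 8 n2751 = n3752 := rfl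
theorem F14772 : act 3 n3752 = n2752 := d25_1 D3752 (iv D2752) D2751
theorem F14774 : act 6 n3752 = n2754 := d34_1 D3752 (iv D2754) (iv F11032)
def n3754 : Q := act 8 n2753
theorem D3754 : act 8 n2753 = n3754 := rfl
theorem F14779 : act 2 n3754 = n2754 := d20_1 D3754 (iv D2754) D2753
def n3755 : Q := act 7 n2754
theorem D3755 : act 7 n2754 = n3755 := rfl
def n3855 : Q := act 4 n2827
theorem D3855 : act 4 n2827 = n3855 := rfl
theorem F15163 : act 0 n3855 = n3855 := d3_1 D3855 (iv D3855) F11327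
theorem F15164 : act 1 n3855 = n2829 := d10_1 D3855 (iv D2829) (iv F11328)
theorem F15165 : act 5 n3855 = n2884 := d26_2 D2827 D3855 (iv D2884) (iv D2115) (iv F8469)
theorem F15166 : act 8 n3855 = n3713 := d29_2 (iv F11330) D3855 (iv D3713)
def n3856 : Q := act 6 n2827
theorem D3856 : act 6 n2827 = n3856 := rfl
def n3857 : Q := act 7 n2827
theorem D3857 : act 7 n2827 = n3857 := rfl
theorem F15171 : act 0 n3857 = n3857 := d6_1 D3857 (iv D3857) F11327
theorem F15172 : act 1 n3857 = n2831 := d13_1 D3857 (iv D2831) (iv F11328)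
theorem F15173 : act 5 n3857 = n2828 := d31_1 D3857 (iv D2828) D2827
def n3858 : Q := act 3 n2828
theorem D3858 : act 3 n2828 = n3858 := rfl
theorem F15174 : act 0 n3858 = n3858 := d2_1 D3858 (iv D3858) F11331
theorem F15175 : act 1 n3858 = n2832 := d9_1 D3858 (iv D2832) (iv F11332)
theorem F15176 : act 4 n3858 = n3858 := d21_2 (iv F11333) D3858 (iv D3858) F11333 F8633
theorem F15177 : act 7 n3858 = n3858 := d24_2 D2828 D3858 (iv D3858) (iv D2828) F8468
def n3859 : Q := act 8 n2828
theorem D3859 : act 8 n2828 = n3859 := rfl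
def n3860 : Q := act 3 n2829
theorem D3860 : act 3 n2829 = n3860 := rfl
theorem F15182 : act 0 n3860 = n2838 := d2_1 D3860 (iv D2838) (iv F11334)
theorem F15183 : act 2 n3860 = n3860 := d15_1 D3860 (iv D3860) F11335 F8479 (iv F11335)
theorem F15184 : act 4 n3860 = n3860 := d21_2 D2829 D3860 (iv D3860) (iv D2829) F8473
theorem F15185 : act 5 n3860 = n2888 := d22_2 (iv F11336) D3860 (iv D2888)
theorem F15186 : act 8 n3860 = n3718 := d25_2 (iv F11337) D3860 (iv D3718)
def n3861 : Q := act 6 n2829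
theorem D3861 : act 6 n2829 = n3861 := rfl
theorem F15188 : act 2 n3861 = n2834 := d18_1 D3861 (iv D2834) (iv F11335)
theorem F15189 : act 4 n3861 = n2830 := d27_1 D3861 (iv D2830) D2829
theorem F15190 : act 8 n3861 = n3719 := d34_2 (iv F11337) D3861 (iv D3719)
def n3862 : Q := act 7 n2829
theorem D3862 : act 7 n2829 = n3862 := rfl
theorem F15192 : act 2 n3862 = n2835 := d19_1 D3862 (iv D2835) (iv F11335)
def n3863 : Q := act 7 n2830
theorem D3863 : act 7 n2830 = n3863 := rfl
theorem F15197 : act 6 n3863 = n2831 := d33_1 D3863 (iv D2831) D2830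
def n3864 : Q := act 3 n2831
theorem D3864 : act 3 n2831 = n3864 := rfl
theorem F15198 : act 0 n3864 = n2842 := d2_1 D3864 (iv D2842) (iv F11342)
theorem F15199 : act 2 n3864 = n3864 := d15_1 D3864 (iv D3864) F11343 F8486 (iv F11343)
theorem F15200 : act 5 n3864 = n2832 := d22_2 (iv F11344) D3864 (iv D2832)
theorem F15201 : act 7 n3864 = n3864 := d24_2 D2831 D3864 (iv D3864) (iv D2831) F8473
def n3865 : Q := act 8 n2831
theorem D3865 : act 8 n2831 = n3865 := rfl
theorem F15202 : act 0 n3865 = n2843 := d7_1 D3865 (iv D2843) (iv F11342)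
def n3866 : Q := act 8 n2832
theorem D3866 : act 8 n2832 = n3866 := rfl
def n3867 : Q := act 5 n2834
theorem D3867 : act 5 n2834 = n3867 := rfl
theorem F15212 : act 6 n3867 = n2893 := d30_2 D2834 D3867 (iv D2893) (iv D2121) (iv F8480)
theorem F15213 : act 8 n3867 = n3726 := d32_2 (iv F11356) D3867 (iv D3726)
def n3868 : Q := act 7 n2834
theorem D3868 : act 7 n2834 = n3868 := rfl
theorem F15216 : act 6 n3868 = n2835 := d33_1 D3868 (iv D2835) D2834
def n3872 : Q := act 6 n2838
theorem D3872 : act 6 n2838 = n3872 := rfl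
theorem F15231 : act 3 n3872 = n2839 := d23_1 D3872 (iv D2839) D2838
theorem F15233 : act 8 n3872 = n3731 := d34_2 (iv F11371) D3872 (iv D3731)
def n3873 : Q := act 7 n2838
theorem D3873 : act 7 n2838 = n3873 := rfl
theorem F15237 : act 5 n3873 = n2899 := d31_1 D3873 (iv D2899) (iv F11370)
def n3874 : Q := act 5 n2839
theorem D3874 : act 5 n2839 = n3874 := rfl
theorem F15239 : act 2 n3874 = n2845 := d17_1 D3874 (iv D2845) (iv F11373)
theorem F15241 : act 8 n3874 = n3733 := d32_2 (iv F11375) D3874 (iv D3733)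
def n3875 : Q := act 7 n2839
theorem D3875 : act 7 n2839 = n3875 := rfl
theorem F15243 : act 2 n3875 = n2846 := d19_1 D3875 (iv D2846) (iv F11373)
def n3876 : Q := act 3 n2840
theorem D3876 : act 3 n2840 = n3876 := rfl
def n3878 : Q := act 3 n2841
theorem D3878 : act 3 n2841 = n3878 := rfl
theorem F15255 : act 6 n3878 = n2842 := d23_2 (iv F11382) D3878 (iv D2842)
def n3880 : Q := act 4 n2842
theorem D3880 : act 4 n2842 = n3880 := rfl
def n3881 : Q := act 8 n2842
theorem D3881 : act 8 n2842 = n3881 := rfl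
def n3883 : Q := act 7 n2845
theorem D3883 : act 7 n2845 = n3883 := rfl
theorem F15275 : act 5 n3883 = n2846 := d31_1 D3883 (iv D2846) D2845
def n3884 : Q := act 3 n2846
theorem D3884 : act 3 n2846 = n3884 := rfl
theorem F15279 : act 6 n3884 = n2847 := d23_2 (iv F11401) D3884 (iv D2847)
def n3885 : Q := act 8 n2846
theorem D3885 : act 8 n2846 = n3885 := rfl
theorem F15284 : act 7 n3885 = n3746 := d35_1 D3885 (iv D3746) (iv D2746) (iv F8514) D2846
def n3886 : Q := act 2 n2847
theorem D3886 : act 2 n2847 = n3886 := rfl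
def n3887 : Q := act 8 n2847
theorem D3887 : act 8 n2847 = n3887 := rfl
theorem F15289 : act 3 n3887 = n2848 := d25_1 D3887 (iv D2848) D2847
def n3888 : Q := act 3 n2850
theorem D3888 : act 3 n2850 = n3888 := rfl
theorem F15292 : act 5 n3888 = n2851 := d22_2 (iv F11415) D3888 (iv D2851)
def n3889 : Q := act 8 n2850
theorem D3889 : act 8 n2850 = n3889 := rfl
theorem F15298 : act 7 n3889 = n3750 := d35_1 D3889 (iv D3750) (iv D2750) (iv F8528) D2850

end Cfsg.Agent.Helper17.FiR1TC
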