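import Cfsg.Agent.Helper17.FiR1TC.Facts2

set_option autoImplicit false
set_option linter.all false

noncomputable section

namespace Cfsg.Agent.Helper17.FiR1TC

theorem F38472 : act 1 n4701 = n4526 := (sb E4311 F21949)
theorem E4620 : n4149 = n3497 := (((F18326).symm.trans (sb E4311 F21951))).symm
theorem E4621 : n7737 = n6322 := ((((iv F24336)).symm.trans (sb E4311 D7737))).symm
theorem F38473 : act 8 n4701 = n6009 := (sb E4311 (iv F23214))
theorem E4622 : n2245 = n1884 := (((F10305).symm.trans (sb E4312 F12190))).symm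
theorem E4623 : n4159 = n3476 := ((((iv F13747)).symm.trans (sb E4312 D4159))).symm
theorem F38474 : act 8 n2562 = n3226 := (sb E4312 (iv F12852))
theorem E4625 : n7756 = n6323 := (((D6323).symm.trans (sb E4313 D7756))).symm
theorem F38475 : act 0 n1383 = n1312 := (sb E4314 F6864)
theorem F38476 : act 8 n1383 = n1741 := (sb E4314 (iv F7210))
theorem F38477 : act 0 n2546 = n2437 := (sb E4315 F12205)
theorem E4626 : n4165 = n3477 := (((D3477).symm.trans (sb E4315 D4165))).symm
theorem F38478 : act 0 n4546 = n4544 := (sb E4316 F22011)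
theorem E4627 : n7762 = n6219 := (((D6219).symm.trans (sb E4316 D7762))).symm
theorem F38479 : act 0 n4618 = n4545 := (sb E4317 F22015)
theorem F38480 : act 7 n4618 = n6028 := (sb E4317 (iv F23283))
theorem F38481 : act 0 n1364 = n1365 := (sb E4319 F6996)
theorem E4629 : n2305 = n1864 := (((D1864).symm.trans (sb E4319 D2305))).symm
theorem F38482 : act 0 n2547 = n2473 := (sb E4320 F12272)
theorem F38483 : act 7 n2547 = n3253 := (sb E4320 (iv F12946))
theorem F38484 : act 8 n4771 = n6005 := (sb E4333 (iv F23199))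
theorem E4644 : n7748 = n6502 := (((D6502).symm.trans (sb E4334 D7748))).symm
theorem F38485 : act 7 n4747 = n6056 := (sb E4336 (iv F23386))
theorem F38486 : act 6 n5653 = n6521 := (sb E4380 F33894)
theorem F38487 : act 6 n5684 = n6472 := (sb E4381 F33677)
theorem E4672 : n6455 = n4247 := (((F22055).symm.trans (sb E4382 (iv D8856)))).symm
theorem F38488 : act 6 n5691 = n6457 := (sb E4382 F33603)
theorem F38489 : act 6 n5692 = n6473 := (sb E4383 F33681)
theorem E4673 : n6441 = n4240 := ((((iv F16619)).symm.trans (sb E4384 (iv F24747)))).symm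
theorem F38490 : act 4 n3112 = n3446 := (sb E4384 F18373)
theorem F38491 : act 6 n3112 = n3445 := (sb E4384 F18374)
theorem E4674 : n6456 = n4248 := (((D4248).symm.trans (sb E4384 D6456))).symm
theorem F38492 : act 4 n3118 = n3455 := (sb E4385 F18416)
theorem F38493 : act 6 n3118 = n3454 := (sb E4385 F18417)
theorem F38494 : act 4 n3108 = n3440 := (sb E4386 F18335)
theorem F38495 : act 6 n3108 = n3439 := (sb E4386 (iv D4704))
theorem E4697 : n7919 = n6443 := ((((iv F24755)).symm.trans (sb E4403 (iv F30223)))).symm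
theorem F38496 : act 2 n4705 = n4706 := (sb E4404 F22375)
theorem F38497 : act 4 n1245 = n1365 := (sb E4497 F7653)
theorem F38498 : act 6 n1245 = n1364 := (sb E4497 F7654)
theorem E4789 : n2545 = n1692 := (((D1692).symm.trans (sb E4497 D2545))).symm
theorem E4790 : n4729 = n3123 := (((D3123).symm.trans (sb E4499 D4729))).symm
theorem F38499 : act 4 n2294 = n2533 := (sb E4499 F13681)
theorem F38500 : act 6 n2294 = n2532 := (sb E4499 F13682)
theorem E4791 : n4730 = n3124 := (((D3124).symm.trans (sb E4499 D4730))).symm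
theorem F38501 : act 4 n2300 = n2542 := (sb E4500 F13724)
theorem F38502 : act 6 n2300 = n2541 := (sb E4500 F13725)
theorem E4792 : n4779 = n3045 := ((((iv D4148)).symm.trans (sb E4501 F24725))).symm
theorem F38503 : act 6 n4148 = n4701 := (sb E4501 F24726)
theorem E4793 : n8671 = n5661 := (((D5661).symm.trans (sb E4501 (iv F32952)))).symm
theorem E4794 : n2568 = n1651 := (((F9127).symm.trans (sb E4502 F13803))).symm
theorem F38504 : act 6 n2243 = n2562 := (sb E4502 F13804)
theorem E4795 : n4752 = n3052 := (((D3052).symm.trans (sb E4502 (iv F18509)))).symm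
theorem E4796 : n8521 = n5674 := (((D5674).symm.trans (sb E4503 (iv F32469)))).symm
theorem F38505 : act 6 n4158 = n4617 := (sb E4503 F24327)
theorem E4797 : n8672 = n5675 := (((D5675).symm.trans (sb E4503 D8672))).symm
theorem F38506 : act 6 n1219 = n1383 := (sb E4504 F7725)
theorem F38507 : act 6 n2248 = n2546 := (sb E4505 F13741)
theorem E4798 : n4753 = n3057 := (((D3057).symm.trans (sb E4505 D4753))).symm
theorem F38508 : act 2 n4163 = n4544 := (sb E4506 (iv D6216))
theorem F38509 : act 6 n4163 = n4546 := (sb E4506 F23988)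
theorem E4799 : n8522 = n5681 := (((D5681).symm.trans (sb E4506 D8522))).symm
theorem F38510 : act 6 n4164 = n4618 := (sb E4507 F24331)
theorem F38511 : act 6 n2263 = n2547 := (sb E4508 F13744)
theorem F38512 : act 6 n4146 = n4771 := (sb E4509 F25061)
theorem E4800 : n8915 = n5657 := (((D5657).symm.trans (sb E4509 (iv F33812)))).symm
theorem E4801 : n8886 = n5668 := (((D5668).symm.trans (sb E4510 (iv F33708)))).symm
theorem F38513 : act 6 n4154 = n4746 := (sb E4510 F24958)
theorem E4802 : n8916 = n5669 := (((D5669).symm.trans (sb E4510 D8916))).symm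
theorem E4803 : n8887 = n5708 := (((D5708).symm.trans (sb E4511 D8887))).symm
theorem F38514 : act 6 n4181 = n4731 := (sb E4511 F24885)
theorem E4804 : n8888 = n5709 := (((D5709).symm.trans (sb E4511 D8888))).symm
theorem F38515 : act 6 n4182 = n4747 := (sb E4512 F24961)
theorem F38516 : act 5 n6210 = n8463 := (sb E4576 (iv F32278))
theorem F38517 : act 5 n6217 = n8464 := (sb E4594 (iv F32283))
theorem F38518 : act 1 n3497 = n3310 := (sb E4620 F16316)
theorem E4872 : n3047 = n2571 := (((F13810).symm.trans (sb E4620 F16317))).symm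
theorem E4873 : n5662 = n4755 := ((((iv F18518)).symm.trans (sb E4620 D5662))).symm
theorem F38519 : act 8 n3497 = n4398 := (sb E4620 (iv F17239))
theorem F38520 : act 1 n6322 = n6192 := (sb E4621 F29624)
theorem F38521 : act 8 n1884 = n2369 := (sb E4622 (iv F9614))
theorem E4874 : n5676 = n4756 := (((D4756).symm.trans (sb E4623 D5676))).symm
theorem F38522 : act 7 n6323 = n8247 := (sb E4625 (iv F31456))
theorem F38523 : act 0 n3477 = n3326 := (sb E4626 F16369)
theorem F38524 : act 7 n3477 = n4414 := (sb E4626 (iv F17296))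
theorem F38525 : act 0 n6219 = n6217 := (sb E4627 F29711)
theorem F38526 : act 0 n1864 = n1865 := (sb E4629 F9345)
theorem F38527 : act 7 n6502 = n8239 := (sb E4644 (iv F31429))
theorem E4916 : n8834 = n5789 := ((((iv F22379)).symm.trans (sb E4672 (iv F33513)))).symm
theorem E4917 : n8857 = n5802 := (((D5802).symm.trans (sb E4672 D8857))).symm
theorem F38528 : act 6 n4247 = n4714 := (sb E4672 F24806)
theorem E4918 : n8858 = n5803 := (((D5803).symm.trans (sb E4672 D8858))).symm
theorem F38529 : act 4 n4240 = n4706 := (sb E4673 F24748)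
theorem F38530 : act 6 n4240 = n4705 := (sb E4673 F24749)
theorem E4919 : n8835 = n5790 := (((D5790).symm.trans (sb E4673 D8835))).symm
theorem F38531 : act 4 n4248 = n4717 := (sb E4674 F24810)
theorem F38532 : act 6 n4248 = n4715 := (sb E4674 F24811)
theorem F38533 : act 2 n6443 = n6445 := (sb E4697 F30224)
theorem F38534 : act 4 n1692 = n1865 := (sb E4789 F10248)
theorem F38535 : act 6 n1692 = n1864 := (sb E4789 F10249)
theorem E4983 : n6478 = n4264 := (((D4264).symm.trans (sb E4790 D6478))).symm
theorem F38536 : act 6 n3123 = n3458 := (sb E4790 F18431)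
theorem E4984 : n6479 = n4265 := (((D4265).symm.trans (sb E4790 D6479))).symm
theorem F38537 : act 4 n3124 = n3461 := (sb E4791 F18435)
theorem F38538 : act 6 n3124 = n3459 := (sb E4791 F18436)
theorem E4985 : n3505 = n2241 := (((F12170).symm.trans (sb E4792 F18592))).symm
theorem F38539 : act 6 n3045 = n3497 := (sb E4792 F18593)
theorem E4986 : n6509 = n4150 := (((D4150).symm.trans (sb E4792 (iv F24995)))).symm
theorem F38540 : act 6 n5661 = n6322 := (sb E4793 F32951)
theorem F38541 : act 6 n1651 = n1884 := (sb E4794 F10326)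
theorem F38542 : act 6 n3052 = n3476 := (sb E4795 F18508)
theorem E4987 : n6510 = n4160 := (((D4160).symm.trans (sb E4795 D6510))).symm
theorem F38543 : act 6 n5674 = n6218 := (sb E4796 F32471)
theorem F38544 : act 6 n5675 = n6323 := (sb E4797 F32955)
theorem F38545 : act 6 n3057 = n3477 := (sb E4798 F18512)
theorem F38546 : act 2 n5681 = n6217 := (sb E4799 F32473)
theorem F38547 : act 6 n5681 = n6219 := (sb E4799 F32476)
theorem F38548 : act 6 n5657 = n6501 := (sb E4800 F33811)
theorem F38549 : act 6 n5668 = n6480 := (sb E4801 F33709)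
theorem F38550 : act 6 n5669 = n6502 := (sb E4802 F33815)
theorem F38551 : act 6 n5708 = n6481 := (sb E4803 F33712)
theorem F38552 : act 6 n5709 = n6482 := (sb E4804 F33716)
theorem F38553 : act 1 n2571 = n2428 := (sb E4872 F12176)
theorem F38554 : act 8 n2571 = n3222 := (sb E4872 (iv F12836))
theorem F38555 : act 1 n4755 = n4528 := (sb E4873 F21956)
theorem E5052 : n7740 = n6512 := (((D6512).symm.trans (sb E4873 D7740))).symm
theorem F38556 : act 7 n4756 = n6025 := (sb E4874 (iv F23273))
theorem F38557 : act 6 n5789 = n6442 := (sb E4916 F33514)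
theorem F38558 : act 3 n5802 = n6460 := (sb E4917 F33606)
theorem F38559 : act 6 n5802 = n6458 := (sb E4917 F33607)
theorem F38560 : act 6 n5803 = n6459 := (sb E4918 F33611)
theorem F38561 : act 4 n5790 = n6445 := (sb E4919 F33518)
theorem F38562 : act 6 n5790 = n6443 := (sb E4919 F33519)
theorem F38563 : act 3 n4264 = n4734 := (sb E4983 F24888)
theorem E5121 : n8889 = n5824 := (((D5824).symm.trans (sb E4983 D8889))).symm
theorem F38564 : act 6 n4264 = n4732 := (sb E4983 F24889)
theorem E5122 : n8890 = n5825 := (((D5825).symm.trans (sb E4983 D8890))).symm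
theorem F38565 : act 6 n4265 = n4733 := (sb E4984 F24893)
theorem E5123 : n8891 = n5826 := (((D5826).symm.trans (sb E4984 D8891))).symm
theorem F38566 : act 6 n2241 = n2571 := (sb E4985 F13840)
theorem F38567 : act 6 n4150 = n4755 := (sb E4986 F24994)
theorem E5124 : n8928 = n5663 := (((D5663).symm.trans (sb E4986 D8928))).symm
theorem F38568 : act 6 n4160 = n4756 := (sb E4987 F24998)
theorem F38569 : act 1 n6512 = n6195 := (sb E5052 F29635)
theorem F38570 : act 7 n6512 = n8231 := (sb E5052 (iv F31395))
theorem F38571 : act 3 n5824 = n6486 := (sb E5121 F33718)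
theorem F38572 : act 3 n5825 = n6487 := (sb E5122 F33721)
theorem F38573 : act 6 n5825 = n6484 := (sb E5122 F33723)
theorem F38574 : act 6 n5826 = n6485 := (sb E5123 F33726)
theorem F38575 : act 6 n5663 = n6512 := (sb E5124 F33855)
theorem F38576 : act 6 n8918 = n7733 := d18_2 F38575 (iv F33820) F29609
theorem F38577 : act 6 n8674 = n7739 := d27_2 F38575 (iv F32961) F29633
theorem F38578 : act 1 n8490 = n8674 := d12_3 F38577 F29632 (iv F32374)
theorem F38579 : act 6 n8864 = n7942 := d5_2 F38574 (iv F33629) F30310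
theorem F38580 : act 6 n8897 = n7807 := d18_2 F38574 (iv F33744) F29848
theorem F38581 : act 6 n8900 = n7976 := d27_2 F38574 (iv F33756) F30432
theorem F38582 : act 6 n8863 = n7941 := d5_2 F38573 (iv F33626) F30308
theorem F38583 : act 6 n8896 = n7806 := d18_2 F38573 (iv F33742) F29846
theorem F38584 : act 3 n7941 = n8866 := d23_1 F38582 F33638 (iv F33627)
theorem F38585 : act 3 n8902 = n7975 := d22_3 F30430 F38572 (iv F33764)
theorem F38586 : act 3 n8865 = n7940 := d2_2 F38571 (iv F33633) F30305
theorem F38587 : act 3 n8901 = n7974 := d23_3 (iv D7974) F38571 D8901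
theorem F38588 : act 5 n7974 = n8898 := d22_2 (iv F33760) F38587 F33748
theorem F38589 : act 2 n8640 = n7801 := d15_3 F38563 (iv F24274) (iv F32870) F29834 F22108
theorem F38590 : act 6 n7801 = n8643 := d18_2 (iv F32871) F38589 F32875
theorem F38591 : act 6 n8838 = n7922 := d23_2 F38562 (iv F33530) F30237
theorem F38592 : act 6 n8861 = n7784 := d18_2 F38560 (iv F33619) F29784
theorem F38593 : act 6 n8837 = n7921 := d12_2 F38559 (iv F33525) F30233
theorem F38594 : act 6 n8860 = n7783 := d18_2 F38559 (iv F33616) F29781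
theorem F38595 : act 3 n7921 = n8840 := d23_1 F38593 F33538 (iv F33526)
theorem F38596 : act 6 n8836 = n7920 := d18_2 F38557 D8836 (iv D7920)
theorem F38597 : act 3 n8839 = n8836 := d23_3 F38596 F30229 (iv F33534)
theorem F38598 : act 2 n8469 = n8880 := d8_4 F24966 F38555 (iv F23888) (iv F32298) F33686
theorem F38599 : act 6 n8880 = n7725 := d18_2 (iv F32300) F38598 F29581
theorem F38600 : act 6 n8894 = n7750 := d12_2 F38552 (iv F33735) F29669
theorem F38601 : act 6 n8893 = n7749 := d12_2 F38551 (iv F33732) F29666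
theorem F38602 : act 6 n8664 = n7746 := d27_2 F38550 (iv F32934) F29656
theorem F38603 : act 6 n8892 = n7732 := d5_2 F38549 D8892 F29604
theorem F38604 : act 6 n8663 = n7730 := d27_2 F38548 (iv F32930) F29599
theorem F38605 : act 6 n8525 = n7758 := d12_2 F38547 (iv F32483) F29696
theorem F38606 : act 6 n8526 = n7765 := d33_3 (iv D7765) F38547 D8526
theorem F38607 : act 0 n8523 = n8526 := d5_3 F38606 F29722 (iv F32478)
theorem F38608 : act 2 n7765 = n8523 := d18_1 F38606 F32478 (iv F32486)
theorem F38609 : act 6 n8524 = n7738 := d5_2 F38543 D8524 F29627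
theorem F38610 : act 6 n8515 = n7757 := d18_2 F38543 (iv F32453) (iv D7757)
theorem F38611 : act 1 n7757 = n8513 := d12_1 F38610 F32447 D8515
theorem F38612 : act 1 n8489 = n8524 := d12_3 F38609 F29628 (iv F32370)
theorem F38613 : act 6 n8881 = n7771 := d12_2 F38489 (iv F33689) F29740
theorem F38614 : act 6 n8628 = n7780 := d27_2 F38489 (iv F32845) F29770
theorem F38615 : act 2 n8596 = n8881 := d18_3 F38613 F29741 (iv F32743)
theorem F38616 : act 6 n8859 = n7770 := d12_2 F38488 D8859 F29737
theorem F38617 : act 6 n8627 = n7768 := d27_2 F38487 (iv F32841) F29732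
theorem F38618 : act 2 n8592 = n8627 := d18_3 F38617 F29731 (iv F32733)
theorem F38619 : act 6 n8789 = n7723 := d27_2 F38486 (iv F33390) (iv D7723)
theorem F38620 : act 2 n8467 = n8789 := d18_3 F38619 F29573 D8467
theorem F38621 : act 6 n8644 = n7802 := d23_2 F38465 (iv F32878) F29835
theorem F38622 : act 2 n7802 = n8641 := d18_1 F38621 F32873 (iv F32877)
theorem F38623 : act 6 n8612 = n7779 := d5_2 F38464 (iv F32789) F29767
theorem F38624 : act 6 n8642 = n7745 := d12_2 F38464 D8642 F29653
theorem F38625 : act 6 n8634 = n7795 := d33_3 F29823 F38464 (iv F32860)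
theorem F38626 : act 2 n7795 = n8632 := d18_1 F38625 F32854 D8634
theorem F38627 : act 2 n7779 = n8610 := d18_1 F38623 F32784 D8612
theorem F38628 : act 6 n8806 = n7728 := d23_2 F38459 (iv F33439) (iv D7728)
theorem F38629 : act 6 n8780 = n7766 := d23_2 F38361 (iv F33364) (iv D7766)
theorem F38630 : act 6 n8775 = n7844 := d5_2 F38324 (iv F33347) F29977
theorem F38631 : act 6 n8798 = n7796 := d18_2 F38324 (iv F33414) F29824
theorem F38632 : act 3 n7844 = n8773 := d23_1 F38630 F33343 (iv F33348)
theorem F38633 : act 6 n8774 = n7776 := d5_2 F38322 (iv F33344) F29757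
theorem F38634 : act 6 n8797 = n7742 := d12_2 F38322 D8797 F29643
theorem F38635 : act 6 n8763 = n7829 := d12_2 F38235 (iv F33308) F29919
theorem F38636 : act 3 n7829 = n8762 := d23_1 F38635 F33306 D8763
theorem F38637 : act 6 n8768 = n7827 := d18_2 F38121 D8768 (iv D7827)
theorem F38638 : act 3 n8759 = n8768 := d23_3 F38637 F29912 D8759
theorem F38642 : act 5 n8342 = n7516 := d4_2 F38041 (iv F31799) F28719
theorem F38643 : act 7 n7516 = n7516 := d31_2 F31802 F38642 (iv F38642)
theorem F38644 : act 7 n9375 = n7566 := d13_2 F37920 (iv F35451) F28923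
theorem F38645 : act 5 n7566 = n8687 := d31_1 F38644 F33018 D9375
theorem F38646 : act 6 n9375 = n9375 := d33_3 F38644 F28924 (iv F38644)
theorem F38647 : act 5 n9373 = n9373 := d30_3 F38646 (iv D9375) (iv F35444) F35444 D9375
theorem F38648 : act 7 n8330 = n7509 := d19_2 F37869 (iv F31755) (iv D7509)
theorem F38649 : act 4 n7509 = n7509 := d28_1 F38648 (iv F38648) F31756
theorem F38650 : act 7 n9377 = n7562 := d19_2 F37760 (iv F35463) F28906
theorem F38651 : act 7 n7501 = n7501 := d35_5 F28658 F37760 F26189 (iv F37760) (iv F28658)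
theorem F38653 : act 6 n9377 = n9377 := d33_3 F38650 F28908 (iv F38650)
theorem F38654 : act 6 n9391 = n9391 := d5_2 F37741 (iv F35511) F35511
theorem F38661 : act 4 n8690 = n7499 := d16_2 F37709 (iv F33032) F28647
theorem F38662 : act 7 n7499 = n7499 := d28_2 F33035 F38661 (iv F38661)
def n9871 : Q := act 5 n7499
theorem D9871 : act 5 n7499 = n9871 := rfl
theorem F38665 : act 0 n9871 = n9871 := d4_1 D9871 (iv D9871) F28645
theorem F38666 : act 1 n9871 = n9871 := d11_1 D9871 (iv D9871) F28646
theorem F38667 : act 2 n9871 = n7501 := d17_1 D9871 (iv D7501) (iv F28647)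
theorem F38668 : act 3 n9871 = n9871 := d22_1 D9871 (iv D9871) F28648
theorem F38669 : act 6 n9871 = n9871 := d30_2 D7499 D9871 (iv D9871) (iv D7499) F21233
theorem F38670 : act 7 n9871 = n9871 := d31_2 F38662 D9871 (iv D9871)
theorem F38671 : act 8 n9871 = n7562 := d32_2 (iv F28649) D9871 (iv D7562)
def n9872 : Q := act 4 n7501
theorem D9872 : act 4 n7501 = n9872 := rfl
theorem F38672 : act 0 n9872 = n9872 := d3_1 D9872 (iv D9872) F28654
theorem F38673 : act 1 n9872 = n7516 := d10_1 D9872 (iv D7516) (iv F28655)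
theorem F38674 : act 6 n9872 = n9872 := d27_2 F28657 D9872 (iv D9872)
theorem F38675 : act 7 n9872 = n9872 := d28_2 F38651 D9872 (iv D9872)
theorem F38676 : act 8 n9872 = n7566 := d29_2 (iv F28658) D9872 (iv D7566)
def n9874 : Q := act 4 n7562
theorem D9874 : act 4 n7562 = n9874 := rfl
theorem F38683 : act 0 n9874 = n9874 := d3_1 D9874 (iv D9874) F28904
theorem F38684 : act 1 n9874 = n9874 := d10_1 D9874 (iv D9874) F28905
theorem F38685 : act 2 n9874 = n7566 := d16_1 D9874 (iv D7566) (iv F28906)
theorem F38686 : act 6 n9874 = n9874 := d27_2 F28908 D9874 (iv D9874)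
def n9875 : Q := act 3 n7723
theorem D9875 : act 3 n7723 = n9875 := rfl
theorem F38687 : act 0 n9875 = n7766 := d2_1 D9875 (iv D7766) (iv F29571)
theorem F38688 : act 1 n9875 = n7728 := d9_1 D9875 (iv D7728) (iv F29572)
theorem F38689 : act 4 n9875 = n9875 := d21_2 D7723 D9875 (iv D9875) (iv D7723) F21927
def n9876 : Q := act 7 n7723
theorem D9876 : act 7 n7723 = n9876 := rfl
theorem F38690 : act 0 n9876 = n7768 := d6_1 D9876 (iv D7768) (iv F29571)
theorem F38691 : act 1 n9876 = n7730 := d13_1 D9876 (iv D7730) (iv F29572)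
theorem F38692 : act 2 n9876 = n8468 := d19_1 D9876 (iv D8468) (iv F29573)
theorem F38693 : act 4 n9876 = n7725 := d28_1 D9876 (iv D7725) D7723
def n9877 : Q := act 3 n7725
theorem D9877 : act 3 n7725 = n9877 := rfl
theorem F38694 : act 0 n9877 = n7770 := d2_1 D9877 (iv D7770) (iv F29579)
theorem F38695 : act 1 n9877 = n7732 := d9_1 D9877 (iv D7732) (iv F29580)
theorem F38696 : act 5 n9877 = n7726 := d22_2 (iv F29582) D9877 (iv D7726)
theorem F38697 : act 7 n9877 = n9877 := d24_2 D7725 D9877 (iv D9877) (iv D7725) F21927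
def n9878 : Q := act 8 n7725
theorem D9878 : act 8 n7725 = n9878 := rfl
theorem F38698 : act 0 n9878 = n7771 := d7_1 D9878 (iv D7771) (iv F29579)
theorem F38699 : act 1 n9878 = n7733 := d14_1 D9878 (iv D7733) (iv F29580)
theorem F38700 : act 2 n9878 = n8471 := d20_1 D9878 (iv D8471) (iv F29581)
theorem F38701 : act 5 n9878 = n7727 := d32_1 D9878 (iv D7727) (iv F29582)
def n9879 : Q := act 2 n7726
theorem D9879 : act 2 n7726 = n9879 := rfl
theorem F38702 : act 0 n9879 = n7772 := d1_1 D9879 (iv D7772) (iv F29583)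
theorem F38703 : act 1 n9879 = n9879 := d8_1 D9879 (iv D9879) F29584 F21942 (iv F29584)
theorem F38704 : act 3 n9879 = n8472 := d15_2 D7726 D9879 (iv D8472) (iv D6181) (iv F21930)
theorem F38705 : act 6 n9879 = n9879 := d18_2 F29585 D9879 (iv D9879)
theorem F38706 : act 7 n9879 = n9879 := d19_2 F29586 D9879 (iv D9879)
def n9880 : Q := act 4 n7726
theorem D9880 : act 4 n7726 = n9880 := rfl
theorem F38707 : act 0 n9880 = n7773 := d3_1 D9880 (iv D7773) (iv F29583)
theorem F38708 : act 1 n9880 = n7734 := d10_1 D9880 (iv D7734) (iv F29584)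
theorem F38709 : act 6 n9880 = n9880 := d27_2 F29585 D9880 (iv D9880)
theorem F38710 : act 7 n9880 = n9880 := d28_2 F29586 D9880 (iv D9880)
def n9881 : Q := act 8 n7726
theorem D9881 : act 8 n7726 = n9881 := rfl
theorem F38711 : act 0 n9881 = n7774 := d7_1 D9881 (iv D7774) (iv F29583)
theorem F38712 : act 1 n9881 = n7735 := d14_1 D9881 (iv D7735) (iv F29584)
theorem F38713 : act 3 n9881 = n7727 := d25_1 D9881 (iv D7727) D7726
theorem F38714 : act 6 n9881 = n9881 := d34_1 D9881 (iv D9881) F29585
def n9882 : Q := act 7 n7728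
theorem D9882 : act 7 n7728 = n9882 := rfl
theorem F38715 : act 0 n9882 = n7742 := d6_1 D9882 (iv D7742) (iv F29591)
theorem F38716 : act 2 n9882 = n9882 := d19_1 D9882 (iv D9882) F29592
theorem F38717 : act 4 n9882 = n9882 := d28_1 D9882 (iv D9882) F29593
def n9883 : Q := act 3 n7730
theorem D9883 : act 3 n7730 = n9883 := rfl
theorem F38718 : act 0 n9883 = n7745 := d2_1 D9883 (iv D7745) (iv F29597)
def n9884 : Q := act 8 n7730
theorem D9884 : act 8 n7730 = n9884 := rfl
theorem F38719 : act 0 n9884 = n7746 := d7_1 D9884 (iv D7746) (iv F29597)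
theorem F38720 : act 2 n9884 = n7739 := d20_1 D9884 (iv D7739) (iv F29598)
theorem F38721 : act 4 n9884 = n7733 := d29_1 D9884 (iv D7733) (iv F29599)
def n9885 : Q := act 4 n7732
theorem D9885 : act 4 n7732 = n9885 := rfl
theorem F38722 : act 0 n9885 = n7749 := d3_1 D9885 (iv D7749) (iv F29604)
theorem F38723 : act 2 n9885 = n9885 := d16_1 D9885 (iv D9885) F29605
theorem F38724 : act 7 n9885 = n9885 := d28_2 F29607 D9885 (iv D9885)
def n9886 : Q := act 8 n7732
theorem D9886 : act 8 n7732 = n9886 := rfl
theorem F38725 : act 0 n9886 = n7750 := d7_1 D9886 (iv D7750) (iv F29604)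
theorem F38726 : act 2 n9886 = n9886 := d20_1 D9886 (iv D9886) F29605
theorem F38727 : act 3 n9886 = n7733 := d25_1 D9886 (iv D7733) D7732
theorem F38728 : act 5 n9886 = n7735 := d32_1 D9886 (iv D7735) (iv F29606)
def n9887 : Q := act 5 n7734
theorem D9887 : act 5 n7734 = n9887 := rfl
theorem F38729 : act 0 n9887 = n7751 := d4_1 D9887 (iv D7751) (iv F29611)
theorem F38730 : act 2 n9887 = n9887 := d17_1 D9887 (iv D9887) F29612
theorem F38731 : act 7 n9887 = n9887 := d31_2 F29614 D9887 (iv D9887)
def n9888 : Q := act 8 n7734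
theorem D9888 : act 8 n7734 = n9888 := rfl
theorem F38732 : act 0 n9888 = n7752 := d7_1 D9888 (iv D7752) (iv F29611)
theorem F38733 : act 2 n9888 = n9888 := d20_1 D9888 (iv D9888) F29612
theorem F38734 : act 4 n9888 = n7735 := d29_1 D9888 (iv D7735) D7734
theorem F38735 : act 6 n9888 = n9888 := d34_1 D9888 (iv D9888) F29613
def n9889 : Q := act 7 n7735
theorem D9889 : act 7 n7735 = n9889 := rfl
theorem F38736 : act 0 n9889 = n7753 := d6_1 D9889 (iv D7753) (iv F29615)
theorem F38737 : act 2 n9889 = n9889 := d19_1 D9889 (iv D9889) F29616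
theorem F38738 : act 6 n9889 = n9889 := d33_1 D9889 (iv D9889) F29618
theorem F38739 : act 8 n9889 = n9889 := d35_2 D7735 D9889 (iv D9889) (iv D7735) F21944
def n9890 : Q := act 2 n7738
theorem D9890 : act 2 n7738 = n9890 := rfl
theorem F38740 : act 0 n9890 = n7757 := d1_1 D9890 (iv D7757) (iv F29627)
theorem F38741 : act 4 n9890 = n9890 := d16_2 F29629 D9890 (iv D9890)
theorem F38742 : act 7 n9890 = n9890 := d19_2 F29630 D9890 (iv D9890)
def n9891 : Q := act 8 n7738
theorem D9891 : act 8 n7738 = n9891 := rfl
theorem F38743 : act 0 n9891 = n7758 := d7_1 D9891 (iv D7758) (iv F29627)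
theorem F38744 : act 1 n9891 = n8492 := d14_1 D9891 (iv D8492) (iv F29628)
theorem F38745 : act 3 n9891 = n7739 := d25_1 D9891 (iv D7739) D7738
theorem F38746 : act 4 n9891 = n9891 := d29_1 D9891 (iv D9891) F29629
def n9892 : Q := act 3 n7742
theorem D9892 : act 3 n7742 = n9892 := rfl
theorem F38747 : act 1 n9892 = n7795 := d9_1 D9892 (iv D7795) (iv F29643)
theorem F38748 : act 7 n9892 = n7745 := d24_2 D7742 D9892 (iv D7745) (iv D5666) D5664
def n9893 : Q := act 8 n7742
theorem D9893 : act 8 n7742 = n9893 := rfl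
theorem F38749 : act 1 n9893 = n7796 := d14_1 D9893 (iv D7796) (iv F29643)
theorem F38750 : act 2 n9893 = n9893 := d20_1 D9893 (iv D9893) F29644
theorem F38751 : act 4 n9893 = n9893 := d29_1 D9893 (iv D9893) F29645
def n9894 : Q := act 2 n7745
theorem D9894 : act 2 n7745 = n9894 := rfl
theorem F38752 : act 3 n9894 = n7757 := d15_2 D7745 D9894 (iv D7757) (iv D5674) (iv F21971)
def n9895 : Q := act 4 n7745
theorem D9895 : act 4 n7745 = n9895 := rfl
theorem F38753 : act 1 n9895 = n7801 := d10_1 D9895 (iv D7801) (iv F29653)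
theorem F38754 : act 3 n9895 = n7749 := d21_1 D9895 (iv D7749) (iv D5668) (iv F21972) D7745
def n9896 : Q := act 8 n7745
theorem D9896 : act 8 n7745 = n9896 := rfl
theorem F38755 : act 1 n9896 = n7802 := d14_1 D9896 (iv D7802) (iv F29653)
theorem F38756 : act 3 n9896 = n7746 := d25_1 D9896 (iv D7746) D7745
def n9897 : Q := act 5 n7749
theorem D9897 : act 5 n7749 = n9897 := rfl
theorem F38757 : act 1 n9897 = n7805 := d11_1 D9897 (iv D7805) (iv F29666)
theorem F38758 : act 2 n9897 = n9897 := d17_1 D9897 (iv D9897) F29667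
theorem F38759 : act 4 n9897 = n7751 := d26_1 D9897 (iv D7751) (iv D5670) (iv F21979) D7749
theorem F38760 : act 7 n9897 = n9897 := d31_2 F29668 D9897 (iv D9897)
def n9898 : Q := act 8 n7749
theorem D9898 : act 8 n7749 = n9898 := rfl
theorem F38761 : act 1 n9898 = n7806 := d14_1 D9898 (iv D7806) (iv F29666)
theorem F38762 : act 2 n9898 = n9898 := d20_1 D9898 (iv D9898) F29667
theorem F38763 : act 4 n9898 = n7750 := d29_1 D9898 (iv D7750) D7749
def n9899 : Q := act 7 n7750
theorem D9899 : act 7 n7750 = n9899 := rfl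
theorem F38764 : act 1 n9899 = n7807 := d13_1 D9899 (iv D7807) (iv F29669)
theorem F38765 : act 2 n9899 = n9899 := d19_1 D9899 (iv D9899) F29670
theorem F38766 : act 5 n9899 = n7753 := d31_1 D9899 (iv D7753) (iv F29672)
theorem F38767 : act 8 n9899 = n9899 := d35_2 D7750 D9899 (iv D9899) (iv D7750) F21980
def n9900 : Q := act 6 n7751
theorem D9900 : act 6 n7751 = n9900 := rfl
theorem F38768 : act 1 n9900 = n7808 := d12_1 D9900 (iv D7808) (iv F29673)
theorem F38769 : act 2 n9900 = n9900 := d18_1 D9900 (iv D9900) F29674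
theorem F38770 : act 5 n9900 = n9900 := d30_1 D9900 (iv D9900) (iv D7751) F21986 D7751
theorem F38771 : act 7 n9900 = n9900 := d33_2 F29675 D9900 (iv D9900)
def n9901 : Q := act 8 n7751
theorem D9901 : act 8 n7751 = n9901 := rfl
theorem F38772 : act 1 n9901 = n7809 := d14_1 D9901 (iv D7809) (iv F29673)
theorem F38773 : act 2 n9901 = n9901 := d20_1 D9901 (iv D9901) F29674
theorem F38774 : act 5 n9901 = n7752 := d32_1 D9901 (iv D7752) D7751
def n9902 : Q := act 7 n7752
theorem D9902 : act 7 n7752 = n9902 := rfl
theorem F38775 : act 1 n9902 = n7810 := d13_1 D9902 (iv D7810) (iv F29676)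
theorem F38776 : act 2 n9902 = n9902 := d19_1 D9902 (iv D9902) F29677
theorem F38777 : act 4 n9902 = n7753 := d28_1 D9902 (iv D7753) (iv F29678)
theorem F38778 : act 6 n9902 = n9902 := d33_1 D9902 (iv D9902) F29679
theorem F38779 : act 8 n9902 = n9902 := d35_2 D7752 D9902 (iv D9902) (iv D7752) F21987
def n9903 : Q := act 8 n7757
theorem D9903 : act 8 n7757 = n9903 := rfl
theorem F38780 : act 2 n9903 = n7758 := d20_1 D9903 (iv D7758) D7757
theorem F38781 : act 4 n9903 = n9903 := d29_1 D9903 (iv D9903) F29694
def n9904 : Q := act 7 n7758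
theorem D9904 : act 7 n7758 = n9904 := rfl
theorem F38782 : act 1 n9904 = n7765 := d13_1 D9904 (iv D7765) (iv F29696)
theorem F38783 : act 4 n9904 = n9904 := d28_1 D9904 (iv D9904) F29698
theorem F38784 : act 8 n9904 = n9904 := d35_2 D7758 D9904 (iv D9904) (iv D7758) F22000
def n9905 : Q := act 2 n7766
theorem D9905 : act 2 n7766 = n9905 := rfl
theorem F38785 : act 1 n9905 = n7827 := d8_1 D9905 (iv D7827) F22159 (iv F22042) (iv F29725)
theorem F38786 : act 3 n9905 = n8588 := d15_2 D7766 D9905 (iv D8588) (iv D6264) (iv F22027)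
theorem F38787 : act 4 n9905 = n9905 := d16_2 F29726 D9905 (iv D9905)
def n9906 : Q := act 7 n7766
theorem D9906 : act 7 n7766 = n9906 := rfl
theorem F38788 : act 1 n9906 = n7776 := d13_1 D9906 (iv D7776) (iv F29725)
theorem F38789 : act 4 n9906 = n9906 := d28_1 D9906 (iv D9906) F29726
def n9907 : Q := act 3 n7768
theorem D9907 : act 3 n7768 = n9907 := rfl
theorem F38790 : act 1 n9907 = n7779 := d9_1 D9907 (iv D7779) (iv F29730)
def n9908 : Q := act 8 n7768
theorem D9908 : act 8 n7768 = n9908 := rfl
theorem F38791 : act 1 n9908 = n7780 := d14_1 D9908 (iv D7780) (iv F29730)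
theorem F38792 : act 2 n9908 = n8594 := d20_1 D9908 (iv D8594) (iv F29731)
theorem F38793 : act 4 n9908 = n7771 := d29_1 D9908 (iv D7771) (iv F29732)
def n9909 : Q := act 2 n7770
theorem D9909 : act 2 n7770 = n9909 := rfl
theorem F38794 : act 1 n9909 = n7920 := d8_1 D9909 (iv D7920) F22379 (iv F22055) (iv F29737)
theorem F38795 : act 3 n9909 = n8597 := d15_2 D7770 D9909 (iv D8597) (iv D6268) (iv F22033)
theorem F38796 : act 5 n9909 = n7772 := d17_2 (iv F29738) D9909 (iv D7772)
theorem F38797 : act 7 n9909 = n9909 := d19_2 F29739 D9909 (iv D9909)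
def n9910 : Q := act 4 n7770
theorem D9910 : act 4 n7770 = n9910 := rfl
theorem F38798 : act 1 n9910 = n7783 := d10_1 D9910 (iv D7783) (iv F29737)
theorem F38799 : act 7 n9910 = n9910 := d28_2 F29739 D9910 (iv D9910)
def n9911 : Q := act 8 n7770
theorem D9911 : act 8 n7770 = n9911 := rfl
theorem F38800 : act 1 n9911 = n7784 := d14_1 D9911 (iv D7784) (iv F29737)
theorem F38801 : act 3 n9911 = n7771 := d25_1 D9911 (iv D7771) D7770
theorem F38802 : act 5 n9911 = n7774 := d32_1 D9911 (iv D7774) (iv F29738)
def n9912 : Q := act 4 n7772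
theorem D9912 : act 4 n7772 = n9912 := rfl
theorem F38803 : act 1 n9912 = n7923 := d10_1 D9912 (iv D7923) (iv F29743)
theorem F38804 : act 2 n9912 = n7773 := d16_1 D9912 (iv D7773) D7772
theorem F38805 : act 6 n9912 = n9912 := d27_2 F29745 D9912 (iv D9912)
theorem F38806 : act 7 n9912 = n9912 := d28_2 F29746 D9912 (iv D9912)
def n9913 : Q := act 8 n7772
theorem D9913 : act 8 n7772 = n9913 := rfl
theorem F38807 : act 1 n9913 = n7924 := d14_1 D9913 (iv D7924) (iv F29743)
theorem F38808 : act 2 n9913 = n7774 := d20_1 D9913 (iv D7774) D7772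
theorem F38809 : act 3 n9913 = n8601 := d25_1 D9913 (iv D8601) (iv F29744)
theorem F38810 : act 6 n9913 = n9913 := d34_1 D9913 (iv D9913) F29745
def n9914 : Q := act 5 n7773
theorem D9914 : act 5 n7773 = n9914 := rfl
theorem F38811 : act 1 n9914 = n7785 := d11_1 D9914 (iv D7785) (iv F29747)
theorem F38812 : act 7 n9914 = n9914 := d31_2 F29749 D9914 (iv D9914)
def n9915 : Q := act 8 n7773
theorem D9915 : act 8 n7773 = n9915 := rfl
theorem F38813 : act 1 n9915 = n7786 := d14_1 D9915 (iv D7786) (iv F29747)
theorem F38814 : act 4 n9915 = n7774 := d29_1 D9915 (iv D7774) D7773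
theorem F38815 : act 6 n9915 = n9915 := d34_1 D9915 (iv D9915) F29748
def n9916 : Q := act 7 n7774
theorem D9916 : act 7 n7774 = n9916 := rfl
theorem F38816 : act 1 n9916 = n7787 := d13_1 D9916 (iv D7787) (iv F29750)
theorem F38817 : act 6 n9916 = n9916 := d33_1 D9916 (iv D9916) F29752
theorem F38818 : act 8 n9916 = n9916 := d35_2 D7774 D9916 (iv D9916) (iv D7774) F22037
def n9917 : Q := act 3 n7776
theorem D9917 : act 3 n7776 = n9917 := rfl
theorem F38819 : act 0 n9917 = n7795 := d2_1 D9917 (iv D7795) (iv F29757)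
theorem F38820 : act 7 n9917 = n7779 := d24_2 D7776 D9917 (iv D7779) (iv D5689) D5687
def n9918 : Q := act 8 n7776
theorem D9918 : act 8 n7776 = n9918 := rfl
theorem F38821 : act 0 n9918 = n7796 := d7_1 D9918 (iv D7796) (iv F29757)
theorem F38822 : act 2 n9918 = n7844 := d20_1 D9918 (iv D7844) (iv F29758)
theorem F38823 : act 4 n9918 = n9918 := d29_1 D9918 (iv D9918) F29759
def n9919 : Q := act 4 n7779
theorem D9919 : act 4 n7779 = n9919 := rfl
theorem F38824 : act 0 n9919 = n7801 := d3_1 D9919 (iv D7801) (iv F29767)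
theorem F38825 : act 3 n9919 = n7783 := d21_1 D9919 (iv D7783) (iv D5691) (iv F22049) D7779
def n9920 : Q := act 8 n7779
theorem D9920 : act 8 n7779 = n9920 := rfl
theorem F38826 : act 0 n9920 = n7802 := d7_1 D9920 (iv D7802) (iv F29767)
theorem F38827 : act 3 n9920 = n7780 := d25_1 D9920 (iv D7780) D7779
def n9921 : Q := act 5 n7783
theorem D9921 : act 5 n7783 = n9921 := rfl
theorem F38828 : act 0 n9921 = n7805 := d4_1 D9921 (iv D7805) (iv F29780)
theorem F38829 : act 2 n9921 = n7940 := d17_1 D9921 (iv D7940) (iv F29781)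
theorem F38830 : act 4 n9921 = n7785 := d26_1 D9921 (iv D7785) (iv D5693) (iv F22056) D7783
theorem F38831 : act 7 n9921 = n9921 := d31_2 F29782 D9921 (iv D9921)
def n9922 : Q := act 8 n7783
theorem D9922 : act 8 n7783 = n9922 := rfl
theorem F38832 : act 0 n9922 = n7806 := d7_1 D9922 (iv D7806) (iv F29780)
theorem F38833 : act 2 n9922 = n7941 := d20_1 D9922 (iv D7941) (iv F29781)
theorem F38834 : act 4 n9922 = n7784 := d29_1 D9922 (iv D7784) D7783
def n9923 : Q := act 7 n7784
theorem D9923 : act 7 n7784 = n9923 := rfl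
theorem F38835 : act 0 n9923 = n7807 := d6_1 D9923 (iv D7807) (iv F29783)
theorem F38836 : act 2 n9923 = n7942 := d19_1 D9923 (iv D7942) (iv F29784)
theorem F38837 : act 5 n9923 = n7787 := d31_1 D9923 (iv D7787) (iv F29786)
theorem F38838 : act 8 n9923 = n9923 := d35_2 D7784 D9923 (iv D9923) (iv D7784) F22057
def n9924 : Q := act 6 n7785
theorem D9924 : act 6 n7785 = n9924 := rfl
theorem F38839 : act 0 n9924 = n7808 := d5_1 D9924 (iv D7808) (iv F29787)
theorem F38840 : act 2 n9924 = n7943 := d18_1 D9924 (iv D7943) (iv F29788)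
theorem F38841 : act 5 n9924 = n9924 := d30_1 D9924 (iv D9924) (iv D7785) F22063 D7785
theorem F38842 : act 7 n9924 = n9924 := d33_2 F29789 D9924 (iv D9924)
def n9925 : Q := act 8 n7785
theorem D9925 : act 8 n7785 = n9925 := rfl
theorem F38843 : act 0 n9925 = n7809 := d7_1 D9925 (iv D7809) (iv F29787)
theorem F38844 : act 2 n9925 = n7944 := d20_1 D9925 (iv D7944) (iv F29788)
theorem F38845 : act 5 n9925 = n7786 := d32_1 D9925 (iv D7786) D7785
def n9926 : Q := act 7 n7786
theorem D9926 : act 7 n7786 = n9926 := rfl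
theorem F38846 : act 0 n9926 = n7810 := d6_1 D9926 (iv D7810) (iv F29790)
theorem F38847 : act 2 n9926 = n7945 := d19_1 D9926 (iv D7945) (iv F29791)
theorem F38848 : act 4 n9926 = n7787 := d28_1 D9926 (iv D7787) (iv F29792)
theorem F38849 : act 6 n9926 = n9926 := d33_1 D9926 (iv D9926) F29793
theorem F38850 : act 8 n9926 = n9926 := d35_2 D7786 D9926 (iv D9926) (iv D7786) F22064
def n9927 : Q := act 4 n7795
theorem D9927 : act 4 n7795 = n9927 := rfl
theorem F38851 : act 3 n9927 = n9927 := d21_1 D9927 (iv D9927) (iv D7795) F22093 D7795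
theorem F38852 : act 7 n9927 = n7801 := d28_2 (iv F29823) D9927 (iv D7801)
def n9928 : Q := act 8 n7795
theorem D9928 : act 8 n7795 = n9928 := rfl
theorem F38853 : act 3 n9928 = n7796 := d25_1 D9928 (iv D7796) D7795
def n9929 : Q := act 5 n7801
theorem D9929 : act 5 n7801 = n9929 := rfl
theorem F38854 : act 3 n9929 = n7805 := d22_1 D9929 (iv D7805) (iv F29834)
def n9930 : Q := act 8 n7801
theorem D9930 : act 8 n7801 = n9930 := rfl
theorem F38855 : act 3 n9930 = n7806 := d25_1 D9930 (iv D7806) (iv F29834)
theorem F38856 : act 4 n9930 = n7802 := d29_1 D9930 (iv D7802) D7801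
def n9931 : Q := act 7 n7802
theorem D9931 : act 7 n7802 = n9931 := rfl
def n9932 : Q := act 6 n7805
theorem D9932 : act 6 n7805 = n9932 := rfl
theorem F38857 : act 2 n9932 = n7974 := d18_1 D9932 (iv D7974) (iv F29843)
theorem F38858 : act 4 n9932 = n7808 := d27_1 D9932 (iv D7808) (iv F29844)
theorem F38859 : act 7 n9932 = n9932 := d33_2 F29845 D9932 (iv D9932)
def n9933 : Q := act 8 n7805
theorem D9933 : act 8 n7805 = n9933 := rfl
theorem F38860 : act 2 n9933 = n7975 := d20_1 D9933 (iv D7975) (iv F29843)
theorem F38861 : act 4 n9933 = n7809 := d29_1 D9933 (iv D7809) (iv F29844)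
theorem F38862 : act 5 n9933 = n7806 := d32_1 D9933 (iv D7806) D7805
def n9934 : Q := act 7 n7806
theorem D9934 : act 7 n7806 = n9934 := rfl
theorem F38863 : act 2 n9934 = n7976 := d19_1 D9934 (iv D7976) (iv F29846)
theorem F38864 : act 4 n9934 = n7807 := d28_1 D9934 (iv D7807) (iv F29847)
theorem F38865 : act 8 n9934 = n9934 := d35_2 D7806 D9934 (iv D9934) (iv D7806) F22109
def n9935 : Q := act 8 n7808
theorem D9935 : act 8 n7808 = n9935 := rfl
theorem F38866 : act 2 n9935 = n7977 := d20_1 D9935 (iv D7977) (iv F29851)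
theorem F38867 : act 5 n9935 = n9935 := d32_1 D9935 (iv D9935) F29852
theorem F38868 : act 6 n9935 = n7809 := d34_1 D9935 (iv D7809) D7808
def n9936 : Q := act 7 n7809
theorem D9936 : act 7 n7809 = n9936 := rfl
theorem F38869 : act 2 n9936 = n7978 := d19_1 D9936 (iv D7978) (iv F29854)
theorem F38870 : act 5 n9936 = n7810 := d31_1 D9936 (iv D7810) (iv F29855)
theorem F38871 : act 8 n9936 = n9936 := d35_2 D7809 D9936 (iv D9936) (iv D7809) F22114
def n9937 : Q := act 3 n7810
theorem D9937 : act 3 n7810 = n9937 := rfl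
theorem F38872 : act 6 n9937 = n9937 := d23_2 F29858 D9937 (iv D9937)
theorem F38873 : act 8 n9937 = n9937 := d25_2 F29859 D9937 (iv D9937)
def n9938 : Q := act 7 n7827
theorem D9938 : act 7 n7827 = n9938 := rfl
theorem F38874 : act 0 n9938 = n9938 := d6_1 D9938 (iv D9938) F29911
theorem F38875 : act 2 n9938 = n7829 := d19_1 D9938 (iv D7829) D7827
theorem F38876 : act 4 n9938 = n9938 := d28_1 D9938 (iv D9938) F29913
def n9939 : Q := act 8 n7829
theorem D9939 : act 8 n7829 = n9939 := rfl
theorem F38877 : act 0 n9939 = n9939 := d7_1 D9939 (iv D9939) F29918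
theorem F38878 : act 1 n9939 = n7844 := d14_1 D9939 (iv D7844) (iv F29919)
theorem F38879 : act 4 n9939 = n9939 := d29_1 D9939 (iv D9939) F29920
def n9940 : Q := act 4 n7920
theorem D9940 : act 4 n7920 = n9940 := rfl
theorem F38880 : act 0 n9940 = n9940 := d3_1 D9940 (iv D9940) F30228
theorem F38881 : act 2 n9940 = n7921 := d16_1 D9940 (iv D7921) D7920
theorem F38882 : act 7 n9940 = n9940 := d28_2 F30231 D9940 (iv D9940)
def n9941 : Q := act 8 n7920
theorem D9941 : act 8 n7920 = n9941 := rfl
theorem F38883 : act 0 n9941 = n9941 := d7_1 D9941 (iv D9941) F30228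
theorem F38884 : act 2 n9941 = n7922 := d20_1 D9941 (iv D7922) D7920
theorem F38885 : act 3 n9941 = n8843 := d25_1 D9941 (iv D8843) (iv F30229)
theorem F38886 : act 5 n9941 = n7924 := d32_1 D9941 (iv D7924) (iv F30230)
def n9942 : Q := act 5 n7921
theorem D9942 : act 5 n7921 = n9942 := rfl
theorem F38887 : act 0 n9942 = n9942 := d4_1 D9942 (iv D9942) F30232
theorem F38888 : act 1 n9942 = n7940 := d11_1 D9942 (iv D7940) (iv F30233)
theorem F38889 : act 4 n9942 = n7925 := d26_1 D9942 (iv D7925) (iv D5792) (iv F22380) D7921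
theorem F38890 : act 7 n9942 = n9942 := d31_2 F30234 D9942 (iv D9942)
def n9943 : Q := act 8 n7921
theorem D9943 : act 8 n7921 = n9943 := rfl
theorem F38891 : act 0 n9943 = n9943 := d7_1 D9943 (iv D9943) F30232
theorem F38892 : act 1 n9943 = n7941 := d14_1 D9943 (iv D7941) (iv F30233)
theorem F38893 : act 4 n9943 = n7922 := d29_1 D9943 (iv D7922) D7921
def n9944 : Q := act 7 n7922
theorem D9944 : act 7 n7922 = n9944 := rfl
theorem F38894 : act 0 n9944 = n9944 := d6_1 D9944 (iv D9944) F30235
theorem F38895 : act 1 n9944 = n7942 := d13_1 D9944 (iv D7942) (iv F30236)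
theorem F38896 : act 3 n9944 = n9944 := d24_1 D9944 (iv D9944) F30237 F22386 (iv F30237)
theorem F38897 : act 5 n9944 = n7927 := d31_1 D9944 (iv D7927) (iv F30238)
theorem F38898 : act 8 n9944 = n9944 := d35_2 D7922 D9944 (iv D9944) (iv D7922) F22381
def n9945 : Q := act 3 n7923
theorem D9945 : act 3 n7923 = n9945 := rfl
theorem F38899 : act 0 n9945 = n9945 := d2_1 D9945 (iv D9945) F30239
theorem F38900 : act 2 n9945 = n9945 := d15_1 D9945 (iv D9945) F30240 F22393 (iv F30240)
theorem F38901 : act 4 n9945 = n8847 := d21_2 D7923 D9945 (iv D8847) (iv D6449) (iv F22388)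
theorem F38902 : act 6 n9945 = n9945 := d23_2 F30241 D9945 (iv D9945)
def n9946 : Q := act 5 n7923
theorem D9946 : act 5 n7923 = n9946 := rfl
theorem F38903 : act 0 n9946 = n9946 := d4_1 D9946 (iv D9946) F30239
theorem F38904 : act 2 n9946 = n7925 := d17_1 D9946 (iv D7925) (iv F30240)
theorem F38905 : act 7 n9946 = n9946 := d31_2 F30242 D9946 (iv D9946)
def n9947 : Q := act 8 n7923
theorem D9947 : act 8 n7923 = n9947 := rfl
theorem F38906 : act 0 n9947 = n9947 := d7_1 D9947 (iv D9947) F30239
theorem F38907 : act 2 n9947 = n7926 := d20_1 D9947 (iv D7926) (iv F30240)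
theorem F38908 : act 4 n9947 = n7924 := d29_1 D9947 (iv D7924) D7923
theorem F38909 : act 6 n9947 = n9947 := d34_1 D9947 (iv D9947) F30241
def n9948 : Q := act 7 n7924
theorem D9948 : act 7 n7924 = n9948 := rfl
theorem F38910 : act 0 n9948 = n9948 := d6_1 D9948 (iv D9948) F30243
theorem F38911 : act 2 n9948 = n7927 := d19_1 D9948 (iv D7927) (iv F30244)
theorem F38912 : act 6 n9948 = n9948 := d33_1 D9948 (iv D9948) F30246
theorem F38913 : act 8 n9948 = n9948 := d35_2 D7924 D9948 (iv D9948) (iv D7924) F22390
def n9949 : Q := act 6 n7925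
theorem D9949 : act 6 n7925 = n9949 := rfl
theorem F38914 : act 0 n9949 = n9949 := d5_1 D9949 (iv D9949) F30247
theorem F38915 : act 1 n9949 = n7943 := d12_1 D9949 (iv D7943) (iv F30248)
theorem F38916 : act 3 n9949 = n9949 := d23_1 D9949 (iv D9949) F30249
theorem F38917 : act 5 n9949 = n9949 := d30_1 D9949 (iv D9949) (iv D7925) F22394 D7925
theorem F38918 : act 7 n9949 = n9949 := d33_2 F30250 D9949 (iv D9949)
def n9950 : Q := act 8 n7925
theorem D9950 : act 8 n7925 = n9950 := rfl
theorem F38919 : act 0 n9950 = n9950 := d7_1 D9950 (iv D9950) F30247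
theorem F38920 : act 1 n9950 = n7944 := d14_1 D9950 (iv D7944) (iv F30248)
theorem F38921 : act 3 n9950 = n9950 := d25_1 D9950 (iv D9950) F30249
theorem F38922 : act 5 n9950 = n7926 := d32_1 D9950 (iv D7926) D7925
def n9951 : Q := act 7 n7926
theorem D9951 : act 7 n7926 = n9951 := rfl
theorem F38923 : act 0 n9951 = n9951 := d6_1 D9951 (iv D9951) F30251
theorem F38924 : act 1 n9951 = n7945 := d13_1 D9951 (iv D7945) (iv F30252)
theorem F38925 : act 4 n9951 = n7927 := d28_1 D9951 (iv D7927) (iv F30254)
theorem F38926 : act 6 n9951 = n9951 := d33_1 D9951 (iv D9951) F30255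
theorem F38927 : act 8 n9951 = n9951 := d35_2 D7926 D9951 (iv D9951) (iv D7926) F22395
def n9952 : Q := act 6 n7940
theorem D9952 : act 6 n7940 = n9952 := rfl
theorem F38928 : act 0 n9952 = n7974 := d5_1 D9952 (iv D7974) (iv F30305)
theorem F38929 : act 4 n9952 = n7943 := d27_1 D9952 (iv D7943) (iv F30306)
theorem F38930 : act 7 n9952 = n9952 := d33_2 F30307 D9952 (iv D9952)
def n9953 : Q := act 8 n7940
theorem D9953 : act 8 n7940 = n9953 := rfl
theorem F38931 : act 0 n9953 = n7975 := d7_1 D9953 (iv D7975) (iv F30305)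
theorem F38932 : act 4 n9953 = n7944 := d29_1 D9953 (iv D7944) (iv F30306)
theorem F38933 : act 5 n9953 = n7941 := d32_1 D9953 (iv D7941) D7940
def n9954 : Q := act 7 n7941
theorem D9954 : act 7 n7941 = n9954 := rfl
theorem F38934 : act 0 n9954 = n7976 := d6_1 D9954 (iv D7976) (iv F30308)
theorem F38935 : act 4 n9954 = n7942 := d28_1 D9954 (iv D7942) (iv F30309)
theorem F38936 : act 8 n9954 = n9954 := d35_2 D7941 D9954 (iv D9954) (iv D7941) F22435
def n9955 : Q := act 8 n7943
theorem D9955 : act 8 n7943 = n9955 := rfl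
theorem F38937 : act 0 n9955 = n7977 := d7_1 D9955 (iv D7977) (iv F30314)
theorem F38938 : act 3 n9955 = n9955 := d25_1 D9955 (iv D9955) F30315
theorem F38939 : act 5 n9955 = n9955 := d32_1 D9955 (iv D9955) F30316
theorem F38940 : act 6 n9955 = n7944 := d34_1 D9955 (iv D7944) D7943
def n9956 : Q := act 7 n7944
theorem D9956 : act 7 n7944 = n9956 := rfl
theorem F38941 : act 0 n9956 = n7978 := d6_1 D9956 (iv D7978) (iv F30318)
theorem F38942 : act 5 n9956 = n7945 := d31_1 D9956 (iv D7945) (iv F30320)
theorem F38943 : act 8 n9956 = n9956 := d35_2 D7944 D9956 (iv D9956) (iv D7944) F22441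
def n9957 : Q := act 3 n7945
theorem D9957 : act 3 n7945 = n9957 := rfl
theorem F38944 : act 0 n9957 = n7979 := d2_1 D9957 (iv D7979) (iv F30321)
theorem F38945 : act 4 n9957 = n9957 := d21_2 (iv F30322) D9957 (iv D9957) F30322 F22447
theorem F38946 : act 6 n9957 = n9957 := d23_2 F30323 D9957 (iv D9957)
theorem F38947 : act 7 n9957 = n9957 := d24_2 D7945 D9957 (iv D9957) (iv D7945) F22443
theorem F38948 : act 8 n9957 = n9957 := d25_2 F30324 D9957 (iv D9957)
def n9958 : Q := act 8 n7974
theorem D9958 : act 8 n7974 = n9958 := rfl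
theorem F38949 : act 1 n9958 = n9958 := d14_1 D9958 (iv D9958) F30425
theorem F38950 : act 4 n9958 = n7977 := d29_1 D9958 (iv D7977) (iv F30426)
theorem F38951 : act 6 n9958 = n7975 := d34_1 D9958 (iv D7975) D7974
def n9959 : Q := act 7 n7975
theorem D9959 : act 7 n7975 = n9959 := rfl
theorem F38952 : act 1 n9959 = n9959 := d13_1 D9959 (iv D9959) F30428
theorem F38953 : act 4 n9959 = n7978 := d28_1 D9959 (iv D7978) (iv F30429)
theorem F38954 : act 5 n9959 = n7976 := d31_1 D9959 (iv D7976) (iv F30430)
theorem F38955 : act 8 n9959 = n9959 := d35_2 D7975 D9959 (iv D9959) (iv D7975) F22516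
def n9960 : Q := act 3 n7976
theorem D9960 : act 3 n7976 = n9960 := rfl
theorem F38956 : act 1 n9960 = n9960 := d9_1 D9960 (iv D9960) F30431
theorem F38957 : act 4 n9960 = n9960 := d21_2 (iv F30432) D9960 (iv D9960) F30432 F22520
theorem F38958 : act 8 n9960 = n9960 := d25_2 F30433 D9960 (iv D9960)
def n9961 : Q := act 7 n7977
theorem D9961 : act 7 n7977 = n9961 := rfl
theorem F38959 : act 1 n9961 = n9961 := d13_1 D9961 (iv D9961) F30434
theorem F38960 : act 5 n9961 = n9961 := d31_1 D9961 (iv D9961) F30436
theorem F38961 : act 6 n9961 = n7978 := d33_1 D9961 (iv D7978) (iv F30437)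
theorem F38962 : act 8 n9961 = n9961 := d35_2 D7977 D9961 (iv D9961) (iv D7977) F22526
def n9962 : Q := act 3 n7978
theorem D9962 : act 3 n7978 = n9962 := rfl
theorem F38963 : act 1 n9962 = n9962 := d9_1 D9962 (iv D9962) F30438
theorem F38964 : act 5 n9962 = n7979 := d22_2 (iv F30439) D9962 (iv D7979)
theorem F38965 : act 7 n9962 = n9962 := d24_2 D7978 D9962 (iv D9962) (iv D7978) F22528
theorem F38966 : act 8 n9962 = n9962 := d25_2 F30440 D9962 (iv D9962)
def n9963 : Q := act 2 n7979
theorem D9963 : act 2 n7979 = n9963 := rfl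
theorem F38967 : act 4 n9963 = n9963 := d16_2 F30442 D9963 (iv D9963)
theorem F38968 : act 6 n9963 = n9963 := d18_2 F30443 D9963 (iv D9963)
theorem F38969 : act 7 n9963 = n9963 := d19_2 F30444 D9963 (iv D9963)
theorem F38970 : act 8 n9963 = n9963 := d20_2 F30445 D9963 (iv D9963)
def n9964 : Q := act 4 n8185
theorem D9964 : act 4 n8185 = n9964 := rfl
theorem F38971 : act 0 n9964 = n9964 := d3_1 D9964 (iv D9964) F31208
theorem F38972 : act 1 n9964 = n8187 := d10_1 D9964 (iv D8187) (iv F31209)
theorem F38973 : act 5 n9964 = n9964 := d26_2 D8185 D9964 (iv D9964) (iv D8185) F23100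
theorem F38974 : act 8 n9964 = n9964 := d29_2 F31211 D9964 (iv D9964)
def n9965 : Q := act 6 n8185
theorem D9965 : act 6 n8185 = n9965 := rfl
theorem F38976 : act 1 n9965 = n8188 := d12_1 D9965 (iv D8188) (iv F31209)
def n9966 : Q := act 7 n8185
theorem D9966 : act 7 n8185 = n9966 := rfl
theorem F38980 : act 0 n9966 = n9966 := d6_1 D9966 (iv D9966) F31208
theorem F38981 : act 1 n9966 = n8189 := d13_1 D9966 (iv D8189) (iv F31209)
theorem F38982 : act 5 n9966 = n8186 := d31_1 D9966 (iv D8186) D8185
def n9967 : Q := act 3 n8186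
theorem D9967 : act 3 n8186 = n9967 := rfl
theorem F38983 : act 0 n9967 = n9967 := d2_1 D9967 (iv D9967) F31212
theorem F38984 : act 1 n9967 = n8190 := d9_1 D9967 (iv D8190) (iv F31213)
theorem F38985 : act 6 n9967 = n9967 := d23_2 F31215 D9967 (iv D9967)
theorem F38986 : act 7 n9967 = n9967 := d24_2 D8186 D9967 (iv D9967) (iv D8186) F23099
def n9968 : Q := act 8 n8186
theorem D9968 : act 8 n8186 = n9968 := rfl
theorem F38987 : act 0 n9968 = n9968 := d7_1 D9968 (iv D9968) F31212
theorem F38988 : act 1 n9968 = n8191 := d14_1 D9968 (iv D8191) (iv F31213)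
theorem F38989 : act 4 n9968 = n9968 := d29_1 D9968 (iv D9968) F31214
theorem F38990 : act 6 n9968 = n9968 := d34_1 D9968 (iv D9968) F31215
theorem F38991 : act 7 n9968 = n9968 := d35_1 D9968 (iv D9968) (iv D8186) F23102 D8186
def n9969 : Q := act 3 n8187
theorem D9969 : act 3 n8187 = n9969 := rfl
def n9970 : Q := act 6 n8187
theorem D9970 : act 6 n8187 = n9970 := rfl
theorem F38998 : act 2 n9970 = n8192 := d18_1 D9970 (iv D8192) (iv F31217)
theorem F38999 : act 4 n9970 = n8188 := d27_1 D9970 (iv D8188) D8187
def n9971 : Q := act 7 n8187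
theorem D9971 : act 7 n8187 = n9971 := rfl
theorem F39001 : act 0 n9971 = n8198 := d6_1 D9971 (iv D8198) (iv F31216)
theorem F39002 : act 2 n9971 = n8193 := d19_1 D9971 (iv D8193) (iv F31217)
theorem F39003 : act 4 n9971 = n8189 := d28_1 D9971 (iv D8189) D8187
theorem F39004 : act 5 n9971 = n9971 := d31_1 D9971 (iv D9971) F31218
def n9972 : Q := act 7 n8188
theorem D9972 : act 7 n8188 = n9972 := rfl
theorem F39005 : act 0 n9972 = n8199 := d6_1 D9972 (iv D8199) (iv F31220)
theorem F39006 : act 2 n9972 = n8194 := d19_1 D9972 (iv D8194) (iv F31221)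
theorem F39007 : act 5 n9972 = n9972 := d31_1 D9972 (iv D9972) F31223
theorem F39008 : act 6 n9972 = n8189 := d33_1 D9972 (iv D8189) D8188
def n9973 : Q := act 3 n8189
theorem D9973 : act 3 n8189 = n9973 := rfl
theorem F39009 : act 0 n9973 = n8200 := d2_1 D9973 (iv D8200) (iv F31225)
theorem F39010 : act 2 n9973 = n8223 := d15_1 D9973 (iv D8223) F23201 (iv F23120) (iv F31226)
theorem F39011 : act 5 n9973 = n8190 := d22_2 (iv F31227) D9973 (iv D8190)
theorem F39012 : act 7 n9973 = n9973 := d24_2 D8189 D9973 (iv D9973) (iv D8189) F23105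
def n9974 : Q := act 8 n8189
theorem D9974 : act 8 n8189 = n9974 := rfl
theorem F39013 : act 0 n9974 = n8201 := d7_1 D9974 (iv D8201) (iv F31225)
theorem F39014 : act 2 n9974 = n8195 := d20_1 D9974 (iv D8195) (iv F31226)
theorem F39015 : act 5 n9974 = n8191 := d32_1 D9974 (iv D8191) (iv F31227)
theorem F39016 : act 7 n9974 = n9974 := d35_1 D9974 (iv D9974) (iv D8189) F23106 D8189
def n9975 : Q := act 4 n8190
theorem D9975 : act 4 n8190 = n9975 := rfl
theorem F39017 : act 0 n9975 = n8202 := d3_1 D9975 (iv D8202) (iv F31228)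
theorem F39018 : act 2 n9975 = n8225 := d16_1 D9975 (iv D8225) (iv F31229)
theorem F39019 : act 3 n9975 = n9975 := d21_1 D9975 (iv D9975) (iv D8190) F23109 D8190
theorem F39020 : act 6 n9975 = n9975 := d27_2 F31230 D9975 (iv D9975)
theorem F39021 : act 7 n9975 = n9975 := d28_2 F31231 D9975 (iv D9975)
def n9976 : Q := act 8 n8190
theorem D9976 : act 8 n8190 = n9976 := rfl
theorem F39022 : act 0 n9976 = n8203 := d7_1 D9976 (iv D8203) (iv F31228)
theorem F39023 : act 2 n9976 = n8226 := d20_1 D9976 (iv D8226) (iv F31229)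
theorem F39024 : act 3 n9976 = n8191 := d25_1 D9976 (iv D8191) D8190
theorem F39025 : act 6 n9976 = n9976 := d34_1 D9976 (iv D9976) F31230
def n9977 : Q := act 5 n8192
theorem D9977 : act 5 n8192 = n9977 := rfl
def n9978 : Q := act 7 n8192
theorem D9978 : act 7 n8192 = n9978 := rfl
theorem F39031 : act 0 n9978 = n8205 := d6_1 D9978 (iv D8205) (iv F31237)
theorem F39032 : act 4 n9978 = n8194 := d28_1 D9978 (iv D8194) (iv F31239)
theorem F39033 : act 6 n9978 = n8193 := d33_1 D9978 (iv D8193) D8192
def n9979 : Q := act 3 n8193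
theorem D9979 : act 3 n8193 = n9979 := rfl
theorem F39034 : act 0 n9979 = n8206 := d2_1 D9979 (iv D8206) (iv F31241)
theorem F39035 : act 4 n9979 = n8229 := d21_2 (iv F31242) D9979 (iv D8229) F23216 (iv F23120)
theorem F39036 : act 5 n9979 = n9979 := d22_2 F31243 D9979 (iv D9979)
theorem F39037 : act 7 n9979 = n9979 := d24_2 D8193 D9979 (iv D9979) (iv D8193) F23112
def n9980 : Q := act 8 n8193
theorem D9980 : act 8 n8193 = n9980 := rfl
theorem F39038 : act 0 n9980 = n8207 := d7_1 D9980 (iv D8207) (iv F31241)
theorem F39039 : act 4 n9980 = n8195 := d29_1 D9980 (iv D8195) (iv F31242)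
theorem F39040 : act 5 n9980 = n9980 := d32_1 D9980 (iv D9980) F31243
theorem F39041 : act 7 n9980 = n9980 := d35_1 D9980 (iv D9980) (iv D8193) F23114 D8193
def n9981 : Q := act 8 n8194
theorem D9981 : act 8 n8194 = n9981 := rfl
theorem F39042 : act 0 n9981 = n8208 := d7_1 D9981 (iv D8208) (iv F31244)
theorem F39043 : act 3 n9981 = n8231 := d25_1 D9981 (iv D8231) (iv F31245)
theorem F39044 : act 5 n9981 = n9981 := d32_1 D9981 (iv D9981) F31246
theorem F39045 : act 6 n9981 = n8195 := d34_1 D9981 (iv D8195) (iv F31247)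
theorem F39046 : act 7 n9981 = n9981 := d35_1 D9981 (iv D9981) (iv D8194) F23118 D8194
def n9985 : Q := act 7 n8197
theorem D9985 : act 7 n8197 = n9985 := rfl
theorem F39062 : act 2 n9985 = n8205 := d19_1 D9985 (iv D8205) (iv F31258)
theorem F39063 : act 4 n9985 = n8199 := d28_1 D9985 (iv D8199) (iv F31259)
theorem F39064 : act 6 n9985 = n8198 := d33_1 D9985 (iv D8198) D8197
def n9986 : Q := act 3 n8198
theorem D9986 : act 3 n8198 = n9986 := rfl
def n9987 : Q := act 8 n8198
theorem D9987 : act 8 n8198 = n9987 := rfl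
theorem F39067 : act 1 n9987 = n9987 := d14_1 D9987 (iv D9987) F31261
theorem F39068 : act 2 n9987 = n8207 := d20_1 D9987 (iv D8207) (iv F31262)
theorem F39069 : act 4 n9987 = n8201 := d29_1 D9987 (iv D8201) (iv F31263)
theorem F39070 : act 5 n9987 = n9987 := d32_1 D9987 (iv D9987) F31264
theorem F39071 : act 7 n9987 = n9987 := d35_1 D9987 (iv D9987) (iv D8198) F23130 D8198
def n9988 : Q := act 3 n8199
theorem D9988 : act 3 n8199 = n9988 := rfl
theorem F39072 : act 1 n9988 = n9988 := d9_1 D9988 (iv D9988) F31265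
theorem F39073 : act 2 n9988 = n8238 := d15_1 D9988 (iv D8238) F23238 (iv F23156) (iv F31266)
theorem F39074 : act 5 n9988 = n9988 := d22_2 F31267 D9988 (iv D9988)
theorem F39075 : act 6 n9988 = n8200 := d23_2 (iv F31268) D9988 (iv D8200)
theorem F39076 : act 7 n9988 = n9988 := d24_2 D8199 D9988 (iv D9988) (iv D8199) F23133
def n9989 : Q := act 8 n8199
theorem D9989 : act 8 n8199 = n9989 := rfl
theorem F39077 : act 1 n9989 = n9989 := d14_1 D9989 (iv D9989) F31265
theorem F39078 : act 2 n9989 = n8208 := d20_1 D9989 (iv D8208) (iv F31266)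
theorem F39079 : act 5 n9989 = n9989 := d32_1 D9989 (iv D9989) F31267
theorem F39080 : act 6 n9989 = n8201 := d34_1 D9989 (iv D8201) (iv F31268)
theorem F39081 : act 7 n9989 = n9989 := d35_1 D9989 (iv D9989) (iv D8199) F23135 D8199
def n9990 : Q := act 4 n8200
theorem D9990 : act 4 n8200 = n9990 := rfl
theorem F39082 : act 1 n9990 = n9990 := d10_1 D9990 (iv D9990) F31269
theorem F39083 : act 2 n9990 = n8240 := d16_1 D9990 (iv D8240) (iv F31270)
theorem F39084 : act 7 n9990 = n9990 := d28_2 F31272 D9990 (iv D9990)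
def n9991 : Q := act 8 n8200
theorem D9991 : act 8 n8200 = n9991 := rfl
theorem F39085 : act 1 n9991 = n9991 := d14_1 D9991 (iv D9991) F31269
theorem F39086 : act 2 n9991 = n8241 := d20_1 D9991 (iv D8241) (iv F31270)
theorem F39087 : act 3 n9991 = n8201 := d25_1 D9991 (iv D8201) D8200
theorem F39088 : act 5 n9991 = n8203 := d32_1 D9991 (iv D8203) (iv F31271)
def n9992 : Q := act 5 n8202
theorem D9992 : act 5 n8202 = n9992 := rfl
theorem F39089 : act 1 n9992 = n9992 := d11_1 D9992 (iv D9992) F31277
theorem F39090 : act 2 n9992 = n8242 := d17_1 D9992 (iv D8242) (iv F31278)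
theorem F39091 : act 3 n9992 = n9992 := d22_1 D9992 (iv D9992) F31279
theorem F39092 : act 7 n9992 = n9992 := d31_2 F31281 D9992 (iv D9992)
def n9993 : Q := act 8 n8202
theorem D9993 : act 8 n8202 = n9993 := rfl
theorem F39093 : act 1 n9993 = n9993 := d14_1 D9993 (iv D9993) F31277
theorem F39094 : act 2 n9993 = n8243 := d20_1 D9993 (iv D8243) (iv F31278)
theorem F39095 : act 3 n9993 = n9993 := d25_1 D9993 (iv D9993) F31279
theorem F39096 : act 4 n9993 = n8203 := d29_1 D9993 (iv D8203) D8202
theorem F39097 : act 6 n9993 = n9993 := d34_1 D9993 (iv D9993) F31280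
def n9994 : Q := act 7 n8203
theorem D9994 : act 7 n8203 = n9994 := rfl
theorem F39098 : act 1 n9994 = n9994 := d13_1 D9994 (iv D9994) F31282
theorem F39099 : act 2 n9994 = n8244 := d19_1 D9994 (iv D8244) (iv F31283)
theorem F39100 : act 3 n9994 = n9994 := d24_1 D9994 (iv D9994) F31284 F23147 (iv F31284)
theorem F39101 : act 6 n9994 = n9994 := d33_1 D9994 (iv D9994) F31285
theorem F39102 : act 8 n9994 = n9994 := d35_2 D8203 D9994 (iv D9994) (iv D8203) F23142
def n9995 : Q := act 7 n8204
theorem D9995 : act 7 n8204 = n9995 := rfl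
theorem F39103 : act 1 n9995 = n8209 := d13_1 D9995 (iv D8209) (iv F31286)
theorem F39105 : act 5 n9995 = n8205 := d31_1 D9995 (iv D8205) D8204
def n9996 : Q := act 3 n8205
theorem D9996 : act 3 n8205 = n9996 := rfl
theorem F39107 : act 1 n9996 = n8210 := d9_1 D9996 (iv D8210) (iv F31291)
theorem F39108 : act 4 n9996 = n8246 := d21_2 (iv F31292) D9996 (iv D8246) F23261 (iv F23156)
theorem F39109 : act 6 n9996 = n8206 := d23_2 (iv F31293) D9996 (iv D8206)
theorem F39110 : act 7 n9996 = n9996 := d24_2 D8205 D9996 (iv D9996) (iv D8205) F23149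
def n9997 : Q := act 8 n8205
theorem D9997 : act 8 n8205 = n9997 := rfl
theorem F39111 : act 1 n9997 = n8211 := d14_1 D9997 (iv D8211) (iv F31291)
theorem F39112 : act 4 n9997 = n8208 := d29_1 D9997 (iv D8208) (iv F31292)
theorem F39113 : act 6 n9997 = n8207 := d34_1 D9997 (iv D8207) (iv F31293)
theorem F39114 : act 7 n9997 = n9997 := d35_1 D9997 (iv D9997) (iv D8205) F23151 D8205
def n9998 : Q := act 2 n8206
theorem D9998 : act 2 n8206 = n9998 := rfl
theorem F39115 : act 4 n9998 = n8248 := d16_2 (iv F31295) D9998 (iv D8248)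
theorem F39116 : act 5 n9998 = n9998 := d17_2 F31296 D9998 (iv D9998)
theorem F39117 : act 7 n9998 = n9998 := d19_2 F31297 D9998 (iv D9998)
def n9999 : Q := act 8 n8206
theorem D9999 : act 8 n8206 = n9999 := rfl
theorem F39118 : act 1 n9999 = n8213 := d14_1 D9999 (iv D8213) (iv F31294)
theorem F39119 : act 3 n9999 = n8207 := d25_1 D9999 (iv D8207) D8206
theorem F39120 : act 4 n9999 = n8249 := d29_1 D9999 (iv D8249) (iv F31295)
theorem F39121 : act 5 n9999 = n9999 := d32_1 D9999 (iv D9999) F31296
def n10000 : Q := act 3 n8209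
theorem D10000 : act 3 n8209 = n10000 := rfl
theorem F39122 : act 5 n10000 = n8210 := d22_2 (iv F31309) D10000 (iv D8210)
theorem F39123 : act 6 n10000 = n10000 := d23_2 F31310 D10000 (iv D10000)
theorem F39124 : act 7 n10000 = n10000 := d24_2 D8209 D10000 (iv D10000) (iv D8209) F23164
def n10001 : Q := act 8 n8209
theorem D10001 : act 8 n8209 = n10001 := rfl
theorem F39125 : act 2 n10001 = n10001 := d20_1 D10001 (iv D10001) F31307
theorem F39126 : act 4 n10001 = n10001 := d29_1 D10001 (iv D10001) F31308
theorem F39127 : act 5 n10001 = n8211 := d32_1 D10001 (iv D8211) (iv F31309)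
theorem F39128 : act 6 n10001 = n10001 := d34_1 D10001 (iv D10001) F31310
theorem F39129 : act 7 n10001 = n10001 := d35_1 D10001 (iv D10001) (iv D8209) F23167 D8209
def n10002 : Q := act 2 n8210
theorem D10002 : act 2 n8210 = n10002 := rfl
theorem F39130 : act 3 n10002 = n10002 := d15_2 D8210 D10002 (iv D10002) (iv D8210) F23168
theorem F39131 : act 4 n10002 = n8252 := d16_2 (iv F31311) D10002 (iv D8252)
theorem F39132 : act 6 n10002 = n8212 := d18_2 (iv F31312) D10002 (iv D8212)
theorem F39133 : act 7 n10002 = n10002 := d19_2 F31313 D10002 (iv D10002)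
def n10003 : Q := act 8 n8210
theorem D10003 : act 8 n8210 = n10003 := rfl
theorem F39134 : act 3 n10003 = n8211 := d25_1 D10003 (iv D8211) D8210
theorem F39135 : act 4 n10003 = n8253 := d29_1 D10003 (iv D8253) (iv F31311)
theorem F39136 : act 6 n10003 = n8213 := d34_1 D10003 (iv D8213) (iv F31312)
def n10004 : Q := act 1 n8212
theorem D10004 : act 1 n8212 = n10004 := rfl
theorem F39137 : act 3 n10004 = n10004 := d9_2 F31318 D10004 (iv D10004)
theorem F39138 : act 4 n10004 = n8254 := d10_2 (iv F31319) D10004 (iv D8254)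
theorem F39139 : act 5 n10004 = n10004 := d11_2 F31320 D10004 (iv D10004)
theorem F39140 : act 7 n10004 = n10004 := d13_2 F31321 D10004 (iv D10004)
def n10005 : Q := act 8 n8212
theorem D10005 : act 8 n8212 = n10005 := rfl
theorem F39141 : act 2 n10005 = n8213 := d20_1 D10005 (iv D8213) D8212
theorem F39142 : act 3 n10005 = n10005 := d25_1 D10005 (iv D10005) F31318
theorem F39143 : act 4 n10005 = n8255 := d29_1 D10005 (iv D8255) (iv F31319)
theorem F39144 : act 5 n10005 = n10005 := d32_1 D10005 (iv D10005) F31320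
def n10006 : Q := act 7 n8213
theorem D10006 : act 7 n8213 = n10006 := rfl
theorem F39145 : act 3 n10006 = n10006 := d24_1 D10006 (iv D10006) F31322 F23177 (iv F31322)
theorem F39146 : act 4 n10006 = n8256 := d28_1 D10006 (iv D8256) (iv F31323)
theorem F39147 : act 5 n10006 = n10006 := d31_1 D10006 (iv D10006) F31324
theorem F39148 : act 8 n10006 = n10006 := d35_2 D8213 D10006 (iv D10006) (iv D8213) F23173
def n10007 : Q := act 3 n8214
theorem D10007 : act 3 n8214 = n10007 := rfl
theorem F39149 : act 0 n10007 = n8257 := d2_1 D10007 (iv D8257) (iv F31325)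
theorem F39150 : act 1 n10007 = n8219 := d9_1 D10007 (iv D8219) (iv F31326)
theorem F39151 : act 4 n10007 = n10007 := d21_2 D8214 D10007 (iv D10007) (iv D8214) F23185
theorem F39152 : act 5 n10007 = n8466 := d22_2 (iv F31327) D10007 (iv D8466)
theorem F39153 : act 8 n10007 = n9875 := d25_2 (iv F31328) D10007 (iv D9875)
def n10008 : Q := act 6 n8214
theorem D10008 : act 6 n8214 = n10008 := rfl
theorem F39154 : act 0 n10008 = n8258 := d5_1 D10008 (iv D8258) (iv F31325)
theorem F39155 : act 1 n10008 = n8220 := d12_1 D10008 (iv D8220) (iv F31326)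
theorem F39156 : act 4 n10008 = n8215 := d27_1 D10008 (iv D8215) D8214
theorem F39157 : act 8 n10008 = n8789 := d34_2 (iv F31328) D10008 F38619
def n10009 : Q := act 7 n8214
theorem D10009 : act 7 n8214 = n10009 := rfl
theorem F39158 : act 0 n10009 = n8259 := d6_1 D10009 (iv D8259) (iv F31325)
theorem F39159 : act 1 n10009 = n8221 := d13_1 D10009 (iv D8221) (iv F31326)
theorem F39160 : act 4 n10009 = n8216 := d28_1 D10009 (iv D8216) D8214
theorem F39161 : act 5 n10009 = n8468 := d31_1 D10009 (iv D8468) (iv F31327)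
def n10010 : Q := act 7 n8215
theorem D10010 : act 7 n8215 = n10010 := rfl
theorem F39162 : act 0 n10010 = n8260 := d6_1 D10010 (iv D8260) (iv F31329)
theorem F39163 : act 1 n10010 = n8222 := d13_1 D10010 (iv D8222) (iv F31330)
theorem F39164 : act 5 n10010 = n10010 := d31_1 D10010 (iv D10010) F31332
theorem F39165 : act 6 n10010 = n8216 := d33_1 D10010 (iv D8216) D8215
def n10011 : Q := act 3 n8216
theorem D10011 : act 3 n8216 = n10011 := rfl
theorem F39166 : act 0 n10011 = n8261 := d2_1 D10011 (iv D8261) (iv F31334)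
theorem F39167 : act 1 n10011 = n8223 := d9_1 D10011 (iv D8223) (iv F31335)
theorem F39168 : act 5 n10011 = n8217 := d22_2 (iv F31336) D10011 (iv D8217)
theorem F39169 : act 7 n10011 = n10011 := d24_2 D8216 D10011 (iv D10011) (iv D8216) F23185
def n10012 : Q := act 8 n8216
theorem D10012 : act 8 n8216 = n10012 := rfl
theorem F39170 : act 0 n10012 = n8262 := d7_1 D10012 (iv D8262) (iv F31334)
theorem F39171 : act 1 n10012 = n8224 := d14_1 D10012 (iv D8224) (iv F31335)
theorem F39172 : act 5 n10012 = n8218 := d32_1 D10012 (iv D8218) (iv F31336)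
theorem F39173 : act 7 n10012 = n9878 := d35_1 D10012 (iv D9878) (iv D7725) (iv F23186) D8216
def n10013 : Q := act 2 n8217
theorem D10013 : act 2 n8217 = n10013 := rfl
theorem F39174 : act 0 n10013 = n8263 := d1_1 D10013 (iv D8263) (iv F31337)
theorem F39175 : act 6 n10013 = n10013 := d18_2 F31339 D10013 (iv D10013)
theorem F39176 : act 7 n10013 = n10013 := d19_2 F31340 D10013 (iv D10013)
def n10014 : Q := act 4 n8217
theorem D10014 : act 4 n8217 = n10014 := rfl
theorem F39177 : act 0 n10014 = n8264 := d3_1 D10014 (iv D8264) (iv F31337)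
theorem F39178 : act 1 n10014 = n8225 := d10_1 D10014 (iv D8225) (iv F31338)
theorem F39179 : act 3 n10014 = n8473 := d21_1 D10014 (iv D8473) (iv D6181) (iv F23189) D8217
theorem F39180 : act 6 n10014 = n10014 := d27_2 F31339 D10014 (iv D10014)
theorem F39181 : act 7 n10014 = n10014 := d28_2 F31340 D10014 (iv D10014)
def n10015 : Q := act 8 n8217
theorem D10015 : act 8 n8217 = n10015 := rfl
theorem F39182 : act 0 n10015 = n8265 := d7_1 D10015 (iv D8265) (iv F31337)
theorem F39183 : act 1 n10015 = n8226 := d14_1 D10015 (iv D8226) (iv F31338)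
theorem F39184 : act 3 n10015 = n8218 := d25_1 D10015 (iv D8218) D8217
theorem F39185 : act 6 n10015 = n10015 := d34_1 D10015 (iv D10015) F31339
def n10016 : Q := act 6 n8219
theorem D10016 : act 6 n8219 = n10016 := rfl
theorem F39186 : act 0 n10016 = n8232 := d5_1 D10016 (iv D8232) (iv F31346)
theorem F39187 : act 2 n10016 = n10016 := d18_1 D10016 (iv D10016) F31347
theorem F39188 : act 3 n10016 = n8220 := d23_1 D10016 (iv D8220) D8219
theorem F39189 : act 4 n10016 = n10016 := d27_1 D10016 (iv D10016) F31348
theorem F39190 : act 8 n10016 = n8806 := d34_2 (iv F31350) D10016 F38628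
def n10017 : Q := act 7 n8219
theorem D10017 : act 7 n8219 = n10017 := rfl
theorem F39191 : act 0 n10017 = n8233 := d6_1 D10017 (iv D8233) (iv F31346)
theorem F39192 : act 2 n10017 = n10017 := d19_1 D10017 (iv D10017) F31347
theorem F39193 : act 4 n10017 = n10017 := d28_1 D10017 (iv D10017) F31348
theorem F39194 : act 5 n10017 = n8476 := d31_1 D10017 (iv D8476) (iv F31349)
def n10018 : Q := act 5 n8220
theorem D10018 : act 5 n8220 = n10018 := rfl
theorem F39195 : act 0 n10018 = n8234 := d4_1 D10018 (iv D8234) (iv F31351)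
theorem F39196 : act 2 n10018 = n8227 := d17_1 D10018 (iv D8227) (iv F31352)
theorem F39197 : act 4 n10018 = n10018 := d26_1 D10018 (iv D10018) F31353 F23198 (iv F31353)
theorem F39198 : act 6 n10018 = n8477 := d30_2 D8220 D10018 (iv D8477) (iv D6184) (iv F23193)
theorem F39199 : act 8 n10018 = n8380 := d32_2 F38416 D10018 F31941
def n10019 : Q := act 7 n8220
theorem D10019 : act 7 n8220 = n10019 := rfl
theorem F39200 : act 0 n10019 = n8235 := d6_1 D10019 (iv D8235) (iv F31351)
theorem F39201 : act 2 n10019 = n8228 := d19_1 D10019 (iv D8228) (iv F31352)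
theorem F39202 : act 4 n10019 = n8222 := d28_1 D10019 (iv D8222) (iv F31353)
theorem F39203 : act 6 n10019 = n8221 := d33_1 D10019 (iv D8221) D8220
def n10020 : Q := act 3 n8221
theorem D10020 : act 3 n8221 = n10020 := rfl
theorem F39204 : act 0 n10020 = n8236 := d2_1 D10020 (iv D8236) (iv F31355)
theorem F39205 : act 5 n10020 = n8479 := d22_2 (iv F31358) D10020 (iv D8479)
def n10021 : Q := act 8 n8221
theorem D10021 : act 8 n8221 = n10021 := rfl
theorem F39206 : act 0 n10021 = n8237 := d7_1 D10021 (iv D8237) (iv F31355)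
theorem F39207 : act 2 n10021 = n8230 := d20_1 D10021 (iv D8230) (iv F31356)
theorem F39208 : act 4 n10021 = n8224 := d29_1 D10021 (iv D8224) (iv F31357)
theorem F39209 : act 5 n10021 = n8480 := d32_1 D10021 (iv D8480) (iv F31358)
theorem F39210 : act 7 n10021 = n9884 := d35_1 D10021 (iv D9884) (iv D7730) (iv F23194) D8221
def n10022 : Q := act 3 n8222
theorem D10022 : act 3 n8222 = n10022 := rfl
theorem F39211 : act 0 n10022 = n8238 := d2_1 D10022 (iv D8238) (iv F31359)
theorem F39212 : act 5 n10022 = n10022 := d22_2 F31361 D10022 (iv D10022)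
theorem F39213 : act 6 n10022 = n8223 := d23_2 (iv F31362) D10022 (iv D8223)
theorem F39214 : act 7 n10022 = n10022 := d24_2 D8222 D10022 (iv D10022) (iv D8222) F23197
def n10023 : Q := act 8 n8222
theorem D10023 : act 8 n8222 = n10023 := rfl
theorem F39215 : act 0 n10023 = n8239 := d7_1 D10023 (iv D8239) (iv F31359)
theorem F39216 : act 2 n10023 = n8231 := d20_1 D10023 (iv D8231) (iv F31360)
theorem F39217 : act 5 n10023 = n10023 := d32_1 D10023 (iv D10023) F31361
theorem F39218 : act 6 n10023 = n8224 := d34_1 D10023 (iv D8224) (iv F31362)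
theorem F39219 : act 7 n10023 = n8918 := d35_1 D10023 (iv D8918) F24968 F38484 D8222
def n10024 : Q := act 4 n8223
theorem D10024 : act 4 n8223 = n10024 := rfl
theorem F39220 : act 0 n10024 = n8240 := d3_1 D10024 (iv D8240) (iv F31363)
theorem F39221 : act 7 n10024 = n10024 := d28_2 F31365 D10024 (iv D10024)
def n10025 : Q := act 8 n8223
theorem D10025 : act 8 n8223 = n10025 := rfl
theorem F39222 : act 0 n10025 = n8241 := d7_1 D10025 (iv D8241) (iv F31363)
theorem F39223 : act 3 n10025 = n8224 := d25_1 D10025 (iv D8224) D8223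
theorem F39224 : act 5 n10025 = n8226 := d32_1 D10025 (iv D8226) (iv F31364)
def n10026 : Q := act 5 n8225
theorem D10026 : act 5 n8225 = n10026 := rfl
theorem F39225 : act 0 n10026 = n8242 := d4_1 D10026 (iv D8242) (iv F31370)
theorem F39226 : act 3 n10026 = n8485 := d22_1 D10026 (iv D8485) (iv F31371)
theorem F39227 : act 7 n10026 = n10026 := d31_2 F31373 D10026 (iv D10026)
def n10027 : Q := act 8 n8225
theorem D10027 : act 8 n8225 = n10027 := rfl
theorem F39228 : act 0 n10027 = n8243 := d7_1 D10027 (iv D8243) (iv F31370)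
theorem F39229 : act 3 n10027 = n8486 := d25_1 D10027 (iv D8486) (iv F31371)
theorem F39230 : act 4 n10027 = n8226 := d29_1 D10027 (iv D8226) D8225
theorem F39231 : act 6 n10027 = n10027 := d34_1 D10027 (iv D10027) F31372
def n10028 : Q := act 7 n8226
theorem D10028 : act 7 n8226 = n10028 := rfl
theorem F39232 : act 0 n10028 = n8244 := d6_1 D10028 (iv D8244) (iv F31374)
theorem F39233 : act 3 n10028 = n9889 := d24_1 D10028 (iv D9889) F29617 (iv F23210) (iv F31375)
theorem F39234 : act 6 n10028 = n10028 := d33_1 D10028 (iv D10028) F31376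
theorem F39235 : act 8 n10028 = n10028 := d35_2 D8226 D10028 (iv D10028) (iv D8226) F23205
def n10029 : Q := act 7 n8227
theorem D10029 : act 7 n8227 = n10029 := rfl
theorem F39236 : act 0 n10029 = n8245 := d6_1 D10029 (iv D8245) (iv F31377)
theorem F39237 : act 4 n10029 = n10029 := d28_1 D10029 (iv D10029) F31379
theorem F39238 : act 5 n10029 = n8228 := d31_1 D10029 (iv D8228) D8227
theorem F39239 : act 6 n10029 = n8488 := d33_1 D10029 (iv D8488) (iv F31380)
def n10030 : Q := act 3 n8228
theorem D10030 : act 3 n8228 = n10030 := rfl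
theorem F39240 : act 0 n10030 = n8246 := d2_1 D10030 (iv D8246) (iv F31382)
theorem F39241 : act 6 n10030 = n8229 := d23_2 (iv F31384) D10030 (iv D8229)
theorem F39242 : act 7 n10030 = n10030 := d24_2 D8228 D10030 (iv D10030) (iv D8228) F23212
def n10031 : Q := act 8 n8228
theorem D10031 : act 8 n8228 = n10031 := rfl
theorem F39243 : act 0 n10031 = n8247 := d7_1 D10031 (iv D8247) (iv F31382)
theorem F39244 : act 4 n10031 = n8231 := d29_1 D10031 (iv D8231) (iv F31383)
theorem F39245 : act 6 n10031 = n8230 := d34_1 D10031 (iv D8230) (iv F31384)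
theorem F39246 : act 7 n10031 = n8674 := d35_1 D10031 (iv D8674) F24336 F38473 D8228
def n10032 : Q := act 2 n8229
theorem D10032 : act 2 n8229 = n10032 := rfl
theorem F39247 : act 0 n10032 = n8248 := d1_1 D10032 (iv D8248) (iv F31385)
theorem F39248 : act 5 n10032 = n8491 := d17_2 (iv F31386) D10032 (iv D8491)
theorem F39249 : act 7 n10032 = n10032 := d19_2 F31387 D10032 (iv D10032)
def n10033 : Q := act 8 n8229
theorem D10033 : act 8 n8229 = n10033 := rfl
theorem F39250 : act 0 n10033 = n8249 := d7_1 D10033 (iv D8249) (iv F31385)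
theorem F39251 : act 3 n10033 = n8230 := d25_1 D10033 (iv D8230) D8229
theorem F39252 : act 5 n10033 = n8492 := d32_1 D10033 (iv D8492) (iv F31386)
def n10034 : Q := act 5 n8232
theorem D10034 : act 5 n8232 = n10034 := rfl
theorem F39253 : act 1 n10034 = n8284 := d11_1 D10034 (iv D8284) (iv F31396)
theorem F39254 : act 2 n10034 = n10034 := d17_1 D10034 (iv D10034) F31397
theorem F39255 : act 3 n10034 = n8234 := d22_1 D10034 (iv D8234) (iv F31398)
theorem F39256 : act 6 n10034 = n8493 := d30_2 D8232 D10034 (iv D8493) (iv D6196) (iv F23227)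
theorem F39257 : act 8 n10034 = n8365 := d32_2 F38281 D10034 F31885
def n10035 : Q := act 7 n8232
theorem D10035 : act 7 n8232 = n10035 := rfl
theorem F39258 : act 1 n10035 = n8285 := d13_1 D10035 (iv D8285) (iv F31396)
theorem F39259 : act 2 n10035 = n10035 := d19_1 D10035 (iv D10035) F31397
theorem F39260 : act 4 n10035 = n10035 := d28_1 D10035 (iv D10035) F31399
theorem F39261 : act 6 n10035 = n8233 := d33_1 D10035 (iv D8233) D8232
def n10036 : Q := act 3 n8233
theorem D10036 : act 3 n8233 = n10036 := rfl
theorem F39262 : act 1 n10036 = n8286 := d9_1 D10036 (iv D8286) (iv F31401)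
theorem F39263 : act 5 n10036 = n8495 := d22_2 (iv F31404) D10036 (iv D8495)
theorem F39264 : act 7 n10036 = n8236 := d24_2 D8233 D10036 (iv D8236) (iv D6015) D6013
def n10037 : Q := act 8 n8233
theorem D10037 : act 8 n8233 = n10037 := rfl
theorem F39265 : act 1 n10037 = n8287 := d14_1 D10037 (iv D8287) (iv F31401)
theorem F39266 : act 2 n10037 = n10037 := d20_1 D10037 (iv D10037) F31402
theorem F39267 : act 4 n10037 = n10037 := d29_1 D10037 (iv D10037) F31403
theorem F39268 : act 5 n10037 = n8496 := d32_1 D10037 (iv D8496) (iv F31404)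
theorem F39269 : act 7 n10037 = n9893 := d35_1 D10037 (iv D9893) (iv D7742) (iv F23228) D8233
def n10038 : Q := act 7 n8234
theorem D10038 : act 7 n8234 = n10038 := rfl
theorem F39270 : act 1 n10038 = n8288 := d13_1 D10038 (iv D8288) (iv F31405)
theorem F39271 : act 2 n10038 = n8245 := d19_1 D10038 (iv D8245) (iv F31406)
theorem F39272 : act 4 n10038 = n10038 := d28_1 D10038 (iv D10038) F31407
theorem F39273 : act 5 n10038 = n8235 := d31_1 D10038 (iv D8235) D8234
theorem F39274 : act 6 n10038 = n8497 := d33_1 D10038 (iv D8497) (iv F31408)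
def n10039 : Q := act 3 n8235
theorem D10039 : act 3 n8235 = n10039 := rfl
theorem F39275 : act 1 n10039 = n8289 := d9_1 D10039 (iv D8289) (iv F31410)
theorem F39276 : act 6 n10039 = n8236 := d23_2 (iv F31413) D10039 (iv D8236)
def n10040 : Q := act 8 n8235
theorem D10040 : act 8 n8235 = n10040 := rfl
theorem F39277 : act 1 n10040 = n8290 := d14_1 D10040 (iv D8290) (iv F31410)
theorem F39278 : act 2 n10040 = n8247 := d20_1 D10040 (iv D8247) (iv F31411)
theorem F39279 : act 4 n10040 = n8239 := d29_1 D10040 (iv D8239) (iv F31412)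
theorem F39280 : act 6 n10040 = n8237 := d34_1 D10040 (iv D8237) (iv F31413)
theorem F39281 : act 7 n10040 = n8664 := d35_1 D10040 (iv D8664) F24313 F38348 D8235
def n10041 : Q := act 2 n8236
theorem D10041 : act 2 n8236 = n10041 := rfl
theorem F39282 : act 3 n10041 = n8248 := d15_2 D8236 D10041 (iv D8248) (iv D6023) (iv F23234)
theorem F39283 : act 5 n10041 = n8500 := d17_2 (iv F31415) D10041 (iv D8500)
def n10042 : Q := act 4 n8236
theorem D10042 : act 4 n8236 = n10042 := rfl
theorem F39284 : act 1 n10042 = n8292 := d10_1 D10042 (iv D8292) (iv F31414)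
theorem F39285 : act 3 n10042 = n8240 := d21_1 D10042 (iv D8240) (iv D6017) (iv F23235) D8236
def n10043 : Q := act 8 n8236
theorem D10043 : act 8 n8236 = n10043 := rfl
theorem F39286 : act 1 n10043 = n8293 := d14_1 D10043 (iv D8293) (iv F31414)
theorem F39287 : act 3 n10043 = n8237 := d25_1 D10043 (iv D8237) D8236
theorem F39288 : act 5 n10043 = n8502 := d32_1 D10043 (iv D8502) (iv F31415)
def n10044 : Q := act 4 n8238
theorem D10044 : act 4 n8238 = n10044 := rfl
theorem F39289 : act 1 n10044 = n8294 := d10_1 D10044 (iv D8294) (iv F31421)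
theorem F39290 : act 6 n10044 = n8240 := d27_2 (iv F31423) D10044 (iv D8240)
theorem F39291 : act 7 n10044 = n10044 := d28_2 F31424 D10044 (iv D10044)
def n10045 : Q := act 8 n8238
theorem D10045 : act 8 n8238 = n10045 := rfl
theorem F39292 : act 1 n10045 = n8295 := d14_1 D10045 (iv D8295) (iv F31421)
theorem F39293 : act 3 n10045 = n8239 := d25_1 D10045 (iv D8239) D8238
theorem F39294 : act 5 n10045 = n10045 := d32_1 D10045 (iv D10045) F31422
theorem F39295 : act 6 n10045 = n8241 := d34_1 D10045 (iv D8241) (iv F31423)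
def n10046 : Q := act 5 n8240
theorem D10046 : act 5 n8240 = n10046 := rfl
theorem F39296 : act 1 n10046 = n8296 := d11_1 D10046 (iv D8296) (iv F31430)
theorem F39297 : act 4 n10046 = n8242 := d26_1 D10046 (iv D8242) (iv D6019) (iv F23242) D8240
theorem F39298 : act 7 n10046 = n10046 := d31_2 F31431 D10046 (iv D10046)
def n10047 : Q := act 8 n8240
theorem D10047 : act 8 n8240 = n10047 := rfl
theorem F39299 : act 1 n10047 = n8297 := d14_1 D10047 (iv D8297) (iv F31430)
theorem F39300 : act 4 n10047 = n8241 := d29_1 D10047 (iv D8241) D8240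
def n10048 : Q := act 7 n8241
theorem D10048 : act 7 n8241 = n10048 := rfl
theorem F39301 : act 1 n10048 = n8298 := d13_1 D10048 (iv D8298) (iv F31432)
theorem F39302 : act 3 n10048 = n9899 := d24_1 D10048 (iv D9899) F29671 (iv F23247) (iv F31433)
theorem F39303 : act 5 n10048 = n8244 := d31_1 D10048 (iv D8244) (iv F31434)
theorem F39304 : act 8 n10048 = n10048 := d35_2 D8241 D10048 (iv D10048) (iv D8241) F23243
def n10049 : Q := act 6 n8242
theorem D10049 : act 6 n8242 = n10049 := rfl
theorem F39305 : act 1 n10049 = n8299 := d12_1 D10049 (iv D8299) (iv F31435)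
theorem F39306 : act 3 n10049 = n8508 := d23_1 D10049 (iv D8508) (iv F31436)
theorem F39307 : act 5 n10049 = n10049 := d30_1 D10049 (iv D10049) (iv D8242) F23250 D8242
theorem F39308 : act 7 n10049 = n10049 := d33_2 F31437 D10049 (iv D10049)
def n10050 : Q := act 8 n8242
theorem D10050 : act 8 n8242 = n10050 := rfl
theorem F39309 : act 1 n10050 = n8300 := d14_1 D10050 (iv D8300) (iv F31435)
theorem F39310 : act 3 n10050 = n8509 := d25_1 D10050 (iv D8509) (iv F31436)
theorem F39311 : act 5 n10050 = n8243 := d32_1 D10050 (iv D8243) D8242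
def n10051 : Q := act 7 n8243
theorem D10051 : act 7 n8243 = n10051 := rfl
theorem F39312 : act 1 n10051 = n8301 := d13_1 D10051 (iv D8301) (iv F31438)
theorem F39313 : act 4 n10051 = n8244 := d28_1 D10051 (iv D8244) (iv F31440)
theorem F39314 : act 6 n10051 = n10051 := d33_1 D10051 (iv D10051) F31441
theorem F39315 : act 8 n10051 = n10051 := d35_2 D8243 D10051 (iv D10051) (iv D8243) F23251
def n10052 : Q := act 3 n8245
theorem D10052 : act 3 n8245 = n10052 := rfl
theorem F39316 : act 1 n10052 = n8250 := d9_1 D10052 (iv D8250) (iv F31446)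
theorem F39317 : act 5 n10052 = n8246 := d22_2 (iv F31448) D10052 (iv D8246)
theorem F39318 : act 6 n10052 = n8463 := d23_2 (iv F31449) D10052 F38469
theorem F39319 : act 7 n10052 = n10052 := d24_2 D8245 D10052 (iv D10052) (iv D8245) F23256
def n10053 : Q := act 8 n8245
theorem D10053 : act 8 n8245 = n10053 := rfl
theorem F39320 : act 1 n10053 = n8251 := d14_1 D10053 (iv D8251) (iv F31446)
theorem F39321 : act 4 n10053 = n10053 := d29_1 D10053 (iv D10053) F31447
theorem F39322 : act 5 n10053 = n8247 := d32_1 D10053 (iv D8247) (iv F31448)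
theorem F39323 : act 6 n10053 = n8512 := d34_1 D10053 (iv D8512) (iv F31449)
theorem F39324 : act 7 n10053 = n8316 := d35_1 D10053 (iv D8316) F23437 (iv F38346) D8245
def n10054 : Q := act 2 n8246
theorem D10054 : act 2 n8246 = n10054 := rfl
theorem F39325 : act 6 n10054 = n8248 := d18_2 (iv F31451) D10054 (iv D8248)
theorem F39326 : act 7 n10054 = n10054 := d19_2 F31452 D10054 (iv D10054)
def n10055 : Q := act 8 n8246
theorem D10055 : act 8 n8246 = n10055 := rfl
theorem F39327 : act 1 n10055 = n8253 := d14_1 D10055 (iv D8253) (iv F31450)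
theorem F39328 : act 3 n10055 = n8247 := d25_1 D10055 (iv D8247) D8246
theorem F39329 : act 6 n10055 = n8249 := d34_1 D10055 (iv D8249) (iv F31451)
def n10056 : Q := act 1 n8248
theorem D10056 : act 1 n8248 = n10056 := rfl
theorem F39330 : act 2 n10056 = n8254 := d8_2 D8248 D10056 (iv D8254) (iv D6029) (iv F23263)
theorem F39331 : act 5 n10056 = n8515 := d11_2 (iv F31457) D10056 (iv D8515)
theorem F39332 : act 7 n10056 = n10056 := d13_2 F31458 D10056 (iv D10056)
def n10057 : Q := act 8 n8248
theorem D10057 : act 8 n8248 = n10057 := rfl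
theorem F39333 : act 2 n10057 = n8249 := d20_1 D10057 (iv D8249) D8248
theorem F39334 : act 5 n10057 = n8516 := d32_1 D10057 (iv D8516) (iv F31457)
def n10058 : Q := act 7 n8249
theorem D10058 : act 7 n8249 = n10058 := rfl
theorem F39335 : act 1 n10058 = n8256 := d13_1 D10058 (iv D8256) (iv F31459)
theorem F39336 : act 3 n10058 = n9904 := d24_1 D10058 (iv D9904) F29697 (iv F23269) (iv F31460)
theorem F39337 : act 5 n10058 = n8517 := d31_1 D10058 (iv D8517) (iv F31461)
theorem F39338 : act 8 n10058 = n10058 := d35_2 D8249 D10058 (iv D10058) (iv D8249) F23265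
def n10059 : Q := act 4 n8250
theorem D10059 : act 4 n8250 = n10059 := rfl
theorem F39339 : act 0 n10059 = n10002 := d3_1 D10059 F39131 F38400
theorem F39340 : act 2 n10059 = n8419 := d16_1 D10059 F32097 (iv F38339)
theorem F39341 : act 3 n10059 = n10059 := d21_1 D10059 (iv D10059) (iv D8250) F23275 D8250
theorem F39342 : act 6 n10059 = n8421 := d27_2 F38393 D10059 F32107
theorem F39343 : act 7 n10059 = n10059 := d28_2 F31464 D10059 (iv D10059)
def n10060 : Q := act 8 n8250
theorem D10060 : act 8 n8250 = n10060 := rfl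
theorem F39344 : act 2 n10060 = n8462 := d20_1 D10060 (iv D8462) (iv F38339)
theorem F39345 : act 3 n10060 = n8251 := d25_1 D10060 (iv D8251) D8250
theorem F39346 : act 5 n10060 = n8253 := d32_1 D10060 (iv D8253) (iv F31462)
theorem F39347 : act 6 n10060 = n8464 := d34_1 D10060 (iv D8464) F38393
def n10061 : Q := act 1 n8252
theorem D10061 : act 1 n8252 = n10061 := rfl
theorem F39348 : act 3 n10061 = n8312 := d9_2 (iv F31470) D10061 (iv D8312)
theorem F39349 : act 5 n10061 = n8455 := d11_2 (iv F38401) D10061 F32248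
theorem F39350 : act 6 n10061 = n8254 := d12_2 (iv F31471) D10061 (iv D8254)
theorem F39351 : act 7 n10061 = n10061 := d13_2 F31472 D10061 (iv D10061)
def n10062 : Q := act 8 n8252
theorem D10062 : act 8 n8252 = n10062 := rfl
theorem F39352 : act 0 n10062 = n10060 := d7_1 D10062 (iv D10060) (iv F38400)
theorem F39353 : act 2 n10062 = n8253 := d20_1 D10062 (iv D8253) D8252
theorem F39354 : act 3 n10062 = n8313 := d25_1 D10062 (iv D8313) (iv F31470)
theorem F39355 : act 5 n10062 = n8462 := d32_1 D10062 (iv D8462) (iv F38401)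
theorem F39356 : act 6 n10062 = n8255 := d34_1 D10062 (iv D8255) (iv F31471)
def n10063 : Q := act 7 n8253
theorem D10063 : act 7 n8253 = n10063 := rfl
theorem F39357 : act 3 n10063 = n8526 := d24_1 D10063 (iv D8526) F23997 F38480 (iv F31473)
theorem F39358 : act 6 n10063 = n8256 := d33_1 D10063 (iv D8256) (iv F31474)
theorem F39359 : act 8 n10063 = n10063 := d35_2 D8253 D10063 (iv D10063) (iv D8253) F23279
def n10064 : Q := act 0 n8254
theorem D10064 : act 0 n8254 = n10064 := rfl
theorem F39360 : act 3 n10064 = n8315 := d2_2 (iv F31475) D10064 (iv D8315)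
theorem F39361 : act 5 n10064 = n8524 := d4_2 (iv F31476) D10064 (iv D8524)
theorem F39362 : act 7 n10064 = n10064 := d6_2 F31477 D10064 (iv D10064)
def n10065 : Q := act 8 n8254
theorem D10065 : act 8 n8254 = n10065 := rfl
theorem F39363 : act 1 n10065 = n8255 := d14_1 D10065 (iv D8255) D8254
theorem F39364 : act 3 n10065 = n8316 := d25_1 D10065 (iv D8316) (iv F31475)
theorem F39365 : act 5 n10065 = n8525 := d32_1 D10065 (iv D8525) (iv F31476)
def n10066 : Q := act 7 n8255
theorem D10066 : act 7 n8255 = n10066 := rfl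
theorem F39366 : act 2 n10066 = n8256 := d19_1 D10066 (iv D8256) (iv F31478)
theorem F39367 : act 5 n10066 = n8526 := d31_1 D10066 (iv D8526) (iv F31480)
theorem F39368 : act 8 n10066 = n10066 := d35_2 D8255 D10066 (iv D10066) (iv D8255) F23286
def n10067 : Q := act 2 n8257
theorem D10067 : act 2 n8257 = n10067 := rfl
theorem F39369 : act 1 n10067 = n8318 := d8_1 D10067 (iv D8318) F23446 (iv F23306) (iv F31484)
theorem F39370 : act 4 n10067 = n10067 := d16_2 F31485 D10067 (iv D10067)
theorem F39371 : act 5 n10067 = n8588 := d17_2 (iv F31486) D10067 (iv D8588)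
theorem F39372 : act 8 n10067 = n9905 := d20_2 (iv F31487) D10067 (iv D9905)
def n10068 : Q := act 6 n8257
theorem D10068 : act 6 n8257 = n10068 := rfl
theorem F39373 : act 1 n10068 = n8266 := d12_1 D10068 (iv D8266) (iv F31484)
theorem F39374 : act 3 n10068 = n8258 := d23_1 D10068 (iv D8258) D8257
theorem F39375 : act 4 n10068 = n10068 := d27_1 D10068 (iv D10068) F31485
theorem F39376 : act 8 n10068 = n8780 := d34_2 (iv F31487) D10068 F38629
def n10069 : Q := act 7 n8257
theorem D10069 : act 7 n8257 = n10069 := rfl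
theorem F39377 : act 1 n10069 = n8267 := d13_1 D10069 (iv D8267) (iv F31484)
theorem F39378 : act 4 n10069 = n10069 := d28_1 D10069 (iv D10069) F31485
theorem F39379 : act 5 n10069 = n8590 := d31_1 D10069 (iv D8590) (iv F31486)
def n10070 : Q := act 5 n8258
theorem D10070 : act 5 n8258 = n10070 := rfl
theorem F39380 : act 1 n10070 = n8268 := d11_1 D10070 (iv D8268) (iv F31488)
theorem F39381 : act 4 n10070 = n10070 := d26_1 D10070 (iv D10070) F31489 F23294 (iv F31489)
theorem F39382 : act 6 n10070 = n8591 := d30_2 D8258 D10070 (iv D8591) (iv D6265) (iv F23290)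
theorem F39383 : act 8 n10070 = n8350 := d32_2 F38306 D10070 F31833
def n10071 : Q := act 7 n8258
theorem D10071 : act 7 n8258 = n10071 := rfl
theorem F39384 : act 1 n10071 = n8269 := d13_1 D10071 (iv D8269) (iv F31488)
theorem F39385 : act 4 n10071 = n8260 := d28_1 D10071 (iv D8260) (iv F31489)
theorem F39386 : act 6 n10071 = n8259 := d33_1 D10071 (iv D8259) D8258
def n10072 : Q := act 3 n8259
theorem D10072 : act 3 n8259 = n10072 := rfl
theorem F39387 : act 1 n10072 = n8270 := d9_1 D10072 (iv D8270) (iv F31491)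
theorem F39388 : act 5 n10072 = n8593 := d22_2 (iv F31493) D10072 (iv D8593)
def n10073 : Q := act 8 n8259
theorem D10073 : act 8 n8259 = n10073 := rfl
theorem F39389 : act 1 n10073 = n8271 := d14_1 D10073 (iv D8271) (iv F31491)
theorem F39390 : act 4 n10073 = n8262 := d29_1 D10073 (iv D8262) (iv F31492)
theorem F39391 : act 5 n10073 = n8594 := d32_1 D10073 (iv D8594) (iv F31493)
theorem F39392 : act 7 n10073 = n9908 := d35_1 D10073 (iv D9908) (iv D7768) (iv F23291) D8259
def n10074 : Q := act 3 n8260
theorem D10074 : act 3 n8260 = n10074 := rfl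
theorem F39393 : act 1 n10074 = n8272 := d9_1 D10074 (iv D8272) (iv F31494)
theorem F39394 : act 5 n10074 = n10074 := d22_2 F31495 D10074 (iv D10074)
theorem F39395 : act 6 n10074 = n8261 := d23_2 (iv F31496) D10074 (iv D8261)
theorem F39396 : act 7 n10074 = n10074 := d24_2 D8260 D10074 (iv D10074) (iv D8260) F23293
def n10075 : Q := act 8 n8260
theorem D10075 : act 8 n8260 = n10075 := rfl
theorem F39397 : act 1 n10075 = n8273 := d14_1 D10075 (iv D8273) (iv F31494)
theorem F39398 : act 5 n10075 = n10075 := d32_1 D10075 (iv D10075) F31495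
theorem F39399 : act 6 n10075 = n8262 := d34_1 D10075 (iv D8262) (iv F31496)
theorem F39400 : act 7 n10075 = n8881 := d35_1 D10075 (iv D8881) F24866 F38366 D8260
def n10076 : Q := act 2 n8261
theorem D10076 : act 2 n8261 = n10076 := rfl
theorem F39401 : act 1 n10076 = n10076 := d8_1 D10076 (iv D10076) F31497 F23323 (iv F31497)
theorem F39402 : act 5 n10076 = n8263 := d17_2 (iv F31498) D10076 (iv D8263)
theorem F39403 : act 7 n10076 = n10076 := d19_2 F31499 D10076 (iv D10076)
def n10077 : Q := act 4 n8261
theorem D10077 : act 4 n8261 = n10077 := rfl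
theorem F39404 : act 1 n10077 = n8274 := d10_1 D10077 (iv D8274) (iv F31497)
theorem F39405 : act 7 n10077 = n10077 := d28_2 F31499 D10077 (iv D10077)
def n10078 : Q := act 8 n8261
theorem D10078 : act 8 n8261 = n10078 := rfl
theorem F39406 : act 1 n10078 = n8275 := d14_1 D10078 (iv D8275) (iv F31497)
theorem F39407 : act 3 n10078 = n8262 := d25_1 D10078 (iv D8262) D8261
theorem F39408 : act 5 n10078 = n8265 := d32_1 D10078 (iv D8265) (iv F31498)
def n10079 : Q := act 4 n8263
theorem D10079 : act 4 n8263 = n10079 := rfl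
theorem F39409 : act 1 n10079 = n10079 := d10_1 D10079 (iv D10079) F31503
theorem F39410 : act 2 n10079 = n8264 := d16_1 D10079 (iv D8264) D8263
theorem F39411 : act 6 n10079 = n10079 := d27_2 F31504 D10079 (iv D10079)
theorem F39412 : act 7 n10079 = n10079 := d28_2 F31505 D10079 (iv D10079)
def n10080 : Q := act 8 n8263
theorem D10080 : act 8 n8263 = n10080 := rfl
theorem F39413 : act 1 n10080 = n10080 := d14_1 D10080 (iv D10080) F31503
theorem F39414 : act 2 n10080 = n8265 := d20_1 D10080 (iv D8265) D8263
theorem F39415 : act 6 n10080 = n10080 := d34_1 D10080 (iv D10080) F31504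
def n10081 : Q := act 5 n8264
theorem D10081 : act 5 n8264 = n10081 := rfl
theorem F39416 : act 1 n10081 = n8276 := d11_1 D10081 (iv D8276) (iv F31506)
theorem F39417 : act 3 n10081 = n8602 := d22_1 D10081 (iv D8602) (iv F31507)
theorem F39418 : act 7 n10081 = n10081 := d31_2 F31509 D10081 (iv D10081)
def n10082 : Q := act 8 n8264
theorem D10082 : act 8 n8264 = n10082 := rfl
theorem F39419 : act 1 n10082 = n8277 := d14_1 D10082 (iv D8277) (iv F31506)
theorem F39420 : act 3 n10082 = n8603 := d25_1 D10082 (iv D8603) (iv F31507)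
theorem F39421 : act 4 n10082 = n8265 := d29_1 D10082 (iv D8265) D8264
theorem F39422 : act 6 n10082 = n10082 := d34_1 D10082 (iv D10082) F31508
def n10083 : Q := act 7 n8265
theorem D10083 : act 7 n8265 = n10083 := rfl
theorem F39423 : act 1 n10083 = n8278 := d13_1 D10083 (iv D8278) (iv F31510)
theorem F39424 : act 3 n10083 = n9916 := d24_1 D10083 (iv D9916) F29751 (iv F23304) (iv F31511)
theorem F39425 : act 6 n10083 = n10083 := d33_1 D10083 (iv D10083) F31512
theorem F39426 : act 8 n10083 = n10083 := d35_2 D8265 D10083 (iv D10083) (iv D8265) F23300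
def n10084 : Q := act 5 n8266
theorem D10084 : act 5 n8266 = n10084 := rfl
theorem F39427 : act 0 n10084 = n8284 := d4_1 D10084 (iv D8284) (iv F31513)
theorem F39428 : act 2 n10084 = n8332 := d17_1 D10084 (iv D8332) (iv F31514)
theorem F39429 : act 3 n10084 = n8268 := d22_1 D10084 (iv D8268) (iv F31515)
theorem F39430 : act 6 n10084 = n8605 := d30_2 D8266 D10084 (iv D8605) (iv D6273) (iv F23308)
theorem F39431 : act 8 n10084 = n8339 := d32_2 F38185 D10084 F31792
def n10085 : Q := act 7 n8266
theorem D10085 : act 7 n8266 = n10085 := rfl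
theorem F39432 : act 0 n10085 = n8285 := d6_1 D10085 (iv D8285) (iv F31513)
theorem F39433 : act 2 n10085 = n8333 := d19_1 D10085 (iv D8333) (iv F31514)
theorem F39434 : act 4 n10085 = n10085 := d28_1 D10085 (iv D10085) F31516
theorem F39435 : act 6 n10085 = n8267 := d33_1 D10085 (iv D8267) D8266
def n10086 : Q := act 3 n8267
theorem D10086 : act 3 n8267 = n10086 := rfl
theorem F39436 : act 0 n10086 = n8286 := d2_1 D10086 (iv D8286) (iv F31518)
theorem F39437 : act 5 n10086 = n8607 := d22_2 (iv F31521) D10086 (iv D8607)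
theorem F39438 : act 7 n10086 = n8270 := d24_2 D8267 D10086 (iv D8270) (iv D6038) D6036
def n10087 : Q := act 8 n8267
theorem D10087 : act 8 n8267 = n10087 := rfl
theorem F39439 : act 0 n10087 = n8287 := d7_1 D10087 (iv D8287) (iv F31518)
theorem F39440 : act 2 n10087 = n8335 := d20_1 D10087 (iv D8335) (iv F31519)
theorem F39441 : act 4 n10087 = n10087 := d29_1 D10087 (iv D10087) F31520
theorem F39442 : act 5 n10087 = n8608 := d32_1 D10087 (iv D8608) (iv F31521)
theorem F39443 : act 7 n10087 = n9918 := d35_1 D10087 (iv D9918) (iv D7776) (iv F23309) D8267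
def n10088 : Q := act 7 n8268
theorem D10088 : act 7 n8268 = n10088 := rfl
theorem F39444 : act 0 n10088 = n8288 := d6_1 D10088 (iv D8288) (iv F31522)
theorem F39445 : act 2 n10088 = n8279 := d19_1 D10088 (iv D8279) (iv F31523)
theorem F39446 : act 4 n10088 = n10088 := d28_1 D10088 (iv D10088) F31524
theorem F39447 : act 5 n10088 = n8269 := d31_1 D10088 (iv D8269) D8268
theorem F39448 : act 6 n10088 = n8552 := d33_1 D10088 F38237 (iv F31525)
def n10089 : Q := act 3 n8269
theorem D10089 : act 3 n8269 = n10089 := rfl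
theorem F39449 : act 0 n10089 = n8289 := d2_1 D10089 (iv D8289) (iv F31527)
theorem F39450 : act 6 n10089 = n8270 := d23_2 (iv F31530) D10089 (iv D8270)
def n10090 : Q := act 8 n8269
theorem D10090 : act 8 n8269 = n10090 := rfl
theorem F39451 : act 0 n10090 = n8290 := d7_1 D10090 (iv D8290) (iv F31527)
theorem F39452 : act 2 n10090 = n8281 := d20_1 D10090 (iv D8281) (iv F31528)
theorem F39453 : act 4 n10090 = n8273 := d29_1 D10090 (iv D8273) (iv F31529)
theorem F39454 : act 6 n10090 = n8271 := d34_1 D10090 (iv D8271) (iv F31530)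
theorem F39455 : act 7 n10090 = n8628 := d35_1 D10090 (iv D8628) F24252 F38244 D8269
def n10091 : Q := act 2 n8270
theorem D10091 : act 2 n8270 = n10091 := rfl
theorem F39456 : act 0 n10091 = n8291 := d1_1 D10091 (iv D8291) (iv F31531)
theorem F39457 : act 3 n10091 = n8282 := d15_2 D8270 D10091 (iv D8282) (iv D6046) (iv F23315)
theorem F39458 : act 5 n10091 = n8612 := d17_2 (iv F31532) D10091 (iv D8612)
def n10092 : Q := act 4 n8270
theorem D10092 : act 4 n8270 = n10092 := rfl
theorem F39459 : act 0 n10092 = n8292 := d3_1 D10092 (iv D8292) (iv F31531)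
theorem F39460 : act 3 n10092 = n8274 := d21_1 D10092 (iv D8274) (iv D6040) (iv F23316) D8270
def n10093 : Q := act 8 n8270
theorem D10093 : act 8 n8270 = n10093 := rfl
theorem F39461 : act 0 n10093 = n8293 := d7_1 D10093 (iv D8293) (iv F31531)
theorem F39462 : act 3 n10093 = n8271 := d25_1 D10093 (iv D8271) D8270
theorem F39463 : act 5 n10093 = n8614 := d32_1 D10093 (iv D8614) (iv F31532)
def n10094 : Q := act 4 n8272
theorem D10094 : act 4 n8272 = n10094 := rfl
theorem F39464 : act 0 n10094 = n8294 := d3_1 D10094 (iv D8294) (iv F31538)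
theorem F39465 : act 2 n10094 = n10094 := d16_1 D10094 (iv D10094) F31539
theorem F39466 : act 6 n10094 = n8274 := d27_2 (iv F31541) D10094 (iv D8274)
theorem F39467 : act 7 n10094 = n10094 := d28_2 F31542 D10094 (iv D10094)
def n10095 : Q := act 8 n8272
theorem D10095 : act 8 n8272 = n10095 := rfl
theorem F39468 : act 0 n10095 = n8295 := d7_1 D10095 (iv D8295) (iv F31538)
theorem F39469 : act 2 n10095 = n10095 := d20_1 D10095 (iv D10095) F31539
theorem F39470 : act 3 n10095 = n8273 := d25_1 D10095 (iv D8273) D8272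
theorem F39471 : act 5 n10095 = n10095 := d32_1 D10095 (iv D10095) F31540
theorem F39472 : act 6 n10095 = n8275 := d34_1 D10095 (iv D8275) (iv F31541)
def n10096 : Q := act 5 n8274
theorem D10096 : act 5 n8274 = n10096 := rfl
theorem F39473 : act 0 n10096 = n8296 := d4_1 D10096 (iv D8296) (iv F31548)
theorem F39474 : act 2 n10096 = n10096 := d17_1 D10096 (iv D10096) F31549
theorem F39475 : act 4 n10096 = n8276 := d26_1 D10096 (iv D8276) (iv D6042) (iv F23324) D8274
theorem F39476 : act 7 n10096 = n10096 := d31_2 F31550 D10096 (iv D10096)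
def n10097 : Q := act 8 n8274
theorem D10097 : act 8 n8274 = n10097 := rfl
theorem F39477 : act 0 n10097 = n8297 := d7_1 D10097 (iv D8297) (iv F31548)
theorem F39478 : act 2 n10097 = n10097 := d20_1 D10097 (iv D10097) F31549
theorem F39479 : act 4 n10097 = n8275 := d29_1 D10097 (iv D8275) D8274
def n10098 : Q := act 7 n8275
theorem D10098 : act 7 n8275 = n10098 := rfl
theorem F39480 : act 0 n10098 = n8298 := d6_1 D10098 (iv D8298) (iv F31551)
theorem F39481 : act 2 n10098 = n10098 := d19_1 D10098 (iv D10098) F31552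
theorem F39482 : act 3 n10098 = n9923 := d24_1 D10098 (iv D9923) F29785 (iv F23329) (iv F31553)
theorem F39483 : act 5 n10098 = n8278 := d31_1 D10098 (iv D8278) (iv F31554)
theorem F39484 : act 8 n10098 = n10098 := d35_2 D8275 D10098 (iv D10098) (iv D8275) F23325
def n10099 : Q := act 6 n8276
theorem D10099 : act 6 n8276 = n10099 := rfl
theorem F39485 : act 0 n10099 = n8299 := d5_1 D10099 (iv D8299) (iv F31555)
theorem F39486 : act 2 n10099 = n10099 := d18_1 D10099 (iv D10099) F31556
theorem F39487 : act 3 n10099 = n8620 := d23_1 D10099 (iv D8620) (iv F31557)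
theorem F39488 : act 5 n10099 = n10099 := d30_1 D10099 (iv D10099) (iv D8276) F23333 D8276
theorem F39489 : act 7 n10099 = n10099 := d33_2 F31558 D10099 (iv D10099)
def n10100 : Q := act 8 n8276
theorem D10100 : act 8 n8276 = n10100 := rfl
theorem F39490 : act 0 n10100 = n8300 := d7_1 D10100 (iv D8300) (iv F31555)
theorem F39491 : act 2 n10100 = n10100 := d20_1 D10100 (iv D10100) F31556
theorem F39492 : act 3 n10100 = n8621 := d25_1 D10100 (iv D8621) (iv F31557)
theorem F39493 : act 5 n10100 = n8277 := d32_1 D10100 (iv D8277) D8276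
def n10101 : Q := act 7 n8277
theorem D10101 : act 7 n8277 = n10101 := rfl
theorem F39494 : act 0 n10101 = n8301 := d6_1 D10101 (iv D8301) (iv F31559)
theorem F39495 : act 2 n10101 = n10101 := d19_1 D10101 (iv D10101) F31560
theorem F39496 : act 4 n10101 = n8278 := d28_1 D10101 (iv D8278) (iv F31562)
theorem F39497 : act 6 n10101 = n10101 := d33_1 D10101 (iv D10101) F31563
theorem F39498 : act 8 n10101 = n10101 := d35_2 D8277 D10101 (iv D10101) (iv D8277) F23334
def n10102 : Q := act 8 n8279
theorem D10102 : act 8 n8279 = n10102 := rfl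
theorem F39499 : act 0 n10102 = n8303 := d7_1 D10102 (iv D8303) (iv F31569)
theorem F39500 : act 3 n10102 = n8551 := d25_1 D10102 (iv D8551) (iv F38110)
theorem F39501 : act 4 n10102 = n10102 := d29_1 D10102 (iv D10102) F31570
theorem F39502 : act 5 n10102 = n8281 := d32_1 D10102 (iv D8281) (iv F31571)
theorem F39503 : act 6 n10102 = n8553 := d34_1 D10102 (iv D8553) F38169
theorem F39504 : act 7 n10102 = n8283 := d35_1 D10102 (iv D8283) F23350 F38112 D8279
def n10103 : Q := act 2 n8280
theorem D10103 : act 2 n8280 = n10103 := rfl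
theorem F39505 : act 0 n10103 = n8304 := d1_1 D10103 (iv D8304) (iv F31573)
theorem F39506 : act 4 n10103 = n10103 := d16_2 F31574 D10103 (iv D10103)
theorem F39507 : act 5 n10103 = n8539 := d17_2 (iv F38176) D10103 F32538
theorem F39508 : act 6 n10103 = n8282 := d18_2 (iv F31575) D10103 (iv D8282)
theorem F39509 : act 7 n10103 = n8348 := d19_2 (iv F31576) D10103 (iv D8348)
def n10104 : Q := act 8 n8280
theorem D10104 : act 8 n8280 = n10104 := rfl
theorem F39510 : act 0 n10104 = n8305 := d7_1 D10104 (iv D8305) (iv F31573)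
theorem F39511 : act 1 n10104 = n10102 := d14_1 D10104 (iv D10102) (iv F38175)
theorem F39512 : act 3 n10104 = n8281 := d25_1 D10104 (iv D8281) D8280
theorem F39513 : act 4 n10104 = n10104 := d29_1 D10104 (iv D10104) F31574
theorem F39514 : act 5 n10104 = n8551 := d32_1 D10104 (iv D8551) (iv F38176)
theorem F39515 : act 6 n10104 = n8283 := d34_1 D10104 (iv D8283) (iv F31575)
theorem F39516 : act 7 n10104 = n8553 := d35_1 D10104 (iv D8553) F38170 F38117 (iv F31576)
def n10105 : Q := act 1 n8282
theorem D10105 : act 1 n8282 = n10105 := rfl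
theorem F39517 : act 4 n10105 = n10105 := d10_2 F31582 D10105 (iv D10105)
theorem F39518 : act 5 n10105 = n8627 := d11_2 (iv F31583) D10105 (iv D8627)
theorem F39519 : act 7 n10105 = n8350 := d13_2 (iv F31584) D10105 (iv D8350)
def n10106 : Q := act 8 n8282
theorem D10106 : act 8 n8282 = n10106 := rfl
theorem F39520 : act 0 n10106 = n8307 := d7_1 D10106 (iv D8307) (iv F31581)
theorem F39521 : act 2 n10106 = n8283 := d20_1 D10106 (iv D8283) D8282
theorem F39522 : act 4 n10106 = n10106 := d29_1 D10106 (iv D10106) F31582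
theorem F39523 : act 5 n10106 = n8628 := d32_1 D10106 (iv D8628) (iv F31583)
def n10107 : Q := act 4 n8284
theorem D10107 : act 4 n8284 = n10107 := rfl
theorem F39524 : act 2 n10107 = n8353 := d16_1 D10107 (iv D8353) (iv F31589)
theorem F39525 : act 3 n10107 = n10107 := d21_1 D10107 (iv D10107) F31590 F23368 (iv F31590)
theorem F39526 : act 5 n10107 = n10107 := d26_2 D8284 D10107 (iv D10107) (iv D8284) F23362
theorem F39527 : act 6 n10107 = n8630 := d27_2 (iv F31591) D10107 (iv D8630)
theorem F39528 : act 8 n10107 = n8366 := d29_2 F38154 D10107 (iv D8366)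
def n10108 : Q := act 7 n8284
theorem D10108 : act 7 n8284 = n10108 := rfl
theorem F39529 : act 2 n10108 = n8354 := d19_1 D10108 (iv D8354) (iv F31589)
theorem F39530 : act 5 n10108 = n8285 := d31_1 D10108 (iv D8285) D8284
theorem F39531 : act 6 n10108 = n8631 := d33_1 D10108 (iv D8631) (iv F31591)
def n10109 : Q := act 3 n8285
theorem D10109 : act 3 n8285 = n10109 := rfl
theorem F39532 : act 6 n10109 = n8286 := d23_2 (iv F31595) D10109 (iv D8286)
theorem F39533 : act 7 n10109 = n8289 := d24_2 D8285 D10109 (iv D8289) (iv D6052) (iv F23361)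
def n10110 : Q := act 8 n8285
theorem D10110 : act 8 n8285 = n10110 := rfl
theorem F39534 : act 2 n10110 = n8356 := d20_1 D10110 (iv D8356) (iv F31593)
theorem F39535 : act 4 n10110 = n10110 := d29_1 D10110 (iv D10110) F31594
theorem F39536 : act 6 n10110 = n8287 := d34_1 D10110 (iv D8287) (iv F31595)
theorem F39537 : act 7 n10110 = n8798 := d35_1 D10110 (iv D8798) F24665 F38220 D8285
def n10111 : Q := act 2 n8286
theorem D10111 : act 2 n8286 = n10111 := rfl
theorem F39538 : act 3 n10111 = n8357 := d15_2 D8286 D10111 (iv D8357) (iv D6100) (iv F23364)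
theorem F39539 : act 5 n10111 = n8634 := d17_2 (iv F31596) D10111 (iv D8634)
theorem F39540 : act 7 n10111 = n8291 := d19_2 (iv F31597) D10111 (iv D8291)
def n10112 : Q := act 4 n8286
theorem D10112 : act 4 n8286 = n10112 := rfl
theorem F39541 : act 3 n10112 = n10112 := d21_1 D10112 (iv D10112) (iv D8286) F23365 D8286
theorem F39542 : act 7 n10112 = n8292 := d28_2 (iv F31597) D10112 (iv D8292)
def n10113 : Q := act 8 n8286
theorem D10113 : act 8 n8286 = n10113 := rfl
theorem F39543 : act 3 n10113 = n8287 := d25_1 D10113 (iv D8287) D8286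
theorem F39544 : act 5 n10113 = n8636 := d32_1 D10113 (iv D8636) (iv F31596)
def n10114 : Q := act 3 n8288
theorem D10114 : act 3 n8288 = n10114 := rfl
theorem F39545 : act 2 n10114 = n8559 := d15_1 D10114 (iv D8559) F24092 F38202 (iv F31602)
theorem F39546 : act 5 n10114 = n8289 := d22_2 (iv F31604) D10114 (iv D8289)
theorem F39547 : act 6 n10114 = n8561 := d23_2 F38262 D10114 F32625
def n10115 : Q := act 8 n8288
theorem D10115 : act 8 n8288 = n10115 := rfl
theorem F39548 : act 2 n10115 = n8303 := d20_1 D10115 (iv D8303) (iv F31602)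
theorem F39549 : act 4 n10115 = n10115 := d29_1 D10115 (iv D10115) F31603
theorem F39550 : act 5 n10115 = n8290 := d32_1 D10115 (iv D8290) (iv F31604)
theorem F39551 : act 6 n10115 = n8577 := d34_1 D10115 (iv D8577) F38262
theorem F39552 : act 7 n10115 = n8307 := d35_1 D10115 (iv D8307) F23417 (iv F38219) D8288
def n10116 : Q := act 2 n8289
theorem D10116 : act 2 n8289 = n10116 := rfl
theorem F39553 : act 3 n10116 = n8304 := d15_2 D8289 D10116 (iv D8304) (iv D6063) (iv F23371)
theorem F39554 : act 5 n10116 = n8559 := d17_2 F39546 D10116 (iv F39545)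
theorem F39555 : act 6 n10116 = n8291 := d18_2 (iv F31606) D10116 (iv D8291)
def n10117 : Q := act 4 n8289
theorem D10117 : act 4 n8289 = n10117 := rfl
theorem F39556 : act 3 n10117 = n8294 := d21_1 D10117 (iv D8294) (iv D6055) (iv F23372) D8289
theorem F39557 : act 6 n10117 = n8292 := d27_2 (iv F31606) D10117 (iv D8292)
def n10118 : Q := act 8 n8289
theorem D10118 : act 8 n8289 = n10118 := rfl
theorem F39558 : act 3 n10118 = n8290 := d25_1 D10118 (iv D8290) D8289
theorem F39559 : act 6 n10118 = n8293 := d34_1 D10118 (iv D8293) (iv F31606)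
def n10119 : Q := act 1 n8291
theorem D10119 : act 1 n8291 = n10119 := rfl
theorem F39560 : act 3 n10119 = n8306 := d9_2 (iv F31611) D10119 (iv D8306)
theorem F39561 : act 5 n10119 = n8642 := d11_2 (iv F31612) D10119 (iv D8642)
def n10120 : Q := act 4 n8291
theorem D10120 : act 4 n8291 = n10120 := rfl
theorem F39562 : act 2 n10120 = n8292 := d16_1 D10120 (iv D8292) D8291
theorem F39563 : act 3 n10120 = n10120 := d21_1 D10120 (iv D10120) F31611 F23415 (iv F31611)
def n10121 : Q := act 8 n8291
theorem D10121 : act 8 n8291 = n10121 := rfl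
theorem F39564 : act 2 n10121 = n8293 := d20_1 D10121 (iv D8293) D8291
theorem F39565 : act 3 n10121 = n8307 := d25_1 D10121 (iv D8307) (iv F31611)
theorem F39566 : act 5 n10121 = n8644 := d32_1 D10121 (iv D8644) (iv F31612)
def n10122 : Q := act 5 n8292
theorem D10122 : act 5 n8292 = n10122 := rfl
theorem F39567 : act 3 n10122 = n8296 := d22_1 D10122 (iv D8296) (iv F31613)
theorem F39568 : act 4 n10122 = n8645 := d26_1 D10122 (iv D8645) (iv D6299) (iv F23374) D8292
def n10123 : Q := act 8 n8292
theorem D10123 : act 8 n8292 = n10123 := rfl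
theorem F39569 : act 3 n10123 = n8297 := d25_1 D10123 (iv D8297) (iv F31613)
theorem F39570 : act 4 n10123 = n8293 := d29_1 D10123 (iv D8293) D8292
def n10124 : Q := act 7 n8293
theorem D10124 : act 7 n8293 = n10124 := rfl
theorem F39571 : act 3 n10124 = n9931 := d24_1 D10124 (iv D9931) F29835 (iv F23378) (iv F31614)
theorem F39572 : act 5 n10124 = n8647 := d31_1 D10124 (iv D8647) (iv F31615)
def n10125 : Q := act 5 n8294
theorem D10125 : act 5 n8294 = n10125 := rfl
theorem F39573 : act 2 n10125 = n10125 := d17_1 D10125 (iv D10125) F31616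
theorem F39574 : act 4 n10125 = n10125 := d26_1 D10125 (iv D10125) (iv D8294) F23380 D8294
theorem F39575 : act 7 n10125 = n10125 := d31_2 F31618 D10125 (iv D10125)
def n10126 : Q := act 8 n8294
theorem D10126 : act 8 n8294 = n10126 := rfl
theorem F39576 : act 2 n10126 = n10126 := d20_1 D10126 (iv D10126) F31616
theorem F39577 : act 4 n10126 = n8295 := d29_1 D10126 (iv D8295) D8294
theorem F39578 : act 6 n10126 = n8297 := d34_1 D10126 (iv D8297) (iv F31617)
def n10127 : Q := act 7 n8295
theorem D10127 : act 7 n8295 = n10127 := rfl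
theorem F39579 : act 2 n10127 = n10127 := d19_1 D10127 (iv D10127) F31619
theorem F39580 : act 3 n10127 = n8897 := d24_1 D10127 (iv D8897) F24901 F38485 (iv F31620)
theorem F39581 : act 5 n10127 = n10127 := d31_1 D10127 (iv D10127) F31621
theorem F39582 : act 6 n10127 = n8298 := d33_1 D10127 (iv D8298) (iv F31622)
theorem F39583 : act 8 n10127 = n10127 := d35_2 D8295 D10127 (iv D10127) (iv D8295) F23382
def n10128 : Q := act 6 n8296
theorem D10128 : act 6 n8296 = n10128 := rfl
theorem F39584 : act 2 n10128 = n10128 := d18_1 D10128 (iv D10128) F31623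
theorem F39585 : act 4 n10128 = n8299 := d27_1 D10128 (iv D8299) (iv F31624)
theorem F39586 : act 7 n10128 = n10128 := d33_2 F31625 D10128 (iv D10128)
def n10129 : Q := act 8 n8296
theorem D10129 : act 8 n8296 = n10129 := rfl
theorem F39587 : act 2 n10129 = n10129 := d20_1 D10129 (iv D10129) F31623
theorem F39588 : act 4 n10129 = n8300 := d29_1 D10129 (iv D8300) (iv F31624)
theorem F39589 : act 5 n10129 = n8297 := d32_1 D10129 (iv D8297) D8296
def n10130 : Q := act 7 n8297
theorem D10130 : act 7 n8297 = n10130 := rfl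
theorem F39590 : act 2 n10130 = n10130 := d19_1 D10130 (iv D10130) F31626
theorem F39591 : act 4 n10130 = n8298 := d28_1 D10130 (iv D8298) (iv F31627)
theorem F39592 : act 8 n10130 = n10130 := d35_2 D8297 D10130 (iv D10130) (iv D8297) F23388
def n10131 : Q := act 8 n8299
theorem D10131 : act 8 n8299 = n10131 := rfl
theorem F39593 : act 2 n10131 = n10131 := d20_1 D10131 (iv D10131) F31632
theorem F39594 : act 3 n10131 = n8654 := d25_1 D10131 (iv D8654) (iv F31633)
theorem F39595 : act 5 n10131 = n10131 := d32_1 D10131 (iv D10131) F31634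
theorem F39596 : act 6 n10131 = n8300 := d34_1 D10131 (iv D8300) D8299
def n10132 : Q := act 7 n8300
theorem D10132 : act 7 n8300 = n10132 := rfl
theorem F39597 : act 2 n10132 = n10132 := d19_1 D10132 (iv D10132) F31636
theorem F39598 : act 5 n10132 = n8301 := d31_1 D10132 (iv D8301) (iv F31638)
theorem F39599 : act 8 n10132 = n10132 := d35_2 D8300 D10132 (iv D10132) (iv D8300) F23394
def n10133 : Q := act 3 n8301
theorem D10133 : act 3 n8301 = n10133 := rfl
theorem F39600 : act 4 n10133 = n9937 := d21_2 (iv F31640) D10133 (iv D9937) F29857 (iv F23400)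
theorem F39601 : act 6 n10133 = n10133 := d23_2 F31641 D10133 (iv D10133)
theorem F39602 : act 7 n10133 = n8656 := d24_2 D8301 D10133 (iv D8656) (iv D6308) (iv F23396)
theorem F39603 : act 8 n10133 = n10133 := d25_2 F31642 D10133 (iv D10133)
def n10134 : Q := act 1 n8304
theorem D10134 : act 1 n8304 = n10134 := rfl
theorem F39604 : act 2 n10134 = n8312 := d8_2 D8304 D10134 (iv D8312) (iv D6069) (iv F23407)
theorem F39605 : act 4 n10134 = n10134 := d10_2 F31652 D10134 (iv D10134)
theorem F39606 : act 5 n10134 = n8444 := d11_2 (iv F38299) D10134 F32208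
theorem F39607 : act 6 n10134 = n8306 := d12_2 (iv F31653) D10134 (iv D8306)
theorem F39608 : act 7 n10134 = n8377 := d13_2 (iv F31654) D10134 (iv D8377)
def n10135 : Q := act 8 n8304
theorem D10135 : act 8 n8304 = n10135 := rfl
theorem F39609 : act 2 n10135 = n8305 := d20_1 D10135 (iv D8305) D8304
theorem F39610 : act 4 n10135 = n10135 := d29_1 D10135 (iv D10135) F31652
theorem F39611 : act 5 n10135 = n8560 := d32_1 D10135 (iv D8560) (iv F38299)
theorem F39612 : act 6 n10135 = n8307 := d34_1 D10135 (iv D8307) (iv F31653)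
theorem F39613 : act 7 n10135 = n8577 := d35_1 D10135 (iv D8577) F38263 F38247 (iv F31654)
def n10136 : Q := act 0 n8306
theorem D10136 : act 0 n8306 = n10136 := rfl
theorem F39614 : act 2 n10136 = n8315 := d1_2 (iv F31659) D10136 (iv D8315)
theorem F39615 : act 4 n10136 = n10136 := d3_2 F31660 D10136 (iv D10136)
theorem F39616 : act 5 n10136 = n8663 := d4_2 (iv F31661) D10136 (iv D8663)
theorem F39617 : act 7 n10136 = n8380 := d6_2 (iv F31662) D10136 (iv D8380)
def n10137 : Q := act 8 n8306
theorem D10137 : act 8 n8306 = n10137 := rfl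
theorem F39618 : act 1 n10137 = n8307 := d14_1 D10137 (iv D8307) D8306
theorem F39619 : act 2 n10137 = n8316 := d20_1 D10137 (iv D8316) (iv F31659)
theorem F39620 : act 4 n10137 = n10137 := d29_1 D10137 (iv D10137) F31660
theorem F39621 : act 5 n10137 = n8664 := d32_1 D10137 (iv D8664) (iv F31661)
def n10138 : Q := act 0 n8312
theorem D10138 : act 0 n8312 = n10138 := rfl
theorem F39622 : act 1 n10138 = n10029 := d0_2 D8312 D10138 F39236 F31446 (iv F38335)
theorem F39623 : act 4 n10138 = n10138 := d3_2 F31681 D10138 (iv D10138)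
theorem F39624 : act 5 n10138 = n8437 := d4_2 (iv F38399) D10138 F32176
theorem F39625 : act 6 n10138 = n8315 := d5_2 (iv F31682) D10138 (iv D8315)
theorem F39626 : act 7 n10138 = n8388 := d6_2 (iv F31683) D10138 (iv D8388)
def n10139 : Q := act 8 n8312
theorem D10139 : act 8 n8312 = n10139 := rfl
theorem F39627 : act 1 n10139 = n8313 := d14_1 D10139 (iv D8313) D8312
theorem F39628 : act 4 n10139 = n10139 := d29_1 D10139 (iv D10139) F31681
theorem F39629 : act 5 n10139 = n8456 := d32_1 D10139 (iv D8456) (iv F38399)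
theorem F39630 : act 6 n10139 = n8316 := d34_1 D10139 (iv D8316) (iv F31682)
theorem F39631 : act 7 n10139 = n8512 := d35_1 D10139 (iv D8512) (iv D6209) F38370 (iv F31683)
def n10140 : Q := act 8 n8315
theorem D10140 : act 8 n8315 = n10140 := rfl
theorem F39632 : act 0 n10140 = n8316 := d7_1 D10140 (iv D8316) D8315
theorem F39633 : act 4 n10140 = n10140 := d29_1 D10140 (iv D10140) F31691
theorem F39634 : act 5 n10140 = n8674 := d32_1 D10140 (iv D8674) (iv F31692)
def n10141 : Q := act 6 n8318
theorem D10141 : act 6 n8318 = n10141 := rfl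
theorem F39635 : act 0 n10141 = n10141 := d5_1 D10141 (iv D10141) F31701
theorem F39636 : act 2 n10141 = n8319 := d18_1 D10141 (iv D8319) D8318
theorem F39637 : act 4 n10141 = n10141 := d27_1 D10141 (iv D10141) F31702
theorem F39638 : act 8 n10141 = n8768 := d34_2 (iv F31704) D10141 F38637
def n10142 : Q := act 7 n8318
theorem D10142 : act 7 n8318 = n10142 := rfl
theorem F39639 : act 0 n10142 = n10142 := d6_1 D10142 (iv D10142) F31701
theorem F39640 : act 2 n10142 = n8320 := d19_1 D10142 (iv D8320) D8318
theorem F39641 : act 4 n10142 = n10142 := d28_1 D10142 (iv D10142) F31702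
theorem F39642 : act 5 n10142 = n8760 := d31_1 D10142 (iv D8760) (iv F31703)
def n10143 : Q := act 5 n8319
theorem D10143 : act 5 n8319 = n10143 := rfl
theorem F39643 : act 0 n10143 = n10143 := d4_1 D10143 (iv D10143) F31705
theorem F39644 : act 1 n10143 = n8332 := d11_1 D10143 (iv D8332) (iv F31706)
theorem F39645 : act 3 n10143 = n8321 := d22_1 D10143 (iv D8321) (iv F31707)
theorem F39646 : act 6 n10143 = n8682 := d30_2 D8319 D10143 (iv F38029) (iv D6384) (iv F23448)
theorem F39647 : act 8 n10143 = n8323 := d32_2 F38039 D10143 F31725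
def n10144 : Q := act 7 n8319
theorem D10144 : act 7 n8319 = n10144 := rfl
theorem F39648 : act 0 n10144 = n10144 := d6_1 D10144 (iv D10144) F31705
theorem F39649 : act 1 n10144 = n8333 := d13_1 D10144 (iv D8333) (iv F31706)
theorem F39650 : act 4 n10144 = n10144 := d28_1 D10144 (iv D10144) F31708
theorem F39651 : act 6 n10144 = n8320 := d33_1 D10144 (iv D8320) D8319
def n10145 : Q := act 3 n8320
theorem D10145 : act 3 n8320 = n10145 := rfl
theorem F39652 : act 0 n10145 = n10145 := d2_1 D10145 (iv D10145) F31710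
theorem F39653 : act 1 n10145 = n8334 := d9_1 D10145 (iv D8334) (iv F31711)
theorem F39654 : act 5 n10145 = n8763 := d22_2 (iv F31713) D10145 (iv D8763)
theorem F39655 : act 7 n10145 = n8323 := d24_2 D8320 D10145 (iv D8323) (iv D6076) D6074
def n10146 : Q := act 8 n8320
theorem D10146 : act 8 n8320 = n10146 := rfl
theorem F39656 : act 0 n10146 = n10146 := d7_1 D10146 (iv D10146) F31710
theorem F39657 : act 1 n10146 = n8335 := d14_1 D10146 (iv D8335) (iv F31711)
theorem F39658 : act 4 n10146 = n10146 := d29_1 D10146 (iv D10146) F31712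
theorem F39659 : act 5 n10146 = n8764 := d32_1 D10146 (iv D8764) (iv F31713)
theorem F39660 : act 7 n10146 = n9939 := d35_1 D10146 (iv D9939) (iv D7829) (iv F23449) D8320
def n10147 : Q := act 3 n8322
theorem D10147 : act 3 n8322 = n10147 := rfl
theorem F39661 : act 0 n10147 = n10147 := d2_1 D10147 (iv D10147) F31719
theorem F39662 : act 1 n10147 = n8337 := d9_1 D10147 (iv D8337) (iv F31720)
theorem F39663 : act 5 n10147 = n8678 := d22_2 (iv F37854) D10147 F32973
theorem F39664 : act 6 n10147 = n8323 := d23_2 (iv F31722) D10147 (iv D8323)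
theorem F39665 : act 8 n10147 = n8682 := d25_2 (iv F37857) D10147 (iv D8682)
def n10148 : Q := act 2 n8323
theorem D10148 : act 2 n8323 = n10148 := rfl
theorem F39666 : act 0 n10148 = n10148 := d1_1 D10148 (iv D10148) F31723
theorem F39667 : act 5 n10148 = n8768 := d17_2 (iv F31725) D10148 (iv D8768)
def n10149 : Q := act 4 n8323
theorem D10149 : act 4 n8323 = n10149 := rfl
theorem F39668 : act 0 n10149 = n10149 := d3_1 D10149 (iv D10149) F31723
theorem F39669 : act 1 n10149 = n8340 := d10_1 D10149 (iv D8340) (iv F31724)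
theorem F39670 : act 3 n10149 = n8328 := d21_1 D10149 (iv D8328) (iv D6078) (iv F23456) D8323
theorem F39671 : act 5 n10149 = n10149 := d26_2 (iv F31725) D10149 (iv D10149) F31725 F24598
def n10150 : Q := act 2 n8325
theorem D10150 : act 2 n8325 = n10150 := rfl
theorem F39672 : act 0 n10150 = n10150 := d1_1 D10150 (iv D10150) F31731
theorem F39673 : act 1 n10150 = n10150 := d8_1 D10150 (iv D10150) F31732 F23504 (iv F31732)
theorem F39674 : act 5 n10150 = n8690 := d17_2 (iv F37762) D10150 F33032
theorem F39675 : act 6 n10150 = n8327 := d18_2 (iv F31734) D10150 (iv D8327)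
theorem F39676 : act 7 n10150 = n10150 := d19_2 F31735 D10150 (iv D10150)
theorem F39677 : act 8 n10150 = n8686 := d20_2 (iv F37763) D10150 (iv D8686)
def n10151 : Q := act 4 n8325
theorem D10151 : act 4 n8325 = n10151 := rfl
theorem F39678 : act 0 n10151 = n10151 := d3_1 D10151 (iv D10151) F31731
theorem F39679 : act 1 n10151 = n8342 := d10_1 D10151 (iv D8342) (iv F31732)
theorem F39680 : act 5 n10151 = n9872 := d26_2 (iv F37762) D10151 (iv D9872) (iv D7501) F37709
theorem F39681 : act 6 n10151 = n8328 := d27_2 (iv F31734) D10151 (iv D8328)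
theorem F39682 : act 7 n10151 = n10151 := d28_2 F31735 D10151 (iv D10151)
theorem F39683 : act 8 n10151 = n8687 := d29_2 (iv F37763) D10151 (iv D8687)
def n10152 : Q := act 4 n8327
theorem D10152 : act 4 n8327 = n10152 := rfl
theorem F39684 : act 0 n10152 = n10152 := d3_1 D10152 (iv D10152) F31741
theorem F39685 : act 1 n10152 = n10152 := d10_1 D10152 (iv D10152) F31742
theorem F39686 : act 2 n10152 = n8328 := d16_1 D10152 (iv D8328) D8327
theorem F39687 : act 5 n10152 = n10152 := d26_2 (iv F31743) D10152 (iv D10152) F31743 F23472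
theorem F39688 : act 7 n10152 = n10152 := d28_2 F31744 D10152 (iv D10152)
def n10153 : Q := act 8 n8327
theorem D10153 : act 8 n8327 = n10153 := rfl
theorem F39689 : act 0 n10153 = n10153 := d7_1 D10153 (iv D10153) F31741
theorem F39690 : act 1 n10153 = n10153 := d14_1 D10153 (iv D10153) F31742
theorem F39691 : act 2 n10153 = n8329 := d20_1 D10153 (iv D8329) D8327
theorem F39692 : act 3 n10153 = n10150 := d25_1 D10153 F39677 F33013
theorem F39693 : act 5 n10153 = n8330 := d32_1 D10153 (iv D8330) (iv F31743)
theorem F39694 : act 6 n10153 = n8686 := d34_1 D10153 (iv F39677) F39675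
theorem F39695 : act 7 n9372 = n10153 := d33_0 F39694 F33015 (iv F35440)
def n10154 : Q := act 8 n8328
theorem D10154 : act 8 n8328 = n10154 := rfl
theorem F39696 : act 0 n10154 = n10154 := d7_1 D10154 (iv D10154) F31745
theorem F39697 : act 1 n10154 = n8344 := d14_1 D10154 (iv D8344) (iv F31746)
theorem F39698 : act 4 n10154 = n8329 := d29_1 D10154 (iv D8329) D8328
theorem F39699 : act 5 n10154 = n10154 := d32_1 D10154 (iv D10154) F31747
theorem F39700 : act 6 n10154 = n8687 := d34_1 D10154 (iv F39683) F39681
theorem F39701 : act 7 n9373 = n10154 := d33_0 F39700 F33018 (iv F35444)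
def n10155 : Q := act 4 n8332
theorem D10155 : act 4 n8332 = n10155 := rfl
theorem F39702 : act 0 n10155 = n8353 := d3_1 D10155 (iv D8353) (iv F31764)
theorem F39703 : act 3 n10155 = n8344 := d21_1 D10155 F31810 F23519 (iv F37938) (iv F31765)
theorem F39704 : act 5 n10155 = n10155 := d26_2 D8332 D10155 (iv D10155) (iv D8332) F23482
theorem F39705 : act 6 n10155 = n8701 := d27_2 F38003 D10155 (iv D8701)
theorem F39706 : act 8 n10155 = n8340 := d29_2 F38024 D10155 (iv D8340)
def n10156 : Q := act 7 n8332
theorem D10156 : act 7 n8332 = n10156 := rfl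
theorem F39707 : act 0 n10156 = n8354 := d6_1 D10156 (iv D8354) (iv F31764)
theorem F39708 : act 3 n10156 = n8694 := d24_1 D10156 (iv D8694) F24387 F37918 (iv F31765)
theorem F39709 : act 5 n10156 = n8333 := d31_1 D10156 (iv D8333) D8332
theorem F39710 : act 6 n10156 = n8695 := d33_1 D10156 F33055 F38003
def n10157 : Q := act 3 n8333
theorem D10157 : act 3 n8333 = n10157 := rfl
theorem F39711 : act 0 n10157 = n8355 := d2_1 D10157 (iv D8355) (iv F31768)
theorem F39712 : act 5 n10157 = n8694 := d22_2 F39709 D10157 (iv F39708)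
theorem F39713 : act 6 n10157 = n8334 := d23_2 (iv F31770) D10157 (iv D8334)
theorem F39714 : act 7 n10157 = n8337 := d24_2 D8333 D10157 (iv D8337) (iv D6085) (iv F23481)
def n10158 : Q := act 8 n8333
theorem D10158 : act 8 n8333 = n10158 := rfl
theorem F39715 : act 0 n10158 = n8356 := d7_1 D10158 (iv D8356) (iv F31768)
theorem F39716 : act 4 n10158 = n10158 := d29_1 D10158 (iv D10158) F31769
theorem F39717 : act 6 n10158 = n8335 := d34_1 D10158 (iv D8335) (iv F31770)
theorem F39718 : act 7 n10158 = n8775 := d35_1 D10158 (iv D8775) F24614 F38120 D8333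
def n10159 : Q := act 2 n8334
theorem D10159 : act 2 n8334 = n10159 := rfl
theorem F39719 : act 0 n10159 = n8357 := d1_1 D10159 (iv D8357) (iv F31771)
theorem F39720 : act 5 n10159 = n8774 := d17_2 (iv F31772) D10159 (iv D8774)
theorem F39721 : act 7 n10159 = n8339 := d19_2 (iv F31773) D10159 (iv D8339)
def n10160 : Q := act 4 n8334
theorem D10160 : act 4 n8334 = n10160 := rfl
theorem F39722 : act 0 n10160 = n8358 := d3_1 D10160 (iv D8358) (iv F31771)
theorem F39723 : act 3 n10160 = n10160 := d21_1 D10160 (iv D10160) (iv D8334) F23485 D8334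
theorem F39724 : act 5 n10160 = n10160 := d26_2 (iv F31772) D10160 (iv D10160) F31772 F24613
theorem F39725 : act 7 n10160 = n8340 := d28_2 (iv F31773) D10160 (iv D8340)
def n10161 : Q := act 8 n8334
theorem D10161 : act 8 n8334 = n10161 := rfl
theorem F39726 : act 0 n10161 = n8359 := d7_1 D10161 (iv D8359) (iv F31771)
theorem F39727 : act 3 n10161 = n8335 := d25_1 D10161 (iv D8335) D8334
theorem F39728 : act 5 n10161 = n8775 := d32_1 D10161 (iv D8775) (iv F31772)
def n10162 : Q := act 2 n8337
theorem D10162 : act 2 n8337 = n10162 := rfl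
theorem F39729 : act 0 n10162 = n8362 := d1_1 D10162 (iv D8362) (iv F31783)
theorem F39730 : act 3 n10162 = n8348 := d15_2 D8337 D10162 (iv D8348) (iv D6094) (iv F23493)
theorem F39731 : act 5 n10162 = n8536 := d17_2 (iv F38032) D10162 F32524
theorem F39732 : act 6 n10162 = n8339 := d18_2 (iv F31784) D10162 (iv D8339)
theorem F39733 : act 8 n10162 = n8605 := d20_2 (iv F38033) D10162 F38101
def n10163 : Q := act 4 n8337
theorem D10163 : act 4 n8337 = n10163 := rfl
theorem F39734 : act 0 n10163 = n8363 := d3_1 D10163 (iv D8363) (iv F31783)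
theorem F39735 : act 3 n10163 = n8342 := d21_1 D10163 (iv D8342) (iv D6088) (iv F23494) D8337
theorem F39736 : act 5 n10163 = n9379 := d26_2 (iv F38032) D10163 (iv D9379) (iv D6838) (iv F24388)
theorem F39737 : act 6 n10163 = n8340 := d27_2 (iv F31784) D10163 (iv D8340)
theorem F39738 : act 8 n10163 = n8701 := d29_2 (iv F38033) D10163 (iv D8701)
def n10164 : Q := act 1 n8339
theorem D10164 : act 1 n8339 = n10164 := rfl
theorem F39739 : act 3 n10164 = n8350 := d9_2 (iv F31791) D10164 (iv D8350)
theorem F39740 : act 5 n10164 = n8780 := d11_2 (iv F31792) D10164 (iv D8780)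
def n10165 : Q := act 4 n8339
theorem D10165 : act 4 n8339 = n10165 := rfl
theorem F39741 : act 0 n10165 = n8366 := d3_1 D10165 (iv D8366) (iv F31790)
theorem F39742 : act 2 n10165 = n8340 := d16_1 D10165 (iv D8340) D8339
theorem F39743 : act 3 n10165 = n10165 := d21_1 D10165 (iv D10165) F31791 F23539 (iv F31791)
theorem F39744 : act 5 n10165 = n10165 := d26_2 (iv F31792) D10165 (iv D10165) F31792 F24630
def n10166 : Q := act 1 n8348
theorem D10166 : act 1 n8348 = n10166 := rfl
theorem F39745 : act 2 n10166 = n10070 := d8_2 D8348 D10166 F39380 F31523 (iv F38104)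
theorem F39746 : act 4 n10166 = n10166 := d10_2 F31826 D10166 (iv D10166)
theorem F39747 : act 5 n10166 = n8528 := d11_2 (iv F38173) D10166 F32493
theorem F39748 : act 6 n10166 = n8350 := d12_2 (iv F31827) D10166 (iv D8350)
theorem F39749 : act 8 n10166 = n8591 := d14_2 (iv F38174) D10166 F32729
def n10167 : Q := act 0 n8350
theorem D10167 : act 0 n8350 = n10167 := rfl
theorem F39750 : act 1 n10167 = n8380 := d0_2 D8350 D10167 (iv D8380) (iv D6116) (iv F23538)
theorem F39751 : act 4 n10167 = n10167 := d3_2 F31832 D10167 (iv D10167)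
theorem F39752 : act 5 n10167 = n8789 := d4_2 (iv F31833) D10167 (iv D8789)
def n10168 : Q := act 7 n8353
theorem D10168 : act 7 n8353 = n10168 := rfl
theorem F39753 : act 1 n10168 = n10168 := d13_1 D10168 (iv D10168) F31842
theorem F39754 : act 3 n10168 = n9402 := d24_1 D10168 F35557 F26273 F38189 (iv F38152)
theorem F39755 : act 4 n10168 = n8354 := d28_1 D10168 (iv D8354) D8353
theorem F39756 : act 5 n10168 = n10168 := d31_1 D10168 (iv D10168) F31844
theorem F39757 : act 6 n10168 = n8721 := d33_1 D10168 F33157 F37982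
def n10169 : Q := act 8 n8354
theorem D10169 : act 8 n8354 = n10169 := rfl
theorem F39758 : act 1 n10169 = n10169 := d14_1 D10169 (iv D10169) F31847
theorem F39759 : act 3 n10169 = n8719 := d25_1 D10169 (iv D8719) (iv F38080)
theorem F39760 : act 5 n10169 = n8356 := d32_1 D10169 (iv D8356) (iv F31848)
theorem F39761 : act 6 n10169 = n8722 := d34_1 D10169 (iv D8722) F38140
theorem F39762 : act 7 n10169 = n8359 := d35_1 D10169 (iv D8359) F23554 F38081 D8354
def n10170 : Q := act 2 n8355
theorem D10170 : act 2 n8355 = n10170 := rfl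
theorem F39764 : act 6 n10170 = n8357 := d18_2 (iv F31851) D10170 (iv D8357)
theorem F39765 : act 7 n10170 = n8362 := d19_2 (iv F31852) D10170 (iv D8362)
def n10171 : Q := act 4 n8355
theorem D10171 : act 4 n8355 = n10171 := rfl
theorem F39766 : act 1 n10171 = n10171 := d10_1 D10171 (iv D10171) F31850
theorem F39767 : act 3 n10171 = n10171 := d21_1 D10171 (iv D10171) (iv D8355) F23550 D8355
theorem F39769 : act 6 n10171 = n8358 := d27_2 (iv F31851) D10171 (iv D8358)
theorem F39770 : act 7 n10171 = n8363 := d28_2 (iv F31852) D10171 (iv D8363)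
def n10172 : Q := act 8 n8355
theorem D10172 : act 8 n8355 = n10172 := rfl
theorem F39771 : act 1 n10172 = n10172 := d14_1 D10172 (iv D10172) F31850
theorem F39772 : act 3 n10172 = n8356 := d25_1 D10172 (iv D8356) D8355
theorem F39773 : act 5 n10172 = n8719 := d32_1 D10172 (iv D8719) (iv F38188)
theorem F39774 : act 6 n10172 = n8359 := d34_1 D10172 (iv D8359) (iv F31851)
theorem F39775 : act 7 n10172 = n8722 := d35_1 D10172 (iv D8722) F24468 F38125 (iv F31852)
def n10173 : Q := act 1 n8357
theorem D10173 : act 1 n8357 = n10173 := rfl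
theorem F39776 : act 2 n10173 = n10173 := d8_2 D8357 D10173 (iv D10173) (iv D8357) F23552
theorem F39777 : act 5 n10173 = n8797 := d11_2 (iv F31857) D10173 (iv D8797)
theorem F39778 : act 7 n10173 = n8365 := d13_2 (iv F31858) D10173 (iv D8365)
def n10174 : Q := act 4 n8357
theorem D10174 : act 4 n8357 = n10174 := rfl
theorem F39779 : act 2 n10174 = n8358 := d16_1 D10174 (iv D8358) D8357
theorem F39780 : act 5 n10174 = n10174 := d26_2 (iv F31857) D10174 (iv D10174) F31857 F24664
theorem F39781 : act 7 n10174 = n8366 := d28_2 (iv F31858) D10174 (iv D8366)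
def n10175 : Q := act 8 n8357
theorem D10175 : act 8 n8357 = n10175 := rfl
theorem F39782 : act 2 n10175 = n8359 := d20_1 D10175 (iv D8359) D8357
theorem F39783 : act 5 n10175 = n8798 := d32_1 D10175 (iv D8798) (iv F31857)
def n10176 : Q := act 8 n8358
theorem D10176 : act 8 n8358 = n10176 := rfl
theorem F39784 : act 1 n10176 = n10176 := d14_1 D10176 (iv D10176) F31859
theorem F39785 : act 3 n10176 = n10176 := d25_1 D10176 (iv D10176) F31860
theorem F39786 : act 4 n10176 = n8359 := d29_1 D10176 (iv D8359) D8358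
theorem F39787 : act 5 n10176 = n10176 := d32_1 D10176 (iv D10176) F31861
def n10177 : Q := act 1 n8362
theorem D10177 : act 1 n8362 = n10177 := rfl
theorem F39789 : act 3 n10177 = n8377 := d9_2 (iv F31875) D10177 (iv D8377)
theorem F39792 : act 8 n10177 = n8493 := d14_2 (iv F38187) D10177 F32381
def n10178 : Q := act 4 n8362
theorem D10178 : act 4 n8362 = n10178 := rfl
theorem F39797 : act 8 n10178 = n8630 := d29_2 (iv F38187) D10178 (iv D8630)
def n10179 : Q := act 0 n8365
theorem D10179 : act 0 n8365 = n10179 := rfl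
theorem F39798 : act 2 n10179 = n10179 := d1_2 F31883 D10179 (iv D10179)
theorem F39799 : act 3 n10179 = n8380 := d2_2 (iv F31884) D10179 (iv D8380)
theorem F39800 : act 5 n10179 = n8806 := d4_2 (iv F31885) D10179 (iv D8806)
def n10180 : Q := act 4 n8365
theorem D10180 : act 4 n8365 = n10180 := rfl
def n10181 : Q := act 0 n8377
theorem D10181 : act 0 n8377 = n10181 := rfl
theorem F39805 : act 2 n10181 = n8388 := d1_2 (iv F31929) D10181 (iv D8388)
theorem F39806 : act 4 n10181 = n10181 := d3_2 F31930 D10181 (iv D10181)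
theorem F39807 : act 5 n10181 = n8429 := d4_2 (iv F38297) D10181 F32144
theorem F39808 : act 6 n10181 = n8380 := d5_2 (iv F31931) D10181 (iv D8380)
theorem F39809 : act 8 n10181 = n8477 := d7_2 (iv F38298) D10181 F32327
def n10182 : Q := act 4 n8394
theorem D10182 : act 4 n8394 = n10182 := rfl
theorem F39810 : act 0 n10182 = n10182 := d3_1 D10182 (iv D10182) F31986
theorem F39811 : act 1 n10182 = n8396 := d10_1 D10182 (iv D8396) (iv F31987)
theorem F39812 : act 2 n10182 = n9964 := d16_1 D10182 (iv D9964) (iv F31988)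
theorem F39813 : act 5 n10182 = n10182 := d26_2 D8394 D10182 (iv D10182) (iv D8394) F23653
theorem F39814 : act 8 n10182 = n10182 := d29_2 F31990 D10182 (iv D10182)
def n10183 : Q := act 6 n8394
theorem D10183 : act 6 n8394 = n10183 := rfl
theorem F39816 : act 1 n10183 = n8397 := d12_1 D10183 (iv D8397) (iv F31987)
def n10184 : Q := act 7 n8394
theorem D10184 : act 7 n8394 = n10184 := rfl
theorem F39821 : act 0 n10184 = n10184 := d6_1 D10184 (iv D10184) F31986
theorem F39822 : act 1 n10184 = n8398 := d13_1 D10184 (iv D8398) (iv F31987)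
theorem F39823 : act 2 n10184 = n9966 := d19_1 D10184 (iv D9966) (iv F31988)
theorem F39824 : act 5 n10184 = n8395 := d31_1 D10184 (iv D8395) D8394
def n10185 : Q := act 3 n8395
theorem D10185 : act 3 n8395 = n10185 := rfl
theorem F39825 : act 0 n10185 = n10185 := d2_1 D10185 (iv D10185) F31991
theorem F39826 : act 1 n10185 = n8399 := d9_1 D10185 (iv D8399) (iv F31992)
theorem F39827 : act 6 n10185 = n10185 := d23_2 F31995 D10185 (iv D10185)
theorem F39828 : act 7 n10185 = n9029 := d24_2 D8395 D10185 (iv D9029) (iv D6587) (iv F23652)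
def n10186 : Q := act 8 n8395
theorem D10186 : act 8 n8395 = n10186 := rfl
theorem F39829 : act 0 n10186 = n10186 := d7_1 D10186 (iv D10186) F31991
theorem F39830 : act 1 n10186 = n8400 := d14_1 D10186 (iv D8400) (iv F31992)
theorem F39831 : act 2 n10186 = n9968 := d20_1 D10186 (iv D9968) (iv F31993)
theorem F39832 : act 4 n10186 = n10186 := d29_1 D10186 (iv D10186) F31994
theorem F39833 : act 6 n10186 = n10186 := d34_1 D10186 (iv D10186) F31995
theorem F39834 : act 7 n10186 = n10186 := d35_1 D10186 (iv D10186) (iv D8395) F23655 D8395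
def n10187 : Q := act 3 n8396
theorem D10187 : act 3 n8396 = n10187 := rfl
def n10188 : Q := act 6 n8396
theorem D10188 : act 6 n8396 = n10188 := rfl
theorem F39840 : act 0 n10188 = n8406 := d5_1 D10188 (iv D8406) (iv F31996)
theorem F39841 : act 2 n10188 = n8401 := d18_1 D10188 (iv D8401) (iv F31997)
theorem F39842 : act 4 n10188 = n8397 := d27_1 D10188 (iv D8397) D8396
def n10189 : Q := act 7 n8396
theorem D10189 : act 7 n8396 = n10189 := rfl
theorem F39844 : act 0 n10189 = n8407 := d6_1 D10189 (iv D8407) (iv F31996)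
theorem F39845 : act 2 n10189 = n8402 := d19_1 D10189 (iv D8402) (iv F31997)
theorem F39846 : act 4 n10189 = n8398 := d28_1 D10189 (iv D8398) D8396
theorem F39847 : act 5 n10189 = n10189 := d31_1 D10189 (iv D10189) F31998
def n10190 : Q := act 7 n8397
theorem D10190 : act 7 n8397 = n10190 := rfl
theorem F39849 : act 2 n10190 = n8403 := d19_1 D10190 (iv D8403) (iv F32001)
def n10191 : Q := act 3 n8398
theorem D10191 : act 3 n8398 = n10191 := rfl
theorem F39853 : act 2 n10191 = n8432 := d15_1 D10191 (iv D8432) F23765 (iv F23676) (iv F32006)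
def n10192 : Q := act 8 n8398
theorem D10192 : act 8 n8398 = n10192 := rfl
theorem F39856 : act 0 n10192 = n8410 := d7_1 D10192 (iv D8410) (iv F32005)
theorem F39857 : act 2 n10192 = n8404 := d20_1 D10192 (iv D8404) (iv F32006)
theorem F39858 : act 5 n10192 = n8400 := d32_1 D10192 (iv D8400) (iv F32007)
theorem F39859 : act 7 n10192 = n10192 := d35_1 D10192 (iv D10192) (iv D8398) F23659 D8398
def n10193 : Q := act 4 n8399
theorem D10193 : act 4 n8399 = n10193 := rfl
theorem F39860 : act 0 n10193 = n8411 := d3_1 D10193 (iv D8411) (iv F32008)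
theorem F39861 : act 2 n10193 = n8434 := d16_1 D10193 (iv D8434) (iv F32009)
theorem F39862 : act 3 n10193 = n10193 := d21_1 D10193 (iv D10193) (iv D8399) F23662 D8399
theorem F39863 : act 6 n10193 = n10193 := d27_2 F32010 D10193 (iv D10193)
theorem F39864 : act 7 n10193 = n9037 := d28_2 (iv F32011) D10193 (iv D9037)
def n10194 : Q := act 8 n8399
theorem D10194 : act 8 n8399 = n10194 := rfl
theorem F39865 : act 0 n10194 = n8412 := d7_1 D10194 (iv D8412) (iv F32008)
theorem F39866 : act 2 n10194 = n8435 := d20_1 D10194 (iv D8435) (iv F32009)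
theorem F39867 : act 3 n10194 = n8400 := d25_1 D10194 (iv D8400) D8399
theorem F39868 : act 6 n10194 = n10194 := d34_1 D10194 (iv D10194) F32010
def n10195 : Q := act 5 n8401
theorem D10195 : act 5 n8401 = n10195 := rfl
theorem F39869 : act 0 n10195 = n8413 := d4_1 D10195 (iv D8413) (iv F32017)
theorem F39870 : act 1 n10195 = n9977 := d11_1 D10195 (iv D9977) (iv F32018)
def n10196 : Q := act 7 n8401
theorem D10196 : act 7 n8401 = n10196 := rfl
theorem F39875 : act 0 n10196 = n8414 := d6_1 D10196 (iv D8414) (iv F32017)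
theorem F39876 : act 1 n10196 = n9978 := d13_1 D10196 (iv D9978) (iv F32018)
theorem F39877 : act 4 n10196 = n8403 := d28_1 D10196 (iv D8403) (iv F32020)
theorem F39878 : act 6 n10196 = n8402 := d33_1 D10196 (iv D8402) D8401
def n10197 : Q := act 3 n8402
theorem D10197 : act 3 n8402 = n10197 := rfl
theorem F39879 : act 0 n10197 = n8415 := d2_1 D10197 (iv D8415) (iv F32022)
theorem F39880 : act 1 n10197 = n9979 := d9_1 D10197 (iv D9979) (iv F32023)
theorem F39881 : act 4 n10197 = n8438 := d21_2 (iv F32024) D10197 (iv D8438) F23782 (iv F23676)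
theorem F39882 : act 5 n10197 = n10197 := d22_2 F32025 D10197 (iv D10197)
theorem F39883 : act 7 n10197 = n10197 := d24_2 D8402 D10197 (iv D10197) (iv D8402) F23666
def n10198 : Q := act 8 n8402
theorem D10198 : act 8 n8402 = n10198 := rfl
theorem F39884 : act 0 n10198 = n8416 := d7_1 D10198 (iv D8416) (iv F32022)
theorem F39885 : act 1 n10198 = n9980 := d14_1 D10198 (iv D9980) (iv F32023)
theorem F39886 : act 4 n10198 = n8404 := d29_1 D10198 (iv D8404) (iv F32024)
theorem F39887 : act 5 n10198 = n10198 := d32_1 D10198 (iv D10198) F32025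
theorem F39888 : act 7 n10198 = n10198 := d35_1 D10198 (iv D10198) (iv D8402) F23668 D8402
def n10199 : Q := act 8 n8403
theorem D10199 : act 8 n8403 = n10199 := rfl
theorem F39889 : act 0 n10199 = n8417 := d7_1 D10199 (iv D8417) (iv F32026)
theorem F39890 : act 1 n10199 = n9981 := d14_1 D10199 (iv D9981) (iv F32027)
theorem F39891 : act 3 n10199 = n8440 := d25_1 D10199 (iv D8440) (iv F32028)
theorem F39892 : act 5 n10199 = n10199 := d32_1 D10199 (iv D10199) F32029
theorem F39893 : act 6 n10199 = n8404 := d34_1 D10199 (iv D8404) (iv F32030)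
theorem F39894 : act 7 n10199 = n10199 := d35_1 D10199 (iv D10199) (iv D8403) F23673 D8403
def n10202 : Q := act 5 n8406
theorem D10202 : act 5 n8406 = n10202 := rfl
theorem F39905 : act 2 n10202 = n8413 := d17_1 D10202 (iv D8413) (iv F32042)
def n10203 : Q := act 7 n8406
theorem D10203 : act 7 n8406 = n10203 := rfl
theorem F39910 : act 2 n10203 = n8414 := d19_1 D10203 (iv D8414) (iv F32042)
theorem F39911 : act 4 n10203 = n8408 := d28_1 D10203 (iv D8408) (iv F32043)
def n10204 : Q := act 3 n8407
theorem D10204 : act 3 n8407 = n10204 := rfl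
def n10205 : Q := act 8 n8407
theorem D10205 : act 8 n8407 = n10205 := rfl
theorem F39915 : act 1 n10205 = n10205 := d14_1 D10205 (iv D10205) F32045
theorem F39916 : act 2 n10205 = n8416 := d20_1 D10205 (iv D8416) (iv F32046)
theorem F39917 : act 4 n10205 = n8410 := d29_1 D10205 (iv D8410) (iv F32047)
theorem F39918 : act 5 n10205 = n10205 := d32_1 D10205 (iv D10205) F32048
theorem F39919 : act 7 n10205 = n10205 := d35_1 D10205 (iv D10205) (iv D8407) F23687 D8407
def n10207 : Q := act 8 n8408
theorem D10207 : act 8 n8408 = n10207 := rfl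
theorem F39926 : act 2 n10207 = n8417 := d20_1 D10207 (iv D8417) (iv F32050)
def n10208 : Q := act 4 n8409
theorem D10208 : act 4 n8409 = n10208 := rfl
theorem F39931 : act 2 n10208 = n8449 := d16_1 D10208 (iv D8449) (iv F32054)
theorem F39932 : act 7 n10208 = n9052 := d28_2 (iv F32056) D10208 (iv D9052)
def n10209 : Q := act 8 n8409
theorem D10209 : act 8 n8409 = n10209 := rfl
theorem F39934 : act 2 n10209 = n8450 := d20_1 D10209 (iv D8450) (iv F32054)
theorem F39935 : act 3 n10209 = n8410 := d25_1 D10209 (iv D8410) D8409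
def n10210 : Q := act 5 n8411
theorem D10210 : act 5 n8411 = n10210 := rfl
theorem F39938 : act 2 n10210 = n8451 := d17_1 D10210 (iv D8451) (iv F32062)
theorem F39940 : act 7 n10210 = n9054 := d31_2 (iv F32065) D10210 (iv D9054)
def n10211 : Q := act 8 n8411
theorem D10211 : act 8 n8411 = n10211 := rfl
theorem F39941 : act 1 n10211 = n10211 := d14_1 D10211 (iv D10211) F32061
theorem F39942 : act 2 n10211 = n8452 := d20_1 D10211 (iv D8452) (iv F32062)
theorem F39943 : act 3 n10211 = n10211 := d25_1 D10211 (iv D10211) F32063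
theorem F39944 : act 4 n10211 = n8412 := d29_1 D10211 (iv D8412) D8411
theorem F39945 : act 6 n10211 = n10211 := d34_1 D10211 (iv D10211) F32064
def n10212 : Q := act 7 n8412
theorem D10212 : act 7 n8412 = n10212 := rfl
theorem F39947 : act 2 n10212 = n8453 := d19_1 D10212 (iv D8453) (iv F32067)
theorem F39950 : act 8 n10212 = n9056 := d35_2 D8412 D10212 (iv D9056) (iv D6604) (iv F23699)
def n10213 : Q := act 7 n8413
theorem D10213 : act 7 n8413 = n10213 := rfl
theorem F39951 : act 1 n10213 = n8418 := d13_1 D10213 (iv D8418) (iv F32070)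
theorem F39952 : act 4 n10213 = n10213 := d28_1 D10213 (iv D10213) F32072
theorem F39953 : act 5 n10213 = n8414 := d31_1 D10213 (iv D8414) D8413
theorem F39954 : act 6 n10213 = n10213 := d33_1 D10213 (iv D10213) F32073
def n10214 : Q := act 3 n8414
theorem D10214 : act 3 n8414 = n10214 := rfl
theorem F39955 : act 1 n10214 = n8419 := d9_1 D10214 (iv D8419) (iv F32075)
theorem F39956 : act 4 n10214 = n8455 := d21_2 (iv F32076) D10214 (iv D8455) F23829 (iv F23713)
theorem F39957 : act 6 n10214 = n8415 := d23_2 (iv F32077) D10214 (iv D8415)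
theorem F39958 : act 7 n10214 = n10214 := d24_2 D8414 D10214 (iv D10214) (iv D8414) F23706
def n10215 : Q := act 8 n8414
theorem D10215 : act 8 n8414 = n10215 := rfl
theorem F39959 : act 1 n10215 = n8420 := d14_1 D10215 (iv D8420) (iv F32075)
theorem F39960 : act 4 n10215 = n8417 := d29_1 D10215 (iv D8417) (iv F32076)
theorem F39961 : act 6 n10215 = n8416 := d34_1 D10215 (iv D8416) (iv F32077)
theorem F39962 : act 7 n10215 = n10215 := d35_1 D10215 (iv D10215) (iv D8414) F23708 D8414
def n10216 : Q := act 2 n8415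
theorem D10216 : act 2 n8415 = n10216 := rfl
theorem F39963 : act 4 n10216 = n8457 := d16_2 (iv F32079) D10216 (iv D8457)
theorem F39964 : act 5 n10216 = n10216 := d17_2 F32080 D10216 (iv D10216)
theorem F39965 : act 7 n10216 = n10216 := d19_2 F32081 D10216 (iv D10216)
def n10217 : Q := act 8 n8415
theorem D10217 : act 8 n8415 = n10217 := rfl
theorem F39966 : act 1 n10217 = n8422 := d14_1 D10217 (iv D8422) (iv F32078)
theorem F39967 : act 3 n10217 = n8416 := d25_1 D10217 (iv D8416) D8415
theorem F39968 : act 4 n10217 = n8458 := d29_1 D10217 (iv D8458) (iv F32079)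
theorem F39969 : act 5 n10217 = n10217 := d32_1 D10217 (iv D10217) F32080
def n10218 : Q := act 3 n8418
theorem D10218 : act 3 n8418 = n10218 := rfl
theorem F39970 : act 0 n10218 = n10000 := d2_1 D10218 (iv D10000) (iv F32091)
theorem F39971 : act 5 n10218 = n8419 := d22_2 (iv F32094) D10218 (iv D8419)
theorem F39972 : act 6 n10218 = n10218 := d23_2 F32095 D10218 (iv D10218)
theorem F39973 : act 7 n10218 = n10218 := d24_2 D8418 D10218 (iv D10218) (iv D8418) F23722
def n10219 : Q := act 8 n8418
theorem D10219 : act 8 n8418 = n10219 := rfl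
theorem F39974 : act 0 n10219 = n10001 := d7_1 D10219 (iv D10001) (iv F32091)
theorem F39975 : act 2 n10219 = n10219 := d20_1 D10219 (iv D10219) F32092
theorem F39976 : act 4 n10219 = n10219 := d29_1 D10219 (iv D10219) F32093
theorem F39977 : act 5 n10219 = n8420 := d32_1 D10219 (iv D8420) (iv F32094)
theorem F39978 : act 6 n10219 = n10219 := d34_1 D10219 (iv D10219) F32095
theorem F39979 : act 7 n10219 = n10219 := d35_1 D10219 (iv D10219) (iv D8418) F23725 D8418
def n10220 : Q := act 8 n8419
theorem D10220 : act 8 n8419 = n10220 := rfl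
theorem F39980 : act 0 n10220 = n10003 := d7_1 D10220 (iv D10003) (iv F32096)
theorem F39981 : act 3 n10220 = n8420 := d25_1 D10220 (iv D8420) D8419
theorem F39982 : act 4 n10220 = n8462 := d29_1 D10220 (iv D8462) (iv F32097)
theorem F39983 : act 6 n10220 = n8422 := d34_1 D10220 (iv D8422) (iv F32098)
def n10221 : Q := act 1 n8421
theorem D10221 : act 1 n8421 = n10221 := rfl
theorem F39984 : act 3 n10221 = n10221 := d9_2 F32106 D10221 (iv D10221)
theorem F39985 : act 4 n10221 = n8463 := d10_2 (iv F32107) D10221 (iv D8463)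
theorem F39986 : act 5 n10221 = n10221 := d11_2 F32108 D10221 (iv D10221)
theorem F39987 : act 7 n10221 = n10221 := d13_2 F32109 D10221 (iv D10221)
def n10222 : Q := act 8 n8421
theorem D10222 : act 8 n8421 = n10222 := rfl
theorem F39988 : act 0 n10222 = n10005 := d7_1 D10222 (iv D10005) (iv F32105)
theorem F39989 : act 2 n10222 = n8422 := d20_1 D10222 (iv D8422) D8421
theorem F39990 : act 3 n10222 = n10222 := d25_1 D10222 (iv D10222) F32106
theorem F39991 : act 4 n10222 = n8464 := d29_1 D10222 (iv D8464) (iv F32107)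
theorem F39992 : act 5 n10222 = n10222 := d32_1 D10222 (iv D10222) F32108
def n10223 : Q := act 7 n8422
theorem D10223 : act 7 n8422 = n10223 := rfl
theorem F39993 : act 0 n10223 = n10006 := d6_1 D10223 (iv D10006) (iv F32110)
theorem F39994 : act 3 n10223 = n10223 := d24_1 D10223 (iv D10223) F32111 F23738 (iv F32111)
theorem F39995 : act 4 n10223 = n8465 := d28_1 D10223 (iv D8465) (iv F32112)
theorem F39996 : act 5 n10223 = n10223 := d31_1 D10223 (iv D10223) F32113
theorem F39997 : act 8 n10223 = n10223 := d35_2 D8422 D10223 (iv D10223) (iv D8422) F23733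
def n10224 : Q := act 3 n8423
theorem D10224 : act 3 n8423 = n10224 := rfl
theorem F39998 : act 0 n10224 = n8527 := d2_1 D10224 (iv D8527) (iv F32114)
theorem F39999 : act 1 n10224 = n8428 := d9_1 D10224 (iv D8428) (iv F32115)
theorem F40000 : act 4 n10224 = n9069 := d21_2 D8423 D10224 (iv D9069) (iv D6615) (iv F23748)
theorem F40001 : act 5 n10224 = n9875 := d22_2 (iv F32117) D10224 (iv D9875)
theorem F40002 : act 8 n10224 = n8466 := d25_2 (iv F32118) D10224 (iv D8466)
def n10225 : Q := act 6 n8423
theorem D10225 : act 6 n8423 = n10225 := rfl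
theorem F40003 : act 0 n10225 = n8528 := d5_1 D10225 (iv D8528) (iv F32114)
theorem F40004 : act 1 n10225 = n8429 := d12_1 D10225 (iv D8429) (iv F32115)
theorem F40005 : act 2 n10225 = n10008 := d18_1 D10225 (iv D10008) (iv F32116)
theorem F40006 : act 4 n10225 = n8424 := d27_1 D10225 (iv D8424) D8423
theorem F40007 : act 8 n10225 = n8467 := d34_2 (iv F32118) D10225 (iv D8467)
def n10226 : Q := act 7 n8423
theorem D10226 : act 7 n8423 = n10226 := rfl
theorem F40008 : act 0 n10226 = n8529 := d6_1 D10226 (iv D8529) (iv F32114)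
theorem F40009 : act 1 n10226 = n8430 := d13_1 D10226 (iv D8430) (iv F32115)
theorem F40010 : act 2 n10226 = n10009 := d19_1 D10226 (iv D10009) (iv F32116)
theorem F40011 : act 4 n10226 = n8425 := d28_1 D10226 (iv D8425) D8423
theorem F40012 : act 5 n10226 = n9876 := d31_1 D10226 (iv D9876) (iv F32117)
def n10227 : Q := act 7 n8424
theorem D10227 : act 7 n8424 = n10227 := rfl
theorem F40013 : act 0 n10227 = n8530 := d6_1 D10227 (iv D8530) (iv F32119)
theorem F40014 : act 1 n10227 = n8431 := d13_1 D10227 (iv D8431) (iv F32120)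
theorem F40015 : act 2 n10227 = n10010 := d19_1 D10227 (iv D10010) (iv F32121)
theorem F40016 : act 5 n10227 = n10227 := d31_1 D10227 (iv D10227) F32123
theorem F40017 : act 6 n10227 = n8425 := d33_1 D10227 (iv D8425) D8424
def n10228 : Q := act 3 n8425
theorem D10228 : act 3 n8425 = n10228 := rfl
theorem F40018 : act 0 n10228 = n8531 := d2_1 D10228 (iv D8531) (iv F32125)
theorem F40019 : act 1 n10228 = n8432 := d9_1 D10228 (iv D8432) (iv F32126)
theorem F40020 : act 5 n10228 = n8426 := d22_2 (iv F32128) D10228 (iv D8426)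
theorem F40021 : act 7 n10228 = n9073 := d24_2 D8425 D10228 (iv D9073) (iv D6617) (iv F23748)
def n10229 : Q := act 8 n8425
theorem D10229 : act 8 n8425 = n10229 := rfl
theorem F40022 : act 0 n10229 = n8532 := d7_1 D10229 (iv D8532) (iv F32125)
theorem F40023 : act 1 n10229 = n8433 := d14_1 D10229 (iv D8433) (iv F32126)
theorem F40024 : act 2 n10229 = n10012 := d20_1 D10229 (iv D10012) (iv F32127)
theorem F40025 : act 5 n10229 = n8427 := d32_1 D10229 (iv D8427) (iv F32128)
theorem F40026 : act 7 n10229 = n8471 := d35_1 D10229 (iv D8471) (iv D6180) (iv F23749) D8425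
def n10230 : Q := act 2 n8426
theorem D10230 : act 2 n8426 = n10230 := rfl
theorem F40027 : act 0 n10230 = n8533 := d1_1 D10230 (iv D8533) (iv F32129)
theorem F40028 : act 3 n10230 = n10013 := d15_2 D8426 D10230 (iv D10013) (iv D8217) (iv F23752)
theorem F40029 : act 6 n10230 = n10230 := d18_2 F32131 D10230 (iv D10230)
theorem F40030 : act 7 n10230 = n9075 := d19_2 (iv F32132) D10230 (iv D9075)
def n10231 : Q := act 4 n8426
theorem D10231 : act 4 n8426 = n10231 := rfl
theorem F40031 : act 0 n10231 = n8534 := d3_1 D10231 (iv D8534) (iv F32129)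
theorem F40032 : act 1 n10231 = n8434 := d10_1 D10231 (iv D8434) (iv F32130)
theorem F40033 : act 3 n10231 = n9880 := d21_1 D10231 (iv D9880) (iv D7726) (iv F23753) D8426
theorem F40034 : act 6 n10231 = n10231 := d27_2 F32131 D10231 (iv D10231)
theorem F40035 : act 7 n10231 = n9076 := d28_2 (iv F32132) D10231 (iv D9076)
def n10232 : Q := act 8 n8426
theorem D10232 : act 8 n8426 = n10232 := rfl
theorem F40036 : act 0 n10232 = n8535 := d7_1 D10232 (iv D8535) (iv F32129)
theorem F40037 : act 1 n10232 = n8435 := d14_1 D10232 (iv D8435) (iv F32130)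
theorem F40038 : act 3 n10232 = n8427 := d25_1 D10232 (iv D8427) D8426
theorem F40039 : act 6 n10232 = n10232 := d34_1 D10232 (iv D10232) F32131
def n10233 : Q := act 6 n8428
theorem D10233 : act 6 n8428 = n10233 := rfl
theorem F40042 : act 3 n10233 = n8429 := d23_1 D10233 (iv D8429) D8428
theorem F40044 : act 8 n10233 = n8475 := d34_2 (iv F32143) D10233 (iv D8475)
def n10234 : Q := act 7 n8428
theorem D10234 : act 7 n8428 = n10234 := rfl
theorem F40045 : act 0 n10234 = n8442 := d6_1 D10234 (iv D8442) (iv F32139)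
theorem F40046 : act 2 n10234 = n10234 := d19_1 D10234 (iv D10234) F32140
theorem F40048 : act 5 n10234 = n9882 := d31_1 D10234 (iv D9882) (iv F32142)
def n10235 : Q := act 7 n8429
theorem D10235 : act 7 n8429 = n10235 := rfl
theorem F40049 : act 0 n10235 = n8444 := d6_1 D10235 (iv D8444) (iv F32144)
theorem F40050 : act 2 n10235 = n8437 := d19_1 D10235 (iv D8437) (iv F32145)
theorem F40051 : act 4 n10235 = n8431 := d28_1 D10235 (iv D8431) (iv F32146)
theorem F40052 : act 6 n10235 = n8430 := d33_1 D10235 (iv D8430) D8429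
def n10236 : Q := act 3 n8430
theorem D10236 : act 3 n8430 = n10236 := rfl
theorem F40053 : act 0 n10236 = n8445 := d2_1 D10236 (iv D8445) (iv F32148)
theorem F40054 : act 5 n10236 = n9883 := d22_2 (iv F32151) D10236 (iv D9883)
def n10237 : Q := act 8 n8430
theorem D10237 : act 8 n8430 = n10237 := rfl
theorem F40055 : act 0 n10237 = n8446 := d7_1 D10237 (iv D8446) (iv F32148)
theorem F40056 : act 2 n10237 = n8439 := d20_1 D10237 (iv D8439) (iv F32149)
theorem F40057 : act 4 n10237 = n8433 := d29_1 D10237 (iv D8433) (iv F32150)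
theorem F40058 : act 5 n10237 = n9884 := d32_1 D10237 (iv D9884) (iv F32151)
theorem F40059 : act 7 n10237 = n8480 := d35_1 D10237 (iv D8480) (iv D6185) (iv F23758) D8430
def n10238 : Q := act 3 n8431
theorem D10238 : act 3 n8431 = n10238 := rfl
def n10239 : Q := act 8 n8431
theorem D10239 : act 8 n8431 = n10239 := rfl
theorem F40064 : act 0 n10239 = n8448 := d7_1 D10239 (iv D8448) (iv F32152)
theorem F40065 : act 2 n10239 = n8440 := d20_1 D10239 (iv D8440) (iv F32153)
theorem F40066 : act 5 n10239 = n10239 := d32_1 D10239 (iv D10239) F32154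
theorem F40067 : act 6 n10239 = n8433 := d34_1 D10239 (iv D8433) (iv F32155)
theorem F40068 : act 7 n10239 = n8482 := d35_1 D10239 (iv D8482) (iv D6186) (iv F23763) D8431
def n10240 : Q := act 4 n8432
theorem D10240 : act 4 n8432 = n10240 := rfl
theorem F40069 : act 0 n10240 = n8449 := d3_1 D10240 (iv D8449) (iv F32156)
def n10241 : Q := act 8 n8432
theorem D10241 : act 8 n8432 = n10241 := rfl
theorem F40071 : act 0 n10241 = n8450 := d7_1 D10241 (iv D8450) (iv F32156)
theorem F40072 : act 3 n10241 = n8433 := d25_1 D10241 (iv D8433) D8432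
theorem F40073 : act 5 n10241 = n8435 := d32_1 D10241 (iv D8435) (iv F32157)
def n10242 : Q := act 5 n8434
theorem D10242 : act 5 n8434 = n10242 := rfl
theorem F40074 : act 0 n10242 = n8451 := d4_1 D10242 (iv D8451) (iv F32163)
theorem F40075 : act 3 n10242 = n9887 := d22_1 D10242 (iv D9887) (iv F32164)
theorem F40076 : act 7 n10242 = n9088 := d31_2 (iv F32166) D10242 (iv D9088)
def n10243 : Q := act 8 n8434
theorem D10243 : act 8 n8434 = n10243 := rfl
theorem F40077 : act 0 n10243 = n8452 := d7_1 D10243 (iv D8452) (iv F32163)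
theorem F40078 : act 3 n10243 = n9888 := d25_1 D10243 (iv D9888) (iv F32164)
theorem F40079 : act 4 n10243 = n8435 := d29_1 D10243 (iv D8435) D8434
theorem F40080 : act 6 n10243 = n10243 := d34_1 D10243 (iv D10243) F32165
def n10244 : Q := act 7 n8435
theorem D10244 : act 7 n8435 = n10244 := rfl
theorem F40081 : act 0 n10244 = n8453 := d6_1 D10244 (iv D8453) (iv F32167)
theorem F40082 : act 3 n10244 = n8487 := d24_1 D10244 (iv D8487) F23904 (iv F23774) (iv F32168)
theorem F40083 : act 6 n10244 = n10244 := d33_1 D10244 (iv D10244) F32169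
theorem F40084 : act 8 n10244 = n9090 := d35_2 D8435 D10244 (iv D9090) (iv D6627) (iv F23769)
def n10245 : Q := act 3 n8437
theorem D10245 : act 3 n8437 = n10245 := rfl
theorem F40085 : act 0 n10245 = n8455 := d2_1 D10245 (iv D8455) (iv F32176)
theorem F40086 : act 1 n10245 = n10030 := d9_1 D10245 (iv D10030) (iv F32177)
theorem F40087 : act 6 n10245 = n8438 := d23_2 (iv F32179) D10245 (iv D8438)
theorem F40088 : act 7 n10245 = n10245 := d24_2 D8437 D10245 (iv D10245) (iv D8437) F23777
def n10246 : Q := act 8 n8437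
theorem D10246 : act 8 n8437 = n10246 := rfl
theorem F40089 : act 0 n10246 = n8456 := d7_1 D10246 (iv D8456) (iv F32176)
theorem F40090 : act 1 n10246 = n10031 := d14_1 D10246 (iv D10031) (iv F32177)
theorem F40091 : act 4 n10246 = n8440 := d29_1 D10246 (iv D8440) (iv F32178)
theorem F40092 : act 6 n10246 = n8439 := d34_1 D10246 (iv D8439) (iv F32179)
theorem F40093 : act 7 n10246 = n8490 := d35_1 D10246 (iv D8490) (iv D6192) (iv F23779) D8437
def n10247 : Q := act 2 n8438
theorem D10247 : act 2 n8438 = n10247 := rfl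
theorem F40094 : act 0 n10247 = n8457 := d1_1 D10247 (iv D8457) (iv F32180)
theorem F40095 : act 5 n10247 = n9890 := d17_2 (iv F32182) D10247 (iv D9890)
theorem F40096 : act 7 n10247 = n10247 := d19_2 F32183 D10247 (iv D10247)
def n10248 : Q := act 8 n8438
theorem D10248 : act 8 n8438 = n10248 := rfl
theorem F40097 : act 0 n10248 = n8458 := d7_1 D10248 (iv D8458) (iv F32180)
theorem F40098 : act 1 n10248 = n10033 := d14_1 D10248 (iv D10033) (iv F32181)
theorem F40099 : act 3 n10248 = n8439 := d25_1 D10248 (iv D8439) D8438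
theorem F40100 : act 5 n10248 = n9891 := d32_1 D10248 (iv D9891) (iv F32182)
def n10250 : Q := act 3 n8442
theorem D10250 : act 3 n8442 = n10250 := rfl
theorem F40105 : act 1 n10250 = n8556 := d9_1 D10250 (iv D8556) (iv F32199)
theorem F40106 : act 5 n10250 = n9892 := d22_2 (iv F32202) D10250 (iv D9892)
theorem F40107 : act 7 n10250 = n8445 := d24_2 D8442 D10250 (iv D8445) (iv D6162) D6160
def n10251 : Q := act 8 n8442
theorem D10251 : act 8 n8442 = n10251 := rfl
theorem F40108 : act 1 n10251 = n8557 := d14_1 D10251 (iv D8557) (iv F32199)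
theorem F40109 : act 2 n10251 = n10251 := d20_1 D10251 (iv D10251) F32200
theorem F40110 : act 4 n10251 = n9099 := d29_1 D10251 (iv D9099) (iv F32201)
theorem F40111 : act 5 n10251 = n9893 := d32_1 D10251 (iv D9893) (iv F32202)
theorem F40112 : act 7 n10251 = n8496 := d35_1 D10251 (iv D8496) (iv D6197) (iv F23796) D8442
def n10252 : Q := act 3 n8444
theorem D10252 : act 3 n8444 = n10252 := rfl
theorem F40113 : act 1 n10252 = n8559 := d9_1 D10252 (iv D8559) (iv F32208)
theorem F40114 : act 6 n10252 = n8445 := d23_2 (iv F32211) D10252 (iv D8445)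
def n10253 : Q := act 8 n8444
theorem D10253 : act 8 n8444 = n10253 := rfl
theorem F40115 : act 1 n10253 = n8560 := d14_1 D10253 (iv D8560) (iv F32208)
theorem F40116 : act 2 n10253 = n8456 := d20_1 D10253 (iv D8456) (iv F32209)
theorem F40117 : act 4 n10253 = n8448 := d29_1 D10253 (iv D8448) (iv F32210)
theorem F40118 : act 6 n10253 = n8446 := d34_1 D10253 (iv D8446) (iv F32211)
theorem F40119 : act 7 n10253 = n8499 := d35_1 D10253 (iv D8499) (iv D6199) (iv F23800) D8444
def n10254 : Q := act 2 n8445
theorem D10254 : act 2 n8445 = n10254 := rfl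
theorem F40120 : act 3 n10254 = n8457 := d15_2 D8445 D10254 (iv D8457) (iv D6170) (iv F23802)
theorem F40121 : act 5 n10254 = n9894 := d17_2 (iv F32213) D10254 (iv D9894)
def n10255 : Q := act 4 n8445
theorem D10255 : act 4 n8445 = n10255 := rfl
theorem F40122 : act 1 n10255 = n8562 := d10_1 D10255 (iv D8562) (iv F32212)
theorem F40123 : act 3 n10255 = n8449 := d21_1 D10255 (iv D8449) (iv D6164) (iv F23803) D8445
def n10256 : Q := act 8 n8445
theorem D10256 : act 8 n8445 = n10256 := rfl
theorem F40124 : act 1 n10256 = n8563 := d14_1 D10256 (iv D8563) (iv F32212)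
theorem F40125 : act 3 n10256 = n8446 := d25_1 D10256 (iv D8446) D8445
theorem F40126 : act 5 n10256 = n9896 := d32_1 D10256 (iv D9896) (iv F32213)
def n10258 : Q := act 8 n8447
theorem D10258 : act 8 n8447 = n10258 := rfl
theorem F40131 : act 3 n10258 = n8448 := d25_1 D10258 (iv D8448) D8447
def n10259 : Q := act 5 n8449
theorem D10259 : act 5 n8449 = n10259 := rfl
theorem F40134 : act 1 n10259 = n8566 := d11_1 D10259 (iv D8566) (iv F32228)
theorem F40135 : act 4 n10259 = n8451 := d26_1 D10259 (iv D8451) (iv D6166) (iv F23810) D8449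
theorem F40136 : act 7 n10259 = n9108 := d31_2 (iv F32229) D10259 (iv D9108)
def n10260 : Q := act 8 n8449
theorem D10260 : act 8 n8449 = n10260 := rfl
theorem F40137 : act 1 n10260 = n8567 := d14_1 D10260 (iv D8567) (iv F32228)
theorem F40138 : act 4 n10260 = n8450 := d29_1 D10260 (iv D8450) D8449
def n10261 : Q := act 7 n8450
theorem D10261 : act 7 n8450 = n10261 := rfl
theorem F40139 : act 1 n10261 = n8568 := d13_1 D10261 (iv D8568) (iv F32230)
theorem F40140 : act 3 n10261 = n8507 := d24_1 D10261 (iv D8507) F23953 (iv F23815) (iv F32231)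
theorem F40142 : act 8 n10261 = n9110 := d35_2 D8450 D10261 (iv D9110) (iv D6642) (iv F23811)
def n10262 : Q := act 6 n8451
theorem D10262 : act 6 n8451 = n10262 := rfl
theorem F40143 : act 1 n10262 = n8569 := d12_1 D10262 (iv D8569) (iv F32233)
theorem F40144 : act 3 n10262 = n9900 := d23_1 D10262 (iv D9900) (iv F32234)
theorem F40146 : act 7 n10262 = n9111 := d33_2 (iv F32235) D10262 (iv D9111)
def n10263 : Q := act 8 n8451
theorem D10263 : act 8 n8451 = n10263 := rfl
theorem F40147 : act 1 n10263 = n8570 := d14_1 D10263 (iv D8570) (iv F32233)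
theorem F40148 : act 3 n10263 = n9901 := d25_1 D10263 (iv D9901) (iv F32234)
theorem F40149 : act 5 n10263 = n8452 := d32_1 D10263 (iv D8452) D8451
def n10264 : Q := act 7 n8452
theorem D10264 : act 7 n8452 = n10264 := rfl
theorem F40150 : act 1 n10264 = n8571 := d13_1 D10264 (iv D8571) (iv F32236)
theorem F40151 : act 4 n10264 = n8453 := d28_1 D10264 (iv D8453) (iv F32238)
theorem F40152 : act 6 n10264 = n10264 := d33_1 D10264 (iv D10264) F32239
theorem F40153 : act 8 n10264 = n9113 := d35_2 D8452 D10264 (iv D9113) (iv D6644) (iv F23819)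
def n10265 : Q := act 2 n8455
theorem D10265 : act 2 n8455 = n10265 := rfl
theorem F40154 : act 6 n10265 = n8457 := d18_2 (iv F32249) D10265 (iv D8457)
theorem F40155 : act 7 n10265 = n10265 := d19_2 F32250 D10265 (iv D10265)
def n10266 : Q := act 8 n8455
theorem D10266 : act 8 n8455 = n10266 := rfl
theorem F40156 : act 1 n10266 = n8462 := d14_1 D10266 (iv D8462) (iv F32248)
theorem F40157 : act 3 n10266 = n8456 := d25_1 D10266 (iv D8456) D8455
theorem F40158 : act 6 n10266 = n8458 := d34_1 D10266 (iv D8458) (iv F32249)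
def n10267 : Q := act 1 n8457
theorem D10267 : act 1 n8457 = n10267 := rfl
theorem F40159 : act 2 n10267 = n8463 := d8_2 D8457 D10267 (iv D8463) (iv D6176) (iv F23831)
theorem F40160 : act 5 n10267 = n8513 := d11_2 (iv F32255) D10267 (iv F38611)
theorem F40161 : act 7 n10267 = n10267 := d13_2 F32256 D10267 (iv D10267)
def n10268 : Q := act 8 n8457
theorem D10268 : act 8 n8457 = n10268 := rfl
theorem F40162 : act 2 n10268 = n8458 := d20_1 D10268 (iv D8458) D8457
theorem F40163 : act 5 n10268 = n9903 := d32_1 D10268 (iv D9903) (iv F32255)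
def n10269 : Q := act 7 n8458
theorem D10269 : act 7 n8458 = n10269 := rfl
theorem F40164 : act 1 n10269 = n8465 := d13_1 D10269 (iv D8465) (iv F32257)
theorem F40165 : act 3 n10269 = n8517 := d24_1 D10269 (iv D8517) F23979 (iv F23837) (iv F32258)
theorem F40166 : act 5 n10269 = n9904 := d31_1 D10269 (iv D9904) (iv F32259)
theorem F40167 : act 8 n10269 = n10269 := d35_2 D8458 D10269 (iv D10269) (iv D8458) F23833
def n10270 : Q := act 7 n8462
theorem D10270 : act 7 n8462 = n10270 := rfl
theorem F40168 : act 0 n10270 = n10063 := d6_1 D10270 (iv D10063) (iv F32274)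
theorem F40169 : act 3 n10270 = n8523 := d24_1 D10270 (iv D8523) F23990 (iv F23854) (iv F32275)
theorem F40170 : act 6 n10270 = n8465 := d33_1 D10270 (iv D8465) (iv F32276)
theorem F40171 : act 8 n10270 = n10270 := d35_2 D8462 D10270 (iv D10270) (iv D8462) F23849
def n10271 : Q := act 0 n8463
theorem D10271 : act 0 n8463 = n10271 := rfl
theorem F40172 : act 1 n10271 = n10064 := d0_2 D8463 D10271 (iv D10064) (iv D8254) (iv F23855)
theorem F40173 : act 3 n10271 = n8488 := d2_2 (iv F38469) D10271 F32365
theorem F40174 : act 5 n10271 = n8489 := d4_2 F38516 D10271 F32368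
theorem F40175 : act 7 n10271 = n10271 := d6_2 F32279 D10271 (iv D10271)
def n10272 : Q := act 8 n8463
theorem D10272 : act 8 n8463 = n10272 := rfl
theorem F40176 : act 1 n10272 = n8464 := d14_1 D10272 (iv D8464) D8463
theorem F40177 : act 3 n10272 = n8512 := d25_1 D10272 (iv D8512) (iv F38469)
theorem F40178 : act 5 n10272 = n8514 := d32_1 D10272 (iv D8514) F38516
def n10273 : Q := act 7 n8464
theorem D10273 : act 7 n8464 = n10273 := rfl
theorem F40179 : act 0 n10273 = n10066 := d6_1 D10273 (iv D10066) (iv F32280)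
theorem F40180 : act 2 n10273 = n8465 := d19_1 D10273 (iv D8465) (iv F32281)
theorem F40181 : act 5 n10273 = n8523 := d31_1 D10273 (iv D8523) F38517
theorem F40182 : act 8 n10273 = n10273 := d35_2 D8464 D10273 (iv D10273) (iv D8464) F23858
def n10274 : Q := act 2 n8466
theorem D10274 : act 2 n8466 = n10274 := rfl
theorem F40183 : act 0 n10274 = n8588 := d1_1 D10274 (iv D8588) (iv F32288)
theorem F40184 : act 1 n10274 = n10274 := d8_1 D10274 (iv D10274) F32289 F23879 (iv F32289)
theorem F40185 : act 4 n10274 = n9130 := d16_2 (iv F32290) D10274 (iv D9130)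
def n10275 : Q := act 6 n8466
theorem D10275 : act 6 n8466 = n10275 := rfl
theorem F40186 : act 0 n10275 = n8589 := d5_1 D10275 (iv D8589) (iv F32288)
theorem F40187 : act 1 n10275 = n8475 := d12_1 D10275 (iv D8475) (iv F32289)
theorem F40188 : act 3 n10275 = n8467 := d23_1 D10275 (iv D8467) D8466
theorem F40189 : act 4 n10275 = n9131 := d27_1 D10275 (iv D9131) (iv F32290)
def n10276 : Q := act 7 n8466
theorem D10276 : act 7 n8466 = n10276 := rfl
theorem F40190 : act 0 n10276 = n8590 := d6_1 D10276 (iv D8590) (iv F32288)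
theorem F40191 : act 1 n10276 = n8476 := d13_1 D10276 (iv D8476) (iv F32289)
theorem F40192 : act 4 n10276 = n9132 := d28_1 D10276 (iv D9132) (iv F32290)
def n10277 : Q := act 5 n8467
theorem D10277 : act 5 n8467 = n10277 := rfl
theorem F40193 : act 0 n10277 = n8591 := d4_1 D10277 (iv D8591) (iv F32291)
theorem F40194 : act 1 n10277 = n8477 := d11_1 D10277 (iv D8477) (iv F32292)
theorem F40195 : act 2 n10277 = n10167 := d17_1 D10277 F39752 (iv F38620)
theorem F40196 : act 4 n10277 = n10277 := d26_1 D10277 (iv D10277) F32293 F23867 (iv F32293)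
def n10278 : Q := act 7 n8467
theorem D10278 : act 7 n8467 = n10278 := rfl
theorem F40197 : act 0 n10278 = n8592 := d6_1 D10278 (iv D8592) (iv F32291)
theorem F40198 : act 1 n10278 = n8478 := d13_1 D10278 (iv D8478) (iv F32292)
theorem F40199 : act 4 n10278 = n8469 := d28_1 D10278 (iv D8469) (iv F32293)
theorem F40200 : act 6 n10278 = n8468 := d33_1 D10278 (iv D8468) D8467
def n10279 : Q := act 3 n8468
theorem D10279 : act 3 n8468 = n10279 := rfl
theorem F40201 : act 0 n10279 = n8593 := d2_1 D10279 (iv D8593) (iv F32294)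
theorem F40202 : act 1 n10279 = n8479 := d9_1 D10279 (iv D8479) (iv F32295)
def n10280 : Q := act 8 n8468
theorem D10280 : act 8 n8468 = n10280 := rfl
theorem F40203 : act 0 n10280 = n8594 := d7_1 D10280 (iv D8594) (iv F32294)
theorem F40204 : act 1 n10280 = n8480 := d14_1 D10280 (iv D8480) (iv F32295)
theorem F40205 : act 4 n10280 = n8471 := d29_1 D10280 (iv D8471) (iv F32296)
def n10281 : Q := act 3 n8469
theorem D10281 : act 3 n8469 = n10281 := rfl
theorem F40206 : act 0 n10281 = n8595 := d2_1 D10281 (iv D8595) (iv F32297)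
theorem F40207 : act 1 n10281 = n8481 := d9_1 D10281 (iv D8481) (iv F32298)
theorem F40208 : act 5 n10281 = n10281 := d22_2 F32299 D10281 (iv D10281)
theorem F40209 : act 6 n10281 = n8470 := d23_2 (iv F32300) D10281 (iv D8470)
theorem F40210 : act 7 n10281 = n9137 := d24_2 D8469 D10281 (iv D9137) (iv D6661) (iv F23866)
def n10282 : Q := act 8 n8469
theorem D10282 : act 8 n8469 = n10282 := rfl
theorem F40211 : act 0 n10282 = n8596 := d7_1 D10282 (iv D8596) (iv F32297)
theorem F40212 : act 1 n10282 = n8482 := d14_1 D10282 (iv D8482) (iv F32298)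
theorem F40213 : act 5 n10282 = n10282 := d32_1 D10282 (iv D10282) F32299
theorem F40214 : act 6 n10282 = n8471 := d34_1 D10282 (iv D8471) (iv F32300)
def n10283 : Q := act 2 n8470
theorem D10283 : act 2 n8470 = n10283 := rfl
theorem F40215 : act 0 n10283 = n8597 := d1_1 D10283 (iv D8597) (iv F32301)
theorem F40216 : act 1 n10283 = n10283 := d8_1 D10283 (iv D10283) F32302 F23892 (iv F32302)
theorem F40217 : act 5 n10283 = n8472 := d17_2 (iv F32303) D10283 (iv D8472)
theorem F40218 : act 7 n10283 = n9139 := d19_2 (iv F32304) D10283 (iv D9139)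
def n10284 : Q := act 4 n8470
theorem D10284 : act 4 n8470 = n10284 := rfl
theorem F40219 : act 0 n10284 = n8598 := d3_1 D10284 (iv D8598) (iv F32301)
theorem F40220 : act 1 n10284 = n8483 := d10_1 D10284 (iv D8483) (iv F32302)
theorem F40221 : act 7 n10284 = n9140 := d28_2 (iv F32304) D10284 (iv D9140)
def n10285 : Q := act 8 n8470
theorem D10285 : act 8 n8470 = n10285 := rfl
theorem F40222 : act 0 n10285 = n8599 := d7_1 D10285 (iv D8599) (iv F32301)
theorem F40223 : act 1 n10285 = n8484 := d14_1 D10285 (iv D8484) (iv F32302)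
theorem F40224 : act 3 n10285 = n8471 := d25_1 D10285 (iv D8471) D8470
theorem F40225 : act 5 n10285 = n8474 := d32_1 D10285 (iv D8474) (iv F32303)
def n10286 : Q := act 4 n8472
theorem D10286 : act 4 n8472 = n10286 := rfl
theorem F40226 : act 0 n10286 = n8600 := d3_1 D10286 (iv D8600) (iv F32308)
theorem F40227 : act 1 n10286 = n10286 := d10_1 D10286 (iv D10286) F32309
theorem F40228 : act 2 n10286 = n8473 := d16_1 D10286 (iv D8473) D8472
theorem F40229 : act 6 n10286 = n10286 := d27_2 F32310 D10286 (iv D10286)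
theorem F40230 : act 7 n10286 = n9142 := d28_2 (iv F32311) D10286 (iv D9142)
def n10287 : Q := act 8 n8472
theorem D10287 : act 8 n8472 = n10287 := rfl
theorem F40231 : act 0 n10287 = n8601 := d7_1 D10287 (iv D8601) (iv F32308)
theorem F40232 : act 1 n10287 = n10287 := d14_1 D10287 (iv D10287) F32309
theorem F40233 : act 2 n10287 = n8474 := d20_1 D10287 (iv D8474) D8472
theorem F40234 : act 6 n10287 = n10287 := d34_1 D10287 (iv D10287) F32310
def n10288 : Q := act 5 n8473
theorem D10288 : act 5 n8473 = n10288 := rfl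
theorem F40235 : act 0 n10288 = n8602 := d4_1 D10288 (iv D8602) (iv F32312)
theorem F40236 : act 1 n10288 = n8485 := d11_1 D10288 (iv D8485) (iv F32313)
theorem F40237 : act 7 n10288 = n9144 := d31_2 (iv F32315) D10288 (iv D9144)
def n10289 : Q := act 8 n8473
theorem D10289 : act 8 n8473 = n10289 := rfl
theorem F40238 : act 0 n10289 = n8603 := d7_1 D10289 (iv D8603) (iv F32312)
theorem F40239 : act 1 n10289 = n8486 := d14_1 D10289 (iv D8486) (iv F32313)
theorem F40240 : act 4 n10289 = n8474 := d29_1 D10289 (iv D8474) D8473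
theorem F40241 : act 6 n10289 = n10289 := d34_1 D10289 (iv D10289) F32314
def n10290 : Q := act 7 n8474
theorem D10290 : act 7 n8474 = n10290 := rfl
theorem F40242 : act 0 n10290 = n8604 := d6_1 D10290 (iv D8604) (iv F32316)
theorem F40243 : act 1 n10290 = n8487 := d13_1 D10290 (iv D8487) (iv F32317)
theorem F40244 : act 6 n10290 = n10290 := d33_1 D10290 (iv D10290) F32319
theorem F40245 : act 8 n10290 = n9146 := d35_2 D8474 D10290 (iv D9146) (iv D6666) (iv F23874)
def n10291 : Q := act 5 n8475
theorem D10291 : act 5 n8475 = n10291 := rfl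
theorem F40246 : act 0 n10291 = n8493 := d4_1 D10291 (iv D8493) (iv F32320)
theorem F40247 : act 2 n10291 = n10291 := d17_1 D10291 (iv D10291) F32321
theorem F40248 : act 3 n10291 = n8477 := d22_1 D10291 (iv D8477) (iv F32322)
def n10292 : Q := act 7 n8475
theorem D10292 : act 7 n8475 = n10292 := rfl
theorem F40249 : act 0 n10292 = n8494 := d6_1 D10292 (iv D8494) (iv F32320)
theorem F40250 : act 2 n10292 = n10292 := d19_1 D10292 (iv D10292) F32321
theorem F40251 : act 4 n10292 = n9148 := d28_1 D10292 (iv D9148) (iv F32323)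
theorem F40252 : act 6 n10292 = n8476 := d33_1 D10292 (iv D8476) D8475
def n10293 : Q := act 3 n8476
theorem D10293 : act 3 n8476 = n10293 := rfl
theorem F40253 : act 0 n10293 = n8495 := d2_1 D10293 (iv D8495) (iv F32324)
theorem F40254 : act 7 n10293 = n8479 := d24_2 D8476 D10293 (iv D8479) (iv D6185) D6183
def n10294 : Q := act 8 n8476
theorem D10294 : act 8 n8476 = n10294 := rfl
theorem F40255 : act 0 n10294 = n8496 := d7_1 D10294 (iv D8496) (iv F32324)
theorem F40256 : act 2 n10294 = n10294 := d20_1 D10294 (iv D10294) F32325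
theorem F40257 : act 4 n10294 = n9150 := d29_1 D10294 (iv D9150) (iv F32326)
def n10295 : Q := act 7 n8477
theorem D10295 : act 7 n8477 = n10295 := rfl
theorem F40258 : act 0 n10295 = n8497 := d6_1 D10295 (iv D8497) (iv F32327)
theorem F40259 : act 2 n10295 = n8488 := d19_1 D10295 (iv D8488) (iv F32328)
theorem F40260 : act 4 n10295 = n10295 := d28_1 D10295 (iv D10295) F32329
theorem F40261 : act 5 n10295 = n8478 := d31_1 D10295 (iv D8478) D8477
def n10296 : Q := act 3 n8478
theorem D10296 : act 3 n8478 = n10296 := rfl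
theorem F40262 : act 0 n10296 = n8498 := d2_1 D10296 (iv D8498) (iv F32330)
theorem F40263 : act 6 n10296 = n8479 := d23_2 (iv F32333) D10296 (iv D8479)
def n10297 : Q := act 8 n8478
theorem D10297 : act 8 n8478 = n10297 := rfl
theorem F40264 : act 0 n10297 = n8499 := d7_1 D10297 (iv D8499) (iv F32330)
theorem F40265 : act 2 n10297 = n8490 := d20_1 D10297 (iv D8490) (iv F32331)
theorem F40266 : act 4 n10297 = n8482 := d29_1 D10297 (iv D8482) (iv F32332)
theorem F40267 : act 6 n10297 = n8480 := d34_1 D10297 (iv D8480) (iv F32333)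
def n10298 : Q := act 2 n8479
theorem D10298 : act 2 n8479 = n10298 := rfl
theorem F40268 : act 0 n10298 = n8500 := d1_1 D10298 (iv D8500) (iv F32334)
theorem F40269 : act 3 n10298 = n8491 := d15_2 D8479 D10298 (iv D8491) (iv D6193) (iv F23885)
def n10299 : Q := act 4 n8479
theorem D10299 : act 4 n8479 = n10299 := rfl
theorem F40270 : act 0 n10299 = n8501 := d3_1 D10299 (iv D8501) (iv F32334)
theorem F40271 : act 3 n10299 = n8483 := d21_1 D10299 (iv D8483) (iv D6187) (iv F23886) D8479
def n10300 : Q := act 8 n8479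
theorem D10300 : act 8 n8479 = n10300 := rfl
theorem F40272 : act 0 n10300 = n8502 := d7_1 D10300 (iv D8502) (iv F32334)
theorem F40273 : act 3 n10300 = n8480 := d25_1 D10300 (iv D8480) D8479
def n10301 : Q := act 4 n8481
theorem D10301 : act 4 n8481 = n10301 := rfl
theorem F40274 : act 0 n10301 = n8503 := d3_1 D10301 (iv D8503) (iv F32338)
theorem F40275 : act 2 n10301 = n10301 := d16_1 D10301 (iv D10301) F32339
theorem F40276 : act 6 n10301 = n8483 := d27_2 (iv F32341) D10301 (iv D8483)
theorem F40277 : act 7 n10301 = n9157 := d28_2 (iv F32342) D10301 (iv D9157)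
def n10302 : Q := act 8 n8481
theorem D10302 : act 8 n8481 = n10302 := rfl
theorem F40278 : act 0 n10302 = n8504 := d7_1 D10302 (iv D8504) (iv F32338)
theorem F40279 : act 2 n10302 = n10302 := d20_1 D10302 (iv D10302) F32339
theorem F40280 : act 3 n10302 = n8482 := d25_1 D10302 (iv D8482) D8481
theorem F40281 : act 5 n10302 = n10302 := d32_1 D10302 (iv D10302) F32340
theorem F40282 : act 6 n10302 = n8484 := d34_1 D10302 (iv D8484) (iv F32341)
def n10303 : Q := act 5 n8483
theorem D10303 : act 5 n8483 = n10303 := rfl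
theorem F40283 : act 0 n10303 = n8505 := d4_1 D10303 (iv D8505) (iv F32347)
theorem F40284 : act 2 n10303 = n10303 := d17_1 D10303 (iv D10303) F32348
theorem F40285 : act 4 n10303 = n8485 := d26_1 D10303 (iv D8485) (iv D6189) (iv F23893) D8483
theorem F40286 : act 7 n10303 = n9159 := d31_2 (iv F32349) D10303 (iv D9159)
def n10304 : Q := act 8 n8483
theorem D10304 : act 8 n8483 = n10304 := rfl
theorem F40287 : act 0 n10304 = n8506 := d7_1 D10304 (iv D8506) (iv F32347)
theorem F40288 : act 2 n10304 = n10304 := d20_1 D10304 (iv D10304) F32348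
theorem F40289 : act 4 n10304 = n8484 := d29_1 D10304 (iv D8484) D8483
def n10305 : Q := act 7 n8484
theorem D10305 : act 7 n8484 = n10305 := rfl
theorem F40290 : act 0 n10305 = n8507 := d6_1 D10305 (iv D8507) (iv F32350)
theorem F40291 : act 2 n10305 = n10305 := d19_1 D10305 (iv D10305) F32351
theorem F40292 : act 5 n10305 = n8487 := d31_1 D10305 (iv D8487) (iv F32353)
theorem F40293 : act 8 n10305 = n9161 := d35_2 D8484 D10305 (iv D9161) (iv D6676) (iv F23894)
def n10306 : Q := act 6 n8485
theorem D10306 : act 6 n8485 = n10306 := rfl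
theorem F40294 : act 0 n10306 = n8508 := d5_1 D10306 (iv D8508) (iv F32354)
theorem F40295 : act 2 n10306 = n10306 := d18_1 D10306 (iv D10306) F32355
theorem F40296 : act 5 n10306 = n10306 := d30_1 D10306 (iv D10306) (iv D8485) F23900 D8485
theorem F40297 : act 7 n10306 = n9162 := d33_2 (iv F32356) D10306 (iv D9162)
def n10307 : Q := act 8 n8485
theorem D10307 : act 8 n8485 = n10307 := rfl
theorem F40298 : act 0 n10307 = n8509 := d7_1 D10307 (iv D8509) (iv F32354)
theorem F40299 : act 2 n10307 = n10307 := d20_1 D10307 (iv D10307) F32355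
theorem F40300 : act 5 n10307 = n8486 := d32_1 D10307 (iv D8486) D8485
def n10308 : Q := act 7 n8486
theorem D10308 : act 7 n8486 = n10308 := rfl
theorem F40301 : act 0 n10308 = n8510 := d6_1 D10308 (iv D8510) (iv F32357)
theorem F40302 : act 2 n10308 = n10308 := d19_1 D10308 (iv D10308) F32358
theorem F40303 : act 4 n10308 = n8487 := d28_1 D10308 (iv D8487) (iv F32359)
theorem F40304 : act 6 n10308 = n10308 := d33_1 D10308 (iv D10308) F32360
theorem F40305 : act 8 n10308 = n9164 := d35_2 D8486 D10308 (iv D9164) (iv D6678) (iv F23901)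
def n10309 : Q := act 8 n8488
theorem D10309 : act 8 n8488 = n10309 := rfl
theorem F40306 : act 0 n10309 = n8512 := d7_1 D10309 (iv D8512) (iv F32365)
theorem F40307 : act 1 n10309 = n10140 := d14_1 D10309 (iv D10140) (iv F38468)
theorem F40308 : act 4 n10309 = n10309 := d29_1 D10309 (iv D10309) F32366
theorem F40309 : act 5 n10309 = n8490 := d32_1 D10309 (iv D8490) (iv F32367)
def n10310 : Q := act 2 n8489
theorem D10310 : act 2 n8489 = n10310 := rfl
theorem F40310 : act 0 n10310 = n8513 := d1_1 D10310 (iv D8513) (iv F32368)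
theorem F40311 : act 4 n10310 = n10310 := d16_2 F32369 D10310 (iv D10310)
theorem F40312 : act 6 n10310 = n8491 := d18_2 (iv F32370) D10310 (iv D8491)
theorem F40313 : act 7 n10310 = n10310 := d19_2 F32371 D10310 (iv D10310)
def n10311 : Q := act 8 n8489
theorem D10311 : act 8 n8489 = n10311 := rfl
theorem F40314 : act 0 n10311 = n8514 := d7_1 D10311 (iv D8514) (iv F32368)
theorem F40315 : act 3 n10311 = n8490 := d25_1 D10311 (iv D8490) D8489
theorem F40316 : act 4 n10311 = n10311 := d29_1 D10311 (iv D10311) F32369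
theorem F40317 : act 6 n10311 = n8492 := d34_1 D10311 (iv D8492) (iv F32370)
def n10312 : Q := act 1 n8491
theorem D10312 : act 1 n8491 = n10312 := rfl
theorem F40318 : act 4 n10312 = n10312 := d10_2 F32376 D10312 (iv D10312)
theorem F40319 : act 7 n10312 = n10312 := d13_2 F32377 D10312 (iv D10312)
def n10313 : Q := act 8 n8491
theorem D10313 : act 8 n8491 = n10313 := rfl
theorem F40320 : act 0 n10313 = n8516 := d7_1 D10313 (iv D8516) (iv F32375)
theorem F40321 : act 2 n10313 = n8492 := d20_1 D10313 (iv D8492) D8491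
theorem F40322 : act 4 n10313 = n10313 := d29_1 D10313 (iv D10313) F32376
def n10314 : Q := act 7 n8492
theorem D10314 : act 7 n8492 = n10314 := rfl
theorem F40323 : act 0 n10314 = n8517 := d6_1 D10314 (iv D8517) (iv F32378)
theorem F40324 : act 4 n10314 = n10314 := d28_1 D10314 (iv D10314) F32380
theorem F40325 : act 8 n10314 = n10314 := d35_2 D8492 D10314 (iv D10314) (iv D8492) F23914
def n10315 : Q := act 4 n8493
theorem D10315 : act 4 n8493 = n10315 := rfl
theorem F40329 : act 5 n10315 = n9172 := d26_2 D8493 D10315 (iv D9172) (iv D6685) (iv F23924)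
def n10316 : Q := act 7 n8493
theorem D10316 : act 7 n8493 = n10316 := rfl
theorem F40330 : act 1 n10316 = n8631 := d13_1 D10316 (iv D8631) (iv F32381)
theorem F40331 : act 2 n10316 = n10316 := d19_1 D10316 (iv D10316) F32382
theorem F40332 : act 5 n10316 = n8494 := d31_1 D10316 (iv D8494) D8493
def n10317 : Q := act 3 n8494
theorem D10317 : act 3 n8494 = n10317 := rfl
theorem F40333 : act 1 n10317 = n8632 := d9_1 D10317 (iv D8632) (iv F32384)
theorem F40334 : act 6 n10317 = n8495 := d23_2 (iv F32387) D10317 (iv D8495)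
theorem F40335 : act 7 n10317 = n8498 := d24_2 D8494 D10317 (iv D8498) (iv D6199) (iv F23923)
def n10318 : Q := act 8 n8494
theorem D10318 : act 8 n8494 = n10318 := rfl
theorem F40336 : act 1 n10318 = n8633 := d14_1 D10318 (iv D8633) (iv F32384)
theorem F40337 : act 2 n10318 = n10318 := d20_1 D10318 (iv D10318) F32385
theorem F40339 : act 6 n10318 = n8496 := d34_1 D10318 (iv D8496) (iv F32387)
def n10319 : Q := act 2 n8495
theorem D10319 : act 2 n8495 = n10319 := rfl
theorem F40340 : act 3 n10319 = n10319 := d15_2 D8495 D10319 (iv D10319) (iv D8495) F23926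
theorem F40341 : act 7 n10319 = n8500 := d19_2 (iv F32389) D10319 (iv D8500)
def n10320 : Q := act 4 n8495
theorem D10320 : act 4 n8495 = n10320 := rfl
theorem F40342 : act 1 n10320 = n8635 := d10_1 D10320 (iv D8635) (iv F32388)
theorem F40343 : act 3 n10320 = n9177 := d21_1 D10320 (iv D9177) (iv D6687) (iv F23927) D8495
theorem F40344 : act 7 n10320 = n8501 := d28_2 (iv F32389) D10320 (iv D8501)
def n10321 : Q := act 8 n8495
theorem D10321 : act 8 n8495 = n10321 := rfl
theorem F40345 : act 1 n10321 = n8636 := d14_1 D10321 (iv D8636) (iv F32388)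
theorem F40346 : act 3 n10321 = n8496 := d25_1 D10321 (iv D8496) D8495
def n10322 : Q := act 3 n8497
theorem D10322 : act 3 n8497 = n10322 := rfl
theorem F40347 : act 1 n10322 = n8561 := d9_1 D10322 F32625 (iv F38328)
theorem F40348 : act 5 n10322 = n8498 := d22_2 (iv F32396) D10322 (iv D8498)
def n10323 : Q := act 8 n8497
theorem D10323 : act 8 n8497 = n10323 := rfl
theorem F40349 : act 1 n10323 = n8577 := d14_1 D10323 (iv D8577) (iv F38328)
theorem F40350 : act 2 n10323 = n8512 := d20_1 D10323 (iv D8512) (iv F32394)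
theorem F40351 : act 4 n10323 = n10323 := d29_1 D10323 (iv D10323) F32395
theorem F40352 : act 5 n10323 = n8499 := d32_1 D10323 (iv D8499) (iv F32396)
def n10324 : Q := act 2 n8498
theorem D10324 : act 2 n8498 = n10324 := rfl
theorem F40353 : act 1 n10324 = n9894 := d8_1 D10324 (iv D9894) F29653 F38463 (iv F32397)
theorem F40354 : act 3 n10324 = n8513 := d15_2 D8498 D10324 (iv D8513) (iv D6210) (iv F23932)
theorem F40355 : act 6 n10324 = n8500 := d18_2 (iv F32398) D10324 (iv D8500)
def n10325 : Q := act 4 n8498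
theorem D10325 : act 4 n8498 = n10325 := rfl
theorem F40356 : act 1 n10325 = n8640 := d10_1 D10325 (iv D8640) (iv F32397)
theorem F40357 : act 3 n10325 = n8503 := d21_1 D10325 (iv D8503) (iv D6202) (iv F23933) D8498
theorem F40358 : act 6 n10325 = n8501 := d27_2 (iv F32398) D10325 (iv D8501)
def n10326 : Q := act 8 n8498
theorem D10326 : act 8 n8498 = n10326 := rfl
theorem F40359 : act 1 n10326 = n8641 := d14_1 D10326 (iv D8641) (iv F32397)
theorem F40360 : act 3 n10326 = n8499 := d25_1 D10326 (iv D8499) D8498
theorem F40361 : act 6 n10326 = n8502 := d34_1 D10326 (iv D8502) (iv F32398)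
def n10327 : Q := act 1 n8500
theorem D10327 : act 1 n8500 = n10327 := rfl
theorem F40362 : act 2 n10327 = n8642 := d8_2 D8500 D10327 (iv D8642) (iv D6298) (iv F23935)
theorem F40363 : act 3 n10327 = n8515 := d9_2 (iv F32403) D10327 (iv D8515)
theorem F40364 : act 6 n10327 = n9894 := d12_2 F40355 D10327 (iv F40353)
def n10328 : Q := act 4 n8500
theorem D10328 : act 4 n8500 = n10328 := rfl
theorem F40365 : act 2 n10328 = n8501 := d16_1 D10328 (iv D8501) D8500
theorem F40366 : act 3 n10328 = n10328 := d21_1 D10328 (iv D10328) F32403 F23976 (iv F32403)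
def n10329 : Q := act 8 n8500
theorem D10329 : act 8 n8500 = n10329 := rfl
theorem F40367 : act 2 n10329 = n8502 := d20_1 D10329 (iv D8502) D8500
theorem F40368 : act 3 n10329 = n8516 := d25_1 D10329 (iv D8516) (iv F32403)
def n10330 : Q := act 5 n8501
theorem D10330 : act 5 n8501 = n10330 := rfl
theorem F40369 : act 1 n10330 = n8645 := d11_1 D10330 (iv D8645) (iv F32404)
theorem F40370 : act 3 n10330 = n8505 := d22_1 D10330 (iv D8505) (iv F32405)
def n10331 : Q := act 8 n8501
theorem D10331 : act 8 n8501 = n10331 := rfl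
theorem F40371 : act 1 n10331 = n8646 := d14_1 D10331 (iv D8646) (iv F32404)
theorem F40372 : act 3 n10331 = n8506 := d25_1 D10331 (iv D8506) (iv F32405)
theorem F40373 : act 4 n10331 = n8502 := d29_1 D10331 (iv D8502) D8501
def n10332 : Q := act 7 n8502
theorem D10332 : act 7 n8502 = n10332 := rfl
theorem F40374 : act 1 n10332 = n8647 := d13_1 D10332 (iv D8647) (iv F32406)
def n10333 : Q := act 5 n8503
theorem D10333 : act 5 n8503 = n10333 := rfl
theorem F40375 : act 1 n10333 = n8648 := d11_1 D10333 (iv D8648) (iv F32408)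
theorem F40376 : act 2 n10333 = n10333 := d17_1 D10333 (iv D10333) F32409
theorem F40377 : act 4 n10333 = n10333 := d26_1 D10333 (iv D10333) (iv D8503) F23941 D8503
theorem F40378 : act 7 n10333 = n9189 := d31_2 (iv F32411) D10333 (iv D9189)
def n10334 : Q := act 8 n8503
theorem D10334 : act 8 n8503 = n10334 := rfl
theorem F40379 : act 1 n10334 = n8649 := d14_1 D10334 (iv D8649) (iv F32408)
theorem F40380 : act 2 n10334 = n10334 := d20_1 D10334 (iv D10334) F32409
theorem F40381 : act 4 n10334 = n8504 := d29_1 D10334 (iv D8504) D8503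
theorem F40382 : act 6 n10334 = n8506 := d34_1 D10334 (iv D8506) (iv F32410)
def n10335 : Q := act 7 n8504
theorem D10335 : act 7 n8504 = n10335 := rfl
def n10336 : Q := act 6 n8505
theorem D10336 : act 6 n8505 = n10336 := rfl
theorem F40388 : act 1 n10336 = n8651 := d12_1 D10336 (iv D8651) (iv F32417)
theorem F40389 : act 2 n10336 = n10336 := d18_1 D10336 (iv D10336) F32418
theorem F40390 : act 4 n10336 = n8508 := d27_1 D10336 (iv D8508) (iv F32419)
theorem F40391 : act 7 n10336 = n9192 := d33_2 (iv F32420) D10336 (iv D9192)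
def n10337 : Q := act 8 n8505
theorem D10337 : act 8 n8505 = n10337 := rfl
theorem F40392 : act 1 n10337 = n8652 := d14_1 D10337 (iv D8652) (iv F32417)
theorem F40393 : act 2 n10337 = n10337 := d20_1 D10337 (iv D10337) F32418
theorem F40394 : act 4 n10337 = n8509 := d29_1 D10337 (iv D8509) (iv F32419)
theorem F40395 : act 5 n10337 = n8506 := d32_1 D10337 (iv D8506) D8505
def n10338 : Q := act 7 n8506
theorem D10338 : act 7 n8506 = n10338 := rfl
theorem F40396 : act 1 n10338 = n8653 := d13_1 D10338 (iv D8653) (iv F32421)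
theorem F40397 : act 2 n10338 = n10338 := d19_1 D10338 (iv D10338) F32422
theorem F40398 : act 4 n10338 = n8507 := d28_1 D10338 (iv D8507) (iv F32423)
theorem F40399 : act 8 n10338 = n9194 := d35_2 D8506 D10338 (iv D9194) (iv D6698) (iv F23950)
def n10339 : Q := act 8 n8508
theorem D10339 : act 8 n8508 = n10339 := rfl
theorem F40400 : act 1 n10339 = n8654 := d14_1 D10339 (iv D8654) (iv F32428)
theorem F40401 : act 2 n10339 = n10339 := d20_1 D10339 (iv D10339) F32429
theorem F40402 : act 5 n10339 = n10339 := d32_1 D10339 (iv D10339) F32430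
theorem F40403 : act 6 n10339 = n8509 := d34_1 D10339 (iv D8509) D8508
def n10340 : Q := act 7 n8509
theorem D10340 : act 7 n8509 = n10340 := rfl
theorem F40404 : act 1 n10340 = n8655 := d13_1 D10340 (iv D8655) (iv F32432)
theorem F40405 : act 2 n10340 = n10340 := d19_1 D10340 (iv D10340) F32433
theorem F40406 : act 5 n10340 = n8510 := d31_1 D10340 (iv D8510) (iv F32434)
theorem F40407 : act 8 n10340 = n9196 := d35_2 D8509 D10340 (iv D9196) (iv D6701) (iv F23957)
def n10341 : Q := act 3 n8510
theorem D10341 : act 3 n8510 = n10341 := rfl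
theorem F40408 : act 1 n10341 = n8656 := d9_1 D10341 (iv D8656) (iv F32435)
theorem F40409 : act 6 n10341 = n10341 := d23_2 F32438 D10341 (iv D10341)
theorem F40410 : act 8 n10341 = n9197 := d25_2 (iv F32439) D10341 (iv D9197)
def n10342 : Q := act 8 n8513
theorem D10342 : act 8 n8513 = n10342 := rfl
theorem F40411 : act 1 n10342 = n9903 := d14_1 D10342 (iv D9903) F38611
theorem F40412 : act 2 n10342 = n8514 := d20_1 D10342 (iv D8514) D8513
theorem F40413 : act 4 n10342 = n10342 := d29_1 D10342 (iv D10342) F32446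
theorem F40414 : act 6 n10342 = n8516 := d34_1 D10342 (iv D8516) (iv F32447)
def n10343 : Q := act 7 n8514
theorem D10343 : act 7 n8514 = n10343 := rfl
theorem F40415 : act 1 n10343 = n8523 := d13_1 D10343 (iv D8523) (iv F32449)
theorem F40416 : act 4 n10343 = n10343 := d28_1 D10343 (iv D10343) F32451
theorem F40417 : act 6 n10343 = n8517 := d33_1 D10343 (iv D8517) (iv F32452)
theorem F40418 : act 8 n10343 = n10343 := d35_2 D8514 D10343 (iv D10343) (iv D8514) F23972
def n10344 : Q := act 0 n8515
theorem D10344 : act 0 n8515 = n10344 := rfl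
theorem F40419 : act 2 n10344 = n8524 := d1_2 (iv F32453) D10344 (iv D8524)
theorem F40420 : act 4 n10344 = n10344 := d3_2 F32454 D10344 (iv D10344)
theorem F40421 : act 6 n10344 = n9890 := d5_2 (iv F38610) D10344 F38740
theorem F40422 : act 7 n10344 = n10344 := d6_2 F32455 D10344 (iv D10344)
def n10345 : Q := act 8 n8515
theorem D10345 : act 8 n8515 = n10345 := rfl
theorem F40423 : act 1 n10345 = n8516 := d14_1 D10345 (iv D8516) D8515
theorem F40424 : act 2 n10345 = n8525 := d20_1 D10345 (iv D8525) (iv F32453)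
theorem F40425 : act 4 n10345 = n10345 := d29_1 D10345 (iv D10345) F32454
theorem F40426 : act 6 n10345 = n9903 := d34_1 D10345 (iv D9903) (iv F38610)
def n10346 : Q := act 7 n8516
theorem D10346 : act 7 n8516 = n10346 := rfl
theorem F40427 : act 2 n10346 = n8517 := d19_1 D10346 (iv D8517) (iv F32456)
theorem F40428 : act 4 n10346 = n10346 := d28_1 D10346 (iv D10346) F32457
theorem F40429 : act 8 n10346 = n10346 := d35_2 D8516 D10346 (iv D10346) (iv D8516) F23977
def n10347 : Q := act 8 n8524
theorem D10347 : act 8 n8524 = n10347 := rfl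
theorem F40430 : act 0 n10347 = n8525 := d7_1 D10347 (iv D8525) D8524
theorem F40431 : act 1 n10347 = n10311 := d14_1 D10347 (iv D10311) F38612
theorem F40432 : act 3 n10347 = n8674 := d25_1 D10347 (iv D8674) (iv F32480)
theorem F40433 : act 4 n10347 = n10347 := d29_1 D10347 (iv D10347) F32481
theorem F40434 : act 6 n10347 = n9891 := d34_1 D10347 (iv D9891) (iv F38609)
def n10348 : Q := act 7 n8525
theorem D10348 : act 7 n8525 = n10348 := rfl
theorem F40435 : act 1 n10348 = n8526 := d13_1 D10348 (iv D8526) (iv F32483)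
theorem F40436 : act 4 n10348 = n10348 := d28_1 D10348 (iv D10348) F32485
theorem F40437 : act 6 n10348 = n9904 := d33_1 D10348 (iv D9904) (iv F38605)
theorem F40438 : act 8 n10348 = n10348 := d35_2 D8525 D10348 (iv D10348) (iv D8525) F23995
def n10349 : Q := act 2 n8527
theorem D10349 : act 2 n8527 = n10349 := rfl
theorem F40439 : act 1 n10349 = n8677 := d8_1 D10349 (iv D8677) F24343 (iv F24022) (iv F32489)
theorem F40440 : act 3 n10349 = n10067 := d15_2 D8527 D10349 (iv D10067) (iv D8257) (iv F24002)
theorem F40441 : act 4 n10349 = n9206 := d16_2 (iv F32490) D10349 (iv D9206)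
theorem F40442 : act 5 n10349 = n9905 := d17_2 (iv F32491) D10349 (iv D9905)
theorem F40443 : act 8 n10349 = n8588 := d20_2 (iv F32492) D10349 (iv D8588)
def n10350 : Q := act 6 n8527
theorem D10350 : act 6 n8527 = n10350 := rfl
theorem F40444 : act 1 n10350 = n8536 := d12_1 D10350 (iv D8536) (iv F32489)
theorem F40445 : act 3 n10350 = n8528 := d23_1 D10350 (iv D8528) D8527
theorem F40446 : act 4 n10350 = n9207 := d27_1 D10350 (iv D9207) (iv F32490)
theorem F40447 : act 8 n10350 = n8589 := d34_2 (iv F32492) D10350 (iv D8589)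
def n10351 : Q := act 7 n8527
theorem D10351 : act 7 n8527 = n10351 := rfl
theorem F40448 : act 1 n10351 = n8537 := d13_1 D10351 (iv D8537) (iv F32489)
theorem F40449 : act 4 n10351 = n9208 := d28_1 D10351 (iv D9208) (iv F32490)
theorem F40450 : act 5 n10351 = n9906 := d31_1 D10351 (iv D9906) (iv F32491)
def n10352 : Q := act 7 n8528
theorem D10352 : act 7 n8528 = n10352 := rfl
theorem F40451 : act 1 n10352 = n8539 := d13_1 D10352 (iv D8539) (iv F32493)
theorem F40452 : act 2 n10352 = n10071 := d19_1 D10352 (iv D10071) (iv F32494)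
theorem F40453 : act 4 n10352 = n8530 := d28_1 D10352 (iv D8530) (iv F32495)
theorem F40454 : act 6 n10352 = n8529 := d33_1 D10352 (iv D8529) D8528
def n10353 : Q := act 3 n8529
theorem D10353 : act 3 n8529 = n10353 := rfl
theorem F40455 : act 1 n10353 = n8540 := d9_1 D10353 (iv D8540) (iv F32497)
theorem F40456 : act 5 n10353 = n9907 := d22_2 (iv F32500) D10353 (iv D9907)
def n10354 : Q := act 8 n8529
theorem D10354 : act 8 n8529 = n10354 := rfl
theorem F40457 : act 1 n10354 = n8541 := d14_1 D10354 (iv D8541) (iv F32497)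
theorem F40458 : act 2 n10354 = n10073 := d20_1 D10354 (iv D10073) (iv F32498)
theorem F40459 : act 4 n10354 = n8532 := d29_1 D10354 (iv D8532) (iv F32499)
theorem F40460 : act 5 n10354 = n9908 := d32_1 D10354 (iv D9908) (iv F32500)
theorem F40461 : act 7 n10354 = n8594 := d35_1 D10354 (iv D8594) (iv D6266) (iv F24004) D8529
def n10355 : Q := act 3 n8530
theorem D10355 : act 3 n8530 = n10355 := rfl
theorem F40462 : act 1 n10355 = n8542 := d9_1 D10355 (iv D8542) (iv F32501)
theorem F40463 : act 5 n10355 = n10355 := d22_2 F32503 D10355 (iv D10355)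
theorem F40464 : act 6 n10355 = n8531 := d23_2 (iv F32504) D10355 (iv D8531)
theorem F40465 : act 7 n10355 = n9213 := d24_2 D8530 D10355 (iv D9213) (iv D6715) (iv F24007)
def n10356 : Q := act 8 n8530
theorem D10356 : act 8 n8530 = n10356 := rfl
theorem F40466 : act 1 n10356 = n8543 := d14_1 D10356 (iv D8543) (iv F32501)
theorem F40467 : act 2 n10356 = n10075 := d20_1 D10356 (iv D10075) (iv F32502)
theorem F40468 : act 5 n10356 = n10356 := d32_1 D10356 (iv D10356) F32503
theorem F40469 : act 6 n10356 = n8532 := d34_1 D10356 (iv D8532) (iv F32504)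
theorem F40470 : act 7 n10356 = n8596 := d35_1 D10356 (iv D8596) (iv D6267) (iv F24009) D8530
def n10357 : Q := act 2 n8531
theorem D10357 : act 2 n8531 = n10357 := rfl
theorem F40471 : act 1 n10357 = n10357 := d8_1 D10357 (iv D10357) F32505 F24039 (iv F32505)
theorem F40472 : act 3 n10357 = n10076 := d15_2 D8531 D10357 (iv D10076) (iv D8261) (iv F24011)
theorem F40473 : act 5 n10357 = n8533 := d17_2 (iv F32506) D10357 (iv D8533)
theorem F40474 : act 7 n10357 = n9215 := d19_2 (iv F32507) D10357 (iv D9215)
def n10358 : Q := act 4 n8531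
theorem D10358 : act 4 n8531 = n10358 := rfl
theorem F40475 : act 1 n10358 = n8544 := d10_1 D10358 (iv D8544) (iv F32505)
theorem F40476 : act 7 n10358 = n9216 := d28_2 (iv F32507) D10358 (iv D9216)
def n10359 : Q := act 8 n8531
theorem D10359 : act 8 n8531 = n10359 := rfl
theorem F40477 : act 1 n10359 = n8545 := d14_1 D10359 (iv D8545) (iv F32505)
theorem F40478 : act 3 n10359 = n8532 := d25_1 D10359 (iv D8532) D8531
theorem F40479 : act 5 n10359 = n8535 := d32_1 D10359 (iv D8535) (iv F32506)
def n10360 : Q := act 4 n8533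
theorem D10360 : act 4 n8533 = n10360 := rfl
theorem F40480 : act 1 n10360 = n10360 := d10_1 D10360 (iv D10360) F32512
theorem F40481 : act 2 n10360 = n8534 := d16_1 D10360 (iv D8534) D8533
theorem F40482 : act 6 n10360 = n10360 := d27_2 F32514 D10360 (iv D10360)
theorem F40483 : act 7 n10360 = n9218 := d28_2 (iv F32515) D10360 (iv D9218)
def n10361 : Q := act 8 n8533
theorem D10361 : act 8 n8533 = n10361 := rfl
theorem F40484 : act 1 n10361 = n10361 := d14_1 D10361 (iv D10361) F32512
theorem F40485 : act 2 n10361 = n8535 := d20_1 D10361 (iv D8535) D8533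
theorem F40486 : act 3 n10361 = n10080 := d25_1 D10361 (iv D10080) (iv F32513)
theorem F40487 : act 6 n10361 = n10361 := d34_1 D10361 (iv D10361) F32514
def n10362 : Q := act 5 n8534
theorem D10362 : act 5 n8534 = n10362 := rfl
theorem F40488 : act 1 n10362 = n8546 := d11_1 D10362 (iv D8546) (iv F32516)
theorem F40489 : act 3 n10362 = n9914 := d22_1 D10362 (iv D9914) (iv F32517)
theorem F40490 : act 7 n10362 = n9220 := d31_2 (iv F32519) D10362 (iv D9220)
def n10363 : Q := act 8 n8534
theorem D10363 : act 8 n8534 = n10363 := rfl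
theorem F40491 : act 1 n10363 = n8547 := d14_1 D10363 (iv D8547) (iv F32516)
theorem F40492 : act 3 n10363 = n9915 := d25_1 D10363 (iv D9915) (iv F32517)
theorem F40493 : act 4 n10363 = n8535 := d29_1 D10363 (iv D8535) D8534
theorem F40494 : act 6 n10363 = n10363 := d34_1 D10363 (iv D10363) F32518
def n10364 : Q := act 7 n8535
theorem D10364 : act 7 n8535 = n10364 := rfl
theorem F40495 : act 1 n10364 = n8548 := d13_1 D10364 (iv D8548) (iv F32520)
theorem F40496 : act 3 n10364 = n8604 := d24_1 D10364 (iv D8604) F24193 (iv F24020) (iv F32521)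
theorem F40497 : act 6 n10364 = n10364 := d33_1 D10364 (iv D10364) F32522
theorem F40498 : act 8 n10364 = n9222 := d35_2 D8535 D10364 (iv D9222) (iv D6720) (iv F24015)
def n10365 : Q := act 7 n8536
theorem D10365 : act 7 n8536 = n10365 := rfl
theorem F40500 : act 2 n10365 = n8694 := d19_1 D10365 (iv D8694) (iv F32524)
theorem F40501 : act 4 n10365 = n9224 := d28_1 D10365 (iv D9224) (iv F32526)
theorem F40502 : act 6 n10365 = n8537 := d33_1 D10365 (iv D8537) D8536
def n10366 : Q := act 3 n8537
theorem D10366 : act 3 n8537 = n10366 := rfl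
theorem F40503 : act 0 n10366 = n8556 := d2_1 D10366 (iv D8556) (iv F32528)
theorem F40504 : act 5 n10366 = n9917 := d22_2 (iv F32531) D10366 (iv D9917)
theorem F40505 : act 7 n10366 = n8540 := d24_2 D8537 D10366 (iv D8540) (iv D6228) D6226
def n10367 : Q := act 8 n8537
theorem D10367 : act 8 n8537 = n10367 := rfl
theorem F40506 : act 0 n10367 = n8557 := d7_1 D10367 (iv D8557) (iv F32528)
theorem F40507 : act 2 n10367 = n8696 := d20_1 D10367 (iv D8696) (iv F32529)
theorem F40508 : act 4 n10367 = n9226 := d29_1 D10367 (iv D9226) (iv F32530)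
theorem F40509 : act 5 n10367 = n9918 := d32_1 D10367 (iv D9918) (iv F32531)
theorem F40510 : act 7 n10367 = n8608 := d35_1 D10367 (iv D8608) (iv D6274) (iv F24025) D8537
def n10368 : Q := act 3 n8539
theorem D10368 : act 3 n8539 = n10368 := rfl
theorem F40511 : act 0 n10368 = n8559 := d2_1 D10368 (iv D8559) (iv F32537)
theorem F40512 : act 6 n10368 = n8540 := d23_2 (iv F32540) D10368 (iv D8540)
def n10369 : Q := act 8 n8539
theorem D10369 : act 8 n8539 = n10369 := rfl
theorem F40513 : act 0 n10369 = n8560 := d7_1 D10369 (iv D8560) (iv F32537)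
theorem F40514 : act 2 n10369 = n8551 := d20_1 D10369 (iv D8551) (iv F32538)
theorem F40515 : act 4 n10369 = n8543 := d29_1 D10369 (iv D8543) (iv F32539)
theorem F40516 : act 6 n10369 = n8541 := d34_1 D10369 (iv D8541) (iv F32540)
theorem F40517 : act 7 n10369 = n8611 := d35_1 D10369 (iv D8611) (iv D6276) (iv F24029) D8539
def n10370 : Q := act 2 n8540
theorem D10370 : act 2 n8540 = n10370 := rfl
theorem F40518 : act 0 n10370 = n8561 := d1_1 D10370 (iv D8561) (iv F32541)
theorem F40519 : act 3 n10370 = n8552 := d15_2 D8540 D10370 (iv D8552) (iv D6236) (iv F24031)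
theorem F40520 : act 5 n10370 = n8610 := d17_2 (iv F32542) D10370 (iv F38627)
def n10371 : Q := act 4 n8540
theorem D10371 : act 4 n8540 = n10371 := rfl
theorem F40521 : act 0 n10371 = n8562 := d3_1 D10371 (iv D8562) (iv F32541)
theorem F40522 : act 3 n10371 = n8544 := d21_1 D10371 (iv D8544) (iv D6230) (iv F24032) D8540
def n10372 : Q := act 8 n8540
theorem D10372 : act 8 n8540 = n10372 := rfl
theorem F40523 : act 0 n10372 = n8563 := d7_1 D10372 (iv D8563) (iv F32541)
theorem F40524 : act 3 n10372 = n8541 := d25_1 D10372 (iv D8541) D8540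
theorem F40525 : act 5 n10372 = n9920 := d32_1 D10372 (iv D9920) (iv F32542)
def n10373 : Q := act 4 n8542
theorem D10373 : act 4 n8542 = n10373 := rfl
theorem F40528 : act 6 n10373 = n8544 := d27_2 (iv F32551) D10373 (iv D8544)
theorem F40529 : act 7 n10373 = n9233 := d28_2 (iv F32552) D10373 (iv D9233)
def n10374 : Q := act 8 n8542
theorem D10374 : act 8 n8542 = n10374 := rfl
theorem F40530 : act 0 n10374 = n8565 := d7_1 D10374 (iv D8565) (iv F32548)
theorem F40531 : act 2 n10374 = n10374 := d20_1 D10374 (iv D10374) F32549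
theorem F40532 : act 3 n10374 = n8543 := d25_1 D10374 (iv D8543) D8542
theorem F40533 : act 5 n10374 = n10374 := d32_1 D10374 (iv D10374) F32550
theorem F40534 : act 6 n10374 = n8545 := d34_1 D10374 (iv D8545) (iv F32551)
def n10375 : Q := act 5 n8544
theorem D10375 : act 5 n8544 = n10375 := rfl
theorem F40535 : act 0 n10375 = n8566 := d4_1 D10375 (iv D8566) (iv F32558)
theorem F40536 : act 2 n10375 = n10375 := d17_1 D10375 (iv D10375) F32559
theorem F40537 : act 4 n10375 = n8546 := d26_1 D10375 (iv D8546) (iv D6232) (iv F24040) D8544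
theorem F40538 : act 7 n10375 = n9235 := d31_2 (iv F32560) D10375 (iv D9235)
def n10376 : Q := act 8 n8544
theorem D10376 : act 8 n8544 = n10376 := rfl
theorem F40539 : act 0 n10376 = n8567 := d7_1 D10376 (iv D8567) (iv F32558)
theorem F40540 : act 2 n10376 = n10376 := d20_1 D10376 (iv D10376) F32559
theorem F40541 : act 4 n10376 = n8545 := d29_1 D10376 (iv D8545) D8544
def n10377 : Q := act 7 n8545
theorem D10377 : act 7 n8545 = n10377 := rfl
theorem F40542 : act 0 n10377 = n8568 := d6_1 D10377 (iv D8568) (iv F32561)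
theorem F40543 : act 2 n10377 = n10377 := d19_1 D10377 (iv D10377) F32562
theorem F40544 : act 3 n10377 = n8619 := d24_1 D10377 (iv D8619) F24227 (iv F24045) (iv F32563)
theorem F40545 : act 5 n10377 = n8548 := d31_1 D10377 (iv D8548) (iv F32564)
theorem F40546 : act 8 n10377 = n9237 := d35_2 D8545 D10377 (iv D9237) (iv D6730) (iv F24041)
def n10378 : Q := act 6 n8546
theorem D10378 : act 6 n8546 = n10378 := rfl
theorem F40547 : act 0 n10378 = n8569 := d5_1 D10378 (iv D8569) (iv F32565)
theorem F40548 : act 2 n10378 = n10378 := d18_1 D10378 (iv D10378) F32566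
theorem F40549 : act 3 n10378 = n9924 := d23_1 D10378 (iv D9924) (iv F32567)
theorem F40550 : act 5 n10378 = n10378 := d30_1 D10378 (iv D10378) (iv D8546) F24049 D8546
theorem F40551 : act 7 n10378 = n9238 := d33_2 (iv F32568) D10378 (iv D9238)
def n10379 : Q := act 8 n8546
theorem D10379 : act 8 n8546 = n10379 := rfl
theorem F40552 : act 0 n10379 = n8570 := d7_1 D10379 (iv D8570) (iv F32565)
theorem F40553 : act 2 n10379 = n10379 := d20_1 D10379 (iv D10379) F32566
theorem F40554 : act 3 n10379 = n9925 := d25_1 D10379 (iv D9925) (iv F32567)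
theorem F40555 : act 5 n10379 = n8547 := d32_1 D10379 (iv D8547) D8546
def n10380 : Q := act 7 n8547
theorem D10380 : act 7 n8547 = n10380 := rfl
theorem F40556 : act 0 n10380 = n8571 := d6_1 D10380 (iv D8571) (iv F32569)
theorem F40557 : act 2 n10380 = n10380 := d19_1 D10380 (iv D10380) F32570
theorem F40558 : act 4 n10380 = n8548 := d28_1 D10380 (iv D8548) (iv F32572)
theorem F40559 : act 6 n10380 = n10380 := d33_1 D10380 (iv D10380) F32573
theorem F40560 : act 8 n10380 = n9240 := d35_2 D8547 D10380 (iv D9240) (iv D6732) (iv F24050)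
def n10381 : Q := act 1 n8552
theorem D10381 : act 1 n8552 = n10381 := rfl
theorem F40561 : act 2 n10381 = n10105 := d8_2 D8552 D10381 (iv D10105) (iv D8282) (iv F24066)
theorem F40562 : act 4 n10381 = n10381 := d10_2 F32595 D10381 (iv D10381)
theorem F40563 : act 5 n10381 = n8592 := d11_2 F38295 D10381 F32731
theorem F40564 : act 7 n10381 = n8591 := d13_2 (iv F38237) D10381 F32729
def n10382 : Q := act 8 n8552
theorem D10382 : act 8 n8552 = n10382 := rfl
theorem F40565 : act 0 n10382 = n8577 := d7_1 D10382 (iv D8577) (iv F32594)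
theorem F40566 : act 2 n10382 = n8553 := d20_1 D10382 (iv D8553) D8552
theorem F40567 : act 4 n10382 = n10382 := d29_1 D10382 (iv D10382) F32595
theorem F40568 : act 5 n10382 = n8611 := d32_1 D10382 (iv D8611) F38295
def n10383 : Q := act 3 n8555
theorem D10383 : act 3 n8555 = n10383 := rfl
theorem F40569 : act 6 n10383 = n8556 := d23_2 (iv F32609) D10383 (iv D8556)
theorem F40570 : act 7 n10383 = n8559 := d24_2 D8555 D10383 (iv D8559) (iv D6242) (iv F24082)
def n10384 : Q := act 8 n8555
theorem D10384 : act 8 n8555 = n10384 := rfl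
theorem F40571 : act 2 n10384 = n8719 := d20_1 D10384 (iv D8719) (iv F32607)
theorem F40572 : act 4 n10384 = n9250 := d29_1 D10384 (iv D9250) (iv F32608)
theorem F40573 : act 6 n10384 = n8557 := d34_1 D10384 (iv D8557) (iv F32609)
theorem F40574 : act 7 n10384 = n8633 := d35_1 D10384 (iv D8633) (iv D6292) (iv F24084) D8555
def n10385 : Q := act 2 n8556
theorem D10385 : act 2 n8556 = n10385 := rfl
theorem F40575 : act 3 n10385 = n8631 := d15_2 D8556 D10385 F38203 (iv D6353) (iv F24085)
theorem F40576 : act 5 n10385 = n8632 := d17_2 (iv F32610) D10385 (iv F38626)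
theorem F40577 : act 7 n10385 = n8561 := d19_2 (iv F32611) D10385 (iv D8561)
def n10386 : Q := act 4 n8556
theorem D10386 : act 4 n8556 = n10386 := rfl
theorem F40578 : act 3 n10386 = n9252 := d21_1 D10386 (iv D9252) (iv D6741) (iv F24086) D8556
theorem F40579 : act 7 n10386 = n8562 := d28_2 (iv F32611) D10386 (iv D8562)
def n10387 : Q := act 8 n8556
theorem D10387 : act 8 n8556 = n10387 := rfl
theorem F40580 : act 3 n10387 = n8557 := d25_1 D10387 (iv D8557) D8556
theorem F40581 : act 5 n10387 = n9928 := d32_1 D10387 (iv D9928) (iv F32610)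
def n10388 : Q := act 4 n8559
theorem D10388 : act 4 n8559 = n10388 := rfl
theorem F40582 : act 3 n10388 = n8564 := d21_1 D10388 (iv D8564) (iv D6245) (iv F24093) D8559
theorem F40583 : act 6 n10388 = n8562 := d27_2 (iv F32620) D10388 (iv D8562)
def n10389 : Q := act 8 n8559
theorem D10389 : act 8 n8559 = n10389 := rfl
theorem F40584 : act 3 n10389 = n8560 := d25_1 D10389 (iv D8560) D8559
theorem F40585 : act 6 n10389 = n8563 := d34_1 D10389 (iv D8563) (iv F32620)
def n10390 : Q := act 4 n8561
theorem D10390 : act 4 n8561 = n10390 := rfl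
theorem F40586 : act 2 n10390 = n8562 := d16_1 D10390 (iv D8562) D8561
theorem F40587 : act 3 n10390 = n10390 := d21_1 D10390 (iv D10390) F32625 F24136 (iv F32625)
def n10391 : Q := act 8 n8561
theorem D10391 : act 8 n8561 = n10391 := rfl
theorem F40588 : act 2 n10391 = n8563 := d20_1 D10391 (iv D8563) D8561
theorem F40589 : act 3 n10391 = n8577 := d25_1 D10391 (iv D8577) (iv F32625)
theorem F40590 : act 5 n10391 = n8641 := d32_1 D10391 (iv D8641) F38390
def n10392 : Q := act 5 n8562
theorem D10392 : act 5 n8562 = n10392 := rfl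
theorem F40591 : act 3 n10392 = n8566 := d22_1 D10392 (iv D8566) (iv F32627)
theorem F40592 : act 4 n10392 = n9929 := d26_1 D10392 (iv D9929) (iv D7801) (iv F24095) D8562
def n10393 : Q := act 8 n8562
theorem D10393 : act 8 n8562 = n10393 := rfl
theorem F40593 : act 3 n10393 = n8567 := d25_1 D10393 (iv D8567) (iv F32627)
theorem F40594 : act 4 n10393 = n8563 := d29_1 D10393 (iv D8563) D8562
def n10394 : Q := act 7 n8563
theorem D10394 : act 7 n8563 = n10394 := rfl
theorem F40595 : act 3 n10394 = n8647 := d24_1 D10394 (iv D8647) F24273 (iv F24099) (iv F32628)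
theorem F40596 : act 5 n10394 = n9931 := d31_1 D10394 (iv D9931) (iv F32629)
def n10396 : Q := act 8 n8564
theorem D10396 : act 8 n8564 = n10396 := rfl
theorem F40601 : act 4 n10396 = n8565 := d29_1 D10396 (iv D8565) D8564
theorem F40602 : act 6 n10396 = n8567 := d34_1 D10396 (iv D8567) (iv F32631)
def n10397 : Q := act 7 n8565
theorem D10397 : act 7 n8565 = n10397 := rfl
theorem F40604 : act 3 n10397 = n8650 := d24_1 D10397 (iv D8650) F24278 (iv F24107) (iv F32634)
theorem F40606 : act 6 n10397 = n8568 := d33_1 D10397 (iv D8568) (iv F32636)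
def n10398 : Q := act 6 n8566
theorem D10398 : act 6 n8566 = n10398 := rfl
theorem F40609 : act 4 n10398 = n8569 := d27_1 D10398 (iv D8569) (iv F32638)
theorem F40610 : act 7 n10398 = n9268 := d33_2 (iv F32639) D10398 (iv D9268)
def n10399 : Q := act 8 n8566
theorem D10399 : act 8 n8566 = n10399 := rfl
theorem F40611 : act 2 n10399 = n10399 := d20_1 D10399 (iv D10399) F32637
theorem F40612 : act 4 n10399 = n8570 := d29_1 D10399 (iv D8570) (iv F32638)
theorem F40613 : act 5 n10399 = n8567 := d32_1 D10399 (iv D8567) D8566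
def n10400 : Q := act 7 n8567
theorem D10400 : act 7 n8567 = n10400 := rfl
theorem F40615 : act 4 n10400 = n8568 := d28_1 D10400 (iv D8568) (iv F32641)
theorem F40616 : act 8 n10400 = n9270 := d35_2 D8567 D10400 (iv D9270) (iv D6752) (iv F24109)
def n10401 : Q := act 8 n8569
theorem D10401 : act 8 n8569 = n10401 := rfl
theorem F40617 : act 2 n10401 = n10401 := d20_1 D10401 (iv D10401) F32646
theorem F40618 : act 3 n10401 = n9935 := d25_1 D10401 (iv D9935) (iv F32647)
theorem F40619 : act 5 n10401 = n10401 := d32_1 D10401 (iv D10401) F32648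
theorem F40620 : act 6 n10401 = n8570 := d34_1 D10401 (iv D8570) D8569
def n10402 : Q := act 7 n8570
theorem D10402 : act 7 n8570 = n10402 := rfl
theorem F40621 : act 2 n10402 = n10402 := d19_1 D10402 (iv D10402) F32650
theorem F40622 : act 5 n10402 = n8571 := d31_1 D10402 (iv D8571) (iv F32652)
theorem F40623 : act 8 n10402 = n9272 := d35_2 D8570 D10402 (iv D9272) (iv D6755) (iv F24115)
def n10403 : Q := act 3 n8571
theorem D10403 : act 3 n8571 = n10403 := rfl
theorem F40624 : act 4 n10403 = n8656 := d21_2 (iv F32654) D10403 (iv D8656) F24295 (iv F24121)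
theorem F40625 : act 6 n10403 = n10403 := d23_2 F32655 D10403 (iv D10403)
theorem F40626 : act 7 n10403 = n9937 := d24_2 D8571 D10403 (iv D9937) (iv D7810) (iv F24117)
theorem F40627 : act 8 n10403 = n9273 := d25_2 (iv F32656) D10403 (iv D9273)
def n10404 : Q := act 6 n8588
theorem D10404 : act 6 n8588 = n10404 := rfl
theorem F40628 : act 1 n10404 = n8759 := d12_1 D10404 (iv D8759) (iv F32722)
theorem F40629 : act 2 n10404 = n8589 := d18_1 D10404 (iv D8589) D8588
theorem F40630 : act 4 n10404 = n9288 := d27_1 D10404 (iv D9288) (iv F32723)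
def n10405 : Q := act 7 n8588
theorem D10405 : act 7 n8588 = n10405 := rfl
theorem F40631 : act 1 n10405 = n8760 := d13_1 D10405 (iv D8760) (iv F32722)
theorem F40632 : act 2 n10405 = n8590 := d19_1 D10405 (iv D8590) D8588
theorem F40633 : act 4 n10405 = n9289 := d28_1 D10405 (iv D9289) (iv F32723)
def n10406 : Q := act 5 n8589
theorem D10406 : act 5 n8589 = n10406 := rfl
theorem F40634 : act 1 n10406 = n8605 := d11_1 D10406 (iv D8605) (iv F32724)
theorem F40635 : act 3 n10406 = n8591 := d22_1 D10406 (iv D8591) (iv F32725)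
def n10407 : Q := act 7 n8589
theorem D10407 : act 7 n8589 = n10407 := rfl
theorem F40636 : act 1 n10407 = n8606 := d13_1 D10407 (iv D8606) (iv F32724)
theorem F40637 : act 4 n10407 = n9291 := d28_1 D10407 (iv D9291) (iv F32726)
theorem F40638 : act 6 n10407 = n8590 := d33_1 D10407 (iv D8590) D8589
def n10408 : Q := act 3 n8590
theorem D10408 : act 3 n8590 = n10408 := rfl
theorem F40639 : act 1 n10408 = n8607 := d9_1 D10408 (iv D8607) (iv F32727)
theorem F40640 : act 7 n10408 = n8593 := d24_2 D8590 D10408 (iv D8593) (iv D6266) D6264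
def n10409 : Q := act 8 n8590
theorem D10409 : act 8 n8590 = n10409 := rfl
theorem F40641 : act 1 n10409 = n8608 := d14_1 D10409 (iv D8608) (iv F32727)
theorem F40642 : act 4 n10409 = n9293 := d29_1 D10409 (iv D9293) (iv F32728)
def n10410 : Q := act 3 n8592
theorem D10410 : act 3 n8592 = n10410 := rfl
theorem F40643 : act 1 n10410 = n8610 := d9_1 D10410 (iv D8610) (iv F32731)
theorem F40644 : act 6 n10410 = n8593 := d23_2 (iv F32733) D10410 (iv D8593)
def n10411 : Q := act 8 n8592
theorem D10411 : act 8 n8592 = n10411 := rfl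
theorem F40645 : act 1 n10411 = n8611 := d14_1 D10411 (iv D8611) (iv F32731)
theorem F40646 : act 4 n10411 = n8596 := d29_1 D10411 (iv D8596) (iv F32732)
theorem F40647 : act 6 n10411 = n8594 := d34_1 D10411 (iv D8594) (iv F32733)
def n10412 : Q := act 2 n8593
theorem D10412 : act 2 n8593 = n10412 := rfl
def n10413 : Q := act 4 n8593
theorem D10413 : act 4 n8593 = n10413 := rfl
theorem F40648 : act 1 n10413 = n8613 := d10_1 D10413 (iv D8613) (iv F32734)
theorem F40649 : act 3 n10413 = n8598 := d21_1 D10413 (iv D8598) (iv D6268) (iv F24177) D8593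
def n10414 : Q := act 8 n8593
theorem D10414 : act 8 n8593 = n10414 := rfl
theorem F40650 : act 1 n10414 = n8614 := d14_1 D10414 (iv D8614) (iv F32734)
theorem F40651 : act 3 n10414 = n8594 := d25_1 D10414 (iv D8594) D8593
def n10415 : Q := act 2 n8595
theorem D10415 : act 2 n8595 = n10415 := rfl
theorem F40652 : act 1 n10415 = n8839 := d8_1 D10415 (iv D8839) F24760 (iv F24214) (iv F32737)
theorem F40653 : act 5 n10415 = n10415 := d17_2 F32738 D10415 (iv D10415)
theorem F40654 : act 6 n10415 = n8597 := d18_2 (iv F32739) D10415 (iv D8597)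
theorem F40655 : act 7 n10415 = n9300 := d19_2 (iv F32740) D10415 (iv D9300)
def n10416 : Q := act 4 n8595
theorem D10416 : act 4 n8595 = n10416 := rfl
theorem F40656 : act 1 n10416 = n8615 := d10_1 D10416 (iv D8615) (iv F32737)
theorem F40657 : act 6 n10416 = n8598 := d27_2 (iv F32739) D10416 (iv D8598)
theorem F40658 : act 7 n10416 = n9301 := d28_2 (iv F32740) D10416 (iv D9301)
def n10417 : Q := act 8 n8595
theorem D10417 : act 8 n8595 = n10417 := rfl
theorem F40659 : act 1 n10417 = n8616 := d14_1 D10417 (iv D8616) (iv F32737)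
theorem F40660 : act 3 n10417 = n8596 := d25_1 D10417 (iv D8596) D8595
theorem F40661 : act 5 n10417 = n10417 := d32_1 D10417 (iv D10417) F32738
theorem F40662 : act 6 n10417 = n8599 := d34_1 D10417 (iv D8599) (iv F32739)
def n10418 : Q := act 4 n8597
theorem D10418 : act 4 n8597 = n10418 := rfl
theorem F40663 : act 1 n10418 = n8842 := d10_1 D10418 (iv D8842) (iv F32744)
theorem F40664 : act 2 n10418 = n8598 := d16_1 D10418 (iv D8598) D8597
theorem F40665 : act 7 n10418 = n9303 := d28_2 (iv F32746) D10418 (iv D9303)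
def n10419 : Q := act 8 n8597
theorem D10419 : act 8 n8597 = n10419 := rfl
theorem F40666 : act 1 n10419 = n8843 := d14_1 D10419 (iv D8843) (iv F32744)
theorem F40667 : act 2 n10419 = n8599 := d20_1 D10419 (iv D8599) D8597
theorem F40668 : act 5 n10419 = n8601 := d32_1 D10419 (iv D8601) (iv F32745)
def n10420 : Q := act 5 n8598
theorem D10420 : act 5 n8598 = n10420 := rfl
theorem F40669 : act 1 n10420 = n8617 := d11_1 D10420 (iv D8617) (iv F32747)
theorem F40670 : act 4 n10420 = n8602 := d26_1 D10420 (iv D8602) (iv D6271) (iv F24182) D8598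
theorem F40671 : act 7 n10420 = n9305 := d31_2 (iv F32748) D10420 (iv D9305)
def n10421 : Q := act 8 n8598
theorem D10421 : act 8 n8598 = n10421 := rfl
theorem F40672 : act 1 n10421 = n8618 := d14_1 D10421 (iv D8618) (iv F32747)
theorem F40673 : act 4 n10421 = n8599 := d29_1 D10421 (iv D8599) D8598
def n10422 : Q := act 7 n8599
theorem D10422 : act 7 n8599 = n10422 := rfl
theorem F40674 : act 1 n10422 = n8619 := d13_1 D10422 (iv D8619) (iv F32749)
theorem F40675 : act 5 n10422 = n8604 := d31_1 D10422 (iv D8604) (iv F32751)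
theorem F40676 : act 8 n10422 = n9307 := d35_2 D8599 D10422 (iv D9307) (iv D6781) (iv F24183)
def n10423 : Q := act 3 n8600
theorem D10423 : act 3 n8600 = n10423 := rfl
theorem F40677 : act 1 n10423 = n8847 := d9_1 D10423 (iv D8847) (iv F32752)
theorem F40678 : act 6 n10423 = n10423 := d23_2 F32754 D10423 (iv D10423)
def n10424 : Q := act 5 n8600
theorem D10424 : act 5 n8600 = n10424 := rfl
theorem F40679 : act 1 n10424 = n8848 := d11_1 D10424 (iv D8848) (iv F32752)
theorem F40680 : act 2 n10424 = n8602 := d17_1 D10424 (iv D8602) (iv F32753)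
theorem F40681 : act 7 n10424 = n9309 := d31_2 (iv F32755) D10424 (iv D9309)
def n10425 : Q := act 8 n8600
theorem D10425 : act 8 n8600 = n10425 := rfl
theorem F40682 : act 1 n10425 = n8849 := d14_1 D10425 (iv D8849) (iv F32752)
theorem F40683 : act 2 n10425 = n8603 := d20_1 D10425 (iv D8603) (iv F32753)
theorem F40684 : act 4 n10425 = n8601 := d29_1 D10425 (iv D8601) D8600
theorem F40685 : act 6 n10425 = n10425 := d34_1 D10425 (iv D10425) F32754
def n10426 : Q := act 7 n8601
theorem D10426 : act 7 n8601 = n10426 := rfl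
theorem F40686 : act 1 n10426 = n8850 := d13_1 D10426 (iv D8850) (iv F32756)
theorem F40687 : act 2 n10426 = n8604 := d19_1 D10426 (iv D8604) (iv F32757)
theorem F40688 : act 6 n10426 = n10426 := d33_1 D10426 (iv D10426) F32758
theorem F40689 : act 8 n10426 = n9311 := d35_2 D8601 D10426 (iv D9311) (iv D6783) (iv F24188)
def n10427 : Q := act 6 n8602
theorem D10427 : act 6 n8602 = n10427 := rfl
theorem F40690 : act 1 n10427 = n8620 := d12_1 D10427 (iv D8620) (iv F32759)
theorem F40691 : act 5 n10427 = n10427 := d30_1 D10427 (iv D10427) (iv D8602) F24190 D8602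
theorem F40692 : act 7 n10427 = n9312 := d33_2 (iv F32760) D10427 (iv D9312)
def n10428 : Q := act 8 n8602
theorem D10428 : act 8 n8602 = n10428 := rfl
theorem F40693 : act 1 n10428 = n8621 := d14_1 D10428 (iv D8621) (iv F32759)
theorem F40694 : act 5 n10428 = n8603 := d32_1 D10428 (iv D8603) D8602
def n10429 : Q := act 7 n8603
theorem D10429 : act 7 n8603 = n10429 := rfl
theorem F40695 : act 1 n10429 = n8622 := d13_1 D10429 (iv D8622) (iv F32761)
theorem F40696 : act 4 n10429 = n8604 := d28_1 D10429 (iv D8604) (iv F32762)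
theorem F40697 : act 6 n10429 = n10429 := d33_1 D10429 (iv D10429) F32763
theorem F40698 : act 8 n10429 = n9314 := d35_2 D8603 D10429 (iv D9314) (iv D6785) (iv F24191)
def n10430 : Q := act 4 n8605
theorem D10430 : act 4 n8605 = n10430 := rfl
theorem F40699 : act 0 n10430 = n8630 := d3_1 D10430 (iv D8630) (iv F32767)
theorem F40700 : act 2 n10430 = n8701 := d16_1 D10430 (iv D8701) (iv F38101)
theorem F40701 : act 3 n10430 = n10430 := d21_1 D10430 (iv D10430) F32769 F24204 (iv F32769)
theorem F40702 : act 5 n10430 = n9315 := d26_2 D8605 D10430 (iv D9315) (iv D6787) (iv F24198)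
def n10431 : Q := act 7 n8605
theorem D10431 : act 7 n8605 = n10431 := rfl
theorem F40703 : act 0 n10431 = n8631 := d6_1 D10431 (iv D8631) (iv F32767)
theorem F40704 : act 2 n10431 = n8695 := d19_1 D10431 F33055 (iv F38101)
theorem F40705 : act 5 n10431 = n8606 := d31_1 D10431 (iv D8606) D8605
def n10432 : Q := act 3 n8606
theorem D10432 : act 3 n8606 = n10432 := rfl
theorem F40706 : act 0 n10432 = n8632 := d2_1 D10432 (iv D8632) (iv F32770)
theorem F40707 : act 2 n10432 = n9917 := d15_1 D10432 (iv D9917) F29758 F38234 (iv F32771)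
theorem F40708 : act 6 n10432 = n8607 := d23_2 (iv F32773) D10432 (iv D8607)
theorem F40709 : act 7 n10432 = n8610 := d24_2 D8606 D10432 (iv D8610) (iv D6276) (iv F24197)
def n10433 : Q := act 8 n8606
theorem D10433 : act 8 n8606 = n10433 := rfl
theorem F40710 : act 0 n10433 = n8633 := d7_1 D10433 (iv D8633) (iv F32770)
theorem F40711 : act 2 n10433 = n8773 := d20_1 D10433 (iv D8773) (iv F32771)
theorem F40712 : act 4 n10433 = n9318 := d29_1 D10433 (iv D9318) (iv F32772)
theorem F40713 : act 6 n10433 = n8608 := d34_1 D10433 (iv D8608) (iv F32773)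
def n10434 : Q := act 2 n8607
theorem D10434 : act 2 n8607 = n10434 := rfl
theorem F40714 : act 0 n10434 = n8634 := d1_1 D10434 (iv D8634) (iv F32774)
theorem F40715 : act 3 n10434 = n8774 := d15_2 D8607 D10434 (iv D8774) (iv D6393) (iv F24200)
theorem F40716 : act 6 n10434 = n9917 := d18_2 F40708 D10434 (iv F40707)
theorem F40717 : act 7 n10434 = n8612 := d19_2 (iv F32775) D10434 (iv D8612)
def n10435 : Q := act 4 n8607
theorem D10435 : act 4 n8607 = n10435 := rfl
theorem F40718 : act 0 n10435 = n8635 := d3_1 D10435 (iv D8635) (iv F32774)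
theorem F40719 : act 3 n10435 = n9319 := d21_1 D10435 (iv D9319) (iv D6789) (iv F24201) D8607
theorem F40720 : act 7 n10435 = n8613 := d28_2 (iv F32775) D10435 (iv D8613)
def n10436 : Q := act 8 n8607
theorem D10436 : act 8 n8607 = n10436 := rfl
theorem F40721 : act 0 n10436 = n8636 := d7_1 D10436 (iv D8636) (iv F32774)
theorem F40722 : act 3 n10436 = n8608 := d25_1 D10436 (iv D8608) D8607
def n10437 : Q := act 4 n8610
theorem D10437 : act 4 n8610 = n10437 := rfl
theorem F40723 : act 0 n10437 = n8640 := d3_1 D10437 (iv D8640) (iv F32783)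
theorem F40724 : act 2 n10437 = n9919 := d16_1 D10437 (iv D9919) F38627
theorem F40725 : act 3 n10437 = n8615 := d21_1 D10437 (iv D8615) (iv D6279) (iv F24207) D8610
theorem F40726 : act 6 n10437 = n8613 := d27_2 (iv F32784) D10437 (iv D8613)
def n10438 : Q := act 8 n8610
theorem D10438 : act 8 n8610 = n10438 := rfl
theorem F40727 : act 0 n10438 = n8641 := d7_1 D10438 (iv D8641) (iv F32783)
theorem F40728 : act 2 n10438 = n9920 := d20_1 D10438 (iv D9920) F38627
theorem F40729 : act 3 n10438 = n8611 := d25_1 D10438 (iv D8611) D8610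
theorem F40730 : act 6 n10438 = n8614 := d34_1 D10438 (iv D8614) (iv F32784)
def n10439 : Q := act 1 n8612
theorem D10439 : act 1 n8612 = n10439 := rfl
theorem F40731 : act 3 n10439 = n8627 := d9_2 (iv F32790) D10439 (iv D8627)
theorem F40732 : act 6 n10439 = n9907 := d12_2 (iv F38623) D10439 F38790
def n10440 : Q := act 4 n8612
theorem D10440 : act 4 n8612 = n10440 := rfl
theorem F40733 : act 0 n10440 = n8643 := d3_1 D10440 (iv D8643) (iv F32789)
theorem F40734 : act 2 n10440 = n8613 := d16_1 D10440 (iv D8613) D8612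
theorem F40735 : act 3 n10440 = n8860 := d21_1 D10440 (iv D8860) F24814 (iv F24251) (iv F32790)
theorem F40736 : act 6 n10440 = n9919 := d27_2 (iv F38623) D10440 (iv D9919)
def n10441 : Q := act 8 n8612
theorem D10441 : act 8 n8612 = n10441 := rfl
theorem F40737 : act 0 n10441 = n8644 := d7_1 D10441 (iv D8644) (iv F32789)
theorem F40738 : act 2 n10441 = n8614 := d20_1 D10441 (iv D8614) D8612
theorem F40739 : act 3 n10441 = n8628 := d25_1 D10441 (iv D8628) (iv F32790)
theorem F40740 : act 6 n10441 = n9920 := d34_1 D10441 (iv D9920) (iv F38623)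
def n10442 : Q := act 5 n8613
theorem D10442 : act 5 n8613 = n10442 := rfl
theorem F40741 : act 0 n10442 = n8645 := d4_1 D10442 (iv D8645) (iv F32791)
theorem F40742 : act 3 n10442 = n8617 := d22_1 D10442 (iv D8617) (iv F32792)
def n10443 : Q := act 8 n8613
theorem D10443 : act 8 n8613 = n10443 := rfl
theorem F40743 : act 0 n10443 = n8646 := d7_1 D10443 (iv D8646) (iv F32791)
theorem F40744 : act 3 n10443 = n8618 := d25_1 D10443 (iv D8618) (iv F32792)
theorem F40745 : act 4 n10443 = n8614 := d29_1 D10443 (iv D8614) D8613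
def n10444 : Q := act 7 n8614
theorem D10444 : act 7 n8614 = n10444 := rfl
theorem F40746 : act 0 n10444 = n8647 := d6_1 D10444 (iv D8647) (iv F32793)
def n10445 : Q := act 5 n8615
theorem D10445 : act 5 n8615 = n10445 := rfl
theorem F40747 : act 0 n10445 = n8648 := d4_1 D10445 (iv D8648) (iv F32795)
theorem F40748 : act 2 n10445 = n8865 := d17_1 D10445 (iv D8865) (iv F32796)
theorem F40749 : act 4 n10445 = n10445 := d26_1 D10445 (iv D10445) (iv D8615) F24215 D8615
theorem F40750 : act 7 n10445 = n9328 := d31_2 (iv F32798) D10445 (iv D9328)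
def n10446 : Q := act 8 n8615
theorem D10446 : act 8 n8615 = n10446 := rfl
theorem F40751 : act 0 n10446 = n8649 := d7_1 D10446 (iv D8649) (iv F32795)
theorem F40752 : act 2 n10446 = n8866 := d20_1 D10446 (iv D8866) (iv F32796)
theorem F40753 : act 4 n10446 = n8616 := d29_1 D10446 (iv D8616) D8615
theorem F40754 : act 6 n10446 = n8618 := d34_1 D10446 (iv D8618) (iv F32797)
def n10447 : Q := act 7 n8616
theorem D10447 : act 7 n8616 = n10447 := rfl
theorem F40755 : act 0 n10447 = n8650 := d6_1 D10447 (iv D8650) (iv F32799)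
theorem F40756 : act 2 n10447 = n8867 := d19_1 D10447 (iv D8867) (iv F32800)
theorem F40757 : act 5 n10447 = n10447 := d31_1 D10447 (iv D10447) F32802
theorem F40758 : act 6 n10447 = n8619 := d33_1 D10447 (iv D8619) (iv F32803)
theorem F40759 : act 8 n10447 = n9330 := d35_2 D8616 D10447 (iv D9330) (iv D6797) (iv F24217)
def n10448 : Q := act 6 n8617
theorem D10448 : act 6 n8617 = n10448 := rfl
theorem F40760 : act 0 n10448 = n8651 := d5_1 D10448 (iv D8651) (iv F32804)
theorem F40761 : act 2 n10448 = n8868 := d18_1 D10448 (iv D8868) (iv F32805)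
theorem F40762 : act 4 n10448 = n8620 := d27_1 D10448 (iv D8620) (iv F32806)
theorem F40763 : act 7 n10448 = n9331 := d33_2 (iv F32807) D10448 (iv D9331)
def n10449 : Q := act 8 n8617
theorem D10449 : act 8 n8617 = n10449 := rfl
theorem F40764 : act 0 n10449 = n8652 := d7_1 D10449 (iv D8652) (iv F32804)
theorem F40765 : act 2 n10449 = n8869 := d20_1 D10449 (iv D8869) (iv F32805)
theorem F40766 : act 4 n10449 = n8621 := d29_1 D10449 (iv D8621) (iv F32806)
theorem F40767 : act 5 n10449 = n8618 := d32_1 D10449 (iv D8618) D8617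
def n10450 : Q := act 7 n8618
theorem D10450 : act 7 n8618 = n10450 := rfl
theorem F40768 : act 0 n10450 = n8653 := d6_1 D10450 (iv D8653) (iv F32808)
theorem F40769 : act 2 n10450 = n8870 := d19_1 D10450 (iv D8870) (iv F32809)
theorem F40770 : act 4 n10450 = n8619 := d28_1 D10450 (iv D8619) (iv F32810)
theorem F40771 : act 8 n10450 = n9333 := d35_2 D8618 D10450 (iv D9333) (iv D6799) (iv F24224)
def n10451 : Q := act 8 n8620
theorem D10451 : act 8 n8620 = n10451 := rfl
theorem F40772 : act 0 n10451 = n8654 := d7_1 D10451 (iv D8654) (iv F32815)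
theorem F40773 : act 2 n10451 = n8871 := d20_1 D10451 (iv D8871) (iv F32816)
theorem F40774 : act 5 n10451 = n10451 := d32_1 D10451 (iv D10451) F32817
theorem F40775 : act 6 n10451 = n8621 := d34_1 D10451 (iv D8621) D8620
def n10452 : Q := act 7 n8621
theorem D10452 : act 7 n8621 = n10452 := rfl
theorem F40776 : act 0 n10452 = n8655 := d6_1 D10452 (iv D8655) (iv F32819)
theorem F40777 : act 2 n10452 = n8872 := d19_1 D10452 (iv D8872) (iv F32820)
theorem F40778 : act 5 n10452 = n8622 := d31_1 D10452 (iv D8622) (iv F32821)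
theorem F40779 : act 8 n10452 = n9335 := d35_2 D8621 D10452 (iv D9335) (iv D6802) (iv F24231)
def n10453 : Q := act 3 n8622
theorem D10453 : act 3 n8622 = n10453 := rfl
theorem F40780 : act 0 n10453 = n8656 := d2_1 D10453 (iv D8656) (iv F32822)
theorem F40781 : act 6 n10453 = n10453 := d23_2 F32825 D10453 (iv D10453)
theorem F40782 : act 8 n10453 = n9336 := d25_2 (iv F32826) D10453 (iv D9336)
def n10454 : Q := act 0 n8627
theorem D10454 : act 0 n8627 = n10454 := rfl
theorem F40783 : act 1 n10454 = n8663 := d0_2 D8627 D10454 (iv D8663) (iv D6313) (iv F24250)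
theorem F40784 : act 2 n10454 = n10278 := d1_2 F38618 D10454 F40197
theorem F40785 : act 4 n10454 = n8880 := d3_2 (iv F32841) D10454 (iv D8880)
theorem F40786 : act 6 n10454 = n9876 := d5_2 (iv F38617) D10454 F38690
theorem F40787 : act 7 n10454 = n8789 := d6_2 (iv F32842) D10454 (iv D8789)
def n10455 : Q := act 8 n8627
theorem D10455 : act 8 n8627 = n10455 := rfl
theorem F40788 : act 1 n10455 = n8628 := d14_1 D10455 (iv D8628) D8627
theorem F40789 : act 2 n10455 = n10411 := d20_1 D10455 (iv D10411) F38618
theorem F40790 : act 4 n10455 = n8881 := d29_1 D10455 (iv D8881) (iv F32841)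
theorem F40791 : act 6 n10455 = n9908 := d34_1 D10455 (iv D9908) (iv F38617)
def n10456 : Q := act 7 n8630
theorem D10456 : act 7 n8630 = n10456 := rfl
theorem F40792 : act 2 n10456 = n8721 := d19_1 D10456 F33157 (iv F38068)
theorem F40793 : act 4 n10456 = n8631 := d28_1 D10456 (iv D8631) D8630
theorem F40794 : act 5 n10456 = n9337 := d31_1 D10456 (iv D9337) (iv F32851)
def n10457 : Q := act 8 n8631
theorem D10457 : act 8 n8631 = n10457 := rfl
theorem F40795 : act 2 n10457 = n8722 := d20_1 D10457 (iv D8722) (iv F38203)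
theorem F40796 : act 5 n10457 = n8633 := d32_1 D10457 (iv D8633) (iv F32853)
def n10458 : Q := act 4 n8632
theorem D10458 : act 4 n8632 = n10458 := rfl
theorem F40797 : act 2 n10458 = n9927 := d16_1 D10458 (iv D9927) F38626
theorem F40798 : act 3 n10458 = n9340 := d21_1 D10458 (iv D9340) (iv D6807) (iv F24259) D8632
theorem F40799 : act 6 n10458 = n8635 := d27_2 (iv F32854) D10458 (iv D8635)
theorem F40800 : act 7 n10458 = n8640 := d28_2 (iv F32855) D10458 (iv D8640)
def n10459 : Q := act 8 n8632
theorem D10459 : act 8 n8632 = n10459 := rfl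
theorem F40801 : act 2 n10459 = n9928 := d20_1 D10459 (iv D9928) F38626
theorem F40802 : act 3 n10459 = n8633 := d25_1 D10459 (iv D8633) D8632
theorem F40803 : act 6 n10459 = n8636 := d34_1 D10459 (iv D8636) (iv F32854)
def n10460 : Q := act 1 n8634
theorem D10460 : act 1 n8634 = n10460 := rfl
theorem F40804 : act 3 n10460 = n8797 := d9_2 (iv F32859) D10460 (iv D8797)
theorem F40805 : act 6 n10460 = n9892 := d12_2 (iv F38625) D10460 F38747
theorem F40806 : act 7 n10460 = n8642 := d13_2 (iv F32860) D10460 (iv D8642)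
def n10461 : Q := act 4 n8634
theorem D10461 : act 4 n8634 = n10461 := rfl
theorem F40807 : act 2 n10461 = n8635 := d16_1 D10461 (iv D8635) D8634
theorem F40808 : act 3 n10461 = n10461 := d21_1 D10461 (iv D10461) F32859 F24664 (iv F32859)
theorem F40809 : act 6 n10461 = n9927 := d27_2 (iv F38625) D10461 (iv D9927)
theorem F40810 : act 7 n10461 = n8643 := d28_2 (iv F32860) D10461 (iv D8643)
def n10462 : Q := act 8 n8634
theorem D10462 : act 8 n8634 = n10462 := rfl
theorem F40811 : act 2 n10462 = n8636 := d20_1 D10462 (iv D8636) D8634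
theorem F40812 : act 3 n10462 = n8798 := d25_1 D10462 (iv D8798) (iv F32859)
theorem F40813 : act 6 n10462 = n9928 := d34_1 D10462 (iv D9928) (iv F38625)
def n10463 : Q := act 5 n8635
theorem D10463 : act 5 n8635 = n10463 := rfl
theorem F40814 : act 3 n10463 = n9342 := d22_1 D10463 (iv D9342) (iv F32861)
theorem F40815 : act 7 n10463 = n8645 := d31_2 (iv F32862) D10463 (iv D8645)
def n10464 : Q := act 8 n8635
theorem D10464 : act 8 n8635 = n10464 := rfl
theorem F40816 : act 3 n10464 = n9343 := d25_1 D10464 (iv D9343) (iv F32861)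
theorem F40817 : act 4 n10464 = n8636 := d29_1 D10464 (iv D8636) D8635
def n10465 : Q := act 7 n8636
theorem D10465 : act 7 n8636 = n10465 := rfl
theorem F40818 : act 8 n10465 = n8647 := d35_2 D8636 D10465 (iv D8647) (iv D6300) (iv F24261)
def n10466 : Q := act 5 n8640
theorem D10466 : act 5 n8640 = n10466 := rfl
theorem F40819 : act 2 n10466 = n9929 := d17_1 D10466 (iv D9929) (iv F38589)
theorem F40820 : act 3 n10466 = n8648 := d22_1 D10466 (iv D8648) (iv F32870)
def n10467 : Q := act 8 n8640
theorem D10467 : act 8 n8640 = n10467 := rfl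
theorem F40821 : act 2 n10467 = n9930 := d20_1 D10467 (iv D9930) (iv F38589)
theorem F40822 : act 3 n10467 = n8649 := d25_1 D10467 (iv D8649) (iv F32870)
theorem F40823 : act 4 n10467 = n8641 := d29_1 D10467 (iv D8641) D8640
theorem F40824 : act 6 n10467 = n8646 := d34_1 D10467 (iv D8646) (iv F32871)
def n10468 : Q := act 7 n8641
theorem D10468 : act 7 n8641 = n10468 := rfl
theorem F40825 : act 2 n10468 = n9931 := d19_1 D10468 (iv D9931) F38622
theorem F40826 : act 6 n10468 = n8647 := d33_1 D10468 (iv D8647) (iv F32873)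
def n10469 : Q := act 0 n8642
theorem D10469 : act 0 n8642 = n10469 := rfl
theorem F40827 : act 3 n10469 = n8663 := d2_2 (iv F32874) D10469 (iv D8663)
theorem F40828 : act 6 n10469 = n9883 := d5_2 (iv F38624) D10469 F38718
def n10470 : Q := act 4 n8642
theorem D10470 : act 4 n8642 = n10470 := rfl
theorem F40829 : act 1 n10470 = n8643 := d10_1 D10470 (iv D8643) D8642
theorem F40830 : act 3 n10470 = n8893 := d21_1 D10470 (iv D8893) F24895 (iv F24312) (iv F32874)
theorem F40831 : act 6 n10470 = n9895 := d27_2 (iv F38624) D10470 (iv D9895)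
def n10471 : Q := act 8 n8642
theorem D10471 : act 8 n8642 = n10471 := rfl
theorem F40832 : act 1 n10471 = n8644 := d14_1 D10471 (iv D8644) D8642
theorem F40833 : act 3 n10471 = n8664 := d25_1 D10471 (iv D8664) (iv F32874)
theorem F40834 : act 6 n10471 = n9896 := d34_1 D10471 (iv D9896) (iv F38624)
def n10472 : Q := act 5 n8643
theorem D10472 : act 5 n8643 = n10472 := rfl
theorem F40835 : act 2 n10472 = n8645 := d17_1 D10472 (iv D8645) (iv F32875)
theorem F40836 : act 3 n10472 = n8895 := d22_1 D10472 (iv D8895) (iv F32876)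
def n10473 : Q := act 8 n8643
theorem D10473 : act 8 n8643 = n10473 := rfl
theorem F40837 : act 2 n10473 = n8646 := d20_1 D10473 (iv D8646) (iv F32875)
theorem F40838 : act 3 n10473 = n8896 := d25_1 D10473 (iv D8896) (iv F32876)
theorem F40839 : act 4 n10473 = n8644 := d29_1 D10473 (iv D8644) D8643
theorem F40840 : act 6 n10473 = n9930 := d34_1 D10473 (iv D9930) F38590
def n10474 : Q := act 7 n8644
theorem D10474 : act 7 n8644 = n10474 := rfl
theorem F40841 : act 2 n10474 = n8647 := d19_1 D10474 (iv D8647) (iv F32877)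
theorem F40842 : act 6 n10474 = n9931 := d33_1 D10474 (iv D9931) (iv F38621)
def n10475 : Q := act 6 n8645
theorem D10475 : act 6 n8645 = n10475 := rfl
theorem F40843 : act 3 n10475 = n8651 := d23_1 D10475 (iv D8651) (iv F32879)
def n10476 : Q := act 8 n8645
theorem D10476 : act 8 n8645 = n10476 := rfl
theorem F40844 : act 3 n10476 = n8652 := d25_1 D10476 (iv D8652) (iv F32879)
theorem F40845 : act 5 n10476 = n8646 := d32_1 D10476 (iv D8646) D8645
def n10477 : Q := act 7 n8646
theorem D10477 : act 7 n8646 = n10477 := rfl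
theorem F40846 : act 4 n10477 = n8647 := d28_1 D10477 (iv D8647) (iv F32881)
def n10478 : Q := act 6 n8648
theorem D10478 : act 6 n8648 = n10478 := rfl
theorem F40847 : act 2 n10478 = n8901 := d18_1 D10478 (iv D8901) (iv F32882)
theorem F40848 : act 4 n10478 = n10478 := d27_1 D10478 (iv D10478) F32883
theorem F40849 : act 5 n10478 = n8651 := d30_1 D10478 (iv D8651) (iv D6303) (iv F24275) D8648
theorem F40850 : act 7 n10478 = n9353 := d33_2 (iv F32884) D10478 (iv D9353)
def n10479 : Q := act 8 n8648
theorem D10479 : act 8 n8648 = n10479 := rfl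
theorem F40851 : act 2 n10479 = n8902 := d20_1 D10479 (iv D8902) (iv F32882)
theorem F40852 : act 4 n10479 = n10479 := d29_1 D10479 (iv D10479) F32883
theorem F40853 : act 5 n10479 = n8649 := d32_1 D10479 (iv D8649) D8648
def n10480 : Q := act 7 n8649
theorem D10480 : act 7 n8649 = n10480 := rfl
theorem F40854 : act 2 n10480 = n8903 := d19_1 D10480 (iv D8903) (iv F32885)
theorem F40855 : act 4 n10480 = n8650 := d28_1 D10480 (iv D8650) (iv F32886)
theorem F40856 : act 6 n10480 = n8653 := d33_1 D10480 (iv D8653) (iv F32887)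
theorem F40857 : act 8 n10480 = n9355 := d35_2 D8649 D10480 (iv D9355) (iv D6819) (iv F24276)
def n10481 : Q := act 8 n8651
theorem D10481 : act 8 n8651 = n10481 := rfl
theorem F40858 : act 2 n10481 = n8904 := d20_1 D10481 (iv D8904) (iv F32892)
theorem F40859 : act 4 n10481 = n8654 := d29_1 D10481 (iv D8654) (iv F32893)
theorem F40860 : act 6 n10481 = n8652 := d34_1 D10481 (iv D8652) D8651
def n10482 : Q := act 7 n8652
theorem D10482 : act 7 n8652 = n10482 := rfl
theorem F40861 : act 2 n10482 = n8905 := d19_1 D10482 (iv D8905) (iv F32895)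
theorem F40862 : act 4 n10482 = n8655 := d28_1 D10482 (iv D8655) (iv F32896)
theorem F40863 : act 5 n10482 = n8653 := d31_1 D10482 (iv D8653) (iv F32897)
theorem F40864 : act 8 n10482 = n9357 := d35_2 D8652 D10482 (iv D9357) (iv D6822) (iv F24283)
def n10483 : Q := act 3 n8653
theorem D10483 : act 3 n8653 = n10483 := rfl
theorem F40865 : act 8 n10483 = n9358 := d25_2 (iv F32900) D10483 (iv D9358)
def n10484 : Q := act 7 n8654
theorem D10484 : act 7 n8654 = n10484 := rfl
theorem F40866 : act 2 n10484 = n8907 := d19_1 D10484 (iv D8907) (iv F32901)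
theorem F40867 : act 5 n10484 = n10484 := d31_1 D10484 (iv D10484) F32902
theorem F40868 : act 6 n10484 = n8655 := d33_1 D10484 (iv D8655) (iv F32903)
theorem F40869 : act 8 n10484 = n9359 := d35_2 D8654 D10484 (iv D9359) (iv D6824) (iv F24291)
def n10485 : Q := act 3 n8655
theorem D10485 : act 3 n8655 = n10485 := rfl
theorem F40870 : act 5 n10485 = n8656 := d22_2 (iv F32905) D10485 (iv D8656)
theorem F40871 : act 8 n10485 = n9360 := d25_2 (iv F32906) D10485 (iv D9360)
def n10486 : Q := act 2 n8656
theorem D10486 : act 2 n8656 = n10486 := rfl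
theorem F40872 : act 3 n10486 = n8909 := d15_2 D8656 D10486 (iv D8909) (iv D6494) (iv F24294)
theorem F40873 : act 6 n10486 = n10486 := d18_2 F32907 D10486 (iv D10486)
theorem F40874 : act 8 n10486 = n9361 := d20_2 (iv F32908) D10486 (iv D9361)
def n10487 : Q := act 8 n8663
theorem D10487 : act 8 n8663 = n10487 := rfl
theorem F40875 : act 0 n10487 = n8664 := d7_1 D10487 (iv D8664) D8663
theorem F40876 : act 2 n10487 = n8674 := d20_1 D10487 (iv D8674) (iv F32929)
theorem F40877 : act 4 n10487 = n8918 := d29_1 D10487 (iv D8918) (iv F32930)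
theorem F40878 : act 6 n10487 = n9884 := d34_1 D10487 (iv D9884) (iv F38604)
def n10488 : Q := act 6 n8677
theorem D10488 : act 6 n8677 = n10488 := rfl
theorem F40879 : act 0 n10488 = n10488 := d5_1 D10488 (iv D10488) F32966
theorem F40880 : act 2 n10488 = n8678 := d18_1 D10488 (iv D8678) D8677
theorem F40881 : act 3 n10488 = n10141 := d23_1 D10488 (iv D10141) (iv F32967)
theorem F40882 : act 4 n10488 = n9362 := d27_1 D10488 (iv D9362) (iv F32968)
theorem F40883 : act 8 n10488 = n8759 := d34_2 (iv F32970) D10488 (iv D8759)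
def n10489 : Q := act 7 n8677
theorem D10489 : act 7 n8677 = n10489 := rfl
theorem F40884 : act 0 n10489 = n10489 := d6_1 D10489 (iv D10489) F32966
theorem F40885 : act 2 n10489 = n8679 := d19_1 D10489 (iv D8679) D8677
theorem F40886 : act 4 n10489 = n9363 := d28_1 D10489 (iv D9363) (iv F32968)
theorem F40887 : act 5 n10489 = n9938 := d31_1 D10489 (iv D9938) (iv F32969)
def n10490 : Q := act 7 n8678
theorem D10490 : act 7 n8678 = n10490 := rfl
theorem F40888 : act 0 n10490 = n10490 := d6_1 D10490 (iv D10490) F32971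
theorem F40889 : act 1 n10490 = n8694 := d13_1 D10490 (iv D8694) (iv F32972)
theorem F40890 : act 4 n10490 = n9365 := d28_1 D10490 (iv D9365) (iv F32974)
theorem F40891 : act 6 n10490 = n8679 := d33_1 D10490 (iv D8679) D8678
def n10491 : Q := act 3 n8679
theorem D10491 : act 3 n8679 = n10491 := rfl
theorem F40892 : act 0 n10491 = n10491 := d2_1 D10491 (iv D10491) F32976
theorem F40893 : act 1 n10491 = n8695 := d9_1 D10491 (iv D8695) (iv F32977)
theorem F40894 : act 5 n10491 = n8762 := d22_2 (iv F32979) D10491 (iv F38636)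
theorem F40895 : act 7 n10491 = n8682 := d24_2 D8679 D10491 (iv D8682) (iv D6327) D6325
def n10492 : Q := act 8 n8679
theorem D10492 : act 8 n8679 = n10492 := rfl
theorem F40896 : act 0 n10492 = n10492 := d7_1 D10492 (iv D10492) F32976
theorem F40897 : act 1 n10492 = n8696 := d14_1 D10492 (iv D8696) (iv F32977)
theorem F40898 : act 4 n10492 = n9367 := d29_1 D10492 (iv D9367) (iv F32978)
theorem F40899 : act 5 n10492 = n9939 := d32_1 D10492 (iv D9939) (iv F32979)
theorem F40900 : act 7 n10492 = n8764 := d35_1 D10492 (iv D8764) (iv D6385) (iv F24346) D8679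
def n10493 : Q := act 2 n8682
theorem D10493 : act 2 n8682 = n10493 := rfl
theorem F40901 : act 0 n10493 = n10493 := d1_1 D10493 (iv D10493) F32991
theorem F40902 : act 3 n10493 = n10148 := d15_2 D8682 D10493 (iv D10148) (iv D8323) (iv F24354)
theorem F40903 : act 5 n10493 = n8759 := d17_2 F38029 D10493 F33295
def n10494 : Q := act 4 n8682
theorem D10494 : act 4 n8682 = n10494 := rfl
theorem F40904 : act 0 n10494 = n10494 := d3_1 D10494 (iv D10494) F32991
theorem F40905 : act 1 n10494 = n8701 := d10_1 D10494 (iv D8701) (iv F32992)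
theorem F40906 : act 3 n10494 = n8687 := d21_1 D10494 (iv D8687) (iv D6329) (iv F24355) D8682
theorem F40907 : act 5 n10494 = n9429 := d26_2 F38029 D10494 (iv D9429) (iv D6876) (iv F24585)
def n10495 : Q := act 4 n8686
theorem D10495 : act 4 n8686 = n10495 := rfl
theorem F40908 : act 0 n10495 = n10495 := d3_1 D10495 (iv D10495) F33011
theorem F40909 : act 1 n10495 = n10495 := d10_1 D10495 (iv D10495) F33012
theorem F40910 : act 2 n10495 = n8687 := d16_1 D10495 (iv D8687) D8686
theorem F40911 : act 5 n10495 = n9874 := d26_2 (iv F33014) D10495 (iv D9874) (iv D7562) F37646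
theorem F40912 : act 7 n10495 = n9374 := d28_2 (iv F33015) D10495 (iv D9374)
def n10496 : Q := act 8 n8694
theorem D10496 : act 8 n8694 = n10496 := rfl
theorem F40913 : act 0 n10496 = n8719 := d7_1 D10496 (iv D8719) (iv F33050)
theorem F40914 : act 4 n10496 = n9382 := d29_1 D10496 (iv D9382) (iv F33051)
theorem F40915 : act 6 n10496 = n8696 := d34_1 D10496 (iv D8696) (iv F33052)
theorem F40916 : act 7 n10496 = n8773 := d35_1 D10496 (iv D8773) (iv D6392) (iv F24389) D8694
def n10497 : Q := act 4 n8695
theorem D10497 : act 4 n8695 = n10497 := rfl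
theorem F40917 : act 0 n10497 = n8721 := d3_1 D10497 (iv D8721) (iv F33053)
theorem F40918 : act 3 n10497 = n9384 := d21_1 D10497 (iv D9384) (iv D6840) (iv F24391) D8695
theorem F40919 : act 5 n10497 = n9432 := d26_2 F38171 D10497 F35671 F26348 (iv F24610)
theorem F40920 : act 7 n10497 = n8701 := d28_2 (iv F33055) D10497 (iv D8701)
def n10498 : Q := act 8 n8695
theorem D10498 : act 8 n8695 = n10498 := rfl
theorem F40921 : act 0 n10498 = n8722 := d7_1 D10498 (iv D8722) (iv F33053)
theorem F40922 : act 3 n10498 = n8696 := d25_1 D10498 (iv D8696) D8695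
theorem F40923 : act 5 n10498 = n8773 := d32_1 D10498 (iv D8773) F38171
def n10499 : Q := act 8 n8721
theorem D10499 : act 8 n8721 = n10499 := rfl
theorem F40924 : act 1 n10499 = n10499 := d14_1 D10499 (iv D10499) F33155
theorem F40925 : act 3 n10499 = n9408 := d25_1 D10499 (iv D9408) (iv F33156)
theorem F40926 : act 4 n10499 = n8722 := d29_1 D10499 (iv D8722) D8721
theorem F40927 : act 5 n10499 = n9435 := d32_1 D10499 (iv D9435) (iv F38070)
def n10500 : Q := act 7 n8759
theorem D10500 : act 7 n8759 = n10500 := rfl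
theorem F40928 : act 0 n10500 = n10500 := d6_1 D10500 (iv D10500) F33294
theorem F40929 : act 2 n10500 = n8762 := d19_1 D10500 (iv D8762) (iv F33295)
theorem F40930 : act 4 n10500 = n9426 := d28_1 D10500 (iv D9426) (iv F33296)
theorem F40931 : act 6 n10500 = n8760 := d33_1 D10500 (iv D8760) D8759
def n10501 : Q := act 3 n8760
theorem D10501 : act 3 n8760 = n10501 := rfl
theorem F40932 : act 0 n10501 = n10501 := d2_1 D10501 (iv D10501) F33297
def n10502 : Q := act 8 n8760
theorem D10502 : act 8 n8760 = n10502 := rfl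
theorem F40933 : act 0 n10502 = n10502 := d7_1 D10502 (iv D10502) F33297
theorem F40934 : act 2 n10502 = n8764 := d20_1 D10502 (iv D8764) (iv F33298)
theorem F40935 : act 4 n10502 = n9428 := d29_1 D10502 (iv D9428) (iv F33299)
def n10503 : Q := act 8 n8762
theorem D10503 : act 8 n8762 = n10503 := rfl
theorem F40936 : act 0 n10503 = n10503 := d7_1 D10503 (iv D10503) F33303
theorem F40937 : act 1 n10503 = n8773 := d14_1 D10503 (iv D8773) (iv F33304)
theorem F40938 : act 3 n10503 = n9939 := d25_1 D10503 (iv D9939) F38636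
theorem F40939 : act 4 n10503 = n9431 := d29_1 D10503 (iv D9431) (iv F33305)
theorem F40940 : act 6 n10503 = n8764 := d34_1 D10503 (iv D8764) (iv F33306)
def n10504 : Q := act 2 n8763
theorem D10504 : act 2 n8763 = n10504 := rfl
theorem F40941 : act 0 n10504 = n10504 := d1_1 D10504 (iv D10504) F33307
theorem F40942 : act 4 n10504 = n10504 := d16_2 F33309 D10504 (iv D10504)
theorem F40943 : act 6 n10504 = n9938 := d18_2 (iv F38635) D10504 F38875
theorem F40944 : act 7 n10504 = n8768 := d19_2 (iv F33310) D10504 (iv D8768)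
def n10505 : Q := act 8 n8763
theorem D10505 : act 8 n8763 = n10505 := rfl
theorem F40945 : act 0 n10505 = n10505 := d7_1 D10505 (iv D10505) F33307
theorem F40946 : act 1 n10505 = n8775 := d14_1 D10505 (iv D8775) (iv F33308)
theorem F40947 : act 3 n10505 = n8764 := d25_1 D10505 (iv D8764) D8763
theorem F40948 : act 4 n10505 = n10505 := d29_1 D10505 (iv D10505) F33309
theorem F40949 : act 6 n10505 = n9939 := d34_1 D10505 (iv D9939) (iv F38635)
def n10506 : Q := act 1 n8768
theorem D10506 : act 1 n8768 = n10506 := rfl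
theorem F40950 : act 2 n10506 = n8780 := d8_2 D8768 D10506 (iv D8780) (iv D6398) (iv F24597)
theorem F40951 : act 3 n10506 = n10404 := d9_2 F38638 D10506 F40628
theorem F40952 : act 4 n10506 = n10506 := d10_2 F33327 D10506 (iv D10506)
theorem F40953 : act 6 n10506 = n9905 := d12_2 (iv F38637) D10506 F38785
def n10507 : Q := act 1 n8774
theorem D10507 : act 1 n8774 = n10507 := rfl
theorem F40954 : act 4 n10507 = n10507 := d10_2 F33345 D10507 (iv D10507)
theorem F40955 : act 6 n10507 = n9906 := d12_2 (iv F38633) D10507 F38788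
theorem F40956 : act 7 n10507 = n8780 := d13_2 (iv F33346) D10507 (iv D8780)
def n10508 : Q := act 8 n8774
theorem D10508 : act 8 n8774 = n10508 := rfl
theorem F40957 : act 0 n10508 = n8798 := d7_1 D10508 (iv D8798) (iv F33344)
theorem F40958 : act 2 n10508 = n8775 := d20_1 D10508 (iv D8775) D8774
theorem F40959 : act 4 n10508 = n10508 := d29_1 D10508 (iv D10508) F33345
theorem F40960 : act 6 n10508 = n9918 := d34_1 D10508 (iv D9918) (iv F38633)
def n10509 : Q := act 0 n8780
theorem D10509 : act 0 n8780 = n10509 := rfl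
theorem F40961 : act 1 n10509 = n8806 := d0_2 D8780 D10509 (iv D8806) (iv D6417) (iv F24628)
theorem F40962 : act 3 n10509 = n8789 := d2_2 (iv F33364) D10509 (iv D8789)
theorem F40963 : act 4 n10509 = n10509 := d3_2 F33365 D10509 (iv D10509)
theorem F40964 : act 6 n10509 = n9875 := d5_2 (iv F38629) D10509 F38687
def n10510 : Q := act 0 n8797
theorem D10510 : act 0 n8797 = n10510 := rfl
theorem F40965 : act 2 n10510 = n10510 := d1_2 F33411 D10510 (iv D10510)
theorem F40966 : act 4 n10510 = n10510 := d3_2 F33412 D10510 (iv D10510)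
theorem F40967 : act 6 n10510 = n9882 := d5_2 (iv F38634) D10510 F38715
theorem F40968 : act 7 n10510 = n8806 := d6_2 (iv F33413) D10510 (iv D8806)
def n10511 : Q := act 8 n8797
theorem D10511 : act 8 n8797 = n10511 := rfl
theorem F40969 : act 1 n10511 = n8798 := d14_1 D10511 (iv D8798) D8797
theorem F40970 : act 2 n10511 = n10511 := d20_1 D10511 (iv D10511) F33411
theorem F40971 : act 4 n10511 = n10511 := d29_1 D10511 (iv D10511) F33412
theorem F40972 : act 6 n10511 = n9893 := d34_1 D10511 (iv D9893) (iv F38634)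
def n10512 : Q := act 1 n8836
theorem D10512 : act 1 n8836 = n10512 := rfl
theorem F40973 : act 2 n10512 = n8859 := d8_2 D8836 D10512 (iv D8859) (iv D6457) (iv F24751)
theorem F40974 : act 3 n10512 = n10415 := d9_2 F38597 D10512 F40652
theorem F40975 : act 5 n10512 = n10512 := d11_2 F33522 D10512 (iv D10512)
theorem F40976 : act 6 n10512 = n9909 := d12_2 (iv F38596) D10512 F38794
theorem F40977 : act 7 n10512 = n10512 := d13_2 F33523 D10512 (iv D10512)
def n10513 : Q := act 4 n8836
theorem D10513 : act 4 n8836 = n10513 := rfl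
theorem F40978 : act 0 n10513 = n10513 := d3_1 D10513 (iv D10513) F33521
theorem F40979 : act 2 n10513 = n8837 := d16_1 D10513 (iv D8837) D8836
theorem F40980 : act 6 n10513 = n9940 := d27_2 (iv F38596) D10513 (iv D9940)
theorem F40981 : act 7 n10513 = n10513 := d28_2 F33523 D10513 (iv D10513)
def n10514 : Q := act 8 n8836
theorem D10514 : act 8 n8836 = n10514 := rfl
theorem F40982 : act 0 n10514 = n10514 := d7_1 D10514 (iv D10514) F33521
theorem F40983 : act 2 n10514 = n8838 := d20_1 D10514 (iv D8838) D8836
theorem F40984 : act 5 n10514 = n10514 := d32_1 D10514 (iv D10514) F33522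
theorem F40985 : act 6 n10514 = n9941 := d34_1 D10514 (iv D9941) (iv F38596)
def n10515 : Q := act 5 n8837
theorem D10515 : act 5 n8837 = n10515 := rfl
theorem F40986 : act 0 n10515 = n10515 := d4_1 D10515 (iv D10515) F33524
theorem F40987 : act 1 n10515 = n8862 := d11_1 D10515 (iv D8862) (iv F33525)
theorem F40988 : act 3 n10515 = n8844 := d22_1 D10515 (iv D8844) (iv F33526)
theorem F40989 : act 4 n10515 = n10515 := d26_1 D10515 (iv D10515) (iv D8837) F24752 D8837
theorem F40990 : act 7 n10515 = n10515 := d31_2 F33527 D10515 (iv D10515)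
def n10516 : Q := act 8 n8837
theorem D10516 : act 8 n8837 = n10516 := rfl
theorem F40991 : act 0 n10516 = n10516 := d7_1 D10516 (iv D10516) F33524
theorem F40992 : act 1 n10516 = n8863 := d14_1 D10516 (iv D8863) (iv F33525)
theorem F40993 : act 3 n10516 = n8845 := d25_1 D10516 (iv D8845) (iv F33526)
theorem F40994 : act 4 n10516 = n8838 := d29_1 D10516 (iv D8838) D8837
theorem F40995 : act 6 n10516 = n9943 := d34_1 D10516 (iv D9943) (iv F38593)
def n10517 : Q := act 7 n8838
theorem D10517 : act 7 n8838 = n10517 := rfl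
theorem F40996 : act 0 n10517 = n10517 := d6_1 D10517 (iv D10517) F33528
theorem F40997 : act 1 n10517 = n8864 := d13_1 D10517 (iv D8864) (iv F33529)
theorem F40998 : act 3 n10517 = n10517 := d24_1 D10517 (iv D10517) F33530 F24758 (iv F33530)
theorem F40999 : act 5 n10517 = n10517 := d31_1 D10517 (iv D10517) F33531
theorem F41000 : act 6 n10517 = n9944 := d33_1 D10517 (iv D9944) (iv F38591)
theorem F41001 : act 8 n10517 = n10517 := d35_2 D8838 D10517 (iv D10517) (iv D8838) F24753
def n10518 : Q := act 4 n8839
theorem D10518 : act 4 n8839 = n10518 := rfl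
theorem F41002 : act 0 n10518 = n10518 := d3_1 D10518 (iv D10518) F33532
theorem F41003 : act 2 n10518 = n8840 := d16_1 D10518 (iv D8840) D8839
theorem F41004 : act 6 n10518 = n8842 := d27_2 (iv F33534) D10518 (iv D8842)
theorem F41005 : act 7 n10518 = n9436 := d28_2 (iv F33535) D10518 (iv D9436)
def n10519 : Q := act 8 n8839
theorem D10519 : act 8 n8839 = n10519 := rfl
theorem F41006 : act 0 n10519 = n10519 := d7_1 D10519 (iv D10519) F33532
theorem F41007 : act 2 n10519 = n8841 := d20_1 D10519 (iv D8841) D8839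
theorem F41008 : act 3 n10519 = n10514 := d25_1 D10519 (iv D10514) (iv F38597)
theorem F41009 : act 5 n10519 = n10519 := d32_1 D10519 (iv D10519) F33533
theorem F41010 : act 6 n10519 = n8843 := d34_1 D10519 (iv D8843) (iv F33534)
def n10520 : Q := act 5 n8840
theorem D10520 : act 5 n8840 = n10520 := rfl
theorem F41011 : act 0 n10520 = n10520 := d4_1 D10520 (iv D10520) F33536
theorem F41012 : act 1 n10520 = n8865 := d11_1 D10520 (iv D8865) (iv F33537)
theorem F41013 : act 3 n10520 = n9942 := d22_1 D10520 (iv D9942) F38595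
theorem F41014 : act 4 n10520 = n10520 := d26_1 D10520 (iv D10520) (iv D8840) F24761 D8840
theorem F41015 : act 7 n10520 = n9438 := d31_2 (iv F33539) D10520 (iv D9438)
def n10521 : Q := act 8 n8840
theorem D10521 : act 8 n8840 = n10521 := rfl
theorem F41016 : act 0 n10521 = n10521 := d7_1 D10521 (iv D10521) F33536
theorem F41017 : act 1 n10521 = n8866 := d14_1 D10521 (iv D8866) (iv F33537)
theorem F41018 : act 3 n10521 = n9943 := d25_1 D10521 (iv D9943) F38595
theorem F41019 : act 4 n10521 = n8841 := d29_1 D10521 (iv D8841) D8840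
theorem F41020 : act 6 n10521 = n8845 := d34_1 D10521 (iv D8845) (iv F33538)
def n10522 : Q := act 7 n8841
theorem D10522 : act 7 n8841 = n10522 := rfl
theorem F41021 : act 0 n10522 = n10522 := d6_1 D10522 (iv D10522) F33540
theorem F41022 : act 1 n10522 = n8867 := d13_1 D10522 (iv D8867) (iv F33541)
theorem F41023 : act 3 n10522 = n10522 := d24_1 D10522 (iv D10522) F33542 F24768 (iv F33542)
theorem F41024 : act 5 n10522 = n10522 := d31_1 D10522 (iv D10522) F33543
theorem F41025 : act 6 n10522 = n8846 := d33_1 D10522 (iv D8846) (iv F33544)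
theorem F41026 : act 8 n10522 = n9440 := d35_2 D8841 D10522 (iv D9440) (iv D6886) (iv F24763)
def n10523 : Q := act 3 n8842
theorem D10523 : act 3 n8842 = n10523 := rfl
theorem F41027 : act 0 n10523 = n10523 := d2_1 D10523 (iv D10523) F33545
def n10524 : Q := act 5 n8842
theorem D10524 : act 5 n8842 = n10524 := rfl
theorem F41028 : act 0 n10524 = n10524 := d4_1 D10524 (iv D10524) F33545
theorem F41029 : act 2 n10524 = n8844 := d17_1 D10524 (iv D8844) (iv F33546)
theorem F41030 : act 4 n10524 = n8848 := d26_1 D10524 (iv D8848) (iv D6449) (iv F24770) D8842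
theorem F41031 : act 7 n10524 = n9442 := d31_2 (iv F33547) D10524 (iv D9442)
def n10525 : Q := act 8 n8842
theorem D10525 : act 8 n8842 = n10525 := rfl
theorem F41032 : act 0 n10525 = n10525 := d7_1 D10525 (iv D10525) F33545
theorem F41033 : act 2 n10525 = n8845 := d20_1 D10525 (iv D8845) (iv F33546)
theorem F41034 : act 4 n10525 = n8843 := d29_1 D10525 (iv D8843) D8842
def n10526 : Q := act 7 n8843
theorem D10526 : act 7 n8843 = n10526 := rfl
theorem F41035 : act 0 n10526 = n10526 := d6_1 D10526 (iv D10526) F33548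
theorem F41036 : act 2 n10526 = n8846 := d19_1 D10526 (iv D8846) (iv F33549)
theorem F41037 : act 5 n10526 = n8850 := d31_1 D10526 (iv D8850) (iv F33550)
theorem F41038 : act 8 n10526 = n9444 := d35_2 D8843 D10526 (iv D9444) (iv D6888) (iv F24771)
def n10527 : Q := act 6 n8844
theorem D10527 : act 6 n8844 = n10527 := rfl
theorem F41039 : act 0 n10527 = n10527 := d5_1 D10527 (iv D10527) F33551
theorem F41040 : act 1 n10527 = n8868 := d12_1 D10527 (iv D8868) (iv F33552)
theorem F41041 : act 4 n10527 = n8851 := d27_1 D10527 (iv D8851) (iv F33553)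
theorem F41042 : act 7 n10527 = n9445 := d33_2 (iv F33554) D10527 (iv D9445)
def n10528 : Q := act 8 n8844
theorem D10528 : act 8 n8844 = n10528 := rfl
theorem F41043 : act 0 n10528 = n10528 := d7_1 D10528 (iv D10528) F33551
theorem F41044 : act 1 n10528 = n8869 := d14_1 D10528 (iv D8869) (iv F33552)
theorem F41045 : act 4 n10528 = n8852 := d29_1 D10528 (iv D8852) (iv F33553)
theorem F41046 : act 5 n10528 = n8845 := d32_1 D10528 (iv D8845) D8844
def n10529 : Q := act 7 n8845
theorem D10529 : act 7 n8845 = n10529 := rfl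
theorem F41047 : act 0 n10529 = n10529 := d6_1 D10529 (iv D10529) F33555
theorem F41048 : act 1 n10529 = n8870 := d13_1 D10529 (iv D8870) (iv F33556)
theorem F41049 : act 4 n10529 = n8846 := d28_1 D10529 (iv D8846) (iv F33557)
theorem F41050 : act 8 n10529 = n9447 := d35_2 D8845 D10529 (iv D9447) (iv D6890) (iv F24774)
def n10530 : Q := act 5 n8847
theorem D10530 : act 5 n8847 = n10530 := rfl
theorem F41051 : act 0 n10530 = n10530 := d4_1 D10530 (iv D10530) F33563
theorem F41052 : act 2 n10530 = n10530 := d17_1 D10530 (iv D10530) F33564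
theorem F41053 : act 3 n10530 = n8848 := d22_1 D10530 (iv D8848) D8847
def n10531 : Q := act 7 n8847
theorem D10531 : act 7 n8847 = n10531 := rfl
theorem F41054 : act 0 n10531 = n10531 := d6_1 D10531 (iv D10531) F33563
theorem F41055 : act 2 n10531 = n10531 := d19_1 D10531 (iv D10531) F33564
theorem F41056 : act 3 n10531 = n9449 := d24_1 D10531 (iv D9449) (iv D6892) (iv F24782) D8847
theorem F41057 : act 6 n10531 = n10531 := d33_1 D10531 (iv D10531) F33565
def n10532 : Q := act 8 n8847
theorem D10532 : act 8 n8847 = n10532 := rfl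
theorem F41058 : act 0 n10532 = n10532 := d7_1 D10532 (iv D10532) F33563
theorem F41059 : act 2 n10532 = n10532 := d20_1 D10532 (iv D10532) F33564
theorem F41060 : act 3 n10532 = n8849 := d25_1 D10532 (iv D8849) D8847
theorem F41061 : act 6 n10532 = n10532 := d34_1 D10532 (iv D10532) F33565
def n10533 : Q := act 6 n8848
theorem D10533 : act 6 n8848 = n10533 := rfl
theorem F41062 : act 0 n10533 = n10533 := d5_1 D10533 (iv D10533) F33566
theorem F41063 : act 2 n10533 = n8851 := d18_1 D10533 (iv D8851) (iv F33567)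
theorem F41064 : act 5 n10533 = n10533 := d30_1 D10533 (iv D10533) (iv D8848) F24781 D8848
theorem F41065 : act 7 n10533 = n9451 := d33_2 (iv F33568) D10533 (iv D9451)
def n10534 : Q := act 8 n8848
theorem D10534 : act 8 n8848 = n10534 := rfl
theorem F41066 : act 0 n10534 = n10534 := d7_1 D10534 (iv D10534) F33566
theorem F41067 : act 2 n10534 = n8852 := d20_1 D10534 (iv D8852) (iv F33567)
theorem F41068 : act 5 n10534 = n8849 := d32_1 D10534 (iv D8849) D8848
def n10535 : Q := act 7 n8849
theorem D10535 : act 7 n8849 = n10535 := rfl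
theorem F41069 : act 0 n10535 = n10535 := d6_1 D10535 (iv D10535) F33569
theorem F41070 : act 2 n10535 = n8853 := d19_1 D10535 (iv D8853) (iv F33570)
theorem F41071 : act 4 n10535 = n8850 := d28_1 D10535 (iv D8850) (iv F33571)
theorem F41072 : act 6 n10535 = n10535 := d33_1 D10535 (iv D10535) F33572
theorem F41073 : act 8 n10535 = n9453 := d35_2 D8849 D10535 (iv D9453) (iv D6894) (iv F24782)
def n10536 : Q := act 3 n8850
theorem D10536 : act 3 n8850 = n10536 := rfl
theorem F41074 : act 0 n10536 = n10536 := d2_1 D10536 (iv D10536) F33573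
theorem F41075 : act 2 n10536 = n10536 := d15_1 D10536 (iv D10536) F33574 F24797 (iv F33574)
theorem F41076 : act 6 n10536 = n10536 := d23_2 F33575 D10536 (iv D10536)
theorem F41077 : act 8 n10536 = n9454 := d25_2 (iv F33576) D10536 (iv D9454)
def n10537 : Q := act 8 n8851
theorem D10537 : act 8 n8851 = n10537 := rfl
theorem F41078 : act 0 n10537 = n10537 := d7_1 D10537 (iv D10537) F33577
theorem F41079 : act 1 n10537 = n8871 := d14_1 D10537 (iv D8871) (iv F33578)
theorem F41080 : act 3 n10537 = n10537 := d25_1 D10537 (iv D10537) F33579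
theorem F41081 : act 5 n10537 = n10537 := d32_1 D10537 (iv D10537) F33580
theorem F41082 : act 6 n10537 = n8852 := d34_1 D10537 (iv D8852) D8851
def n10538 : Q := act 7 n8852
theorem D10538 : act 7 n8852 = n10538 := rfl
theorem F41083 : act 0 n10538 = n10538 := d6_1 D10538 (iv D10538) F33582
theorem F41084 : act 1 n10538 = n8872 := d13_1 D10538 (iv D8872) (iv F33583)
theorem F41085 : act 5 n10538 = n8853 := d31_1 D10538 (iv D8853) (iv F33585)
theorem F41086 : act 8 n10538 = n9456 := d35_2 D8852 D10538 (iv D9456) (iv D6897) (iv F24789)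
def n10539 : Q := act 3 n8853
theorem D10539 : act 3 n8853 = n10539 := rfl
theorem F41087 : act 0 n10539 = n10539 := d2_1 D10539 (iv D10539) F33586
theorem F41088 : act 1 n10539 = n8873 := d9_1 D10539 (iv D8873) (iv F33587)
theorem F41089 : act 4 n10539 = n10539 := d21_2 (iv F33588) D10539 (iv D10539) F33588 F24797
theorem F41090 : act 6 n10539 = n10539 := d23_2 F33589 D10539 (iv D10539)
theorem F41091 : act 7 n10539 = n10539 := d24_2 D8853 D10539 (iv D10539) (iv D8853) F24792
theorem F41092 : act 8 n10539 = n9457 := d25_2 (iv F33590) D10539 (iv D9457)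
def n10540 : Q := act 0 n8859
theorem D10540 : act 0 n8859 = n10540 := rfl
theorem F41093 : act 1 n10540 = n8892 := d0_2 D8859 D10540 (iv D8892) (iv D6480) (iv F24813)
theorem F41094 : act 3 n10540 = n8880 := d2_2 (iv F33612) D10540 (iv D8880)
theorem F41095 : act 5 n10540 = n10540 := d4_2 F33613 D10540 (iv D10540)
theorem F41096 : act 6 n10540 = n9877 := d5_2 (iv F38616) D10540 F38694
theorem F41097 : act 7 n10540 = n10540 := d6_2 F33614 D10540 (iv D10540)
def n10541 : Q := act 4 n8859
theorem D10541 : act 4 n8859 = n10541 := rfl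
theorem F41098 : act 1 n10541 = n8860 := d10_1 D10541 (iv D8860) D8859
theorem F41099 : act 6 n10541 = n9910 := d27_2 (iv F38616) D10541 (iv D9910)
theorem F41100 : act 7 n10541 = n10541 := d28_2 F33614 D10541 (iv D10541)
def n10542 : Q := act 8 n8859
theorem D10542 : act 8 n8859 = n10542 := rfl
theorem F41101 : act 1 n10542 = n8861 := d14_1 D10542 (iv D8861) D8859
theorem F41102 : act 3 n10542 = n8881 := d25_1 D10542 (iv D8881) (iv F33612)
theorem F41103 : act 5 n10542 = n10542 := d32_1 D10542 (iv D10542) F33613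
theorem F41104 : act 6 n10542 = n9911 := d34_1 D10542 (iv D9911) (iv F38616)
def n10543 : Q := act 5 n8860
theorem D10543 : act 5 n8860 = n10543 := rfl
theorem F41105 : act 0 n10543 = n8895 := d4_1 D10543 (iv D8895) (iv F33615)
theorem F41106 : act 2 n10543 = n8862 := d17_1 D10543 (iv D8862) (iv F33616)
theorem F41107 : act 4 n10543 = n10543 := d26_1 D10543 (iv D10543) (iv D8860) F24815 D8860
theorem F41108 : act 7 n10543 = n10543 := d31_2 F33617 D10543 (iv D10543)
def n10544 : Q := act 8 n8860
theorem D10544 : act 8 n8860 = n10544 := rfl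
theorem F41109 : act 0 n10544 = n8896 := d7_1 D10544 (iv D8896) (iv F33615)
theorem F41110 : act 2 n10544 = n8863 := d20_1 D10544 (iv D8863) (iv F33616)
theorem F41111 : act 4 n10544 = n8861 := d29_1 D10544 (iv D8861) D8860
theorem F41112 : act 6 n10544 = n9922 := d34_1 D10544 (iv D9922) (iv F38594)
def n10545 : Q := act 7 n8861
theorem D10545 : act 7 n8861 = n10545 := rfl
theorem F41113 : act 0 n10545 = n8897 := d6_1 D10545 (iv D8897) (iv F33618)
theorem F41114 : act 2 n10545 = n8864 := d19_1 D10545 (iv D8864) (iv F33619)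
theorem F41115 : act 5 n10545 = n10545 := d31_1 D10545 (iv D10545) F33621
theorem F41116 : act 6 n10545 = n9923 := d33_1 D10545 (iv D9923) (iv F38592)
theorem F41117 : act 8 n10545 = n10545 := d35_2 D8861 D10545 (iv D10545) (iv D8861) F24816
def n10546 : Q := act 6 n8862
theorem D10546 : act 6 n8862 = n10546 := rfl
theorem F41118 : act 0 n10546 = n8898 := d5_1 D10546 (iv D8898) (iv F33622)
theorem F41119 : act 3 n10546 = n8868 := d23_1 D10546 (iv D8868) (iv F33623)
theorem F41120 : act 4 n10546 = n10546 := d27_1 D10546 (iv D10546) F33624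
theorem F41121 : act 5 n10546 = n9952 := d30_1 D10546 (iv D9952) (iv D7940) F38559 D8862
theorem F41122 : act 7 n10546 = n10546 := d33_2 F33625 D10546 (iv D10546)
def n10547 : Q := act 8 n8862
theorem D10547 : act 8 n8862 = n10547 := rfl
theorem F41123 : act 0 n10547 = n8899 := d7_1 D10547 (iv D8899) (iv F33622)
theorem F41124 : act 3 n10547 = n8869 := d25_1 D10547 (iv D8869) (iv F33623)
theorem F41125 : act 4 n10547 = n10547 := d29_1 D10547 (iv D10547) F33624
theorem F41126 : act 5 n10547 = n8863 := d32_1 D10547 (iv D8863) D8862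
def n10548 : Q := act 7 n8863
theorem D10548 : act 7 n8863 = n10548 := rfl
theorem F41127 : act 0 n10548 = n8900 := d6_1 D10548 (iv D8900) (iv F33626)
theorem F41128 : act 4 n10548 = n8864 := d28_1 D10548 (iv D8864) (iv F33628)
theorem F41129 : act 6 n10548 = n9954 := d33_1 D10548 (iv D9954) (iv F38582)
theorem F41130 : act 8 n10548 = n10548 := d35_2 D8863 D10548 (iv D10548) (iv D8863) F24819
def n10549 : Q := act 6 n8865
theorem D10549 : act 6 n8865 = n10549 := rfl
theorem F41131 : act 0 n10549 = n8901 := d5_1 D10549 (iv D8901) (iv F33633)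
theorem F41132 : act 3 n10549 = n9952 := d23_1 D10549 (iv D9952) (iv F38586)
theorem F41133 : act 4 n10549 = n10549 := d27_1 D10549 (iv D10549) F33634
theorem F41134 : act 5 n10549 = n8868 := d30_1 D10549 (iv D8868) (iv D6462) (iv F24824) D8865
theorem F41135 : act 7 n10549 = n9458 := d33_2 (iv F33635) D10549 (iv D9458)
def n10550 : Q := act 8 n8865
theorem D10550 : act 8 n8865 = n10550 := rfl
theorem F41136 : act 0 n10550 = n8902 := d7_1 D10550 (iv D8902) (iv F33633)
theorem F41137 : act 3 n10550 = n9953 := d25_1 D10550 (iv D9953) (iv F38586)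
theorem F41138 : act 4 n10550 = n10550 := d29_1 D10550 (iv D10550) F33634
theorem F41139 : act 5 n10550 = n8866 := d32_1 D10550 (iv D8866) D8865
def n10551 : Q := act 7 n8866
theorem D10551 : act 7 n8866 = n10551 := rfl
theorem F41140 : act 0 n10551 = n8903 := d6_1 D10551 (iv D8903) (iv F33636)
theorem F41141 : act 4 n10551 = n8867 := d28_1 D10551 (iv D8867) (iv F33637)
theorem F41142 : act 6 n10551 = n8870 := d33_1 D10551 (iv D8870) (iv F33638)
theorem F41143 : act 8 n10551 = n9460 := d35_2 D8866 D10551 (iv D9460) (iv D6900) (iv F24825)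
def n10552 : Q := act 8 n8868
theorem D10552 : act 8 n8868 = n10552 := rfl
theorem F41144 : act 0 n10552 = n8904 := d7_1 D10552 (iv D8904) (iv F33644)
theorem F41145 : act 4 n10552 = n8871 := d29_1 D10552 (iv D8871) (iv F33645)
theorem F41146 : act 6 n10552 = n8869 := d34_1 D10552 (iv D8869) D8868
def n10553 : Q := act 7 n8869
theorem D10553 : act 7 n8869 = n10553 := rfl
theorem F41147 : act 0 n10553 = n8905 := d6_1 D10553 (iv D8905) (iv F33647)
theorem F41148 : act 4 n10553 = n8872 := d28_1 D10553 (iv D8872) (iv F33648)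
theorem F41149 : act 5 n10553 = n8870 := d31_1 D10553 (iv D8870) (iv F33649)
theorem F41150 : act 8 n10553 = n9462 := d35_2 D8869 D10553 (iv D9462) (iv D6903) (iv F24832)
def n10554 : Q := act 3 n8870
theorem D10554 : act 3 n8870 = n10554 := rfl
theorem F41151 : act 0 n10554 = n8906 := d2_1 D10554 (iv D8906) (iv F33650)
theorem F41152 : act 4 n10554 = n10554 := d21_2 (iv F33651) D10554 (iv D10554) F33651 F24836
theorem F41153 : act 8 n10554 = n9463 := d25_2 (iv F33652) D10554 (iv D9463)
def n10555 : Q := act 7 n8871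
theorem D10555 : act 7 n8871 = n10555 := rfl
theorem F41154 : act 0 n10555 = n8907 := d6_1 D10555 (iv D8907) (iv F33653)
theorem F41155 : act 5 n10555 = n10555 := d31_1 D10555 (iv D10555) F33655
theorem F41156 : act 6 n10555 = n8872 := d33_1 D10555 (iv D8872) (iv F33656)
theorem F41157 : act 8 n10555 = n9464 := d35_2 D8871 D10555 (iv D9464) (iv D6905) (iv F24842)
def n10556 : Q := act 3 n8872
theorem D10556 : act 3 n8872 = n10556 := rfl
theorem F41158 : act 0 n10556 = n8908 := d2_1 D10556 (iv D8908) (iv F33657)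
theorem F41159 : act 5 n10556 = n8873 := d22_2 (iv F33658) D10556 (iv D8873)
theorem F41160 : act 7 n10556 = n10556 := d24_2 D8872 D10556 (iv D10556) (iv D8872) F24844
theorem F41161 : act 8 n10556 = n9465 := d25_2 (iv F33659) D10556 (iv D9465)
def n10557 : Q := act 2 n8873
theorem D10557 : act 2 n8873 = n10557 := rfl
theorem F41162 : act 0 n10557 = n8909 := d1_1 D10557 (iv D8909) (iv F33660)
theorem F41163 : act 4 n10557 = n10557 := d16_2 F33661 D10557 (iv D10557)
theorem F41164 : act 6 n10557 = n10557 := d18_2 F33662 D10557 (iv D10557)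
theorem F41165 : act 7 n10557 = n10557 := d19_2 F33663 D10557 (iv D10557)
theorem F41166 : act 8 n10557 = n9466 := d20_2 (iv F33664) D10557 (iv D9466)
def n10558 : Q := act 8 n8880
theorem D10558 : act 8 n8880 = n10558 := rfl
theorem F41167 : act 0 n10558 = n8881 := d7_1 D10558 (iv D8881) D8880
theorem F41168 : act 1 n10558 = n8918 := d14_1 D10558 (iv D8918) (iv F33686)
theorem F41169 : act 2 n10558 = n10282 := d20_1 D10558 (iv D10282) F38598
theorem F41170 : act 5 n10558 = n10558 := d32_1 D10558 (iv D10558) F33687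
theorem F41171 : act 6 n10558 = n9878 := d34_1 D10558 (iv D9878) (iv F38599)
def n10559 : Q := act 4 n8892
theorem D10559 : act 4 n8892 = n10559 := rfl
theorem F41172 : act 0 n10559 = n8893 := d3_1 D10559 (iv D8893) D8892
theorem F41173 : act 2 n10559 = n10559 := d16_1 D10559 (iv D10559) F33728
theorem F41174 : act 6 n10559 = n9885 := d27_2 (iv F38603) D10559 (iv D9885)
theorem F41175 : act 7 n10559 = n10559 := d28_2 F33731 D10559 (iv D10559)
def n10560 : Q := act 8 n8892
theorem D10560 : act 8 n8892 = n10560 := rfl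
theorem F41176 : act 0 n10560 = n8894 := d7_1 D10560 (iv D8894) D8892
theorem F41177 : act 2 n10560 = n10560 := d20_1 D10560 (iv D10560) F33728
theorem F41178 : act 3 n10560 = n8918 := d25_1 D10560 (iv D8918) (iv F33729)
theorem F41179 : act 5 n10560 = n10560 := d32_1 D10560 (iv D10560) F33730
theorem F41180 : act 6 n10560 = n9886 := d34_1 D10560 (iv D9886) (iv F38603)
def n10561 : Q := act 5 n8893
theorem D10561 : act 5 n8893 = n10561 := rfl
theorem F41181 : act 1 n10561 = n8895 := d11_1 D10561 (iv D8895) (iv F33732)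
theorem F41182 : act 2 n10561 = n10561 := d17_1 D10561 (iv D10561) F33733
theorem F41183 : act 4 n10561 = n10561 := d26_1 D10561 (iv D10561) (iv D8893) F24896 D8893
theorem F41184 : act 7 n10561 = n10561 := d31_2 F33734 D10561 (iv D10561)
def n10562 : Q := act 8 n8893
theorem D10562 : act 8 n8893 = n10562 := rfl
theorem F41185 : act 1 n10562 = n8896 := d14_1 D10562 (iv D8896) (iv F33732)
theorem F41186 : act 2 n10562 = n10562 := d20_1 D10562 (iv D10562) F33733
theorem F41187 : act 4 n10562 = n8894 := d29_1 D10562 (iv D8894) D8893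
theorem F41188 : act 6 n10562 = n9898 := d34_1 D10562 (iv D9898) (iv F38601)
def n10563 : Q := act 7 n8894
theorem D10563 : act 7 n8894 = n10563 := rfl
theorem F41189 : act 1 n10563 = n8897 := d13_1 D10563 (iv D8897) (iv F33735)
theorem F41190 : act 2 n10563 = n10563 := d19_1 D10563 (iv D10563) F33736
theorem F41191 : act 5 n10563 = n10563 := d31_1 D10563 (iv D10563) F33738
theorem F41192 : act 6 n10563 = n9899 := d33_1 D10563 (iv D9899) (iv F38600)
theorem F41193 : act 8 n10563 = n10563 := d35_2 D8894 D10563 (iv D10563) (iv D8894) F24897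
def n10564 : Q := act 6 n8895
theorem D10564 : act 6 n8895 = n10564 := rfl
theorem F41194 : act 2 n10564 = n8898 := d18_1 D10564 (iv D8898) (iv F33739)
theorem F41195 : act 4 n10564 = n10564 := d27_1 D10564 (iv D10564) F33740
theorem F41196 : act 5 n10564 = n9932 := d30_1 D10564 (iv D9932) (iv D7805) F38551 D8895
theorem F41197 : act 7 n10564 = n10564 := d33_2 F33741 D10564 (iv D10564)
def n10565 : Q := act 8 n8895
theorem D10565 : act 8 n8895 = n10565 := rfl
theorem F41198 : act 2 n10565 = n8899 := d20_1 D10565 (iv D8899) (iv F33739)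
theorem F41199 : act 4 n10565 = n10565 := d29_1 D10565 (iv D10565) F33740
theorem F41200 : act 5 n10565 = n8896 := d32_1 D10565 (iv D8896) D8895
def n10566 : Q := act 7 n8896
theorem D10566 : act 7 n8896 = n10566 := rfl
theorem F41201 : act 2 n10566 = n8900 := d19_1 D10566 (iv D8900) (iv F33742)
theorem F41202 : act 4 n10566 = n8897 := d28_1 D10566 (iv D8897) (iv F33743)
theorem F41203 : act 6 n10566 = n9934 := d33_1 D10566 (iv D9934) (iv F38583)
theorem F41204 : act 8 n10566 = n10566 := d35_2 D8896 D10566 (iv D10566) (iv D8896) F24899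
def n10567 : Q := act 8 n8898
theorem D10567 : act 8 n8898 = n10567 := rfl
theorem F41205 : act 1 n10567 = n10567 := d14_1 D10567 (iv D10567) F33747
theorem F41206 : act 3 n10567 = n8904 := d25_1 D10567 (iv D8904) (iv F33748)
theorem F41207 : act 4 n10567 = n10567 := d29_1 D10567 (iv D10567) F33749
theorem F41208 : act 5 n10567 = n9958 := d32_1 D10567 (iv D9958) F38588
theorem F41209 : act 6 n10567 = n8899 := d34_1 D10567 (iv D8899) D8898
def n10568 : Q := act 7 n8899
theorem D10568 : act 7 n8899 = n10568 := rfl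
theorem F41210 : act 1 n10568 = n10568 := d13_1 D10568 (iv D10568) F33751
theorem F41211 : act 4 n10568 = n10568 := d28_1 D10568 (iv D10568) F33753
theorem F41212 : act 5 n10568 = n8900 := d31_1 D10568 (iv D8900) (iv F33754)
theorem F41213 : act 8 n10568 = n10568 := d35_2 D8899 D10568 (iv D10568) (iv D8899) F24906
def n10569 : Q := act 3 n8900
theorem D10569 : act 3 n8900 = n10569 := rfl
theorem F41214 : act 1 n10569 = n10569 := d9_1 D10569 (iv D10569) F33755
theorem F41215 : act 4 n10569 = n10569 := d21_2 (iv F33756) D10569 (iv D10569) F33756 F24911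
theorem F41216 : act 6 n10569 = n9960 := d23_2 (iv F38581) D10569 (iv D9960)
theorem F41217 : act 7 n10569 = n8906 := d24_2 D8900 D10569 (iv D8906) (iv D6491) (iv F24908)
theorem F41218 : act 8 n10569 = n10569 := d25_2 F33757 D10569 (iv D10569)
def n10570 : Q := act 8 n8901
theorem D10570 : act 8 n8901 = n10570 := rfl
theorem F41219 : act 1 n10570 = n10570 := d14_1 D10570 (iv D10570) F33758
theorem F41220 : act 3 n10570 = n9958 := d25_1 D10570 (iv D9958) (iv F38587)
theorem F41221 : act 4 n10570 = n10570 := d29_1 D10570 (iv D10570) F33759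
theorem F41222 : act 5 n10570 = n8904 := d32_1 D10570 (iv D8904) (iv F33760)
theorem F41223 : act 6 n10570 = n8902 := d34_1 D10570 (iv D8902) D8901
def n10571 : Q := act 7 n8902
theorem D10571 : act 7 n8902 = n10571 := rfl
theorem F41224 : act 1 n10571 = n10571 := d13_1 D10571 (iv D10571) F33762
theorem F41225 : act 4 n10571 = n10571 := d28_1 D10571 (iv D10571) F33763
theorem F41226 : act 5 n10571 = n8903 := d31_1 D10571 (iv D8903) (iv F33764)
theorem F41227 : act 8 n10571 = n9468 := d35_2 D8902 D10571 (iv D9468) (iv D6909) (iv F24916)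
def n10572 : Q := act 3 n8903
theorem D10572 : act 3 n8903 = n10572 := rfl
theorem F41228 : act 1 n10572 = n10572 := d9_1 D10572 (iv D10572) F33765
theorem F41229 : act 4 n10572 = n10572 := d21_2 (iv F33766) D10572 (iv D10572) F33766 F24921
theorem F41230 : act 6 n10572 = n8906 := d23_2 (iv F33767) D10572 (iv D8906)
theorem F41231 : act 7 n10572 = n9960 := d24_2 D8903 D10572 (iv D9960) (iv D7976) F38572
theorem F41232 : act 8 n10572 = n9469 := d25_2 (iv F33768) D10572 (iv D9469)
def n10573 : Q := act 7 n8904
theorem D10573 : act 7 n8904 = n10573 := rfl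
theorem F41233 : act 1 n10573 = n10573 := d13_1 D10573 (iv D10573) F33769
theorem F41234 : act 4 n10573 = n8907 := d28_1 D10573 (iv D8907) (iv F33770)
theorem F41235 : act 6 n10573 = n8905 := d33_1 D10573 (iv D8905) (iv F33771)
theorem F41236 : act 8 n10573 = n9470 := d35_2 D8904 D10573 (iv D9470) (iv D6911) (iv F24927)
def n10574 : Q := act 3 n8905
theorem D10574 : act 3 n8905 = n10574 := rfl
theorem F41237 : act 1 n10574 = n10574 := d9_1 D10574 (iv D10574) F33772
theorem F41238 : act 5 n10574 = n8906 := d22_2 (iv F33774) D10574 (iv D8906)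
theorem F41239 : act 8 n10574 = n9471 := d25_2 (iv F33775) D10574 (iv D9471)
def n10575 : Q := act 2 n8906
theorem D10575 : act 2 n8906 = n10575 := rfl
theorem F41240 : act 4 n10575 = n10575 := d16_2 F33777 D10575 (iv D10575)
theorem F41241 : act 8 n10575 = n9472 := d20_2 (iv F33778) D10575 (iv D9472)
def n10576 : Q := act 3 n8907
theorem D10576 : act 3 n8907 = n10576 := rfl
theorem F41244 : act 6 n10576 = n8908 := d23_2 (iv F33781) D10576 (iv D8908)
theorem F41246 : act 8 n10576 = n9473 := d25_2 (iv F33782) D10576 (iv D9473)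
def n10578 : Q := act 4 n8908
theorem D10578 : act 4 n8908 = n10578 := rfl
theorem F41253 : act 8 n10578 = n9475 := d29_2 (iv F33786) D10578 (iv D9475)
def n10579 : Q := act 1 n8909
theorem D10579 : act 1 n8909 = n10579 := rfl
theorem F41258 : act 8 n10579 = n9476 := d14_2 (iv F33790) D10579 (iv D9476)
def n10591 : Q := act 4 n9002
theorem D10591 : act 4 n9002 = n10591 := rfl
theorem F41311 : act 3 n10591 = n9037 := d21_1 D10591 (iv D9037) (iv D6591) (iv F25196) D9002
def n10609 : Q := act 8 n9014
theorem D10609 : act 8 n9014 = n10609 := rfl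
theorem F41392 : act 3 n10609 = n9055 := d25_1 D10609 (iv D9055) (iv F34166)
def n10629 : Q := act 2 n9029
theorem D10629 : act 2 n9029 = n10629 := rfl
theorem F41477 : act 0 n10629 = n10629 := d1_1 D10629 (iv D10629) F34230
theorem F41478 : act 1 n10629 = n9075 := d8_1 D10629 (iv D9075) F25403 (iv F25298) (iv F34231)
theorem F41479 : act 3 n10629 = n10629 := d15_2 D9029 D10629 (iv D10629) (iv D9029) F25285
theorem F41480 : act 6 n10629 = n10629 := d18_2 F34232 D10629 (iv D10629)
def n10630 : Q := act 4 n9029
theorem D10630 : act 4 n9029 = n10630 := rfl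
theorem F41481 : act 0 n10630 = n10630 := d3_1 D10630 (iv D10630) F34230
theorem F41482 : act 1 n10630 = n9037 := d10_1 D10630 (iv D9037) (iv F34231)
theorem F41483 : act 6 n10630 = n10630 := d27_2 F34232 D10630 (iv D10630)
def n10642 : Q := act 5 n9037
theorem D10642 : act 5 n9037 = n10642 := rfl
theorem F41523 : act 2 n10642 = n9088 := d17_1 D10642 (iv D9088) (iv F34260)
def n10643 : Q := act 8 n9037
theorem D10643 : act 8 n9037 = n10643 := rfl
theorem F41525 : act 2 n10643 = n9089 := d20_1 D10643 (iv D9089) (iv F34260)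
theorem F41526 : act 4 n10643 = n9038 := d29_1 D10643 (iv D9038) D9037
def n10644 : Q := act 7 n9038
theorem D10644 : act 7 n9038 = n10644 := rfl
theorem F41529 : act 2 n10644 = n9090 := d19_1 D10644 (iv D9090) (iv F34263)
def n10663 : Q := act 8 n9052
theorem D10663 : act 8 n9052 = n10663 := rfl
theorem F41594 : act 4 n10663 = n9053 := d29_1 D10663 (iv D9053) D9052
def n10666 : Q := act 8 n9054
theorem D10666 : act 8 n9054 = n10666 := rfl
theorem F41604 : act 5 n10666 = n9055 := d32_1 D10666 (iv D9055) D9054
def n10667 : Q := act 7 n9055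
theorem D10667 : act 7 n9055 = n10667 := rfl
theorem F41606 : act 2 n10667 = n9113 := d19_1 D10667 (iv D9113) (iv F34326)
theorem F41607 : act 4 n10667 = n9056 := d28_1 D10667 (iv D9056) (iv F34327)
def n10684 : Q := act 2 n9069
theorem D10684 : act 2 n9069 = n10684 := rfl
theorem F41668 : act 0 n10684 = n9206 := d1_1 D10684 (iv D9206) (iv F34377)
theorem F41669 : act 1 n10684 = n10684 := d8_1 D10684 (iv D10684) F34378 F25412 (iv F34378)
theorem F41670 : act 3 n10684 = n10684 := d15_2 D9069 D10684 (iv D10684) (iv D9069) F25390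
theorem F41671 : act 5 n10684 = n10684 := d17_2 F34379 D10684 (iv D10684)
theorem F41672 : act 8 n10684 = n9130 := d20_2 (iv F34380) D10684 (iv D9130)
def n10685 : Q := act 6 n9069
theorem D10685 : act 6 n9069 = n10685 := rfl
theorem F41676 : act 8 n10685 = n9131 := d34_2 (iv F34380) D10685 (iv D9131)
def n10686 : Q := act 7 n9069
theorem D10686 : act 7 n9069 = n10686 := rfl
theorem F41677 : act 0 n10686 = n9208 := d6_1 D10686 (iv D9208) (iv F34377)
def n10690 : Q := act 8 n9071
theorem D10690 : act 8 n9071 = n10690 := rfl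
theorem F41699 : act 7 n10690 = n9136 := d35_1 D10690 (iv D9136) (iv D6660) (iv F25392) D9071
def n10693 : Q := act 2 n9073
theorem D10693 : act 2 n9073 = n10693 := rfl
theorem F41710 : act 0 n10693 = n9215 := d1_1 D10693 (iv D9215) (iv F34396)
theorem F41711 : act 3 n10693 = n10693 := d15_2 D9073 D10693 (iv D10693) (iv D9073) F25400
theorem F41712 : act 5 n10693 = n9075 := d17_2 (iv F34398) D10693 (iv D9075)
def n10694 : Q := act 4 n9073
theorem D10694 : act 4 n9073 = n10694 := rfl
theorem F41713 : act 0 n10694 = n9216 := d3_1 D10694 (iv D9216) (iv F34396)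
def n10695 : Q := act 8 n9073
theorem D10695 : act 8 n9073 = n10695 := rfl
theorem F41717 : act 3 n10695 = n9074 := d25_1 D10695 (iv D9074) D9073
def n10696 : Q := act 4 n9075
theorem D10696 : act 4 n9075 = n10696 := rfl
theorem F41719 : act 0 n10696 = n9218 := d3_1 D10696 (iv D9218) (iv F34404)
theorem F41720 : act 2 n10696 = n9076 := d16_1 D10696 (iv D9076) D9075
theorem F41721 : act 6 n10696 = n10696 := d27_2 F34406 D10696 (iv D10696)
def n10697 : Q := act 8 n9075
theorem D10697 : act 8 n9075 = n10697 := rfl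
theorem F41722 : act 0 n10697 = n9219 := d7_1 D10697 (iv D9219) (iv F34404)
theorem F41723 : act 2 n10697 = n9077 := d20_1 D10697 (iv D9077) D9075
theorem F41724 : act 3 n10697 = n10697 := d25_1 D10697 (iv D10697) F34405
theorem F41725 : act 6 n10697 = n10697 := d34_1 D10697 (iv D10697) F34406
def n10698 : Q := act 5 n9076
theorem D10698 : act 5 n9076 = n10698 := rfl
theorem F41726 : act 0 n10698 = n9220 := d4_1 D10698 (iv D9220) (iv F34407)
theorem F41727 : act 1 n10698 = n9088 := d11_1 D10698 (iv D9088) (iv F34408)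
theorem F41728 : act 3 n10698 = n10698 := d22_1 D10698 (iv D10698) F34409
def n10699 : Q := act 8 n9076
theorem D10699 : act 8 n9076 = n10699 := rfl
theorem F41729 : act 0 n10699 = n9221 := d7_1 D10699 (iv D9221) (iv F34407)
theorem F41730 : act 1 n10699 = n9089 := d14_1 D10699 (iv D9089) (iv F34408)
theorem F41731 : act 3 n10699 = n10699 := d25_1 D10699 (iv D10699) F34409
theorem F41732 : act 4 n10699 = n9077 := d29_1 D10699 (iv D9077) D9076
theorem F41733 : act 6 n10699 = n10699 := d34_1 D10699 (iv D10699) F34410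
def n10700 : Q := act 7 n9077
theorem D10700 : act 7 n9077 = n10700 := rfl
theorem F41734 : act 0 n10700 = n9222 := d6_1 D10700 (iv D9222) (iv F34411)
theorem F41735 : act 1 n10700 = n9090 := d13_1 D10700 (iv D9090) (iv F34412)
theorem F41736 : act 3 n10700 = n9146 := d24_1 D10700 (iv D9146) F25585 (iv F25410) (iv F34413)
theorem F41737 : act 6 n10700 = n10700 := d33_1 D10700 (iv D10700) F34414
def n10704 : Q := act 8 n9079
theorem D10704 : act 8 n9079 = n10704 := rfl
theorem F41749 : act 0 n10704 = n9099 := d7_1 D10704 (iv D9099) (iv F34419)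
theorem F41752 : act 7 n10704 = n9150 := d35_1 D10704 (iv D9150) (iv D6668) (iv F25414) D9079
def n10713 : Q := act 5 n9086
theorem D10713 : act 5 n9086 = n10713 := rfl
theorem F41780 : act 4 n10713 = n9088 := d26_1 D10713 (iv D9088) (iv D6626) (iv F25428) D9086
def n10715 : Q := act 7 n9087
theorem D10715 : act 7 n9087 = n10715 := rfl
theorem F41784 : act 3 n10715 = n9161 := d24_1 D10715 (iv D9161) F25619 (iv F25432) (iv F34448)
def n10716 : Q := act 6 n9088
theorem D10716 : act 6 n9088 = n10716 := rfl
theorem F41786 : act 0 n10716 = n9111 := d5_1 D10716 (iv D9111) (iv F34450)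
def n10717 : Q := act 8 n9088
theorem D10717 : act 8 n9088 = n10717 := rfl
theorem F41791 : act 5 n10717 = n9089 := d32_1 D10717 (iv D9089) D9088
def n10718 : Q := act 7 n9089
theorem D10718 : act 7 n9089 = n10718 := rfl
theorem F41792 : act 0 n10718 = n9113 := d6_1 D10718 (iv D9113) (iv F34452)
theorem F41793 : act 4 n10718 = n9090 := d28_1 D10718 (iv D9090) (iv F34454)
theorem F41794 : act 6 n10718 = n10718 := d33_1 D10718 (iv D10718) F34455
def n10748 : Q := act 8 n9108
theorem D10748 : act 8 n9108 = n10748 := rfl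
theorem F41894 : act 5 n10748 = n9109 := d32_1 D10748 (iv D9109) D9108
def n10750 : Q := act 8 n9111
theorem D10750 : act 8 n9111 = n10750 := rfl
theorem F41897 : act 1 n10750 = n9271 := d14_1 D10750 (iv D9271) (iv F34527)
theorem F41900 : act 6 n10750 = n9112 := d34_1 D10750 (iv D9112) D9111
def n10751 : Q := act 7 n9112
theorem D10751 : act 7 n9112 = n10751 := rfl
theorem F41901 : act 1 n10751 = n9272 := d13_1 D10751 (iv D9272) (iv F34530)
theorem F41902 : act 5 n10751 = n9113 := d31_1 D10751 (iv D9113) (iv F34532)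
def n10752 : Q := act 3 n9113
theorem D10752 : act 3 n9113 = n10752 := rfl
theorem F41903 : act 1 n10752 = n9273 := d9_1 D10752 (iv D9273) (iv F34533)
theorem F41904 : act 4 n10752 = n9197 := d21_2 (iv F34534) D10752 (iv D9197) F25714 (iv F25505)
theorem F41905 : act 6 n10752 = n10752 := d23_2 F34535 D10752 (iv D10752)
theorem F41906 : act 7 n10752 = n10752 := d24_2 D9113 D10752 (iv D10752) (iv D9113) F25501
def n10772 : Q := act 6 n9130
theorem D10772 : act 6 n9130 = n10772 := rfl
theorem F41978 : act 0 n10772 = n9288 := d5_1 D10772 (iv D9288) (iv F34595)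
theorem F41979 : act 1 n10772 = n10772 := d12_1 D10772 (iv D10772) F34596
theorem F41980 : act 2 n10772 = n9131 := d18_1 D10772 (iv D9131) D9130
theorem F41981 : act 3 n10772 = n10772 := d23_1 D10772 (iv D10772) F34597
def n10773 : Q := act 7 n9130
theorem D10773 : act 7 n9130 = n10773 := rfl
theorem F41982 : act 0 n10773 = n9289 := d6_1 D10773 (iv D9289) (iv F34595)
theorem F41983 : act 1 n10773 = n10773 := d13_1 D10773 (iv D10773) F34596
theorem F41984 : act 2 n10773 = n9132 := d19_1 D10773 (iv D9132) D9130
theorem F41985 : act 5 n10773 = n10773 := d31_1 D10773 (iv D10773) F34598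
def n10774 : Q := act 5 n9131
theorem D10774 : act 5 n9131 = n10774 := rfl
theorem F41988 : act 3 n10774 = n9133 := d22_1 D10774 (iv D9133) (iv F34601)
def n10775 : Q := act 7 n9131
theorem D10775 : act 7 n9131 = n10775 := rfl
theorem F41990 : act 0 n10775 = n9291 := d6_1 D10775 (iv D9291) (iv F34599)
theorem F41991 : act 1 n10775 = n9148 := d13_1 D10775 (iv D9148) (iv F34600)
theorem F41992 : act 6 n10775 = n9132 := d33_1 D10775 (iv D9132) D9131
def n10776 : Q := act 3 n9132
theorem D10776 : act 3 n9132 = n10776 := rfl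
theorem F41993 : act 0 n10776 = n9292 := d2_1 D10776 (iv D9292) (iv F34602)
theorem F41994 : act 1 n10776 = n9149 := d9_1 D10776 (iv D9149) (iv F34603)
theorem F41995 : act 5 n10776 = n10776 := d22_2 F34604 D10776 (iv D10776)
theorem F41996 : act 7 n10776 = n9135 := d24_2 D9132 D10776 (iv D9135) (iv D6660) D6658
def n10777 : Q := act 8 n9132
theorem D10777 : act 8 n9132 = n10777 := rfl
theorem F41997 : act 0 n10777 = n9293 := d7_1 D10777 (iv D9293) (iv F34602)
theorem F41998 : act 1 n10777 = n9150 := d14_1 D10777 (iv D9150) (iv F34603)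
theorem F41999 : act 5 n10777 = n10777 := d32_1 D10777 (iv D10777) F34604
def n10778 : Q := act 7 n9133
theorem D10778 : act 7 n9133 = n10778 := rfl
theorem F42004 : act 5 n10778 = n9134 := d31_1 D10778 (iv D9134) D9133
def n10781 : Q := act 2 n9135
theorem D10781 : act 2 n9135 = n10781 := rfl
theorem F42014 : act 0 n10781 = n9297 := d1_1 D10781 (iv D9297) (iv F34615)
theorem F42015 : act 3 n10781 = n10781 := d15_2 D9135 D10781 (iv D10781) (iv D9135) F25560
theorem F42016 : act 5 n10781 = n10781 := d17_2 F34617 D10781 (iv D10781)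
def n10782 : Q := act 4 n9135
theorem D10782 : act 4 n9135 = n10782 := rfl
theorem F42017 : act 0 n10782 = n9298 := d3_1 D10782 (iv D9298) (iv F34615)
theorem F42018 : act 1 n10782 = n9155 := d10_1 D10782 (iv D9155) (iv F34616)
theorem F42019 : act 3 n10782 = n9140 := d21_1 D10782 (iv D9140) (iv D6662) (iv F25561) D9135
def n10783 : Q := act 8 n9135
theorem D10783 : act 8 n9135 = n10783 := rfl
theorem F42020 : act 0 n10783 = n9299 := d7_1 D10783 (iv D9299) (iv F34615)
theorem F42022 : act 3 n10783 = n9136 := d25_1 D10783 (iv D9136) D9135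
def n10784 : Q := act 2 n9137
theorem D10784 : act 2 n9137 = n10784 := rfl
theorem F42024 : act 0 n10784 = n9300 := d1_1 D10784 (iv D9300) (iv F34623)
theorem F42025 : act 1 n10784 = n10784 := d8_1 D10784 (iv D10784) F34624 F25608 (iv F34624)
theorem F42026 : act 3 n10784 = n10784 := d15_2 D9137 D10784 (iv D10784) (iv D9137) F25565
theorem F42027 : act 5 n10784 = n10784 := d17_2 F34625 D10784 (iv D10784)
theorem F42028 : act 6 n10784 = n9139 := d18_2 (iv F34626) D10784 (iv D9139)
def n10785 : Q := act 4 n9137
theorem D10785 : act 4 n9137 = n10785 := rfl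
theorem F42029 : act 0 n10785 = n9301 := d3_1 D10785 (iv D9301) (iv F34623)
theorem F42030 : act 1 n10785 = n9157 := d10_1 D10785 (iv D9157) (iv F34624)
theorem F42031 : act 6 n10785 = n9140 := d27_2 (iv F34626) D10785 (iv D9140)
def n10786 : Q := act 8 n9137
theorem D10786 : act 8 n9137 = n10786 := rfl
def n10787 : Q := act 4 n9139
theorem D10787 : act 4 n9139 = n10787 := rfl
theorem F42037 : act 0 n10787 = n9303 := d3_1 D10787 (iv D9303) (iv F34632)
theorem F42038 : act 1 n10787 = n10787 := d10_1 D10787 (iv D10787) F34633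
theorem F42039 : act 2 n10787 = n9140 := d16_1 D10787 (iv D9140) D9139
def n10788 : Q := act 8 n9139
theorem D10788 : act 8 n9139 = n10788 := rfl
theorem F42040 : act 0 n10788 = n9304 := d7_1 D10788 (iv D9304) (iv F34632)
theorem F42041 : act 1 n10788 = n10788 := d14_1 D10788 (iv D10788) F34633
theorem F42042 : act 2 n10788 = n9141 := d20_1 D10788 (iv D9141) D9139
theorem F42043 : act 3 n10788 = n10788 := d25_1 D10788 (iv D10788) F34634
theorem F42044 : act 5 n10788 = n9143 := d32_1 D10788 (iv D9143) (iv F34635)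
def n10789 : Q := act 5 n9140
theorem D10789 : act 5 n9140 = n10789 := rfl
theorem F42045 : act 0 n10789 = n9305 := d4_1 D10789 (iv D9305) (iv F34636)
theorem F42046 : act 1 n10789 = n9159 := d11_1 D10789 (iv D9159) (iv F34637)
theorem F42047 : act 4 n10789 = n9144 := d26_1 D10789 (iv D9144) (iv D6665) (iv F25570) D9140
def n10790 : Q := act 8 n9140
theorem D10790 : act 8 n9140 = n10790 := rfl
theorem F42048 : act 0 n10790 = n9306 := d7_1 D10790 (iv D9306) (iv F34636)
theorem F42049 : act 1 n10790 = n9160 := d14_1 D10790 (iv D9160) (iv F34637)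
theorem F42050 : act 4 n10790 = n9141 := d29_1 D10790 (iv D9141) D9140
def n10791 : Q := act 7 n9141
theorem D10791 : act 7 n9141 = n10791 := rfl
theorem F42051 : act 0 n10791 = n9307 := d6_1 D10791 (iv D9307) (iv F34638)
theorem F42052 : act 1 n10791 = n9161 := d13_1 D10791 (iv D9161) (iv F34639)
theorem F42053 : act 5 n10791 = n9146 := d31_1 D10791 (iv D9146) (iv F34641)
def n10792 : Q := act 3 n9142
theorem D10792 : act 3 n9142 = n10792 := rfl
theorem F42054 : act 0 n10792 = n9308 := d2_1 D10792 (iv D9308) (iv F34642)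
theorem F42055 : act 1 n10792 = n10792 := d9_1 D10792 (iv D10792) F34643
theorem F42056 : act 2 n10792 = n10792 := d15_1 D10792 (iv D10792) F34644 F25581 (iv F34644)
theorem F42057 : act 4 n10792 = n10792 := d21_2 D9142 D10792 (iv D10792) (iv D9142) F25577
theorem F42058 : act 6 n10792 = n10792 := d23_2 F34645 D10792 (iv D10792)
def n10793 : Q := act 5 n9142
theorem D10793 : act 5 n9142 = n10793 := rfl
theorem F42059 : act 0 n10793 = n9309 := d4_1 D10793 (iv D9309) (iv F34642)
theorem F42060 : act 1 n10793 = n10793 := d11_1 D10793 (iv D10793) F34643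
theorem F42061 : act 2 n10793 = n9144 := d17_1 D10793 (iv D9144) (iv F34644)
def n10794 : Q := act 8 n9142
theorem D10794 : act 8 n9142 = n10794 := rfl
theorem F42062 : act 0 n10794 = n9310 := d7_1 D10794 (iv D9310) (iv F34642)
theorem F42063 : act 1 n10794 = n10794 := d14_1 D10794 (iv D10794) F34643
theorem F42064 : act 2 n10794 = n9145 := d20_1 D10794 (iv D9145) (iv F34644)
theorem F42065 : act 4 n10794 = n9143 := d29_1 D10794 (iv D9143) D9142
theorem F42066 : act 6 n10794 = n10794 := d34_1 D10794 (iv D10794) F34645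
def n10795 : Q := act 7 n9143
theorem D10795 : act 7 n9143 = n10795 := rfl
theorem F42067 : act 0 n10795 = n9311 := d6_1 D10795 (iv D9311) (iv F34646)
theorem F42068 : act 1 n10795 = n10795 := d13_1 D10795 (iv D10795) F34647
theorem F42069 : act 2 n10795 = n9146 := d19_1 D10795 (iv D9146) (iv F34648)
theorem F42070 : act 6 n10795 = n10795 := d33_1 D10795 (iv D10795) F34650
def n10796 : Q := act 6 n9144
theorem D10796 : act 6 n9144 = n10796 := rfl
theorem F42071 : act 0 n10796 = n9312 := d5_1 D10796 (iv D9312) (iv F34651)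
theorem F42072 : act 1 n10796 = n9162 := d12_1 D10796 (iv D9162) (iv F34652)
theorem F42073 : act 3 n10796 = n10796 := d23_1 D10796 (iv D10796) F34653
theorem F42074 : act 5 n10796 = n10796 := d30_1 D10796 (iv D10796) (iv D9144) F25582 D9144
def n10797 : Q := act 8 n9144
theorem D10797 : act 8 n9144 = n10797 := rfl
theorem F42075 : act 0 n10797 = n9313 := d7_1 D10797 (iv D9313) (iv F34651)
theorem F42076 : act 1 n10797 = n9163 := d14_1 D10797 (iv D9163) (iv F34652)
theorem F42077 : act 3 n10797 = n10797 := d25_1 D10797 (iv D10797) F34653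
theorem F42078 : act 5 n10797 = n9145 := d32_1 D10797 (iv D9145) D9144
def n10798 : Q := act 7 n9145
theorem D10798 : act 7 n9145 = n10798 := rfl
theorem F42079 : act 0 n10798 = n9314 := d6_1 D10798 (iv D9314) (iv F34654)
theorem F42080 : act 1 n10798 = n9164 := d13_1 D10798 (iv D9164) (iv F34655)
theorem F42081 : act 4 n10798 = n9146 := d28_1 D10798 (iv D9146) (iv F34657)
theorem F42082 : act 6 n10798 = n10798 := d33_1 D10798 (iv D10798) F34658
def n10800 : Q := act 7 n9147
theorem D10800 : act 7 n9147 = n10800 := rfl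
theorem F42089 : act 5 n10800 = n9148 := d31_1 D10800 (iv D9148) D9147
def n10801 : Q := act 3 n9148
theorem D10801 : act 3 n9148 = n10801 := rfl
theorem F42093 : act 7 n10801 = n9152 := d24_2 D9148 D10801 (iv D9152) (iv D6670) (iv F25589)
def n10802 : Q := act 8 n9148
theorem D10802 : act 8 n9148 = n10802 := rfl
theorem F42096 : act 6 n10802 = n9150 := d34_1 D10802 (iv D9150) (iv F34668)
def n10803 : Q := act 2 n9149
theorem D10803 : act 2 n9149 = n10803 := rfl
theorem F42100 : act 7 n10803 = n9154 := d19_2 (iv F34671) D10803 (iv D9154)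
def n10804 : Q := act 4 n9149
theorem D10804 : act 4 n9149 = n10804 := rfl
theorem F42101 : act 0 n10804 = n9177 := d3_1 D10804 (iv D9177) (iv F34669)
theorem F42102 : act 7 n10804 = n9155 := d28_2 (iv F34671) D10804 (iv D9155)
def n10805 : Q := act 8 n9149
theorem D10805 : act 8 n9149 = n10805 := rfl
theorem F42104 : act 3 n10805 = n9150 := d25_1 D10805 (iv D9150) D9149
def n10808 : Q := act 2 n9152
theorem D10808 : act 2 n9152 = n10808 := rfl
theorem F42115 : act 3 n10808 = n9167 := d15_2 D9152 D10808 (iv D9167) (iv D6681) (iv F25598)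
theorem F42116 : act 6 n10808 = n9154 := d18_2 (iv F34681) D10808 (iv D9154)
def n10809 : Q := act 4 n9152
theorem D10809 : act 4 n9152 = n10809 := rfl
theorem F42118 : act 3 n10809 = n9157 := d21_1 D10809 (iv D9157) (iv D6673) (iv F25599) D9152
theorem F42119 : act 6 n10809 = n9155 := d27_2 (iv F34681) D10809 (iv D9155)
def n10812 : Q := act 4 n9154
theorem D10812 : act 4 n9154 = n10812 := rfl
theorem F42127 : act 2 n10812 = n9155 := d16_1 D10812 (iv D9155) D9154
def n10814 : Q := act 5 n9155
theorem D10814 : act 5 n9155 = n10814 := rfl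
theorem F42133 : act 0 n10814 = n9186 := d4_1 D10814 (iv D9186) (iv F34689)
theorem F42134 : act 3 n10814 = n9159 := d22_1 D10814 (iv D9159) (iv F34690)
theorem F42135 : act 4 n10814 = n10814 := d26_1 D10814 (iv D10814) (iv D9155) F25602 D9155
def n10817 : Q := act 5 n9157
theorem D10817 : act 5 n9157 = n10817 := rfl
theorem F42141 : act 0 n10817 = n9189 := d4_1 D10817 (iv D9189) (iv F34694)
theorem F42142 : act 2 n10817 = n10817 := d17_1 D10817 (iv D10817) F34695
theorem F42143 : act 4 n10817 = n10817 := d26_1 D10817 (iv D10817) (iv D9157) F25609 D9157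
def n10818 : Q := act 8 n9157
theorem D10818 : act 8 n9157 = n10818 := rfl
def n10820 : Q := act 6 n9159
theorem D10820 : act 6 n9159 = n10820 := rfl
theorem F42152 : act 0 n10820 = n9192 := d5_1 D10820 (iv D9192) (iv F34702)
theorem F42153 : act 2 n10820 = n10820 := d18_1 D10820 (iv D10820) F34703
theorem F42154 : act 4 n10820 = n9162 := d27_1 D10820 (iv D9162) (iv F34704)
def n10821 : Q := act 8 n9159
theorem D10821 : act 8 n9159 = n10821 := rfl
theorem F42155 : act 0 n10821 = n9193 := d7_1 D10821 (iv D9193) (iv F34702)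
theorem F42156 : act 2 n10821 = n10821 := d20_1 D10821 (iv D10821) F34703
theorem F42157 : act 4 n10821 = n9163 := d29_1 D10821 (iv D9163) (iv F34704)
theorem F42158 : act 5 n10821 = n9160 := d32_1 D10821 (iv D9160) D9159
def n10822 : Q := act 7 n9160
theorem D10822 : act 7 n9160 = n10822 := rfl
theorem F42159 : act 0 n10822 = n9194 := d6_1 D10822 (iv D9194) (iv F34705)
theorem F42160 : act 2 n10822 = n10822 := d19_1 D10822 (iv D10822) F34706
theorem F42161 : act 4 n10822 = n9161 := d28_1 D10822 (iv D9161) (iv F34707)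
def n10823 : Q := act 8 n9162
theorem D10823 : act 8 n9162 = n10823 := rfl
theorem F42162 : act 0 n10823 = n9195 := d7_1 D10823 (iv D9195) (iv F34711)
theorem F42163 : act 2 n10823 = n10823 := d20_1 D10823 (iv D10823) F34712
theorem F42164 : act 3 n10823 = n10823 := d25_1 D10823 (iv D10823) F34713
theorem F42165 : act 5 n10823 = n10823 := d32_1 D10823 (iv D10823) F34714
theorem F42166 : act 6 n10823 = n9163 := d34_1 D10823 (iv D9163) D9162
def n10824 : Q := act 7 n9163
theorem D10824 : act 7 n9163 = n10824 := rfl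
theorem F42167 : act 0 n10824 = n9196 := d6_1 D10824 (iv D9196) (iv F34715)
theorem F42168 : act 2 n10824 = n10824 := d19_1 D10824 (iv D10824) F34716
theorem F42169 : act 5 n10824 = n9164 := d31_1 D10824 (iv D9164) (iv F34718)
def n10825 : Q := act 3 n9164
theorem D10825 : act 3 n9164 = n10825 := rfl
theorem F42170 : act 0 n10825 = n9197 := d2_1 D10825 (iv D9197) (iv F34719)
theorem F42171 : act 6 n10825 = n10825 := d23_2 F34722 D10825 (iv D10825)
theorem F42172 : act 7 n10825 = n10825 := d24_2 D9164 D10825 (iv D10825) (iv D9164) F25626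
def n10835 : Q := act 3 n9173
theorem D10835 : act 3 n9173 = n10835 := rfl
theorem F42219 : act 7 n10835 = n9179 := d24_2 D9173 D10835 (iv D9179) (iv D6689) (iv F25657)
def n10840 : Q := act 4 n9176
theorem D10840 : act 4 n9176 = n10840 := rfl
theorem F42235 : act 2 n10840 = n9177 := d16_1 D10840 (iv D9177) D9176
theorem F42236 : act 7 n10840 = n9184 := d28_2 (iv F34773) D10840 (iv D9184)
def n10842 : Q := act 5 n9177
theorem D10842 : act 5 n9177 = n10842 := rfl
theorem F42241 : act 1 n10842 = n9342 := d11_1 D10842 (iv D9342) (iv F34774)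
theorem F42242 : act 4 n10842 = n10842 := d26_1 D10842 (iv D10842) (iv D9177) F25663 D9177
theorem F42243 : act 7 n10842 = n9186 := d31_2 (iv F34775) D10842 (iv D9186)
def n10843 : Q := act 8 n9177
theorem D10843 : act 8 n9177 = n10843 := rfl
theorem F42244 : act 1 n10843 = n9343 := d14_1 D10843 (iv D9343) (iv F34774)
def n10844 : Q := act 7 n9178
theorem D10844 : act 7 n9178 = n10844 := rfl
theorem F42248 : act 8 n10844 = n9188 := d35_2 D9178 D10844 (iv D9188) (iv D6694) (iv F25664)
def n10850 : Q := act 5 n9182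
theorem D10850 : act 5 n9182 = n10850 := rfl
theorem F42269 : act 3 n10850 = n9189 := d22_1 D10850 (iv D9189) (iv F34791)
def n10853 : Q := act 5 n9184
theorem D10853 : act 5 n9184 = n10853 := rfl
theorem F42277 : act 2 n10853 = n9186 := d17_1 D10853 (iv D9186) (iv F34797)
def n10854 : Q := act 8 n9184
theorem D10854 : act 8 n9184 = n10854 := rfl
theorem F42281 : act 2 n10854 = n9187 := d20_1 D10854 (iv D9187) (iv F34797)
theorem F42283 : act 4 n10854 = n9185 := d29_1 D10854 (iv D9185) D9184
def n10856 : Q := act 6 n9186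
theorem D10856 : act 6 n9186 = n10856 := rfl
theorem F42287 : act 1 n10856 = n9350 := d12_1 D10856 (iv D9350) (iv F34803)
theorem F42288 : act 3 n10856 = n9192 := d23_1 D10856 (iv D9192) (iv F34804)
theorem F42289 : act 4 n10856 = n10856 := d27_1 D10856 (iv D10856) F34805
def n10857 : Q := act 8 n9186
theorem D10857 : act 8 n9186 = n10857 := rfl
theorem F42290 : act 1 n10857 = n9351 := d14_1 D10857 (iv D9351) (iv F34803)
theorem F42291 : act 3 n10857 = n9193 := d25_1 D10857 (iv D9193) (iv F34804)
theorem F42293 : act 5 n10857 = n9187 := d32_1 D10857 (iv D9187) D9186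
def n10859 : Q := act 6 n9189
theorem D10859 : act 6 n9189 = n10859 := rfl
theorem F42296 : act 1 n10859 = n9353 := d12_1 D10859 (iv D9353) (iv F34811)
theorem F42297 : act 2 n10859 = n10859 := d18_1 D10859 (iv D10859) F34812
theorem F42298 : act 4 n10859 = n10859 := d27_1 D10859 (iv D10859) F34813
theorem F42299 : act 5 n10859 = n9192 := d30_1 D10859 (iv D9192) (iv D6697) (iv F25689) D9189
def n10860 : Q := act 8 n9189
theorem D10860 : act 8 n9189 = n10860 := rfl
def n10862 : Q := act 8 n9192
theorem D10862 : act 8 n9192 = n10862 := rfl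
theorem F42308 : act 1 n10862 = n9356 := d14_1 D10862 (iv D9356) (iv F34822)
theorem F42309 : act 2 n10862 = n10862 := d20_1 D10862 (iv D10862) F34823
theorem F42310 : act 4 n10862 = n9195 := d29_1 D10862 (iv D9195) (iv F34824)
theorem F42311 : act 6 n10862 = n9193 := d34_1 D10862 (iv D9193) D9192
def n10863 : Q := act 7 n9193
theorem D10863 : act 7 n9193 = n10863 := rfl
theorem F42312 : act 1 n10863 = n9357 := d13_1 D10863 (iv D9357) (iv F34825)
theorem F42313 : act 2 n10863 = n10863 := d19_1 D10863 (iv D10863) F34826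
theorem F42314 : act 4 n10863 = n9196 := d28_1 D10863 (iv D9196) (iv F34827)
theorem F42315 : act 5 n10863 = n9194 := d31_1 D10863 (iv D9194) (iv F34828)
def n10864 : Q := act 3 n9194
theorem D10864 : act 3 n9194 = n10864 := rfl
theorem F42316 : act 1 n10864 = n9358 := d9_1 D10864 (iv D9358) (iv F34829)
def n10865 : Q := act 7 n9195
theorem D10865 : act 7 n9195 = n10865 := rfl
theorem F42317 : act 1 n10865 = n9359 := d13_1 D10865 (iv D9359) (iv F34832)
theorem F42318 : act 2 n10865 = n10865 := d19_1 D10865 (iv D10865) F34833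
theorem F42319 : act 5 n10865 = n10865 := d31_1 D10865 (iv D10865) F34835
theorem F42320 : act 6 n10865 = n9196 := d33_1 D10865 (iv D9196) (iv F34836)
def n10866 : Q := act 3 n9196
theorem D10866 : act 3 n9196 = n10866 := rfl
theorem F42321 : act 1 n10866 = n9360 := d9_1 D10866 (iv D9360) (iv F34837)
theorem F42322 : act 5 n10866 = n9197 := d22_2 (iv F34839) D10866 (iv D9197)
theorem F42323 : act 7 n10866 = n10866 := d24_2 D9196 D10866 (iv D10866) (iv D9196) F25710
def n10867 : Q := act 2 n9197
theorem D10867 : act 2 n9197 = n10867 := rfl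
theorem F42324 : act 3 n10867 = n10867 := d15_2 D9197 D10867 (iv D10867) (iv D9197) F25713
theorem F42325 : act 6 n10867 = n10867 := d18_2 F34841 D10867 (iv D10867)
theorem F42326 : act 7 n10867 = n10867 := d19_2 F34842 D10867 (iv D10867)
def n10875 : Q := act 6 n9206
theorem D10875 : act 6 n9206 = n10875 := rfl
theorem F42359 : act 1 n10875 = n9362 := d12_1 D10875 (iv D9362) (iv F34880)
theorem F42360 : act 2 n10875 = n9207 := d18_1 D10875 (iv D9207) D9206
theorem F42362 : act 8 n10875 = n9288 := d34_2 (iv F34883) D10875 (iv D9288)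
def n10876 : Q := act 7 n9206
theorem D10876 : act 7 n9206 = n10876 := rfl
theorem F42363 : act 1 n10876 = n9363 := d13_1 D10876 (iv D9363) (iv F34880)
theorem F42364 : act 2 n10876 = n9208 := d19_1 D10876 (iv D9208) D9206
theorem F42365 : act 5 n10876 = n10876 := d31_1 D10876 (iv D10876) F34882
def n10878 : Q := act 7 n9207
theorem D10878 : act 7 n9207 = n10878 := rfl
theorem F42371 : act 6 n10878 = n9208 := d33_1 D10878 (iv D9208) D9207
def n10879 : Q := act 3 n9208
theorem D10879 : act 3 n9208 = n10879 := rfl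
theorem F42374 : act 7 n10879 = n9211 := d24_2 D9208 D10879 (iv D9211) (iv D6714) D6712
def n10880 : Q := act 8 n9208
theorem D10880 : act 8 n9208 = n10880 := rfl
theorem F42375 : act 1 n10880 = n9226 := d14_1 D10880 (iv D9226) (iv F34887)
theorem F42376 : act 5 n10880 = n10880 := d32_1 D10880 (iv D10880) F34888
theorem F42377 : act 7 n10880 = n9293 := d35_1 D10880 (iv D9293) (iv D6772) (iv F25758) D9208
def n10885 : Q := act 4 n9211
theorem D10885 : act 4 n9211 = n10885 := rfl
theorem F42393 : act 3 n10885 = n9216 := d21_1 D10885 (iv D9216) (iv D6716) (iv F25765) D9211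
def n10886 : Q := act 8 n9211
theorem D10886 : act 8 n9211 = n10886 := rfl
theorem F42395 : act 3 n10886 = n9212 := d25_1 D10886 (iv D9212) D9211
def n10887 : Q := act 2 n9213
theorem D10887 : act 2 n9213 = n10887 := rfl
theorem F42400 : act 6 n10887 = n9215 := d18_2 (iv F34907) D10887 (iv D9215)
def n10888 : Q := act 4 n9213
theorem D10888 : act 4 n9213 = n10888 := rfl
theorem F42402 : act 6 n10888 = n9216 := d27_2 (iv F34907) D10888 (iv D9216)
def n10890 : Q := act 4 n9215
theorem D10890 : act 4 n9215 = n10890 := rfl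
theorem F42407 : act 1 n10890 = n10890 := d10_1 D10890 (iv D10890) F34913
theorem F42408 : act 2 n10890 = n9216 := d16_1 D10890 (iv D9216) D9215
def n10891 : Q := act 8 n9215
theorem D10891 : act 8 n9215 = n10891 := rfl
theorem F42410 : act 2 n10891 = n9217 := d20_1 D10891 (iv D9217) D9215
theorem F42412 : act 5 n10891 = n9219 := d32_1 D10891 (iv D9219) (iv F34915)
def n10892 : Q := act 5 n9216
theorem D10892 : act 5 n9216 = n10892 := rfl
theorem F42413 : act 1 n10892 = n9235 := d11_1 D10892 (iv D9235) (iv F34916)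
theorem F42414 : act 4 n10892 = n9220 := d26_1 D10892 (iv D9220) (iv D6719) (iv F25772) D9216
def n10893 : Q := act 8 n9216
theorem D10893 : act 8 n9216 = n10893 := rfl
theorem F42416 : act 4 n10893 = n9217 := d29_1 D10893 (iv D9217) D9216
def n10894 : Q := act 7 n9217
theorem D10894 : act 7 n9217 = n10894 := rfl
theorem F42417 : act 1 n10894 = n9237 := d13_1 D10894 (iv D9237) (iv F34917)
theorem F42418 : act 3 n10894 = n9307 := d24_1 D10894 (iv D9307) F25996 (iv F25776) (iv F34918)
theorem F42419 : act 5 n10894 = n9222 := d31_1 D10894 (iv D9222) (iv F34919)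
def n10895 : Q := act 3 n9218
theorem D10895 : act 3 n9218 = n10895 := rfl
theorem F42420 : act 1 n10895 = n10895 := d9_1 D10895 (iv D10895) F34920
theorem F42421 : act 2 n10895 = n10895 := d15_1 D10895 (iv D10895) F34921 F25781 (iv F34921)
theorem F42422 : act 4 n10895 = n10895 := d21_2 D9218 D10895 (iv D10895) (iv D9218) F25778
theorem F42423 : act 6 n10895 = n10895 := d23_2 F34922 D10895 (iv D10895)
def n10896 : Q := act 5 n9218
theorem D10896 : act 5 n9218 = n10896 := rfl
theorem F42424 : act 1 n10896 = n10896 := d11_1 D10896 (iv D10896) F34920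
theorem F42425 : act 2 n10896 = n9220 := d17_1 D10896 (iv D9220) (iv F34921)
def n10897 : Q := act 8 n9218
theorem D10897 : act 8 n9218 = n10897 := rfl
theorem F42426 : act 1 n10897 = n10897 := d14_1 D10897 (iv D10897) F34920
theorem F42427 : act 2 n10897 = n9221 := d20_1 D10897 (iv D9221) (iv F34921)
theorem F42428 : act 4 n10897 = n9219 := d29_1 D10897 (iv D9219) D9218
theorem F42429 : act 6 n10897 = n10897 := d34_1 D10897 (iv D10897) F34922
def n10898 : Q := act 7 n9219
theorem D10898 : act 7 n9219 = n10898 := rfl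
theorem F42430 : act 1 n10898 = n10898 := d13_1 D10898 (iv D10898) F34923
theorem F42431 : act 2 n10898 = n9222 := d19_1 D10898 (iv D9222) (iv F34924)
theorem F42432 : act 6 n10898 = n10898 := d33_1 D10898 (iv D10898) F34926
def n10899 : Q := act 6 n9220
theorem D10899 : act 6 n9220 = n10899 := rfl
theorem F42433 : act 1 n10899 = n9238 := d12_1 D10899 (iv D9238) (iv F34927)
theorem F42434 : act 3 n10899 = n10899 := d23_1 D10899 (iv D10899) F34928
theorem F42435 : act 5 n10899 = n10899 := d30_1 D10899 (iv D10899) (iv D9220) F25782 D9220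
def n10900 : Q := act 8 n9220
theorem D10900 : act 8 n9220 = n10900 := rfl
theorem F42436 : act 1 n10900 = n9239 := d14_1 D10900 (iv D9239) (iv F34927)
theorem F42437 : act 3 n10900 = n10900 := d25_1 D10900 (iv D10900) F34928
theorem F42438 : act 5 n10900 = n9221 := d32_1 D10900 (iv D9221) D9220
def n10901 : Q := act 7 n9221
theorem D10901 : act 7 n9221 = n10901 := rfl
theorem F42439 : act 1 n10901 = n9240 := d13_1 D10901 (iv D9240) (iv F34929)
theorem F42440 : act 4 n10901 = n9222 := d28_1 D10901 (iv D9222) (iv F34931)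
theorem F42441 : act 6 n10901 = n10901 := d33_1 D10901 (iv D10901) F34932
def n10904 : Q := act 3 n9224
theorem D10904 : act 3 n9224 = n10904 := rfl
theorem F42453 : act 7 n10904 = n9228 := d24_2 D9224 D10904 (iv D9228) (iv D6724) (iv F25788)
def n10905 : Q := act 8 n9224
theorem D10905 : act 8 n9224 = n10905 := rfl
theorem F42454 : act 0 n10905 = n9250 := d7_1 D10905 (iv D9250) (iv F34941)
theorem F42455 : act 2 n10905 = n9382 := d20_1 D10905 (iv D9382) (iv F34942)
theorem F42456 : act 6 n10905 = n9226 := d34_1 D10905 (iv D9226) (iv F34943)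
theorem F42457 : act 7 n10905 = n9318 := d35_1 D10905 (iv D9318) (iv D6788) (iv F25789) D9224
def n10906 : Q := act 2 n9225
theorem D10906 : act 2 n9225 = n10906 := rfl
theorem F42459 : act 3 n10906 = n9383 := d15_2 D9225 D10906 (iv D9383) (iv D6840) (iv F25791)
theorem F42461 : act 7 n10906 = n9230 := d19_2 (iv F34946) D10906 (iv D9230)
def n10908 : Q := act 8 n9225
theorem D10908 : act 8 n9225 = n10908 := rfl
theorem F42464 : act 0 n10908 = n9253 := d7_1 D10908 (iv D9253) (iv F34944)
theorem F42465 : act 3 n10908 = n9226 := d25_1 D10908 (iv D9226) D9225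
def n10910 : Q := act 8 n9227
theorem D10910 : act 8 n9227 = n10910 := rfl
theorem F42475 : act 7 n10910 = n9322 := d35_1 D10910 (iv D9322) (iv D6791) (iv F25797) D9227
def n10913 : Q := act 8 n9228
theorem D10913 : act 8 n9228 = n10913 := rfl
theorem F42483 : act 3 n10913 = n9229 := d25_1 D10913 (iv D9229) D9228
def n10916 : Q := act 8 n9230
theorem D10916 : act 8 n9230 = n10916 := rfl
theorem F42491 : act 2 n10916 = n9232 := d20_1 D10916 (iv D9232) D9230
def n10917 : Q := act 5 n9231
theorem D10917 : act 5 n9231 = n10917 := rfl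
theorem F42495 : act 3 n10917 = n9235 := d22_1 D10917 (iv D9235) (iv F34967)
def n10918 : Q := act 8 n9231
theorem D10918 : act 8 n9231 = n10918 := rfl
theorem F42499 : act 4 n10918 = n9232 := d29_1 D10918 (iv D9232) D9231
def n10921 : Q := act 8 n9233
theorem D10921 : act 8 n9233 = n10921 := rfl
theorem F42508 : act 4 n10921 = n9234 := d29_1 D10921 (iv D9234) D9233
def n10923 : Q := act 6 n9235
theorem D10923 : act 6 n9235 = n10923 := rfl
theorem F42515 : act 0 n10923 = n9268 := d5_1 D10923 (iv D9268) (iv F34979)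
theorem F42517 : act 4 n10923 = n9238 := d27_1 D10923 (iv D9238) (iv F34981)
def n10924 : Q := act 8 n9235
theorem D10924 : act 8 n9235 = n10924 := rfl
theorem F42520 : act 4 n10924 = n9239 := d29_1 D10924 (iv D9239) (iv F34981)
theorem F42521 : act 5 n10924 = n9236 := d32_1 D10924 (iv D9236) D9235
def n10926 : Q := act 8 n9238
theorem D10926 : act 8 n9238 = n10926 := rfl
theorem F42525 : act 0 n10926 = n9271 := d7_1 D10926 (iv D9271) (iv F34989)
theorem F42526 : act 2 n10926 = n10926 := d20_1 D10926 (iv D10926) F34990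
theorem F42527 : act 3 n10926 = n10926 := d25_1 D10926 (iv D10926) F34991
theorem F42528 : act 5 n10926 = n10926 := d32_1 D10926 (iv D10926) F34992
theorem F42529 : act 6 n10926 = n9239 := d34_1 D10926 (iv D9239) D9238
def n10927 : Q := act 7 n9239
theorem D10927 : act 7 n9239 = n10927 := rfl
theorem F42530 : act 0 n10927 = n9272 := d6_1 D10927 (iv D9272) (iv F34993)
theorem F42531 : act 2 n10927 = n10927 := d19_1 D10927 (iv D10927) F34994
theorem F42532 : act 5 n10927 = n9240 := d31_1 D10927 (iv D9240) (iv F34996)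
def n10928 : Q := act 3 n9240
theorem D10928 : act 3 n9240 = n10928 := rfl
theorem F42533 : act 0 n10928 = n9273 := d2_1 D10928 (iv D9273) (iv F34997)
theorem F42534 : act 4 n10928 = n9336 := d21_2 (iv F34999) D10928 (iv D9336) F26073 (iv F25834)
theorem F42535 : act 6 n10928 = n10928 := d23_2 F35000 D10928 (iv D10928)
theorem F42536 : act 7 n10928 = n10928 := d24_2 D9240 D10928 (iv D10928) (iv D9240) F25829
def n10930 : Q := act 4 n9241
theorem D10930 : act 4 n9241 = n10930 := rfl
theorem F42546 : act 7 n10930 = n9395 := d28_2 (iv F35005) D10930 (iv D9395)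
def n10931 : Q := act 8 n9241
theorem D10931 : act 8 n9241 = n10931 := rfl
theorem F42549 : act 3 n10931 = n9242 := d25_1 D10931 (iv D9242) D9241
def n10933 : Q := act 8 n9243
theorem D10933 : act 8 n9243 = n10933 := rfl
theorem F42558 : act 2 n10933 = n9244 := d20_1 D10933 (iv D9244) D9243
def n10935 : Q := act 8 n9245
theorem D10935 : act 8 n9245 = n10935 := rfl
theorem F42567 : act 1 n10935 = n9246 := d14_1 D10935 (iv D9246) D9245
def n10944 : Q := act 8 n9251
theorem D10944 : act 8 n9251 = n10944 := rfl
theorem F42594 : act 2 n10944 = n9253 := d20_1 D10944 (iv D9253) D9251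
theorem F42595 : act 3 n10944 = n9406 := d25_1 D10944 (iv D9406) (iv F35043)
def n10947 : Q := act 7 n9253
theorem D10947 : act 7 n9253 = n10947 := rfl
theorem F42602 : act 8 n10947 = n9264 := d35_2 D9253 D10947 (iv D9264) (iv D6748) (iv F25868)
def n10969 : Q := act 8 n9268
theorem D10969 : act 8 n9268 = n10969 := rfl
theorem F42658 : act 6 n10969 = n9269 := d34_1 D10969 (iv D9269) D9268
def n10970 : Q := act 7 n9269
theorem D10970 : act 7 n9269 = n10970 := rfl
theorem F42660 : act 4 n10970 = n9272 := d28_1 D10970 (iv D9272) (iv F35087)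
theorem F42661 : act 5 n10970 = n9270 := d31_1 D10970 (iv D9270) (iv F35088)
def n10971 : Q := act 3 n9270
theorem D10971 : act 3 n9270 = n10971 := rfl
theorem F42662 : act 4 n10971 = n9358 := d21_2 (iv F35090) D10971 (iv D9358) F26132 (iv F25897)
def n10972 : Q := act 7 n9271
theorem D10972 : act 7 n9271 = n10972 := rfl
theorem F42663 : act 2 n10972 = n10972 := d19_1 D10972 (iv D10972) F35091
theorem F42664 : act 5 n10972 = n10972 := d31_1 D10972 (iv D10972) F35093
theorem F42665 : act 6 n10972 = n9272 := d33_1 D10972 (iv D9272) (iv F35094)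
def n10973 : Q := act 3 n9272
theorem D10973 : act 3 n9272 = n10973 := rfl
theorem F42666 : act 5 n10973 = n9273 := d22_2 (iv F35096) D10973 (iv D9273)
theorem F42667 : act 7 n10973 = n10973 := d24_2 D9272 D10973 (iv D10973) (iv D9272) F25903
def n10974 : Q := act 2 n9273
theorem D10974 : act 2 n9273 = n10974 := rfl
theorem F42668 : act 3 n10974 = n10974 := d15_2 D9273 D10974 (iv D10974) (iv D9273) F25905
theorem F42669 : act 4 n10974 = n9361 := d16_2 (iv F35097) D10974 (iv D9361)
theorem F42670 : act 6 n10974 = n10974 := d18_2 F35098 D10974 (iv D10974)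
theorem F42671 : act 7 n10974 = n10974 := d19_2 F35099 D10974 (iv D10974)
def n10988 : Q := act 5 n9288
theorem D10988 : act 5 n9288 = n10988 := rfl
theorem F42731 : act 1 n10988 = n9425 := d11_1 D10988 (iv D9425) (iv F35162)
theorem F42732 : act 2 n10988 = n9290 := d17_1 D10988 (iv D9290) (iv F35163)
def n10989 : Q := act 7 n9288
theorem D10989 : act 7 n9288 = n10989 := rfl
theorem F42735 : act 1 n10989 = n9426 := d13_1 D10989 (iv D9426) (iv F35162)
theorem F42736 : act 2 n10989 = n9291 := d19_1 D10989 (iv D9291) (iv F35163)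
theorem F42737 : act 6 n10989 = n9289 := d33_1 D10989 (iv D9289) D9288
def n10990 : Q := act 3 n9289
theorem D10990 : act 3 n9289 = n10990 := rfl
theorem F42738 : act 1 n10990 = n9427 := d9_1 D10990 (iv D9427) (iv F35165)
theorem F42739 : act 5 n10990 = n10990 := d22_2 F35167 D10990 (iv D10990)
theorem F42740 : act 7 n10990 = n10990 := d24_2 D9289 D10990 (iv D10990) (iv D9289) F25964
def n10991 : Q := act 8 n9289
theorem D10991 : act 8 n9289 = n10991 := rfl
theorem F42741 : act 1 n10991 = n9428 := d14_1 D10991 (iv D9428) (iv F35165)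
theorem F42742 : act 2 n10991 = n9293 := d20_1 D10991 (iv D9293) (iv F35166)
theorem F42743 : act 5 n10991 = n10991 := d32_1 D10991 (iv D10991) F35167
def n10993 : Q := act 7 n9290
theorem D10993 : act 7 n9290 = n10993 := rfl
theorem F42747 : act 1 n10993 = n9316 := d13_1 D10993 (iv D9316) (iv F35168)
theorem F42748 : act 5 n10993 = n9291 := d31_1 D10993 (iv D9291) D9290
def n10994 : Q := act 3 n9291
theorem D10994 : act 3 n9291 = n10994 := rfl
theorem F42751 : act 6 n10994 = n9292 := d23_2 (iv F35172) D10994 (iv D9292)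
theorem F42752 : act 7 n10994 = n9295 := d24_2 D9291 D10994 (iv D9295) (iv D6774) (iv F25967)
def n10995 : Q := act 8 n9291
theorem D10995 : act 8 n9291 = n10995 := rfl
theorem F42753 : act 1 n10995 = n9318 := d14_1 D10995 (iv D9318) (iv F35171)
theorem F42754 : act 6 n10995 = n9293 := d34_1 D10995 (iv D9293) (iv F35172)
def n10996 : Q := act 2 n9292
theorem D10996 : act 2 n9292 = n10996 := rfl
theorem F42755 : act 1 n10996 = n10996 := d8_1 D10996 (iv D10996) F35173 F26021 (iv F35173)
theorem F42756 : act 5 n10996 = n10996 := d17_2 F35174 D10996 (iv D10996)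
theorem F42757 : act 7 n10996 = n9297 := d19_2 (iv F35175) D10996 (iv D9297)
def n10997 : Q := act 4 n9292
theorem D10997 : act 4 n9292 = n10997 := rfl
theorem F42758 : act 1 n10997 = n9319 := d10_1 D10997 (iv D9319) (iv F35173)
theorem F42759 : act 7 n10997 = n9298 := d28_2 (iv F35175) D10997 (iv D9298)
def n10998 : Q := act 8 n9292
theorem D10998 : act 8 n9292 = n10998 := rfl
theorem F42760 : act 1 n10998 = n9320 := d14_1 D10998 (iv D9320) (iv F35173)
theorem F42761 : act 3 n10998 = n9293 := d25_1 D10998 (iv D9293) D9292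
theorem F42762 : act 5 n10998 = n10998 := d32_1 D10998 (iv D10998) F35174
def n11001 : Q := act 2 n9295
theorem D11001 : act 2 n9295 = n11001 := rfl
theorem F42773 : act 6 n11001 = n9297 := d18_2 (iv F35184) D11001 (iv D9297)
def n11002 : Q := act 4 n9295
theorem D11002 : act 4 n9295 = n11002 := rfl
theorem F42774 : act 1 n11002 = n9323 := d10_1 D11002 (iv D9323) (iv F35183)
theorem F42775 : act 3 n11002 = n9301 := d21_1 D11002 (iv D9301) (iv D6777) (iv F25976) D9295
theorem F42776 : act 6 n11002 = n9298 := d27_2 (iv F35184) D11002 (iv D9298)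
def n11003 : Q := act 8 n9295
theorem D11003 : act 8 n9295 = n11003 := rfl
theorem F42779 : act 6 n11003 = n9299 := d34_1 D11003 (iv D9299) (iv F35184)
def n11004 : Q := act 4 n9297
theorem D11004 : act 4 n9297 = n11004 := rfl
theorem F42780 : act 1 n11004 = n11004 := d10_1 D11004 (iv D11004) F35189
theorem F42781 : act 2 n11004 = n9298 := d16_1 D11004 (iv D9298) D9297
def n11005 : Q := act 8 n9297
theorem D11005 : act 8 n9297 = n11005 := rfl
theorem F42783 : act 2 n11005 = n9299 := d20_1 D11005 (iv D9299) D9297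
def n11006 : Q := act 5 n9298
theorem D11006 : act 5 n9298 = n11006 := rfl
theorem F42786 : act 1 n11006 = n9325 := d11_1 D11006 (iv D9325) (iv F35192)
theorem F42787 : act 3 n11006 = n9305 := d22_1 D11006 (iv D9305) (iv F35193)
theorem F42788 : act 4 n11006 = n11006 := d26_1 D11006 (iv D11006) (iv D9298) F25979 D9298
def n11007 : Q := act 8 n9298
theorem D11007 : act 8 n9298 = n11007 := rfl
theorem F42789 : act 1 n11007 = n9326 := d14_1 D11007 (iv D9326) (iv F35192)
theorem F42790 : act 3 n11007 = n9306 := d25_1 D11007 (iv D9306) (iv F35193)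
theorem F42791 : act 4 n11007 = n9299 := d29_1 D11007 (iv D9299) D9298
def n11009 : Q := act 4 n9300
theorem D11009 : act 4 n9300 = n11009 := rfl
theorem F42794 : act 1 n11009 = n9436 := d10_1 D11009 (iv D9436) (iv F35197)
theorem F42795 : act 2 n11009 = n9301 := d16_1 D11009 (iv D9301) D9300
theorem F42796 : act 6 n11009 = n9303 := d27_2 (iv F35200) D11009 (iv D9303)
def n11010 : Q := act 8 n9300
theorem D11010 : act 8 n9300 = n11010 := rfl
theorem F42797 : act 1 n11010 = n9437 := d14_1 D11010 (iv D9437) (iv F35197)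
theorem F42798 : act 2 n11010 = n9302 := d20_1 D11010 (iv D9302) D9300
theorem F42801 : act 6 n11010 = n9304 := d34_1 D11010 (iv D9304) (iv F35200)
def n11011 : Q := act 5 n9301
theorem D11011 : act 5 n9301 = n11011 := rfl
theorem F42802 : act 1 n11011 = n9328 := d11_1 D11011 (iv D9328) (iv F35201)
theorem F42803 : act 4 n11011 = n11011 := d26_1 D11011 (iv D11011) (iv D9301) F25985 D9301
def n11012 : Q := act 8 n9301
theorem D11012 : act 8 n9301 = n11012 := rfl
theorem F42804 : act 1 n11012 = n9329 := d14_1 D11012 (iv D9329) (iv F35201)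
theorem F42806 : act 6 n11012 = n9306 := d34_1 D11012 (iv D9306) (iv F35202)
def n11013 : Q := act 7 n9302
theorem D11013 : act 7 n9302 = n11013 := rfl
theorem F42809 : act 6 n11013 = n9307 := d33_1 D11013 (iv D9307) (iv F35206)
def n11014 : Q := act 3 n9303
theorem D11014 : act 3 n9303 = n11014 := rfl
theorem F42810 : act 1 n11014 = n9441 := d9_1 D11014 (iv D9441) (iv F35207)
theorem F42811 : act 4 n11014 = n11014 := d21_2 D9303 D11014 (iv D11014) (iv D9303) F25992
def n11015 : Q := act 5 n9303
theorem D11015 : act 5 n9303 = n11015 := rfl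
theorem F42812 : act 1 n11015 = n9442 := d11_1 D11015 (iv D9442) (iv F35207)
theorem F42813 : act 2 n11015 = n9305 := d17_1 D11015 (iv D9305) (iv F35208)
theorem F42814 : act 4 n11015 = n9309 := d26_1 D11015 (iv D9309) (iv D6782) (iv F25993) D9303
def n11016 : Q := act 8 n9303
theorem D11016 : act 8 n9303 = n11016 := rfl
theorem F42815 : act 1 n11016 = n9443 := d14_1 D11016 (iv D9443) (iv F35207)
theorem F42816 : act 2 n11016 = n9306 := d20_1 D11016 (iv D9306) (iv F35208)
theorem F42817 : act 4 n11016 = n9304 := d29_1 D11016 (iv D9304) D9303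
def n11017 : Q := act 7 n9304
theorem D11017 : act 7 n9304 = n11017 := rfl
theorem F42818 : act 1 n11017 = n9444 := d13_1 D11017 (iv D9444) (iv F35209)
theorem F42819 : act 2 n11017 = n9307 := d19_1 D11017 (iv D9307) (iv F35210)
theorem F42820 : act 5 n11017 = n9311 := d31_1 D11017 (iv D9311) (iv F35212)
def n11018 : Q := act 6 n9305
theorem D11018 : act 6 n9305 = n11018 := rfl
theorem F42821 : act 1 n11018 = n9331 := d12_1 D11018 (iv D9331) (iv F35213)
theorem F42822 : act 4 n11018 = n9312 := d27_1 D11018 (iv D9312) (iv F35214)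
def n11019 : Q := act 8 n9305
theorem D11019 : act 8 n9305 = n11019 := rfl
theorem F42823 : act 1 n11019 = n9332 := d14_1 D11019 (iv D9332) (iv F35213)
theorem F42824 : act 4 n11019 = n9313 := d29_1 D11019 (iv D9313) (iv F35214)
theorem F42825 : act 5 n11019 = n9306 := d32_1 D11019 (iv D9306) D9305
def n11020 : Q := act 7 n9306
theorem D11020 : act 7 n9306 = n11020 := rfl
theorem F42826 : act 1 n11020 = n9333 := d13_1 D11020 (iv D9333) (iv F35215)
theorem F42827 : act 4 n11020 = n9307 := d28_1 D11020 (iv D9307) (iv F35216)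
def n11021 : Q := act 5 n9308
theorem D11021 : act 5 n9308 = n11021 := rfl
theorem F42828 : act 1 n11021 = n9448 := d11_1 D11021 (iv D9448) (iv F35219)
theorem F42829 : act 2 n11021 = n11021 := d17_1 D11021 (iv D11021) F35220
theorem F42830 : act 3 n11021 = n9309 := d22_1 D11021 (iv D9309) D9308
def n11022 : Q := act 7 n9308
theorem D11022 : act 7 n9308 = n11022 := rfl
theorem F42831 : act 1 n11022 = n9449 := d13_1 D11022 (iv D9449) (iv F35219)
theorem F42832 : act 2 n11022 = n11022 := d19_1 D11022 (iv D11022) F35220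
theorem F42833 : act 4 n11022 = n11022 := d28_1 D11022 (iv D11022) F35221
theorem F42834 : act 6 n11022 = n11022 := d33_1 D11022 (iv D11022) F35222
def n11023 : Q := act 8 n9308
theorem D11023 : act 8 n9308 = n11023 := rfl
theorem F42835 : act 1 n11023 = n9450 := d14_1 D11023 (iv D9450) (iv F35219)
theorem F42836 : act 2 n11023 = n11023 := d20_1 D11023 (iv D11023) F35220
theorem F42837 : act 3 n11023 = n9310 := d25_1 D11023 (iv D9310) D9308
theorem F42838 : act 4 n11023 = n11023 := d29_1 D11023 (iv D11023) F35221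
theorem F42839 : act 6 n11023 = n11023 := d34_1 D11023 (iv D11023) F35222
def n11024 : Q := act 6 n9309
theorem D11024 : act 6 n9309 = n11024 := rfl
theorem F42840 : act 1 n11024 = n9451 := d12_1 D11024 (iv D9451) (iv F35223)
theorem F42841 : act 2 n11024 = n9312 := d18_1 D11024 (iv D9312) (iv F35224)
theorem F42842 : act 5 n11024 = n11024 := d30_1 D11024 (iv D11024) (iv D9309) F26000 D9309
def n11025 : Q := act 8 n9309
theorem D11025 : act 8 n9309 = n11025 := rfl
theorem F42843 : act 1 n11025 = n9452 := d14_1 D11025 (iv D9452) (iv F35223)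
theorem F42844 : act 2 n11025 = n9313 := d20_1 D11025 (iv D9313) (iv F35224)
theorem F42845 : act 5 n11025 = n9310 := d32_1 D11025 (iv D9310) D9309
def n11026 : Q := act 7 n9310
theorem D11026 : act 7 n9310 = n11026 := rfl
theorem F42846 : act 1 n11026 = n9453 := d13_1 D11026 (iv D9453) (iv F35225)
theorem F42847 : act 2 n11026 = n9314 := d19_1 D11026 (iv D9314) (iv F35226)
theorem F42848 : act 4 n11026 = n9311 := d28_1 D11026 (iv D9311) (iv F35227)
theorem F42849 : act 6 n11026 = n11026 := d33_1 D11026 (iv D11026) F35228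
def n11027 : Q := act 3 n9311
theorem D11027 : act 3 n9311 = n11027 := rfl
theorem F42850 : act 1 n11027 = n9454 := d9_1 D11027 (iv D9454) (iv F35229)
theorem F42851 : act 6 n11027 = n11027 := d23_2 F35231 D11027 (iv D11027)
theorem F42852 : act 7 n11027 = n11027 := d24_2 D9311 D11027 (iv D11027) (iv D9311) F26003
def n11028 : Q := act 8 n9312
theorem D11028 : act 8 n9312 = n11028 := rfl
theorem F42853 : act 1 n11028 = n9334 := d14_1 D11028 (iv D9334) (iv F35232)
theorem F42854 : act 3 n11028 = n11028 := d25_1 D11028 (iv D11028) F35233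
theorem F42855 : act 5 n11028 = n11028 := d32_1 D11028 (iv D11028) F35234
theorem F42856 : act 6 n11028 = n9313 := d34_1 D11028 (iv D9313) D9312
def n11029 : Q := act 7 n9313
theorem D11029 : act 7 n9313 = n11029 := rfl
theorem F42857 : act 1 n11029 = n9335 := d13_1 D11029 (iv D9335) (iv F35235)
theorem F42858 : act 5 n11029 = n9314 := d31_1 D11029 (iv D9314) (iv F35237)
def n11030 : Q := act 3 n9314
theorem D11030 : act 3 n9314 = n11030 := rfl
theorem F42859 : act 1 n11030 = n9336 := d9_1 D11030 (iv D9336) (iv F35238)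
theorem F42860 : act 6 n11030 = n11030 := d23_2 F35240 D11030 (iv D11030)
theorem F42861 : act 7 n11030 = n11030 := d24_2 D9314 D11030 (iv D11030) (iv D9314) F26008
def n11031 : Q := act 7 n9315
theorem D11031 : act 7 n9315 = n11031 := rfl
theorem F42863 : act 2 n11031 = n9432 := d19_1 D11031 (iv D9432) (iv F35242)
theorem F42864 : act 4 n11031 = n9316 := d28_1 D11031 (iv D9316) D9315
def n11032 : Q := act 3 n9316
theorem D11032 : act 3 n9316 = n11032 := rfl
theorem F42870 : act 7 n11032 = n9321 := d24_2 D9316 D11032 (iv D9321) (iv D6791) (iv F26015)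
def n11033 : Q := act 8 n9316
theorem D11033 : act 8 n9316 = n11033 := rfl
theorem F42872 : act 2 n11033 = n9433 := d20_1 D11033 (iv D9433) (iv F35246)
theorem F42873 : act 5 n11033 = n9318 := d32_1 D11033 (iv D9318) (iv F35247)
def n11034 : Q := act 4 n9317
theorem D11034 : act 4 n9317 = n11034 := rfl
theorem F42877 : act 6 n11034 = n9319 := d27_2 (iv F35251) D11034 (iv D9319)
theorem F42878 : act 7 n11034 = n9323 := d28_2 (iv F35252) D11034 (iv D9323)
def n11035 : Q := act 8 n9317
theorem D11035 : act 8 n9317 = n11035 := rfl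
theorem F42881 : act 3 n11035 = n9318 := d25_1 D11035 (iv D9318) D9317
theorem F42882 : act 6 n11035 = n9320 := d34_1 D11035 (iv D9320) (iv F35251)
def n11036 : Q := act 5 n9319
theorem D11036 : act 5 n9319 = n11036 := rfl
theorem F42883 : act 0 n11036 = n9342 := d4_1 D11036 (iv D9342) (iv F35256)
theorem F42884 : act 2 n11036 = n11036 := d17_1 D11036 (iv D11036) F35257
theorem F42885 : act 4 n11036 = n11036 := d26_1 D11036 (iv D11036) (iv D9319) F26022 D9319
theorem F42886 : act 7 n11036 = n9325 := d31_2 (iv F35258) D11036 (iv D9325)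
def n11037 : Q := act 8 n9319
theorem D11037 : act 8 n9319 = n11037 := rfl
theorem F42887 : act 0 n11037 = n9343 := d7_1 D11037 (iv D9343) (iv F35256)
theorem F42888 : act 2 n11037 = n11037 := d20_1 D11037 (iv D11037) F35257
theorem F42889 : act 4 n11037 = n9320 := d29_1 D11037 (iv D9320) D9319
def n11038 : Q := act 7 n9320
theorem D11038 : act 7 n9320 = n11038 := rfl
theorem F42893 : act 8 n11038 = n9327 := d35_2 D9320 D11038 (iv D9327) (iv D6795) (iv F26023)
def n11040 : Q := act 8 n9321
theorem D11040 : act 8 n9321 = n11040 := rfl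
theorem F42901 : act 5 n11040 = n9324 := d32_1 D11040 (iv D9324) (iv F35265)
def n11041 : Q := act 5 n9323
theorem D11041 : act 5 n9323 = n11041 := rfl
theorem F42903 : act 0 n11041 = n9347 := d4_1 D11041 (iv D9347) (iv F35272)
theorem F42905 : act 3 n11041 = n9328 := d22_1 D11041 (iv D9328) (iv F35274)
def n11042 : Q := act 8 n9323
theorem D11042 : act 8 n9323 = n11042 := rfl
theorem F42910 : act 6 n11042 = n9326 := d34_1 D11042 (iv D9326) (iv F35275)
def n11044 : Q := act 6 n9325
theorem D11044 : act 6 n9325 = n11044 := rfl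
theorem F42914 : act 0 n11044 = n9350 := d5_1 D11044 (iv D9350) (iv F35280)
theorem F42915 : act 2 n11044 = n11044 := d18_1 D11044 (iv D11044) F35281
theorem F42916 : act 3 n11044 = n9331 := d23_1 D11044 (iv D9331) (iv F35282)
theorem F42917 : act 4 n11044 = n11044 := d27_1 D11044 (iv D11044) F35283
def n11045 : Q := act 8 n9325
theorem D11045 : act 8 n9325 = n11045 := rfl
theorem F42918 : act 0 n11045 = n9351 := d7_1 D11045 (iv D9351) (iv F35280)
theorem F42920 : act 3 n11045 = n9332 := d25_1 D11045 (iv D9332) (iv F35282)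
theorem F42922 : act 5 n11045 = n9326 := d32_1 D11045 (iv D9326) D9325
def n11047 : Q := act 6 n9328
theorem D11047 : act 6 n9328 = n11047 := rfl
theorem F42926 : act 0 n11047 = n9353 := d5_1 D11047 (iv D9353) (iv F35291)
theorem F42927 : act 2 n11047 = n9458 := d18_1 D11047 (iv D9458) (iv F35292)
theorem F42928 : act 4 n11047 = n11047 := d27_1 D11047 (iv D11047) F35293
theorem F42929 : act 5 n11047 = n9331 := d30_1 D11047 (iv D9331) (iv D6798) (iv F26048) D9328
def n11048 : Q := act 8 n9328
theorem D11048 : act 8 n9328 = n11048 := rfl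
theorem F42930 : act 0 n11048 = n9354 := d7_1 D11048 (iv D9354) (iv F35291)
theorem F42931 : act 2 n11048 = n9459 := d20_1 D11048 (iv D9459) (iv F35292)
def n11049 : Q := act 7 n9329
theorem D11049 : act 7 n9329 = n11049 := rfl
theorem F42935 : act 2 n11049 = n9460 := d19_1 D11049 (iv D9460) (iv F35295)
theorem F42937 : act 6 n11049 = n9333 := d33_1 D11049 (iv D9333) (iv F35297)
def n11050 : Q := act 8 n9331
theorem D11050 : act 8 n9331 = n11050 := rfl
theorem F42938 : act 0 n11050 = n9356 := d7_1 D11050 (iv D9356) (iv F35302)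
theorem F42939 : act 2 n11050 = n9461 := d20_1 D11050 (iv D9461) (iv F35303)
theorem F42940 : act 4 n11050 = n9334 := d29_1 D11050 (iv D9334) (iv F35304)
theorem F42941 : act 6 n11050 = n9332 := d34_1 D11050 (iv D9332) D9331
def n11051 : Q := act 7 n9332
theorem D11051 : act 7 n9332 = n11051 := rfl
theorem F42942 : act 0 n11051 = n9357 := d6_1 D11051 (iv D9357) (iv F35305)
theorem F42943 : act 2 n11051 = n9462 := d19_1 D11051 (iv D9462) (iv F35306)
theorem F42944 : act 4 n11051 = n9335 := d28_1 D11051 (iv D9335) (iv F35307)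
theorem F42945 : act 5 n11051 = n9333 := d31_1 D11051 (iv D9333) (iv F35308)
def n11052 : Q := act 3 n9333
theorem D11052 : act 3 n9333 = n11052 := rfl
theorem F42946 : act 0 n11052 = n9358 := d2_1 D11052 (iv D9358) (iv F35309)
def n11053 : Q := act 7 n9334
theorem D11053 : act 7 n9334 = n11053 := rfl
theorem F42947 : act 0 n11053 = n9359 := d6_1 D11053 (iv D9359) (iv F35312)
theorem F42948 : act 2 n11053 = n9464 := d19_1 D11053 (iv D9464) (iv F35313)
theorem F42949 : act 5 n11053 = n11053 := d31_1 D11053 (iv D11053) F35315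
theorem F42950 : act 6 n11053 = n9335 := d33_1 D11053 (iv D9335) (iv F35316)
def n11054 : Q := act 3 n9335
theorem D11054 : act 3 n9335 = n11054 := rfl
theorem F42951 : act 0 n11054 = n9360 := d2_1 D11054 (iv D9360) (iv F35317)
theorem F42952 : act 5 n11054 = n9336 := d22_2 (iv F35319) D11054 (iv D9336)
theorem F42953 : act 7 n11054 = n11054 := d24_2 D9335 D11054 (iv D11054) (iv D9335) F26069
def n11055 : Q := act 2 n9336
theorem D11055 : act 2 n9336 = n11055 := rfl
theorem F42954 : act 0 n11055 = n9361 := d1_1 D11055 (iv D9361) (iv F35320)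
theorem F42955 : act 3 n11055 = n9466 := d15_2 D9336 D11055 (iv D9466) (iv D6907) (iv F26072)
theorem F42956 : act 6 n11055 = n11055 := d18_2 F35321 D11055 (iv D11055)
theorem F42957 : act 7 n11055 = n11055 := d19_2 F35322 D11055 (iv D11055)
def n11057 : Q := act 8 n9337
theorem D11057 : act 8 n9337 = n11057 := rfl
theorem F42960 : act 2 n11057 = n9435 := d20_1 D11057 (iv D9435) (iv F35323)
def n11061 : Q := act 8 n9340
theorem D11061 : act 8 n9340 = n11061 := rfl
theorem F42974 : act 6 n11061 = n9343 := d34_1 D11061 (iv D9343) (iv F35334)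
def n11063 : Q := act 6 n9342
theorem D11063 : act 6 n9342 = n11063 := rfl
theorem F42978 : act 2 n11063 = n11063 := d18_1 D11063 (iv D11063) F35339
theorem F42979 : act 4 n11063 = n11063 := d27_1 D11063 (iv D11063) F35340
theorem F42980 : act 7 n11063 = n9350 := d33_2 (iv F35341) D11063 (iv D9350)
def n11064 : Q := act 8 n9342
theorem D11064 : act 8 n9342 = n11064 := rfl
theorem F42981 : act 2 n11064 = n11064 := d20_1 D11064 (iv D11064) F35339
theorem F42982 : act 4 n11064 = n11064 := d29_1 D11064 (iv D11064) F35340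
theorem F42983 : act 5 n11064 = n9343 := d32_1 D11064 (iv D9343) D9342
def n11065 : Q := act 7 n9343
theorem D11065 : act 7 n9343 = n11065 := rfl
theorem F42986 : act 8 n11065 = n9352 := d35_2 D9343 D11065 (iv D9352) (iv D6816) (iv F26093)
def n11066 : Q := act 5 n9345
theorem D11066 : act 5 n9345 = n11066 := rfl
theorem F42989 : act 4 n11066 = n9347 := d26_1 D11066 (iv D9347) (iv D6813) (iv F26098) D9345
def n11069 : Q := act 6 n9347
theorem D11069 : act 6 n9347 = n11069 := rfl
theorem F42998 : act 3 n11069 = n9353 := d23_1 D11069 (iv D9353) (iv F35355)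
theorem F42999 : act 5 n11069 = n9350 := d30_1 D11069 (iv D9350) (iv D6815) (iv F26106) D9347
def n11072 : Q := act 8 n9350
theorem D11072 : act 8 n9350 = n11072 := rfl
theorem F43007 : act 3 n11072 = n9356 := d25_1 D11072 (iv D9356) (iv F35363)
theorem F43009 : act 6 n11072 = n9351 := d34_1 D11072 (iv D9351) D9350
def n11074 : Q := act 3 n9352
theorem D11074 : act 3 n9352 = n11074 := rfl
theorem F43013 : act 7 n11074 = n9358 := d24_2 D9352 D11074 (iv D9358) (iv D6823) (iv F26114)
def n11075 : Q := act 8 n9353
theorem D11075 : act 8 n9353 = n11075 := rfl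
theorem F43014 : act 2 n11075 = n9467 := d20_1 D11075 (iv D9467) (iv F35371)
theorem F43016 : act 5 n11075 = n9356 := d32_1 D11075 (iv D9356) (iv F35373)
theorem F43017 : act 6 n11075 = n9354 := d34_1 D11075 (iv D9354) D9353
def n11076 : Q := act 7 n9354
theorem D11076 : act 7 n9354 = n11076 := rfl
theorem F43018 : act 2 n11076 = n9468 := d19_1 D11076 (iv D9468) (iv F35374)
def n11077 : Q := act 3 n9355
theorem D11077 : act 3 n9355 = n11077 := rfl
theorem F43021 : act 6 n11077 = n9358 := d23_2 (iv F35379) D11077 (iv D9358)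
def n11078 : Q := act 7 n9356
theorem D11078 : act 7 n9356 = n11078 := rfl
theorem F43022 : act 2 n11078 = n9470 := d19_1 D11078 (iv D9470) (iv F35380)
theorem F43023 : act 4 n11078 = n9359 := d28_1 D11078 (iv D9359) (iv F35381)
theorem F43024 : act 6 n11078 = n9357 := d33_1 D11078 (iv D9357) (iv F35382)
def n11079 : Q := act 3 n9357
theorem D11079 : act 3 n9357 = n11079 := rfl
theorem F43025 : act 5 n11079 = n9358 := d22_2 (iv F35385) D11079 (iv D9358)
def n11080 : Q := act 2 n9358
theorem D11080 : act 2 n9358 = n11080 := rfl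
theorem F43026 : act 3 n11080 = n9472 := d15_2 D9358 D11080 (iv D9472) (iv D6913) (iv F26131)
def n11081 : Q := act 3 n9359
theorem D11081 : act 3 n9359 = n11081 := rfl
theorem F43028 : act 6 n11081 = n9360 := d23_2 (iv F35388) D11081 (iv D9360)
def n11082 : Q := act 2 n9360
theorem D11082 : act 2 n9360 = n11082 := rfl
theorem F43030 : act 3 n11082 = n9474 := d15_2 D9360 D11082 (iv D9474) (iv D6915) (iv F26137)
theorem F43031 : act 5 n11082 = n9361 := d17_2 (iv F35389) D11082 (iv D9361)
def n11083 : Q := act 4 n9360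
theorem D11083 : act 4 n9360 = n11083 := rfl
def n11084 : Q := act 1 n9361
theorem D11084 : act 1 n9361 = n11084 := rfl
def n11085 : Q := act 5 n9362
theorem D11085 : act 5 n9362 = n11085 := rfl
theorem F43038 : act 2 n11085 = n9364 := d17_1 D11085 (iv D9364) (iv F35395)
theorem F43041 : act 8 n11085 = n9425 := d32_2 (iv F35397) D11085 (iv D9425)
def n11086 : Q := act 7 n9362
theorem D11086 : act 7 n9362 = n11086 := rfl
theorem F43042 : act 0 n11086 = n11086 := d6_1 D11086 (iv D11086) F35394
theorem F43043 : act 2 n11086 = n9365 := d19_1 D11086 (iv D9365) (iv F35395)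
theorem F43044 : act 6 n11086 = n9363 := d33_1 D11086 (iv D9363) D9362
def n11087 : Q := act 3 n9363
theorem D11087 : act 3 n9363 = n11087 := rfl
theorem F43045 : act 0 n11087 = n11087 := d2_1 D11087 (iv D11087) F35398
theorem F43046 : act 5 n11087 = n11087 := d22_2 F35400 D11087 (iv D11087)
theorem F43047 : act 7 n11087 = n11087 := d24_2 D9363 D11087 (iv D11087) (iv D9363) F26142
def n11088 : Q := act 8 n9363
theorem D11088 : act 8 n9363 = n11088 := rfl
theorem F43048 : act 0 n11088 = n11088 := d7_1 D11088 (iv D11088) F35398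
theorem F43049 : act 2 n11088 = n9367 := d20_1 D11088 (iv D9367) (iv F35399)
theorem F43050 : act 5 n11088 = n11088 := d32_1 D11088 (iv D11088) F35400
theorem F43051 : act 7 n11088 = n9428 := d35_1 D11088 (iv D9428) (iv D6875) (iv F26144) D9363
def n11089 : Q := act 4 n9364
theorem D11089 : act 4 n9364 = n11089 := rfl
theorem F43054 : act 3 n11089 = n9872 := d21_1 D11089 (iv D9872) F28656 (iv F26155) (iv F35403)
theorem F43056 : act 8 n11089 = n9429 := d29_2 (iv F35405) D11089 (iv D9429)
def n11090 : Q := act 7 n9364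
theorem D11090 : act 7 n9364 = n11090 := rfl
theorem F43059 : act 5 n11090 = n9365 := d31_1 D11090 (iv D9365) D9364
def n11091 : Q := act 3 n9365
theorem D11091 : act 3 n9365 = n11091 := rfl
theorem F43062 : act 1 n11091 = n9381 := d9_1 D11091 (iv D9381) (iv F35407)
theorem F43063 : act 6 n11091 = n9366 := d23_2 (iv F35408) D11091 (iv D9366)
def n11092 : Q := act 8 n9365
theorem D11092 : act 8 n9365 = n11092 := rfl
theorem F43065 : act 0 n11092 = n11092 := d7_1 D11092 (iv D11092) F35406
theorem F43066 : act 1 n11092 = n9382 := d14_1 D11092 (iv D9382) (iv F35407)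
theorem F43067 : act 6 n11092 = n9367 := d34_1 D11092 (iv D9367) (iv F35408)
theorem F43068 : act 7 n11092 = n9431 := d35_1 D11092 (iv D9431) (iv D6877) (iv F26148) D9365
def n11093 : Q := act 2 n9366
theorem D11093 : act 2 n9366 = n11093 := rfl
theorem F43069 : act 0 n11093 = n11093 := d1_1 D11093 (iv D11093) F35409
theorem F43070 : act 5 n11093 = n11093 := d17_2 F35411 D11093 (iv D11093)
theorem F43071 : act 7 n11093 = n9370 := d19_2 (iv F35412) D11093 (iv D9370)
def n11094 : Q := act 4 n9366
theorem D11094 : act 4 n9366 = n11094 := rfl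
theorem F43072 : act 0 n11094 = n11094 := d3_1 D11094 (iv D11094) F35409
theorem F43073 : act 1 n11094 = n9384 := d10_1 D11094 (iv D9384) (iv F35410)
theorem F43074 : act 7 n11094 = n9371 := d28_2 (iv F35412) D11094 (iv D9371)
def n11095 : Q := act 8 n9366
theorem D11095 : act 8 n9366 = n11095 := rfl
theorem F43075 : act 0 n11095 = n11095 := d7_1 D11095 (iv D11095) F35409
theorem F43076 : act 1 n11095 = n9385 := d14_1 D11095 (iv D9385) (iv F35410)
theorem F43077 : act 3 n11095 = n9367 := d25_1 D11095 (iv D9367) D9366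
theorem F43078 : act 5 n11095 = n11095 := d32_1 D11095 (iv D11095) F35411
theorem F43079 : act 7 n11095 = n11095 := d35_1 D11095 (iv D11095) F35412 F26167 (iv F35412)
def n11097 : Q := act 2 n9369
theorem D11097 : act 2 n9369 = n11097 := rfl
theorem F43088 : act 6 n11097 = n9370 := d18_2 (iv F35426) D11097 (iv D9370)
def n11098 : Q := act 4 n9369
theorem D11098 : act 4 n9369 = n11098 := rfl
theorem F43092 : act 3 n11098 = n9373 := d21_1 D11098 (iv D9373) (iv D6833) (iv F26161) D9369
theorem F43094 : act 6 n11098 = n9371 := d27_2 (iv F35426) D11098 (iv D9371)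
def n11099 : Q := act 1 n9370
theorem D11099 : act 1 n9370 = n11099 := rfl
theorem F43096 : act 2 n11099 = n9389 := d8_2 D9370 D11099 (iv D9389) (iv D6844) (iv F26165)
def n11100 : Q := act 4 n9370
theorem D11100 : act 4 n9370 = n11100 := rfl
theorem F43101 : act 2 n11100 = n9371 := d16_1 D11100 (iv D9371) D9370
def n11101 : Q := act 5 n9371
theorem D11101 : act 5 n9371 = n11101 := rfl
theorem F43104 : act 1 n11101 = n9391 := d11_1 D11101 (iv D9391) (iv F35433)
theorem F43105 : act 3 n11101 = n9375 := d22_1 D11101 (iv D9375) (iv F35434)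
def n11102 : Q := act 4 n9372
theorem D11102 : act 4 n9372 = n11102 := rfl
theorem F43109 : act 0 n11102 = n11102 := d3_1 D11102 (iv D11102) F35436
theorem F43110 : act 1 n11102 = n11102 := d10_1 D11102 (iv D11102) F35437
theorem F43111 : act 2 n11102 = n9373 := d16_1 D11102 (iv D9373) D9372
theorem F43112 : act 5 n11102 = n11102 := d26_2 (iv F35439) D11102 (iv D11102) F35439 F38649
theorem F43113 : act 6 n11102 = n9374 := d27_2 (iv F35440) D11102 (iv D9374)
theorem F43114 : act 8 n11102 = n11102 := d29_2 F35441 D11102 (iv D11102)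
def n11103 : Q := act 3 n9374
theorem D11103 : act 3 n9374 = n11103 := rfl
def n11104 : Q := act 5 n9374
theorem D11104 : act 5 n9374 = n11104 := rfl
theorem F43121 : act 2 n11104 = n9375 := d17_1 D11104 (iv D9375) (iv F35448)
theorem F43122 : act 4 n11104 = n9377 := d26_1 D11104 (iv D9377) (iv D6836) (iv F26176) D9374
theorem F43124 : act 7 n11104 = n9874 := d31_2 F40912 D11104 (iv F40911)
def n11105 : Q := act 5 n9376
theorem D11105 : act 5 n9376 = n11105 := rfl
theorem F43129 : act 3 n11105 = n9377 := d22_1 D11105 (iv D9377) D9376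
def n11106 : Q := act 7 n9379
theorem D11106 : act 7 n9379 = n11106 := rfl
theorem F43134 : act 3 n11106 = n11106 := d24_1 D11106 (iv D11106) F35471 F38643 (iv F35471)
theorem F43135 : act 4 n11106 = n9380 := d28_1 D11106 (iv D9380) D9379
def n11107 : Q := act 3 n9380
theorem D11107 : act 3 n9380 = n11107 := rfl
theorem F43138 : act 4 n11107 = n11107 := d21_2 F43135 D11107 (iv D11107) (iv F43135) F43134
theorem F43139 : act 5 n11107 = n9381 := d22_2 (iv F35475) D11107 (iv D9381)
def n11108 : Q := act 8 n9380
theorem D11108 : act 8 n9380 = n11108 := rfl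
theorem F43142 : act 0 n11108 = n9400 := d7_1 D11108 (iv D9400) (iv F35474)
theorem F43143 : act 5 n11108 = n9382 := d32_1 D11108 (iv D9382) (iv F35475)
theorem F43145 : act 7 n11108 = n9433 := d35_1 D11108 (iv D9433) (iv D6880) (iv F26193) D9380
def n11110 : Q := act 4 n9381
theorem D11110 : act 4 n9381 = n11110 := rfl
theorem F43150 : act 5 n11110 = n11110 := d26_2 F43139 D11110 (iv D11110) (iv F43139) F43138
theorem F43151 : act 6 n11110 = n9384 := d27_2 (iv F35478) D11110 (iv D9384)
def n11111 : Q := act 8 n9381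
theorem D11111 : act 8 n9381 = n11111 := rfl
theorem F43153 : act 0 n11111 = n9403 := d7_1 D11111 (iv D9403) (iv F35477)
theorem F43154 : act 3 n11111 = n9382 := d25_1 D11111 (iv D9382) D9381
theorem F43155 : act 6 n11111 = n9385 := d34_1 D11111 (iv D9385) (iv F35478)
def n11113 : Q := act 4 n9383
theorem D11113 : act 4 n9383 = n11113 := rfl
theorem F43160 : act 2 n11113 = n9384 := d16_1 D11113 (iv D9384) D9383
def n11114 : Q := act 8 n9383
theorem D11114 : act 8 n9383 = n11114 := rfl
theorem F43162 : act 0 n11114 = n9406 := d7_1 D11114 (iv D9406) (iv F35483)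
theorem F43163 : act 2 n11114 = n9385 := d20_1 D11114 (iv D9385) D9383
def n11115 : Q := act 5 n9384
theorem D11115 : act 5 n9384 = n11115 := rfl
theorem F43166 : act 0 n11115 = n9407 := d4_1 D11115 (iv D9407) (iv F35486)
theorem F43167 : act 3 n11115 = n9432 := d22_1 D11115 (iv F40919) F40918
theorem F43168 : act 4 n11115 = n11115 := d26_1 D11115 (iv D11115) (iv D9384) F26197 D9384
theorem F43169 : act 6 n11115 = n11115 := d30_2 F43151 D11115 (iv D11115) (iv F43151) F43150
theorem F43170 : act 7 n11115 = n9391 := d31_2 (iv F35487) D11115 (iv D9391)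
def n11116 : Q := act 8 n9384
theorem D11116 : act 8 n9384 = n11116 := rfl
theorem F43171 : act 0 n11116 = n9408 := d7_1 D11116 (iv D9408) (iv F35486)
theorem F43172 : act 4 n11116 = n9385 := d29_1 D11116 (iv D9385) D9384
theorem F43173 : act 7 n11116 = n11116 := d35_1 D11116 (iv D11116) F35487 F26217 (iv F35487)
def n11126 : Q := act 8 n9398
theorem D11126 : act 8 n9398 = n11126 := rfl
theorem F43219 : act 4 n11126 = n9400 := d29_1 D11126 (iv D9400) (iv F35543)
theorem F43221 : act 7 n11126 = n9435 := d35_1 D11126 (iv D9435) (iv D6882) (iv F26247) D9398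
def n11132 : Q := act 8 n9402
theorem D11132 : act 8 n9402 = n11132 := rfl
theorem F43243 : act 4 n11132 = n9403 := d29_1 D11132 (iv D9403) D9402
theorem F43245 : act 6 n11132 = n9408 := d34_1 D11132 (iv D9408) (iv F35556)
def n11137 : Q := act 5 n9405
theorem D11137 : act 5 n9405 = n11137 := rfl
theorem F43258 : act 2 n11137 = n9407 := d17_1 D11137 (iv D9407) (iv F35565)
def n11138 : Q := act 8 n9405
theorem D11138 : act 8 n9405 = n11138 := rfl
theorem F43262 : act 2 n11138 = n9408 := d20_1 D11138 (iv D9408) (iv F35565)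
theorem F43263 : act 4 n11138 = n9406 := d29_1 D11138 (iv D9406) D9405
def n11139 : Q := act 8 n9407
theorem D11139 : act 8 n9407 = n11139 := rfl
theorem F43265 : act 1 n11139 = n11139 := d14_1 D11139 (iv D11139) F35570
theorem F43266 : act 3 n11139 = n9435 := d25_1 D11139 (iv D9435) (iv F38065)
theorem F43267 : act 4 n11139 = n11139 := d29_1 D11139 (iv D11139) F35571
theorem F43268 : act 5 n11139 = n9408 := d32_1 D11139 (iv D9408) D9407
theorem F43269 : act 6 n11139 = n11139 := d34_1 D11139 (iv D11139) F38066
theorem F43270 : act 7 n11139 = n11139 := d35_1 D11139 (iv D11139) F35572 F26286 (iv F35572)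
def n11150 : Q := act 4 n9425
theorem D11150 : act 4 n9425 = n11150 := rfl
theorem F43323 : act 0 n11150 = n11150 := d3_1 D11150 (iv D11150) F35643
theorem F43324 : act 2 n11150 = n9429 := d16_1 D11150 (iv D9429) (iv F35644)
theorem F43325 : act 6 n11150 = n11150 := d27_2 F35646 D11150 (iv D11150)
def n11151 : Q := act 7 n9425
theorem D11151 : act 7 n9425 = n11151 := rfl
theorem F43326 : act 0 n11151 = n11151 := d6_1 D11151 (iv D11151) F35643
theorem F43327 : act 2 n11151 = n9430 := d19_1 D11151 (iv D9430) (iv F35644)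
theorem F43328 : act 5 n11151 = n9426 := d31_1 D11151 (iv D9426) D9425
theorem F43329 : act 6 n11151 = n11151 := d33_1 D11151 (iv D11151) F35646
def n11152 : Q := act 3 n9426
theorem D11152 : act 3 n9426 = n11152 := rfl
theorem F43330 : act 0 n11152 = n11152 := d2_1 D11152 (iv D11152) F35647
theorem F43331 : act 2 n11152 = n11152 := d15_1 D11152 (iv D11152) F35648 F26337 (iv F35648)
theorem F43332 : act 6 n11152 = n9427 := d23_2 (iv F35649) D11152 (iv D9427)
theorem F43333 : act 7 n11152 = n11152 := d24_2 D9426 D11152 (iv D11152) (iv D9426) F26327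
def n11153 : Q := act 8 n9426
theorem D11153 : act 8 n9426 = n11153 := rfl
theorem F43334 : act 0 n11153 = n11153 := d7_1 D11153 (iv D11153) F35647
theorem F43335 : act 2 n11153 = n9431 := d20_1 D11153 (iv D9431) (iv F35648)
theorem F43336 : act 6 n11153 = n9428 := d34_1 D11153 (iv D9428) (iv F35649)
def n11154 : Q := act 4 n9427
theorem D11154 : act 4 n9427 = n11154 := rfl
theorem F43337 : act 0 n11154 = n11154 := d3_1 D11154 (iv D11154) F35650
theorem F43338 : act 2 n11154 = n11154 := d16_1 D11154 (iv D11154) F35651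
theorem F43339 : act 7 n11154 = n11154 := d28_2 F35653 D11154 (iv D11154)
def n11155 : Q := act 8 n9427
theorem D11155 : act 8 n9427 = n11155 := rfl
theorem F43340 : act 0 n11155 = n11155 := d7_1 D11155 (iv D11155) F35650
theorem F43341 : act 2 n11155 = n11155 := d20_1 D11155 (iv D11155) F35651
theorem F43342 : act 3 n11155 = n9428 := d25_1 D11155 (iv D9428) D9427
theorem F43343 : act 5 n11155 = n11155 := d32_1 D11155 (iv D11155) F35652
def n11156 : Q := act 7 n9429
theorem D11156 : act 7 n9429 = n11156 := rfl
theorem F43344 : act 0 n11156 = n11156 := d6_1 D11156 (iv D11156) F35657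
theorem F43345 : act 1 n11156 = n9432 := d13_1 D11156 (iv D9432) (iv F35658)
theorem F43346 : act 4 n11156 = n9430 := d28_1 D11156 (iv D9430) D9429
theorem F43347 : act 6 n11156 = n11156 := d33_1 D11156 (iv D11156) F35660
def n11157 : Q := act 8 n9430
theorem D11157 : act 8 n9430 = n11157 := rfl
theorem F43348 : act 0 n11157 = n11157 := d7_1 D11157 (iv D11157) F35661
theorem F43349 : act 1 n11157 = n9433 := d14_1 D11157 (iv D9433) (iv F35662)
theorem F43350 : act 3 n11157 = n11157 := d25_1 D11157 (iv D11157) F35663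
theorem F43351 : act 5 n11157 = n9431 := d32_1 D11157 (iv D9431) (iv F35664)
theorem F43352 : act 6 n11157 = n11157 := d34_1 D11157 (iv D11157) F35665
def n11158 : Q := act 8 n9432
theorem D11158 : act 8 n9432 = n11158 := rfl
theorem F43353 : act 0 n11158 = n9435 := d7_1 D11158 (iv D9435) (iv F35670)
theorem F43354 : act 4 n11158 = n9433 := d29_1 D11158 (iv D9433) (iv F35671)
theorem F43355 : act 6 n11158 = n11158 := d34_1 D11158 (iv D11158) F35672
def n11159 : Q := act 3 n9436
theorem D11159 : act 3 n9436 = n11159 := rfl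
theorem F43356 : act 0 n11159 = n11159 := d2_1 D11159 (iv D11159) F35684
theorem F43357 : act 2 n11159 = n11159 := d15_1 D11159 (iv D11159) F35685 F26366 (iv F35685)
theorem F43358 : act 4 n11159 = n11159 := d21_2 D9436 D11159 (iv D11159) (iv D9436) F26361
theorem F43359 : act 6 n11159 = n9441 := d23_2 (iv F35686) D11159 (iv D9441)
def n11160 : Q := act 5 n9436
theorem D11160 : act 5 n9436 = n11160 := rfl
theorem F43360 : act 0 n11160 = n11160 := d4_1 D11160 (iv D11160) F35684
theorem F43361 : act 2 n11160 = n9438 := d17_1 D11160 (iv D9438) (iv F35685)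
theorem F43362 : act 4 n11160 = n11160 := d26_1 D11160 (iv D11160) (iv D9436) F26362 D9436
def n11161 : Q := act 8 n9436
theorem D11161 : act 8 n9436 = n11161 := rfl
theorem F43363 : act 0 n11161 = n11161 := d7_1 D11161 (iv D11161) F35684
theorem F43364 : act 2 n11161 = n9439 := d20_1 D11161 (iv D9439) (iv F35685)
theorem F43365 : act 4 n11161 = n9437 := d29_1 D11161 (iv D9437) D9436
theorem F43366 : act 6 n11161 = n9443 := d34_1 D11161 (iv D9443) (iv F35686)
def n11162 : Q := act 7 n9437
theorem D11162 : act 7 n9437 = n11162 := rfl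
theorem F43367 : act 0 n11162 = n11162 := d6_1 D11162 (iv D11162) F35687
theorem F43368 : act 2 n11162 = n9440 := d19_1 D11162 (iv D9440) (iv F35688)
theorem F43369 : act 5 n11162 = n11162 := d31_1 D11162 (iv D11162) F35690
theorem F43370 : act 6 n11162 = n9444 := d33_1 D11162 (iv D9444) (iv F35691)
def n11163 : Q := act 6 n9438
theorem D11163 : act 6 n9438 = n11163 := rfl
theorem F43371 : act 0 n11163 = n11163 := d5_1 D11163 (iv D11163) F35692
theorem F43372 : act 1 n11163 = n9458 := d12_1 D11163 (iv D9458) (iv F35693)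
theorem F43373 : act 3 n11163 = n11163 := d23_1 D11163 (iv D11163) F35694
theorem F43374 : act 4 n11163 = n11163 := d27_1 D11163 (iv D11163) F35695
theorem F43375 : act 5 n11163 = n9445 := d30_1 D11163 (iv D9445) (iv D6889) (iv F26367) D9438
def n11164 : Q := act 8 n9438
theorem D11164 : act 8 n9438 = n11164 := rfl
theorem F43376 : act 0 n11164 = n11164 := d7_1 D11164 (iv D11164) F35692
theorem F43377 : act 1 n11164 = n9459 := d14_1 D11164 (iv D9459) (iv F35693)
theorem F43378 : act 3 n11164 = n11164 := d25_1 D11164 (iv D11164) F35694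
theorem F43379 : act 4 n11164 = n11164 := d29_1 D11164 (iv D11164) F35695
theorem F43380 : act 5 n11164 = n9439 := d32_1 D11164 (iv D9439) D9438
def n11165 : Q := act 7 n9439
theorem D11165 : act 7 n9439 = n11165 := rfl
theorem F43381 : act 0 n11165 = n11165 := d6_1 D11165 (iv D11165) F35696
theorem F43382 : act 1 n11165 = n9460 := d13_1 D11165 (iv D9460) (iv F35697)
theorem F43383 : act 4 n11165 = n9440 := d28_1 D11165 (iv D9440) (iv F35699)
theorem F43384 : act 6 n11165 = n9447 := d33_1 D11165 (iv D9447) (iv F35700)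
def n11166 : Q := act 5 n9441
theorem D11166 : act 5 n9441 = n11166 := rfl
theorem F43385 : act 0 n11166 = n11166 := d4_1 D11166 (iv D11166) F35706
theorem F43386 : act 2 n11166 = n11166 := d17_1 D11166 (iv D11166) F35707
theorem F43387 : act 3 n11166 = n9442 := d22_1 D11166 (iv D9442) D9441
def n11167 : Q := act 7 n9441
theorem D11167 : act 7 n9441 = n11167 := rfl
theorem F43388 : act 0 n11167 = n11167 := d6_1 D11167 (iv D11167) F35706
theorem F43389 : act 2 n11167 = n11167 := d19_1 D11167 (iv D11167) F35707
theorem F43390 : act 4 n11167 = n11167 := d28_1 D11167 (iv D11167) F35708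
def n11168 : Q := act 8 n9441
theorem D11168 : act 8 n9441 = n11168 := rfl
theorem F43391 : act 0 n11168 = n11168 := d7_1 D11168 (iv D11168) F35706
theorem F43392 : act 2 n11168 = n11168 := d20_1 D11168 (iv D11168) F35707
theorem F43393 : act 3 n11168 = n9443 := d25_1 D11168 (iv D9443) D9441
theorem F43394 : act 4 n11168 = n11168 := d29_1 D11168 (iv D11168) F35708
def n11169 : Q := act 6 n9442
theorem D11169 : act 6 n9442 = n11169 := rfl
theorem F43395 : act 0 n11169 = n11169 := d5_1 D11169 (iv D11169) F35709
theorem F43396 : act 2 n11169 = n9445 := d18_1 D11169 (iv D9445) (iv F35710)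
theorem F43397 : act 4 n11169 = n9451 := d27_1 D11169 (iv D9451) (iv F35711)
def n11170 : Q := act 8 n9442
theorem D11170 : act 8 n9442 = n11170 := rfl
theorem F43398 : act 0 n11170 = n11170 := d7_1 D11170 (iv D11170) F35709
theorem F43399 : act 2 n11170 = n9446 := d20_1 D11170 (iv D9446) (iv F35710)
theorem F43400 : act 4 n11170 = n9452 := d29_1 D11170 (iv D9452) (iv F35711)
theorem F43401 : act 5 n11170 = n9443 := d32_1 D11170 (iv D9443) D9442
def n11171 : Q := act 7 n9443
theorem D11171 : act 7 n9443 = n11171 := rfl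
theorem F43402 : act 0 n11171 = n11171 := d6_1 D11171 (iv D11171) F35712
theorem F43403 : act 2 n11171 = n9447 := d19_1 D11171 (iv D9447) (iv F35713)
theorem F43404 : act 4 n11171 = n9444 := d28_1 D11171 (iv D9444) (iv F35714)
def n11172 : Q := act 3 n9444
theorem D11172 : act 3 n9444 = n11172 := rfl
theorem F43405 : act 0 n11172 = n11172 := d2_1 D11172 (iv D11172) F35715
theorem F43406 : act 2 n11172 = n11172 := d15_1 D11172 (iv D11172) F35716 F26389 (iv F35716)
theorem F43407 : act 5 n11172 = n9454 := d22_2 (iv F35717) D11172 (iv D9454)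
theorem F43408 : act 7 n11172 = n11172 := d24_2 D9444 D11172 (iv D11172) (iv D9444) F26377
def n11173 : Q := act 8 n9445
theorem D11173 : act 8 n9445 = n11173 := rfl
theorem F43409 : act 0 n11173 = n11173 := d7_1 D11173 (iv D11173) F35718
theorem F43410 : act 1 n11173 = n9461 := d14_1 D11173 (iv D9461) (iv F35719)
theorem F43411 : act 3 n11173 = n11173 := d25_1 D11173 (iv D11173) F35720
theorem F43412 : act 4 n11173 = n9455 := d29_1 D11173 (iv D9455) (iv F35721)
theorem F43413 : act 6 n11173 = n9446 := d34_1 D11173 (iv D9446) D9445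
def n11174 : Q := act 7 n9446
theorem D11174 : act 7 n9446 = n11174 := rfl
theorem F43414 : act 0 n11174 = n11174 := d6_1 D11174 (iv D11174) F35722
theorem F43415 : act 1 n11174 = n9462 := d13_1 D11174 (iv D9462) (iv F35723)
theorem F43416 : act 4 n11174 = n9456 := d28_1 D11174 (iv D9456) (iv F35725)
theorem F43417 : act 5 n11174 = n9447 := d31_1 D11174 (iv D9447) (iv F35726)
def n11175 : Q := act 3 n9447
theorem D11175 : act 3 n9447 = n11175 := rfl
theorem F43418 : act 0 n11175 = n11175 := d2_1 D11175 (iv D11175) F35727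
theorem F43419 : act 1 n11175 = n9463 := d9_1 D11175 (iv D9463) (iv F35728)
theorem F43420 : act 4 n11175 = n11175 := d21_2 (iv F35729) D11175 (iv D11175) F35729 F26389
theorem F43421 : act 7 n11175 = n11175 := d24_2 D9447 D11175 (iv D11175) (iv D9447) F26385
def n11176 : Q := act 4 n9448
theorem D11176 : act 4 n9448 = n11176 := rfl
theorem F43422 : act 0 n11176 = n11176 := d3_1 D11176 (iv D11176) F35730
theorem F43423 : act 2 n11176 = n9477 := d16_1 D11176 (iv D9477) (iv F35731)
theorem F43424 : act 5 n11176 = n11176 := d26_2 D9448 D11176 (iv D11176) (iv D9448) F26393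
def n11177 : Q := act 6 n9448
theorem D11177 : act 6 n9448 = n11177 := rfl
theorem F43425 : act 0 n11177 = n11177 := d5_1 D11177 (iv D11177) F35730
theorem F43426 : act 2 n11177 = n9478 := d18_1 D11177 (iv D9478) (iv F35731)
theorem F43427 : act 3 n11177 = n9451 := d23_1 D11177 (iv D9451) (iv F35732)
theorem F43428 : act 5 n11177 = n11177 := d30_1 D11177 (iv D11177) (iv D9448) F26394 D9448
def n11178 : Q := act 7 n9448
theorem D11178 : act 7 n9448 = n11178 := rfl
theorem F43429 : act 0 n11178 = n11178 := d6_1 D11178 (iv D11178) F35730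
theorem F43430 : act 2 n11178 = n9479 := d19_1 D11178 (iv D9479) (iv F35731)
theorem F43431 : act 5 n11178 = n9449 := d31_1 D11178 (iv D9449) D9448
def n11179 : Q := act 8 n9448
theorem D11179 : act 8 n9448 = n11179 := rfl
theorem F43432 : act 0 n11179 = n11179 := d7_1 D11179 (iv D11179) F35730
theorem F43433 : act 2 n11179 = n9480 := d20_1 D11179 (iv D9480) (iv F35731)
theorem F43434 : act 3 n11179 = n9452 := d25_1 D11179 (iv D9452) (iv F35732)
theorem F43435 : act 5 n11179 = n9450 := d32_1 D11179 (iv D9450) D9448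
def n11180 : Q := act 8 n9449
theorem D11180 : act 8 n9449 = n11180 := rfl
theorem F43436 : act 0 n11180 = n11180 := d7_1 D11180 (iv D11180) F35733
theorem F43437 : act 2 n11180 = n9481 := d20_1 D11180 (iv D9481) (iv F35734)
theorem F43438 : act 4 n11180 = n11180 := d29_1 D11180 (iv D11180) F35735
theorem F43439 : act 6 n11180 = n11180 := d34_1 D11180 (iv D11180) F35736
def n11181 : Q := act 7 n9450
theorem D11181 : act 7 n9450 = n11181 := rfl
theorem F43440 : act 0 n11181 = n11181 := d6_1 D11181 (iv D11181) F35737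
theorem F43441 : act 2 n11181 = n9482 := d19_1 D11181 (iv D9482) (iv F35738)
theorem F43442 : act 4 n11181 = n11181 := d28_1 D11181 (iv D11181) F35740
theorem F43443 : act 6 n11181 = n11181 := d33_1 D11181 (iv D11181) F35741
def n11182 : Q := act 8 n9451
theorem D11182 : act 8 n9451 = n11182 := rfl
theorem F43444 : act 0 n11182 = n11182 := d7_1 D11182 (iv D11182) F35742
theorem F43445 : act 2 n11182 = n9455 := d20_1 D11182 (iv D9455) (iv F35743)
theorem F43446 : act 5 n11182 = n11182 := d32_1 D11182 (iv D11182) F35744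
theorem F43447 : act 6 n11182 = n9452 := d34_1 D11182 (iv D9452) D9451
def n11183 : Q := act 7 n9452
theorem D11183 : act 7 n9452 = n11183 := rfl
theorem F43448 : act 0 n11183 = n11183 := d6_1 D11183 (iv D11183) F35745
theorem F43449 : act 2 n11183 = n9456 := d19_1 D11183 (iv D9456) (iv F35746)
theorem F43450 : act 5 n11183 = n9453 := d31_1 D11183 (iv D9453) (iv F35747)
def n11184 : Q := act 3 n9453
theorem D11184 : act 3 n9453 = n11184 := rfl
theorem F43451 : act 0 n11184 = n11184 := d2_1 D11184 (iv D11184) F35748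
theorem F43452 : act 6 n11184 = n11184 := d23_2 F35751 D11184 (iv D11184)
def n11185 : Q := act 4 n9454
theorem D11185 : act 4 n9454 = n11185 := rfl
theorem F43453 : act 0 n11185 = n11185 := d3_1 D11185 (iv D11185) F35752
theorem F43454 : act 2 n11185 = n11185 := d16_1 D11185 (iv D11185) F35753
theorem F43455 : act 6 n11185 = n11185 := d27_2 F35754 D11185 (iv D11185)
theorem F43456 : act 7 n11185 = n11185 := d28_2 F35755 D11185 (iv D11185)
def n11186 : Q := act 7 n9455
theorem D11186 : act 7 n9455 = n11186 := rfl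
theorem F43457 : act 0 n11186 = n11186 := d6_1 D11186 (iv D11186) F35756
theorem F43458 : act 1 n11186 = n9464 := d13_1 D11186 (iv D9464) (iv F35757)
theorem F43459 : act 5 n11186 = n11186 := d31_1 D11186 (iv D11186) F35759
theorem F43460 : act 6 n11186 = n9456 := d33_1 D11186 (iv D9456) (iv F35760)
def n11187 : Q := act 3 n9456
theorem D11187 : act 3 n9456 = n11187 := rfl
theorem F43461 : act 0 n11187 = n11187 := d2_1 D11187 (iv D11187) F35761
theorem F43462 : act 1 n11187 = n9465 := d9_1 D11187 (iv D9465) (iv F35762)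
theorem F43463 : act 5 n11187 = n9457 := d22_2 (iv F35763) D11187 (iv D9457)
theorem F43464 : act 7 n11187 = n9488 := d24_2 D9456 D11187 (iv D9488) (iv D6925) (iv F26410)
def n11188 : Q := act 2 n9457
theorem D11188 : act 2 n9457 = n11188 := rfl
theorem F43465 : act 0 n11188 = n11188 := d1_1 D11188 (iv D11188) F35764
theorem F43466 : act 4 n11188 = n11188 := d16_2 F35766 D11188 (iv D11188)
theorem F43467 : act 6 n11188 = n11188 := d18_2 F35767 D11188 (iv D11188)
theorem F43468 : act 7 n11188 = n9489 := d19_2 (iv F35768) D11188 (iv D9489)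
def n11189 : Q := act 8 n9458
theorem D11189 : act 8 n9458 = n11189 := rfl
theorem F43469 : act 0 n11189 = n9467 := d7_1 D11189 (iv D9467) (iv F35769)
theorem F43470 : act 3 n11189 = n11189 := d25_1 D11189 (iv D11189) F35770
theorem F43471 : act 4 n11189 = n11189 := d29_1 D11189 (iv D11189) F35771
theorem F43472 : act 5 n11189 = n9461 := d32_1 D11189 (iv D9461) (iv F35772)
theorem F43473 : act 6 n11189 = n9459 := d34_1 D11189 (iv D9459) D9458
def n11190 : Q := act 7 n9459
theorem D11190 : act 7 n9459 = n11190 := rfl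
theorem F43474 : act 0 n11190 = n9468 := d6_1 D11190 (iv D9468) (iv F35773)
theorem F43475 : act 4 n11190 = n11190 := d28_1 D11190 (iv D11190) F35775
theorem F43476 : act 5 n11190 = n9460 := d31_1 D11190 (iv D9460) (iv F35776)
def n11191 : Q := act 3 n9460
theorem D11191 : act 3 n9460 = n11191 := rfl
theorem F43477 : act 0 n11191 = n9469 := d2_1 D11191 (iv D9469) (iv F35777)
theorem F43478 : act 4 n11191 = n11191 := d21_2 (iv F35778) D11191 (iv D11191) F35778 F26424
theorem F43479 : act 6 n11191 = n9463 := d23_2 (iv F35779) D11191 (iv D9463)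
theorem F43480 : act 7 n11191 = n11191 := d24_2 D9460 D11191 (iv D11191) (iv D9460) F26420
def n11192 : Q := act 7 n9461
theorem D11192 : act 7 n9461 = n11192 := rfl
theorem F43481 : act 0 n11192 = n9470 := d6_1 D11192 (iv D9470) (iv F35780)
theorem F43482 : act 4 n11192 = n9464 := d28_1 D11192 (iv D9464) (iv F35782)
theorem F43483 : act 6 n11192 = n9462 := d33_1 D11192 (iv D9462) (iv F35783)
def n11193 : Q := act 3 n9462
theorem D11193 : act 3 n9462 = n11193 := rfl
theorem F43484 : act 0 n11193 = n9471 := d2_1 D11193 (iv D9471) (iv F35784)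
theorem F43485 : act 5 n11193 = n9463 := d22_2 (iv F35786) D11193 (iv D9463)
theorem F43486 : act 7 n11193 = n11193 := d24_2 D9462 D11193 (iv D11193) (iv D9462) F26431
def n11194 : Q := act 2 n9463
theorem D11194 : act 2 n9463 = n11194 := rfl
theorem F43487 : act 0 n11194 = n9472 := d1_1 D11194 (iv D9472) (iv F35787)
theorem F43488 : act 4 n11194 = n11194 := d16_2 F35788 D11194 (iv D11194)
theorem F43489 : act 7 n11194 = n11194 := d19_2 F35789 D11194 (iv D11194)
def n11195 : Q := act 3 n9464
theorem D11195 : act 3 n9464 = n11195 := rfl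
theorem F43492 : act 6 n11195 = n9465 := d23_2 (iv F35792) D11195 (iv D9465)
theorem F43493 : act 7 n11195 = n9490 := d24_2 D9464 D11195 (iv D9490) (iv D6927) (iv F26437)
def n11196 : Q := act 2 n9465
theorem D11196 : act 2 n9465 = n11196 := rfl
theorem F43494 : act 0 n11196 = n9474 := d1_1 D11196 (iv D9474) (iv F35793)
theorem F43495 : act 5 n11196 = n9466 := d17_2 (iv F35794) D11196 (iv D9466)
def n11197 : Q := act 4 n9465
theorem D11197 : act 4 n9465 = n11197 := rfl
theorem F43499 : act 7 n11197 = n9492 := d28_2 (iv F35795) D11197 (iv D9492)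
def n11198 : Q := act 1 n9466
theorem D11198 : act 1 n9466 = n11198 := rfl
theorem F43500 : act 4 n11198 = n11198 := d10_2 F35797 D11198 (iv D11198)
theorem F43501 : act 6 n11198 = n11198 := d12_2 F35798 D11198 (iv D11198)
theorem F43502 : act 7 n11198 = n9493 := d13_2 (iv F35799) D11198 (iv D9493)
def n11199 : Q := act 7 n9467
theorem D11199 : act 7 n9467 = n11199 := rfl
theorem F43503 : act 1 n11199 = n11199 := d13_1 D11199 (iv D11199) F35800
theorem F43504 : act 4 n11199 = n11199 := d28_1 D11199 (iv D11199) F35802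
theorem F43505 : act 5 n11199 = n9470 := d31_1 D11199 (iv D9470) (iv F35803)
theorem F43506 : act 6 n11199 = n9468 := d33_1 D11199 (iv D9468) (iv F35804)
def n11200 : Q := act 3 n9468
theorem D11200 : act 3 n9468 = n11200 := rfl
theorem F43507 : act 1 n11200 = n11200 := d9_1 D11200 (iv D11200) F35805
theorem F43508 : act 5 n11200 = n9469 := d22_2 (iv F35807) D11200 (iv D9469)
theorem F43509 : act 7 n11200 = n11200 := d24_2 D9468 D11200 (iv D11200) (iv D9468) F26451
def n11201 : Q := act 2 n9469
theorem D11201 : act 2 n9469 = n11201 := rfl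
theorem F43510 : act 4 n11201 = n11201 := d16_2 F35809 D11201 (iv D11201)
theorem F43511 : act 6 n11201 = n9472 := d18_2 (iv F35810) D11201 (iv D9472)
theorem F43512 : act 7 n11201 = n11201 := d19_2 F35811 D11201 (iv D11201)
def n11202 : Q := act 3 n9470
theorem D11202 : act 3 n9470 = n11202 := rfl
def n11203 : Q := act 2 n9471
theorem D11203 : act 2 n9471 = n11203 := rfl
theorem F43516 : act 5 n11203 = n9472 := d17_2 (iv F35816) D11203 (iv D9472)
def n11204 : Q := act 4 n9471
theorem D11204 : act 4 n9471 = n11204 := rfl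
theorem F43519 : act 3 n11204 = n9475 := d21_1 D11204 (iv D9475) (iv D6915) (iv F26462) D9471
def n11205 : Q := act 1 n9472
theorem D11205 : act 1 n9472 = n11205 := rfl
def n11208 : Q := act 1 n9474
theorem D11208 : act 1 n9474 = n11208 := rfl
theorem F43532 : act 5 n11208 = n9476 := d11_2 (iv F35824) D11208 (iv D9476)
def n11211 : Q := act 6 n9477
theorem D11211 : act 6 n9477 = n11211 := rfl
theorem F43544 : act 4 n11211 = n9478 := d27_1 D11211 (iv D9478) D9477
def n11212 : Q := act 7 n9477
theorem D11212 : act 7 n9477 = n11212 := rfl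
theorem F43547 : act 4 n11212 = n9479 := d28_1 D11212 (iv D9479) D9477
def n11213 : Q := act 8 n9477
theorem D11213 : act 8 n9477 = n11213 := rfl
theorem F43549 : act 0 n11213 = n11213 := d7_1 D11213 (iv D11213) F35833
theorem F43550 : act 1 n11213 = n11213 := d14_1 D11213 (iv D11213) F35834
theorem F43551 : act 3 n11213 = n11213 := d25_1 D11213 (iv D11213) F35835
theorem F43552 : act 4 n11213 = n9480 := d29_1 D11213 (iv D9480) D9477
theorem F43553 : act 5 n11213 = n11213 := d32_1 D11213 (iv D11213) F35836
def n11214 : Q := act 7 n9478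
theorem D11214 : act 7 n9478 = n11214 := rfl
theorem F43558 : act 6 n11214 = n9479 := d33_1 D11214 (iv D9479) D9478
def n11215 : Q := act 8 n9478
theorem D11215 : act 8 n9478 = n11215 := rfl
theorem F43559 : act 0 n11215 = n11215 := d7_1 D11215 (iv D11215) F35837
theorem F43560 : act 1 n11215 = n11215 := d14_1 D11215 (iv D11215) F35838
theorem F43561 : act 3 n11215 = n9483 := d25_1 D11215 (iv D9483) (iv F35839)
theorem F43562 : act 5 n11215 = n11215 := d32_1 D11215 (iv D11215) F35840
theorem F43563 : act 6 n11215 = n9480 := d34_1 D11215 (iv D9480) D9478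
def n11216 : Q := act 8 n9479
theorem D11216 : act 8 n9479 = n11216 := rfl
theorem F43564 : act 0 n11216 = n11216 := d7_1 D11216 (iv D11216) F35841
theorem F43565 : act 1 n11216 = n11216 := d14_1 D11216 (iv D11216) F35842
theorem F43566 : act 3 n11216 = n11216 := d25_1 D11216 (iv D11216) F35843
theorem F43567 : act 5 n11216 = n9481 := d32_1 D11216 (iv D9481) (iv F35844)
def n11217 : Q := act 7 n9480
theorem D11217 : act 7 n9480 = n11217 := rfl
theorem F43568 : act 0 n11217 = n11217 := d6_1 D11217 (iv D11217) F35845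
theorem F43569 : act 1 n11217 = n11217 := d13_1 D11217 (iv D11217) F35846
theorem F43570 : act 5 n11217 = n9482 := d31_1 D11217 (iv D9482) (iv F35848)
def n11218 : Q := act 7 n9481
theorem D11218 : act 7 n9481 = n11218 := rfl
theorem F43571 : act 0 n11218 = n11218 := d6_1 D11218 (iv D11218) F35849
theorem F43572 : act 1 n11218 = n11218 := d13_1 D11218 (iv D11218) F35850
theorem F43573 : act 4 n11218 = n11218 := d28_1 D11218 (iv D11218) F35852
theorem F43574 : act 6 n11218 = n11218 := d33_1 D11218 (iv D11218) F35853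
theorem F43575 : act 8 n11218 = n9482 := d35_2 D9481 D11218 (iv D9482) (iv D6919) D6918
def n11219 : Q := act 3 n9482
theorem D11219 : act 3 n9482 = n11219 := rfl
theorem F43579 : act 7 n11219 = n9485 := d24_2 D9482 D11219 (iv D9485) (iv D6922) (iv F26486)
def n11220 : Q := act 7 n9483
theorem D11220 : act 7 n9483 = n11220 := rfl
theorem F43580 : act 0 n11220 = n11220 := d6_1 D11220 (iv D11220) F35858
theorem F43581 : act 1 n11220 = n11220 := d13_1 D11220 (iv D11220) F35859
theorem F43582 : act 2 n11220 = n9487 := d19_1 D11220 (iv D9487) (iv F35860)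
theorem F43583 : act 4 n11220 = n11220 := d28_1 D11220 (iv D11220) F35861
theorem F43584 : act 5 n11220 = n11220 := d31_1 D11220 (iv D11220) F35862
theorem F43585 : act 6 n11220 = n9484 := d33_1 D11220 (iv D9484) (iv F35863)
theorem F43586 : act 8 n11220 = n11220 := d35_2 D9483 D11220 (iv D11220) (iv D9483) F26494
def n11221 : Q := act 3 n9484
theorem D11221 : act 3 n9484 = n11221 := rfl
theorem F43589 : act 5 n11221 = n9485 := d22_2 (iv F35868) D11221 (iv D9485)
def n11222 : Q := act 2 n9485
theorem D11222 : act 2 n9485 = n11222 := rfl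
theorem F43592 : act 3 n11222 = n9489 := d15_2 D9485 D11222 (iv D9489) (iv D6926) (iv F26502)
def n11223 : Q := act 4 n9485
theorem D11223 : act 4 n9485 = n11223 := rfl
theorem F43597 : act 3 n11223 = n9486 := d21_1 D11223 (iv D9486) (iv D6923) (iv F26503) D9485
def n11224 : Q := act 5 n9486
theorem D11224 : act 5 n9486 = n11224 := rfl
def n11225 : Q := act 3 n9487
theorem D11225 : act 3 n9487 = n11225 := rfl
theorem F43607 : act 1 n11225 = n9490 := d9_1 D11225 (iv D9490) (iv F35881)
theorem F43609 : act 6 n11225 = n9488 := d23_2 (iv F35884) D11225 (iv D9488)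
def n11226 : Q := act 2 n9488
theorem D11226 : act 2 n9488 = n11226 := rfl
theorem F43612 : act 5 n11226 = n9489 := d17_2 (iv F35888) D11226 (iv D9489)
def n11227 : Q := act 4 n9488
theorem D11227 : act 4 n9488 = n11227 := rfl
theorem F43615 : act 1 n11227 = n9492 := d10_1 D11227 (iv D9492) (iv F35887)
def n11228 : Q := act 1 n9489
theorem D11228 : act 1 n9489 = n11228 := rfl
theorem F43619 : act 2 n11228 = n9493 := d8_2 D9489 D11228 (iv D9493) (iv D6929) (iv F26524)
def n11233 : Q := act 0 n9493
theorem D11233 : act 0 n9493 = n11233 := rfl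
def n11240 : Q := act 4 n9871
theorem D11240 : act 4 n9871 = n11240 := rfl
theorem F43669 : act 0 n11240 = n11240 := d3_1 D11240 (iv D11240) F38665
theorem F43670 : act 1 n11240 = n11240 := d10_1 D11240 (iv D11240) F38666
theorem F43671 : act 2 n11240 = n9872 := d16_1 D11240 (iv D9872) (iv F38667)
theorem F43672 : act 6 n11240 = n11240 := d27_2 F38669 D11240 (iv D11240)
theorem F43673 : act 7 n11240 = n11240 := d28_2 F38670 D11240 (iv D11240)
theorem F43674 : act 8 n11240 = n9874 := d29_2 (iv F38671) D11240 (iv D9874)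
def n11242 : Q := act 3 n9874
theorem D11242 : act 3 n9874 = n11242 := rfl
def n11243 : Q := act 2 n9875
theorem D11243 : act 2 n9875 = n11243 := rfl
theorem F43686 : act 0 n11243 = n9905 := d1_1 D11243 (iv D9905) (iv F38687)
theorem F43687 : act 1 n11243 = n11243 := d8_1 D11243 (iv D11243) F38688 F29592 (iv F38688)
theorem F43688 : act 3 n11243 = n10274 := d15_2 D9875 D11243 (iv D10274) (iv D8466) (iv F29573)
theorem F43689 : act 4 n11243 = n11243 := d16_2 F38689 D11243 (iv D11243)
def n11244 : Q := act 7 n9875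
theorem D11244 : act 7 n9875 = n11244 := rfl
theorem F43690 : act 0 n11244 = n9906 := d6_1 D11244 (iv D9906) (iv F38687)
theorem F43691 : act 1 n11244 = n9882 := d13_1 D11244 (iv D9882) (iv F38688)
theorem F43692 : act 4 n11244 = n11244 := d28_1 D11244 (iv D11244) F38689
def n11245 : Q := act 3 n9876
theorem D11245 : act 3 n9876 = n11245 := rfl
theorem F43693 : act 0 n11245 = n9907 := d2_1 D11245 (iv D9907) (iv F38690)
theorem F43694 : act 1 n11245 = n9883 := d9_1 D11245 (iv D9883) (iv F38691)
def n11246 : Q := act 8 n9876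
theorem D11246 : act 8 n9876 = n11246 := rfl
theorem F43695 : act 0 n11246 = n9908 := d7_1 D11246 (iv D9908) (iv F38690)
theorem F43696 : act 1 n11246 = n9884 := d14_1 D11246 (iv D9884) (iv F38691)
theorem F43697 : act 2 n11246 = n10280 := d20_1 D11246 (iv D10280) (iv F38692)
theorem F43698 : act 4 n11246 = n9878 := d29_1 D11246 (iv D9878) (iv F38693)
def n11247 : Q := act 2 n9877
theorem D11247 : act 2 n9877 = n11247 := rfl
theorem F43699 : act 0 n11247 = n9909 := d1_1 D11247 (iv D9909) (iv F38694)
theorem F43700 : act 1 n11247 = n11247 := d8_1 D11247 (iv D11247) F38695 F29605 (iv F38695)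
theorem F43701 : act 3 n11247 = n10283 := d15_2 D9877 D11247 (iv D10283) (iv D8470) (iv F29581)
theorem F43702 : act 5 n11247 = n9879 := d17_2 (iv F38696) D11247 (iv D9879)
theorem F43703 : act 7 n11247 = n11247 := d19_2 F38697 D11247 (iv D11247)
def n11248 : Q := act 4 n9877
theorem D11248 : act 4 n9877 = n11248 := rfl
theorem F43704 : act 0 n11248 = n9910 := d3_1 D11248 (iv D9910) (iv F38694)
theorem F43705 : act 1 n11248 = n9885 := d10_1 D11248 (iv D9885) (iv F38695)
theorem F43706 : act 7 n11248 = n11248 := d28_2 F38697 D11248 (iv D11248)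
def n11249 : Q := act 8 n9877
theorem D11249 : act 8 n9877 = n11249 := rfl
theorem F43707 : act 0 n11249 = n9911 := d7_1 D11249 (iv D9911) (iv F38694)
theorem F43708 : act 1 n11249 = n9886 := d14_1 D11249 (iv D9886) (iv F38695)
theorem F43709 : act 3 n11249 = n9878 := d25_1 D11249 (iv D9878) D9877
theorem F43710 : act 5 n11249 = n9881 := d32_1 D11249 (iv D9881) (iv F38696)
def n11250 : Q := act 4 n9879
theorem D11250 : act 4 n9879 = n11250 := rfl
theorem F43711 : act 0 n11250 = n9912 := d3_1 D11250 (iv D9912) (iv F38702)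
theorem F43712 : act 1 n11250 = n11250 := d10_1 D11250 (iv D11250) F38703
theorem F43713 : act 2 n11250 = n9880 := d16_1 D11250 (iv D9880) D9879
theorem F43714 : act 6 n11250 = n11250 := d27_2 F38705 D11250 (iv D11250)
theorem F43715 : act 7 n11250 = n11250 := d28_2 F38706 D11250 (iv D11250)
def n11251 : Q := act 8 n9879
theorem D11251 : act 8 n9879 = n11251 := rfl
theorem F43716 : act 0 n11251 = n9913 := d7_1 D11251 (iv D9913) (iv F38702)
theorem F43717 : act 1 n11251 = n11251 := d14_1 D11251 (iv D11251) F38703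
theorem F43718 : act 2 n11251 = n9881 := d20_1 D11251 (iv D9881) D9879
theorem F43719 : act 3 n11251 = n10287 := d25_1 D11251 (iv D10287) (iv F38704)
theorem F43720 : act 6 n11251 = n11251 := d34_1 D11251 (iv D11251) F38705
def n11252 : Q := act 5 n9880
theorem D11252 : act 5 n9880 = n11252 := rfl
theorem F43721 : act 0 n11252 = n9914 := d4_1 D11252 (iv D9914) (iv F38707)
theorem F43722 : act 1 n11252 = n9887 := d11_1 D11252 (iv D9887) (iv F38708)
theorem F43723 : act 7 n11252 = n11252 := d31_2 F38710 D11252 (iv D11252)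
def n11253 : Q := act 8 n9880
theorem D11253 : act 8 n9880 = n11253 := rfl
theorem F43724 : act 0 n11253 = n9915 := d7_1 D11253 (iv D9915) (iv F38707)
theorem F43725 : act 1 n11253 = n9888 := d14_1 D11253 (iv D9888) (iv F38708)
theorem F43726 : act 4 n11253 = n9881 := d29_1 D11253 (iv D9881) D9880
theorem F43727 : act 6 n11253 = n11253 := d34_1 D11253 (iv D11253) F38709
def n11254 : Q := act 7 n9881
theorem D11254 : act 7 n9881 = n11254 := rfl
theorem F43728 : act 0 n11254 = n9916 := d6_1 D11254 (iv D9916) (iv F38711)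
theorem F43729 : act 1 n11254 = n9889 := d13_1 D11254 (iv D9889) (iv F38712)
theorem F43730 : act 6 n11254 = n11254 := d33_1 D11254 (iv D11254) F38714
theorem F43731 : act 8 n11254 = n11254 := d35_2 D9881 D11254 (iv D11254) (iv D9881) F29586
def n11255 : Q := act 3 n9882
theorem D11255 : act 3 n9882 = n11255 := rfl
theorem F43732 : act 0 n11255 = n9892 := d2_1 D11255 (iv D9892) (iv F38715)
theorem F43733 : act 7 n11255 = n9883 := d24_2 D9882 D11255 (iv D9883) (iv D7730) D7728
def n11256 : Q := act 8 n9882
theorem D11256 : act 8 n9882 = n11256 := rfl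
theorem F43734 : act 0 n11256 = n9893 := d7_1 D11256 (iv D9893) (iv F38715)
theorem F43735 : act 2 n11256 = n11256 := d20_1 D11256 (iv D11256) F38716
theorem F43736 : act 4 n11256 = n11256 := d29_1 D11256 (iv D11256) F38717
def n11257 : Q := act 2 n9883
theorem D11257 : act 2 n9883 = n11257 := rfl
theorem F43737 : act 0 n11257 = n9894 := d1_1 D11257 (iv D9894) (iv F38718)
theorem F43738 : act 3 n11257 = n9890 := d15_2 D9883 D11257 (iv D9890) (iv D7738) (iv F29598)
def n11258 : Q := act 4 n9883
theorem D11258 : act 4 n9883 = n11258 := rfl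
theorem F43739 : act 0 n11258 = n9895 := d3_1 D11258 (iv D9895) (iv F38718)
theorem F43740 : act 3 n11258 = n9885 := d21_1 D11258 (iv D9885) (iv D7732) (iv F29599) D9883
def n11259 : Q := act 8 n9883
theorem D11259 : act 8 n9883 = n11259 := rfl
theorem F43741 : act 0 n11259 = n9896 := d7_1 D11259 (iv D9896) (iv F38718)
theorem F43742 : act 3 n11259 = n9884 := d25_1 D11259 (iv D9884) D9883
def n11260 : Q := act 5 n9885
theorem D11260 : act 5 n9885 = n11260 := rfl
theorem F43743 : act 0 n11260 = n9897 := d4_1 D11260 (iv D9897) (iv F38722)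
theorem F43744 : act 2 n11260 = n11260 := d17_1 D11260 (iv D11260) F38723
theorem F43745 : act 4 n11260 = n9887 := d26_1 D11260 (iv D9887) (iv D7734) (iv F29606) D9885
theorem F43746 : act 7 n11260 = n11260 := d31_2 F38724 D11260 (iv D11260)
def n11261 : Q := act 8 n9885
theorem D11261 : act 8 n9885 = n11261 := rfl
theorem F43747 : act 0 n11261 = n9898 := d7_1 D11261 (iv D9898) (iv F38722)
theorem F43748 : act 2 n11261 = n11261 := d20_1 D11261 (iv D11261) F38723
theorem F43749 : act 4 n11261 = n9886 := d29_1 D11261 (iv D9886) D9885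
def n11262 : Q := act 7 n9886
theorem D11262 : act 7 n9886 = n11262 := rfl
theorem F43750 : act 0 n11262 = n9899 := d6_1 D11262 (iv D9899) (iv F38725)
theorem F43751 : act 2 n11262 = n11262 := d19_1 D11262 (iv D11262) F38726
theorem F43752 : act 5 n11262 = n9889 := d31_1 D11262 (iv D9889) (iv F38728)
theorem F43753 : act 8 n11262 = n11262 := d35_2 D9886 D11262 (iv D11262) (iv D9886) F29607
def n11263 : Q := act 6 n9887
theorem D11263 : act 6 n9887 = n11263 := rfl
theorem F43754 : act 0 n11263 = n9900 := d5_1 D11263 (iv D9900) (iv F38729)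
theorem F43755 : act 2 n11263 = n11263 := d18_1 D11263 (iv D11263) F38730
theorem F43756 : act 5 n11263 = n11263 := d30_1 D11263 (iv D11263) (iv D9887) F29613 D9887
theorem F43757 : act 7 n11263 = n11263 := d33_2 F38731 D11263 (iv D11263)
def n11264 : Q := act 8 n9887
theorem D11264 : act 8 n9887 = n11264 := rfl
theorem F43758 : act 0 n11264 = n9901 := d7_1 D11264 (iv D9901) (iv F38729)
theorem F43759 : act 2 n11264 = n11264 := d20_1 D11264 (iv D11264) F38730
theorem F43760 : act 5 n11264 = n9888 := d32_1 D11264 (iv D9888) D9887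
def n11265 : Q := act 7 n9888
theorem D11265 : act 7 n9888 = n11265 := rfl
theorem F43761 : act 0 n11265 = n9902 := d6_1 D11265 (iv D9902) (iv F38732)
theorem F43762 : act 2 n11265 = n11265 := d19_1 D11265 (iv D11265) F38733
theorem F43763 : act 4 n11265 = n9889 := d28_1 D11265 (iv D9889) (iv F38734)
theorem F43764 : act 6 n11265 = n11265 := d33_1 D11265 (iv D11265) F38735
theorem F43765 : act 8 n11265 = n11265 := d35_2 D9888 D11265 (iv D11265) (iv D9888) F29614
def n11266 : Q := act 1 n9890
theorem D11266 : act 1 n9890 = n11266 := rfl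
theorem F43766 : act 2 n11266 = n10312 := d8_2 D9890 D11266 (iv D10312) (iv D8491) (iv F29628)
theorem F43767 : act 4 n11266 = n11266 := d10_2 F38741 D11266 (iv D11266)
theorem F43768 : act 7 n11266 = n11266 := d13_2 F38742 D11266 (iv D11266)
def n11267 : Q := act 8 n9890
theorem D11267 : act 8 n9890 = n11267 := rfl
theorem F43769 : act 0 n11267 = n9903 := d7_1 D11267 (iv D9903) (iv F38740)
theorem F43770 : act 2 n11267 = n9891 := d20_1 D11267 (iv D9891) D9890
theorem F43771 : act 4 n11267 = n11267 := d29_1 D11267 (iv D11267) F38741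
def n11268 : Q := act 7 n9891
theorem D11268 : act 7 n9891 = n11268 := rfl
theorem F43772 : act 0 n11268 = n9904 := d6_1 D11268 (iv D9904) (iv F38743)
theorem F43773 : act 1 n11268 = n10314 := d13_1 D11268 (iv D10314) (iv F38744)
theorem F43774 : act 4 n11268 = n11268 := d28_1 D11268 (iv D11268) F38746
theorem F43775 : act 8 n11268 = n11268 := d35_2 D9891 D11268 (iv D11268) (iv D9891) F29630
def n11269 : Q := act 2 n9892
theorem D11269 : act 2 n9892 = n11269 := rfl
theorem F43776 : act 3 n11269 = n11269 := d15_2 D9892 D11269 (iv D11269) (iv D9892) F29644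
theorem F43777 : act 7 n11269 = n9894 := d19_2 (iv F38748) D11269 (iv D9894)
def n11270 : Q := act 4 n9892
theorem D11270 : act 4 n9892 = n11270 := rfl
theorem F43778 : act 1 n11270 = n9927 := d10_1 D11270 (iv D9927) (iv F38747)
theorem F43779 : act 3 n11270 = n11270 := d21_1 D11270 (iv D11270) (iv D9892) F29645 D9892
theorem F43780 : act 7 n11270 = n9895 := d28_2 (iv F38748) D11270 (iv D9895)
def n11271 : Q := act 8 n9892
theorem D11271 : act 8 n9892 = n11271 := rfl
theorem F43781 : act 1 n11271 = n9928 := d14_1 D11271 (iv D9928) (iv F38747)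
theorem F43782 : act 3 n11271 = n9893 := d25_1 D11271 (iv D9893) D9892
def n11272 : Q := act 4 n9894
theorem D11272 : act 4 n9894 = n11272 := rfl
theorem F43783 : act 2 n11272 = n9895 := d16_1 D11272 (iv D9895) D9894
theorem F43784 : act 3 n11272 = n11272 := d21_1 D11272 (iv D11272) F38752 F29694 (iv F38752)
def n11273 : Q := act 8 n9894
theorem D11273 : act 8 n9894 = n11273 := rfl
theorem F43785 : act 2 n11273 = n9896 := d20_1 D11273 (iv D9896) D9894
theorem F43786 : act 3 n11273 = n9903 := d25_1 D11273 (iv D9903) (iv F38752)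
def n11274 : Q := act 5 n9895
theorem D11274 : act 5 n9895 = n11274 := rfl
theorem F43787 : act 1 n11274 = n9929 := d11_1 D11274 (iv D9929) (iv F38753)
theorem F43788 : act 3 n11274 = n9897 := d22_1 D11274 (iv D9897) (iv F38754)
def n11275 : Q := act 8 n9895
theorem D11275 : act 8 n9895 = n11275 := rfl
theorem F43789 : act 1 n11275 = n9930 := d14_1 D11275 (iv D9930) (iv F38753)
theorem F43790 : act 3 n11275 = n9898 := d25_1 D11275 (iv D9898) (iv F38754)
theorem F43791 : act 4 n11275 = n9896 := d29_1 D11275 (iv D9896) D9895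
def n11276 : Q := act 7 n9896
theorem D11276 : act 7 n9896 = n11276 := rfl
theorem F43792 : act 1 n11276 = n9931 := d13_1 D11276 (iv D9931) (iv F38755)
def n11277 : Q := act 6 n9897
theorem D11277 : act 6 n9897 = n11277 := rfl
theorem F43793 : act 1 n11277 = n9932 := d12_1 D11277 (iv D9932) (iv F38757)
theorem F43794 : act 2 n11277 = n11277 := d18_1 D11277 (iv D11277) F38758
theorem F43795 : act 4 n11277 = n9900 := d27_1 D11277 (iv D9900) (iv F38759)
theorem F43796 : act 7 n11277 = n11277 := d33_2 F38760 D11277 (iv D11277)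
def n11278 : Q := act 8 n9897
theorem D11278 : act 8 n9897 = n11278 := rfl
theorem F43797 : act 1 n11278 = n9933 := d14_1 D11278 (iv D9933) (iv F38757)
theorem F43798 : act 2 n11278 = n11278 := d20_1 D11278 (iv D11278) F38758
theorem F43799 : act 4 n11278 = n9901 := d29_1 D11278 (iv D9901) (iv F38759)
theorem F43800 : act 5 n11278 = n9898 := d32_1 D11278 (iv D9898) D9897
def n11279 : Q := act 7 n9898
theorem D11279 : act 7 n9898 = n11279 := rfl
theorem F43801 : act 1 n11279 = n9934 := d13_1 D11279 (iv D9934) (iv F38761)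
theorem F43802 : act 2 n11279 = n11279 := d19_1 D11279 (iv D11279) F38762
theorem F43803 : act 4 n11279 = n9899 := d28_1 D11279 (iv D9899) (iv F38763)
theorem F43804 : act 8 n11279 = n11279 := d35_2 D9898 D11279 (iv D11279) (iv D9898) F29668
def n11280 : Q := act 8 n9900
theorem D11280 : act 8 n9900 = n11280 := rfl
theorem F43805 : act 1 n11280 = n9935 := d14_1 D11280 (iv D9935) (iv F38768)
theorem F43806 : act 2 n11280 = n11280 := d20_1 D11280 (iv D11280) F38769
theorem F43807 : act 5 n11280 = n11280 := d32_1 D11280 (iv D11280) F38770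
theorem F43808 : act 6 n11280 = n9901 := d34_1 D11280 (iv D9901) D9900
def n11281 : Q := act 7 n9901
theorem D11281 : act 7 n9901 = n11281 := rfl
theorem F43809 : act 1 n11281 = n9936 := d13_1 D11281 (iv D9936) (iv F38772)
theorem F43810 : act 2 n11281 = n11281 := d19_1 D11281 (iv D11281) F38773
theorem F43811 : act 5 n11281 = n9902 := d31_1 D11281 (iv D9902) (iv F38774)
theorem F43812 : act 8 n11281 = n11281 := d35_2 D9901 D11281 (iv D11281) (iv D9901) F29675
def n11282 : Q := act 3 n9902
theorem D11282 : act 3 n9902 = n11282 := rfl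
theorem F43813 : act 1 n11282 = n9937 := d9_1 D11282 (iv D9937) (iv F38775)
theorem F43814 : act 6 n11282 = n11282 := d23_2 F38778 D11282 (iv D11282)
theorem F43815 : act 8 n11282 = n11282 := d25_2 F38779 D11282 (iv D11282)
def n11283 : Q := act 7 n9903
theorem D11283 : act 7 n9903 = n11283 := rfl
theorem F43816 : act 2 n11283 = n9904 := d19_1 D11283 (iv D9904) (iv F38780)
theorem F43817 : act 4 n11283 = n11283 := d28_1 D11283 (iv D11283) F38781
theorem F43818 : act 8 n11283 = n11283 := d35_2 D9903 D11283 (iv D11283) (iv D9903) F29695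
def n11284 : Q := act 7 n9905
theorem D11284 : act 7 n9905 = n11284 := rfl
theorem F43819 : act 1 n11284 = n9938 := d13_1 D11284 (iv D9938) (iv F38785)
theorem F43820 : act 2 n11284 = n9906 := d19_1 D11284 (iv D9906) D9905
theorem F43821 : act 4 n11284 = n11284 := d28_1 D11284 (iv D11284) F38787
def n11285 : Q := act 3 n9906
theorem D11285 : act 3 n9906 = n11285 := rfl
theorem F43822 : act 1 n11285 = n9917 := d9_1 D11285 (iv D9917) (iv F38788)
theorem F43823 : act 7 n11285 = n9907 := d24_2 D9906 D11285 (iv D9907) (iv D7768) D7766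
def n11286 : Q := act 8 n9906
theorem D11286 : act 8 n9906 = n11286 := rfl
theorem F43824 : act 1 n11286 = n9918 := d14_1 D11286 (iv D9918) (iv F38788)
theorem F43825 : act 4 n11286 = n11286 := d29_1 D11286 (iv D11286) F38789
def n11287 : Q := act 2 n9907
theorem D11287 : act 2 n9907 = n11287 := rfl
theorem F43826 : act 3 n11287 = n10412 := d15_2 D9907 D11287 (iv D10412) (iv D8593) (iv F29731)
def n11288 : Q := act 4 n9907
theorem D11288 : act 4 n9907 = n11288 := rfl
theorem F43827 : act 1 n11288 = n9919 := d10_1 D11288 (iv D9919) (iv F38790)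
theorem F43828 : act 3 n11288 = n9910 := d21_1 D11288 (iv D9910) (iv D7770) (iv F29732) D9907
def n11289 : Q := act 8 n9907
theorem D11289 : act 8 n9907 = n11289 := rfl
theorem F43829 : act 1 n11289 = n9920 := d14_1 D11289 (iv D9920) (iv F38790)
theorem F43830 : act 3 n11289 = n9908 := d25_1 D11289 (iv D9908) D9907
def n11290 : Q := act 4 n9909
theorem D11290 : act 4 n9909 = n11290 := rfl
theorem F43831 : act 1 n11290 = n9940 := d10_1 D11290 (iv D9940) (iv F38794)
theorem F43832 : act 2 n11290 = n9910 := d16_1 D11290 (iv D9910) D9909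
theorem F43833 : act 7 n11290 = n11290 := d28_2 F38797 D11290 (iv D11290)
def n11291 : Q := act 8 n9909
theorem D11291 : act 8 n9909 = n11291 := rfl
theorem F43834 : act 1 n11291 = n9941 := d14_1 D11291 (iv D9941) (iv F38794)
theorem F43835 : act 2 n11291 = n9911 := d20_1 D11291 (iv D9911) D9909
theorem F43836 : act 3 n11291 = n10419 := d25_1 D11291 (iv D10419) (iv F38795)
theorem F43837 : act 5 n11291 = n9913 := d32_1 D11291 (iv D9913) (iv F38796)
def n11292 : Q := act 5 n9910
theorem D11292 : act 5 n9910 = n11292 := rfl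
theorem F43838 : act 1 n11292 = n9921 := d11_1 D11292 (iv D9921) (iv F38798)
theorem F43839 : act 4 n11292 = n9914 := d26_1 D11292 (iv D9914) (iv D7773) (iv F29738) D9910
theorem F43840 : act 7 n11292 = n11292 := d31_2 F38799 D11292 (iv D11292)
def n11293 : Q := act 8 n9910
theorem D11293 : act 8 n9910 = n11293 := rfl
theorem F43841 : act 1 n11293 = n9922 := d14_1 D11293 (iv D9922) (iv F38798)
theorem F43842 : act 4 n11293 = n9911 := d29_1 D11293 (iv D9911) D9910
def n11294 : Q := act 7 n9911
theorem D11294 : act 7 n9911 = n11294 := rfl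
theorem F43843 : act 1 n11294 = n9923 := d13_1 D11294 (iv D9923) (iv F38800)
theorem F43844 : act 5 n11294 = n9916 := d31_1 D11294 (iv D9916) (iv F38802)
theorem F43845 : act 8 n11294 = n11294 := d35_2 D9911 D11294 (iv D11294) (iv D9911) F29739
def n11295 : Q := act 3 n9912
theorem D11295 : act 3 n9912 = n11295 := rfl
theorem F43846 : act 1 n11295 = n9945 := d9_1 D11295 (iv D9945) (iv F38803)
theorem F43847 : act 4 n11295 = n10423 := d21_2 D9912 D11295 (iv D10423) (iv D8600) (iv F29744)
theorem F43848 : act 6 n11295 = n11295 := d23_2 F38805 D11295 (iv D11295)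
def n11296 : Q := act 5 n9912
theorem D11296 : act 5 n9912 = n11296 := rfl
theorem F43849 : act 1 n11296 = n9946 := d11_1 D11296 (iv D9946) (iv F38803)
theorem F43850 : act 2 n11296 = n9914 := d17_1 D11296 (iv D9914) (iv F38804)
theorem F43851 : act 7 n11296 = n11296 := d31_2 F38806 D11296 (iv D11296)
def n11297 : Q := act 8 n9912
theorem D11297 : act 8 n9912 = n11297 := rfl
theorem F43852 : act 1 n11297 = n9947 := d14_1 D11297 (iv D9947) (iv F38803)
theorem F43853 : act 2 n11297 = n9915 := d20_1 D11297 (iv D9915) (iv F38804)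
theorem F43854 : act 4 n11297 = n9913 := d29_1 D11297 (iv D9913) D9912
theorem F43855 : act 6 n11297 = n11297 := d34_1 D11297 (iv D11297) F38805
def n11298 : Q := act 7 n9913
theorem D11298 : act 7 n9913 = n11298 := rfl
theorem F43856 : act 1 n11298 = n9948 := d13_1 D11298 (iv D9948) (iv F38807)
theorem F43857 : act 2 n11298 = n9916 := d19_1 D11298 (iv D9916) (iv F38808)
theorem F43858 : act 6 n11298 = n11298 := d33_1 D11298 (iv D11298) F38810
theorem F43859 : act 8 n11298 = n11298 := d35_2 D9913 D11298 (iv D11298) (iv D9913) F29746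
def n11299 : Q := act 6 n9914
theorem D11299 : act 6 n9914 = n11299 := rfl
theorem F43860 : act 1 n11299 = n9924 := d12_1 D11299 (iv D9924) (iv F38811)
theorem F43861 : act 5 n11299 = n11299 := d30_1 D11299 (iv D11299) (iv D9914) F29748 D9914
theorem F43862 : act 7 n11299 = n11299 := d33_2 F38812 D11299 (iv D11299)
def n11300 : Q := act 8 n9914
theorem D11300 : act 8 n9914 = n11300 := rfl
theorem F43863 : act 1 n11300 = n9925 := d14_1 D11300 (iv D9925) (iv F38811)
theorem F43864 : act 5 n11300 = n9915 := d32_1 D11300 (iv D9915) D9914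
def n11301 : Q := act 7 n9915
theorem D11301 : act 7 n9915 = n11301 := rfl
theorem F43865 : act 1 n11301 = n9926 := d13_1 D11301 (iv D9926) (iv F38813)
theorem F43866 : act 4 n11301 = n9916 := d28_1 D11301 (iv D9916) (iv F38814)
theorem F43867 : act 6 n11301 = n11301 := d33_1 D11301 (iv D11301) F38815
theorem F43868 : act 8 n11301 = n11301 := d35_2 D9915 D11301 (iv D11301) (iv D9915) F29749
def n11302 : Q := act 4 n9917
theorem D11302 : act 4 n9917 = n11302 := rfl
theorem F43869 : act 0 n11302 = n9927 := d3_1 D11302 (iv D9927) (iv F38819)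
theorem F43870 : act 3 n11302 = n11302 := d21_1 D11302 (iv D11302) (iv D9917) F29759 D9917
theorem F43871 : act 7 n11302 = n9919 := d28_2 (iv F38820) D11302 (iv D9919)
def n11303 : Q := act 8 n9917
theorem D11303 : act 8 n9917 = n11303 := rfl
theorem F43872 : act 0 n11303 = n9928 := d7_1 D11303 (iv D9928) (iv F38819)
theorem F43873 : act 3 n11303 = n9918 := d25_1 D11303 (iv D9918) D9917
def n11304 : Q := act 5 n9919
theorem D11304 : act 5 n9919 = n11304 := rfl
theorem F43874 : act 0 n11304 = n9929 := d4_1 D11304 (iv D9929) (iv F38824)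
theorem F43875 : act 3 n11304 = n9921 := d22_1 D11304 (iv D9921) (iv F38825)
def n11305 : Q := act 8 n9919
theorem D11305 : act 8 n9919 = n11305 := rfl
theorem F43876 : act 0 n11305 = n9930 := d7_1 D11305 (iv D9930) (iv F38824)
theorem F43877 : act 3 n11305 = n9922 := d25_1 D11305 (iv D9922) (iv F38825)
theorem F43878 : act 4 n11305 = n9920 := d29_1 D11305 (iv D9920) D9919
def n11306 : Q := act 7 n9920
theorem D11306 : act 7 n9920 = n11306 := rfl
theorem F43879 : act 0 n11306 = n9931 := d6_1 D11306 (iv D9931) (iv F38826)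
def n11307 : Q := act 6 n9921
theorem D11307 : act 6 n9921 = n11307 := rfl
theorem F43880 : act 0 n11307 = n9932 := d5_1 D11307 (iv D9932) (iv F38828)
theorem F43881 : act 2 n11307 = n9952 := d18_1 D11307 (iv D9952) (iv F38829)
theorem F43882 : act 4 n11307 = n9924 := d27_1 D11307 (iv D9924) (iv F38830)
theorem F43883 : act 7 n11307 = n11307 := d33_2 F38831 D11307 (iv D11307)
def n11308 : Q := act 8 n9921
theorem D11308 : act 8 n9921 = n11308 := rfl
theorem F43884 : act 0 n11308 = n9933 := d7_1 D11308 (iv D9933) (iv F38828)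
theorem F43885 : act 2 n11308 = n9953 := d20_1 D11308 (iv D9953) (iv F38829)
theorem F43886 : act 4 n11308 = n9925 := d29_1 D11308 (iv D9925) (iv F38830)
theorem F43887 : act 5 n11308 = n9922 := d32_1 D11308 (iv D9922) D9921
def n11309 : Q := act 7 n9922
theorem D11309 : act 7 n9922 = n11309 := rfl
theorem F43888 : act 0 n11309 = n9934 := d6_1 D11309 (iv D9934) (iv F38832)
theorem F43889 : act 2 n11309 = n9954 := d19_1 D11309 (iv D9954) (iv F38833)
theorem F43890 : act 4 n11309 = n9923 := d28_1 D11309 (iv D9923) (iv F38834)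
theorem F43891 : act 8 n11309 = n11309 := d35_2 D9922 D11309 (iv D11309) (iv D9922) F29782
def n11310 : Q := act 8 n9924
theorem D11310 : act 8 n9924 = n11310 := rfl
theorem F43892 : act 0 n11310 = n9935 := d7_1 D11310 (iv D9935) (iv F38839)
theorem F43893 : act 2 n11310 = n9955 := d20_1 D11310 (iv D9955) (iv F38840)
theorem F43894 : act 5 n11310 = n11310 := d32_1 D11310 (iv D11310) F38841
theorem F43895 : act 6 n11310 = n9925 := d34_1 D11310 (iv D9925) D9924
def n11311 : Q := act 7 n9925
theorem D11311 : act 7 n9925 = n11311 := rfl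
theorem F43896 : act 0 n11311 = n9936 := d6_1 D11311 (iv D9936) (iv F38843)
theorem F43897 : act 2 n11311 = n9956 := d19_1 D11311 (iv D9956) (iv F38844)
theorem F43898 : act 5 n11311 = n9926 := d31_1 D11311 (iv D9926) (iv F38845)
theorem F43899 : act 8 n11311 = n11311 := d35_2 D9925 D11311 (iv D11311) (iv D9925) F29789
def n11312 : Q := act 3 n9926
theorem D11312 : act 3 n9926 = n11312 := rfl
theorem F43900 : act 0 n11312 = n9937 := d2_1 D11312 (iv D9937) (iv F38846)
theorem F43901 : act 6 n11312 = n11312 := d23_2 F38849 D11312 (iv D11312)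
theorem F43902 : act 8 n11312 = n11312 := d25_2 F38850 D11312 (iv D11312)
def n11313 : Q := act 5 n9927
theorem D11313 : act 5 n9927 = n11313 := rfl
theorem F43903 : act 3 n11313 = n11313 := d22_1 D11313 (iv D11313) F38851
theorem F43904 : act 7 n11313 = n9929 := d31_2 (iv F38852) D11313 (iv D9929)
def n11314 : Q := act 8 n9927
theorem D11314 : act 8 n9927 = n11314 := rfl
theorem F43905 : act 3 n11314 = n11314 := d25_1 D11314 (iv D11314) F38851
theorem F43906 : act 4 n11314 = n9928 := d29_1 D11314 (iv D9928) D9927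
def n11315 : Q := act 7 n9928
theorem D11315 : act 7 n9928 = n11315 := rfl
theorem F43907 : act 8 n11315 = n9931 := d35_2 D9928 D11315 (iv D9931) (iv D7802) (iv F29823)
def n11316 : Q := act 6 n9929
theorem D11316 : act 6 n9929 = n11316 := rfl
theorem F43908 : act 3 n11316 = n9932 := d23_1 D11316 (iv D9932) (iv F38854)
def n11317 : Q := act 8 n9929
theorem D11317 : act 8 n9929 = n11317 := rfl
theorem F43909 : act 3 n11317 = n9933 := d25_1 D11317 (iv D9933) (iv F38854)
theorem F43910 : act 5 n11317 = n9930 := d32_1 D11317 (iv D9930) D9929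
def n11318 : Q := act 7 n9930
theorem D11318 : act 7 n9930 = n11318 := rfl
theorem F43911 : act 4 n11318 = n9931 := d28_1 D11318 (iv D9931) (iv F38856)
def n11319 : Q := act 8 n9932
theorem D11319 : act 8 n9932 = n11319 := rfl
theorem F43912 : act 2 n11319 = n9958 := d20_1 D11319 (iv D9958) (iv F38857)
theorem F43913 : act 4 n11319 = n9935 := d29_1 D11319 (iv D9935) (iv F38858)
theorem F43914 : act 6 n11319 = n9933 := d34_1 D11319 (iv D9933) D9932
def n11320 : Q := act 7 n9933
theorem D11320 : act 7 n9933 = n11320 := rfl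
theorem F43915 : act 2 n11320 = n9959 := d19_1 D11320 (iv D9959) (iv F38860)
theorem F43916 : act 4 n11320 = n9936 := d28_1 D11320 (iv D9936) (iv F38861)
theorem F43917 : act 5 n11320 = n9934 := d31_1 D11320 (iv D9934) (iv F38862)
theorem F43918 : act 8 n11320 = n11320 := d35_2 D9933 D11320 (iv D11320) (iv D9933) F29845
def n11321 : Q := act 3 n9934
theorem D11321 : act 3 n9934 = n11321 := rfl
theorem F43919 : act 8 n11321 = n11321 := d25_2 F38865 D11321 (iv D11321)
def n11322 : Q := act 7 n9935
theorem D11322 : act 7 n9935 = n11322 := rfl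
theorem F43920 : act 2 n11322 = n9961 := d19_1 D11322 (iv D9961) (iv F38866)
theorem F43921 : act 5 n11322 = n11322 := d31_1 D11322 (iv D11322) F38867
theorem F43922 : act 6 n11322 = n9936 := d33_1 D11322 (iv D9936) (iv F38868)
theorem F43923 : act 8 n11322 = n11322 := d35_2 D9935 D11322 (iv D11322) (iv D9935) F29853
def n11323 : Q := act 3 n9936
theorem D11323 : act 3 n9936 = n11323 := rfl
theorem F43924 : act 5 n11323 = n9937 := d22_2 (iv F38870) D11323 (iv D9937)
theorem F43925 : act 8 n11323 = n11323 := d25_2 F38871 D11323 (iv D11323)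
def n11324 : Q := act 2 n9937
theorem D11324 : act 2 n9937 = n11324 := rfl
theorem F43926 : act 3 n11324 = n9963 := d15_2 D9937 D11324 (iv D9963) (iv D7979) (iv F29856)
theorem F43927 : act 6 n11324 = n11324 := d18_2 F38872 D11324 (iv D11324)
theorem F43928 : act 8 n11324 = n11324 := d20_2 F38873 D11324 (iv D11324)
def n11325 : Q := act 3 n9938
theorem D11325 : act 3 n9938 = n11325 := rfl
theorem F43929 : act 0 n11325 = n11325 := d2_1 D11325 (iv D11325) F38874
theorem F43930 : act 7 n11325 = n10501 := d24_2 D9938 D11325 (iv D10501) (iv D8760) (iv F29912)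
def n11326 : Q := act 8 n9938
theorem D11326 : act 8 n9938 = n11326 := rfl
theorem F43931 : act 0 n11326 = n11326 := d7_1 D11326 (iv D11326) F38874
theorem F43932 : act 2 n11326 = n9939 := d20_1 D11326 (iv D9939) (iv F38875)
theorem F43933 : act 4 n11326 = n11326 := d29_1 D11326 (iv D11326) F38876
def n11327 : Q := act 3 n9940
theorem D11327 : act 3 n9940 = n11327 := rfl
theorem F43934 : act 0 n11327 = n11327 := d2_1 D11327 (iv D11327) F38880
theorem F43935 : act 4 n11327 = n10523 := d21_2 D9940 D11327 (iv D10523) (iv D8842) (iv F30229)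
def n11328 : Q := act 5 n9940
theorem D11328 : act 5 n9940 = n11328 := rfl
theorem F43936 : act 0 n11328 = n11328 := d4_1 D11328 (iv D11328) F38880
theorem F43937 : act 2 n11328 = n9942 := d17_1 D11328 (iv D9942) (iv F38881)
theorem F43938 : act 4 n11328 = n9946 := d26_1 D11328 (iv D9946) (iv D7923) (iv F30230) D9940
theorem F43939 : act 7 n11328 = n11328 := d31_2 F38882 D11328 (iv D11328)
def n11329 : Q := act 8 n9940
theorem D11329 : act 8 n9940 = n11329 := rfl
theorem F43940 : act 0 n11329 = n11329 := d7_1 D11329 (iv D11329) F38880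
theorem F43941 : act 2 n11329 = n9943 := d20_1 D11329 (iv D9943) (iv F38881)
theorem F43942 : act 4 n11329 = n9941 := d29_1 D11329 (iv D9941) D9940
def n11330 : Q := act 7 n9941
theorem D11330 : act 7 n9941 = n11330 := rfl
theorem F43943 : act 0 n11330 = n11330 := d6_1 D11330 (iv D11330) F38883
theorem F43944 : act 2 n11330 = n9944 := d19_1 D11330 (iv D9944) (iv F38884)
theorem F43945 : act 5 n11330 = n9948 := d31_1 D11330 (iv D9948) (iv F38886)
theorem F43946 : act 8 n11330 = n11330 := d35_2 D9941 D11330 (iv D11330) (iv D9941) F30231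
def n11331 : Q := act 6 n9942
theorem D11331 : act 6 n9942 = n11331 := rfl
theorem F43947 : act 0 n11331 = n11331 := d5_1 D11331 (iv D11331) F38887
theorem F43948 : act 1 n11331 = n9952 := d12_1 D11331 (iv D9952) (iv F38888)
theorem F43949 : act 4 n11331 = n9949 := d27_1 D11331 (iv D9949) (iv F38889)
theorem F43950 : act 7 n11331 = n11331 := d33_2 F38890 D11331 (iv D11331)
def n11332 : Q := act 8 n9942
theorem D11332 : act 8 n9942 = n11332 := rfl
theorem F43951 : act 0 n11332 = n11332 := d7_1 D11332 (iv D11332) F38887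
theorem F43952 : act 1 n11332 = n9953 := d14_1 D11332 (iv D9953) (iv F38888)
theorem F43953 : act 4 n11332 = n9950 := d29_1 D11332 (iv D9950) (iv F38889)
theorem F43954 : act 5 n11332 = n9943 := d32_1 D11332 (iv D9943) D9942
def n11333 : Q := act 7 n9943
theorem D11333 : act 7 n9943 = n11333 := rfl
theorem F43955 : act 0 n11333 = n11333 := d6_1 D11333 (iv D11333) F38891
theorem F43956 : act 1 n11333 = n9954 := d13_1 D11333 (iv D9954) (iv F38892)
theorem F43957 : act 4 n11333 = n9944 := d28_1 D11333 (iv D9944) (iv F38893)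
theorem F43958 : act 8 n11333 = n11333 := d35_2 D9943 D11333 (iv D11333) (iv D9943) F30234
def n11334 : Q := act 5 n9945
theorem D11334 : act 5 n9945 = n11334 := rfl
theorem F43959 : act 0 n11334 = n11334 := d4_1 D11334 (iv D11334) F38899
theorem F43960 : act 2 n11334 = n11334 := d17_1 D11334 (iv D11334) F38900
theorem F43961 : act 3 n11334 = n9946 := d22_1 D11334 (iv D9946) D9945
def n11335 : Q := act 7 n9945
theorem D11335 : act 7 n9945 = n11335 := rfl
theorem F43962 : act 0 n11335 = n11335 := d6_1 D11335 (iv D11335) F38899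
theorem F43963 : act 2 n11335 = n11335 := d19_1 D11335 (iv D11335) F38900
theorem F43964 : act 3 n11335 = n11335 := d24_1 D11335 (iv D11335) (iv D9945) F30242 D9945
theorem F43965 : act 4 n11335 = n10531 := d28_1 D11335 (iv D10531) (iv F38901)
theorem F43966 : act 6 n11335 = n11335 := d33_1 D11335 (iv D11335) F38902
def n11336 : Q := act 8 n9945
theorem D11336 : act 8 n9945 = n11336 := rfl
theorem F43967 : act 0 n11336 = n11336 := d7_1 D11336 (iv D11336) F38899
theorem F43968 : act 2 n11336 = n11336 := d20_1 D11336 (iv D11336) F38900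
theorem F43969 : act 3 n11336 = n9947 := d25_1 D11336 (iv D9947) D9945
theorem F43970 : act 4 n11336 = n10532 := d29_1 D11336 (iv D10532) (iv F38901)
theorem F43971 : act 6 n11336 = n11336 := d34_1 D11336 (iv D11336) F38902
def n11337 : Q := act 6 n9946
theorem D11337 : act 6 n9946 = n11337 := rfl
theorem F43972 : act 0 n11337 = n11337 := d5_1 D11337 (iv D11337) F38903
theorem F43973 : act 2 n11337 = n9949 := d18_1 D11337 (iv D9949) (iv F38904)
theorem F43974 : act 5 n11337 = n11337 := d30_1 D11337 (iv D11337) (iv D9946) F30241 D9946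
theorem F43975 : act 7 n11337 = n11337 := d33_2 F38905 D11337 (iv D11337)
def n11338 : Q := act 8 n9946
theorem D11338 : act 8 n9946 = n11338 := rfl
theorem F43976 : act 0 n11338 = n11338 := d7_1 D11338 (iv D11338) F38903
theorem F43977 : act 2 n11338 = n9950 := d20_1 D11338 (iv D9950) (iv F38904)
theorem F43978 : act 5 n11338 = n9947 := d32_1 D11338 (iv D9947) D9946
def n11339 : Q := act 7 n9947
theorem D11339 : act 7 n9947 = n11339 := rfl
theorem F43979 : act 0 n11339 = n11339 := d6_1 D11339 (iv D11339) F38906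
theorem F43980 : act 2 n11339 = n9951 := d19_1 D11339 (iv D9951) (iv F38907)
theorem F43981 : act 4 n11339 = n9948 := d28_1 D11339 (iv D9948) (iv F38908)
theorem F43982 : act 6 n11339 = n11339 := d33_1 D11339 (iv D11339) F38909
theorem F43983 : act 8 n11339 = n11339 := d35_2 D9947 D11339 (iv D11339) (iv D9947) F30242
def n11340 : Q := act 3 n9948
theorem D11340 : act 3 n9948 = n11340 := rfl
theorem F43984 : act 0 n11340 = n11340 := d2_1 D11340 (iv D11340) F38910
theorem F43985 : act 2 n11340 = n11340 := d15_1 D11340 (iv D11340) F38911 F30258 (iv F38911)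
theorem F43986 : act 6 n11340 = n11340 := d23_2 F38912 D11340 (iv D11340)
theorem F43987 : act 7 n11340 = n10536 := d24_2 D9948 D11340 (iv D10536) (iv D8850) (iv F30245)
theorem F43988 : act 8 n11340 = n11340 := d25_2 F38913 D11340 (iv D11340)
def n11341 : Q := act 8 n9949
theorem D11341 : act 8 n9949 = n11341 := rfl
theorem F43989 : act 0 n11341 = n11341 := d7_1 D11341 (iv D11341) F38914
theorem F43990 : act 1 n11341 = n9955 := d14_1 D11341 (iv D9955) (iv F38915)
theorem F43991 : act 3 n11341 = n11341 := d25_1 D11341 (iv D11341) F38916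
theorem F43992 : act 5 n11341 = n11341 := d32_1 D11341 (iv D11341) F38917
theorem F43993 : act 6 n11341 = n9950 := d34_1 D11341 (iv D9950) D9949
def n11342 : Q := act 7 n9950
theorem D11342 : act 7 n9950 = n11342 := rfl
theorem F43994 : act 0 n11342 = n11342 := d6_1 D11342 (iv D11342) F38919
theorem F43995 : act 1 n11342 = n9956 := d13_1 D11342 (iv D9956) (iv F38920)
theorem F43996 : act 5 n11342 = n9951 := d31_1 D11342 (iv D9951) (iv F38922)
theorem F43997 : act 8 n11342 = n11342 := d35_2 D9950 D11342 (iv D11342) (iv D9950) F30250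
def n11343 : Q := act 3 n9951
theorem D11343 : act 3 n9951 = n11343 := rfl
theorem F43998 : act 0 n11343 = n11343 := d2_1 D11343 (iv D11343) F38923
theorem F43999 : act 1 n11343 = n9957 := d9_1 D11343 (iv D9957) (iv F38924)
theorem F44000 : act 4 n11343 = n11343 := d21_2 (iv F38925) D11343 (iv D11343) F38925 F30258
theorem F44001 : act 6 n11343 = n11343 := d23_2 F38926 D11343 (iv D11343)
theorem F44002 : act 7 n11343 = n11343 := d24_2 D9951 D11343 (iv D11343) (iv D9951) F30253
theorem F44003 : act 8 n11343 = n11343 := d25_2 F38927 D11343 (iv D11343)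
def n11344 : Q := act 8 n9952
theorem D11344 : act 8 n9952 = n11344 := rfl
theorem F44004 : act 0 n11344 = n9958 := d7_1 D11344 (iv D9958) (iv F38928)
theorem F44005 : act 4 n11344 = n9955 := d29_1 D11344 (iv D9955) (iv F38929)
theorem F44006 : act 6 n11344 = n9953 := d34_1 D11344 (iv D9953) D9952
def n11345 : Q := act 7 n9953
theorem D11345 : act 7 n9953 = n11345 := rfl
theorem F44007 : act 0 n11345 = n9959 := d6_1 D11345 (iv D9959) (iv F38931)
theorem F44008 : act 4 n11345 = n9956 := d28_1 D11345 (iv D9956) (iv F38932)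
theorem F44009 : act 5 n11345 = n9954 := d31_1 D11345 (iv D9954) (iv F38933)
theorem F44010 : act 8 n11345 = n11345 := d35_2 D9953 D11345 (iv D11345) (iv D9953) F30307
def n11346 : Q := act 3 n9954
theorem D11346 : act 3 n9954 = n11346 := rfl
theorem F44011 : act 0 n11346 = n9960 := d2_1 D11346 (iv D9960) (iv F38934)
theorem F44012 : act 4 n11346 = n11346 := d21_2 (iv F38935) D11346 (iv D11346) F38935 F30311
theorem F44013 : act 8 n11346 = n11346 := d25_2 F38936 D11346 (iv D11346)
def n11347 : Q := act 7 n9955
theorem D11347 : act 7 n9955 = n11347 := rfl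
theorem F44014 : act 0 n11347 = n9961 := d6_1 D11347 (iv D9961) (iv F38937)
theorem F44015 : act 5 n11347 = n11347 := d31_1 D11347 (iv D11347) F38939
theorem F44016 : act 6 n11347 = n9956 := d33_1 D11347 (iv D9956) (iv F38940)
theorem F44017 : act 8 n11347 = n11347 := d35_2 D9955 D11347 (iv D11347) (iv D9955) F30317
def n11348 : Q := act 3 n9956
theorem D11348 : act 3 n9956 = n11348 := rfl
theorem F44018 : act 0 n11348 = n9962 := d2_1 D11348 (iv D9962) (iv F38941)
theorem F44019 : act 5 n11348 = n9957 := d22_2 (iv F38942) D11348 (iv D9957)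
theorem F44020 : act 7 n11348 = n11348 := d24_2 D9956 D11348 (iv D11348) (iv D9956) F30319
theorem F44021 : act 8 n11348 = n11348 := d25_2 F38943 D11348 (iv D11348)
def n11349 : Q := act 2 n9957
theorem D11349 : act 2 n9957 = n11349 := rfl
theorem F44022 : act 0 n11349 = n9963 := d1_1 D11349 (iv D9963) (iv F38944)
theorem F44023 : act 4 n11349 = n11349 := d16_2 F38945 D11349 (iv D11349)
theorem F44024 : act 6 n11349 = n11349 := d18_2 F38946 D11349 (iv D11349)
theorem F44025 : act 7 n11349 = n11349 := d19_2 F38947 D11349 (iv D11349)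
theorem F44026 : act 8 n11349 = n11349 := d20_2 F38948 D11349 (iv D11349)
def n11350 : Q := act 7 n9958
theorem D11350 : act 7 n9958 = n11350 := rfl
theorem F44027 : act 1 n11350 = n11350 := d13_1 D11350 (iv D11350) F38949
theorem F44028 : act 4 n11350 = n9961 := d28_1 D11350 (iv D9961) (iv F38950)
theorem F44029 : act 6 n11350 = n9959 := d33_1 D11350 (iv D9959) (iv F38951)
theorem F44030 : act 8 n11350 = n11350 := d35_2 D9958 D11350 (iv D11350) (iv D9958) F30427
def n11351 : Q := act 3 n9959
theorem D11351 : act 3 n9959 = n11351 := rfl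
theorem F44031 : act 1 n11351 = n11351 := d9_1 D11351 (iv D11351) F38952
theorem F44032 : act 5 n11351 = n9960 := d22_2 (iv F38954) D11351 (iv D9960)
theorem F44033 : act 8 n11351 = n11351 := d25_2 F38955 D11351 (iv D11351)
def n11352 : Q := act 2 n9960
theorem D11352 : act 2 n9960 = n11352 := rfl
theorem F44034 : act 4 n11352 = n11352 := d16_2 F38957 D11352 (iv D11352)
theorem F44035 : act 8 n11352 = n11352 := d20_2 F38958 D11352 (iv D11352)
def n11353 : Q := act 3 n9961
theorem D11353 : act 3 n9961 = n11353 := rfl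
theorem F44036 : act 1 n11353 = n11353 := d9_1 D11353 (iv D11353) F38959
theorem F44037 : act 5 n11353 = n11353 := d22_2 F38960 D11353 (iv D11353)
theorem F44038 : act 6 n11353 = n9962 := d23_2 (iv F38961) D11353 (iv D9962)
theorem F44039 : act 7 n11353 = n11353 := d24_2 D9961 D11353 (iv D11353) (iv D9961) F30435
theorem F44040 : act 8 n11353 = n11353 := d25_2 F38962 D11353 (iv D11353)
def n11354 : Q := act 2 n9962
theorem D11354 : act 2 n9962 = n11354 := rfl
theorem F44041 : act 5 n11354 = n9963 := d17_2 (iv F38964) D11354 (iv D9963)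
theorem F44042 : act 7 n11354 = n11354 := d19_2 F38965 D11354 (iv D11354)
theorem F44043 : act 8 n11354 = n11354 := d20_2 F38966 D11354 (iv D11354)
def n11355 : Q := act 4 n9962
theorem D11355 : act 4 n9962 = n11355 := rfl
theorem F44044 : act 1 n11355 = n11355 := d10_1 D11355 (iv D11355) F38963
theorem F44045 : act 5 n11355 = n11355 := d26_2 (iv F38964) D11355 (iv D11355) F38964 F30442
theorem F44046 : act 7 n11355 = n11355 := d28_2 F38965 D11355 (iv D11355)
theorem F44047 : act 8 n11355 = n11355 := d29_2 F38966 D11355 (iv D11355)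
def n11356 : Q := act 1 n9963
theorem D11356 : act 1 n9963 = n11356 := rfl
theorem F44048 : act 2 n11356 = n11356 := d8_2 D9963 D11356 (iv D11356) (iv D9963) F30441
theorem F44049 : act 4 n11356 = n11356 := d10_2 F38967 D11356 (iv D11356)
theorem F44050 : act 6 n11356 = n11356 := d12_2 F38968 D11356 (iv D11356)
theorem F44051 : act 7 n11356 = n11356 := d13_2 F38969 D11356 (iv D11356)
theorem F44052 : act 8 n11356 = n11356 := d14_2 F38970 D11356 (iv D11356)
def n11357 : Q := act 3 n9964
theorem D11357 : act 3 n9964 = n11357 := rfl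
def n11359 : Q := act 7 n9964
theorem D11359 : act 7 n9964 = n11359 := rfl
theorem F44062 : act 0 n11359 = n11359 := d6_1 D11359 (iv D11359) F38971
theorem F44063 : act 1 n11359 = n9971 := d13_1 D11359 (iv D9971) (iv F38972)
theorem F44064 : act 4 n11359 = n9966 := d28_1 D11359 (iv D9966) D9964
theorem F44065 : act 5 n11359 = n11359 := d31_1 D11359 (iv D11359) F38973
def n11360 : Q := act 7 n9965
theorem D11360 : act 7 n9965 = n11360 := rfl
theorem F44067 : act 1 n11360 = n9972 := d13_1 D11360 (iv D9972) (iv F38976)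
theorem F44069 : act 6 n11360 = n9966 := d33_1 D11360 (iv D9966) D9965
def n11361 : Q := act 3 n9966
theorem D11361 : act 3 n9966 = n11361 := rfl
theorem F44070 : act 0 n11361 = n11361 := d2_1 D11361 (iv D11361) F38980
theorem F44071 : act 1 n11361 = n9973 := d9_1 D11361 (iv D9973) (iv F38981)
theorem F44072 : act 5 n11361 = n9967 := d22_2 (iv F38982) D11361 (iv D9967)
theorem F44073 : act 7 n11361 = n11361 := d24_2 D9966 D11361 (iv D11361) (iv D9966) F31210
def n11362 : Q := act 8 n9966
theorem D11362 : act 8 n9966 = n11362 := rfl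
theorem F44074 : act 0 n11362 = n11362 := d7_1 D11362 (iv D11362) F38980
theorem F44075 : act 1 n11362 = n9974 := d14_1 D11362 (iv D9974) (iv F38981)
theorem F44076 : act 5 n11362 = n9968 := d32_1 D11362 (iv D9968) (iv F38982)
theorem F44077 : act 7 n11362 = n11362 := d35_1 D11362 (iv D11362) (iv D9966) F31211 D9966
def n11363 : Q := act 2 n9967
theorem D11363 : act 2 n9967 = n11363 := rfl
theorem F44078 : act 0 n11363 = n11363 := d1_1 D11363 (iv D11363) F38983
theorem F44079 : act 1 n11363 = n10013 := d8_1 D11363 (iv D10013) F31338 (iv F31229) (iv F38984)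
theorem F44080 : act 6 n11363 = n11363 := d18_2 F38985 D11363 (iv D11363)
theorem F44081 : act 7 n11363 = n11363 := d19_2 F38986 D11363 (iv D11363)
def n11364 : Q := act 4 n9967
theorem D11364 : act 4 n9967 = n11364 := rfl
theorem F44082 : act 0 n11364 = n11364 := d3_1 D11364 (iv D11364) F38983
theorem F44083 : act 1 n11364 = n9975 := d10_1 D11364 (iv D9975) (iv F38984)
theorem F44084 : act 3 n11364 = n11364 := d21_1 D11364 (iv D11364) (iv D9967) F31214 D9967
theorem F44085 : act 6 n11364 = n11364 := d27_2 F38985 D11364 (iv D11364)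
theorem F44086 : act 7 n11364 = n11364 := d28_2 F38986 D11364 (iv D11364)
def n11365 : Q := act 8 n9967
theorem D11365 : act 8 n9967 = n11365 := rfl
theorem F44087 : act 0 n11365 = n11365 := d7_1 D11365 (iv D11365) F38983
theorem F44088 : act 1 n11365 = n9976 := d14_1 D11365 (iv D9976) (iv F38984)
theorem F44089 : act 3 n11365 = n9968 := d25_1 D11365 (iv D9968) D9967
theorem F44090 : act 6 n11365 = n11365 := d34_1 D11365 (iv D11365) F38985
def n11369 : Q := act 7 n9970
theorem D11369 : act 7 n9970 = n11369 := rfl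
theorem F44106 : act 2 n11369 = n9978 := d19_1 D11369 (iv D9978) (iv F38998)
theorem F44107 : act 4 n11369 = n9972 := d28_1 D11369 (iv D9972) (iv F38999)
theorem F44108 : act 6 n11369 = n9971 := d33_1 D11369 (iv D9971) D9970
def n11371 : Q := act 8 n9971
theorem D11371 : act 8 n9971 = n11371 := rfl
theorem F44111 : act 0 n11371 = n9987 := d7_1 D11371 (iv D9987) (iv F39001)
theorem F44112 : act 2 n11371 = n9980 := d20_1 D11371 (iv D9980) (iv F39002)
theorem F44113 : act 4 n11371 = n9974 := d29_1 D11371 (iv D9974) (iv F39003)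
theorem F44114 : act 5 n11371 = n11371 := d32_1 D11371 (iv D11371) F39004
theorem F44115 : act 7 n11371 = n11371 := d35_1 D11371 (iv D11371) (iv D9971) F31219 D9971
def n11372 : Q := act 3 n9972
theorem D11372 : act 3 n9972 = n11372 := rfl
theorem F44116 : act 0 n11372 = n9988 := d2_1 D11372 (iv D9988) (iv F39005)
theorem F44117 : act 2 n11372 = n10022 := d15_1 D11372 (iv D10022) F31360 (iv F31245) (iv F39006)
theorem F44118 : act 5 n11372 = n11372 := d22_2 F39007 D11372 (iv D11372)
theorem F44119 : act 6 n11372 = n9973 := d23_2 (iv F39008) D11372 (iv D9973)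
theorem F44120 : act 7 n11372 = n11372 := d24_2 D9972 D11372 (iv D11372) (iv D9972) F31222
def n11373 : Q := act 8 n9972
theorem D11373 : act 8 n9972 = n11373 := rfl
theorem F44121 : act 0 n11373 = n9989 := d7_1 D11373 (iv D9989) (iv F39005)
theorem F44122 : act 2 n11373 = n9981 := d20_1 D11373 (iv D9981) (iv F39006)
theorem F44123 : act 5 n11373 = n11373 := d32_1 D11373 (iv D11373) F39007
theorem F44124 : act 6 n11373 = n9974 := d34_1 D11373 (iv D9974) (iv F39008)
theorem F44125 : act 7 n11373 = n11373 := d35_1 D11373 (iv D11373) (iv D9972) F31224 D9972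
def n11374 : Q := act 4 n9973
theorem D11374 : act 4 n9973 = n11374 := rfl
theorem F44126 : act 0 n11374 = n9990 := d3_1 D11374 (iv D9990) (iv F39009)
theorem F44127 : act 2 n11374 = n10024 := d16_1 D11374 (iv D10024) (iv F39010)
theorem F44128 : act 7 n11374 = n11374 := d28_2 F39012 D11374 (iv D11374)
def n11375 : Q := act 8 n9973
theorem D11375 : act 8 n9973 = n11375 := rfl
theorem F44129 : act 0 n11375 = n9991 := d7_1 D11375 (iv D9991) (iv F39009)
theorem F44130 : act 2 n11375 = n10025 := d20_1 D11375 (iv D10025) (iv F39010)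
theorem F44131 : act 3 n11375 = n9974 := d25_1 D11375 (iv D9974) D9973
theorem F44132 : act 5 n11375 = n9976 := d32_1 D11375 (iv D9976) (iv F39011)
def n11376 : Q := act 5 n9975
theorem D11376 : act 5 n9975 = n11376 := rfl
theorem F44133 : act 0 n11376 = n9992 := d4_1 D11376 (iv D9992) (iv F39017)
theorem F44134 : act 2 n11376 = n10026 := d17_1 D11376 (iv D10026) (iv F39018)
theorem F44135 : act 3 n11376 = n11376 := d22_1 D11376 (iv D11376) F39019
theorem F44136 : act 7 n11376 = n11376 := d31_2 F39021 D11376 (iv D11376)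
def n11377 : Q := act 8 n9975
theorem D11377 : act 8 n9975 = n11377 := rfl
theorem F44137 : act 0 n11377 = n9993 := d7_1 D11377 (iv D9993) (iv F39017)
theorem F44138 : act 2 n11377 = n10027 := d20_1 D11377 (iv D10027) (iv F39018)
theorem F44139 : act 3 n11377 = n11377 := d25_1 D11377 (iv D11377) F39019
theorem F44140 : act 4 n11377 = n9976 := d29_1 D11377 (iv D9976) D9975
theorem F44141 : act 6 n11377 = n11377 := d34_1 D11377 (iv D11377) F39020
def n11378 : Q := act 7 n9976
theorem D11378 : act 7 n9976 = n11378 := rfl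
theorem F44142 : act 0 n11378 = n9994 := d6_1 D11378 (iv D9994) (iv F39022)
theorem F44143 : act 2 n11378 = n10028 := d19_1 D11378 (iv D10028) (iv F39023)
theorem F44144 : act 3 n11378 = n11378 := d24_1 D11378 (iv D11378) F39024 F31236 (iv F39024)
theorem F44145 : act 6 n11378 = n11378 := d33_1 D11378 (iv D11378) F39025
theorem F44146 : act 8 n11378 = n11378 := d35_2 D9976 D11378 (iv D11378) (iv D9976) F31231
def n11379 : Q := act 7 n9977
theorem D11379 : act 7 n9977 = n11379 := rfl
theorem F44149 : act 5 n11379 = n9978 := d31_1 D11379 (iv D9978) D9977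
def n11380 : Q := act 3 n9978
theorem D11380 : act 3 n9978 = n11380 := rfl
theorem F44151 : act 0 n11380 = n9996 := d2_1 D11380 (iv D9996) (iv F39031)
theorem F44152 : act 4 n11380 = n10030 := d21_2 (iv F39032) D11380 (iv D10030) F31383 (iv F31245)
theorem F44153 : act 6 n11380 = n9979 := d23_2 (iv F39033) D11380 (iv D9979)
theorem F44154 : act 7 n11380 = n11380 := d24_2 D9978 D11380 (iv D11380) (iv D9978) F31238
def n11381 : Q := act 8 n9978
theorem D11381 : act 8 n9978 = n11381 := rfl
theorem F44155 : act 0 n11381 = n9997 := d7_1 D11381 (iv D9997) (iv F39031)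
theorem F44156 : act 4 n11381 = n9981 := d29_1 D11381 (iv D9981) (iv F39032)
theorem F44157 : act 6 n11381 = n9980 := d34_1 D11381 (iv D9980) (iv F39033)
theorem F44158 : act 7 n11381 = n11381 := d35_1 D11381 (iv D11381) (iv D9978) F31240 D9978
def n11382 : Q := act 2 n9979
theorem D11382 : act 2 n9979 = n11382 := rfl
theorem F44159 : act 0 n11382 = n9998 := d1_1 D11382 (iv D9998) (iv F39034)
theorem F44160 : act 4 n11382 = n10032 := d16_2 (iv F39035) D11382 (iv D10032)
theorem F44161 : act 5 n11382 = n11382 := d17_2 F39036 D11382 (iv D11382)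
theorem F44162 : act 7 n11382 = n11382 := d19_2 F39037 D11382 (iv D11382)
def n11383 : Q := act 8 n9979
theorem D11383 : act 8 n9979 = n11383 := rfl
theorem F44163 : act 0 n11383 = n9999 := d7_1 D11383 (iv D9999) (iv F39034)
theorem F44164 : act 3 n11383 = n9980 := d25_1 D11383 (iv D9980) D9979
theorem F44165 : act 4 n11383 = n10033 := d29_1 D11383 (iv D10033) (iv F39035)
theorem F44166 : act 5 n11383 = n11383 := d32_1 D11383 (iv D11383) F39036
def n11390 : Q := act 8 n9985
theorem D11390 : act 8 n9985 = n11390 := rfl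
theorem F44192 : act 2 n11390 = n9997 := d20_1 D11390 (iv D9997) (iv F39062)
def n11391 : Q := act 2 n9986
theorem D11391 : act 2 n9986 = n11391 := rfl
theorem F44196 : act 3 n11391 = n9998 := d15_2 D9986 D11391 (iv D9998) (iv D8206) (iv F31262)
def n11392 : Q := act 4 n9986
theorem D11392 : act 4 n9986 = n11392 := rfl
theorem F44199 : act 3 n11392 = n9990 := d21_1 D11392 (iv D9990) (iv D8200) (iv F31263) D9986
def n11394 : Q := act 4 n9988
theorem D11394 : act 4 n9988 = n11394 := rfl
theorem F44204 : act 2 n11394 = n10044 := d16_1 D11394 (iv D10044) (iv F39073)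
theorem F44205 : act 6 n11394 = n9990 := d27_2 (iv F39075) D11394 (iv D9990)
def n11395 : Q := act 8 n9988
theorem D11395 : act 8 n9988 = n11395 := rfl
theorem F44207 : act 1 n11395 = n11395 := d14_1 D11395 (iv D11395) F39072
theorem F44208 : act 2 n11395 = n10045 := d20_1 D11395 (iv D10045) (iv F39073)
theorem F44209 : act 3 n11395 = n9989 := d25_1 D11395 (iv D9989) D9988
theorem F44210 : act 5 n11395 = n11395 := d32_1 D11395 (iv D11395) F39074
theorem F44211 : act 6 n11395 = n9991 := d34_1 D11395 (iv D9991) (iv F39075)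
def n11396 : Q := act 5 n9990
theorem D11396 : act 5 n9990 = n11396 := rfl
theorem F44212 : act 1 n11396 = n11396 := d11_1 D11396 (iv D11396) F39082
theorem F44213 : act 2 n11396 = n10046 := d17_1 D11396 (iv D10046) (iv F39083)
theorem F44214 : act 4 n11396 = n9992 := d26_1 D11396 (iv D9992) (iv D8202) (iv F31271) D9990
theorem F44215 : act 7 n11396 = n11396 := d31_2 F39084 D11396 (iv D11396)
def n11397 : Q := act 8 n9990
theorem D11397 : act 8 n9990 = n11397 := rfl
theorem F44216 : act 1 n11397 = n11397 := d14_1 D11397 (iv D11397) F39082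
theorem F44217 : act 2 n11397 = n10047 := d20_1 D11397 (iv D10047) (iv F39083)
theorem F44218 : act 4 n11397 = n9991 := d29_1 D11397 (iv D9991) D9990
def n11398 : Q := act 7 n9991
theorem D11398 : act 7 n9991 = n11398 := rfl
theorem F44219 : act 1 n11398 = n11398 := d13_1 D11398 (iv D11398) F39085
theorem F44220 : act 2 n11398 = n10048 := d19_1 D11398 (iv D10048) (iv F39086)
theorem F44221 : act 3 n11398 = n11398 := d24_1 D11398 (iv D11398) F39087 F31276 (iv F39087)
theorem F44222 : act 5 n11398 = n9994 := d31_1 D11398 (iv D9994) (iv F39088)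
theorem F44223 : act 8 n11398 = n11398 := d35_2 D9991 D11398 (iv D11398) (iv D9991) F31272
def n11399 : Q := act 6 n9992
theorem D11399 : act 6 n9992 = n11399 := rfl
theorem F44224 : act 1 n11399 = n11399 := d12_1 D11399 (iv D11399) F39089
theorem F44225 : act 2 n11399 = n10049 := d18_1 D11399 (iv D10049) (iv F39090)
theorem F44226 : act 3 n11399 = n11399 := d23_1 D11399 (iv D11399) F39091
theorem F44227 : act 5 n11399 = n11399 := d30_1 D11399 (iv D11399) (iv D9992) F31280 D9992
theorem F44228 : act 7 n11399 = n11399 := d33_2 F39092 D11399 (iv D11399)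
def n11400 : Q := act 8 n9992
theorem D11400 : act 8 n9992 = n11400 := rfl
theorem F44229 : act 1 n11400 = n11400 := d14_1 D11400 (iv D11400) F39089
theorem F44230 : act 2 n11400 = n10050 := d20_1 D11400 (iv D10050) (iv F39090)
theorem F44231 : act 3 n11400 = n11400 := d25_1 D11400 (iv D11400) F39091
theorem F44232 : act 5 n11400 = n9993 := d32_1 D11400 (iv D9993) D9992
def n11401 : Q := act 7 n9993
theorem D11401 : act 7 n9993 = n11401 := rfl
theorem F44233 : act 1 n11401 = n11401 := d13_1 D11401 (iv D11401) F39093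
theorem F44234 : act 2 n11401 = n10051 := d19_1 D11401 (iv D10051) (iv F39094)
theorem F44235 : act 4 n11401 = n9994 := d28_1 D11401 (iv D9994) (iv F39096)
theorem F44236 : act 6 n11401 = n11401 := d33_1 D11401 (iv D11401) F39097
theorem F44237 : act 8 n11401 = n11401 := d35_2 D9993 D11401 (iv D11401) (iv D9993) F31281
def n11402 : Q := act 3 n9995
theorem D11402 : act 3 n9995 = n11402 := rfl
theorem F44238 : act 1 n11402 = n10000 := d9_1 D11402 (iv D10000) (iv F39103)
theorem F44239 : act 5 n11402 = n9996 := d22_2 (iv F39105) D11402 (iv D9996)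
def n11403 : Q := act 8 n9995
theorem D11403 : act 8 n9995 = n11403 := rfl
theorem F44244 : act 5 n11403 = n9997 := d32_1 D11403 (iv D9997) (iv F39105)
def n11404 : Q := act 2 n9996
theorem D11404 : act 2 n9996 = n11404 := rfl
theorem F44247 : act 4 n11404 = n10054 := d16_2 (iv F39108) D11404 (iv D10054)
theorem F44248 : act 6 n11404 = n9998 := d18_2 (iv F39109) D11404 (iv D9998)
def n11405 : Q := act 8 n9996
theorem D11405 : act 8 n9996 = n11405 := rfl
theorem F44250 : act 1 n11405 = n10003 := d14_1 D11405 (iv D10003) (iv F39107)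
theorem F44251 : act 3 n11405 = n9997 := d25_1 D11405 (iv D9997) D9996
theorem F44252 : act 4 n11405 = n10055 := d29_1 D11405 (iv D10055) (iv F39108)
theorem F44253 : act 6 n11405 = n9999 := d34_1 D11405 (iv D9999) (iv F39109)
def n11406 : Q := act 1 n9998
theorem D11406 : act 1 n9998 = n11406 := rfl
theorem F44254 : act 2 n11406 = n10004 := d8_2 D9998 D11406 (iv D10004) (iv D8212) (iv F31294)
theorem F44255 : act 4 n11406 = n10056 := d10_2 (iv F39115) D11406 (iv D10056)
theorem F44256 : act 5 n11406 = n11406 := d11_2 F39116 D11406 (iv D11406)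
theorem F44257 : act 7 n11406 = n11406 := d13_2 F39117 D11406 (iv D11406)
def n11407 : Q := act 8 n9998
theorem D11407 : act 8 n9998 = n11407 := rfl
theorem F44258 : act 2 n11407 = n9999 := d20_1 D11407 (iv D9999) D9998
theorem F44259 : act 4 n11407 = n10057 := d29_1 D11407 (iv D10057) (iv F39115)
theorem F44260 : act 5 n11407 = n11407 := d32_1 D11407 (iv D11407) F39116
def n11408 : Q := act 7 n9999
theorem D11408 : act 7 n9999 = n11408 := rfl
theorem F44261 : act 1 n11408 = n10006 := d13_1 D11408 (iv D10006) (iv F39118)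
theorem F44262 : act 3 n11408 = n11408 := d24_1 D11408 (iv D11408) F39119 F31301 (iv F39119)
theorem F44263 : act 4 n11408 = n10058 := d28_1 D11408 (iv D10058) (iv F39120)
theorem F44264 : act 5 n11408 = n11408 := d31_1 D11408 (iv D11408) F39121
theorem F44265 : act 8 n11408 = n11408 := d35_2 D9999 D11408 (iv D11408) (iv D9999) F31297
def n11409 : Q := act 2 n10000
theorem D11409 : act 2 n10000 = n11409 := rfl
theorem F44266 : act 3 n11409 = n11409 := d15_2 D10000 D11409 (iv D11409) (iv D10000) F31307
theorem F44267 : act 5 n11409 = n10002 := d17_2 (iv F39122) D11409 (iv D10002)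
theorem F44268 : act 6 n11409 = n11409 := d18_2 F39123 D11409 (iv D11409)
theorem F44269 : act 7 n11409 = n11409 := d19_2 F39124 D11409 (iv D11409)
theorem F44270 : act 4 n10218 = n11409 := d26_5 F44267 F39131 F38401 (iv F32097) (iv F39971)
def n11410 : Q := act 4 n10000
theorem D11410 : act 4 n10000 = n11410 := rfl
theorem F44271 : act 0 n11410 = n11409 := d3_1 D11410 (iv F44270) F39970
theorem F44272 : act 2 n11410 = n10218 := d16_1 D11410 F44270 (iv D11409)
theorem F44273 : act 3 n11410 = n11410 := d21_1 D11410 (iv D11410) (iv D10000) F31308 D10000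
theorem F44274 : act 5 n11410 = n10059 := d26_2 (iv F39122) D11410 (iv D10059) F31462 (iv F31311)
theorem F44275 : act 6 n11410 = n11410 := d27_2 F39123 D11410 (iv D11410)
theorem F44276 : act 7 n11410 = n11410 := d28_2 F39124 D11410 (iv D11410)
def n11411 : Q := act 8 n10000
theorem D11411 : act 8 n10000 = n11411 := rfl
theorem F44277 : act 3 n11411 = n10001 := d25_1 D11411 (iv D10001) D10000
theorem F44278 : act 5 n11411 = n10003 := d32_1 D11411 (iv D10003) (iv F39122)
theorem F44279 : act 6 n11411 = n11411 := d34_1 D11411 (iv D11411) F39123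
def n11412 : Q := act 1 n10002
theorem D11412 : act 1 n10002 = n11412 := rfl
theorem F44280 : act 3 n11412 = n11412 := d9_2 F39130 D11412 (iv D11412)
theorem F44281 : act 4 n11412 = n10061 := d10_2 (iv F39131) D11412 (iv D10061)
theorem F44282 : act 6 n11412 = n10004 := d12_2 (iv F39132) D11412 (iv D10004)
theorem F44283 : act 7 n11412 = n11412 := d13_2 F39133 D11412 (iv D11412)
def n11413 : Q := act 8 n10002
theorem D11413 : act 8 n10002 = n11413 := rfl
theorem F44284 : act 2 n11413 = n10003 := d20_1 D11413 (iv D10003) D10002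
theorem F44285 : act 3 n11413 = n11413 := d25_1 D11413 (iv D11413) F39130
theorem F44286 : act 4 n11413 = n10062 := d29_1 D11413 (iv D10062) (iv F39131)
theorem F44287 : act 6 n11413 = n10005 := d34_1 D11413 (iv D10005) (iv F39132)
def n11414 : Q := act 7 n10003
theorem D11414 : act 7 n10003 = n11414 := rfl
theorem F44288 : act 3 n11414 = n11414 := d24_1 D11414 (iv D11414) F39134 F31317 (iv F39134)
theorem F44289 : act 4 n11414 = n10063 := d28_1 D11414 (iv D10063) (iv F39135)
theorem F44290 : act 6 n11414 = n10006 := d33_1 D11414 (iv D10006) (iv F39136)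
theorem F44291 : act 8 n11414 = n11414 := d35_2 D10003 D11414 (iv D11414) (iv D10003) F31313
def n11415 : Q := act 0 n10004
theorem D11415 : act 0 n10004 = n11415 := rfl
theorem F44292 : act 3 n11415 = n11415 := d2_2 F39137 D11415 (iv D11415)
theorem F44293 : act 4 n11415 = n10064 := d3_2 (iv F39138) D11415 (iv D10064)
theorem F44294 : act 5 n11415 = n11415 := d4_2 F39139 D11415 (iv D11415)
theorem F44295 : act 7 n11415 = n11415 := d6_2 F39140 D11415 (iv D11415)
def n11416 : Q := act 8 n10004
theorem D11416 : act 8 n10004 = n11416 := rfl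
theorem F44296 : act 1 n11416 = n10005 := d14_1 D11416 (iv D10005) D10004
theorem F44297 : act 3 n11416 = n11416 := d25_1 D11416 (iv D11416) F39137
theorem F44298 : act 4 n11416 = n10065 := d29_1 D11416 (iv D10065) (iv F39138)
theorem F44299 : act 5 n11416 = n11416 := d32_1 D11416 (iv D11416) F39139
def n11417 : Q := act 7 n10005
theorem D11417 : act 7 n10005 = n11417 := rfl
theorem F44300 : act 2 n11417 = n10006 := d19_1 D11417 (iv D10006) (iv F39141)
theorem F44301 : act 4 n11417 = n10066 := d28_1 D11417 (iv D10066) (iv F39143)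
theorem F44302 : act 5 n11417 = n11417 := d31_1 D11417 (iv D11417) F39144
theorem F44303 : act 8 n11417 = n11417 := d35_2 D10005 D11417 (iv D11417) (iv D10005) F31321
def n11418 : Q := act 2 n10007
theorem D11418 : act 2 n10007 = n11418 := rfl
theorem F44304 : act 0 n11418 = n10067 := d1_1 D11418 (iv D10067) (iv F39149)
theorem F44305 : act 1 n11418 = n11418 := d8_1 D11418 (iv D11418) F39150 F31347 (iv F39150)
theorem F44306 : act 4 n11418 = n11418 := d16_2 F39151 D11418 (iv D11418)
theorem F44307 : act 5 n11418 = n10274 := d17_2 (iv F39152) D11418 (iv D10274)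
theorem F44308 : act 8 n11418 = n11243 := d20_2 (iv F39153) D11418 (iv D11243)
def n11419 : Q := act 6 n10007
theorem D11419 : act 6 n10007 = n11419 := rfl
theorem F44309 : act 0 n11419 = n10068 := d5_1 D11419 (iv D10068) (iv F39149)
theorem F44310 : act 1 n11419 = n10016 := d12_1 D11419 (iv D10016) (iv F39150)
theorem F44311 : act 3 n11419 = n10008 := d23_1 D11419 (iv D10008) D10007
theorem F44312 : act 4 n11419 = n11419 := d27_1 D11419 (iv D11419) F39151
theorem F44313 : act 8 n11419 = n10509 := d34_2 (iv F39153) D11419 F40964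
def n11420 : Q := act 7 n10007
theorem D11420 : act 7 n10007 = n11420 := rfl
theorem F44314 : act 0 n11420 = n10069 := d6_1 D11420 (iv D10069) (iv F39149)
theorem F44315 : act 1 n11420 = n10017 := d13_1 D11420 (iv D10017) (iv F39150)
theorem F44316 : act 4 n11420 = n11420 := d28_1 D11420 (iv D11420) F39151
theorem F44317 : act 5 n11420 = n10276 := d31_1 D11420 (iv D10276) (iv F39152)
def n11421 : Q := act 5 n10008
theorem D11421 : act 5 n10008 = n11421 := rfl
theorem F44318 : act 0 n11421 = n10070 := d4_1 D11421 (iv D10070) (iv F39154)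
theorem F44319 : act 1 n11421 = n10018 := d11_1 D11421 (iv D10018) (iv F39155)
theorem F44320 : act 4 n11421 = n11421 := d26_1 D11421 (iv D11421) F39156 F31332 (iv F39156)
theorem F44321 : act 6 n11421 = n10277 := d30_2 D10008 D11421 (iv D10277) (iv D8467) (iv F31327)
theorem F44322 : act 8 n11421 = n10167 := d32_2 (iv F39157) D11421 F39752
def n11422 : Q := act 7 n10008
theorem D11422 : act 7 n10008 = n11422 := rfl
theorem F44323 : act 0 n11422 = n10071 := d6_1 D11422 (iv D10071) (iv F39154)
theorem F44324 : act 1 n11422 = n10019 := d13_1 D11422 (iv D10019) (iv F39155)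
theorem F44325 : act 4 n11422 = n10010 := d28_1 D11422 (iv D10010) (iv F39156)
theorem F44326 : act 6 n11422 = n10009 := d33_1 D11422 (iv D10009) D10008
def n11423 : Q := act 3 n10009
theorem D11423 : act 3 n10009 = n11423 := rfl
theorem F44327 : act 0 n11423 = n10072 := d2_1 D11423 (iv D10072) (iv F39158)
theorem F44328 : act 1 n11423 = n10020 := d9_1 D11423 (iv D10020) (iv F39159)
theorem F44329 : act 5 n11423 = n10279 := d22_2 (iv F39161) D11423 (iv D10279)
def n11424 : Q := act 8 n10009
theorem D11424 : act 8 n10009 = n11424 := rfl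
theorem F44330 : act 0 n11424 = n10073 := d7_1 D11424 (iv D10073) (iv F39158)
theorem F44331 : act 1 n11424 = n10021 := d14_1 D11424 (iv D10021) (iv F39159)
theorem F44332 : act 4 n11424 = n10012 := d29_1 D11424 (iv D10012) (iv F39160)
theorem F44333 : act 5 n11424 = n10280 := d32_1 D11424 (iv D10280) (iv F39161)
theorem F44334 : act 7 n11424 = n11246 := d35_1 D11424 (iv D11246) (iv D9876) (iv F31328) D10009
def n11425 : Q := act 3 n10010
theorem D11425 : act 3 n10010 = n11425 := rfl
theorem F44335 : act 0 n11425 = n10074 := d2_1 D11425 (iv D10074) (iv F39162)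
theorem F44336 : act 1 n11425 = n10022 := d9_1 D11425 (iv D10022) (iv F39163)
theorem F44337 : act 5 n11425 = n11425 := d22_2 F39164 D11425 (iv D11425)
theorem F44338 : act 6 n11425 = n10011 := d23_2 (iv F39165) D11425 (iv D10011)
theorem F44339 : act 7 n11425 = n11425 := d24_2 D10010 D11425 (iv D11425) (iv D10010) F31331
def n11426 : Q := act 8 n10010
theorem D11426 : act 8 n10010 = n11426 := rfl
theorem F44340 : act 0 n11426 = n10075 := d7_1 D11426 (iv D10075) (iv F39162)
theorem F44341 : act 1 n11426 = n10023 := d14_1 D11426 (iv D10023) (iv F39163)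
theorem F44342 : act 5 n11426 = n11426 := d32_1 D11426 (iv D11426) F39164
theorem F44343 : act 6 n11426 = n10012 := d34_1 D11426 (iv D10012) (iv F39165)
theorem F44344 : act 7 n11426 = n10558 := d35_1 D11426 (iv D10558) F33688 F38435 D10010
def n11427 : Q := act 2 n10011
theorem D11427 : act 2 n10011 = n11427 := rfl
theorem F44345 : act 0 n11427 = n10076 := d1_1 D11427 (iv D10076) (iv F39166)
theorem F44346 : act 5 n11427 = n10013 := d17_2 (iv F39168) D11427 (iv D10013)
theorem F44347 : act 7 n11427 = n11427 := d19_2 F39169 D11427 (iv D11427)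
def n11428 : Q := act 4 n10011
theorem D11428 : act 4 n10011 = n11428 := rfl
theorem F44348 : act 0 n11428 = n10077 := d3_1 D11428 (iv D10077) (iv F39166)
theorem F44349 : act 1 n11428 = n10024 := d10_1 D11428 (iv D10024) (iv F39167)
theorem F44350 : act 7 n11428 = n11428 := d28_2 F39169 D11428 (iv D11428)
def n11429 : Q := act 8 n10011
theorem D11429 : act 8 n10011 = n11429 := rfl
theorem F44351 : act 0 n11429 = n10078 := d7_1 D11429 (iv D10078) (iv F39166)
theorem F44352 : act 1 n11429 = n10025 := d14_1 D11429 (iv D10025) (iv F39167)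
theorem F44353 : act 3 n11429 = n10012 := d25_1 D11429 (iv D10012) D10011
theorem F44354 : act 5 n11429 = n10015 := d32_1 D11429 (iv D10015) (iv F39168)
def n11430 : Q := act 4 n10013
theorem D11430 : act 4 n10013 = n11430 := rfl
theorem F44355 : act 0 n11430 = n10079 := d3_1 D11430 (iv D10079) (iv F39174)
theorem F44356 : act 2 n11430 = n10014 := d16_1 D11430 (iv D10014) D10013
theorem F44357 : act 6 n11430 = n11430 := d27_2 F39175 D11430 (iv D11430)
theorem F44358 : act 7 n11430 = n11430 := d28_2 F39176 D11430 (iv D11430)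
def n11431 : Q := act 8 n10013
theorem D11431 : act 8 n10013 = n11431 := rfl
theorem F44359 : act 0 n11431 = n10080 := d7_1 D11431 (iv D10080) (iv F39174)
theorem F44360 : act 2 n11431 = n10015 := d20_1 D11431 (iv D10015) D10013
theorem F44361 : act 6 n11431 = n11431 := d34_1 D11431 (iv D11431) F39175
def n11432 : Q := act 5 n10014
theorem D11432 : act 5 n10014 = n11432 := rfl
theorem F44362 : act 0 n11432 = n10081 := d4_1 D11432 (iv D10081) (iv F39177)
theorem F44363 : act 1 n11432 = n10026 := d11_1 D11432 (iv D10026) (iv F39178)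
theorem F44364 : act 3 n11432 = n10288 := d22_1 D11432 (iv D10288) (iv F39179)
theorem F44365 : act 7 n11432 = n11432 := d31_2 F39181 D11432 (iv D11432)
def n11433 : Q := act 8 n10014
theorem D11433 : act 8 n10014 = n11433 := rfl
theorem F44366 : act 0 n11433 = n10082 := d7_1 D11433 (iv D10082) (iv F39177)
theorem F44367 : act 1 n11433 = n10027 := d14_1 D11433 (iv D10027) (iv F39178)
theorem F44368 : act 3 n11433 = n10289 := d25_1 D11433 (iv D10289) (iv F39179)
theorem F44369 : act 4 n11433 = n10015 := d29_1 D11433 (iv D10015) D10014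
theorem F44370 : act 6 n11433 = n11433 := d34_1 D11433 (iv D11433) F39180
def n11434 : Q := act 7 n10015
theorem D11434 : act 7 n10015 = n11434 := rfl
theorem F44371 : act 0 n11434 = n10083 := d6_1 D11434 (iv D10083) (iv F39182)
theorem F44372 : act 1 n11434 = n10028 := d13_1 D11434 (iv D10028) (iv F39183)
theorem F44373 : act 3 n11434 = n11254 := d24_1 D11434 (iv D11254) F38713 (iv F31345) (iv F39184)
theorem F44374 : act 6 n11434 = n11434 := d33_1 D11434 (iv D11434) F39185
theorem F44375 : act 8 n11434 = n11434 := d35_2 D10015 D11434 (iv D11434) (iv D10015) F31340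
def n11435 : Q := act 5 n10016
theorem D11435 : act 5 n10016 = n11435 := rfl
theorem F44376 : act 0 n11435 = n10034 := d4_1 D11435 (iv D10034) (iv F39186)
theorem F44377 : act 2 n11435 = n11435 := d17_1 D11435 (iv D11435) F39187
theorem F44378 : act 3 n11435 = n10018 := d22_1 D11435 (iv D10018) (iv F39188)
theorem F44379 : act 6 n11435 = n10291 := d30_2 D10016 D11435 (iv D10291) (iv D8475) (iv F31349)
theorem F44380 : act 8 n11435 = n10179 := d32_2 (iv F39190) D11435 F39800
def n11436 : Q := act 7 n10016
theorem D11436 : act 7 n10016 = n11436 := rfl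
theorem F44381 : act 0 n11436 = n10035 := d6_1 D11436 (iv D10035) (iv F39186)
theorem F44382 : act 2 n11436 = n11436 := d19_1 D11436 (iv D11436) F39187
theorem F44383 : act 4 n11436 = n11436 := d28_1 D11436 (iv D11436) F39189
theorem F44384 : act 6 n11436 = n10017 := d33_1 D11436 (iv D10017) D10016
def n11437 : Q := act 3 n10017
theorem D11437 : act 3 n10017 = n11437 := rfl
theorem F44385 : act 0 n11437 = n10036 := d2_1 D11437 (iv D10036) (iv F39191)
theorem F44386 : act 5 n11437 = n10293 := d22_2 (iv F39194) D11437 (iv D10293)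
theorem F44387 : act 7 n11437 = n10020 := d24_2 D10017 D11437 (iv D10020) (iv D8221) D8219
def n11438 : Q := act 8 n10017
theorem D11438 : act 8 n10017 = n11438 := rfl
theorem F44388 : act 0 n11438 = n10037 := d7_1 D11438 (iv D10037) (iv F39191)
theorem F44389 : act 2 n11438 = n11438 := d20_1 D11438 (iv D11438) F39192
theorem F44390 : act 4 n11438 = n11438 := d29_1 D11438 (iv D11438) F39193
theorem F44391 : act 5 n11438 = n10294 := d32_1 D11438 (iv D10294) (iv F39194)
theorem F44392 : act 7 n11438 = n11256 := d35_1 D11438 (iv D11256) (iv D9882) (iv F31350) D10017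
def n11439 : Q := act 7 n10018
theorem D11439 : act 7 n10018 = n11439 := rfl
theorem F44393 : act 0 n11439 = n10038 := d6_1 D11439 (iv D10038) (iv F39195)
theorem F44394 : act 2 n11439 = n10029 := d19_1 D11439 (iv D10029) (iv F39196)
theorem F44395 : act 4 n11439 = n11439 := d28_1 D11439 (iv D11439) F39197
theorem F44396 : act 5 n11439 = n10019 := d31_1 D11439 (iv D10019) D10018
theorem F44397 : act 6 n11439 = n10295 := d33_1 D11439 (iv D10295) (iv F39198)
def n11440 : Q := act 3 n10019
theorem D11440 : act 3 n10019 = n11440 := rfl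
theorem F44398 : act 0 n11440 = n10039 := d2_1 D11440 (iv D10039) (iv F39200)
theorem F44399 : act 6 n11440 = n10020 := d23_2 (iv F39203) D11440 (iv D10020)
def n11441 : Q := act 8 n10019
theorem D11441 : act 8 n10019 = n11441 := rfl
theorem F44400 : act 0 n11441 = n10040 := d7_1 D11441 (iv D10040) (iv F39200)
theorem F44401 : act 2 n11441 = n10031 := d20_1 D11441 (iv D10031) (iv F39201)
theorem F44402 : act 4 n11441 = n10023 := d29_1 D11441 (iv D10023) (iv F39202)
theorem F44403 : act 6 n11441 = n10021 := d34_1 D11441 (iv D10021) (iv F39203)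
theorem F44404 : act 7 n11441 = n10487 := d35_1 D11441 (iv D10487) F32931 F38416 D10019
def n11442 : Q := act 2 n10020
theorem D11442 : act 2 n10020 = n11442 := rfl
theorem F44405 : act 0 n11442 = n10041 := d1_1 D11442 (iv D10041) (iv F39204)
theorem F44406 : act 3 n11442 = n10032 := d15_2 D10020 D11442 (iv D10032) (iv D8229) (iv F31356)
theorem F44407 : act 5 n11442 = n10298 := d17_2 (iv F39205) D11442 (iv D10298)
def n11443 : Q := act 4 n10020
theorem D11443 : act 4 n10020 = n11443 := rfl
theorem F44408 : act 0 n11443 = n10042 := d3_1 D11443 (iv D10042) (iv F39204)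
theorem F44409 : act 3 n11443 = n10024 := d21_1 D11443 (iv D10024) (iv D8223) (iv F31357) D10020
def n11444 : Q := act 8 n10020
theorem D11444 : act 8 n10020 = n11444 := rfl
theorem F44410 : act 0 n11444 = n10043 := d7_1 D11444 (iv D10043) (iv F39204)
theorem F44411 : act 3 n11444 = n10021 := d25_1 D11444 (iv D10021) D10020
theorem F44412 : act 5 n11444 = n10300 := d32_1 D11444 (iv D10300) (iv F39205)
def n11445 : Q := act 4 n10022
theorem D11445 : act 4 n10022 = n11445 := rfl
theorem F44413 : act 0 n11445 = n10044 := d3_1 D11445 (iv D10044) (iv F39211)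
theorem F44414 : act 6 n11445 = n10024 := d27_2 (iv F39213) D11445 (iv D10024)
theorem F44415 : act 7 n11445 = n11445 := d28_2 F39214 D11445 (iv D11445)
def n11446 : Q := act 8 n10022
theorem D11446 : act 8 n10022 = n11446 := rfl
theorem F44416 : act 0 n11446 = n10045 := d7_1 D11446 (iv D10045) (iv F39211)
theorem F44417 : act 3 n11446 = n10023 := d25_1 D11446 (iv D10023) D10022
theorem F44418 : act 5 n11446 = n11446 := d32_1 D11446 (iv D11446) F39212
theorem F44419 : act 6 n11446 = n10025 := d34_1 D11446 (iv D10025) (iv F39213)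
def n11447 : Q := act 5 n10024
theorem D11447 : act 5 n10024 = n11447 := rfl
theorem F44420 : act 0 n11447 = n10046 := d4_1 D11447 (iv D10046) (iv F39220)
theorem F44421 : act 4 n11447 = n10026 := d26_1 D11447 (iv D10026) (iv D8225) (iv F31364) D10024
theorem F44422 : act 7 n11447 = n11447 := d31_2 F39221 D11447 (iv D11447)
def n11448 : Q := act 8 n10024
theorem D11448 : act 8 n10024 = n11448 := rfl
theorem F44423 : act 0 n11448 = n10047 := d7_1 D11448 (iv D10047) (iv F39220)
theorem F44424 : act 4 n11448 = n10025 := d29_1 D11448 (iv D10025) D10024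
def n11449 : Q := act 7 n10025
theorem D11449 : act 7 n10025 = n11449 := rfl
theorem F44425 : act 0 n11449 = n10048 := d6_1 D11449 (iv D10048) (iv F39222)
theorem F44426 : act 3 n11449 = n11262 := d24_1 D11449 (iv D11262) F38727 (iv F31369) (iv F39223)
theorem F44427 : act 5 n11449 = n10028 := d31_1 D11449 (iv D10028) (iv F39224)
theorem F44428 : act 8 n11449 = n11449 := d35_2 D10025 D11449 (iv D11449) (iv D10025) F31365
def n11450 : Q := act 6 n10026
theorem D11450 : act 6 n10026 = n11450 := rfl
theorem F44429 : act 0 n11450 = n10049 := d5_1 D11450 (iv D10049) (iv F39225)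
theorem F44430 : act 3 n11450 = n10306 := d23_1 D11450 (iv D10306) (iv F39226)
theorem F44431 : act 5 n11450 = n11450 := d30_1 D11450 (iv D11450) (iv D10026) F31372 D10026
theorem F44432 : act 7 n11450 = n11450 := d33_2 F39227 D11450 (iv D11450)
def n11451 : Q := act 8 n10026
theorem D11451 : act 8 n10026 = n11451 := rfl
theorem F44433 : act 0 n11451 = n10050 := d7_1 D11451 (iv D10050) (iv F39225)
theorem F44434 : act 3 n11451 = n10307 := d25_1 D11451 (iv D10307) (iv F39226)
theorem F44435 : act 5 n11451 = n10027 := d32_1 D11451 (iv D10027) D10026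
def n11452 : Q := act 7 n10027
theorem D11452 : act 7 n10027 = n11452 := rfl
theorem F44436 : act 0 n11452 = n10051 := d6_1 D11452 (iv D10051) (iv F39228)
theorem F44437 : act 4 n11452 = n10028 := d28_1 D11452 (iv D10028) (iv F39230)
theorem F44438 : act 6 n11452 = n11452 := d33_1 D11452 (iv D11452) F39231
theorem F44439 : act 8 n11452 = n11452 := d35_2 D10027 D11452 (iv D11452) (iv D10027) F31373
def n11453 : Q := act 3 n10029
theorem D11453 : act 3 n10029 = n11453 := rfl
theorem F44440 : act 0 n11453 = n10052 := d2_1 D11453 (iv D10052) (iv F39236)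
theorem F44441 : act 5 n11453 = n10030 := d22_2 (iv F39238) D11453 (iv D10030)
theorem F44442 : act 6 n11453 = n10271 := d23_2 (iv F39239) D11453 F40173
theorem F44443 : act 7 n11453 = n11453 := d24_2 D10029 D11453 (iv D11453) (iv D10029) F31378
def n11454 : Q := act 8 n10029
theorem D11454 : act 8 n10029 = n11454 := rfl
theorem F44444 : act 0 n11454 = n10053 := d7_1 D11454 (iv D10053) (iv F39236)
theorem F44445 : act 4 n11454 = n11454 := d29_1 D11454 (iv D11454) F39237
theorem F44446 : act 5 n11454 = n10031 := d32_1 D11454 (iv D10031) (iv F39238)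
theorem F44447 : act 6 n11454 = n10309 := d34_1 D11454 (iv D10309) (iv F39239)
theorem F44448 : act 7 n11454 = n10140 := d35_1 D11454 (iv D10140) F31693 (iv F38414) D10029
def n11455 : Q := act 2 n10030
theorem D11455 : act 2 n10030 = n11455 := rfl
theorem F44449 : act 0 n11455 = n10054 := d1_1 D11455 (iv D10054) (iv F39240)
theorem F44450 : act 6 n11455 = n10032 := d18_2 (iv F39241) D11455 (iv D10032)
theorem F44451 : act 7 n11455 = n11455 := d19_2 F39242 D11455 (iv D11455)
def n11456 : Q := act 8 n10030
theorem D11456 : act 8 n10030 = n11456 := rfl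
theorem F44452 : act 0 n11456 = n10055 := d7_1 D11456 (iv D10055) (iv F39240)
theorem F44453 : act 3 n11456 = n10031 := d25_1 D11456 (iv D10031) D10030
theorem F44454 : act 6 n11456 = n10033 := d34_1 D11456 (iv D10033) (iv F39241)
def n11457 : Q := act 1 n10032
theorem D11457 : act 1 n10032 = n11457 := rfl
theorem F44455 : act 5 n11457 = n10312 := d11_2 (iv F39248) D11457 (iv D10312)
theorem F44456 : act 7 n11457 = n11457 := d13_2 F39249 D11457 (iv D11457)
def n11458 : Q := act 8 n10032
theorem D11458 : act 8 n10032 = n11458 := rfl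
theorem F44457 : act 0 n11458 = n10057 := d7_1 D11458 (iv D10057) (iv F39247)
theorem F44458 : act 2 n11458 = n10033 := d20_1 D11458 (iv D10033) D10032
theorem F44459 : act 5 n11458 = n10313 := d32_1 D11458 (iv D10313) (iv F39248)
def n11459 : Q := act 7 n10033
theorem D11459 : act 7 n10033 = n11459 := rfl
theorem F44460 : act 0 n11459 = n10058 := d6_1 D11459 (iv D10058) (iv F39250)
theorem F44461 : act 3 n11459 = n11268 := d24_1 D11459 (iv D11268) F38745 (iv F31391) (iv F39251)
theorem F44462 : act 5 n11459 = n10314 := d31_1 D11459 (iv D10314) (iv F39252)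
theorem F44463 : act 8 n11459 = n11459 := d35_2 D10033 D11459 (iv D11459) (iv D10033) F31387
def n11460 : Q := act 4 n10034
theorem D11460 : act 4 n10034 = n11460 := rfl
theorem F44468 : act 6 n11460 = n10315 := d27_2 (iv F39256) D11460 (iv D10315)
theorem F44469 : act 8 n11460 = n10180 := d29_2 (iv F39257) D11460 (iv D10180)
def n11461 : Q := act 7 n10034
theorem D11461 : act 7 n10034 = n11461 := rfl
theorem F44470 : act 1 n11461 = n10108 := d13_1 D11461 (iv D10108) (iv F39253)
theorem F44471 : act 2 n11461 = n11461 := d19_1 D11461 (iv D11461) F39254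
theorem F44472 : act 5 n11461 = n10035 := d31_1 D11461 (iv D10035) D10034
theorem F44473 : act 6 n11461 = n10316 := d33_1 D11461 (iv D10316) (iv F39256)
def n11462 : Q := act 3 n10035
theorem D11462 : act 3 n10035 = n11462 := rfl
theorem F44474 : act 1 n11462 = n10109 := d9_1 D11462 (iv D10109) (iv F39258)
theorem F44475 : act 6 n11462 = n10036 := d23_2 (iv F39261) D11462 (iv D10036)
theorem F44476 : act 7 n11462 = n10039 := d24_2 D10035 D11462 (iv D10039) (iv D8235) (iv F31398)
def n11463 : Q := act 8 n10035
theorem D11463 : act 8 n10035 = n11463 := rfl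
theorem F44477 : act 1 n11463 = n10110 := d14_1 D11463 (iv D10110) (iv F39258)
theorem F44478 : act 2 n11463 = n11463 := d20_1 D11463 (iv D11463) F39259
theorem F44479 : act 4 n11463 = n11463 := d29_1 D11463 (iv D11463) F39260
theorem F44480 : act 6 n11463 = n10037 := d34_1 D11463 (iv D10037) (iv F39261)
theorem F44481 : act 7 n11463 = n10511 := d35_1 D11463 (iv D10511) F33413 F38281 D10035
def n11464 : Q := act 2 n10036
theorem D11464 : act 2 n10036 = n11464 := rfl
theorem F44482 : act 3 n11464 = n11464 := d15_2 D10036 D11464 (iv D11464) (iv D10036) F31402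
theorem F44483 : act 5 n11464 = n10319 := d17_2 (iv F39263) D11464 (iv D10319)
theorem F44484 : act 7 n11464 = n10041 := d19_2 (iv F39264) D11464 (iv D10041)
def n11465 : Q := act 4 n10036
theorem D11465 : act 4 n10036 = n11465 := rfl
theorem F44485 : act 1 n11465 = n10112 := d10_1 D11465 (iv D10112) (iv F39262)
theorem F44486 : act 3 n11465 = n11465 := d21_1 D11465 (iv D11465) (iv D10036) F31403 D10036
theorem F44487 : act 7 n11465 = n10042 := d28_2 (iv F39264) D11465 (iv D10042)
def n11466 : Q := act 8 n10036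
theorem D11466 : act 8 n10036 = n11466 := rfl
theorem F44488 : act 1 n11466 = n10113 := d14_1 D11466 (iv D10113) (iv F39262)
theorem F44489 : act 3 n11466 = n10037 := d25_1 D11466 (iv D10037) D10036
theorem F44490 : act 5 n11466 = n10321 := d32_1 D11466 (iv D10321) (iv F39263)
def n11467 : Q := act 3 n10038
theorem D11467 : act 3 n10038 = n11467 := rfl
theorem F44491 : act 1 n11467 = n10114 := d9_1 D11467 (iv D10114) (iv F39270)
theorem F44492 : act 5 n11467 = n10039 := d22_2 (iv F39273) D11467 (iv D10039)
theorem F44493 : act 6 n11467 = n10322 := d23_2 (iv F39274) D11467 (iv D10322)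
def n11468 : Q := act 8 n10038
theorem D11468 : act 8 n10038 = n11468 := rfl
theorem F44494 : act 1 n11468 = n10115 := d14_1 D11468 (iv D10115) (iv F39270)
theorem F44495 : act 2 n11468 = n10053 := d20_1 D11468 (iv D10053) (iv F39271)
theorem F44496 : act 4 n11468 = n11468 := d29_1 D11468 (iv D11468) F39272
theorem F44497 : act 5 n11468 = n10040 := d32_1 D11468 (iv D10040) (iv F39273)
theorem F44498 : act 6 n11468 = n10323 := d34_1 D11468 (iv D10323) (iv F39274)
theorem F44499 : act 7 n11468 = n10137 := d35_1 D11468 (iv D10137) F31662 (iv F38279) D10038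
def n11469 : Q := act 2 n10039
theorem D11469 : act 2 n10039 = n11469 := rfl
theorem F44500 : act 3 n11469 = n10054 := d15_2 D10039 D11469 (iv D10054) (iv D8246) (iv F31411)
theorem F44501 : act 6 n11469 = n10041 := d18_2 (iv F39276) D11469 (iv D10041)
def n11470 : Q := act 4 n10039
theorem D11470 : act 4 n10039 = n11470 := rfl
theorem F44502 : act 1 n11470 = n10117 := d10_1 D11470 (iv D10117) (iv F39275)
theorem F44503 : act 3 n11470 = n10044 := d21_1 D11470 (iv D10044) (iv D8238) (iv F31412) D10039
theorem F44504 : act 6 n11470 = n10042 := d27_2 (iv F39276) D11470 (iv D10042)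
def n11471 : Q := act 8 n10039
theorem D11471 : act 8 n10039 = n11471 := rfl
theorem F44505 : act 1 n11471 = n10118 := d14_1 D11471 (iv D10118) (iv F39275)
theorem F44506 : act 3 n11471 = n10040 := d25_1 D11471 (iv D10040) D10039
theorem F44507 : act 6 n11471 = n10043 := d34_1 D11471 (iv D10043) (iv F39276)
def n11472 : Q := act 1 n10041
theorem D11472 : act 1 n10041 = n11472 := rfl
theorem F44508 : act 2 n11472 = n10119 := d8_2 D10041 D11472 (iv D10119) (iv D8291) (iv F31414)
theorem F44509 : act 3 n11472 = n10056 := d9_2 (iv F39282) D11472 (iv D10056)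
theorem F44510 : act 5 n11472 = n10327 := d11_2 (iv F39283) D11472 (iv D10327)
def n11473 : Q := act 4 n10041
theorem D11473 : act 4 n10041 = n11473 := rfl
theorem F44511 : act 2 n11473 = n10042 := d16_1 D11473 (iv D10042) D10041
def n11474 : Q := act 8 n10041
theorem D11474 : act 8 n10041 = n11474 := rfl
theorem F44512 : act 2 n11474 = n10043 := d20_1 D11474 (iv D10043) D10041
theorem F44513 : act 3 n11474 = n10057 := d25_1 D11474 (iv D10057) (iv F39282)
theorem F44514 : act 5 n11474 = n10329 := d32_1 D11474 (iv D10329) (iv F39283)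
def n11475 : Q := act 5 n10042
theorem D11475 : act 5 n10042 = n11475 := rfl
theorem F44515 : act 1 n11475 = n10122 := d11_1 D11475 (iv D10122) (iv F39284)
theorem F44516 : act 3 n11475 = n10046 := d22_1 D11475 (iv D10046) (iv F39285)
theorem F44517 : act 4 n11475 = n10330 := d26_1 D11475 (iv D10330) (iv D8501) (iv F31415) D10042
def n11476 : Q := act 8 n10042
theorem D11476 : act 8 n10042 = n11476 := rfl
theorem F44518 : act 1 n11476 = n10123 := d14_1 D11476 (iv D10123) (iv F39284)
theorem F44519 : act 3 n11476 = n10047 := d25_1 D11476 (iv D10047) (iv F39285)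
theorem F44520 : act 4 n11476 = n10043 := d29_1 D11476 (iv D10043) D10042
def n11477 : Q := act 7 n10043
theorem D11477 : act 7 n10043 = n11477 := rfl
theorem F44521 : act 1 n11477 = n10124 := d13_1 D11477 (iv D10124) (iv F39286)
theorem F44522 : act 3 n11477 = n11276 := d24_1 D11477 (iv D11276) F38756 (iv F31420) (iv F39287)
theorem F44523 : act 5 n11477 = n10332 := d31_1 D11477 (iv D10332) (iv F39288)
def n11478 : Q := act 5 n10044
theorem D11478 : act 5 n10044 = n11478 := rfl
theorem F44524 : act 1 n11478 = n10125 := d11_1 D11478 (iv D10125) (iv F39289)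
def n11479 : Q := act 8 n10044
theorem D11479 : act 8 n10044 = n11479 := rfl
theorem F44527 : act 1 n11479 = n10126 := d14_1 D11479 (iv D10126) (iv F39289)
theorem F44528 : act 4 n11479 = n10045 := d29_1 D11479 (iv D10045) D10044
theorem F44529 : act 6 n11479 = n10047 := d34_1 D11479 (iv D10047) (iv F39290)
def n11480 : Q := act 7 n10045
theorem D11480 : act 7 n10045 = n11480 := rfl
theorem F44530 : act 1 n11480 = n10127 := d13_1 D11480 (iv D10127) (iv F39292)
theorem F44531 : act 3 n11480 = n10563 := d24_1 D11480 (iv D10563) F33737 F38527 (iv F39293)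
theorem F44532 : act 5 n11480 = n11480 := d31_1 D11480 (iv D11480) F39294
theorem F44533 : act 6 n11480 = n10048 := d33_1 D11480 (iv D10048) (iv F39295)
theorem F44534 : act 8 n11480 = n11480 := d35_2 D10045 D11480 (iv D11480) (iv D10045) F31424
def n11481 : Q := act 6 n10046
theorem D11481 : act 6 n10046 = n11481 := rfl
theorem F44535 : act 1 n11481 = n10128 := d12_1 D11481 (iv D10128) (iv F39296)
theorem F44536 : act 4 n11481 = n10049 := d27_1 D11481 (iv D10049) (iv F39297)
theorem F44537 : act 7 n11481 = n11481 := d33_2 F39298 D11481 (iv D11481)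
def n11482 : Q := act 8 n10046
theorem D11482 : act 8 n10046 = n11482 := rfl
theorem F44538 : act 1 n11482 = n10129 := d14_1 D11482 (iv D10129) (iv F39296)
theorem F44539 : act 4 n11482 = n10050 := d29_1 D11482 (iv D10050) (iv F39297)
theorem F44540 : act 5 n11482 = n10047 := d32_1 D11482 (iv D10047) D10046
def n11483 : Q := act 7 n10047
theorem D11483 : act 7 n10047 = n11483 := rfl
theorem F44541 : act 1 n11483 = n10130 := d13_1 D11483 (iv D10130) (iv F39299)
theorem F44542 : act 4 n11483 = n10048 := d28_1 D11483 (iv D10048) (iv F39300)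
theorem F44543 : act 8 n11483 = n11483 := d35_2 D10047 D11483 (iv D11483) (iv D10047) F31431
def n11484 : Q := act 8 n10049
theorem D11484 : act 8 n10049 = n11484 := rfl
theorem F44544 : act 1 n11484 = n10131 := d14_1 D11484 (iv D10131) (iv F39305)
theorem F44545 : act 3 n11484 = n10339 := d25_1 D11484 (iv D10339) (iv F39306)
theorem F44546 : act 5 n11484 = n11484 := d32_1 D11484 (iv D11484) F39307
theorem F44547 : act 6 n11484 = n10050 := d34_1 D11484 (iv D10050) D10049
def n11485 : Q := act 7 n10050
theorem D11485 : act 7 n10050 = n11485 := rfl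
theorem F44548 : act 1 n11485 = n10132 := d13_1 D11485 (iv D10132) (iv F39309)
theorem F44549 : act 5 n11485 = n10051 := d31_1 D11485 (iv D10051) (iv F39311)
theorem F44550 : act 8 n11485 = n11485 := d35_2 D10050 D11485 (iv D11485) (iv D10050) F31437
def n11486 : Q := act 3 n10051
theorem D11486 : act 3 n10051 = n11486 := rfl
theorem F44551 : act 1 n11486 = n10133 := d9_1 D11486 (iv D10133) (iv F39312)
theorem F44552 : act 4 n11486 = n11282 := d21_2 (iv F39313) D11486 (iv D11282) F38777 (iv F31443)
theorem F44553 : act 6 n11486 = n11486 := d23_2 F39314 D11486 (iv D11486)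
theorem F44554 : act 7 n11486 = n10341 := d24_2 D10051 D11486 (iv D10341) (iv D8510) (iv F31439)
theorem F44555 : act 8 n11486 = n11486 := d25_2 F39315 D11486 (iv D11486)
def n11487 : Q := act 2 n10052
theorem D11487 : act 2 n10052 = n11487 := rfl
theorem F44556 : act 1 n11487 = n10265 := d8_1 D11487 (iv D10265) F32248 (iv F38339) (iv F39316)
theorem F44557 : act 5 n11487 = n10054 := d17_2 (iv F39317) D11487 (iv D10054)
theorem F44558 : act 6 n11487 = n10267 := d18_2 (iv F39318) D11487 F40159
theorem F44559 : act 7 n11487 = n11487 := d19_2 F39319 D11487 (iv D11487)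
def n11488 : Q := act 4 n10052
theorem D11488 : act 4 n10052 = n11488 := rfl
theorem F44560 : act 1 n11488 = n10059 := d10_1 D11488 (iv D10059) (iv F39316)
theorem F44561 : act 3 n11488 = n11488 := d21_1 D11488 (iv D11488) (iv D10052) F31447 D10052
theorem F44562 : act 6 n11488 = n10221 := d27_2 (iv F39318) D11488 F39985
theorem F44563 : act 7 n11488 = n11488 := d28_2 F39319 D11488 (iv D11488)
def n11489 : Q := act 8 n10052
theorem D11489 : act 8 n10052 = n11489 := rfl
theorem F44564 : act 1 n11489 = n10060 := d14_1 D11489 (iv D10060) (iv F39316)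
theorem F44565 : act 3 n11489 = n10053 := d25_1 D11489 (iv D10053) D10052
theorem F44566 : act 5 n11489 = n10055 := d32_1 D11489 (iv D10055) (iv F39317)
theorem F44567 : act 6 n11489 = n10272 := d34_1 D11489 (iv D10272) (iv F39318)
def n11490 : Q := act 1 n10054
theorem D11490 : act 1 n10054 = n11490 := rfl
theorem F44568 : act 2 n11490 = n10061 := d8_2 D10054 D11490 (iv D10061) (iv D8252) (iv F31450)
theorem F44569 : act 5 n11490 = n10265 := d11_2 F44557 D11490 (iv F44556)
theorem F44570 : act 6 n11490 = n10056 := d12_2 (iv F39325) D11490 (iv D10056)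
theorem F44571 : act 7 n11490 = n11490 := d13_2 F39326 D11490 (iv D11490)
theorem F44572 : act 4 n11079 = n11469 := d36_4 D4980 D6823 D9358 (iv F43025) F44500 D11490 F44568 F39348 D10139 F39631 (iv F40177) F40178 F32451 F32450 F23973 F17793 (iv F38457) (iv D3077) (iv D2261) F6890 (iv F5637) (iv D1335) F4234 (iv F4228) F4229 (iv F4517) F4518 F3445 F3444 (iv D574) (iv D421) F1478 (iv D310) (iv D229) (iv D169) (iv F840) (iv D168) F613 (iv F830) (iv F1093) (iv F1441) (iv F1800) F1801 F1802 (iv D286) (iv D212) F775 F776 (iv D155) F569 F407 F306 F225 D61 D88 D126 F636 F459 (iv D89) F326 (iv F441) D124 F628 (iv F843) (iv D169) (iv F834) (iv F1098) D304 (iv F1813) D522 (iv F3094) F3097 F2966 (iv F3145) F3146 D957 D1304 (iv F7337) D2417 F9803 F7810 D1913 D2614 (iv F14107) D4888 (iv F25683) F25682 F19331 F19332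
theorem F44573 : act 2 n11470 = n11079 := d16_3 F44572 (iv D11469) D11470
theorem E5198 : n11404 = n9360 := (c21_3 F44572 F44500 (iv F44247) (iv D9360) (iv F35384) D11079)
theorem E5199 : n11082 = n9996 := ((D11082).symm.trans (sb E5198 (iv D11404)))
theorem E5200 : n11083 = n10054 := ((D11083).symm.trans (sb E5198 F44247))
theorem E5201 : n11081 = n9998 := (((iv F43028)).symm.trans (sb E5198 F44248))
theorem F44574 : act 2 n9996 = n9360 := (sb E5199 (iv D11082))
theorem E5202 : n9474 = n8205 := ((((iv D9996)).symm.trans (sb E5199 F43030))).symm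
theorem E5203 : n11402 = n9361 := (((iv F44239)).symm.trans (sb E5199 F43031))
theorem F44575 : act 4 n10054 = n9360 := (sb E5200 (iv D11083))
theorem E5204 : n11391 = n9359 := (((iv F44196)).symm.trans (sb E5201 (iv D11081)))
theorem F44576 : act 6 n9998 = n9360 := (sb E5201 F43028)
theorem E5205 : n11196 = n9978 := ((((iv F39031)).symm.trans (sb E5202 (iv F43494)))).symm
theorem E5206 : n11208 = n5998 := (((F31291).symm.trans (sb E5202 D11208))).symm
theorem E5207 : n9985 = n6915 := (((iv F39062)).symm.trans (sb E5202 (iv D9474)))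
theorem E5209 : n9995 = n6916 := (((iv F39105)).symm.trans (sb E5202 F35824))
theorem E5213 : n11084 = n10000 := ((D11084).symm.trans (sb E5203 F44238))
theorem F44577 : act 5 n9361 = n9996 := (sb E5203 F44239)
theorem E5214 : n9986 = n6914 := (((F35386).symm.trans (sb E5204 (iv D11391)))).symm
theorem F44578 : act 3 n9359 = n9998 := (sb E5204 F44196)
theorem E5215 : n11369 = n9465 := (((iv F44106)).symm.trans (sb E5205 (iv D11196)))
theorem E5216 : n11379 = n9466 := (((iv F44149)).symm.trans (sb E5205 F43495))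
theorem E5218 : n9476 = n8209 := ((((iv F31309)).symm.trans (sb E5206 F43532))).symm
theorem F44579 : act 2 n6915 = n8205 := (sb E5207 F39062)
theorem E5221 : n9475 = n8199 := ((D9475).symm.trans (sb E5207 F39063))
theorem E5223 : n9473 = n8198 := (((iv F35822)).symm.trans (sb E5207 F39064))
theorem E5224 : n8197 = n5070 := (((F26472).symm.trans (sb E5207 (iv D9985)))).symm
theorem E5225 : n11390 = n8908 := ((((iv F33786)).symm.trans (sb E5207 D11390))).symm
theorem F44580 : act 5 n6916 = n8205 := (sb E5209 F39105)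
theorem E5227 : n8204 = n5071 := (((F26475).symm.trans (sb E5209 (iv D9995)))).symm
theorem E5228 : n11403 = n8909 := ((((iv F33790)).symm.trans (sb E5209 D11403))).symm
theorem F44581 : act 1 n10000 = n9361 := (sb E5213 (iv D11084))
theorem E5231 : n11392 = n9470 := ((((iv F35813)).symm.trans (sb E5214 D11392))).symm
theorem F44582 : act 2 n9465 = n9978 := (sb E5215 F44106)
theorem E5234 : n11197 = n9972 := ((D11197).symm.trans (sb E5215 F44107))
theorem E5235 : n11195 = n9971 := (((iv F43492)).symm.trans (sb E5215 F44108))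
theorem E5236 : n9970 = n6928 := (((F35795).symm.trans (sb E5215 (iv D11369)))).symm
theorem F44583 : act 5 n9466 = n9978 := (sb E5216 F44149)
theorem E5237 : n9977 = n6929 := (((F35799).symm.trans (sb E5216 (iv D11379)))).symm
theorem F44584 : act 1 n8209 = n6916 := (sb E5218 (iv D9476))
theorem E5242 : n6933 = n5997 := ((((iv D8209)).symm.trans (sb E5218 F35832))).symm
theorem E5243 : n10579 = n10001 := (((D10001).symm.trans (sb E5218 (iv F41258)))).symm
theorem E5247 : n11204 = n9988 := (((D9988).symm.trans (sb E5221 (iv F43519)))).symm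
theorem F44585 : act 4 n8199 = n6915 := (sb E5221 (iv D9475))
theorem E5249 : n6932 = n5989 := ((((iv D8199)).symm.trans (sb E5221 F35828))).symm
theorem E5250 : n10578 = n9989 := (((D9989).symm.trans (sb E5221 (iv F41253)))).symm
theorem F44586 : act 3 n8198 = n6914 := (sb E5223 (iv D9473))
theorem F44587 : act 6 n8198 = n6915 := (sb E5223 F35822)
theorem E5252 : n6930 = n5988 := ((((iv D8198)).symm.trans (sb E5223 F35823))).symm
theorem E5253 : n10576 = n9987 := (((D9987).symm.trans (sb E5223 (iv F41246)))).symm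
theorem F44588 : act 2 n5070 = n5993 := (sb E5224 F31258)
theorem F44589 : act 2 n8908 = n9997 := (sb E5225 F44192)
theorem F44590 : act 5 n5071 = n5993 := (sb E5227 (iv D8204))
theorem F44591 : act 5 n8909 = n9997 := (sb E5228 F44244)
theorem E5257 : n11202 = n9990 := ((D11202).symm.trans (sb E5231 F44199))
theorem F44592 : act 4 n9972 = n9465 := (sb E5234 (iv D11197))
theorem E5259 : n9492 = n8188 := ((((iv D9972)).symm.trans (sb E5234 F43499))).symm
theorem F44593 : act 3 n9971 = n9464 := (sb E5235 (iv D11195))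
theorem F44594 : act 6 n9971 = n9465 := (sb E5235 F43492)
theorem E5260 : n9490 = n8187 := ((((iv D9971)).symm.trans (sb E5235 F43493))).symm
theorem F44595 : act 2 n6928 = n8192 := (sb E5236 F38998)
theorem E5264 : n10195 = n9493 := (((D9493).symm.trans (sb E5237 (iv F39870)))).symm
theorem F44596 : act 5 n6929 = n8192 := (sb E5237 (iv D9977))
theorem F44597 : act 1 n5997 = n5071 := (sb E5242 (iv D6933))
theorem F44598 : act 1 n10001 = n8909 := (sb E5243 (iv D10579))
theorem E5266 : n11394 = n9471 := ((D11394).symm.trans (sb E5247 (iv D11204)))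
theorem F44599 : act 4 n5989 = n5070 := (sb E5249 (iv D6932))
theorem F44600 : act 4 n9989 = n8908 := (sb E5250 (iv D10578))
theorem E5269 : n8196 = n5069 := ((D8196).symm.trans (sb E5252 (iv D6930)))
theorem F44601 : act 6 n5988 = n5070 := (sb E5252 F26544)
theorem F44602 : act 3 n9987 = n8907 := (sb E5253 (iv D10576))
theorem F44603 : act 6 n9987 = n8908 := (sb E5253 F41244)
theorem F44604 : act 3 n9990 = n9470 := (sb E5257 (iv D11202))
theorem E5273 : n11227 = n9965 := ((((iv F38976)).symm.trans (sb E5259 (iv F43615)))).symm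
theorem F44605 : act 4 n8188 = n6928 := (sb E5259 (iv D9492))
theorem E5275 : n11225 = n9964 := ((((iv F38972)).symm.trans (sb E5260 (iv F43607)))).symm
theorem E5276 : n9969 = n6927 := ((D9969).symm.trans (sb E5260 (iv D9490)))
theorem F44606 : act 6 n8187 = n6928 := (sb E5260 F35896)
theorem E5277 : n11233 = n8413 := ((D11233).symm.trans (sb E5264 F39869))
theorem F44607 : act 5 n9493 = n8401 := (sb E5264 (iv D10195))
theorem E5278 : n11203 = n10044 := ((D11203).symm.trans (sb E5266 F44204))
theorem F44608 : act 4 n9471 = n9988 := (sb E5266 (iv D11394))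
theorem F44609 : act 6 n9471 = n9990 := (sb E5266 F44205)
theorem F44610 : act 3 n5069 = n5988 := (sb E5269 (iv D8196))
theorem F44611 : act 4 n9965 = n9488 := (sb E5273 (iv D11227))
theorem E5280 : n11357 = n9487 := ((D11357).symm.trans (sb E5275 (iv D11225)))
theorem F44612 : act 6 n9964 = n9488 := (sb E5275 F43609)
theorem F44613 : act 3 n6927 = n8187 := (sb E5276 (iv D9969))
theorem F44614 : act 0 n8413 = n9493 := (sb E5277 (iv D11233))
theorem F44615 : act 2 n10044 = n9471 := (sb E5278 (iv D11203))
theorem E5281 : n11478 = n9472 := ((D11478).symm.trans (sb E5278 F43516))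
theorem F44616 : act 3 n9487 = n9964 := (sb E5280 (iv D11357))
theorem E5282 : n11205 = n10125 := ((D11205).symm.trans (sb E5281 F44524))
theorem F44617 : act 5 n9472 = n10044 := (sb E5281 (iv D11478))
theorem F44618 : act 1 n10125 = n9472 := (sb E5282 (iv D11205))
theorem F44619 : act 6 n11473 = n11079 := d27_0 F44572 F44501 D11473
theorem F44620 : act 3 n11078 = n11473 := d23_3 F44619 (iv D11079) (iv F43024)
theorem F44621 : act 5 n11445 = n11194 := d4_2 F44617 (iv F44413) F43487
theorem F44622 : act 5 n11470 = n11080 := d22_2 F44617 (iv F44503) F43026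
theorem F44623 : act 5 n11481 = n11201 := d30_5 F43511 F44617 F39290 D10046 D11481
theorem F44624 : act 5 n11479 = n10575 := d32_3 F41241 F44617 D11479
theorem F44625 : act 2 n10574 = n11479 := d17_3 F44624 (iv D10575) (iv F41238)
theorem F44626 : act 4 n11395 = n10574 := d16_0 F44625 F44528 (iv F44208)
theorem F44627 : act 6 n11397 = n10574 := d18_0 F44625 F44529 (iv F44217)
theorem F44628 : act 3 n10573 = n11397 := d23_3 F44627 (iv D10574) (iv F41235)
theorem F44629 : act 2 n11200 = n11481 := d17_3 F44623 (iv D11201) (iv F43508)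
theorem F44630 : act 4 n11399 = n11200 := d16_0 F44629 F44536 (iv F44225)
theorem F44631 : act 6 n11396 = n11200 := d18_0 F44629 (iv D11481) (iv F44213)
theorem F44632 : act 3 n11199 = n11396 := d23_3 F44631 (iv D11200) (iv F43506)
theorem F44633 : act 2 n11193 = n11445 := d17_3 F44621 (iv D11194) (iv F43485)
theorem F44634 : act 4 n11372 = n11193 := d16_0 F44633 (iv D11445) (iv F44117)
theorem F44635 : act 6 n11374 = n11193 := d18_0 F44633 F44414 (iv F44127)
theorem F44636 : act 3 n11192 = n11374 := d23_3 F44635 (iv D11193) (iv F43483)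
theorem F44637 : act 3 n11359 = n11186 := d24_3 D9487 F44616 D11359 (iv D11186) F35758
theorem F44638 : act 6 n11187 = n11359 := d23_0 F44637 F43460 D11187
theorem F44639 : act 4 n11360 = n11187 := d27_3 F44638 F44064 (iv F44069)
theorem F44640 : act 0 n11228 = n10202 := d1_3 F39905 F44614 (iv F43619)
theorem F44641 : act 0 n11198 = n10213 := d6_3 (iv D10213) F44614 (iv F43502)
theorem F44642 : act 5 n10196 = n11198 := d4_0 F44641 F39953 (iv F39875)
theorem F44643 : act 5 n10188 = n11228 := d4_0 F44640 (iv D10202) (iv F39840)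
theorem F44644 : act 1 n11226 = n10188 := d11_3 F44643 (iv D11228) (iv F43612)
theorem F44645 : act 4 n10183 = n11226 := d10_0 F44644 F39842 (iv F39816)
theorem F44647 : act 6 n10556 = n11371 := d5_2 F44603 (iv F41158) F44111
theorem F44648 : act 2 n11381 = n10556 := d18_3 F44647 F44112 (iv F44157)
theorem F44649 : act 3 n11371 = n10555 := d23_1 F44647 F41156 D10556
theorem F44650 : act 4 n11373 = n10556 := d27_3 F44647 F44113 (iv F44124)
theorem F44651 : act 5 n10557 = n11381 := d17_0 F44648 F41159 D10557
theorem F44652 : act 3 n10484 = n11407 := d15_2 F44602 (iv F40866) F44258 F39119 (iv F39068)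
theorem F44653 : act 6 n11407 = n10485 := d23_2 (iv F40868) F44652 (iv D10485)
theorem E5283 : n11072 = n10859 := (c36_15 D2249 (iv F9628) (iv F12817) (iv F17217) (iv F23175) (iv F31322) (iv F39118) (iv F44258) (iv F44652) F40869 (iv D9359) F26134 F26135 (iv F35381) (iv F43007) F42296 F35371 F26447 D9467 D11199 F44632 (iv D11396) (iv D9990) (iv D8200) F23136 F23137 F17197 D4409 F17278 F16353 F16354 (iv F13142) (iv F17599) F17598 F13099 F13100 (iv D2424) (iv D1775) (iv D1304) D1305 F5528 (iv F7347) (iv F9807) (iv F13124) F13125 F10438 D2613 D3571 F14107 D3573 F14113 F14111 F10688 F8157 D1998 D2725 D3712 (iv F19697) (iv F44599) F23133 F23131 F23132 F17193 F12804 F12803 (iv F12850) F12851 (iv F17268) F17267 F17266 F12859 F9669 (iv F38216) (iv D1350) (iv F5601) (iv F7238) (iv D1748) F5444 (iv F5439) F5440 (iv F7225) F7226 D2258 F9177 F6982 F5252 (iv F6882) F6881 (iv F6861) F6862)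
theorem F44654 : act 3 n10859 = n9356 := (sb E5283 F43007)
theorem E5284 : n9351 = n9189 := ((((iv D10859)).symm.trans (sb E5283 F43009))).symm
theorem F44655 : act 8 n10859 = n9350 := (sb E5283 (iv D11072))
theorem E5285 : n11045 = n10817 := ((((iv F42141)).symm.trans (sb E5284 (iv F42918)))).symm
theorem E5286 : n10857 = n6818 := (((F34811).symm.trans (sb E5284 (iv F42290)))).symm
theorem E5287 : n10850 = n6822 := (((iv F42269)).symm.trans (sb E5284 F35366))
theorem E5288 : n6816 = n6695 := ((((iv D9189)).symm.trans (sb E5284 F35368))).symm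
theorem E5290 : n10860 = n6815 := ((D10860).symm.trans (sb E5284 (iv D9351)))
theorem F44656 : act 3 n10817 = n9332 := (sb E5285 F42920)
theorem E5291 : n9326 = n9157 := ((((iv D10817)).symm.trans (sb E5285 F42922))).symm
theorem F44657 : act 8 n10817 = n9325 := (sb E5285 (iv D11045))
theorem E5292 : n9347 = n9193 := (((iv F35355)).symm.trans (sb E5286 F42291))
theorem E5293 : n9187 = n4977 := ((((iv D6818)).symm.trans (sb E5286 F42293))).symm
theorem E5294 : n9354 = n9186 := ((D9354).symm.trans (sb E5286 (iv D10857)))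
theorem F44658 : act 3 n6822 = n9189 := (sb E5287 F42269)
theorem E5295 : n9182 = n4980 := (((F26130).symm.trans (sb E5287 (iv D10850)))).symm
theorem E5296 : n4976 = n4886 := ((((iv D6695)).symm.trans (sb E5288 F26115))).symm
theorem E5298 : n9352 = n8503 := ((((iv F32411)).symm.trans (sb E5288 D9352))).symm
theorem E5299 : n9190 = n4975 := ((D9190).symm.trans (sb E5288 (iv D6816)))
theorem F44659 : act 8 n6815 = n9189 := (sb E5290 (iv D10860))
theorem E5300 : n11007 = n10785 := ((((iv F42030)).symm.trans (sb E5291 (iv F42789)))).symm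
theorem E5301 : n10809 = n6799 := (((iv F42118)).symm.trans (sb E5291 F35286))
theorem E5302 : n6795 = n6673 := ((((iv D9157)).symm.trans (sb E5291 F35287))).symm
theorem E5303 : n11042 = n6675 := (((F34696).symm.trans (sb E5291 (iv F42910)))).symm
theorem E5305 : n10818 = n6794 := ((D10818).symm.trans (sb E5291 (iv D9326)))
theorem E5306 : n11041 = n10821 := ((((iv F42155)).symm.trans (sb E5292 (iv F42903)))).symm
theorem F44660 : act 3 n9193 = n6818 := (sb E5292 F35355)
theorem E5307 : n11066 = n6701 := (((F34827).symm.trans (sb E5292 (iv F42989)))).symm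
theorem E5308 : n6813 = n6698 := (((F34828).symm.trans (sb E5292 (iv D9347)))).symm
theorem E5309 : n11069 = n10862 := ((((iv F42311)).symm.trans (sb E5292 D11069))).symm
theorem E5313 : n10854 = n3694 := (((F19336).symm.trans (sb E5293 (iv F42281)))).symm
theorem E5314 : n6694 = n3636 := ((((iv D4977)).symm.trans (sb E5293 F34808))).symm
theorem E5317 : n6819 = n6693 := ((D6819).symm.trans (sb E5293 (iv D9187)))
theorem E5318 : n11048 = n10814 := ((((iv F42133)).symm.trans (sb E5294 (iv F42930)))).symm
theorem E5319 : n10853 = n6909 := (((iv F42277)).symm.trans (sb E5294 F35374))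
theorem E5320 : n11075 = n10856 := (((D10856).symm.trans (sb E5294 (iv F43017)))).symm
theorem E5321 : n11076 = n10842 := ((((iv F42243)).symm.trans (sb E5294 D11076))).symm
theorem F44661 : act 8 n9186 = n6818 := (sb E5294 (iv D9354))
theorem F44662 : act 3 n4980 = n6695 := (sb E5295 F34791)
theorem E5323 : n6690 = n3639 := (((F19345).symm.trans (sb E5295 (iv D9182)))).symm
theorem E5325 : n3635 = n3570 := ((((iv D4886)).symm.trans (sb E5296 F19334))).symm
theorem E5327 : n6817 = n6202 := ((((iv F23943)).symm.trans (sb E5296 D6817))).symm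
theorem E5328 : n6696 = n3634 := ((D6696).symm.trans (sb E5296 (iv D4976)))
theorem E5330 : n11074 = n10325 := ((((iv F40357)).symm.trans (sb E5298 D11074))).symm
theorem E5331 : n11065 = n10334 := (((D10334).symm.trans (sb E5298 (iv F42986)))).symm
theorem F44663 : act 8 n4975 = n6695 := (sb E5299 (iv D9190))
theorem F44664 : act 3 n10785 = n9306 := (sb E5300 F42790)
theorem E5333 : n9299 = n9137 := ((((iv D10785)).symm.trans (sb E5300 F42791))).symm
theorem F44665 : act 8 n10785 = n9298 := (sb E5300 (iv D11007))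
theorem F44666 : act 3 n6799 = n9157 := (sb E5301 F42118)
theorem E5334 : n9152 = n4962 := (((F26059).symm.trans (sb E5301 (iv D10809)))).symm
theorem E5335 : n9329 = n9155 := (((iv F35297)).symm.trans (sb E5301 F42119))
theorem E5336 : n4958 = n4870 := ((((iv D6673)).symm.trans (sb E5302 F26044))).symm
theorem E5337 : n9324 = n4871 := (((F25610).symm.trans (sb E5302 (iv F35279)))).symm
theorem E5338 : n9327 = n8481 := ((((iv F32342)).symm.trans (sb E5302 D9327))).symm
theorem E5339 : n9158 = n4957 := ((D9158).symm.trans (sb E5302 (iv D6795)))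
theorem E5340 : n9323 = n9160 := (((D9160).symm.trans (sb E5303 (iv D11042)))).symm
theorem F44667 : act 8 n6794 = n9157 := (sb E5305 (iv D10818))
theorem F44668 : act 3 n10821 = n9328 := (sb E5306 F42905)
theorem E5341 : n9345 = n4891 := (((F25711).symm.trans (sb E5307 (iv D11066)))).symm
theorem F44669 : act 3 n6698 = n4977 := (sb E5308 F26105)
theorem E5342 : n4973 = n4889 := (((F25700).symm.trans (sb E5308 (iv D6813)))).symm
theorem F44670 : act 6 n6698 = n4975 := (sb E5308 F26106)
theorem E5343 : n9340 = n9194 := (((D9194).symm.trans (sb E5308 (iv F35335)))).symm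
theorem F44671 : act 3 n10862 = n9353 := (sb E5309 F42998)
theorem F44672 : act 5 n10862 = n9350 := (sb E5309 F42999)
theorem E5345 : n9185 = n2710 := ((((iv D3694)).symm.trans (sb E5313 F42283))).symm
theorem E5346 : n9184 = n5051 := (((D5051).symm.trans (sb E5313 (iv D10854)))).symm
theorem E5347 : n4885 = n2660 := ((((iv D3636)).symm.trans (sb E5314 F25685))).symm
theorem E5349 : n9188 = n4601 := ((((iv F17985)).symm.trans (sb E5314 D9188))).symm
theorem E5350 : n4978 = n4884 := ((D4978).symm.trans (sb E5314 (iv D6694)))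
theorem F44673 : act 6 n6693 = n4980 := (sb E5317 F26122)
theorem E5351 : n9355 = n9177 := ((((iv F34775)).symm.trans (sb E5317 D9355))).symm
theorem F44674 : act 8 n6693 = n4977 := (sb E5317 (iv D6819))
theorem F44675 : act 2 n10814 = n9459 := (sb E5318 F42931)
theorem F44676 : act 8 n10814 = n9328 := (sb E5318 (iv D11048))
theorem F44677 : act 2 n6909 = n9186 := (sb E5319 F42277)
theorem F44678 : act 2 n10856 = n9467 := (sb E5320 F43014)
theorem F44679 : act 5 n10856 = n9356 := (sb E5320 F43016)
theorem F44680 : act 8 n10856 = n9353 := (sb E5320 (iv D11075))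
theorem F44681 : act 2 n10842 = n9468 := (sb E5321 F43018)
theorem E5353 : n4883 = n2662 := (((F14352).symm.trans (sb E5323 (iv D6690)))).symm
theorem E5354 : n9179 = n2664 := (((F14353).symm.trans (sb E5323 (iv F34780)))).symm
theorem E5355 : n9174 = n4981 := (((D4981).symm.trans (sb E5323 (iv F34766)))).symm
theorem E5356 : n2667 = n2618 := (((F14102).symm.trans (sb E5325 F14341))).symm
theorem E5358 : n4925 = n2612 := ((((iv D3570)).symm.trans (sb E5325 (iv F19161)))).symm
theorem E5359 : n4887 = n2659 := ((D4887).symm.trans (sb E5325 (iv D3635)))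
theorem E5362 : n9264 = n4533 := ((((iv D6202)).symm.trans (sb E5327 (iv F35073)))).symm
theorem E5363 : n9344 = n8504 := (((D8504).symm.trans (sb E5327 (iv F35346)))).symm
theorem F44682 : act 8 n3634 = n4886 := (sb E5328 (iv D6696))
theorem F44683 : act 7 n10325 = n9358 := (sb E5330 F43013)
theorem F44684 : act 7 n10334 = n9343 := (sb E5331 (iv D11065))
theorem E5365 : n10783 = n6777 := (((F34623).symm.trans (sb E5333 (iv F42020)))).symm
theorem E5366 : n11005 = n10784 := (((D10784).symm.trans (sb E5333 (iv F42783)))).symm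
theorem E5367 : n6776 = n6661 := ((((iv D9137)).symm.trans (sb E5333 F35195))).symm
theorem E5368 : n11003 = n6662 := (((F34626).symm.trans (sb E5333 (iv F42779)))).symm
theorem E5370 : n10786 = n6775 := ((D10786).symm.trans (sb E5333 (iv D9299)))
theorem E5372 : n10808 = n3690 := (((F19287).symm.trans (sb E5334 D10808))).symm
theorem E5373 : n6670 = n3623 := (((F19288).symm.trans (sb E5334 (iv D9152)))).symm
theorem E5375 : n6797 = n6671 := (((iv F26053)).symm.trans (sb E5334 F34681))
theorem E5376 : n10801 = n6800 := (((D6800).symm.trans (sb E5334 (iv F42093)))).symm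
theorem E5378 : n11012 = n10782 := ((((iv F42018)).symm.trans (sb E5335 (iv F42804)))).symm
theorem E5379 : n10812 = n6900 := (((iv F42127)).symm.trans (sb E5335 F35295))
theorem F44685 : act 6 n9155 = n6799 := (sb E5335 F35297)
theorem E5380 : n11049 = n10804 := ((((iv F42102)).symm.trans (sb E5335 D11049))).symm
theorem F44686 : act 8 n9155 = n6796 := (sb E5335 (iv D9329))
theorem E5381 : n3628 = n3565 := (((F18946).symm.trans (sb E5336 F19273))).symm
theorem E5382 : n6793 = n3560 := (((F18948).symm.trans (sb E5336 (iv F26038)))).symm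
theorem E5383 : n6726 = n3559 := ((((iv D4870)).symm.trans (sb E5336 (iv F25808)))).symm
theorem E5384 : n6674 = n3620 := ((D6674).symm.trans (sb E5336 (iv D4958)))
theorem E5385 : n11040 = n3561 := (((F18951).symm.trans (sb E5337 (iv F42901)))).symm
theorem E5387 : n6792 = n6676 := (((D6676).symm.trans (sb E5337 (iv D9324)))).symm
theorem E5389 : n11038 = n10302 := (((D10302).symm.trans (sb E5338 (iv F42893)))).symm
theorem F44687 : act 8 n4957 = n6673 := (sb E5339 (iv D9158))
theorem E5391 : n11002 = n10790 := ((((iv F42049)).symm.trans (sb E5340 (iv F42774)))).symm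
theorem F44688 : act 3 n9160 = n6796 := (sb E5340 F35274)
theorem F44689 : act 6 n9160 = n6794 := (sb E5340 F35275)
theorem E5392 : n11034 = n10822 := (((D10822).symm.trans (sb E5340 (iv F42878)))).symm
theorem E5395 : n6811 = n3574 := (((F19026).symm.trans (sb E5341 (iv D9345)))).symm
theorem E5398 : n3633 = n3572 := (((F19018).symm.trans (sb E5342 (iv D4973)))).symm
theorem F44690 : act 6 n4889 = n3634 := (sb E5342 F19327)
theorem E5399 : n6807 = n6699 := (((D6699).symm.trans (sb E5342 (iv F26089)))).symm
theorem E5400 : n10864 = n10458 := ((D10864).symm.trans (sb E5343 (iv F40798)))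
theorem F44691 : act 6 n9194 = n6809 := (sb E5343 F35334)
theorem E5401 : n11061 = n10338 := ((((iv F40399)).symm.trans (sb E5343 D11061))).symm
theorem E5405 : n6707 = n1987 := ((((iv D2710)).symm.trans (sb E5345 F34801))).symm
theorem E5408 : n6692 = n3695 := (((D3695).symm.trans (sb E5345 (iv D9185)))).symm
theorem F44692 : act 2 n5051 = n6693 := (sb E5346 F34797)
theorem E5409 : n10840 = n6910 := (((D6910).symm.trans (sb E5346 (iv F42236)))).symm
theorem E5410 : n3578 = n1950 := (((F10681).symm.trans (sb E5347 F19003))).symm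
theorem E5412 : n6638 = n1944 := ((((iv D2660)).symm.trans (sb E5347 (iv F25485)))).symm
theorem E5413 : n3637 = n3569 := ((D3637).symm.trans (sb E5347 (iv D4885)))
theorem E5417 : n10844 = n6302 := (((D6302).symm.trans (sb E5349 (iv F42248)))).symm
theorem F44693 : act 6 n4884 = n3639 := (sb E5350 F19341)
theorem E5418 : n6820 = n6687 := ((((iv F25664)).symm.trans (sb E5350 D6820))).symm
theorem F44694 : act 8 n4884 = n3636 := (sb E5350 (iv D4978))
theorem E5419 : n11077 = n10320 := ((((iv F40343)).symm.trans (sb E5351 D11077))).symm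
theorem F44695 : act 6 n9177 = n6823 := (sb E5351 F35379)
theorem E5420 : n10843 = n10480 := ((D10843).symm.trans (sb E5351 (iv F40857)))
theorem E5424 : n3576 = n1951 := (((F10686).symm.trans (sb E5353 F18997))).symm
theorem F44696 : act 4 n2662 = n3570 := (sb E5353 F18998)
theorem E5425 : n6689 = n1947 := (((F10687).symm.trans (sb E5353 (iv F25671)))).symm
theorem E5426 : n3600 = n3568 := (((iv F14217)).symm.trans (sb E5353 (iv D4883)))
theorem E5427 : n10835 = n3642 := (((D3642).symm.trans (sb E5354 (iv F42219)))).symm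
theorem E5428 : n6753 = n6686 := (((iv F25897)).symm.trans (sb E5355 (iv D9174)))
theorem E5430 : n1954 = n1920 := (((F10523).symm.trans (sb E5356 F10702))).symm
theorem E5432 : n3606 = n1915 := ((((iv D2618)).symm.trans (sb E5356 (iv F14239)))).symm
theorem E5433 : n3579 = n1949 := ((D3579).symm.trans (sb E5356 (iv D2667)))
theorem E5436 : n6748 = n3314 := ((((iv F13186)).symm.trans (sb E5358 (iv F25884)))).symm
theorem E5437 : n3597 = n3543 := ((((iv F14003)).symm.trans (sb E5358 (iv D4925)))).symm
theorem F44697 : act 8 n2659 = n3570 := (sb E5359 (iv D4887))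
theorem E5444 : n10947 = n6203 := (((D6203).symm.trans (sb E5362 (iv F42602)))).symm
theorem E5445 : n10335 = n6810 := ((D10335).symm.trans (sb E5363 (iv D9344)))
theorem E5447 : n9136 = n4947 := ((((iv D6777)).symm.trans (sb E5365 F42022))).symm
theorem E5448 : n9302 = n9135 := ((D9302).symm.trans (sb E5365 (iv D10783)))
theorem F44698 : act 8 n10784 = n9297 := (sb E5366 (iv D11005))
theorem E5449 : n9134 = n4949 := (((iv F34613)).symm.trans (sb E5367 F25982))
theorem E5451 : n9212 = n4863 := ((((iv D6661)).symm.trans (sb E5367 (iv F34904)))).symm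
theorem E5452 : n9138 = n4946 := ((D9138).symm.trans (sb E5367 (iv D6776)))
theorem E5453 : n9295 = n9141 := (((D9141).symm.trans (sb E5368 (iv D11003)))).symm
theorem F44699 : act 8 n6775 = n9137 := (sb E5370 (iv D10786))
theorem E5454 : n9167 = n2706 := (((F14556).symm.trans (sb E5372 F42115))).symm
theorem E5455 : n9154 = n5043 := ((((iv F19593)).symm.trans (sb E5372 F42116))).symm
theorem E5456 : n4876 = n2656 := (((F14299).symm.trans (sb E5373 F25598))).symm
theorem F44700 : act 4 n3623 = n4870 := (sb E5373 F25599)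
theorem E5457 : n9151 = n2652 := (((F14300).symm.trans (sb E5373 (iv F34678)))).symm
theorem E5458 : n4960 = n4869 := (((iv F19283)).symm.trans (sb E5373 F25600))
theorem E5459 : n4912 = n4868 := (((iv F19110)).symm.trans (sb E5373 (iv D6670)))
theorem F44701 : act 6 n6671 = n4962 := (sb E5375 F26053)
theorem E5461 : n9330 = n9149 := ((((iv F34671)).symm.trans (sb E5375 D9330))).symm
theorem F44702 : act 8 n6671 = n4959 := (sb E5375 (iv D6797))
theorem E5462 : n9237 = n9148 := (((iv F34987)).symm.trans (sb E5376 (iv D10801)))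
theorem F44703 : act 6 n10782 = n9306 := (sb E5378 F42806)
theorem F44704 : act 8 n10782 = n9301 := (sb E5378 (iv D11012))
theorem F44705 : act 2 n6900 = n9155 := (sb E5379 F42127)
theorem F44706 : act 2 n10804 = n9460 := (sb E5380 F42935)
theorem F44707 : act 6 n10804 = n9333 := (sb E5380 F42937)
theorem E5463 : n4967 = n2609 := (((F14086).symm.trans (sb E5381 (iv F19311)))).symm
theorem E5464 : n4918 = n2608 := ((((iv D3565)).symm.trans (sb E5381 (iv F19138)))).symm
theorem E5465 : n4879 = n2654 := ((D4879).symm.trans (sb E5381 (iv D3628)))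
theorem E5466 : n9322 = n2606 := (((F14066).symm.trans (sb E5382 (iv F35270)))).symm
theorem E5467 : n9229 = n2605 := ((((iv D3560)).symm.trans (sb E5382 (iv F34962)))).symm
theorem E5468 : n4956 = n4872 := (((D4872).symm.trans (sb E5382 (iv D6793)))).symm
theorem E5469 : n9232 = n4522 := ((((iv F17720)).symm.trans (sb E5383 (iv F34969)))).symm
theorem E5470 : n4909 = n4836 := ((((iv F18820)).symm.trans (sb E5383 (iv D6726)))).symm
theorem F44708 : act 8 n3620 = n4870 := (sb E5384 (iv D6674))
theorem E5472 : n9321 = n4874 := (((D4874).symm.trans (sb E5385 (iv D11040)))).symm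
theorem F44709 : act 6 n6676 = n4957 := (sb E5387 F26034)
theorem E5473 : n9317 = n9161 := (((D9161).symm.trans (sb E5387 (iv F35252)))).symm
theorem F44710 : act 7 n10302 = n9320 := (sb E5389 (iv D11038))
theorem F44711 : act 3 n10790 = n9301 := (sb E5391 F42775)
theorem F44712 : act 6 n10790 = n9298 := (sb E5391 F42776)
theorem F44713 : act 6 n10822 = n9319 := (sb E5392 F42877)
theorem E5474 : n4972 = n2615 := (((F14117).symm.trans (sb E5395 (iv D6811)))).symm
theorem E5475 : n9338 = n4892 := (((D4892).symm.trans (sb E5395 (iv F35329)))).symm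
theorem E5476 : n2666 = n2619 := (((F14109).symm.trans (sb E5398 F14336))).symm
theorem F44714 : act 4 n3572 = n2660 := (sb E5398 F14337)
theorem F44715 : act 6 n3572 = n2659 := (sb E5398 F14338)
theorem E5477 : n4849 = n2658 := (((iv F18869)).symm.trans (sb E5398 (iv D3633)))
theorem E5478 : n9110 = n4969 := (((iv F34525)).symm.trans (sb E5399 (iv D6807)))
theorem F44716 : act 6 n6699 = n4970 := (sb E5399 F26088)
theorem E5479 : n9341 = n8507 := ((((iv F32427)).symm.trans (sb E5399 D9341))).symm
theorem F44717 : act 1 n10458 = n9358 := (sb E5400 F42316)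
theorem F44718 : act 3 n10458 = n9194 := (sb E5400 (iv D10864))
theorem F44719 : act 6 n10338 = n9343 := (sb E5401 F42974)
theorem E5483 : n4897 = n1463 := (((F8145).symm.trans (sb E5405 F25733))).symm
theorem F44720 : act 2 n3695 = n4884 := (sb E5408 (iv D6692))
theorem E5487 : n9176 = n5052 := (((D5052).symm.trans (sb E5408 (iv F34773)))).symm
theorem F44721 : act 2 n6910 = n9177 := (sb E5409 F42235)
theorem E5488 : n2623 = n1431 := (((F7990).symm.trans (sb E5410 F14130))).symm
theorem E5490 : n4855 = n1426 := ((((iv D1950)).symm.trans (sb E5410 (iv F18890)))).symm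
theorem E5491 : n2668 = n2617 := ((D2668).symm.trans (sb E5410 (iv D3578)))
theorem E5494 : n9105 = n2461 := ((((iv F9957)).symm.trans (sb E5412 (iv F34512)))).symm
theorem E5495 : n4846 = n2633 := ((((iv F10589)).symm.trans (sb E5412 (iv D6638)))).symm
theorem F44722 : act 6 n3569 = n2662 := (sb E5413 F14349)
theorem F44723 : act 8 n3569 = n2660 := (sb E5413 (iv D3637))
theorem E5497 : n9178 = n8650 := (((D8650).symm.trans (sb E5417 (iv D10844)))).symm
theorem F44724 : act 6 n6687 = n4981 := (sb E5418 F26125)
theorem F44725 : act 6 n10320 = n9358 := (sb E5419 F43021)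
theorem F44726 : act 1 n10480 = n9343 := (sb E5420 F42244)
theorem F44727 : act 8 n10480 = n9177 := (sb E5420 (iv D10843))
theorem E5501 : n2621 = n1432 := (((F7994).symm.trans (sb E5424 F14123))).symm
theorem F44728 : act 4 n1951 = n2618 := (sb E5424 F14124)
theorem E5502 : n4893 = n1428 := (((F7996).symm.trans (sb E5424 (iv F19033)))).symm
theorem E5503 : n2640 = n2616 := (((iv F10612)).symm.trans (sb E5424 (iv D3576)))
theorem E5504 : n4882 = n2636 := ((((iv F10597)).symm.trans (sb E5425 (iv D6689)))).symm
theorem E5505 : n4929 = n4880 := ((((iv F18988)).symm.trans (sb E5426 (iv F19171)))).symm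
theorem F44729 : act 7 n3568 = n2662 := (sb E5426 F14217)
theorem E5506 : n4845 = n2634 := (((iv F18855)).symm.trans (sb E5426 (iv D3600)))
theorem E5507 : n9173 = n4932 := ((((iv F19180)).symm.trans (sb E5427 (iv D10835)))).symm
theorem F44730 : act 3 n6686 = n4981 := (sb E5428 F25897)
theorem E5508 : n9270 = n8494 := ((((iv F32386)).symm.trans (sb E5428 (iv F35090)))).symm
theorem E5509 : n9175 = n8568 := ((D9175).symm.trans (sb E5428 (iv F32645)))
theorem E5511 : n2644 = n1406 := ((((iv D1920)).symm.trans (sb E5430 (iv F10628)))).symm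
theorem E5512 : n2624 = n1430 := ((D2624).symm.trans (sb E5430 (iv D1954)))
theorem E5515 : n4937 = n1404 := (((F7865).symm.trans (sb E5432 (iv F19198)))).symm
theorem E5516 : n2638 = n2597 := ((((iv F10450)).symm.trans (sb E5432 (iv D3606)))).symm
theorem F44731 : act 8 n1949 = n2618 := (sb E5433 (iv D3579))
theorem E5521 : n9261 = n2432 := (((F13185).symm.trans (sb E5436 (iv F35066)))).symm
theorem E5522 : n9263 = n4531 := ((((iv F17749)).symm.trans (sb E5436 (iv F35072)))).symm
theorem E5523 : n4924 = n4506 := ((((iv F17662)).symm.trans (sb E5436 (iv D6748)))).symm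
theorem E5524 : n4847 = n2632 := ((D4847).symm.trans (sb E5437 (iv D3597)))
theorem E5526 : n9253 = n8448 := ((((iv F32227)).symm.trans (sb E5444 (iv D10947)))).symm
theorem F44732 : act 7 n6810 = n8504 := (sb E5445 (iv D10335))
theorem E5527 : n6774 = n6663 := (((iv F25976)).symm.trans (sb E5447 F34621))
theorem E5529 : n10690 = n3614 := ((((iv D4947)).symm.trans (sb E5447 (iv F41699)))).symm
theorem E5530 : n6778 = n6660 := ((D6778).symm.trans (sb E5447 (iv D9136)))
theorem E5531 : n11010 = n10781 := (((D10781).symm.trans (sb E5448 (iv F42798)))).symm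
theorem F44733 : act 6 n9135 = n6781 := (sb E5448 F35206)
theorem E5532 : n11013 = n10776 := ((((iv F41996)).symm.trans (sb E5448 D11013))).symm
theorem F44734 : act 8 n9135 = n6777 := (sb E5448 (iv D9302))
theorem F44735 : act 4 n4949 = n6661 := (sb E5449 F34613)
theorem E5533 : n10778 = n3617 := (((F19245).symm.trans (sb E5449 (iv F42004)))).symm
theorem E5534 : n6717 = n6659 := (((iv F25776)).symm.trans (sb E5449 (iv D9134)))
theorem E5537 : n10886 = n6179 := ((((iv F23866)).symm.trans (sb E5451 (iv F42395)))).symm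
theorem E5538 : n6714 = n6616 := ((((iv F25397)).symm.trans (sb E5451 (iv D9212)))).symm
theorem F44736 : act 8 n4946 = n6661 := (sb E5452 (iv D9138))
theorem E5540 : n11001 = n10788 := ((((iv F42042)).symm.trans (sb E5453 D11001))).symm
theorem F44737 : act 6 n9141 = n6775 := (sb E5453 F35184)
theorem E5542 : n10994 = n10791 := (((D10791).symm.trans (sb E5453 (iv F42752)))).symm
theorem E5544 : n6681 = n1986 := (((F10872).symm.trans (sb E5454 (iv D9167)))).symm
theorem F44738 : act 2 n5043 = n6671 := (sb E5455 (iv D9154))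
theorem E5549 : n10803 = n6901 := (((D6901).symm.trans (sb E5455 (iv F42100)))).symm
theorem F44739 : act 4 n2656 = n3565 := (sb E5456 F18970)
theorem E5550 : n6680 = n1942 := (((F10673).symm.trans (sb E5456 (iv F25635)))).symm
theorem E5551 : n3629 = n3564 := (((iv F14328)).symm.trans (sb E5456 F18971))
theorem E5552 : n3594 = n3563 := (((iv F14200)).symm.trans (sb E5456 (iv D4876)))
theorem E5554 : n6669 = n3590 := ((((iv F14181)).symm.trans (sb E5457 (iv D9151)))).symm
theorem F44740 : act 6 n4869 = n3623 := (sb E5458 F19283)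
theorem E5556 : n6728 = n3558 := ((((iv D4869)).symm.trans (sb E5458 (iv F25817)))).symm
theorem F44741 : act 8 n4869 = n3621 := (sb E5458 (iv D4960))
theorem E5557 : n6730 = n6667 := ((((iv F25589)).symm.trans (sb E5459 (iv F25822)))).symm
theorem F44742 : act 7 n4868 = n3623 := (sb E5459 F19110)
theorem E5558 : n6621 = n3588 := (((iv F25418)).symm.trans (sb E5459 (iv D4912)))
theorem F44743 : act 6 n9149 = n6800 := (sb E5461 F35301)
theorem E5561 : n10805 = n10447 := ((D10805).symm.trans (sb E5461 (iv F40759)))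
theorem E5562 : n10894 = n10775 := ((((iv F41991)).symm.trans (sb E5462 (iv F42417)))).symm
theorem F44744 : act 3 n9148 = n6800 := (sb E5462 F34987)
theorem E5564 : n10800 = n6733 := (((iv F42089)).symm.trans (sb E5462 F34988))
theorem E5565 : n10802 = n10377 := ((D10802).symm.trans (sb E5462 (iv F40546)))
theorem E5566 : n6804 = n1910 := (((F10495).symm.trans (sb E5463 (iv F26079)))).symm
theorem E5567 : n6736 = n1909 := ((((iv D2609)).symm.trans (sb E5463 (iv F25850)))).symm
theorem E5568 : n3627 = n3566 := (((D3566).symm.trans (sb E5463 (iv D4967)))).symm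
theorem E5569 : n6738 = n1911 := (((F10490).symm.trans (sb E5464 (iv F25857)))).symm
theorem E5570 : n3592 = n3539 := ((((iv F13987)).symm.trans (sb E5464 (iv D4918)))).symm
theorem F44745 : act 8 n2654 = n3565 := (sb E5465 (iv D4879))
theorem E5572 : n10910 = n1908 := ((((iv D2606)).symm.trans (sb E5466 (iv F42475)))).symm
theorem E5573 : n6791 = n3562 := (((D3562).symm.trans (sb E5466 (iv D9322)))).symm
theorem E5574 : n10913 = n3307 := ((((iv F13167)).symm.trans (sb E5467 (iv F42483)))).symm
theorem E5575 : n6724 = n3536 := ((((iv F13973)).symm.trans (sb E5467 (iv D9229)))).symm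
theorem F44746 : act 4 n4872 = n3621 := (sb E5468 F19267)
theorem F44747 : act 6 n4872 = n3620 := (sb E5468 F19268)
theorem E5576 : n6625 = n3619 := (((iv F25432)).symm.trans (sb E5468 (iv D4956)))
theorem E5577 : n10916 = n3310 := (((F17719).symm.trans (sb E5469 (iv F42491)))).symm
theorem E5578 : n10918 = n6184 := ((((iv F23883)).symm.trans (sb E5469 (iv F42499)))).symm
theorem E5579 : n6725 = n6152 := ((((iv F23763)).symm.trans (sb E5469 (iv D9232)))).symm
theorem E5580 : n6623 = n3586 := ((D6623).symm.trans (sb E5470 (iv D4909)))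
theorem E5582 : n11032 = n6679 := (((D6679).symm.trans (sb E5472 (iv F42870)))).symm
theorem E5583 : n10715 = n6788 := (((iv F41784)).symm.trans (sb E5473 (iv D9317)))
theorem F44748 : act 6 n9161 = n6789 := (sb E5473 F35251)
theorem E5584 : n11035 = n10305 := ((((iv F40293)).symm.trans (sb E5473 D11035))).symm
theorem E5585 : n3643 = n1917 := (((F10514).symm.trans (sb E5474 F19322))).symm
theorem E5586 : n3632 = n3546 := ((((iv F14013)).symm.trans (sb E5474 (iv D4972)))).symm
theorem E5587 : n6806 = n6645 := ((((iv F25505)).symm.trans (sb E5475 (iv D9338)))).symm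
theorem E5589 : n1953 = n1921 := (((F10527).symm.trans (sb E5476 F10698))).symm
theorem F44749 : act 4 n2619 = n1950 := (sb E5476 F10700)
theorem F44750 : act 6 n2619 = n1949 := (sb E5476 F10701)
theorem E5590 : n3550 = n1948 := (((iv F14026)).symm.trans (sb E5476 (iv D2666)))
theorem E5591 : n6642 = n3630 := ((((iv F14330)).symm.trans (sb E5477 (iv F25496)))).symm
theorem F44751 : act 7 n2658 = n3572 := (sb E5477 F18869)
theorem E5592 : n3596 = n3544 := (((iv F14206)).symm.trans (sb E5477 (iv D4849)))
theorem F44752 : act 3 n4969 = n6699 := (sb E5478 F34525)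
theorem E5595 : n10261 = n6808 := (((D6808).symm.trans (sb E5478 (iv F40142)))).symm
theorem F44753 : act 6 n8507 = n6810 := (sb E5479 F35338)
theorem E5602 : n3583 = n1074 := (((F6134).symm.trans (sb E5483 F19046))).symm
theorem E5605 : n3577 = n1992 := (((D1992).symm.trans (sb E5483 (iv D4897)))).symm
theorem F44754 : act 2 n5052 = n6687 := (sb E5487 (iv D9176))
theorem E5611 : n3554 = n1046 := ((((iv D1431)).symm.trans (sb E5488 (iv F14044)))).symm
theorem E5612 : n1955 = n1919 := ((D1955).symm.trans (sb E5488 (iv D2623)))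
theorem E5616 : n3548 = n1929 := ((((iv F7922)).symm.trans (sb E5490 (iv D4855)))).symm
theorem F44755 : act 6 n2617 = n1951 := (sb E5491 F10709)
theorem F44756 : act 8 n2617 = n1950 := (sb E5491 (iv D2668))
theorem E5623 : n6637 = n3335 := ((((iv F13263)).symm.trans (sb E5494 (iv D9105)))).symm
theorem E5624 : n3598 = n3542 := ((D3598).symm.trans (sb E5495 (iv D4846)))
theorem F44757 : act 1 n8650 = n6810 := (sb E5497 F34776)
theorem E5626 : n10397 = n6688 := (((iv F40604)).symm.trans (sb E5497 F34777))
theorem F44758 : act 8 n8650 = n6687 := (sb E5497 (iv D9178))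
theorem F44759 : act 4 n1432 = n1920 := (sb E5501 F10537)
theorem E5631 : n3580 = n1048 := (((F6003).symm.trans (sb E5501 (iv F14140)))).symm
theorem E5632 : n1935 = n1918 := (((iv F7945)).symm.trans (sb E5501 (iv D2621)))
theorem E5633 : n3575 = n1931 := ((((iv F7930)).symm.trans (sb E5502 (iv D4893)))).symm
theorem F44760 : act 7 n2616 = n1951 := (sb E5503 F10612)
theorem E5634 : n3547 = n1930 := (((iv F14017)).symm.trans (sb E5503 (iv D2640)))
theorem E5635 : n6685 = n3602 := ((((iv F14222)).symm.trans (sb E5504 (iv F25657)))).symm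
theorem F44761 : act 5 n2636 = n3568 := (sb E5504 (iv D4882))
theorem E5637 : n6752 = n6196 := ((((iv F23924)).symm.trans (sb E5505 (iv F25895)))).symm
theorem E5638 : n6633 = n3599 := (((iv F25466)).symm.trans (sb E5505 (iv D4929)))
theorem F44762 : act 4 n2634 = n3543 := (sb E5506 F18854)
theorem F44763 : act 8 n2634 = n3568 := (sb E5506 F18855)
theorem F44764 : act 5 n4932 = n6686 := (sb E5507 F34762)
theorem E5641 : n10971 = n10317 := (((D10317).symm.trans (sb E5508 D10971))).symm
theorem E5642 : n10970 = n10316 := ((((iv F40332)).symm.trans (sb E5508 (iv F42661)))).symm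
theorem E5643 : n10400 = n10318 := (((D10318).symm.trans (sb E5508 (iv F40616)))).symm
theorem F44765 : act 8 n8568 = n6686 := (sb E5509 (iv D9175))
theorem E5647 : n3612 = n1032 := (((F5905).symm.trans (sb E5511 (iv F14262)))).symm
theorem E5648 : n1933 = n1905 := ((((iv F7830)).symm.trans (sb E5511 (iv D2644)))).symm
theorem F44766 : act 8 n1430 = n1920 := (sb E5512 (iv D2624))
theorem E5653 : n6762 = n1782 := ((((iv F7373)).symm.trans (sb E5515 (iv F25929)))).symm
theorem E5654 : n3605 = n1903 := ((((iv F7820)).symm.trans (sb E5515 (iv D4937)))).symm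
theorem E5655 : n3549 = n1928 := ((D3549).symm.trans (sb E5516 (iv D2638)))
theorem E5664 : n6746 = n3299 := ((((iv F13138)).symm.trans (sb E5521 (iv D9261)))).symm
theorem E5666 : n6747 = n6161 := ((((iv F23800)).symm.trans (sb E5522 (iv D9263)))).symm
theorem E5667 : n6741 = n6163 := (((D6163).symm.trans (sb E5523 (iv F25868)))).symm
theorem F44767 : act 7 n2632 = n3543 := (sb E5524 (iv D4847))
theorem E5671 : n10908 = n10239 := ((((iv F40064)).symm.trans (sb E5526 (iv F42464)))).symm
theorem E5673 : n10944 = n6172 := (((F32224).symm.trans (sb E5526 (iv F42594)))).symm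
theorem E5674 : n10258 = n6742 := (((iv F40131)).symm.trans (sb E5526 F35047))
theorem F44768 : act 4 n6663 = n4947 := (sb E5527 F25976)
theorem E5677 : n9294 = n4866 := (((F25574).symm.trans (sb E5527 (iv F35181)))).symm
theorem F44769 : act 6 n6663 = n4946 := (sb E5527 F25977)
theorem E5678 : n9074 = n4945 := (((iv F34403)).symm.trans (sb E5527 (iv D6774)))
theorem E5679 : n9071 = n4903 := ((((iv F19077)).symm.trans (sb E5529 (iv D10690)))).symm
theorem F44770 : act 6 n6660 = n4949 := (sb E5530 F25990)
theorem F44771 : act 8 n6660 = n4947 := (sb E5530 (iv D6778))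
theorem F44772 : act 1 n10781 = n9437 := (sb E5531 F42797)
theorem F44773 : act 6 n10781 = n9304 := (sb E5531 F42801)
theorem F44774 : act 8 n10781 = n9300 := (sb E5531 (iv D11010))
theorem F44775 : act 6 n10776 = n9307 := (sb E5532 F42809)
theorem E5681 : n9133 = n4906 := ((((iv F19087)).symm.trans (sb E5533 (iv D10778)))).symm
theorem E5682 : n9217 = n9131 := ((((iv F34601)).symm.trans (sb E5534 (iv F34918)))).symm
theorem F44776 : act 7 n6659 = n4949 := (sb E5534 F25776)
theorem E5683 : n9070 = n4904 := (((iv F34385)).symm.trans (sb E5534 (iv D6717)))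
theorem E5685 : n9211 = n8424 := ((((iv F32124)).symm.trans (sb E5537 (iv D10886)))).symm
theorem E5686 : n9072 = n4902 := ((D9072).symm.trans (sb E5538 (iv D6714)))
theorem F44777 : act 6 n10788 = n9297 := (sb E5540 F42773)
theorem F44778 : act 3 n10791 = n9291 := (sb E5542 (iv D10994))
theorem F44779 : act 6 n10791 = n9292 := (sb E5542 F42751)
theorem E5689 : n4877 = n2709 := ((((iv F10886)).symm.trans (sb E5544 F25640))).symm
theorem F44780 : act 2 n6901 = n9149 := (sb E5549 (iv D10803))
theorem E5691 : n4875 = n2631 := ((((iv F10583)).symm.trans (sb E5550 (iv D6680)))).symm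
theorem F44781 : act 6 n3564 = n2656 := (sb E5551 F14328)
theorem E5693 : n4919 = n2607 := ((((iv D3564)).symm.trans (sb E5551 (iv F19144)))).symm
theorem F44782 : act 8 n3564 = n2655 := (sb E5551 (iv D3629))
theorem F44783 : act 7 n3563 = n2656 := (sb E5552 F14200)
theorem E5694 : n4840 = n2630 := (((iv F18835)).symm.trans (sb E5552 (iv D3594)))
theorem E5696 : n9147 = n4914 := ((((iv F19117)).symm.trans (sb E5554 (iv F34664)))).symm
theorem F44784 : act 5 n3590 = n4868 := (sb E5554 (iv D6669))
theorem E5698 : n9234 = n4867 := (((D4867).symm.trans (sb E5556 (iv F34976)))).symm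
theorem E5699 : n4910 = n4835 := ((((iv F18816)).symm.trans (sb E5556 (iv D6728)))).symm
theorem E5700 : n9236 = n8475 := ((((iv F32323)).symm.trans (sb E5557 (iv F34984)))).symm
theorem E5701 : n9078 = n4911 := (((iv F34418)).symm.trans (sb E5557 (iv D6730)))
theorem F44785 : act 4 n3588 = n4836 := (sb E5558 F25417)
theorem F44786 : act 8 n3588 = n4868 := (sb E5558 F25418)
theorem F44787 : act 3 n10447 = n9150 := (sb E5561 F42104)
theorem F44788 : act 8 n10447 = n9149 := (sb E5561 (iv D10805))
theorem F44789 : act 3 n10775 = n9307 := (sb E5562 F42418)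
theorem F44790 : act 5 n10775 = n9222 := (sb E5562 F42419)
theorem F44791 : act 5 n6733 = n9148 := (sb E5564 F42089)
theorem F44792 : act 6 n10377 = n9150 := (sb E5565 F42096)
theorem F44793 : act 8 n10377 = n9148 := (sb E5565 (iv D10802))
theorem E5703 : n9242 = n1399 := ((((iv D1910)).symm.trans (sb E5566 (iv F35011)))).symm
theorem E5704 : n4966 = n2610 := (((D2610).symm.trans (sb E5566 (iv D6804)))).symm
theorem E5705 : n9244 = n1400 := (((F7844).symm.trans (sb E5567 (iv F35018)))).symm
theorem E5706 : n4916 = n2591 := ((((iv F10426)).symm.trans (sb E5567 (iv D6736)))).symm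
theorem F44794 : act 4 n3566 = n2655 := (sb E5568 F14317)
theorem F44795 : act 6 n3566 = n2654 := (sb E5568 F14318)
theorem E5707 : n4843 = n2653 := (((iv F18847)).symm.trans (sb E5568 (iv D3627)))
theorem E5708 : n9246 = n2428 := ((((iv F9845)).symm.trans (sb E5569 (iv F35027)))).symm
theorem E5709 : n4917 = n2593 := ((((iv F10435)).symm.trans (sb E5569 (iv D6738)))).symm
theorem E5710 : n4842 = n2628 := ((D4842).symm.trans (sb E5570 (iv D3592)))
theorem E5712 : n9227 = n2590 := ((((iv F10422)).symm.trans (sb E5572 (iv D10910)))).symm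
theorem E5713 : n4955 = n4839 := ((((iv F18830)).symm.trans (sb E5573 (iv D6791)))).symm
theorem E5714 : n9228 = n4499 := ((((iv F17631)).symm.trans (sb E5574 (iv D10913)))).symm
theorem E5715 : n4908 = n4837 := (((D4837).symm.trans (sb E5575 (iv D6724)))).symm
theorem F44796 : act 7 n3619 = n4872 := (sb E5576 F25432)
theorem E5717 : n9230 = n4502 := ((((iv F17645)).symm.trans (sb E5577 (iv D10916)))).symm
theorem E5718 : n9231 = n8429 := ((((iv F32147)).symm.trans (sb E5578 (iv D10918)))).symm
theorem E5719 : n9225 = n8431 := (((D8431).symm.trans (sb E5579 (iv F34946)))).symm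
theorem F44797 : act 7 n3586 = n4836 := (sb E5580 (iv D6623))
theorem E5721 : n9316 = n9090 := ((((iv F34457)).symm.trans (sb E5582 (iv D11032)))).symm
theorem F44798 : act 3 n6788 = n9161 := (sb E5583 F41784)
theorem F44799 : act 3 n10305 = n9318 := (sb E5584 F42881)
theorem F44800 : act 6 n10305 = n9320 := (sb E5584 F42882)
theorem E5722 : n2669 = n1408 := (((F7870).symm.trans (sb E5585 F14362))).symm
theorem E5723 : n2665 = n2599 := ((((iv F10456)).symm.trans (sb E5585 (iv D3643)))).symm
theorem E5724 : n4968 = n4851 := ((((iv F18874)).symm.trans (sb E5586 (iv F19313)))).symm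
theorem F44801 : act 5 n3546 = n2658 := (sb E5586 (iv D3632))
theorem E5726 : n9056 = n5030 := (((iv F34330)).symm.trans (sb E5587 F26084))
theorem E5727 : n9337 = n9113 := ((((iv F34534)).symm.trans (sb E5587 (iv F35324)))).symm
theorem F44802 : act 5 n6645 = n4969 := (sb E5587 F26085)
theorem E5728 : n9339 = n8453 := ((((iv F32243)).symm.trans (sb E5587 D9339))).symm
theorem F44803 : act 4 n1921 = n1431 := (sb E5589 F8003)
theorem F44804 : act 6 n1921 = n1430 := (sb E5589 F8004)
theorem E5729 : n2603 = n1429 := (((iv F10473)).symm.trans (sb E5589 (iv D1953)))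
theorem E5730 : n4827 = n1451 := (((F7984).symm.trans (sb E5590 (iv F18779)))).symm
theorem F44805 : act 7 n1948 = n2619 := (sb E5590 F14026)
theorem E5731 : n2637 = n2598 := (((iv F10601)).symm.trans (sb E5590 (iv D3550)))
theorem E5732 : n9053 = n2697 := (((F14329).symm.trans (sb E5591 (iv F34320)))).symm
theorem E5733 : n9109 = n4595 := ((((iv F17972)).symm.trans (sb E5591 (iv F34523)))).symm
theorem E5734 : n4920 = n4848 := (((iv F19147)).symm.trans (sb E5591 (iv D6642)))
theorem F44806 : act 4 n3544 = n2633 := (sb E5592 F14205)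
theorem F44807 : act 6 n3544 = n2632 := (sb E5592 (iv D3596))
theorem F44808 : act 8 n3544 = n2658 := (sb E5592 F14206)
theorem F44809 : act 1 n6808 = n8568 := (sb E5595 F40139)
theorem F44810 : act 3 n6808 = n8507 := (sb E5595 F40140)
theorem E5735 : n9250 = n8450 := (((iv F35042)).symm.trans (sb E5595 (iv D10261)))
theorem E5742 : n2622 = n1465 := (((D1465).symm.trans (sb E5602 (iv D3583)))).symm
theorem F44811 : act 3 n1992 = n2617 := (sb E5605 (iv D3577))
theorem E5749 : n2601 = n1416 := ((((iv F5948)).symm.trans (sb E5611 (iv D3554)))).symm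
theorem F44812 : act 6 n1919 = n1432 := (sb E5612 F8012)
theorem F44813 : act 8 n1919 = n1431 := (sb E5612 (iv D1955))
theorem E5757 : n2639 = n2596 := ((D2639).symm.trans (sb E5616 (iv D3548)))
theorem E5762 : n9098 = n4562 := (((D4562).symm.trans (sb E5623 (iv F34490)))).symm
theorem E5763 : n4926 = n4844 := (((D4844).symm.trans (sb E5624 D4926))).symm
theorem F44814 : act 6 n3542 = n2634 := (sb E5624 F14212)
theorem F44815 : act 7 n3542 = n2633 := (sb E5624 (iv D3598))
theorem F44816 : act 3 n6688 = n8650 := (sb E5626 F40604)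
theorem F44817 : act 6 n6688 = n8568 := (sb E5626 F40606)
theorem E5765 : n9099 = n8565 := (((iv F34494)).symm.trans (sb E5626 (iv D10397)))
theorem E5768 : n2620 = n1418 := ((((iv F5956)).symm.trans (sb E5631 (iv D3580)))).symm
theorem F44818 : act 7 n1918 = n1432 := (sb E5632 F7945)
theorem E5769 : n2600 = n1417 := (((iv F10461)).symm.trans (sb E5632 (iv D1935)))
theorem F44819 : act 5 n1931 = n2616 := (sb E5633 (iv D3575))
theorem F44820 : act 4 n1930 = n2597 := (sb E5634 F14016)
theorem F44821 : act 8 n1930 = n2616 := (sb E5634 F14017)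
theorem E5771 : n9172 = n4931 := ((((iv F19177)).symm.trans (sb E5635 D9172))).symm
theorem F44822 : act 5 n3602 = n4880 := (sb E5635 (iv D6685))
theorem E5773 : n9269 = n8493 := (((D8493).symm.trans (sb E5637 (iv F35088)))).symm
theorem E5774 : n8441 = n4928 := (((iv F32198)).symm.trans (sb E5637 (iv D6752)))
theorem F44823 : act 8 n3599 = n4880 := (sb E5638 F25466)
theorem F44824 : act 4 n10317 = n9358 := (sb E5641 F42662)
theorem F44825 : act 4 n10316 = n9272 := (sb E5642 F42660)
theorem F44826 : act 4 n10318 = n8568 := (sb E5643 F40615)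
theorem F44827 : act 7 n10318 = n8567 := (sb E5643 (iv D10400))
theorem E5780 : n2643 = n1398 := ((((iv F5877)).symm.trans (sb E5647 (iv D3612)))).symm
theorem E5781 : n2602 = n1415 := ((D2602).symm.trans (sb E5648 (iv D1933)))
theorem E5788 : n4936 = n2420 := ((((iv F9817)).symm.trans (sb E5653 (iv D6762)))).symm
theorem E5789 : n2688 = n2585 := ((((iv F10399)).symm.trans (sb E5654 F14235))).symm
theorem F44828 : act 7 n1928 = n2597 := (sb E5655 (iv D3549))
theorem E5799 : n9251 = n4512 := (((D4512).symm.trans (sb E5664 (iv F35045)))).symm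
theorem E5801 : n9252 = n8444 := (((D8444).symm.trans (sb E5666 (iv F35046)))).symm
theorem E5802 : n8447 = n4921 := ((D8447).symm.trans (sb E5667 (iv D6741)))
theorem F44829 : act 3 n10239 = n9226 := (sb E5671 F42465)
theorem E5805 : n9406 = n8417 := ((((iv F32087)).symm.trans (sb E5673 F42595))).symm
theorem F44830 : act 3 n6742 = n8448 := (sb E5674 F40131)
theorem E5806 : n6773 = n6619 := ((((iv F25410)).symm.trans (sb E5677 (iv D9294)))).symm
theorem E5807 : n10695 = n6771 := ((((iv F25967)).symm.trans (sb E5678 (iv F41717)))).symm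
theorem F44831 : act 7 n4945 = n6663 := (sb E5678 F34403)
theorem E5808 : n6713 = n6617 := (((iv F25762)).symm.trans (sb E5678 (iv D9074)))
theorem E5811 : n6715 = n6615 := ((D6715).symm.trans (sb E5679 (iv D9071)))
theorem E5813 : n10774 = n6720 := ((((iv F25784)).symm.trans (sb E5681 (iv F41988)))).symm
theorem F44832 : act 5 n4906 = n6659 := (sb E5681 (iv D9133))
theorem E5815 : n10891 = n10772 := ((((iv F41980)).symm.trans (sb E5682 (iv F42410)))).symm
theorem E5816 : n10893 = n10275 := ((((iv F40189)).symm.trans (sb E5682 (iv F42416)))).symm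
theorem E5817 : n10685 = n6716 := (((iv F41676)).symm.trans (sb E5682 (iv D9217)))
theorem F44833 : act 4 n4904 = n6616 := (sb E5683 F34384)
theorem F44834 : act 8 n4904 = n6659 := (sb E5683 F34385)
theorem E5821 : n10885 = n10225 := ((((iv F40006)).symm.trans (sb E5685 D10885))).symm
theorem E5822 : n10879 = n10227 := (((D10227).symm.trans (sb E5685 (iv F42374)))).symm
theorem F44835 : act 7 n4902 = n6616 := (sb E5686 (iv D9072))
theorem F44836 : act 3 n2709 = n3564 := (sb E5689 (iv D4877))
theorem F44837 : act 5 n2631 = n3563 := (sb E5691 (iv D4875))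
theorem E5829 : n3593 = n3538 := ((((iv F13982)).symm.trans (sb E5693 (iv D4919)))).symm
theorem F44838 : act 4 n2630 = n3539 := (sb E5694 F18834)
theorem F44839 : act 8 n2630 = n3563 := (sb E5694 F18835)
theorem F44840 : act 5 n4914 = n6667 := (sb E5696 (iv D9147))
theorem E5835 : n10921 = n6183 := ((((iv F23880)).symm.trans (sb E5698 (iv F42508)))).symm
theorem E5836 : n6727 = n6620 := ((((iv F25414)).symm.trans (sb E5698 (iv D9234)))).symm
theorem F44841 : act 6 n4835 = n3588 := (sb E5699 F19103)
theorem F44842 : act 7 n4835 = n3587 := (sb E5699 (iv D4910))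
theorem E5837 : n10924 = n10291 := (((D10291).symm.trans (sb E5700 (iv F42521)))).symm
theorem E5838 : n10233 = n6729 := (((iv F40044)).symm.trans (sb E5700 (iv D9236)))
theorem F44843 : act 8 n4911 = n6667 := (sb E5701 F34418)
theorem E5841 : n10931 = n1027 := ((((iv D1399)).symm.trans (sb E5703 (iv F42549)))).symm
theorem E5842 : n6734 = n1898 := ((((iv F7802)).symm.trans (sb E5703 (iv D9242)))).symm
theorem E5843 : n3626 = n3541 := ((((iv F13995)).symm.trans (sb E5704 (iv D4966)))).symm
theorem E5844 : n10933 = n1778 := ((((iv F7361)).symm.trans (sb E5705 (iv F42558)))).symm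
theorem E5845 : n6735 = n1899 := ((((iv F7806)).symm.trans (sb E5705 (iv D9244)))).symm
theorem E5846 : n3591 = n3540 := (((D3540).symm.trans (sb E5706 (iv D4916)))).symm
theorem F44844 : act 7 n2653 = n3566 := (sb E5707 F18847)
theorem E5848 : n10935 = n2571 := ((((iv F38553)).symm.trans (sb E5708 (iv F42567)))).symm
theorem E5849 : n6737 = n3295 := ((((iv F13122)).symm.trans (sb E5708 (iv D9246)))).symm
theorem E5850 : n3658 = n3524 := ((((iv F13926)).symm.trans (sb E5709 F19133))).symm
theorem F44845 : act 7 n2628 = n3539 := (sb E5710 (iv D4842))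
theorem E5855 : n6723 = n3537 := (((D3537).symm.trans (sb E5712 (iv D9227)))).symm
theorem E5856 : n6787 = n6627 := ((((iv F25437)).symm.trans (sb E5713 (iv F26015)))).symm
theorem F44846 : act 5 n4839 = n3619 := (sb E5713 (iv D4955))
theorem E5859 : n10904 = n6153 := (((D6153).symm.trans (sb E5714 (iv F42453)))).symm
theorem E5860 : n6721 = n6624 := (((D6624).symm.trans (sb E5715 (iv F25788)))).symm
theorem F44847 : act 4 n4837 = n3587 := (sb E5715 F19094)
theorem F44848 : act 6 n4837 = n3586 := (sb E5715 (iv D4908))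
theorem F44849 : act 8 n4837 = n3619 := (sb E5715 F19095)
theorem E5865 : n10906 = n6158 := (((D6158).symm.trans (sb E5717 (iv F42461)))).symm
theorem E5866 : n10917 = n10181 := ((((iv F39807)).symm.trans (sb E5718 D10917))).symm
theorem E5868 : n10238 = n6722 := ((D10238).symm.trans (sb E5719 (iv D9225)))
theorem E5871 : n10993 = n10700 := ((((iv F41735)).symm.trans (sb E5721 (iv F42747)))).symm
theorem E5872 : n10644 = n6880 := (((iv F41529)).symm.trans (sb E5721 F35246))
theorem E5873 : n11031 = n10718 := ((((iv F41793)).symm.trans (sb E5721 (iv F42864)))).symm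
theorem F44850 : act 5 n9090 = n6788 := (sb E5721 F35247)
theorem E5874 : n11033 = n10244 := ((((iv F40084)).symm.trans (sb E5721 D11033))).symm
theorem E5875 : n1952 = n1907 := ((((iv F7838)).symm.trans (sb E5722 (iv D2669)))).symm
theorem E5876 : n3530 = n1978 := (((iv F13945)).symm.trans (sb E5723 F10695))
theorem F44851 : act 5 n2599 = n1948 := (sb E5723 (iv D2665))
theorem E5878 : n6604 = n3678 := (((iv F25347)).symm.trans (sb E5724 F19312))
theorem E5879 : n6805 = n6644 := ((((iv F25502)).symm.trans (sb E5724 D6805))).symm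
theorem F44852 : act 5 n4851 = n3630 := (sb E5724 (iv D4968))
theorem F44853 : act 2 n5030 = n6645 := (sb E5726 F34330)
theorem E5881 : n10667 = n6882 := ((((iv F26354)).symm.trans (sb E5726 (iv F41607)))).symm
theorem E5882 : n10212 = n6883 := (((D6883).symm.trans (sb E5726 (iv F39950)))).symm
theorem E5884 : n10751 = n10456 := (((iv F41902)).symm.trans (sb E5727 (iv F40794)))
theorem E5885 : n11057 = n10264 := ((((iv F40153)).symm.trans (sb E5727 D11057))).symm
theorem F44854 : act 5 n8453 = n6808 := (sb E5728 F35331)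
theorem E5887 : n3534 = n1064 := (((F5991).symm.trans (sb E5729 (iv F13963)))).symm
theorem F44855 : act 7 n1429 = n1921 := (sb E5729 F10473)
theorem E5888 : n1932 = n1906 := (((iv F7934)).symm.trans (sb E5729 (iv D2603)))
theorem E5889 : n6602 = n1977 := ((((iv F8101)).symm.trans (sb E5730 (iv F25340)))).symm
theorem E5890 : n6608 = n1063 := (((F6083).symm.trans (sb E5730 (iv F25361)))).symm
theorem E5891 : n3529 = n1966 := ((((iv F8058)).symm.trans (sb E5730 (iv D4827)))).symm
theorem F44856 : act 4 n2598 = n1929 := (sb E5731 F10600)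
theorem F44857 : act 6 n2598 = n1928 := (sb E5731 (iv D2637))
theorem F44858 : act 8 n2598 = n1948 := (sb E5731 F10601)
theorem E5892 : n10663 = n3420 := ((((iv F13556)).symm.trans (sb E5732 (iv F41594)))).symm
theorem E5893 : n6601 = n3659 := ((((iv F14438)).symm.trans (sb E5732 (iv D9053)))).symm
theorem E5894 : n10748 = n6291 := (((D6291).symm.trans (sb E5733 (iv F41894)))).symm
theorem E5895 : n6641 = n6239 := ((((iv F24084)).symm.trans (sb E5733 (iv D9109)))).symm
theorem F44859 : act 6 n4848 = n3595 := (sb E5734 (iv D4920))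
theorem E5896 : n6740 = n6164 := ((((iv F23811)).symm.trans (sb E5734 D6740))).symm
theorem F44860 : act 8 n4848 = n3630 := (sb E5734 F19147)
theorem E5897 : n10905 = n10241 := ((((iv F40071)).symm.trans (sb E5735 (iv F42454)))).symm
theorem E5898 : n10209 = n6855 := (((iv F39934)).symm.trans (sb E5735 F35040))
theorem E5899 : n10384 = n10260 := ((((iv F40138)).symm.trans (sb E5735 (iv F40572)))).symm
theorem F44861 : act 6 n8450 = n6742 := (sb E5735 F35041)
theorem F44862 : act 7 n8450 = n6808 := (sb E5735 F35042)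
theorem F44863 : act 3 n1465 = n1919 := (sb E5742 (iv D2622))
theorem E5921 : n1934 = n1904 := ((D1934).symm.trans (sb E5749 (iv D2601)))
theorem F44864 : act 6 n2596 = n1930 := (sb E5757 F10608)
theorem F44865 : act 7 n2596 = n1929 := (sb E5757 (iv D2639))
theorem E5941 : n6634 = n6245 := (((D6245).symm.trans (sb E5762 (iv D9098)))).symm
theorem E5942 : n6749 = n6160 := ((((iv F23794)).symm.trans (sb E5763 D6749))).symm
theorem F44866 : act 6 n4844 = n3599 := (sb E5763 F19164)
theorem E5944 : n10704 = n10374 := ((((iv F40530)).symm.trans (sb E5765 (iv F41749)))).symm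
theorem F44867 : act 1 n8565 = n6742 := (sb E5765 F34491)
theorem E5945 : n10396 = n10251 := (((iv F40601)).symm.trans (sb E5765 (iv F40110)))
theorem F44868 : act 7 n8565 = n6688 := (sb E5765 F34494)
theorem F44869 : act 5 n1418 = n1918 := (sb E5768 (iv D2620))
theorem F44870 : act 4 n1417 = n1905 := (sb E5769 F10460)
theorem F44871 : act 8 n1417 = n1918 := (sb E5769 F10461)
theorem E5948 : n10315 = n6755 := ((((iv F25904)).symm.trans (sb E5771 (iv F40329)))).symm
theorem E5951 : n10969 = n10034 := ((((iv F39256)).symm.trans (sb E5773 (iv F42658)))).symm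
theorem E5952 : n10177 = n6751 := (((iv F39792)).symm.trans (sb E5773 (iv D9269)))
theorem F44872 : act 3 n4928 = n6161 := (sb E5774 F32196)
theorem F44873 : act 8 n4928 = n6196 := (sb E5774 F32198)
theorem E5960 : n1971 = n1897 := ((((iv F7796)).symm.trans (sb E5780 F10624))).symm
theorem F44874 : act 7 n1415 = n1905 := (sb E5781 (iv D2602))
theorem E5971 : n3669 = n3287 := ((((iv F13082)).symm.trans (sb E5788 F19196))).symm
theorem E5972 : n3528 = n1967 := (((iv F13938)).symm.trans (sb E5789 (iv D2688)))
theorem E5990 : n6856 = n6142 := ((((iv F23713)).symm.trans (sb E5799 F35043))).symm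
theorem E5993 : n10386 = n10252 := (((D10252).symm.trans (sb E5801 (iv F40578)))).symm
theorem F44875 : act 3 n4921 = n6163 := (sb E5802 (iv D8447))
theorem E5998 : n11114 = n10199 := ((((iv F39889)).symm.trans (sb E5805 (iv F43162)))).symm
theorem E6000 : n10207 = n6858 := (((iv F39926)).symm.trans (sb E5805 F35567))
theorem E6001 : n11138 = n10215 := ((((iv F39960)).symm.trans (sb E5805 (iv F43263)))).symm
theorem E6003 : n9290 = n9077 := ((((iv F34413)).symm.trans (sb E5806 (iv F35169)))).symm
theorem F44876 : act 5 n6619 = n4945 := (sb E5806 (iv D6773))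
theorem E6005 : n9207 = n9073 := (((iv F34886)).symm.trans (sb E5807 (iv D10695)))
theorem F44877 : act 4 n6617 = n4903 := (sb E5808 F25761)
theorem F44878 : act 6 n6617 = n4902 := (sb E5808 (iv D6713))
theorem F44879 : act 8 n6617 = n4945 := (sb E5808 F25762)
theorem E6006 : n9213 = n9069 := (((D9069).symm.trans (sb E5811 D9213))).symm
theorem F44880 : act 6 n6615 = n4904 := (sb E5811 F25770)
theorem F44881 : act 7 n6615 = n4903 := (sb E5811 (iv D6715))
theorem F44882 : act 5 n6720 = n9131 := (sb E5813 (iv D10774))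
theorem F44883 : act 5 n10772 = n9219 := (sb E5815 F42412)
theorem F44884 : act 8 n10772 = n9215 := (sb E5815 (iv D10891))
theorem F44885 : act 8 n10275 = n9216 := (sb E5816 (iv D10893))
theorem F44886 : act 8 n6716 = n9131 := (sb E5817 F41676)
theorem F44887 : act 3 n10225 = n9216 := (sb E5821 F42393)
theorem F44888 : act 3 n10227 = n9208 := (sb E5822 (iv D10879))
theorem F44889 : act 6 n3538 = n2630 := (sb E5829 F14195)
theorem F44890 : act 7 n3538 = n2629 := (sb E5829 (iv D3593))
theorem E6009 : n9233 = n8428 := ((((iv F32143)).symm.trans (sb E5835 (iv D10921)))).symm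
theorem F44891 : act 6 n6620 = n4911 := (sb E5836 F25812)
theorem E6010 : n9079 = n8542 := ((D9079).symm.trans (sb E5836 (iv F32552)))
theorem F44892 : act 4 n10291 = n9239 := (sb E5837 F42520)
theorem F44893 : act 8 n10291 = n9235 := (sb E5837 (iv D10924))
theorem F44894 : act 3 n6729 = n8429 := (sb E5838 F40042)
theorem F44895 : act 8 n6729 = n8475 := (sb E5838 F40044)
theorem E6011 : n9241 = n1393 := ((((iv F5857)).symm.trans (sb E5841 (iv D10931)))).symm
theorem E6012 : n4915 = n2592 := (((D2592).symm.trans (sb E5842 (iv D6734)))).symm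
theorem E6013 : n4818 = n2696 := (((iv F18748)).symm.trans (sb E5843 F14311))
theorem F44896 : act 5 n3541 = n2653 := (sb E5843 (iv D3626))
theorem E6014 : n9243 = n2416 := ((((iv F9801)).symm.trans (sb E5844 (iv D10933)))).symm
theorem E6015 : n5002 = n2581 := ((((iv F10385)).symm.trans (sb E5845 F25845))).symm
theorem E6016 : n4817 = n2677 := (((iv F18744)).symm.trans (sb E5846 F14184))
theorem F44897 : act 4 n3540 = n2629 := (sb E5846 F14185)
theorem F44898 : act 6 n3540 = n2628 := (sb E5846 (iv D3591))
theorem F44899 : act 8 n3540 = n2653 := (sb E5846 F14186)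
theorem E6019 : n9245 = n3222 := (((F38554).symm.trans (sb E5848 (iv D10935)))).symm
theorem E6020 : n5003 = n4487 := ((((iv F17577)).symm.trans (sb E5849 F25854))).symm
theorem E6021 : n4816 = n2678 := (((iv F18739)).symm.trans (sb E5850 (iv D3658)))
theorem E6024 : n9223 = n4838 := (((D4838).symm.trans (sb E5855 (iv F34938)))).symm
theorem E6025 : n9038 = n5026 := (((iv F34263)).symm.trans (sb E5856 F26014))
theorem E6026 : n9315 = n9089 := ((((iv F34454)).symm.trans (sb E5856 D9315))).symm
theorem F44900 : act 5 n6627 = n4953 := (sb E5856 (iv D6787))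
theorem E6027 : n9224 = n8432 := (((D8432).symm.trans (sb E5859 (iv D10904)))).symm
theorem E6028 : n9035 = n4993 := (((iv F34253)).symm.trans (sb E5860 F25787))
theorem E6029 : n9086 = n8536 := ((D9086).symm.trans (sb E5860 (iv F32526)))
theorem F44901 : act 6 n6624 = n4907 := (sb E5860 (iv D6721))
theorem F44902 : act 8 n6624 = n4953 := (sb E5860 F25789)
theorem E6030 : n9383 = n8403 := ((((iv F32028)).symm.trans (sb E5865 F42459))).symm
theorem F44903 : act 3 n10181 = n9235 := (sb E5866 F42495)
theorem F44904 : act 3 n6722 = n8431 := (sb E5868 (iv D10238))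
theorem F44905 : act 5 n10700 = n9291 := (sb E5871 F42748)
theorem F44906 : act 2 n6880 = n9090 := (sb E5872 F41529)
theorem F44907 : act 2 n10718 = n9432 := (sb E5873 F42863)
theorem F44908 : act 2 n10244 = n9433 := (sb E5874 F42872)
theorem F44909 : act 5 n10244 = n9318 := (sb E5874 F42873)
theorem E6031 : n2589 = n1452 := (((iv F10416)).symm.trans (sb E5875 F7998))
theorem F44910 : act 5 n1907 = n1429 := (sb E5875 (iv D1952))
theorem E6033 : n4823 = n2699 := ((((iv F10840)).symm.trans (sb E5876 (iv F18765)))).symm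
theorem F44911 : act 3 n1978 = n2599 := (sb E5876 F13945)
theorem E6034 : n4807 = n1614 := (((F8105).symm.trans (sb E5876 (iv F18701)))).symm
theorem E6035 : n2686 = n2584 := (((iv F10789)).symm.trans (sb E5876 (iv D3530)))
theorem F44912 : act 2 n3678 = n4851 := (sb E5878 F25347)
theorem E6036 : n9055 = n5029 := (((D5029).symm.trans (sb E5878 (iv F34327)))).symm
theorem E6037 : n5004 = n4822 := (((iv F19445)).symm.trans (sb E5878 (iv D6604)))
theorem E6038 : n9112 = n8630 := (((iv F34532)).symm.trans (sb E5879 (iv F32851)))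
theorem F44913 : act 2 n6882 = n9113 := (sb E5881 F41606)
theorem F44914 : act 2 n6883 = n8453 := (sb E5882 F39947)
theorem E6041 : n9400 = n8412 := (((iv F35552)).symm.trans (sb E5882 (iv D10212)))
theorem F44915 : act 1 n10456 = n9272 := (sb E5884 F41901)
theorem F44916 : act 5 n10456 = n9113 := (sb E5884 F41902)
theorem F44917 : act 2 n10264 = n9435 := (sb E5885 F42960)
theorem E6042 : n4831 = n784 := (((F4566).symm.trans (sb E5887 (iv F18796)))).symm
theorem E6043 : n2588 = n1442 := ((((iv F6045)).symm.trans (sb E5887 (iv D3534)))).symm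
theorem F44918 : act 4 n1906 = n1416 := (sb E5888 F7933)
theorem F44919 : act 6 n1906 = n1415 := (sb E5888 (iv D1932))
theorem F44920 : act 8 n1906 = n1429 := (sb E5888 F7934)
theorem E6044 : n9049 = n1450 := (((F8102).symm.trans (sb E5889 (iv F34306)))).symm
theorem E6045 : n4821 = n2681 := ((((iv F10766)).symm.trans (sb E5889 (iv D6602)))).symm
theorem E6047 : n4825 = n1440 := ((((iv F6037)).symm.trans (sb E5890 (iv D6608)))).symm
theorem F44921 : act 3 n1966 = n2598 := (sb E5891 F13942)
theorem E6048 : n2687 = n2583 := ((D2687).symm.trans (sb E5891 (iv D3529)))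
theorem E6049 : n9052 = n4638 := ((((iv F18119)).symm.trans (sb E5892 (iv D10663)))).symm
theorem F44922 : act 2 n3659 = n4848 := (sb E5893 F25337)
theorem E6050 : n8409 = n5005 := (((D5005).symm.trans (sb E5893 (iv F32056)))).symm
theorem E6051 : n9108 = n8362 := ((((iv F38187)).symm.trans (sb E5894 (iv D10748)))).symm
theorem F44923 : act 1 n6239 = n4928 := (sb E5895 F25494)
theorem F44924 : act 4 n6239 = n4848 := (sb E5895 (iv D6641))
theorem E6052 : n8555 = n8449 := ((D8555).symm.trans (sb E5895 (iv F32229)))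
theorem F44925 : act 6 n6164 = n4921 := (sb E5896 F25866)
theorem F44926 : act 2 n10241 = n9382 := (sb E5897 F42455)
theorem F44927 : act 6 n10241 = n9226 := (sb E5897 F42456)
theorem F44928 : act 7 n10241 = n9318 := (sb E5897 F42457)
theorem F44929 : act 2 n6855 = n8450 := (sb E5898 F39934)
theorem E6053 : n9403 = n8410 := (((iv F35559)).symm.trans (sb E5898 F39935))
theorem F44930 : act 2 n10260 = n8719 := (sb E5899 F40571)
theorem F44931 : act 6 n10260 = n8557 := (sb E5899 F40573)
theorem F44932 : act 7 n10260 = n8633 := (sb E5899 F40574)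
theorem F44933 : act 6 n1904 = n1417 := (sb E5921 F7941)
theorem F44934 : act 7 n1904 = n1416 := (sb E5921 (iv D1934))
theorem F44935 : act 1 n6245 = n4921 := (sb E5941 F25467)
theorem E6077 : n8564 = n8442 := ((D8564).symm.trans (sb E5941 (iv F32201)))
theorem F44936 : act 7 n6245 = n4844 := (sb E5941 (iv D6634))
theorem F44937 : act 6 n6160 = n4928 := (sb E5942 F25887)
theorem F44938 : act 7 n10374 = n9150 := (sb E5944 F41752)
theorem F44939 : act 4 n10251 = n8565 := (sb E5945 F40601)
theorem F44940 : act 6 n10251 = n8567 := (sb E5945 F40602)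
theorem F44941 : act 4 n6755 = n8493 := (sb E5948 (iv D10315))
theorem E6079 : n11460 = n9271 := ((((iv F35094)).symm.trans (sb E5948 (iv F44468)))).symm
theorem E6080 : n9268 = n8365 := (((F39257).symm.trans (sb E5951 (iv D10969)))).symm
theorem F44942 : act 3 n6751 = n8377 := (sb E5952 F39789)
theorem F44943 : act 8 n6751 = n8493 := (sb E5952 F39792)
theorem E6090 : n2587 = n1443 := (((iv F10407)).symm.trans (sb E5960 (iv D1971)))
theorem E6100 : n5010 = n4491 := ((((iv F17592)).symm.trans (sb E5971 (iv F19463)))).symm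
theorem F44944 : act 3 n1967 = n2585 := (sb E5972 F13938)
theorem E6107 : n8408 = n5006 := (((iv F32050)).symm.trans (sb E5990 (iv D6856)))
theorem E6108 : n9405 = n8414 := ((((iv F32076)).symm.trans (sb E5990 D9405))).symm
theorem F44945 : act 4 n10252 = n8556 := (sb E5993 (iv D10386))
theorem F44946 : act 7 n10252 = n8562 := (sb E5993 F40579)
theorem F44947 : act 2 n10199 = n9385 := (sb E5998 F43163)
theorem F44948 : act 2 n6858 = n8417 := (sb E6000 F39926)
theorem F44949 : act 2 n10215 = n9408 := (sb E6001 F43262)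
theorem E6109 : n10988 = n10697 := ((((iv F41723)).symm.trans (sb E6003 (iv F42732)))).symm
theorem F44950 : act 5 n9077 = n6771 := (sb E6003 (iv D9290))
theorem E6112 : n10875 = n10693 := (((D10693).symm.trans (sb E6005 (iv F42360)))).symm
theorem E6113 : n10694 = n10350 := ((D10694).symm.trans (sb E6005 (iv F40446)))
theorem F44951 : act 6 n9073 = n6712 := (sb E6005 (iv D9207))
theorem E6114 : n10878 = n10228 := ((((iv F40021)).symm.trans (sb E6005 D10878))).symm
theorem F44952 : act 8 n9073 = n6771 := (sb E6005 F34886)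
theorem E6115 : n10887 = n10684 := (((D10684).symm.trans (sb E6006 D10887))).symm
theorem E6116 : n10888 = n10224 := ((((iv F40000)).symm.trans (sb E6006 D10888))).symm
theorem F44953 : act 6 n9069 = n6716 := (sb E6006 F34907)
theorem E6117 : n10686 = n10355 := ((D10686).symm.trans (sb E6006 (iv F40465)))
theorem F44954 : act 6 n8428 = n6729 := (sb E6009 F34973)
theorem E6122 : n10373 = n10234 := (((D10234).symm.trans (sb E6009 (iv F40529)))).symm
theorem F44955 : act 7 n8542 = n6620 := (sb E6010 (iv D9079))
theorem E6124 : n10930 = n1022 := ((((iv D1393)).symm.trans (sb E6011 D10930))).symm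
theorem E6125 : n6849 = n1892 := ((((iv F7775)).symm.trans (sb E6011 F35005))).symm
theorem E6126 : n3656 = n3523 := ((((iv F13920)).symm.trans (sb E6012 F19121))).symm
theorem F44956 : act 3 n2696 = n3541 := (sb E6013 F18748)
theorem E6130 : n6850 = n3283 := ((((iv F13064)).symm.trans (sb E6014 F35015))).symm
theorem E6131 : n3657 = n3522 := ((((iv F13916)).symm.trans (sb E6015 (iv D5002)))).symm
theorem F44957 : act 3 n2677 = n3540 := (sb E6016 F18744)
theorem E6138 : n6851 = n4383 := ((((iv F17178)).symm.trans (sb E6019 F35025))).symm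
theorem E6139 : n6844 = n6132 := ((((iv F23671)).symm.trans (sb E6020 (iv F26212)))).symm
theorem F44958 : act 3 n2678 = n3524 := (sb E6021 F18739)
theorem E6145 : n6838 = n6591 := ((((iv F25298)).symm.trans (sb E6024 F34937))).symm
theorem F44959 : act 2 n5026 = n6627 := (sb E6025 F34263)
theorem E6149 : n10643 = n6879 := (((D6879).symm.trans (sb E6025 (iv F41526)))).symm
theorem E6150 : n10717 = n10430 := (((iv F41791)).symm.trans (sb E6026 (iv F40702)))
theorem E6151 : n10191 = n6839 := (((iv F39853)).symm.trans (sb E6027 F34942))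
theorem E6152 : n10365 = n10240 := (((D10240).symm.trans (sb E6027 (iv F40501)))).symm
theorem F44960 : act 6 n8432 = n6722 := (sb E6027 F34943)
theorem F44961 : act 2 n4993 = n6624 := (sb E6028 F34253)
theorem F44962 : act 4 n8536 = n6624 := (sb E6029 (iv D9086))
theorem E6155 : n10713 = n10162 := ((((iv F39731)).symm.trans (sb E6029 D10713))).symm
theorem E6157 : n10190 = n6840 := (((iv F39849)).symm.trans (sb E6030 (iv D9383)))
theorem E6158 : n11113 = n10196 := ((((iv F39877)).symm.trans (sb E6030 D11113))).symm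
theorem F44963 : act 3 n1452 = n1907 := (sb E6031 F10416)
theorem E6160 : n3520 = n1190 := (((F6087).symm.trans (sb E6031 (iv F13908)))).symm
theorem E6161 : n1969 = n1896 := (((iv F8072)).symm.trans (sb E6031 (iv D2589)))
theorem E6162 : n6576 = n2194 := (((F10841).symm.trans (sb E6033 (iv F25236)))).symm
theorem E6163 : n3661 = n3526 := (((iv F14445)).symm.trans (sb E6033 (iv D4823)))
theorem E6164 : n6580 = n1189 := ((((iv D1614)).symm.trans (sb E6034 (iv F25252)))).symm
theorem E6165 : n3515 = n2181 := ((((iv F8861)).symm.trans (sb E6034 (iv D4807)))).symm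
theorem F44964 : act 5 n2584 = n1966 := (sb E6035 (iv D2686))
theorem F44965 : act 8 n2584 = n1978 := (sb E6035 F10789)
theorem F44966 : act 2 n5029 = n6644 := (sb E6036 F34326)
theorem E6167 : n10609 = n4062 := (((F19538).symm.trans (sb E6036 (iv F41392)))).symm
theorem E6168 : n10666 = n6359 := (((F38067).symm.trans (sb E6036 (iv F41604)))).symm
theorem E6169 : n6852 = n6603 := (((iv F26247)).symm.trans (sb E6036 (iv D9055)))
theorem F44967 : act 5 n4822 = n3659 := (sb E6037 (iv D5004))
theorem E6170 : n6853 = n6138 := ((((iv F23699)).symm.trans (sb E6037 D6853))).symm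
theorem F44968 : act 8 n4822 = n3678 := (sb E6037 F19445)
theorem F44969 : act 1 n8630 = n6755 := (sb E6038 F34530)
theorem F44970 : act 5 n8630 = n6644 := (sb E6038 F34532)
theorem E6171 : n10750 = n10107 := ((((iv F39527)).symm.trans (sb E6038 (iv F41900)))).symm
theorem E6172 : n10178 = n6643 := (((iv F39797)).symm.trans (sb E6038 (iv D9112)))
theorem E6174 : n11108 = n10194 := ((((iv F39865)).symm.trans (sb E6041 (iv F43142)))).symm
theorem E6176 : n11126 = n10211 := ((((iv F39944)).symm.trans (sb E6041 (iv F43219)))).symm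
theorem F44971 : act 5 n8412 = n6855 := (sb E6041 F35550)
theorem F44972 : act 7 n8412 = n6883 := (sb E6041 F35552)
theorem E6178 : n3532 = n1056 := ((((iv F4536)).symm.trans (sb E6042 (iv D4831)))).symm
theorem F44973 : act 3 n1442 = n1906 := (sb E6043 F10412)
theorem E6179 : n1970 = n1895 := ((D1970).symm.trans (sb E6043 (iv D2588)))
theorem E6182 : n6599 = n1963 := ((((iv F8047)).symm.trans (sb E6044 (iv D9049)))).symm
theorem E6183 : n3662 = n3525 := ((D3662).symm.trans (sb E6045 (iv D4821)))
theorem E6186 : n3527 = n1968 := (((D1968).symm.trans (sb E6047 (iv D4825)))).symm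
theorem F44974 : act 6 n2583 = n1967 := (sb E6048 F10792)
theorem F44975 : act 7 n2583 = n1966 := (sb E6048 (iv D2687))
theorem E6189 : n10208 = n6352 := (((D6352).symm.trans (sb E6049 (iv F39932)))).symm
theorem F44976 : act 2 n5005 = n6164 := (sb E6050 F32054)
theorem E6190 : n6854 = n6137 := ((D6854).symm.trans (sb E6050 (iv D8409)))
theorem F44977 : act 1 n8362 = n6751 := (sb E6051 F34520)
theorem E6192 : n10259 = n10170 := ((((iv F39765)).symm.trans (sb E6051 (iv F40136)))).symm
theorem E6193 : n10383 = n10255 := ((((iv F40123)).symm.trans (sb E6052 D10383))).symm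
theorem F44978 : act 6 n8449 = n6240 := (sb E6052 F32609)
theorem F44979 : act 7 n8449 = n6239 := (sb E6052 (iv D8555))
theorem E6194 : n11111 = n10192 := ((((iv F39856)).symm.trans (sb E6053 (iv F43153)))).symm
theorem F44980 : act 3 n8410 = n6855 := (sb E6053 F35559)
theorem E6195 : n11132 = n10205 := ((((iv F39917)).symm.trans (sb E6053 (iv F43243)))).symm
theorem F44981 : act 6 n8410 = n6858 := (sb E6053 F35560)
theorem E6231 : n10388 = n10250 := (((D10250).symm.trans (sb E6077 (iv F40582)))).symm
theorem F44982 : act 4 n8442 = n6245 := (sb E6077 (iv D8564))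
theorem F44983 : act 6 n8442 = n6247 := (sb E6077 F32631)
theorem F44984 : act 4 n9271 = n10034 := (sb E6079 (iv D11460))
theorem E6234 : n10180 = n6754 := ((((iv D9271)).symm.trans (sb E6079 F44469))).symm
theorem E6235 : n10923 = n10179 := (((D10179).symm.trans (sb E6080 (iv F42515)))).symm
theorem F44985 : act 6 n8365 = n6751 := (sb E6080 (iv D9268))
theorem E6236 : n10398 = n10173 := ((((iv F39778)).symm.trans (sb E6080 (iv F40610)))).symm
theorem F44986 : act 3 n1443 = n1897 := (sb E6090 F10407)
theorem E6259 : n6136 = n3663 := (((iv F23689)).symm.trans (sb E6100 (iv D5010)))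
theorem F44987 : act 2 n5006 = n6142 := (sb E6107 F32050)
theorem E6271 : n10203 = n6857 := (((D6857).symm.trans (sb E6107 (iv F39911)))).symm
theorem E6273 : n11137 = n10213 := ((((iv F39953)).symm.trans (sb E6108 D11137))).symm
theorem F44988 : act 1 n10697 = n9425 := (sb E6109 F42731)
theorem F44989 : act 5 n10697 = n9288 := (sb E6109 (iv D10988))
theorem F44990 : act 1 n10693 = n9362 := (sb E6112 F42359)
theorem F44991 : act 6 n10693 = n9206 := (sb E6112 (iv D10875))
theorem F44992 : act 8 n10693 = n9288 := (sb E6112 F42362)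
theorem F44993 : act 0 n10350 = n9216 := (sb E6113 F41713)
theorem F44994 : act 4 n10350 = n9073 := (sb E6113 (iv D10694))
theorem F44995 : act 6 n10228 = n9208 := (sb E6114 F42371)
theorem F44996 : act 6 n10684 = n9215 := (sb E6115 F42400)
theorem F44997 : act 6 n10224 = n9216 := (sb E6116 F42402)
theorem F44998 : act 0 n10355 = n9208 := (sb E6117 F41677)
theorem F44999 : act 7 n10355 = n9069 := (sb E6117 (iv D10686))
theorem F45000 : act 4 n10234 = n8542 := (sb E6122 (iv D10373))
theorem F45001 : act 6 n10234 = n8544 := (sb E6122 F40528)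
theorem E6275 : n9395 = n1388 := ((((iv F5833)).symm.trans (sb E6124 F42546))).symm
theorem E6276 : n5001 = n2580 := (((D2580).symm.trans (sb E6125 (iv D6849)))).symm
theorem E6277 : n4995 = n4814 := ((((iv F18731)).symm.trans (sb E6126 (iv F19403)))).symm
theorem E6278 : n4800 = n2959 := (((iv F18671)).symm.trans (sb E6126 F14423))
theorem F45002 : act 5 n3523 = n2677 := (sb E6126 (iv D3656))
theorem F45003 : act 8 n3523 = n2696 := (sb E6126 F14425)
theorem E6283 : n9387 = n4485 := ((((iv F17565)).symm.trans (sb E6130 (iv F35497)))).symm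
theorem E6284 : n4996 = n4813 := ((((iv F18728)).symm.trans (sb E6131 (iv F19408)))).symm
theorem E6285 : n4815 = n2679 := ((D4815).symm.trans (sb E6131 F14428))
theorem F45004 : act 6 n3522 = n2678 := (sb E6131 F14429)
theorem F45005 : act 7 n3522 = n2677 := (sb E6131 (iv D3657))
theorem E6290 : n9389 = n5985 := ((((iv F23116)).symm.trans (sb E6138 (iv F35504)))).symm
theorem E6291 : n8397 = n4997 := (((iv F32001)).symm.trans (sb E6139 (iv D6844)))
theorem E6296 : n9364 = n9029 := ((((iv F34231)).symm.trans (sb E6145 (iv F35402)))).symm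
theorem E6297 : n9379 = n9037 := (((D9037).symm.trans (sb E6145 D9379))).symm
theorem F45006 : act 5 n6591 = n4993 := (sb E6145 (iv D6838))
theorem E6298 : n9380 = n8399 := ((((iv F32011)).symm.trans (sb E6145 D9380))).symm
theorem F45007 : act 8 n6591 = n5026 := (sb E6145 F26193)
theorem F45008 : act 2 n6879 = n9089 := (sb E6149 F41525)
theorem F45009 : act 5 n10430 = n9089 := (sb E6150 F41791)
theorem F45010 : act 8 n10430 = n9088 := (sb E6150 (iv D10717))
theorem F45011 : act 2 n6839 = n8432 := (sb E6151 F39853)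
theorem E6299 : n9381 = n8398 := ((D9381).symm.trans (sb E6151 (iv D10191)))
theorem F45012 : act 2 n10240 = n8694 := (sb E6152 F40500)
theorem F45013 : act 6 n10240 = n8537 := (sb E6152 F40502)
theorem F45014 : act 7 n10240 = n8536 := (sb E6152 (iv D10365))
theorem F45015 : act 4 n10162 = n9088 := (sb E6155 F41780)
theorem F45016 : act 2 n6840 = n8403 := (sb E6157 F39849)
theorem F45017 : act 2 n10196 = n9384 := (sb E6158 F43160)
theorem E6300 : n4811 = n878 := ((((iv D1190)).symm.trans (sb E6160 (iv F18721)))).symm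
theorem E6301 : n2578 = n1605 := ((((iv F6655)).symm.trans (sb E6160 (iv D3520)))).symm
theorem F45018 : act 5 n1896 = n1442 := (sb E6161 (iv D1969))
theorem F45019 : act 8 n1896 = n1452 := (sb E6161 F8072)
theorem E6304 : n9013 = n1613 := ((((iv D2194)).symm.trans (sb E6162 (iv F34162)))).symm
theorem E6305 : n4803 = n2964 := ((((iv F11830)).symm.trans (sb E6162 (iv D6576)))).symm
theorem F45020 : act 5 n3526 = n2681 := (sb E6163 (iv D3661))
theorem F45021 : act 8 n3526 = n2699 := (sb E6163 F14445)
theorem E6307 : n9020 = n876 := ((((iv D1189)).symm.trans (sb E6164 (iv F34192)))).symm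
theorem E6308 : n4806 = n1602 := ((((iv F6642)).symm.trans (sb E6164 (iv D6580)))).symm
theorem F45022 : act 4 n2181 = n2584 := (sb E6165 F13883)
theorem E6309 : n2970 = n2575 := ((D2970).symm.trans (sb E6165 (iv D3515)))
theorem E6310 : n9014 = n5511 := ((((iv F21338)).symm.trans (sb E6167 (iv D10609)))).symm
theorem E6311 : n9054 = n8363 := ((((iv F38043)).symm.trans (sb E6168 (iv D10666)))).symm
theorem F45023 : act 8 n6603 = n5029 := (sb E6169 F26247)
theorem F45024 : act 5 n6138 = n5005 := (sb E6170 F26249)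
theorem F45025 : act 1 n10107 = n9271 := (sb E6171 F41897)
theorem E6314 : n9111 = n8366 := (((F39528).symm.trans (sb E6171 (iv D10750)))).symm
theorem F45026 : act 4 n6643 = n8362 := (sb E6172 (iv D10178))
theorem F45027 : act 8 n6643 = n8630 := (sb E6172 F39797)
theorem F45028 : act 5 n10194 = n9382 := (sb E6174 F43143)
theorem F45029 : act 7 n10194 = n9433 := (sb E6174 F43145)
theorem F45030 : act 7 n10211 = n9435 := (sb E6176 F43221)
theorem E6317 : n2586 = n1444 := (((D1444).symm.trans (sb E6178 (iv D3532)))).symm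
theorem F45031 : act 6 n1895 = n1443 := (sb E6179 F8076)
theorem F45032 : act 7 n1895 = n1442 := (sb E6179 (iv D1970))
theorem E6320 : n4819 = n2683 := (((D2683).symm.trans (sb E6182 (iv D6599)))).symm
theorem E6321 : n5009 = n4488 := ((((iv F17581)).symm.trans (sb E6183 D5009))).symm
theorem F45033 : act 6 n3525 = n2682 := (sb E6183 F14449)
theorem F45034 : act 7 n3525 = n2681 := (sb E6183 (iv D3662))
theorem F45035 : act 4 n1968 = n2583 := (sb E6186 (iv D3527))
theorem F45036 : act 2 n6352 = n8449 := (sb E6189 F39931)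
theorem F45037 : act 3 n6137 = n5005 := (sb E6190 (iv D6854))
theorem E6324 : n9402 = n8407 := ((((iv F32047)).symm.trans (sb E6190 D9402))).symm
theorem F45038 : act 6 n6137 = n5006 := (sb E6190 F26252)
theorem F45039 : act 1 n10170 = n8566 := (sb E6192 F40134)
theorem F45040 : act 4 n10170 = n8451 := (sb E6192 F40135)
theorem F45041 : act 5 n10170 = n8449 := (sb E6192 (iv D10259))
theorem F45042 : act 6 n10255 = n8556 := (sb E6193 F40569)
theorem F45043 : act 7 n10255 = n8559 := (sb E6193 F40570)
theorem F45044 : act 3 n10192 = n9382 := (sb E6194 F43154)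
theorem F45045 : act 6 n10192 = n9385 := (sb E6194 F43155)
theorem F45046 : act 6 n10205 = n9408 := (sb E6195 F43245)
theorem F45047 : act 4 n10250 = n8559 := (sb E6231 (iv D10388))
theorem F45048 : act 6 n10250 = n8562 := (sb E6231 F40583)
theorem F45049 : act 4 n6754 = n8365 := (sb E6234 (iv D10180))
theorem F45050 : act 4 n10179 = n9238 := (sb E6235 F42517)
theorem F45051 : act 6 n10179 = n9235 := (sb E6235 (iv D10923))
theorem F45052 : act 4 n10173 = n8569 := (sb E6236 F40609)
theorem F45053 : act 6 n10173 = n8566 := (sb E6236 (iv D10398))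
theorem F45054 : act 2 n3663 = n4491 := (sb E6259 F23689)
theorem E6352 : n8406 = n5011 := (((D5011).symm.trans (sb E6259 (iv F32043)))).symm
theorem F45055 : act 2 n6857 = n8414 := (sb E6271 F39910)
theorem F45056 : act 2 n10213 = n9407 := (sb E6273 F43258)
theorem E6360 : n7532 = n1887 := ((((iv F7745)).symm.trans (sb E6275 F35529))).symm
theorem E6361 : n6842 = n3521 := (((D3521).symm.trans (sb E6276 (iv F26203)))).symm
theorem E6362 : n4034 = n3511 := ((((iv F13864)).symm.trans (sb E6276 F19429))).symm
theorem E6363 : n6830 = n6587 := ((((iv F25284)).symm.trans (sb E6277 (iv F26153)))).symm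
theorem E6364 : n6567 = n4028 := (((iv F25196)).symm.trans (sb E6277 F19404))
theorem F45057 : act 5 n4814 = n3651 := (sb E6277 (iv D4995))
theorem F45058 : act 8 n4814 = n3677 := (sb E6277 F19406)
theorem F45059 : act 4 n2959 = n3523 := (sb E6278 F18671)
theorem E6372 : n6843 = n6129 := ((((iv F23657)).symm.trans (sb E6283 (iv D9387)))).symm
theorem E6374 : n6831 = n6586 := ((((iv F25280)).symm.trans (sb E6284 (iv F26159)))).symm
theorem E6375 : n6588 = n3653 := ((D6588).symm.trans (sb E6284 F19409))
theorem F45060 : act 6 n4813 = n3652 := (sb E6284 F19410)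
theorem F45061 : act 7 n4813 = n3651 := (sb E6284 (iv D4996))
theorem F45062 : act 4 n2679 = n3522 := (sb E6285 (iv D4815))
theorem E6382 : n11099 = n8188 := ((((iv F31221)).symm.trans (sb E6290 (iv F43096)))).symm
theorem E6384 : n10183 = n6832 := ((((iv F26165)).symm.trans (sb E6291 (iv F39816)))).symm
theorem F45063 : act 2 n4997 = n6132 := (sb E6291 F32001)
theorem E6385 : n10188 = n6845 := (((D6845).symm.trans (sb E6291 (iv F39842)))).symm
theorem E6391 : n11085 = n10629 := (((D10629).symm.trans (sb E6296 (iv F43038)))).symm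
theorem E6392 : n11089 = n10630 := (((D10630).symm.trans (sb E6296 D11089))).symm
theorem F45064 : act 5 n9029 = n6828 := (sb E6296 (iv D9364))
theorem E6393 : n11090 = n10185 := ((((iv F39828)).symm.trans (sb E6296 D11090))).symm
theorem F45065 : act 8 n9029 = n6876 := (sb E6296 F35405)
theorem E6394 : n10591 = n7516 := (((iv F41311)).symm.trans (sb E6297 F35471))
theorem E6395 : n10642 = n10163 := ((D10642).symm.trans (sb E6297 (iv F39736)))
theorem F45066 : act 8 n9037 = n6879 := (sb E6297 F35473)
theorem F45067 : act 5 n8399 = n6839 := (sb E6298 F35475)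
theorem E6398 : n11091 = n10184 := ((((iv F39822)).symm.trans (sb E6299 (iv F43062)))).symm
theorem F45068 : act 3 n8398 = n6839 := (sb E6299 (iv D9381))
theorem E6399 : n11110 = n10189 := ((((iv F39846)).symm.trans (sb E6299 D11110))).symm
theorem F45069 : act 6 n8398 = n6840 := (sb E6299 F35478)
theorem E6400 : n6585 = n648 := ((((iv D878)).symm.trans (sb E6300 (iv F25277)))).symm
theorem E6401 : n3519 = n1180 := ((((iv F5000)).symm.trans (sb E6300 (iv D4811)))).symm
theorem F45070 : act 4 n1605 = n1896 := (sb E6301 F10370)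
theorem E6402 : n2184 = n1889 := ((D2184).symm.trans (sb E6301 (iv D2578)))
theorem E6407 : n6574 = n2176 := ((((iv F8840)).symm.trans (sb E6304 (iv D9013)))).symm
theorem F45071 : act 4 n2964 = n3526 := (sb E6305 F18686)
theorem E6408 : n4041 = n3513 := ((D4041).symm.trans (sb E6305 (iv D4803)))
theorem E6410 : n6579 = n1177 := ((((iv F4988)).symm.trans (sb E6307 (iv D9020)))).symm
theorem E6411 : n3514 = n2182 := (((D2182).symm.trans (sb E6308 (iv D4806)))).symm
theorem F45072 : act 7 n2575 = n2181 := (sb E6309 (iv D2970))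
theorem F45073 : act 3 n5511 = n6603 := (sb E6310 F34166)
theorem F45074 : act 2 n8363 = n6643 := (sb E6311 F34324)
theorem F45075 : act 5 n8363 = n6603 := (sb E6311 (iv D9054))
theorem E6415 : n10210 = n10171 := ((((iv F39770)).symm.trans (sb E6311 (iv F39940)))).symm
theorem E6416 : n10716 = n10165 := ((((iv F39741)).symm.trans (sb E6314 (iv F41786)))).symm
theorem F45076 : act 1 n8366 = n6754 := (sb E6314 F34527)
theorem F45077 : act 6 n8366 = n6643 := (sb E6314 (iv D9111))
theorem E6417 : n10262 = n10174 := ((((iv F39781)).symm.trans (sb E6314 (iv F40146)))).symm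
theorem F45078 : act 4 n1444 = n1895 := (sb E6317 (iv D2586))
theorem E6424 : n6597 = n3664 := (((D3664).symm.trans (sb E6320 D6597))).symm
theorem F45079 : act 4 n2683 = n3525 := (sb E6320 (iv D4819))
theorem E6425 : n6861 = n6135 := (((D6135).symm.trans (sb E6321 D6861))).symm
theorem F45080 : act 6 n4488 = n3663 := (sb E6321 F19461)
theorem E6427 : n10204 = n10168 := ((D10204).symm.trans (sb E6324 (iv F39754)))
theorem F45081 : act 6 n8407 = n6857 := (sb E6324 F35556)
theorem F45082 : act 2 n5011 = n6140 := (sb E6352 F32042)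
theorem E6454 : n10202 = n6864 := (((D6864).symm.trans (sb E6352 D10202))).symm
theorem E6459 : n5508 = n2574 := (((D2574).symm.trans (sb E6360 (iv D7532)))).symm
theorem E6460 : n9368 = n4812 := (((D4812).symm.trans (sb E6361 (iv F35418)))).symm
theorem E6461 : n5501 = n4798 := ((((iv F18661)).symm.trans (sb E6361 F26204))).symm
theorem E6462 : n4799 = n2960 := ((D4799).symm.trans (sb E6362 F15835))
theorem F45083 : act 7 n3511 = n2959 := (sb E6362 (iv D4034))
theorem E6463 : n8998 = n5489 := (((iv F34097)).symm.trans (sb E6363 F26155))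
theorem F45084 : act 5 n6587 = n4987 := (sb E6363 (iv D6830))
theorem F45085 : act 8 n6587 = n5025 := (sb E6363 F26157)
theorem F45086 : act 4 n4028 = n4814 := (sb E6364 F25196)
theorem E6467 : n9369 = n8394 := ((((iv F31987)).symm.trans (sb E6372 (iv F35425)))).symm
theorem E6468 : n9388 = n8396 := (((D8396).symm.trans (sb E6372 D9388))).symm
theorem F45087 : act 6 n6129 = n4997 := (sb E6372 F26209)
theorem E6469 : n9026 = n4989 := ((D9026).symm.trans (sb E6374 F26161))
theorem F45088 : act 6 n6586 = n4988 := (sb E6374 F26162)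
theorem F45089 : act 7 n6586 = n4987 := (sb E6374 (iv D6831))
theorem F45090 : act 4 n3653 = n4813 := (sb E6375 (iv D6588))
theorem E6473 : n9965 = n9370 := (((iv F38976)).symm.trans (sb E6382 (iv D11099)))
theorem E6474 : n11226 = n9371 := (((D9371).symm.trans (sb E6384 F44645))).symm
theorem F45091 : act 2 n6845 = n8401 := (sb E6385 F39841)
theorem E6475 : n11228 = n9391 := (((D9391).symm.trans (sb E6385 F44643))).symm
theorem F45092 : act 5 n10629 = n9362 := (sb E6391 (iv D11085))
theorem F45093 : act 8 n10629 = n9425 := (sb E6391 F43041)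
theorem F45094 : act 3 n10630 = n9872 := (sb E6392 F43054)
theorem F45095 : act 8 n10630 = n9429 := (sb E6392 F43056)
theorem F45096 : act 5 n10185 = n9365 := (sb E6393 F43059)
theorem F45097 : act 3 n7516 = n9037 := (sb E6394 F41311)
theorem F45098 : act 2 n10163 = n9088 := (sb E6395 F41523)
theorem F45099 : act 5 n10163 = n9037 := (sb E6395 (iv D10642))
theorem F45100 : act 3 n10184 = n9365 := (sb E6398 (iv D11091))
theorem F45101 : act 6 n10184 = n9366 := (sb E6398 F43063)
theorem F45102 : act 6 n10189 = n9384 := (sb E6399 F43151)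
theorem E6476 : n4810 = n869 := ((((iv F3774)).symm.trans (sb E6400 (iv D6585)))).symm
theorem E6477 : n2577 = n1606 := (((D1606).symm.trans (sb E6401 (iv D3519)))).symm
theorem F45103 : act 7 n1889 = n1605 := (sb E6402 (iv D2184))
theorem E6481 : n4802 = n2965 := (((D2965).symm.trans (sb E6407 (iv D6574)))).symm
theorem F45104 : act 7 n3513 = n2964 := (sb E6408 (iv D4041))
theorem E6482 : n4805 = n1603 := (((D1603).symm.trans (sb E6410 (iv D6579)))).symm
theorem E6483 : n2971 = n2576 := ((D2971).symm.trans (sb E6411 F13879))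
theorem F45105 : act 5 n2182 = n2575 := (sb E6411 (iv D3514))
theorem F45106 : act 2 n10171 = n8451 := (sb E6415 F39938)
theorem F45107 : act 5 n10171 = n8411 := (sb E6415 (iv D10210))
theorem F45108 : act 6 n10165 = n9088 := (sb E6416 (iv D10716))
theorem F45109 : act 1 n10174 = n8569 := (sb E6417 F40143)
theorem F45110 : act 3 n10174 = n9900 := (sb E6417 F40144)
theorem F45111 : act 6 n10174 = n8451 := (sb E6417 (iv D10262))
theorem E6488 : n8405 = n5012 := (((D5012).symm.trans (sb E6424 (iv F32038)))).symm
theorem F45112 : act 6 n6135 = n5011 := (sb E6425 F26274)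
theorem F45113 : act 3 n10168 = n8407 := (sb E6427 (iv D10204))
theorem F45114 : act 2 n6864 = n8413 := (sb E6454 F39905)
theorem E6494 : n4035 = n3512 := (((D3512).symm.trans (sb E6459 F21321))).symm
theorem E6495 : n7505 = n6565 := ((((iv F25187)).symm.trans (sb E6460 F35420))).symm
theorem E6496 : n6566 = n4029 := ((D6566).symm.trans (sb E6461 F21294))
theorem F45115 : act 7 n4798 = n4028 := (sb E6461 (iv D5501))
theorem F45116 : act 5 n2960 = n3511 := (sb E6462 (iv D4799))
theorem F45117 : act 4 n5489 = n6587 := (sb E6463 F34097)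
theorem E6502 : n11097 = n8185 := (((F31988).symm.trans (sb E6467 D11097))).symm
theorem E6503 : n11098 = n10182 := (((D10182).symm.trans (sb E6467 D11098))).symm
theorem F45118 : act 6 n8394 = n6832 := (sb E6467 F35426)
theorem E6504 : n10187 = n6846 := ((D10187).symm.trans (sb E6468 F35501))
theorem F45119 : act 6 n8396 = n6845 := (sb E6468 F35502)
theorem F45120 : act 4 n4989 = n6586 := (sb E6469 (iv D9026))
theorem F45121 : act 1 n9370 = n8188 := (sb E6473 F38976)
theorem E6510 : n11100 = n9488 := ((D11100).symm.trans (sb E6473 F44611))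
theorem E6511 : n11360 = n11093 := ((((iv F43071)).symm.trans (sb E6473 D11360))).symm
theorem E6512 : n11101 = n9489 := ((D11101).symm.trans (sb E6474 F43612))
theorem F45122 : act 2 n9391 = n9493 := (sb E6475 F43619)
theorem E6513 : n3518 = n1181 := (((D1181).symm.trans (sb E6476 (iv D4810)))).symm
theorem E6514 : n2185 = n1890 := ((D2185).symm.trans (sb E6477 F10365))
theorem F45123 : act 5 n1606 = n1889 := (sb E6477 (iv D2577))
theorem F45124 : act 5 n2965 = n3513 := (sb E6481 (iv D4802))
theorem E6519 : n3516 = n2183 := (((D2183).symm.trans (sb E6482 F18693))).symm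
theorem F45125 : act 3 n2576 = n2182 := (sb E6483 (iv D2971))
theorem F45126 : act 3 n5012 = n6135 := (sb E6488 (iv D8405))
theorem F45127 : act 3 n3512 = n2960 := (sb E6494 (iv D4035))
theorem E6528 : n4801 = n2961 := ((D4801).symm.trans (sb E6494 F15841))
theorem E6529 : n8997 = n5490 := ((D8997).symm.trans (sb E6495 F28673))
theorem F45128 : act 7 n6565 = n5489 := (sb E6495 (iv D7505))
theorem F45129 : act 5 n4029 = n4798 := (sb E6496 (iv D6566))
theorem F45130 : act 6 n8185 = n9370 := (sb E6502 F43088)
theorem F45131 : act 3 n10182 = n9373 := (sb E6503 F43092)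
theorem F45132 : act 6 n10182 = n9371 := (sb E6503 F43094)
theorem F45133 : act 3 n6846 = n8396 := (sb E6504 (iv D10187))
theorem F45134 : act 2 n9488 = n9371 := (sb E6510 F43101)
theorem F45135 : act 4 n9488 = n9370 := (sb E6510 (iv D11100))
theorem F45136 : act 1 n11093 = n9972 := (sb E6511 F44067)
theorem F45137 : act 4 n11093 = n11187 := (sb E6511 F44639)
theorem F45138 : act 6 n11093 = n9966 := (sb E6511 F44069)
theorem F45139 : act 1 n9489 = n9391 := (sb E6512 F43104)
theorem E6531 : n11222 = n9375 := (((iv F43592)).symm.trans (sb E6512 F43105))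
theorem F45140 : act 5 n9489 = n9371 := (sb E6512 (iv D11101))
theorem E6532 : n2579 = n1607 := (((D1607).symm.trans (sb E6513 F13898))).symm
theorem F45141 : act 3 n1890 = n1606 := (sb E6514 (iv D2185))
theorem F45142 : act 6 n2183 = n2576 := (sb E6519 (iv D3516))
theorem F45143 : act 6 n2961 = n3512 := (sb E6528 (iv D4801))
theorem F45144 : act 5 n5490 = n6565 := (sb E6529 (iv D8997))
theorem E6536 : n11104 = n9485 := (((iv F43121)).symm.trans (sb E6531 (iv D11222)))
theorem F45145 : act 3 n9375 = n9489 := (sb E6531 F43592)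
theorem E6537 : n2186 = n1891 := ((D2186).symm.trans (sb E6532 F10373))
theorem F45146 : act 6 n1607 = n1890 := (sb E6532 (iv D2579))
theorem F45147 : act 2 n9485 = n9375 := (sb E6536 F43121)
theorem E6539 : n11223 = n9377 := ((D11223).symm.trans (sb E6536 F43122))
theorem E6540 : n11221 = n9374 := (((iv F43589)).symm.trans (sb E6536 (iv D11104)))
theorem E6541 : n11219 = n9874 := (((iv F43579)).symm.trans (sb E6536 F43124))
theorem F45148 : act 2 n1891 = n1607 := (sb E6537 (iv D2186))
theorem E6542 : n11105 = n9486 := (((iv F43129)).symm.trans (sb E6539 F43597))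
theorem F45149 : act 4 n9377 = n9485 := (sb E6539 (iv D11223))
theorem E6543 : n11103 = n9484 := ((D11103).symm.trans (sb E6540 (iv D11221)))
theorem F45150 : act 5 n9374 = n9485 := (sb E6540 F43589)
theorem E6544 : n11242 = n9482 := ((D11242).symm.trans (sb E6541 (iv D11219)))
theorem F45151 : act 7 n9874 = n9485 := (sb E6541 F43579)
theorem F45152 : act 3 n9486 = n9377 := (sb E6542 F43129)
theorem E6545 : n11224 = n9376 := ((D11224).symm.trans (sb E6542 (iv D11105)))
theorem F45153 : act 3 n9484 = n9374 := (sb E6543 (iv D11103))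
theorem F45154 : act 3 n9482 = n9874 := (sb E6544 (iv D11242))
theorem F45155 : act 5 n9376 = n9486 := (sb E6545 (iv D11224))
theorem F45156 : act 3 n11150 = n11181 := d15_4 F45154 F38685 (iv F35659) (iv F43324) F43441
theorem F45157 : act 3 n10495 = n11217 := d22_3 F43570 F45154 (iv F40911)
theorem F45158 : act 3 n11240 = n11218 := d25_3 F43575 F45154 (iv F43674)
theorem F45159 : act 7 n11184 = n11150 := d24_0 F45156 (iv D11181) F35739 D9453 D11184
theorem F45160 : act 2 n11156 = n11184 := d19_3 F45159 F43324 D11156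
theorem F45161 : act 4 n11151 = n11184 := d28_3 F45159 (iv D11150) D11151
theorem F45162 : act 3 n11185 = n11151 := d21_5 F45161 (iv D11184) F35750 D9454 D11185
theorem F45163 : act 5 n11152 = n11185 := d22_0 F45162 F43328 D11152
theorem F45164 : act 3 n11188 = n11156 := d15_0 F45160 (iv D11184) F35749 D9457 D11188
theorem F45165 : act 1 n11115 = n11188 := d9_3 F45164 F43345 (iv F43167)
theorem F45166 : act 2 n11198 = n11115 := d8_0 F45165 (iv D11188) F35765 D9466 D11198
theorem F45167 : act 5 n11188 = n11094 := d11_2 D11115 F45165 F43073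
theorem F45168 : act 2 n11094 = n11187 := d17_1 F45167 F43463 D11188
theorem F45169 : act 3 n11102 = n11220 := d23_3 F43585 F45153 (iv F43113)
theorem F45170 : act 4 n10926 = n11435 := d29_3 F44380 F45050 D10926
theorem F45171 : act 4 n11461 = n10972 := d28_3 (iv D10972) F44984 D11461
theorem F45172 : act 2 n11488 = n10973 := d36_61 (iv F4452) D1413 F5933 (iv F7925) F44820 F10448 F7817 F5874 F4417 F3382 F2564 F1988 F1990 F1989 F1513 (iv F1428) (iv F38441) (iv F1750) F1751 (iv F2278) F2277 (iv D499) (iv D370) (iv D274) F997 (iv F1059) D290 F1394 F1065 (iv D161) (iv F800) F799 D218 F1066 D231 F1123 F865 F864 (iv F1123) F1124 D234 F1136 (iv F1504) (iv F1866) D543 F2470 D740 (iv F4257) (iv F5679) (iv F7566) D2512 F10133 D2518 F10149 F38341 D4411 D6027 (iv F31462) D10059 F39341 (iv F44560) (iv D10973) (iv F40623) (iv D10402) F32651 F29855 F22116 F16430 (iv F16340) F16341 F12196 (iv D3053) (iv D2244) (iv D1650) D1651 F6855 (iv F9127) F9126 F6858 F5191 (iv F4100) F4099 (iv F5444) (iv D1286) F4094 (iv D717) (iv F3185) F3186 D767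
theorem F45173 : act 4 n10973 = n11487 := d16_2 D11488 F45172 (iv D11487)
theorem F45174 : act 5 n10974 = n11488 := d17_0 F45172 F42666 D10974
theorem F45175 : act 1 n11410 = n10974 := d11_3 F45174 F44560 (iv F44274)
theorem F45176 : act 2 n10485 = n11405 := d18_1 F44653 F44253 (iv F44258)
theorem F45177 : act 5 n11405 = n10486 := d17_2 (iv F40870) F45176 (iv D10486)
theorem F45178 : act 1 n10486 = n11411 := d11_1 F45177 F44278 (iv F44250)
theorem F45179 : act 3 n11053 = n11382 := d15_2 F44593 (iv F42948) (iv D11382) (iv D9979) (iv F39002)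
theorem F45180 : act 6 n11382 = n11054 := d23_2 (iv F42950) F45179 (iv D11054)
theorem F45181 : act 2 n11054 = n11380 := d18_1 F45180 F44153 D11382
theorem F45182 : act 4 n11054 = n11455 := d27_1 F45180 F44450 (iv F44160)
theorem F45183 : act 5 n11380 = n11055 := d17_2 (iv F42952) F45181 (iv D11055)
theorem F45184 : act 1 n10867 = n11409 := d8_5 (iv D11409) F44581 (iv D9361) (iv F34840) D10867
theorem F45185 : act 5 n11412 = n10867 := d11_0 F45184 F44267 D11412
theorem F45186 : act 2 n10866 = n11412 := d17_3 F45185 (iv D10867) (iv F42322)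
theorem F45187 : act 4 n11490 = n10866 := d16_0 F45186 F44281 (iv F44568)
theorem F45188 : act 6 n11406 = n10866 := d18_0 F45186 F44282 (iv F44254)
theorem F45189 : act 3 n10865 = n11406 := d23_3 F45188 (iv D10866) (iv F42320)
def n11491 : Q := act 8 n10054
theorem D11491 : act 8 n10054 = n11491 := rfl
theorem F45190 : act 2 n11491 = n10055 := d20_1 D11491 (iv D10055) D10054
theorem F45191 : act 4 n11491 = n10485 := d29_1 D11491 F40871 (iv F44575)
theorem F45192 : act 6 n11491 = n10057 := d34_1 D11491 (iv D10057) (iv F39325)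
def n11492 : Q := act 7 n10055
theorem D11492 : act 7 n10055 = n11492 := rfl
theorem F45193 : act 1 n11492 = n10063 := d13_1 D11492 (iv D10063) (iv F39327)
theorem F45194 : act 3 n11492 = n10348 := d24_1 D11492 (iv D10348) F32484 F38522 (iv F39328)
theorem F45195 : act 6 n11492 = n10058 := d33_1 D11492 (iv D10058) (iv F39329)
theorem F45196 : act 8 n11492 = n11492 := d35_2 D10055 D11492 (iv D11492) (iv D10055) F31452
def n11493 : Q := act 0 n10056
theorem D11493 : act 0 n10056 = n11493 := rfl
theorem F45197 : act 2 n11493 = n10064 := d1_2 (iv F39330) D11493 (iv D10064)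
theorem F45198 : act 5 n11493 = n10344 := d4_2 (iv F39331) D11493 (iv D10344)
theorem F45199 : act 7 n11493 = n11493 := d6_2 F39332 D11493 (iv D11493)
def n11494 : Q := act 8 n10056
theorem D11494 : act 8 n10056 = n11494 := rfl
theorem F45200 : act 1 n11494 = n10057 := d14_1 D11494 (iv D10057) D10056
theorem F45201 : act 2 n11494 = n10065 := d20_1 D11494 (iv D10065) (iv F39330)
theorem F45202 : act 5 n11494 = n10345 := d32_1 D11494 (iv D10345) (iv F39331)
def n11495 : Q := act 7 n10057
theorem D11495 : act 7 n10057 = n11495 := rfl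
theorem F45203 : act 2 n11495 = n10058 := d19_1 D11495 (iv D10058) (iv F39333)
theorem F45204 : act 5 n11495 = n10346 := d31_1 D11495 (iv D10346) (iv F39334)
theorem F45205 : act 8 n11495 = n11495 := d35_2 D10057 D11495 (iv D11495) (iv D10057) F31458
def n11496 : Q := act 8 n10059
theorem D11496 : act 8 n10059 = n11496 := rfl
theorem F45206 : act 0 n11496 = n11413 := d7_1 D11496 (iv D11413) (iv F39339)
theorem F45207 : act 2 n11496 = n10220 := d20_1 D11496 (iv D10220) (iv F39340)
theorem F45208 : act 3 n11496 = n11496 := d25_1 D11496 (iv D11496) F39341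
theorem F45209 : act 4 n11496 = n10060 := d29_1 D11496 (iv D10060) D10059
theorem F45210 : act 6 n11496 = n10222 := d34_1 D11496 (iv D10222) (iv F39342)
def n11497 : Q := act 7 n10060
theorem D11497 : act 7 n10060 = n11497 := rfl
theorem F45211 : act 2 n11497 = n10270 := d19_1 D11497 (iv D10270) (iv F39344)
theorem F45212 : act 3 n11497 = n10066 := d24_1 D11497 (iv D10066) F31479 (iv F38415) (iv F39345)
theorem F45213 : act 5 n11497 = n10063 := d31_1 D11497 (iv D10063) (iv F39346)
theorem F45214 : act 6 n11497 = n10273 := d33_1 D11497 (iv D10273) (iv F39347)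
theorem F45215 : act 8 n11497 = n11497 := d35_2 D10060 D11497 (iv D11497) (iv D10060) F31464
def n11498 : Q := act 0 n10061
theorem D11498 : act 0 n10061 = n11498 := rfl
theorem F45216 : act 1 n11498 = n11453 := d0_2 D10061 D11498 F44440 F39316 (iv F38400)
theorem F45217 : act 3 n11498 = n10138 := d2_2 (iv F39348) D11498 (iv D10138)
theorem F45218 : act 5 n11498 = n10245 := d4_2 (iv F39349) D11498 F40085
theorem F45219 : act 6 n11498 = n10064 := d5_2 (iv F39350) D11498 (iv D10064)
theorem F45220 : act 7 n11498 = n11498 := d6_2 F39351 D11498 (iv D11498)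
def n11499 : Q := act 8 n10061
theorem D11499 : act 8 n10061 = n11499 := rfl
theorem F45221 : act 1 n11499 = n10062 := d14_1 D11499 (iv D10062) D10061
theorem F45222 : act 3 n11499 = n10139 := d25_1 D11499 (iv D10139) (iv F39348)
theorem F45223 : act 5 n11499 = n10266 := d32_1 D11499 (iv D10266) (iv F39349)
theorem F45224 : act 6 n11499 = n10065 := d34_1 D11499 (iv D10065) (iv F39350)
def n11500 : Q := act 7 n10062
theorem D11500 : act 7 n10062 = n11500 := rfl
theorem F45225 : act 0 n11500 = n11497 := d6_1 D11500 (iv D11497) (iv F39352)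
theorem F45226 : act 2 n11500 = n10063 := d19_1 D11500 (iv D10063) (iv F39353)
theorem F45227 : act 3 n11500 = n10273 := d24_1 D11500 (iv D10273) F38471 (iv F38404) (iv F39354)
theorem F45228 : act 5 n11500 = n10270 := d31_1 D11500 (iv D10270) (iv F39355)
theorem F45229 : act 6 n11500 = n10066 := d33_1 D11500 (iv D10066) (iv F39356)
theorem F45230 : act 8 n11500 = n11500 := d35_2 D10062 D11500 (iv D11500) (iv D10062) F31472
def n11501 : Q := act 8 n10064
theorem D11501 : act 8 n10064 = n11501 := rfl
theorem F45231 : act 0 n11501 = n10065 := d7_1 D11501 (iv D10065) D10064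
theorem F45232 : act 3 n11501 = n10140 := d25_1 D11501 (iv D10140) (iv F39360)
theorem F45233 : act 5 n11501 = n10347 := d32_1 D11501 (iv D10347) (iv F39361)
def n11502 : Q := act 7 n10065
theorem D11502 : act 7 n10065 = n11502 := rfl
theorem F45234 : act 1 n11502 = n10066 := d13_1 D11502 (iv D10066) (iv F39363)
theorem F45235 : act 5 n11502 = n10348 := d31_1 D11502 (iv D10348) (iv F39365)
theorem F45236 : act 8 n11502 = n11502 := d35_2 D10065 D11502 (iv D11502) (iv D10065) F31477
def n11503 : Q := act 6 n10067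
theorem D11503 : act 6 n10067 = n11503 := rfl
theorem F45237 : act 1 n11503 = n10141 := d12_1 D11503 (iv D10141) (iv F39369)
theorem F45238 : act 2 n11503 = n10068 := d18_1 D11503 (iv D10068) D10067
theorem F45239 : act 4 n11503 = n11503 := d27_1 D11503 (iv D11503) F39370
theorem F45240 : act 8 n11503 = n10506 := d34_2 (iv F39372) D11503 F40953
def n11504 : Q := act 7 n10067
theorem D11504 : act 7 n10067 = n11504 := rfl
theorem F45241 : act 1 n11504 = n10142 := d13_1 D11504 (iv D10142) (iv F39369)
theorem F45242 : act 2 n11504 = n10069 := d19_1 D11504 (iv D10069) D10067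
theorem F45243 : act 4 n11504 = n11504 := d28_1 D11504 (iv D11504) F39370
theorem F45244 : act 5 n11504 = n10405 := d31_1 D11504 (iv D10405) (iv F39371)
def n11505 : Q := act 5 n10068
theorem D11505 : act 5 n10068 = n11505 := rfl
theorem F45245 : act 1 n11505 = n10084 := d11_1 D11505 (iv D10084) (iv F39373)
theorem F45246 : act 3 n11505 = n10070 := d22_1 D11505 (iv D10070) (iv F39374)
theorem F45247 : act 6 n11505 = n10406 := d30_2 D10068 D11505 (iv D10406) (iv D8589) (iv F31486)
theorem F45248 : act 8 n11505 = n10164 := d32_2 (iv F39376) D11505 F39740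
def n11506 : Q := act 7 n10068
theorem D11506 : act 7 n10068 = n11506 := rfl
theorem F45249 : act 1 n11506 = n10085 := d13_1 D11506 (iv D10085) (iv F39373)
theorem F45250 : act 4 n11506 = n11506 := d28_1 D11506 (iv D11506) F39375
theorem F45251 : act 6 n11506 = n10069 := d33_1 D11506 (iv D10069) D10068
def n11507 : Q := act 3 n10069
theorem D11507 : act 3 n10069 = n11507 := rfl
theorem F45252 : act 1 n11507 = n10086 := d9_1 D11507 (iv D10086) (iv F39377)
theorem F45253 : act 5 n11507 = n10408 := d22_2 (iv F39379) D11507 (iv D10408)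
theorem F45254 : act 7 n11507 = n10072 := d24_2 D10069 D11507 (iv D10072) (iv D8259) D8257
def n11508 : Q := act 8 n10069
theorem D11508 : act 8 n10069 = n11508 := rfl
theorem F45255 : act 1 n11508 = n10087 := d14_1 D11508 (iv D10087) (iv F39377)
theorem F45256 : act 4 n11508 = n11508 := d29_1 D11508 (iv D11508) F39378
theorem F45257 : act 5 n11508 = n10409 := d32_1 D11508 (iv D10409) (iv F39379)
theorem F45258 : act 7 n11508 = n11286 := d35_1 D11508 (iv D11286) (iv D9906) (iv F31487) D10069
def n11509 : Q := act 7 n10070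
theorem D11509 : act 7 n10070 = n11509 := rfl
theorem F45259 : act 1 n11509 = n10088 := d13_1 D11509 (iv D10088) (iv F39380)
theorem F45260 : act 4 n11509 = n11509 := d28_1 D11509 (iv D11509) F39381
theorem F45261 : act 5 n11509 = n10071 := d31_1 D11509 (iv D10071) D10070
theorem F45262 : act 6 n11509 = n10381 := d33_1 D11509 F40564 (iv F39382)
def n11510 : Q := act 3 n10071
theorem D11510 : act 3 n10071 = n11510 := rfl
theorem F45263 : act 1 n11510 = n10089 := d9_1 D11510 (iv D10089) (iv F39384)
theorem F45264 : act 6 n11510 = n10072 := d23_2 (iv F39386) D11510 (iv D10072)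
def n11511 : Q := act 8 n10071
theorem D11511 : act 8 n10071 = n11511 := rfl
theorem F45265 : act 1 n11511 = n10090 := d14_1 D11511 (iv D10090) (iv F39384)
theorem F45266 : act 4 n11511 = n10075 := d29_1 D11511 (iv D10075) (iv F39385)
theorem F45267 : act 6 n11511 = n10073 := d34_1 D11511 (iv D10073) (iv F39386)
theorem F45268 : act 7 n11511 = n10455 := d35_1 D11511 (iv D10455) F32842 F38306 D10071
def n11512 : Q := act 2 n10072
theorem D11512 : act 2 n10072 = n11512 := rfl
theorem F45269 : act 5 n11512 = n10412 := d17_2 (iv F39388) D11512 (iv D10412)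
def n11513 : Q := act 4 n10072
theorem D11513 : act 4 n10072 = n11513 := rfl
theorem F45270 : act 1 n11513 = n10092 := d10_1 D11513 (iv D10092) (iv F39387)
theorem F45271 : act 3 n11513 = n10077 := d21_1 D11513 (iv D10077) (iv D8261) (iv F31492) D10072
def n11514 : Q := act 8 n10072
theorem D11514 : act 8 n10072 = n11514 := rfl
theorem F45272 : act 1 n11514 = n10093 := d14_1 D11514 (iv D10093) (iv F39387)
theorem F45273 : act 3 n11514 = n10073 := d25_1 D11514 (iv D10073) D10072
theorem F45274 : act 5 n11514 = n10414 := d32_1 D11514 (iv D10414) (iv F39388)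
def n11515 : Q := act 2 n10074
theorem D11515 : act 2 n10074 = n11515 := rfl
theorem F45275 : act 1 n11515 = n11515 := d8_1 D11515 (iv D11515) F39393 F31539 (iv F39393)
theorem F45276 : act 5 n11515 = n11515 := d17_2 F39394 D11515 (iv D11515)
theorem F45277 : act 6 n11515 = n10076 := d18_2 (iv F39395) D11515 (iv D10076)
theorem F45278 : act 7 n11515 = n11515 := d19_2 F39396 D11515 (iv D11515)
def n11516 : Q := act 4 n10074
theorem D11516 : act 4 n10074 = n11516 := rfl
theorem F45279 : act 1 n11516 = n10094 := d10_1 D11516 (iv D10094) (iv F39393)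
theorem F45280 : act 6 n11516 = n10077 := d27_2 (iv F39395) D11516 (iv D10077)
theorem F45281 : act 7 n11516 = n11516 := d28_2 F39396 D11516 (iv D11516)
def n11517 : Q := act 8 n10074
theorem D11517 : act 8 n10074 = n11517 := rfl
theorem F45282 : act 1 n11517 = n10095 := d14_1 D11517 (iv D10095) (iv F39393)
theorem F45283 : act 3 n11517 = n10075 := d25_1 D11517 (iv D10075) D10074
theorem F45284 : act 5 n11517 = n11517 := d32_1 D11517 (iv D11517) F39394
theorem F45285 : act 6 n11517 = n10078 := d34_1 D11517 (iv D10078) (iv F39395)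
def n11518 : Q := act 4 n10076
theorem D11518 : act 4 n10076 = n11518 := rfl
theorem F45286 : act 1 n11518 = n11518 := d10_1 D11518 (iv D11518) F39401
theorem F45287 : act 2 n11518 = n10077 := d16_1 D11518 (iv D10077) D10076
theorem F45288 : act 7 n11518 = n11518 := d28_2 F39403 D11518 (iv D11518)
def n11519 : Q := act 8 n10076
theorem D11519 : act 8 n10076 = n11519 := rfl
theorem F45289 : act 1 n11519 = n11519 := d14_1 D11519 (iv D11519) F39401
theorem F45290 : act 2 n11519 = n10078 := d20_1 D11519 (iv D10078) D10076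
theorem F45291 : act 5 n11519 = n10080 := d32_1 D11519 (iv D10080) (iv F39402)
def n11520 : Q := act 5 n10077
theorem D11520 : act 5 n10077 = n11520 := rfl
theorem F45292 : act 1 n11520 = n10096 := d11_1 D11520 (iv D10096) (iv F39404)
theorem F45293 : act 4 n11520 = n10081 := d26_1 D11520 (iv D10081) (iv D8264) (iv F31498) D10077
theorem F45294 : act 7 n11520 = n11520 := d31_2 F39405 D11520 (iv D11520)
def n11521 : Q := act 8 n10077
theorem D11521 : act 8 n10077 = n11521 := rfl
theorem F45295 : act 1 n11521 = n10097 := d14_1 D11521 (iv D10097) (iv F39404)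
theorem F45296 : act 4 n11521 = n10078 := d29_1 D11521 (iv D10078) D10077
def n11522 : Q := act 7 n10078
theorem D11522 : act 7 n10078 = n11522 := rfl
theorem F45297 : act 1 n11522 = n10098 := d13_1 D11522 (iv D10098) (iv F39406)
theorem F45298 : act 3 n11522 = n11294 := d24_1 D11522 (iv D11294) F38801 (iv F31502) (iv F39407)
theorem F45299 : act 5 n11522 = n10083 := d31_1 D11522 (iv D10083) (iv F39408)
theorem F45300 : act 8 n11522 = n11522 := d35_2 D10078 D11522 (iv D11522) (iv D10078) F31499
def n11523 : Q := act 3 n10079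
theorem D11523 : act 3 n10079 = n11523 := rfl
theorem F45301 : act 1 n11523 = n11523 := d9_1 D11523 (iv D11523) F39409
theorem F45302 : act 2 n11523 = n10423 := d15_1 D11523 (iv D10423) F32753 (iv F31507) (iv F39410)
theorem F45303 : act 6 n11523 = n11523 := d23_2 F39411 D11523 (iv D11523)
def n11524 : Q := act 5 n10079
theorem D11524 : act 5 n10079 = n11524 := rfl
theorem F45304 : act 1 n11524 = n11524 := d11_1 D11524 (iv D11524) F39409
theorem F45305 : act 2 n11524 = n10081 := d17_1 D11524 (iv D10081) (iv F39410)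
theorem F45306 : act 7 n11524 = n11524 := d31_2 F39412 D11524 (iv D11524)
def n11525 : Q := act 8 n10079
theorem D11525 : act 8 n10079 = n11525 := rfl
theorem F45307 : act 1 n11525 = n11525 := d14_1 D11525 (iv D11525) F39409
theorem F45308 : act 2 n11525 = n10082 := d20_1 D11525 (iv D10082) (iv F39410)
theorem F45309 : act 4 n11525 = n10080 := d29_1 D11525 (iv D10080) D10079
theorem F45310 : act 6 n11525 = n11525 := d34_1 D11525 (iv D11525) F39411
def n11526 : Q := act 7 n10080
theorem D11526 : act 7 n10080 = n11526 := rfl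
theorem F45311 : act 1 n11526 = n11526 := d13_1 D11526 (iv D11526) F39413
theorem F45312 : act 2 n11526 = n10083 := d19_1 D11526 (iv D10083) (iv F39414)
theorem F45313 : act 6 n11526 = n11526 := d33_1 D11526 (iv D11526) F39415
theorem F45314 : act 8 n11526 = n11526 := d35_2 D10080 D11526 (iv D11526) (iv D10080) F31505
def n11527 : Q := act 6 n10081
theorem D11527 : act 6 n10081 = n11527 := rfl
theorem F45315 : act 1 n11527 = n10099 := d12_1 D11527 (iv D10099) (iv F39416)
theorem F45316 : act 3 n11527 = n10427 := d23_1 D11527 (iv D10427) (iv F39417)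
theorem F45317 : act 5 n11527 = n11527 := d30_1 D11527 (iv D11527) (iv D10081) F31508 D10081
theorem F45318 : act 7 n11527 = n11527 := d33_2 F39418 D11527 (iv D11527)
def n11528 : Q := act 8 n10081
theorem D11528 : act 8 n10081 = n11528 := rfl
theorem F45319 : act 1 n11528 = n10100 := d14_1 D11528 (iv D10100) (iv F39416)
theorem F45320 : act 3 n11528 = n10428 := d25_1 D11528 (iv D10428) (iv F39417)
theorem F45321 : act 5 n11528 = n10082 := d32_1 D11528 (iv D10082) D10081
def n11529 : Q := act 7 n10082
theorem D11529 : act 7 n10082 = n11529 := rfl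
theorem F45322 : act 1 n11529 = n10101 := d13_1 D11529 (iv D10101) (iv F39419)
theorem F45323 : act 4 n11529 = n10083 := d28_1 D11529 (iv D10083) (iv F39421)
theorem F45324 : act 6 n11529 = n11529 := d33_1 D11529 (iv D11529) F39422
theorem F45325 : act 8 n11529 = n11529 := d35_2 D10082 D11529 (iv D11529) (iv D10082) F31509
def n11530 : Q := act 4 n10084
theorem D11530 : act 4 n10084 = n11530 := rfl
theorem F45326 : act 0 n11530 = n10107 := d3_1 D11530 (iv D10107) (iv F39427)
theorem F45327 : act 2 n11530 = n10155 := d16_1 D11530 (iv D10155) (iv F39428)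
theorem F45328 : act 3 n11530 = n11530 := d21_1 D11530 (iv D11530) F39429 F31524 (iv F39429)
theorem F45329 : act 5 n11530 = n11530 := d26_2 D10084 D11530 (iv D11530) (iv D10084) F31516
theorem F45330 : act 6 n11530 = n10430 := d27_2 (iv F39430) D11530 (iv D10430)
theorem F45331 : act 8 n11530 = n10165 := d29_2 (iv F39431) D11530 (iv D10165)
def n11531 : Q := act 7 n10084
theorem D11531 : act 7 n10084 = n11531 := rfl
theorem F45332 : act 0 n11531 = n10108 := d6_1 D11531 (iv D10108) (iv F39427)
theorem F45333 : act 2 n11531 = n10156 := d19_1 D11531 (iv D10156) (iv F39428)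
theorem F45334 : act 5 n11531 = n10085 := d31_1 D11531 (iv D10085) D10084
theorem F45335 : act 6 n11531 = n10431 := d33_1 D11531 (iv D10431) (iv F39430)
def n11532 : Q := act 3 n10085
theorem D11532 : act 3 n10085 = n11532 := rfl
theorem F45336 : act 0 n11532 = n10109 := d2_1 D11532 (iv D10109) (iv F39432)
theorem F45337 : act 6 n11532 = n10086 := d23_2 (iv F39435) D11532 (iv D10086)
theorem F45338 : act 7 n11532 = n10089 := d24_2 D10085 D11532 (iv D10089) (iv D8269) (iv F31515)
def n11533 : Q := act 8 n10085
theorem D11533 : act 8 n10085 = n11533 := rfl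
theorem F45339 : act 0 n11533 = n10110 := d7_1 D11533 (iv D10110) (iv F39432)
theorem F45340 : act 2 n11533 = n10158 := d20_1 D11533 (iv D10158) (iv F39433)
theorem F45341 : act 4 n11533 = n11533 := d29_1 D11533 (iv D11533) F39434
theorem F45342 : act 6 n11533 = n10087 := d34_1 D11533 (iv D10087) (iv F39435)
theorem F45343 : act 7 n11533 = n10508 := d35_1 D11533 (iv D10508) F33346 F38185 D10085
def n11534 : Q := act 2 n10086
theorem D11534 : act 2 n10086 = n11534 := rfl
theorem F45344 : act 0 n11534 = n10111 := d1_1 D11534 (iv D10111) (iv F39436)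
theorem F45345 : act 3 n11534 = n10159 := d15_2 D10086 D11534 (iv D10159) (iv D8334) (iv F31519)
theorem F45346 : act 5 n11534 = n10434 := d17_2 (iv F39437) D11534 (iv D10434)
theorem F45347 : act 7 n11534 = n10091 := d19_2 (iv F39438) D11534 (iv D10091)
def n11535 : Q := act 4 n10086
theorem D11535 : act 4 n10086 = n11535 := rfl
theorem F45348 : act 0 n11535 = n10112 := d3_1 D11535 (iv D10112) (iv F39436)
theorem F45349 : act 3 n11535 = n11535 := d21_1 D11535 (iv D11535) (iv D10086) F31520 D10086
theorem F45350 : act 7 n11535 = n10092 := d28_2 (iv F39438) D11535 (iv D10092)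
def n11536 : Q := act 8 n10086
theorem D11536 : act 8 n10086 = n11536 := rfl
theorem F45351 : act 0 n11536 = n10113 := d7_1 D11536 (iv D10113) (iv F39436)
theorem F45352 : act 3 n11536 = n10087 := d25_1 D11536 (iv D10087) D10086
theorem F45353 : act 5 n11536 = n10436 := d32_1 D11536 (iv D10436) (iv F39437)
def n11537 : Q := act 3 n10088
theorem D11537 : act 3 n10088 = n11537 := rfl
theorem F45354 : act 0 n11537 = n10114 := d2_1 D11537 (iv D10114) (iv F39444)
theorem F45355 : act 2 n11537 = n10368 := d15_1 D11537 (iv D10368) F32538 (iv F38110) (iv F39445)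
theorem F45356 : act 5 n11537 = n10089 := d22_2 (iv F39447) D11537 (iv D10089)
theorem F45357 : act 6 n11537 = n10370 := d23_2 (iv F39448) D11537 F40519
def n11538 : Q := act 8 n10088
theorem D11538 : act 8 n10088 = n11538 := rfl
theorem F45358 : act 0 n11538 = n10115 := d7_1 D11538 (iv D10115) (iv F39444)
theorem F45359 : act 2 n11538 = n10102 := d20_1 D11538 (iv D10102) (iv F39445)
theorem F45360 : act 4 n11538 = n11538 := d29_1 D11538 (iv D11538) F39446
theorem F45361 : act 5 n11538 = n10090 := d32_1 D11538 (iv D10090) (iv F39447)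
theorem F45362 : act 6 n11538 = n10382 := d34_1 D11538 (iv D10382) (iv F39448)
theorem F45363 : act 7 n11538 = n10106 := d35_1 D11538 (iv D10106) F31584 F38182 D10088
def n11539 : Q := act 2 n10089
theorem D11539 : act 2 n10089 = n11539 := rfl
theorem F45364 : act 0 n11539 = n10116 := d1_1 D11539 (iv D10116) (iv F39449)
theorem F45365 : act 3 n11539 = n10103 := d15_2 D10089 D11539 (iv D10103) (iv D8280) (iv F31528)
theorem F45366 : act 5 n11539 = n10368 := d17_2 F45356 D11539 (iv F45355)
theorem F45367 : act 6 n11539 = n10091 := d18_2 (iv F39450) D11539 (iv D10091)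
def n11540 : Q := act 4 n10089
theorem D11540 : act 4 n10089 = n11540 := rfl
theorem F45368 : act 0 n11540 = n10117 := d3_1 D11540 (iv D10117) (iv F39449)
theorem F45369 : act 3 n11540 = n10094 := d21_1 D11540 (iv D10094) (iv D8272) (iv F31529) D10089
theorem F45370 : act 6 n11540 = n10092 := d27_2 (iv F39450) D11540 (iv D10092)
def n11541 : Q := act 8 n10089
theorem D11541 : act 8 n10089 = n11541 := rfl
theorem F45371 : act 0 n11541 = n10118 := d7_1 D11541 (iv D10118) (iv F39449)
theorem F45372 : act 3 n11541 = n10090 := d25_1 D11541 (iv D10090) D10089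
theorem F45373 : act 6 n11541 = n10093 := d34_1 D11541 (iv D10093) (iv F39450)
def n11542 : Q := act 1 n10091
theorem D11542 : act 1 n10091 = n11542 := rfl
theorem F45374 : act 3 n11542 = n10105 := d9_2 (iv F39457) D11542 (iv D10105)
theorem F45375 : act 5 n11542 = n10439 := d11_2 (iv F39458) D11542 (iv D10439)
def n11543 : Q := act 4 n10091
theorem D11543 : act 4 n10091 = n11543 := rfl
theorem F45376 : act 0 n11543 = n10120 := d3_1 D11543 (iv D10120) (iv F39456)
theorem F45377 : act 2 n11543 = n10092 := d16_1 D11543 (iv D10092) D10091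
theorem F45378 : act 3 n11543 = n11543 := d21_1 D11543 (iv D11543) F39457 F31582 (iv F39457)
def n11544 : Q := act 8 n10091
theorem D11544 : act 8 n10091 = n11544 := rfl
theorem F45379 : act 0 n11544 = n10121 := d7_1 D11544 (iv D10121) (iv F39456)
theorem F45380 : act 2 n11544 = n10093 := d20_1 D11544 (iv D10093) D10091
theorem F45381 : act 3 n11544 = n10106 := d25_1 D11544 (iv D10106) (iv F39457)
theorem F45382 : act 5 n11544 = n10441 := d32_1 D11544 (iv D10441) (iv F39458)
def n11545 : Q := act 5 n10092
theorem D11545 : act 5 n10092 = n11545 := rfl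
theorem F45383 : act 0 n11545 = n10122 := d4_1 D11545 (iv D10122) (iv F39459)
theorem F45384 : act 3 n11545 = n10096 := d22_1 D11545 (iv D10096) (iv F39460)
theorem F45385 : act 4 n11545 = n10442 := d26_1 D11545 (iv D10442) (iv D8613) (iv F31532) D10092
def n11546 : Q := act 8 n10092
theorem D11546 : act 8 n10092 = n11546 := rfl
theorem F45386 : act 0 n11546 = n10123 := d7_1 D11546 (iv D10123) (iv F39459)
theorem F45387 : act 3 n11546 = n10097 := d25_1 D11546 (iv D10097) (iv F39460)
theorem F45388 : act 4 n11546 = n10093 := d29_1 D11546 (iv D10093) D10092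
def n11547 : Q := act 7 n10093
theorem D11547 : act 7 n10093 = n11547 := rfl
theorem F45389 : act 0 n11547 = n10124 := d6_1 D11547 (iv D10124) (iv F39461)
theorem F45390 : act 3 n11547 = n11306 := d24_1 D11547 (iv D11306) F38827 (iv F31537) (iv F39462)
theorem F45391 : act 5 n11547 = n10444 := d31_1 D11547 (iv D10444) (iv F39463)
def n11548 : Q := act 5 n10094
theorem D11548 : act 5 n10094 = n11548 := rfl
theorem F45392 : act 0 n11548 = n10125 := d4_1 D11548 (iv D10125) (iv F39464)
theorem F45393 : act 2 n11548 = n11548 := d17_1 D11548 (iv D11548) F39465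
theorem F45394 : act 4 n11548 = n11548 := d26_1 D11548 (iv D11548) (iv D10094) F31540 D10094
theorem F45395 : act 7 n11548 = n11548 := d31_2 F39467 D11548 (iv D11548)
def n11549 : Q := act 8 n10094
theorem D11549 : act 8 n10094 = n11549 := rfl
theorem F45396 : act 0 n11549 = n10126 := d7_1 D11549 (iv D10126) (iv F39464)
theorem F45397 : act 2 n11549 = n11549 := d20_1 D11549 (iv D11549) F39465
theorem F45398 : act 4 n11549 = n10095 := d29_1 D11549 (iv D10095) D10094
theorem F45399 : act 6 n11549 = n10097 := d34_1 D11549 (iv D10097) (iv F39466)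
def n11550 : Q := act 7 n10095
theorem D11550 : act 7 n10095 = n11550 := rfl
theorem F45400 : act 0 n11550 = n10127 := d6_1 D11550 (iv D10127) (iv F39468)
theorem F45401 : act 2 n11550 = n11550 := d19_1 D11550 (iv D11550) F39469
theorem F45402 : act 3 n11550 = n10545 := d24_1 D11550 (iv D10545) F33620 F38437 (iv F39470)
theorem F45403 : act 5 n11550 = n11550 := d31_1 D11550 (iv D11550) F39471
theorem F45404 : act 6 n11550 = n10098 := d33_1 D11550 (iv D10098) (iv F39472)
theorem F45405 : act 8 n11550 = n11550 := d35_2 D10095 D11550 (iv D11550) (iv D10095) F31542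
def n11551 : Q := act 6 n10096
theorem D11551 : act 6 n10096 = n11551 := rfl
theorem F45406 : act 0 n11551 = n10128 := d5_1 D11551 (iv D10128) (iv F39473)
theorem F45407 : act 2 n11551 = n11551 := d18_1 D11551 (iv D11551) F39474
theorem F45408 : act 4 n11551 = n10099 := d27_1 D11551 (iv D10099) (iv F39475)
theorem F45409 : act 7 n11551 = n11551 := d33_2 F39476 D11551 (iv D11551)
def n11552 : Q := act 8 n10096
theorem D11552 : act 8 n10096 = n11552 := rfl
theorem F45410 : act 0 n11552 = n10129 := d7_1 D11552 (iv D10129) (iv F39473)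
theorem F45411 : act 2 n11552 = n11552 := d20_1 D11552 (iv D11552) F39474
theorem F45412 : act 4 n11552 = n10100 := d29_1 D11552 (iv D10100) (iv F39475)
theorem F45413 : act 5 n11552 = n10097 := d32_1 D11552 (iv D10097) D10096
def n11553 : Q := act 7 n10097
theorem D11553 : act 7 n10097 = n11553 := rfl
theorem F45414 : act 0 n11553 = n10130 := d6_1 D11553 (iv D10130) (iv F39477)
theorem F45415 : act 2 n11553 = n11553 := d19_1 D11553 (iv D11553) F39478
theorem F45416 : act 4 n11553 = n10098 := d28_1 D11553 (iv D10098) (iv F39479)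
theorem F45417 : act 8 n11553 = n11553 := d35_2 D10097 D11553 (iv D11553) (iv D10097) F31550
def n11554 : Q := act 8 n10099
theorem D11554 : act 8 n10099 = n11554 := rfl
theorem F45418 : act 0 n11554 = n10131 := d7_1 D11554 (iv D10131) (iv F39485)
theorem F45419 : act 2 n11554 = n11554 := d20_1 D11554 (iv D11554) F39486
theorem F45420 : act 3 n11554 = n10451 := d25_1 D11554 (iv D10451) (iv F39487)
theorem F45421 : act 5 n11554 = n11554 := d32_1 D11554 (iv D11554) F39488
theorem F45422 : act 6 n11554 = n10100 := d34_1 D11554 (iv D10100) D10099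
def n11555 : Q := act 7 n10100
theorem D11555 : act 7 n10100 = n11555 := rfl
theorem F45423 : act 0 n11555 = n10132 := d6_1 D11555 (iv D10132) (iv F39490)
theorem F45424 : act 2 n11555 = n11555 := d19_1 D11555 (iv D11555) F39491
theorem F45425 : act 5 n11555 = n10101 := d31_1 D11555 (iv D10101) (iv F39493)
theorem F45426 : act 8 n11555 = n11555 := d35_2 D10100 D11555 (iv D11555) (iv D10100) F31558
def n11556 : Q := act 3 n10101
theorem D11556 : act 3 n10101 = n11556 := rfl
theorem F45427 : act 0 n11556 = n10133 := d2_1 D11556 (iv D10133) (iv F39494)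
theorem F45428 : act 4 n11556 = n11312 := d21_2 (iv F39496) D11556 (iv D11312) F38848 (iv F31566)
theorem F45429 : act 6 n11556 = n11556 := d23_2 F39497 D11556 (iv D11556)
theorem F45430 : act 7 n11556 = n10453 := d24_2 D10101 D11556 (iv D10453) (iv D8622) (iv F31561)
theorem F45431 : act 8 n11556 = n11556 := d25_2 F39498 D11556 (iv D11556)
def n11557 : Q := act 1 n10103
theorem D11557 : act 1 n10103 = n11557 := rfl
theorem F45432 : act 2 n11557 = n11509 := d8_2 D10103 D11557 F45259 F39445 (iv F38175)
theorem F45433 : act 4 n11557 = n11557 := d10_2 F39506 D11557 (iv D11557)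
theorem F45434 : act 5 n11557 = n10352 := d11_2 (iv F39507) D11557 F40451
theorem F45435 : act 6 n11557 = n10105 := d12_2 (iv F39508) D11557 (iv D10105)
theorem F45436 : act 7 n11557 = n10166 := d13_2 (iv F39509) D11557 (iv D10166)
def n11558 : Q := act 8 n10103
theorem D11558 : act 8 n10103 = n11558 := rfl
theorem F45437 : act 0 n11558 = n10135 := d7_1 D11558 (iv D10135) (iv F39505)
theorem F45438 : act 2 n11558 = n10104 := d20_1 D11558 (iv D10104) D10103
theorem F45439 : act 4 n11558 = n11558 := d29_1 D11558 (iv D11558) F39506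
theorem F45440 : act 5 n11558 = n10369 := d32_1 D11558 (iv D10369) (iv F39507)
theorem F45441 : act 6 n11558 = n10106 := d34_1 D11558 (iv D10106) (iv F39508)
theorem F45442 : act 7 n11558 = n10382 := d35_1 D11558 (iv D10382) F38237 (iv F38174) (iv F39509)
def n11559 : Q := act 0 n10105
theorem D11559 : act 0 n10105 = n11559 := rfl
theorem F45443 : act 1 n11559 = n10136 := d0_2 D10105 D11559 (iv D10136) (iv D8306) (iv F31581)
theorem F45444 : act 4 n11559 = n11559 := d3_2 F39517 D11559 (iv D11559)
theorem F45445 : act 5 n11559 = n10454 := d4_2 (iv F39518) D11559 (iv D10454)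
theorem F45446 : act 7 n11559 = n10167 := d6_2 (iv F39519) D11559 (iv D10167)
def n11560 : Q := act 8 n10105
theorem D11560 : act 8 n10105 = n11560 := rfl
theorem F45447 : act 1 n11560 = n10106 := d14_1 D11560 (iv D10106) D10105
theorem F45448 : act 4 n11560 = n11560 := d29_1 D11560 (iv D11560) F39517
theorem F45449 : act 5 n11560 = n10455 := d32_1 D11560 (iv D10455) (iv F39518)
def n11561 : Q := act 7 n10107
theorem D11561 : act 7 n10107 = n11561 := rfl
theorem F45450 : act 1 n11561 = n10972 := d13_1 D11561 (iv D10972) (iv F45025)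
theorem F45451 : act 2 n11561 = n10168 := d19_1 D11561 (iv D10168) (iv F39524)
theorem F45452 : act 4 n11561 = n10108 := d28_1 D11561 (iv D10108) D10107
theorem F45453 : act 5 n11561 = n11561 := d31_1 D11561 (iv D11561) F39526
theorem F45454 : act 6 n11561 = n10456 := d33_1 D11561 (iv D10456) (iv F39527)
theorem F45455 : act 3 n10216 = n11561 := d15_0 F45451 F45113 F32046 D8415 D10216
def n11562 : Q := act 3 n10108
theorem D11562 : act 3 n10108 = n11562 := rfl
theorem F45456 : act 2 n11562 = n10255 := d15_1 D11562 F40123 (iv F45036) (iv F38080) (iv F39529)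
theorem F45457 : act 4 n11562 = n10254 := d21_2 F45452 D11562 F40120 (iv F39963) F45455
theorem F45458 : act 5 n11562 = n10109 := d22_2 (iv F39530) D11562 (iv D10109)
theorem F45459 : act 6 n11562 = n10385 := d23_2 (iv F39531) D11562 F40575
theorem F45460 : act 7 n11562 = n10114 := d24_2 D10108 D11562 (iv D10114) (iv D8288) (iv F31590)
def n11563 : Q := act 8 n10108
theorem D11563 : act 8 n10108 = n11563 := rfl
theorem F45461 : act 2 n11563 = n10169 := d20_1 D11563 (iv D10169) (iv F39529)
theorem F45462 : act 5 n11563 = n10110 := d32_1 D11563 (iv D10110) (iv F39530)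
theorem F45463 : act 6 n11563 = n10457 := d34_1 D11563 (iv D10457) (iv F39531)
theorem F45464 : act 7 n11563 = n10175 := d35_1 D11563 (iv D10175) F31858 F38154 D10108
def n11564 : Q := act 2 n10109
theorem D11564 : act 2 n10109 = n11564 := rfl
theorem F45465 : act 3 n11564 = n10170 := d15_2 D10109 D11564 (iv D10170) (iv D8355) (iv F31593)
theorem F45466 : act 5 n11564 = n10255 := d17_2 F45458 D11564 (iv F45456)
theorem F45467 : act 6 n11564 = n10111 := d18_2 (iv F39532) D11564 (iv D10111)
theorem F45468 : act 7 n11564 = n10116 := d19_2 (iv F39533) D11564 (iv D10116)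
theorem F45469 : act 1 n10392 = n11564 := d11_3 F45466 F40122 D10392
theorem F45470 : act 4 n11274 = n11564 := d26_5 F45466 (iv D10255) F32213 D9895 D11274
def n11565 : Q := act 4 n10109
theorem D11565 : act 4 n10109 = n11565 := rfl
theorem F45471 : act 2 n11565 = n11274 := d16_1 D11565 F45470 (iv D11564)
theorem F45472 : act 3 n11565 = n11565 := d21_1 D11565 (iv D11565) (iv D10109) F31594 D10109
theorem F45473 : act 5 n11565 = n11272 := d26_2 F45458 D11565 (iv D11272) (iv F40121) (iv F45457)
theorem F45474 : act 6 n11565 = n10112 := d27_2 (iv F39532) D11565 (iv D10112)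
theorem F45475 : act 7 n11565 = n10117 := d28_2 (iv F39533) D11565 (iv D10117)
def n11566 : Q := act 8 n10109
theorem D11566 : act 8 n10109 = n11566 := rfl
theorem F45476 : act 3 n11566 = n10110 := d25_1 D11566 (iv D10110) D10109
theorem F45477 : act 6 n11566 = n10113 := d34_1 D11566 (iv D10113) (iv F39532)
def n11567 : Q := act 1 n10111
theorem D11567 : act 1 n10111 = n11567 := rfl
theorem F45478 : act 3 n11567 = n10173 := d9_2 (iv F39538) D11567 (iv D10173)
theorem F45479 : act 5 n11567 = n10460 := d11_2 (iv F39539) D11567 (iv D10460)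
theorem F45480 : act 6 n11567 = n10392 := d12_2 F45467 D11567 F45469
theorem F45481 : act 7 n11567 = n10119 := d13_2 (iv F39540) D11567 (iv D10119)
theorem F45482 : act 4 n11316 = n11567 := d27_3 F45480 F40592 D11316
def n11568 : Q := act 4 n10111
theorem D11568 : act 4 n10111 = n11568 := rfl
theorem F45483 : act 1 n11568 = n11316 := d10_1 D11568 F45482 (iv D11567)
theorem F45484 : act 2 n11568 = n10112 := d16_1 D11568 (iv D10112) D10111
theorem F45485 : act 3 n11568 = n11277 := d21_1 D11568 F43795 (iv F45110) (iv D10174) (iv F39538)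
theorem F45486 : act 6 n11568 = n11274 := d27_2 F45467 D11568 F45470
theorem F45487 : act 7 n11568 = n10120 := d28_2 (iv F39540) D11568 (iv D10120)
def n11569 : Q := act 8 n10111
theorem D11569 : act 8 n10111 = n11569 := rfl
theorem F45488 : act 2 n11569 = n10113 := d20_1 D11569 (iv D10113) D10111
theorem F45489 : act 3 n11569 = n10175 := d25_1 D11569 (iv D10175) (iv F39538)
theorem F45490 : act 5 n11569 = n10462 := d32_1 D11569 (iv D10462) (iv F39539)
def n11570 : Q := act 5 n10112
theorem D11570 : act 5 n10112 = n11570 := rfl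
theorem F45491 : act 3 n11570 = n11570 := d22_1 D11570 (iv D11570) F39541
theorem F45492 : act 4 n11570 = n10463 := d26_1 D11570 (iv D10463) (iv D8635) (iv F31596) D10112
theorem F45493 : act 7 n11570 = n10122 := d31_2 (iv F39542) D11570 (iv D10122)
def n11571 : Q := act 8 n10112
theorem D11571 : act 8 n10112 = n11571 := rfl
theorem F45494 : act 3 n11571 = n11571 := d25_1 D11571 (iv D11571) F39541
theorem F45495 : act 4 n11571 = n10113 := d29_1 D11571 (iv D10113) D10112
def n11572 : Q := act 7 n10113
theorem D11572 : act 7 n10113 = n11572 := rfl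
theorem F45496 : act 3 n11572 = n11315 := d24_1 D11572 (iv D11315) F38853 (iv F31601) (iv F39543)
theorem F45497 : act 5 n11572 = n10465 := d31_1 D11572 (iv D10465) (iv F39544)
theorem F45498 : act 8 n11572 = n10124 := d35_2 D10113 D11572 (iv D10124) (iv D8293) (iv F31597)
def n11573 : Q := act 4 n10114
theorem D11573 : act 4 n10114 = n11573 := rfl
theorem F45499 : act 2 n11573 = n10250 := d16_1 D11573 F45047 (iv F39545)
theorem F45500 : act 3 n11573 = n11573 := d21_1 D11573 (iv D11573) (iv D10114) F31603 D10114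
theorem F45501 : act 6 n11573 = n10390 := d27_2 (iv F39547) D11573 (iv D10390)
theorem F45502 : act 7 n11573 = n10254 := d28_2 F45460 D11573 (iv F45457)
theorem F45503 : act 5 n11269 = n11573 := d31_3 F45502 F40121 (iv F43777)
def n11574 : Q := act 8 n10114
theorem D11574 : act 8 n10114 = n11574 := rfl
theorem F45504 : act 2 n11574 = n10389 := d20_1 D11574 (iv D10389) (iv F39545)
theorem F45505 : act 3 n11574 = n10115 := d25_1 D11574 (iv D10115) D10114
theorem F45506 : act 5 n11574 = n10118 := d32_1 D11574 (iv D10118) (iv F39546)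
theorem F45507 : act 6 n11574 = n10391 := d34_1 D11574 (iv D10391) (iv F39547)
def n11575 : Q := act 1 n10116
theorem D11575 : act 1 n10116 = n11575 := rfl
theorem F45508 : act 3 n11575 = n10134 := d9_2 (iv F39553) D11575 (iv D10134)
theorem F45509 : act 5 n11575 = n10252 := d11_2 (iv F39554) D11575 F40113
theorem F45510 : act 6 n11575 = n10119 := d12_2 (iv F39555) D11575 (iv D10119)
theorem F45511 : act 7 n11575 = n10392 := d13_2 F45468 D11575 F45469
theorem F45512 : act 4 n11313 = n11575 := d28_3 F45511 F40592 (iv F43904)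
def n11576 : Q := act 4 n10116
theorem D11576 : act 4 n10116 = n11576 := rfl
theorem F45513 : act 1 n11576 = n11313 := d10_1 D11576 F45512 (iv D11575)
theorem F45514 : act 2 n11576 = n10117 := d16_1 D11576 (iv D10117) D10116
theorem F45515 : act 3 n11576 = n11576 := d21_1 D11576 (iv D11576) F39553 F31652 (iv F39553)
theorem F45516 : act 5 n11576 = n11270 := d26_2 (iv F39554) D11576 (iv D11270) (iv F40106) F45047
theorem F45517 : act 6 n11576 = n10120 := d27_2 (iv F39555) D11576 (iv D10120)
theorem F45518 : act 7 n11576 = n11274 := d28_2 F45468 D11576 F45470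
def n11577 : Q := act 8 n10116
theorem D11577 : act 8 n10116 = n11577 := rfl
theorem F45519 : act 2 n11577 = n10118 := d20_1 D11577 (iv D10118) D10116
theorem F45520 : act 3 n11577 = n10135 := d25_1 D11577 (iv D10135) (iv F39553)
theorem F45521 : act 5 n11577 = n10389 := d32_1 D11577 (iv D10389) (iv F39554)
theorem F45522 : act 6 n11577 = n10121 := d34_1 D11577 (iv D10121) (iv F39555)
def n11578 : Q := act 5 n10117
theorem D11578 : act 5 n10117 = n11578 := rfl
theorem F45523 : act 1 n11578 = n11080 := d11_1 D11578 (iv F44622) F44502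
theorem F45524 : act 2 n11578 = n11270 := d17_1 D11578 (iv F45516) F45514
theorem F45525 : act 3 n11578 = n10125 := d22_1 D11578 (iv D10125) (iv F39556)
theorem F45526 : act 4 n11578 = n11269 := d26_1 D11578 F45503 (iv D11573) F39546 D10117
theorem F45527 : act 7 n11578 = n11272 := d31_2 F45475 D11578 (iv F45473)
def n11579 : Q := act 8 n10117
theorem D11579 : act 8 n10117 = n11579 := rfl
theorem F45528 : act 3 n11579 = n10126 := d25_1 D11579 (iv D10126) (iv F39556)
theorem F45529 : act 4 n11579 = n10118 := d29_1 D11579 (iv D10118) D10117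
theorem F45530 : act 6 n11579 = n10123 := d34_1 D11579 (iv D10123) (iv F39557)
def n11580 : Q := act 7 n10118
theorem D11580 : act 7 n10118 = n11580 := rfl
theorem F45531 : act 3 n11580 = n10474 := d24_1 D11580 (iv D10474) F32878 F38418 (iv F39558)
theorem F45532 : act 6 n11580 = n10124 := d33_1 D11580 (iv D10124) (iv F39559)
def n11581 : Q := act 0 n10119
theorem D11581 : act 0 n10119 = n11581 := rfl
theorem F45533 : act 3 n11581 = n10136 := d2_2 (iv F39560) D11581 (iv D10136)
theorem F45534 : act 5 n11581 = n10469 := d4_2 (iv F39561) D11581 (iv D10469)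
def n11582 : Q := act 4 n10119
theorem D11582 : act 4 n10119 = n11582 := rfl
theorem F45535 : act 1 n11582 = n10120 := d10_1 D11582 (iv D10120) D10119
theorem F45536 : act 3 n11582 = n11582 := d21_1 D11582 (iv D11582) F39560 F31660 (iv F39560)
theorem F45537 : act 6 n11582 = n11313 := d27_2 F45510 D11582 F45512
theorem F45538 : act 7 n11582 = n11316 := d28_2 F45481 D11582 F45482
def n11583 : Q := act 8 n10119
theorem D11583 : act 8 n10119 = n11583 := rfl
theorem F45539 : act 1 n11583 = n10121 := d14_1 D11583 (iv D10121) D10119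
theorem F45540 : act 3 n11583 = n10137 := d25_1 D11583 (iv D10137) (iv F39560)
theorem F45541 : act 5 n11583 = n10471 := d32_1 D11583 (iv D10471) (iv F39561)
def n11584 : Q := act 5 n10120
theorem D11584 : act 5 n10120 = n11584 := rfl
theorem F45542 : act 2 n11584 = n10122 := d17_1 D11584 (iv D10122) (iv F39562)
theorem F45543 : act 3 n11584 = n11584 := d22_1 D11584 (iv D11584) F39563
theorem F45544 : act 4 n11584 = n10472 := d26_1 D11584 (iv D10472) (iv D8643) (iv F31612) D10120
def n11585 : Q := act 8 n10120
theorem D11585 : act 8 n10120 = n11585 := rfl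
theorem F45545 : act 2 n11585 = n10123 := d20_1 D11585 (iv D10123) (iv F39562)
theorem F45546 : act 3 n11585 = n11585 := d25_1 D11585 (iv D11585) F39563
theorem F45547 : act 4 n11585 = n10121 := d29_1 D11585 (iv D10121) D10120
def n11586 : Q := act 7 n10121
theorem D11586 : act 7 n10121 = n11586 := rfl
theorem F45548 : act 2 n11586 = n10124 := d19_1 D11586 (iv D10124) (iv F39564)
theorem F45549 : act 5 n11586 = n10474 := d31_1 D11586 (iv D10474) (iv F39566)
def n11587 : Q := act 6 n10122
theorem D11587 : act 6 n10122 = n11587 := rfl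
theorem F45550 : act 3 n11587 = n10128 := d23_1 D11587 (iv D10128) (iv F39567)
theorem F45551 : act 4 n11587 = n10475 := d27_1 D11587 (iv D10475) (iv F39568)
def n11588 : Q := act 8 n10122
theorem D11588 : act 8 n10122 = n11588 := rfl
theorem F45552 : act 3 n11588 = n10129 := d25_1 D11588 (iv D10129) (iv F39567)
theorem F45553 : act 4 n11588 = n10476 := d29_1 D11588 (iv D10476) (iv F39568)
theorem F45554 : act 5 n11588 = n10123 := d32_1 D11588 (iv D10123) D10122
def n11589 : Q := act 7 n10123
theorem D11589 : act 7 n10123 = n11589 := rfl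
theorem F45555 : act 4 n11589 = n10124 := d28_1 D11589 (iv D10124) (iv F39570)
def n11590 : Q := act 6 n10125
theorem D11590 : act 6 n10125 = n11590 := rfl
theorem F45556 : act 1 n11590 = n11201 := d12_1 D11590 F43511 (iv F44618)
theorem F45557 : act 2 n11590 = n11590 := d18_1 D11590 (iv D11590) F39573
theorem F45558 : act 4 n11590 = n11590 := d27_1 D11590 (iv D11590) F39574
theorem F45559 : act 5 n11590 = n10128 := d30_1 D11590 (iv D10128) (iv D8296) (iv F31617) D10125
theorem F45560 : act 7 n11590 = n11590 := d33_2 F39575 D11590 (iv D11590)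
def n11591 : Q := act 8 n10125
theorem D11591 : act 8 n10125 = n11591 := rfl
theorem F45561 : act 1 n11591 = n10575 := d14_1 D11591 F41241 (iv F44618)
theorem F45562 : act 2 n11591 = n11591 := d20_1 D11591 (iv D11591) F39573
theorem F45563 : act 4 n11591 = n11591 := d29_1 D11591 (iv D11591) F39574
theorem F45564 : act 5 n11591 = n10126 := d32_1 D11591 (iv D10126) D10125
def n11592 : Q := act 7 n10126
theorem D11592 : act 7 n10126 = n11592 := rfl
theorem F45565 : act 2 n11592 = n11592 := d19_1 D11592 (iv D11592) F39576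
theorem F45566 : act 4 n11592 = n10127 := d28_1 D11592 (iv D10127) (iv F39577)
theorem F45567 : act 6 n11592 = n10130 := d33_1 D11592 (iv D10130) (iv F39578)
theorem F45568 : act 8 n11592 = n11592 := d35_2 D10126 D11592 (iv D11592) (iv D10126) F31618
def n11593 : Q := act 8 n10128
theorem D11593 : act 8 n10128 = n11593 := rfl
theorem F45569 : act 2 n11593 = n11593 := d20_1 D11593 (iv D11593) F39584
theorem F45570 : act 4 n11593 = n10131 := d29_1 D11593 (iv D10131) (iv F39585)
theorem F45571 : act 6 n11593 = n10129 := d34_1 D11593 (iv D10129) D10128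
def n11594 : Q := act 7 n10129
theorem D11594 : act 7 n10129 = n11594 := rfl
theorem F45572 : act 2 n11594 = n11594 := d19_1 D11594 (iv D11594) F39587
theorem F45573 : act 4 n11594 = n10132 := d28_1 D11594 (iv D10132) (iv F39588)
theorem F45574 : act 5 n11594 = n10130 := d31_1 D11594 (iv D10130) (iv F39589)
theorem F45575 : act 8 n11594 = n11594 := d35_2 D10129 D11594 (iv D11594) (iv D10129) F31625
def n11595 : Q := act 3 n10130
theorem D11595 : act 3 n10130 = n11595 := rfl
theorem F45576 : act 4 n11595 = n11321 := d21_2 (iv F39591) D11595 (iv D11321) F38864 (iv F31629)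
theorem F45577 : act 8 n11595 = n11595 := d25_2 F39592 D11595 (iv D11595)
def n11596 : Q := act 7 n10131
theorem D11596 : act 7 n10131 = n11596 := rfl
theorem F45578 : act 2 n11596 = n11596 := d19_1 D11596 (iv D11596) F39593
theorem F45579 : act 5 n11596 = n11596 := d31_1 D11596 (iv D11596) F39595
theorem F45580 : act 6 n11596 = n10132 := d33_1 D11596 (iv D10132) (iv F39596)
theorem F45581 : act 8 n11596 = n11596 := d35_2 D10131 D11596 (iv D11596) (iv D10131) F31635
def n11597 : Q := act 3 n10132
theorem D11597 : act 3 n10132 = n11597 := rfl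
theorem F45582 : act 5 n11597 = n10133 := d22_2 (iv F39598) D11597 (iv D10133)
theorem F45583 : act 7 n11597 = n10485 := d24_2 D10132 D11597 (iv D10485) (iv D8655) (iv F31637)
theorem F45584 : act 8 n11597 = n11597 := d25_2 F39599 D11597 (iv D11597)
def n11598 : Q := act 2 n10133
theorem D11598 : act 2 n10133 = n11598 := rfl
theorem F45585 : act 3 n11598 = n11598 := d15_2 D10133 D11598 (iv D11598) (iv D10133) F31639
theorem F45586 : act 4 n11598 = n11324 := d16_2 (iv F39600) D11598 (iv D11324)
theorem F45587 : act 6 n11598 = n11598 := d18_2 F39601 D11598 (iv D11598)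
theorem F45588 : act 7 n11598 = n10486 := d19_2 (iv F39602) D11598 (iv D10486)
theorem F45589 : act 8 n11598 = n11598 := d20_2 F39603 D11598 (iv D11598)
def n11599 : Q := act 0 n10134
theorem D11599 : act 0 n10134 = n11599 := rfl
theorem F45590 : act 2 n11599 = n10138 := d1_2 (iv F39604) D11599 (iv D10138)
theorem F45591 : act 4 n11599 = n11599 := d3_2 F39605 D11599 (iv D11599)
theorem F45592 : act 5 n11599 = n10235 := d4_2 (iv F39606) D11599 F40049
theorem F45593 : act 6 n11599 = n10136 := d5_2 (iv F39607) D11599 (iv D10136)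
theorem F45594 : act 7 n11599 = n10181 := d6_2 (iv F39608) D11599 (iv D10181)
def n11600 : Q := act 8 n10134
theorem D11600 : act 8 n10134 = n11600 := rfl
theorem F45595 : act 1 n11600 = n10135 := d14_1 D11600 (iv D10135) D10134
theorem F45596 : act 2 n11600 = n10139 := d20_1 D11600 (iv D10139) (iv F39604)
theorem F45597 : act 4 n11600 = n11600 := d29_1 D11600 (iv D11600) F39605
theorem F45598 : act 5 n11600 = n10253 := d32_1 D11600 (iv D10253) (iv F39606)
theorem F45599 : act 6 n11600 = n10137 := d34_1 D11600 (iv D10137) (iv F39607)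
theorem F45600 : act 7 n11600 = n10323 := d35_1 D11600 (iv D10323) (iv D8497) (iv F38298) (iv F39608)
def n11601 : Q := act 8 n10136
theorem D11601 : act 8 n10136 = n11601 := rfl
theorem F45601 : act 0 n11601 = n10137 := d7_1 D11601 (iv D10137) D10136
theorem F45602 : act 2 n11601 = n10140 := d20_1 D11601 (iv D10140) (iv F39614)
theorem F45603 : act 4 n11601 = n11601 := d29_1 D11601 (iv D11601) F39615
theorem F45604 : act 5 n11601 = n10487 := d32_1 D11601 (iv D10487) (iv F39616)
def n11602 : Q := act 8 n10138
theorem D11602 : act 8 n10138 = n11602 := rfl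
theorem F45605 : act 0 n11602 = n10139 := d7_1 D11602 (iv D10139) D10138
theorem F45606 : act 1 n11602 = n11454 := d14_1 D11602 (iv D11454) (iv F39622)
theorem F45607 : act 4 n11602 = n11602 := d29_1 D11602 (iv D11602) F39623
theorem F45608 : act 5 n11602 = n10246 := d32_1 D11602 (iv D10246) (iv F39624)
theorem F45609 : act 6 n11602 = n10140 := d34_1 D11602 (iv D10140) (iv F39625)
theorem F45610 : act 7 n11602 = n10309 := d35_1 D11602 (iv D10309) (iv D8488) (iv F38398) (iv F39626)
def n11603 : Q := act 5 n10141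
theorem D11603 : act 5 n10141 = n11603 := rfl
theorem F45611 : act 0 n11603 = n11603 := d4_1 D11603 (iv D11603) F39635
theorem F45612 : act 2 n11603 = n10143 := d17_1 D11603 (iv D10143) (iv F39636)
theorem F45613 : act 6 n11603 = n10493 := d30_2 D10141 D11603 F40903 (iv D8759) (iv F31703)
theorem F45614 : act 8 n11603 = n10148 := d32_2 (iv F39638) D11603 F39667
def n11604 : Q := act 7 n10141
theorem D11604 : act 7 n10141 = n11604 := rfl
theorem F45615 : act 0 n11604 = n11604 := d6_1 D11604 (iv D11604) F39635
theorem F45616 : act 2 n11604 = n10144 := d19_1 D11604 (iv D10144) (iv F39636)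
theorem F45617 : act 4 n11604 = n11604 := d28_1 D11604 (iv D11604) F39637
theorem F45618 : act 6 n11604 = n10142 := d33_1 D11604 (iv D10142) D10141
def n11605 : Q := act 3 n10142
theorem D11605 : act 3 n10142 = n11605 := rfl
theorem F45619 : act 0 n11605 = n11605 := d2_1 D11605 (iv D11605) F39639
theorem F45620 : act 5 n11605 = n10501 := d22_2 (iv F39642) D11605 (iv D10501)
def n11606 : Q := act 8 n10142
theorem D11606 : act 8 n10142 = n11606 := rfl
theorem F45621 : act 0 n11606 = n11606 := d7_1 D11606 (iv D11606) F39639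
theorem F45622 : act 2 n11606 = n10146 := d20_1 D11606 (iv D10146) (iv F39640)
theorem F45623 : act 4 n11606 = n11606 := d29_1 D11606 (iv D11606) F39641
theorem F45624 : act 5 n11606 = n10502 := d32_1 D11606 (iv D10502) (iv F39642)
theorem F45625 : act 7 n11606 = n11326 := d35_1 D11606 (iv D11326) (iv D9938) (iv F31704) D10142
def n11607 : Q := act 4 n10143
theorem D11607 : act 4 n10143 = n11607 := rfl
theorem F45626 : act 0 n11607 = n11607 := d3_1 D11607 (iv D11607) F39643
theorem F45627 : act 1 n11607 = n10155 := d10_1 D11607 (iv D10155) (iv F39644)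
theorem F45628 : act 3 n11607 = n10154 := d21_1 D11607 F39698 F31751 (iv F37858) (iv F39645)
theorem F45629 : act 5 n11607 = n11607 := d26_2 D10143 D11607 (iv D11607) (iv D10143) F31708
theorem F45630 : act 6 n11607 = n10494 := d27_2 (iv F39646) D11607 (iv D10494)
theorem F45631 : act 8 n11607 = n10149 := d29_2 (iv F39647) D11607 (iv D10149)
def n11608 : Q := act 7 n10143
theorem D11608 : act 7 n10143 = n11608 := rfl
theorem F45632 : act 0 n11608 = n11608 := d6_1 D11608 (iv D11608) F39643
theorem F45633 : act 1 n11608 = n10156 := d13_1 D11608 (iv D10156) (iv F39644)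
theorem F45634 : act 3 n11608 = n10490 := d24_1 D11608 (iv D10490) F32973 (iv F37774) (iv F39645)
theorem F45635 : act 5 n11608 = n10144 := d31_1 D11608 (iv D10144) D10143
theorem F45636 : act 6 n11608 = n10491 := d33_1 D11608 F40895 (iv F39646)
def n11609 : Q := act 3 n10144
theorem D11609 : act 3 n10144 = n11609 := rfl
theorem F45637 : act 0 n11609 = n11609 := d2_1 D11609 (iv D11609) F39648
theorem F45638 : act 1 n11609 = n10157 := d9_1 D11609 (iv D10157) (iv F39649)
theorem F45639 : act 5 n11609 = n10490 := d22_2 F45635 D11609 (iv F45634)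
theorem F45640 : act 6 n11609 = n10145 := d23_2 (iv F39651) D11609 (iv D10145)
theorem F45641 : act 7 n11609 = n10147 := d24_2 D10144 D11609 (iv D10147) (iv D8322) (iv F31707)
def n11610 : Q := act 8 n10144
theorem D11610 : act 8 n10144 = n11610 := rfl
theorem F45642 : act 0 n11610 = n11610 := d7_1 D11610 (iv D11610) F39648
theorem F45643 : act 1 n11610 = n10158 := d14_1 D11610 (iv D10158) (iv F39649)
theorem F45644 : act 4 n11610 = n11610 := d29_1 D11610 (iv D11610) F39650
theorem F45645 : act 6 n11610 = n10146 := d34_1 D11610 (iv D10146) (iv F39651)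
theorem F45646 : act 7 n11610 = n10505 := d35_1 D11610 (iv D10505) F33310 F38039 D10144
def n11611 : Q := act 2 n10145
theorem D11611 : act 2 n10145 = n11611 := rfl
theorem F45647 : act 0 n11611 = n11611 := d1_1 D11611 (iv D11611) F39652
theorem F45648 : act 5 n11611 = n10504 := d17_2 (iv F39654) D11611 (iv D10504)
theorem F45649 : act 7 n11611 = n10148 := d19_2 (iv F39655) D11611 (iv D10148)
def n11612 : Q := act 4 n10145
theorem D11612 : act 4 n10145 = n11612 := rfl
theorem F45650 : act 0 n11612 = n11612 := d3_1 D11612 (iv D11612) F39652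
theorem F45651 : act 1 n11612 = n10160 := d10_1 D11612 (iv D10160) (iv F39653)
theorem F45652 : act 3 n11612 = n11612 := d21_1 D11612 (iv D11612) (iv D10145) F31712 D10145
theorem F45653 : act 5 n11612 = n11612 := d26_2 (iv F39654) D11612 (iv D11612) F39654 F33309
theorem F45654 : act 7 n11612 = n10149 := d28_2 (iv F39655) D11612 (iv D10149)
def n11613 : Q := act 8 n10145
theorem D11613 : act 8 n10145 = n11613 := rfl
theorem F45655 : act 0 n11613 = n11613 := d7_1 D11613 (iv D11613) F39652
theorem F45656 : act 1 n11613 = n10161 := d14_1 D11613 (iv D10161) (iv F39653)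
theorem F45657 : act 3 n11613 = n10146 := d25_1 D11613 (iv D10146) D10145
theorem F45658 : act 5 n11613 = n10505 := d32_1 D11613 (iv D10505) (iv F39654)
def n11614 : Q := act 2 n10147
theorem D11614 : act 2 n10147 = n11614 := rfl
theorem F45659 : act 0 n11614 = n11614 := d1_1 D11614 (iv D11614) F39661
theorem F45660 : act 3 n11614 = n11603 := d15_2 D10147 D11614 F45612 F39645 (iv F37853)
theorem F45661 : act 5 n11614 = n10488 := d17_2 (iv F39663) D11614 F40880
theorem F45662 : act 6 n11614 = n10148 := d18_2 (iv F39664) D11614 (iv D10148)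
theorem F45663 : act 8 n11614 = n10493 := d20_2 (iv F39665) D11614 (iv D10493)
def n11615 : Q := act 4 n10147
theorem D11615 : act 4 n10147 = n11615 := rfl
theorem F45664 : act 0 n11615 = n11615 := d3_1 D11615 (iv D11615) F39661
theorem F45665 : act 1 n11615 = n10163 := d10_1 D11615 (iv D10163) (iv F39662)
theorem F45666 : act 3 n11615 = n10151 := d21_1 D11615 (iv D10151) (iv D8325) (iv F31721) D10147
theorem F45667 : act 5 n11615 = n10630 := d26_2 (iv F39663) D11615 (iv D10630) F45064 (iv F32974)
theorem F45668 : act 6 n11615 = n10149 := d27_2 (iv F39664) D11615 (iv D10149)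
theorem F45669 : act 8 n11615 = n10494 := d29_2 (iv F39665) D11615 (iv D10494)
def n11616 : Q := act 1 n10148
theorem D11616 : act 1 n10148 = n11616 := rfl
theorem F45670 : act 2 n11616 = n10164 := d8_2 D10148 D11616 (iv D10164) (iv D8339) (iv F31724)
theorem F45671 : act 5 n11616 = n10506 := d11_2 (iv F39667) D11616 (iv D10506)
def n11617 : Q := act 4 n10148
theorem D11617 : act 4 n10148 = n11617 := rfl
theorem F45672 : act 0 n11617 = n11617 := d3_1 D11617 (iv D11617) F39666
theorem F45673 : act 2 n11617 = n10149 := d16_1 D11617 (iv D10149) D10148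
theorem F45674 : act 5 n11617 = n11617 := d26_2 (iv F39667) D11617 (iv D11617) F39667 F33327
def n11618 : Q := act 4 n10150
theorem D11618 : act 4 n10150 = n11618 := rfl
theorem F45675 : act 0 n11618 = n11618 := d3_1 D11618 (iv D11618) F39672
theorem F45676 : act 1 n11618 = n11618 := d10_1 D11618 (iv D11618) F39673
theorem F45677 : act 2 n11618 = n10151 := d16_1 D11618 (iv D10151) D10150
theorem F45678 : act 5 n11618 = n11240 := d26_2 (iv F39674) D11618 (iv D11240) (iv D9871) (iv F38661)
theorem F45679 : act 6 n11618 = n10152 := d27_2 (iv F39675) D11618 (iv D10152)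
theorem F45680 : act 7 n11618 = n11618 := d28_2 F39676 D11618 (iv D11618)
theorem F45681 : act 8 n11618 = n10495 := d29_2 (iv F39677) D11618 (iv D10495)
def n11619 : Q := act 3 n10152
theorem D11619 : act 3 n10152 = n11619 := rfl
theorem F45682 : act 0 n11619 = n11619 := d2_1 D11619 (iv D11619) F39684
theorem F45683 : act 1 n11619 = n11619 := d9_1 D11619 (iv D11619) F39685
theorem F45684 : act 4 n11619 = n11217 := d21_2 D10152 D11619 (iv F45157) (iv D10495) F33013
theorem F45685 : act 5 n11619 = n11619 := d22_2 F39687 D11619 (iv D11619)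
theorem F45686 : act 7 n11213 = n11619 := d28_0 F45684 (iv D11217) (iv F43552)
def n11620 : Q := act 8 n10152
theorem D11620 : act 8 n10152 = n11620 := rfl
theorem F45687 : act 0 n11620 = n11620 := d7_1 D11620 (iv D11620) F39684
theorem F45688 : act 1 n11620 = n11620 := d14_1 D11620 (iv D11620) F39685
theorem F45689 : act 2 n11620 = n10154 := d20_1 D11620 (iv D10154) (iv F39686)
theorem F45690 : act 4 n11620 = n10153 := d29_1 D11620 (iv D10153) D10152
theorem F45691 : act 5 n11620 = n11620 := d32_1 D11620 (iv D11620) F39687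
theorem F45692 : act 6 n11620 = n10495 := d34_1 D11620 (iv F45681) F45679
theorem F45693 : act 7 n11102 = n11620 := d33_0 F45692 F40912 (iv F43113)
def n11621 : Q := act 7 n10155
theorem D11621 : act 7 n10155 = n11621 := rfl
theorem F45694 : act 0 n11621 = n10168 := d6_1 D11621 (iv D10168) (iv F39702)
theorem F45695 : act 3 n11621 = n10189 := d24_1 D11621 (iv D10189) (iv F45133) (iv F38036) (iv F39703)
theorem F45696 : act 4 n11621 = n10156 := d28_1 D11621 (iv D10156) D10155
theorem F45697 : act 5 n11621 = n11621 := d31_1 D11621 (iv D11621) F39704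
theorem F45698 : act 6 n11621 = n10497 := d33_1 D11621 F40920 (iv F39705)
def n11622 : Q := act 8 n10156
theorem D11622 : act 8 n10156 = n11622 := rfl
theorem F45699 : act 0 n11622 = n10169 := d7_1 D11622 (iv D10169) (iv F39707)
theorem F45700 : act 3 n11622 = n10496 := d25_1 D11622 (iv D10496) (iv F39708)
theorem F45701 : act 5 n11622 = n10158 := d32_1 D11622 (iv D10158) (iv F39709)
theorem F45702 : act 6 n11622 = n10498 := d34_1 D11622 (iv D10498) (iv F39710)
theorem F45703 : act 7 n11622 = n10161 := d35_1 D11622 (iv D10161) F31773 F38024 D10156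
def n11623 : Q := act 2 n10157
theorem D11623 : act 2 n10157 = n11623 := rfl
theorem F45704 : act 0 n11623 = n10170 := d1_1 D11623 (iv D10170) (iv F39711)
theorem F45705 : act 5 n11623 = n10240 := d17_2 (iv F39712) D11623 F45012
theorem F45706 : act 6 n11623 = n10159 := d18_2 (iv F39713) D11623 (iv D10159)
theorem F45707 : act 7 n11623 = n10162 := d19_2 (iv F39714) D11623 (iv D10162)
theorem F45708 : act 4 n10242 = n11623 := d28_3 F45707 F45015 (iv F40076)
def n11624 : Q := act 4 n10157
theorem D11624 : act 4 n10157 = n11624 := rfl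
theorem F45709 : act 0 n11624 = n10171 := d3_1 D11624 (iv D10171) (iv F39711)
theorem F45710 : act 2 n11624 = n10242 := d16_1 D11624 F45708 (iv D11623)
theorem F45711 : act 3 n11624 = n11624 := d21_1 D11624 (iv D11624) (iv D10157) F31769 D10157
theorem F45712 : act 5 n11624 = n10193 := d26_2 (iv F39712) D11624 (iv D10193) F45067 (iv F33051)
theorem F45713 : act 6 n11624 = n10160 := d27_2 (iv F39713) D11624 (iv D10160)
theorem F45714 : act 7 n11624 = n10163 := d28_2 (iv F39714) D11624 (iv D10163)
def n11625 : Q := act 8 n10157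
theorem D11625 : act 8 n10157 = n11625 := rfl
theorem F45715 : act 0 n11625 = n10172 := d7_1 D11625 (iv D10172) (iv F39711)
theorem F45716 : act 3 n11625 = n10158 := d25_1 D11625 (iv D10158) D10157
theorem F45717 : act 5 n11625 = n10496 := d32_1 D11625 (iv D10496) (iv F39712)
theorem F45718 : act 6 n11625 = n10161 := d34_1 D11625 (iv D10161) (iv F39713)
theorem F45719 : act 7 n11625 = n10498 := d35_1 D11625 (iv D10498) F33055 (iv F38033) (iv F39714)
def n11626 : Q := act 1 n10159
theorem D11626 : act 1 n10159 = n11626 := rfl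
theorem F45720 : act 5 n11626 = n10507 := d11_2 (iv F39720) D11626 (iv D10507)
theorem F45721 : act 7 n11626 = n10164 := d13_2 (iv F39721) D11626 (iv D10164)
def n11627 : Q := act 4 n10159
theorem D11627 : act 4 n10159 = n11627 := rfl
theorem F45722 : act 0 n11627 = n10174 := d3_1 D11627 (iv D10174) (iv F39719)
theorem F45723 : act 2 n11627 = n10160 := d16_1 D11627 (iv D10160) D10159
theorem F45724 : act 5 n11627 = n11627 := d26_2 (iv F39720) D11627 (iv D11627) F39720 F33345
theorem F45725 : act 6 n11627 = n10242 := d27_2 F45706 D11627 F45708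
theorem F45726 : act 7 n11627 = n10165 := d28_2 (iv F39721) D11627 (iv D10165)
theorem F45727 : act 3 n11263 = n11627 := d23_3 F45725 F40075 D11263
def n11628 : Q := act 8 n10159
theorem D11628 : act 8 n10159 = n11628 := rfl
theorem F45728 : act 0 n11628 = n10175 := d7_1 D11628 (iv D10175) (iv F39719)
theorem F45729 : act 2 n11628 = n10161 := d20_1 D11628 (iv D10161) D10159
theorem F45730 : act 5 n11628 = n10508 := d32_1 D11628 (iv D10508) (iv F39720)
def n11629 : Q := act 8 n10160
theorem D11629 : act 8 n10160 = n11629 := rfl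
theorem F45731 : act 0 n11629 = n10176 := d7_1 D11629 (iv D10176) (iv F39722)
theorem F45732 : act 3 n11629 = n11629 := d25_1 D11629 (iv D11629) F39723
theorem F45733 : act 4 n11629 = n10161 := d29_1 D11629 (iv D10161) D10160
theorem F45734 : act 5 n11629 = n11629 := d32_1 D11629 (iv D11629) F39724
def n11630 : Q := act 1 n10162
theorem D11630 : act 1 n10162 = n11630 := rfl
theorem F45735 : act 0 n11630 = n10892 := d0_1 D11630 F42413 F34979 (iv F44977) (iv F39729)
theorem F45736 : act 3 n11630 = n10166 := d9_2 (iv F39730) D11630 (iv D10166)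
theorem F45737 : act 4 n11630 = n10698 := d10_2 (iv F45015) D11630 F41727
theorem F45738 : act 5 n11630 = n10350 := d11_2 (iv F39731) D11630 F40444
theorem F45739 : act 6 n11630 = n10164 := d12_2 (iv F39732) D11630 (iv D10164)
theorem F45740 : act 8 n11630 = n10406 := d14_2 (iv F39733) D11630 F40634
def n11631 : Q := act 0 n10164
theorem D11631 : act 0 n10164 = n11631 := rfl
theorem F45741 : act 1 n11631 = n10179 := d0_2 D10164 D11631 (iv D10179) (iv D8365) (iv F31790)
theorem F45742 : act 3 n11631 = n10167 := d2_2 (iv F39739) D11631 (iv D10167)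
theorem F45743 : act 5 n11631 = n10509 := d4_2 (iv F39740) D11631 (iv D10509)
theorem F45744 : act 6 n11631 = n10892 := d5_2 F45739 D11631 (iv F45735)
theorem F45745 : act 4 n10899 = n11631 := d27_3 F45744 F42414 D10899
def n11632 : Q := act 4 n10164
theorem D11632 : act 4 n10164 = n11632 := rfl
theorem F45746 : act 0 n11632 = n10899 := d3_1 D11632 F45745 (iv D11631)
theorem F45747 : act 1 n11632 = n10165 := d10_1 D11632 (iv D10165) D10164
theorem F45748 : act 3 n11632 = n11632 := d21_1 D11632 (iv D11632) F39739 F31832 (iv F39739)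
theorem F45749 : act 5 n11632 = n11632 := d26_2 (iv F39740) D11632 (iv D11632) F39740 F33365
theorem F45750 : act 6 n11632 = n10698 := d27_2 F45739 D11632 (iv F45737)
def n11633 : Q := act 0 n10166
theorem D11633 : act 0 n10166 = n11633 := rfl
theorem F45751 : act 1 n11633 = n10181 := d0_2 D10166 D11633 (iv D10181) (iv D8377) (iv F31825)
theorem F45752 : act 2 n11633 = n11421 := d1_2 (iv F39745) D11633 F44318
theorem F45753 : act 3 n11633 = n10892 := d2_2 F45736 D11633 (iv F45735)
theorem F45754 : act 4 n11633 = n11633 := d3_2 F39746 D11633 (iv D11633)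
theorem F45755 : act 5 n11633 = n10225 := d4_2 (iv F39747) D11633 F40003
theorem F45756 : act 6 n11633 = n10167 := d5_2 (iv F39748) D11633 (iv D10167)
theorem F45757 : act 8 n11633 = n10277 := d7_2 (iv F39749) D11633 F40193
def n11634 : Q := act 8 n10168
theorem D11634 : act 8 n10168 = n11634 := rfl
theorem F45758 : act 1 n11634 = n11634 := d14_1 D11634 (iv D11634) F39753
theorem F45759 : act 3 n11634 = n10205 := d25_1 D11634 (iv D10205) (iv F45113)
theorem F45760 : act 4 n11634 = n10169 := d29_1 D11634 (iv D10169) (iv F39755)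
theorem F45761 : act 5 n11634 = n11634 := d32_1 D11634 (iv D11634) F39756
theorem F45762 : act 6 n11634 = n10499 := d34_1 D11634 (iv D10499) (iv F39757)
theorem F45763 : act 7 n11634 = n10176 := d35_1 D11634 (iv D10176) F31862 (iv F38153) D10168
def n11635 : Q := act 8 n10170
theorem D11635 : act 8 n10170 = n11635 := rfl
theorem F45764 : act 1 n11635 = n10399 := d14_1 D11635 (iv D10399) (iv F45039)
theorem F45765 : act 2 n11635 = n10172 := d20_1 D11635 (iv D10172) D10170
theorem F45766 : act 4 n11635 = n10263 := d29_1 D11635 (iv D10263) (iv F45040)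
theorem F45767 : act 5 n11635 = n10260 := d32_1 D11635 (iv D10260) (iv F45041)
theorem F45768 : act 6 n11635 = n10175 := d34_1 D11635 (iv D10175) (iv F39764)
theorem F45769 : act 7 n11635 = n10457 := d35_1 D11635 (iv D10457) (iv D8631) (iv F38187) (iv F39765)
def n11636 : Q := act 8 n10171
theorem D11636 : act 8 n10171 = n11636 := rfl
theorem F45770 : act 1 n11636 = n11636 := d14_1 D11636 (iv D11636) F39766
theorem F45771 : act 2 n11636 = n10263 := d20_1 D11636 (iv D10263) (iv F45106)
theorem F45772 : act 3 n11636 = n11636 := d25_1 D11636 (iv D11636) F39767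
theorem F45773 : act 4 n11636 = n10172 := d29_1 D11636 (iv D10172) D10171
theorem F45774 : act 5 n11636 = n10211 := d32_1 D11636 (iv D10211) (iv F45107)
theorem F45775 : act 6 n11636 = n10176 := d34_1 D11636 (iv D10176) (iv F39769)
theorem F45776 : act 7 n11636 = n10499 := d35_1 D11636 (iv D10499) F33157 (iv F38043) (iv F39770)
def n11637 : Q := act 0 n10173
theorem D11637 : act 0 n10173 = n11637 := rfl
theorem F45777 : act 2 n11637 = n11637 := d1_2 F39776 D11637 (iv D11637)
theorem F45778 : act 4 n11637 = n10378 := d3_2 (iv F45052) D11637 F40547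
theorem F45779 : act 5 n11637 = n10510 := d4_2 (iv F39777) D11637 (iv D10510)
theorem F45780 : act 6 n11637 = n10375 := d5_2 (iv F45053) D11637 F40535
theorem F45781 : act 7 n11637 = n10179 := d6_2 (iv F39778) D11637 (iv D10179)
def n11638 : Q := act 8 n10173
theorem D11638 : act 8 n10173 = n11638 := rfl
theorem F45782 : act 1 n11638 = n10175 := d14_1 D11638 (iv D10175) D10173
theorem F45783 : act 2 n11638 = n11638 := d20_1 D11638 (iv D11638) F39776
theorem F45784 : act 4 n11638 = n10401 := d29_1 D11638 (iv D10401) (iv F45052)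
theorem F45785 : act 5 n11638 = n10511 := d32_1 D11638 (iv D10511) (iv F39777)
theorem F45786 : act 6 n11638 = n10399 := d34_1 D11638 (iv D10399) (iv F45053)
def n11639 : Q := act 8 n10174
theorem D11639 : act 8 n10174 = n11639 := rfl
theorem F45787 : act 1 n11639 = n10401 := d14_1 D11639 (iv D10401) (iv F45109)
theorem F45788 : act 2 n11639 = n10176 := d20_1 D11639 (iv D10176) (iv F39779)
theorem F45789 : act 3 n11639 = n11280 := d25_1 D11639 (iv D11280) (iv F45110)
theorem F45790 : act 4 n11639 = n10175 := d29_1 D11639 (iv D10175) D10174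
theorem F45791 : act 5 n11639 = n11639 := d32_1 D11639 (iv D11639) F39780
theorem F45792 : act 6 n11639 = n10263 := d34_1 D11639 (iv D10263) (iv F45111)
def n11640 : Q := act 7 n10182
theorem D11640 : act 7 n10182 = n11640 := rfl
theorem F45793 : act 0 n11640 = n11640 := d6_1 D11640 (iv D11640) F39810
theorem F45794 : act 1 n11640 = n10189 := d13_1 D11640 (iv D10189) (iv F39811)
theorem F45795 : act 2 n11640 = n11359 := d19_1 D11640 (iv D11359) (iv F39812)
theorem F45796 : act 4 n11640 = n10184 := d28_1 D11640 (iv D10184) D10182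
theorem F45797 : act 5 n11640 = n11640 := d31_1 D11640 (iv D11640) F39813
theorem F45798 : act 6 n11640 = n11094 := d33_1 D11640 F43074 (iv F45132)
def n11641 : Q := act 8 n10184
theorem D11641 : act 8 n10184 = n11641 := rfl
theorem F45799 : act 0 n11641 = n11641 := d7_1 D11641 (iv D11641) F39821
theorem F45800 : act 1 n11641 = n10192 := d14_1 D11641 (iv D10192) (iv F39822)
theorem F45801 : act 2 n11641 = n11362 := d20_1 D11641 (iv D11362) (iv F39823)
theorem F45802 : act 3 n11641 = n11092 := d25_1 D11641 (iv D11092) (iv F45100)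
theorem F45803 : act 5 n11641 = n10186 := d32_1 D11641 (iv D10186) (iv F39824)
theorem F45804 : act 6 n11641 = n11095 := d34_1 D11641 (iv D11095) (iv F45101)
theorem F45805 : act 7 n11641 = n11641 := d35_1 D11641 (iv D11641) (iv D10184) F31990 D10184
def n11642 : Q := act 2 n10185
theorem D11642 : act 2 n10185 = n11642 := rfl
theorem F45806 : act 0 n11642 = n11642 := d1_1 D11642 (iv D11642) F39825
theorem F45807 : act 1 n11642 = n10230 := d8_1 D11642 (iv D10230) F32130 (iv F32009) (iv F39826)
theorem F45808 : act 3 n11642 = n11363 := d15_2 D10185 D11642 (iv D11363) (iv D9967) (iv F31993)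
theorem F45809 : act 5 n11642 = n11086 := d17_2 (iv F45096) D11642 F43043
theorem F45810 : act 6 n11642 = n11642 := d18_2 F39827 D11642 (iv D11642)
theorem F45811 : act 7 n11642 = n10629 := d19_2 (iv F39828) D11642 (iv D10629)
def n11643 : Q := act 4 n10185
theorem D11643 : act 4 n10185 = n11643 := rfl
theorem F45812 : act 0 n11643 = n11643 := d3_1 D11643 (iv D11643) F39825
theorem F45813 : act 1 n11643 = n10193 := d10_1 D11643 (iv D10193) (iv F39826)
theorem F45814 : act 3 n11643 = n11643 := d21_1 D11643 (iv D11643) (iv D10185) F31994 D10185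
theorem F45815 : act 6 n11643 = n11643 := d27_2 F39827 D11643 (iv D11643)
theorem F45816 : act 7 n11643 = n10630 := d28_2 (iv F39828) D11643 (iv D10630)
def n11644 : Q := act 8 n10185
theorem D11644 : act 8 n10185 = n11644 := rfl
theorem F45817 : act 0 n11644 = n11644 := d7_1 D11644 (iv D11644) F39825
theorem F45818 : act 1 n11644 = n10194 := d14_1 D11644 (iv D10194) (iv F39826)
theorem F45819 : act 3 n11644 = n10186 := d25_1 D11644 (iv D10186) D10185
theorem F45820 : act 5 n11644 = n11092 := d32_1 D11644 (iv D11092) (iv F45096)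
theorem F45821 : act 6 n11644 = n11644 := d34_1 D11644 (iv D11644) F39827
theorem F45822 : act 7 n11644 = n11157 := d35_1 D11644 (iv D11157) (iv D9430) (iv F45065) (iv F39828)
def n11645 : Q := act 8 n10189
theorem D11645 : act 8 n10189 = n11645 := rfl
theorem F45823 : act 0 n11645 = n10205 := d7_1 D11645 (iv D10205) (iv F39844)
theorem F45824 : act 2 n11645 = n10198 := d20_1 D11645 (iv D10198) (iv F39845)
theorem F45825 : act 4 n11645 = n10192 := d29_1 D11645 (iv D10192) (iv F39846)
theorem F45826 : act 5 n11645 = n11645 := d32_1 D11645 (iv D11645) F39847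
theorem F45827 : act 6 n11645 = n11116 := d34_1 D11645 (iv D11116) (iv F45102)
theorem F45828 : act 7 n11645 = n11645 := d35_1 D11645 (iv D11645) (iv D10189) F31999 D10189
def n11646 : Q := act 8 n10193
theorem D11646 : act 8 n10193 = n11646 := rfl
theorem F45829 : act 0 n11646 = n10211 := d7_1 D11646 (iv D10211) (iv F39860)
theorem F45830 : act 2 n11646 = n10243 := d20_1 D11646 (iv D10243) (iv F39861)
theorem F45831 : act 3 n11646 = n11646 := d25_1 D11646 (iv D11646) F39862
theorem F45832 : act 4 n11646 = n10194 := d29_1 D11646 (iv D10194) D10193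
theorem F45833 : act 6 n11646 = n11646 := d34_1 D11646 (iv D11646) F39863
theorem F45834 : act 7 n11646 = n11158 := d35_1 D11646 (iv D11158) (iv D9432) (iv F45066) (iv F39864)
def n11647 : Q := act 3 n10196
theorem D11647 : act 3 n10196 = n11647 := rfl
theorem F45835 : act 0 n11647 = n10214 := d2_1 D11647 (iv D10214) (iv F39875)
theorem F45836 : act 1 n11647 = n11380 := d9_1 D11647 (iv D11380) (iv F39876)
theorem F45837 : act 4 n11647 = n10245 := d21_2 (iv F39877) D11647 (iv D10245) F32178 (iv F32028)
theorem F45838 : act 6 n11647 = n10197 := d23_2 (iv F39878) D11647 (iv D10197)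
theorem F45839 : act 7 n11647 = n11647 := d24_2 D10196 D11647 (iv D11647) (iv D10196) F32019
def n11648 : Q := act 8 n10196
theorem D11648 : act 8 n10196 = n11648 := rfl
theorem F45840 : act 0 n11648 = n10215 := d7_1 D11648 (iv D10215) (iv F39875)
theorem F45841 : act 1 n11648 = n11381 := d14_1 D11648 (iv D11381) (iv F39876)
theorem F45842 : act 2 n11648 = n11116 := d20_1 D11648 (iv D11116) (iv F45017)
theorem F45843 : act 4 n11648 = n10199 := d29_1 D11648 (iv D10199) (iv F39877)
theorem F45844 : act 6 n11648 = n10198 := d34_1 D11648 (iv D10198) (iv F39878)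
theorem F45845 : act 7 n11648 = n11648 := d35_1 D11648 (iv D11648) (iv D10196) F32021 D10196
def n11649 : Q := act 2 n10197
theorem D11649 : act 2 n10197 = n11649 := rfl
theorem F45846 : act 0 n11649 = n10216 := d1_1 D11649 (iv D10216) (iv F39879)
theorem F45847 : act 4 n11649 = n10247 := d16_2 (iv F39881) D11649 (iv D10247)
theorem F45848 : act 5 n11649 = n11649 := d17_2 F39882 D11649 (iv D11649)
theorem F45849 : act 7 n11649 = n11649 := d19_2 F39883 D11649 (iv D11649)
def n11650 : Q := act 8 n10197
theorem D11650 : act 8 n10197 = n11650 := rfl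
theorem F45850 : act 0 n11650 = n10217 := d7_1 D11650 (iv D10217) (iv F39879)
theorem F45851 : act 1 n11650 = n11383 := d14_1 D11650 (iv D11383) (iv F39880)
theorem F45852 : act 3 n11650 = n10198 := d25_1 D11650 (iv D10198) D10197
theorem F45853 : act 4 n11650 = n10248 := d29_1 D11650 (iv D10248) (iv F39881)
theorem F45854 : act 5 n11650 = n11650 := d32_1 D11650 (iv D11650) F39882
def n11651 : Q := act 3 n10213
theorem D11651 : act 3 n10213 = n11651 := rfl
theorem F45855 : act 1 n11651 = n10218 := d9_1 D11651 (iv D10218) (iv F39951)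
theorem F45856 : act 2 n11651 = n10752 := d15_1 D11651 (iv D10752) (iv F44913) (iv F38065) (iv F45056)
theorem F45857 : act 5 n11651 = n10214 := d22_2 (iv F39953) D11651 (iv D10214)
theorem F45858 : act 6 n11651 = n11651 := d23_2 F39954 D11651 (iv D11651)
theorem F45859 : act 7 n11651 = n11651 := d24_2 D10213 D11651 (iv D11651) (iv D10213) F32071
theorem F45860 : act 4 n10867 = n11651 := d26_5 F45857 F39956 (iv F39349) (iv F44281) F45185
def n11652 : Q := act 8 n10213
theorem D11652 : act 8 n10213 = n11652 := rfl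
theorem F45861 : act 1 n11652 = n10219 := d14_1 D11652 (iv D10219) (iv F39951)
theorem F45862 : act 2 n11652 = n11139 := d20_1 D11652 (iv D11139) (iv F45056)
theorem F45863 : act 4 n11652 = n11652 := d29_1 D11652 (iv D11652) F39952
theorem F45864 : act 5 n11652 = n10215 := d32_1 D11652 (iv D10215) (iv F39953)
theorem F45865 : act 6 n11652 = n11652 := d34_1 D11652 (iv D11652) F39954
theorem F45866 : act 7 n11652 = n11652 := d35_1 D11652 (iv D11652) (iv D10213) F32074 D10213
def n11653 : Q := act 2 n10214
theorem D11653 : act 2 n10214 = n11653 := rfl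
theorem F45867 : act 1 n11653 = n10973 := d8_1 D11653 (iv F45172) F44560 F39340 (iv F39955)
theorem F45868 : act 3 n11653 = n10456 := d15_2 D10214 D11653 F40792 F33156 F45055
theorem F45869 : act 4 n11653 = n10265 := d16_2 (iv F39956) D11653 (iv D10265)
theorem F45870 : act 5 n11653 = n10752 := d17_2 F45857 D11653 (iv F45856)
theorem F45871 : act 6 n11653 = n10216 := d18_2 (iv F39957) D11653 (iv D10216)
theorem F45872 : act 7 n11653 = n11653 := d19_2 F39958 D11653 (iv D11653)
def n11654 : Q := act 8 n10214
theorem D11654 : act 8 n10214 = n11654 := rfl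
theorem F45873 : act 1 n11654 = n10220 := d14_1 D11654 (iv D10220) (iv F39955)
theorem F45874 : act 3 n11654 = n10215 := d25_1 D11654 (iv D10215) D10214
theorem F45875 : act 4 n11654 = n10266 := d29_1 D11654 (iv D10266) (iv F39956)
theorem F45876 : act 6 n11654 = n10217 := d34_1 D11654 (iv D10217) (iv F39957)
def n11655 : Q := act 1 n10216
theorem D11655 : act 1 n10216 = n11655 := rfl
theorem F45877 : act 2 n11655 = n10221 := d8_2 D10216 D11655 (iv D10221) (iv D8421) (iv F32078)
theorem F45878 : act 3 n11655 = n10972 := d9_2 (iv F45455) D11655 (iv F45450)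
theorem F45879 : act 4 n11655 = n10267 := d10_2 (iv F39963) D11655 (iv D10267)
theorem F45880 : act 5 n11655 = n11655 := d11_2 F39964 D11655 (iv D11655)
theorem F45881 : act 6 n11655 = n10973 := d12_2 F45871 D11655 (iv F45867)
theorem F45882 : act 7 n11655 = n11655 := d13_2 F39965 D11655 (iv D11655)
def n11656 : Q := act 8 n10216
theorem D11656 : act 8 n10216 = n11656 := rfl
theorem F45883 : act 2 n11656 = n10217 := d20_1 D11656 (iv D10217) D10216
theorem F45884 : act 4 n11656 = n10268 := d29_1 D11656 (iv D10268) (iv F39963)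
theorem F45885 : act 5 n11656 = n11656 := d32_1 D11656 (iv D11656) F39964
def n11657 : Q := act 7 n10217
theorem D11657 : act 7 n10217 = n11657 := rfl
theorem F45886 : act 1 n11657 = n10223 := d13_1 D11657 (iv D10223) (iv F39966)
theorem F45887 : act 3 n11657 = n11657 := d24_1 D11657 (iv D11657) F39967 F32085 (iv F39967)
theorem F45888 : act 4 n11657 = n10269 := d28_1 D11657 (iv D10269) (iv F39968)
theorem F45889 : act 5 n11657 = n11657 := d31_1 D11657 (iv D11657) F39969
theorem F45890 : act 8 n11657 = n11657 := d35_2 D10217 D11657 (iv D11657) (iv D10217) F32081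
def n11658 : Q := act 8 n10218
theorem D11658 : act 8 n10218 = n11658 := rfl
theorem F45891 : act 0 n11658 = n11411 := d7_1 D11658 (iv D11411) (iv F39970)
theorem F45892 : act 3 n11658 = n10219 := d25_1 D11658 (iv D10219) D10218
theorem F45893 : act 5 n11658 = n10220 := d32_1 D11658 (iv D10220) (iv F39971)
theorem F45894 : act 6 n11658 = n11658 := d34_1 D11658 (iv D11658) F39972
def n11659 : Q := act 7 n10220
theorem D11659 : act 7 n10220 = n11659 := rfl
theorem F45895 : act 0 n11659 = n11414 := d6_1 D11659 (iv D11414) (iv F39980)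
theorem F45896 : act 3 n11659 = n11659 := d24_1 D11659 (iv D11659) F39981 F32104 (iv F39981)
theorem F45897 : act 4 n11659 = n10270 := d28_1 D11659 (iv D10270) (iv F39982)
theorem F45898 : act 6 n11659 = n10223 := d33_1 D11659 (iv D10223) (iv F39983)
theorem F45899 : act 8 n11659 = n11659 := d35_2 D10220 D11659 (iv D11659) (iv D10220) F32099
def n11660 : Q := act 0 n10221
theorem D11660 : act 0 n10221 = n11660 := rfl
theorem F45900 : act 1 n11660 = n11415 := d0_2 D10221 D11660 (iv D11415) (iv D10004) (iv F32105)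
theorem F45901 : act 3 n11660 = n11660 := d2_2 F39984 D11660 (iv D11660)
theorem F45902 : act 4 n11660 = n10271 := d3_2 (iv F39985) D11660 (iv D10271)
theorem F45903 : act 5 n11660 = n11660 := d4_2 F39986 D11660 (iv D11660)
theorem F45904 : act 7 n11660 = n11660 := d6_2 F39987 D11660 (iv D11660)
def n11661 : Q := act 8 n10221
theorem D11661 : act 8 n10221 = n11661 := rfl
theorem F45905 : act 1 n11661 = n10222 := d14_1 D11661 (iv D10222) D10221
theorem F45906 : act 3 n11661 = n11661 := d25_1 D11661 (iv D11661) F39984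
theorem F45907 : act 4 n11661 = n10272 := d29_1 D11661 (iv D10272) (iv F39985)
theorem F45908 : act 5 n11661 = n11661 := d32_1 D11661 (iv D11661) F39986
def n11662 : Q := act 7 n10222
theorem D11662 : act 7 n10222 = n11662 := rfl
theorem F45909 : act 0 n11662 = n11417 := d6_1 D11662 (iv D11417) (iv F39988)
theorem F45910 : act 2 n11662 = n10223 := d19_1 D11662 (iv D10223) (iv F39989)
theorem F45911 : act 4 n11662 = n10273 := d28_1 D11662 (iv D10273) (iv F39991)
theorem F45912 : act 5 n11662 = n11662 := d31_1 D11662 (iv D11662) F39992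
theorem F45913 : act 8 n11662 = n11662 := d35_2 D10222 D11662 (iv D11662) (iv D10222) F32109
def n11663 : Q := act 2 n10224
theorem D11663 : act 2 n10224 = n11663 := rfl
theorem F45914 : act 0 n11663 = n10349 := d1_1 D11663 (iv D10349) (iv F39998)
theorem F45915 : act 1 n11663 = n11663 := d8_1 D11663 (iv D11663) F39999 F32140 (iv F39999)
theorem F45916 : act 3 n11663 = n11418 := d15_2 D10224 D11663 (iv D11418) (iv D10007) (iv F32116)
theorem F45917 : act 4 n11663 = n10684 := d16_2 (iv F40000) D11663 (iv D10684)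
theorem F45918 : act 5 n11663 = n11243 := d17_2 (iv F40001) D11663 (iv D11243)
theorem F45919 : act 6 n11663 = n10890 := d18_2 (iv F44997) D11663 F42408
theorem F45920 : act 8 n11663 = n10274 := d20_2 (iv F40002) D11663 (iv D10274)
def n11664 : Q := act 7 n10224
theorem D11664 : act 7 n10224 = n11664 := rfl
theorem F45921 : act 0 n11664 = n10351 := d6_1 D11664 (iv D10351) (iv F39998)
theorem F45922 : act 1 n11664 = n10234 := d13_1 D11664 (iv D10234) (iv F39999)
theorem F45923 : act 4 n11664 = n10355 := d28_1 D11664 F44999 (iv F40000)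
theorem F45924 : act 5 n11664 = n11244 := d31_1 D11664 (iv D11244) (iv F40001)
theorem F45925 : act 6 n11664 = n10358 := d33_1 D11664 F40476 (iv F44997)
def n11665 : Q := act 7 n10225
theorem D11665 : act 7 n10225 = n11665 := rfl
theorem F45926 : act 0 n11665 = n10352 := d6_1 D11665 (iv D10352) (iv F40003)
theorem F45927 : act 1 n11665 = n10235 := d13_1 D11665 (iv D10235) (iv F40004)
theorem F45928 : act 2 n11665 = n11422 := d19_1 D11665 (iv D11422) (iv F40005)
theorem F45929 : act 4 n11665 = n10227 := d28_1 D11665 (iv D10227) (iv F40006)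
theorem F45930 : act 6 n11665 = n10226 := d33_1 D11665 (iv D10226) D10225
def n11666 : Q := act 3 n10226
theorem D11666 : act 3 n10226 = n11666 := rfl
theorem F45931 : act 0 n11666 = n10353 := d2_1 D11666 (iv D10353) (iv F40008)
theorem F45932 : act 1 n11666 = n10236 := d9_1 D11666 (iv D10236) (iv F40009)
theorem F45933 : act 5 n11666 = n11245 := d22_2 (iv F40012) D11666 (iv D11245)
def n11667 : Q := act 8 n10226
theorem D11667 : act 8 n10226 = n11667 := rfl
theorem F45934 : act 0 n11667 = n10354 := d7_1 D11667 (iv D10354) (iv F40008)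
theorem F45935 : act 1 n11667 = n10237 := d14_1 D11667 (iv D10237) (iv F40009)
theorem F45936 : act 2 n11667 = n11424 := d20_1 D11667 (iv D11424) (iv F40010)
theorem F45937 : act 4 n11667 = n10229 := d29_1 D11667 (iv D10229) (iv F40011)
theorem F45938 : act 5 n11667 = n11246 := d32_1 D11667 (iv D11246) (iv F40012)
theorem F45939 : act 7 n11667 = n10280 := d35_1 D11667 (iv D10280) (iv D8468) (iv F32118) D10226
def n11668 : Q := act 8 n10227
theorem D11668 : act 8 n10227 = n11668 := rfl
theorem F45940 : act 0 n11668 = n10356 := d7_1 D11668 (iv D10356) (iv F40013)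
theorem F45941 : act 1 n11668 = n10239 := d14_1 D11668 (iv D10239) (iv F40014)
theorem F45942 : act 2 n11668 = n11426 := d20_1 D11668 (iv D11426) (iv F40015)
theorem F45943 : act 3 n11668 = n10880 := d25_1 D11668 (iv D10880) (iv F44888)
theorem F45944 : act 5 n11668 = n11668 := d32_1 D11668 (iv D11668) F40016
theorem F45945 : act 6 n11668 = n10229 := d34_1 D11668 (iv D10229) (iv F40017)
theorem F45946 : act 7 n11668 = n10282 := d35_1 D11668 (iv D10282) (iv D8469) (iv F32124) D10227
def n11669 : Q := act 2 n10228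
theorem D11669 : act 2 n10228 = n11669 := rfl
theorem F45947 : act 0 n11669 = n10357 := d1_1 D11669 (iv D10357) (iv F40018)
theorem F45948 : act 1 n11669 = n11086 := d8_1 D11669 F43043 F35407 F45011 (iv F40019)
theorem F45949 : act 3 n11669 = n11427 := d15_2 D10228 D11669 (iv D11427) (iv D10011) (iv F32127)
theorem F45950 : act 5 n11669 = n10230 := d17_2 (iv F40020) D11669 (iv D10230)
theorem F45951 : act 6 n11669 = n10876 := d18_2 (iv F44995) D11669 F42364
theorem F45952 : act 7 n11669 = n10693 := d19_2 (iv F40021) D11669 (iv D10693)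
def n11670 : Q := act 4 n10228
theorem D11670 : act 4 n10228 = n11670 := rfl
theorem F45953 : act 0 n11670 = n10358 := d3_1 D11670 (iv D10358) (iv F40018)
theorem F45954 : act 1 n11670 = n10240 := d10_1 D11670 (iv D10240) (iv F40019)
theorem F45955 : act 6 n11670 = n10351 := d27_2 (iv F44995) D11670 F40449
theorem F45956 : act 7 n11670 = n10350 := d28_2 (iv F40021) D11670 F44994
def n11671 : Q := act 8 n10228
theorem D11671 : act 8 n10228 = n11671 := rfl
theorem F45957 : act 0 n11671 = n10359 := d7_1 D11671 (iv D10359) (iv F40018)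
theorem F45958 : act 1 n11671 = n10241 := d14_1 D11671 (iv D10241) (iv F40019)
theorem F45959 : act 3 n11671 = n10229 := d25_1 D11671 (iv D10229) D10228
theorem F45960 : act 5 n11671 = n10232 := d32_1 D11671 (iv D10232) (iv F40020)
theorem F45961 : act 6 n11671 = n10880 := d34_1 D11671 (iv D10880) (iv F44995)
theorem F45962 : act 7 n11671 = n10995 := d35_1 D11671 (iv D10995) (iv D9291) (iv F44952) (iv F40021)
def n11672 : Q := act 4 n10230
theorem D11672 : act 4 n10230 = n11672 := rfl
theorem F45963 : act 0 n11672 = n10360 := d3_1 D11672 (iv D10360) (iv F40027)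
theorem F45964 : act 2 n11672 = n10231 := d16_1 D11672 (iv D10231) D10230
theorem F45965 : act 6 n11672 = n11672 := d27_2 F40029 D11672 (iv D11672)
theorem F45966 : act 7 n11672 = n10696 := d28_2 (iv F40030) D11672 (iv D10696)
def n11673 : Q := act 8 n10230
theorem D11673 : act 8 n10230 = n11673 := rfl
theorem F45967 : act 0 n11673 = n10361 := d7_1 D11673 (iv D10361) (iv F40027)
theorem F45968 : act 2 n11673 = n10232 := d20_1 D11673 (iv D10232) D10230
theorem F45969 : act 3 n11673 = n11431 := d25_1 D11673 (iv D11431) (iv F40028)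
theorem F45970 : act 6 n11673 = n11673 := d34_1 D11673 (iv D11673) F40029
def n11674 : Q := act 5 n10231
theorem D11674 : act 5 n10231 = n11674 := rfl
theorem F45971 : act 0 n11674 = n10362 := d4_1 D11674 (iv D10362) (iv F40031)
theorem F45972 : act 1 n11674 = n10242 := d11_1 D11674 (iv D10242) (iv F40032)
theorem F45973 : act 3 n11674 = n11252 := d22_1 D11674 (iv D11252) (iv F40033)
theorem F45974 : act 7 n11674 = n10698 := d31_2 (iv F40035) D11674 (iv D10698)
def n11675 : Q := act 8 n10231
theorem D11675 : act 8 n10231 = n11675 := rfl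
theorem F45975 : act 0 n11675 = n10363 := d7_1 D11675 (iv D10363) (iv F40031)
theorem F45976 : act 1 n11675 = n10243 := d14_1 D11675 (iv D10243) (iv F40032)
theorem F45977 : act 3 n11675 = n11253 := d25_1 D11675 (iv D11253) (iv F40033)
theorem F45978 : act 4 n11675 = n10232 := d29_1 D11675 (iv D10232) D10231
theorem F45979 : act 6 n11675 = n11675 := d34_1 D11675 (iv D11675) F40034
def n11676 : Q := act 7 n10232
theorem D11676 : act 7 n10232 = n11676 := rfl
theorem F45980 : act 0 n11676 = n10364 := d6_1 D11676 (iv D10364) (iv F40036)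
theorem F45981 : act 1 n11676 = n10244 := d13_1 D11676 (iv D10244) (iv F40037)
theorem F45982 : act 3 n11676 = n10290 := d24_1 D11676 (iv D10290) F32318 (iv F32138) (iv F40038)
theorem F45983 : act 5 n11676 = n10995 := d31_1 D11676 (iv F45962) F45960
theorem F45984 : act 6 n11676 = n11676 := d33_1 D11676 (iv D11676) F40039
theorem F45985 : act 8 n11676 = n10700 := d35_2 D10232 D11676 (iv D10700) (iv D9077) (iv F32132)
def n11677 : Q := act 3 n10234
theorem D11677 : act 3 n10234 = n11677 := rfl
theorem F45986 : act 0 n11677 = n10250 := d2_1 D11677 (iv D10250) (iv F40045)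
theorem F45987 : act 4 n11677 = n10368 := d21_2 (iv F45000) D11677 (iv D10368) F32539 D8542
theorem F45988 : act 5 n11677 = n11255 := d22_2 (iv F40048) D11677 (iv D11255)
theorem F45989 : act 6 n11677 = n10371 := d23_2 (iv F45001) D11677 F40522
theorem F45990 : act 7 n11677 = n10236 := d24_2 D10234 D11677 (iv D10236) (iv D8430) D8428
def n11678 : Q := act 8 n10234
theorem D11678 : act 8 n10234 = n11678 := rfl
theorem F45991 : act 0 n11678 = n10251 := d7_1 D11678 (iv D10251) (iv F40045)
theorem F45992 : act 2 n11678 = n11678 := d20_1 D11678 (iv D11678) F40046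
theorem F45993 : act 4 n11678 = n10374 := d29_1 D11678 (iv D10374) (iv F45000)
theorem F45994 : act 5 n11678 = n11256 := d32_1 D11678 (iv D11256) (iv F40048)
theorem F45995 : act 6 n11678 = n10376 := d34_1 D11678 (iv D10376) (iv F45001)
theorem F45996 : act 7 n11678 = n10294 := d35_1 D11678 (iv D10294) (iv D8476) (iv F32143) D10234
def n11679 : Q := act 3 n10235
theorem D11679 : act 3 n10235 = n11679 := rfl
theorem F45997 : act 0 n11679 = n10252 := d2_1 D11679 (iv D10252) (iv F40049)
theorem F45998 : act 4 n11679 = n10366 := d21_2 (iv F40051) D11679 (iv D10366) F32530 F44904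
theorem F45999 : act 6 n11679 = n10236 := d23_2 (iv F40052) D11679 (iv D10236)
theorem F46000 : act 7 n11679 = n10371 := d24_2 D10235 D11679 F40522 F32560 F44894
def n11680 : Q := act 8 n10235
theorem D11680 : act 8 n10235 = n11680 := rfl
theorem F46001 : act 0 n11680 = n10253 := d7_1 D11680 (iv D10253) (iv F40049)
theorem F46002 : act 2 n11680 = n10246 := d20_1 D11680 (iv D10246) (iv F40050)
theorem F46003 : act 4 n11680 = n10239 := d29_1 D11680 (iv D10239) (iv F40051)
theorem F46004 : act 6 n11680 = n10237 := d34_1 D11680 (iv D10237) (iv F40052)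
theorem F46005 : act 7 n11680 = n10297 := d35_1 D11680 (iv D10297) (iv D8478) (iv F32147) D10235
def n11681 : Q := act 2 n10236
theorem D11681 : act 2 n10236 = n11681 := rfl
theorem F46006 : act 0 n11681 = n10254 := d1_1 D11681 (iv D10254) (iv F40053)
theorem F46007 : act 3 n11681 = n10247 := d15_2 D10236 D11681 (iv D10247) (iv D8438) (iv F32149)
theorem F46008 : act 5 n11681 = n11257 := d17_2 (iv F40054) D11681 (iv D11257)
def n11682 : Q := act 4 n10236
theorem D11682 : act 4 n10236 = n11682 := rfl
theorem F46009 : act 0 n11682 = n10255 := d3_1 D11682 (iv D10255) (iv F40053)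
theorem F46010 : act 3 n11682 = n10240 := d21_1 D11682 (iv D10240) (iv D8432) (iv F32150) D10236
theorem F46011 : act 6 n11682 = n10366 := d27_2 F45999 D11682 (iv F45998)
theorem F46012 : act 7 n11682 = n10368 := d28_2 F45990 D11682 (iv F45987)
def n11683 : Q := act 8 n10236
theorem D11683 : act 8 n10236 = n11683 := rfl
theorem F46013 : act 0 n11683 = n10256 := d7_1 D11683 (iv D10256) (iv F40053)
theorem F46014 : act 3 n11683 = n10237 := d25_1 D11683 (iv D10237) D10236
theorem F46015 : act 5 n11683 = n11259 := d32_1 D11683 (iv D11259) (iv F40054)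
def n11684 : Q := act 8 n10240
theorem D11684 : act 8 n10240 = n11684 := rfl
theorem F46016 : act 0 n11684 = n10260 := d7_1 D11684 (iv D10260) (iv F40069)
theorem F46017 : act 2 n11684 = n10496 := d20_1 D11684 (iv D10496) (iv F45012)
theorem F46018 : act 4 n11684 = n10241 := d29_1 D11684 (iv D10241) D10240
theorem F46019 : act 6 n11684 = n10367 := d34_1 D11684 (iv D10367) (iv F45013)
theorem F46020 : act 7 n11684 = n10433 := d35_1 D11684 (iv D10433) (iv D8606) (iv F32527) (iv F45014)
def n11685 : Q := act 8 n10242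
theorem D11685 : act 8 n10242 = n11685 := rfl
theorem F46021 : act 0 n11685 = n10263 := d7_1 D11685 (iv D10263) (iv F40074)
theorem F46022 : act 3 n11685 = n11264 := d25_1 D11685 (iv D11264) (iv F40075)
theorem F46023 : act 5 n11685 = n10243 := d32_1 D11685 (iv D10243) D10242
def n11686 : Q := act 7 n10243
theorem D11686 : act 7 n10243 = n11686 := rfl
theorem F46024 : act 0 n11686 = n10264 := d6_1 D11686 (iv D10264) (iv F40077)
theorem F46025 : act 2 n11686 = n11158 := d19_1 D11686 (iv F45834) F45830
theorem F46026 : act 4 n11686 = n10244 := d28_1 D11686 (iv D10244) (iv F40079)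
theorem F46027 : act 6 n11686 = n11686 := d33_1 D11686 (iv D11686) F40080
theorem F46028 : act 8 n11686 = n10718 := d35_2 D10243 D11686 (iv D10718) (iv D9089) (iv F32166)
def n11687 : Q := act 2 n10245
theorem D11687 : act 2 n10245 = n11687 := rfl
theorem F46029 : act 0 n11687 = n10265 := d1_1 D11687 (iv D10265) (iv F40085)
theorem F46030 : act 6 n11687 = n10247 := d18_2 (iv F40087) D11687 (iv D10247)
theorem F46031 : act 7 n11687 = n11687 := d19_2 F40088 D11687 (iv D11687)
def n11688 : Q := act 8 n10245
theorem D11688 : act 8 n10245 = n11688 := rfl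
theorem F46032 : act 0 n11688 = n10266 := d7_1 D11688 (iv D10266) (iv F40085)
theorem F46033 : act 1 n11688 = n11456 := d14_1 D11688 (iv D11456) (iv F40086)
theorem F46034 : act 3 n11688 = n10246 := d25_1 D11688 (iv D10246) D10245
theorem F46035 : act 6 n11688 = n10248 := d34_1 D11688 (iv D10248) (iv F40087)
def n11689 : Q := act 1 n10247
theorem D11689 : act 1 n10247 = n11689 := rfl
theorem F46036 : act 2 n11689 = n11457 := d8_2 D10247 D11689 (iv D11457) (iv D10032) (iv F32181)
theorem F46037 : act 5 n11689 = n11266 := d11_2 (iv F40095) D11689 (iv D11266)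
theorem F46038 : act 7 n11689 = n11689 := d13_2 F40096 D11689 (iv D11689)
def n11690 : Q := act 8 n10247
theorem D11690 : act 8 n10247 = n11690 := rfl
theorem F46039 : act 0 n11690 = n10268 := d7_1 D11690 (iv D10268) (iv F40094)
theorem F46040 : act 2 n11690 = n10248 := d20_1 D11690 (iv D10248) D10247
theorem F46041 : act 5 n11690 = n11267 := d32_1 D11690 (iv D11267) (iv F40095)
def n11691 : Q := act 7 n10248
theorem D11691 : act 7 n10248 = n11691 := rfl
theorem F46042 : act 0 n11691 = n10269 := d6_1 D11691 (iv D10269) (iv F40097)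
theorem F46043 : act 1 n11691 = n11459 := d13_1 D11691 (iv D11459) (iv F40098)
theorem F46044 : act 3 n11691 = n10314 := d24_1 D11691 (iv D10314) F32379 (iv F32188) (iv F40099)
theorem F46045 : act 5 n11691 = n11268 := d31_1 D11691 (iv D11268) (iv F40100)
theorem F46046 : act 8 n11691 = n11691 := d35_2 D10248 D11691 (iv D11691) (iv D10248) F32183
def n11692 : Q := act 8 n10250
theorem D11692 : act 8 n10250 = n11692 := rfl
theorem F46047 : act 1 n11692 = n10387 := d14_1 D11692 (iv D10387) (iv F40105)
theorem F46048 : act 3 n11692 = n10251 := d25_1 D11692 (iv D10251) D10250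
theorem F46049 : act 4 n11692 = n10389 := d29_1 D11692 (iv D10389) (iv F45047)
theorem F46050 : act 5 n11692 = n11271 := d32_1 D11692 (iv D11271) (iv F40106)
theorem F46051 : act 6 n11692 = n10393 := d34_1 D11692 (iv D10393) (iv F45048)
def n11693 : Q := act 2 n10252
theorem D11693 : act 2 n10252 = n11693 := rfl
theorem F46052 : act 3 n11693 = n10265 := d15_2 D10252 D11693 (iv D10265) (iv D8455) (iv F32209)
theorem F46053 : act 4 n11693 = n10385 := d16_2 (iv F44945) D11693 (iv D10385)
theorem F46054 : act 6 n11693 = n10254 := d18_2 (iv F40114) D11693 (iv D10254)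
theorem F46055 : act 7 n11693 = n10390 := d19_2 (iv F44946) D11693 F40586
def n11694 : Q := act 8 n10252
theorem D11694 : act 8 n10252 = n11694 := rfl
theorem F46056 : act 1 n11694 = n10389 := d14_1 D11694 (iv D10389) (iv F40113)
theorem F46057 : act 3 n11694 = n10253 := d25_1 D11694 (iv D10253) D10252
theorem F46058 : act 4 n11694 = n10387 := d29_1 D11694 (iv D10387) (iv F44945)
theorem F46059 : act 6 n11694 = n10256 := d34_1 D11694 (iv D10256) (iv F40114)
def n11695 : Q := act 1 n10254
theorem D11695 : act 1 n10254 = n11695 := rfl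
theorem F46060 : act 2 n11695 = n10322 := d8_2 D10254 D11695 F40347 (iv D8561) (iv F32212)
theorem F46061 : act 3 n11695 = n10267 := d9_2 (iv F40120) D11695 (iv D10267)
theorem F46062 : act 5 n11695 = n10324 := d11_2 (iv F40121) D11695 F40353
def n11696 : Q := act 8 n10254
theorem D11696 : act 8 n10254 = n11696 := rfl
theorem F46063 : act 2 n11696 = n10256 := d20_1 D11696 (iv D10256) D10254
theorem F46064 : act 3 n11696 = n10268 := d25_1 D11696 (iv D10268) (iv F40120)
theorem F46065 : act 5 n11696 = n11273 := d32_1 D11696 (iv D11273) (iv F40121)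
def n11697 : Q := act 8 n10255
theorem D11697 : act 8 n10255 = n11697 := rfl
theorem F46066 : act 1 n11697 = n10393 := d14_1 D11697 (iv D10393) (iv F40122)
theorem F46067 : act 3 n11697 = n10260 := d25_1 D11697 (iv D10260) (iv F40123)
theorem F46068 : act 4 n11697 = n10256 := d29_1 D11697 (iv D10256) D10255
theorem F46069 : act 6 n11697 = n10387 := d34_1 D11697 (iv D10387) (iv F45042)
def n11698 : Q := act 7 n10256
theorem D11698 : act 7 n10256 = n11698 := rfl
theorem F46070 : act 1 n11698 = n10394 := d13_1 D11698 (iv D10394) (iv F40124)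
theorem F46071 : act 3 n11698 = n10332 := d24_1 D11698 (iv D10332) F32407 (iv F32218) (iv F40125)
theorem F46072 : act 5 n11698 = n11276 := d31_1 D11698 (iv D11276) (iv F40126)
def n11699 : Q := act 7 n10263
theorem D11699 : act 7 n10263 = n11699 := rfl
theorem F46073 : act 1 n11699 = n10402 := d13_1 D11699 (iv D10402) (iv F40147)
theorem F46074 : act 2 n11699 = n10499 := d19_1 D11699 (iv F45776) F45771
theorem F46075 : act 4 n11699 = n10457 := d28_1 D11699 (iv F45769) F45766
theorem F46076 : act 5 n11699 = n10264 := d31_1 D11699 (iv D10264) (iv F40149)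
theorem F46077 : act 8 n11699 = n10456 := d35_2 D10263 D11699 (iv D10456) (iv F45027) (iv F32235)
def n11700 : Q := act 3 n10264
theorem D11700 : act 3 n10264 = n11700 := rfl
theorem F46078 : act 1 n11700 = n10403 := d9_1 D11700 (iv D10403) (iv F40150)
theorem F46079 : act 4 n11700 = n10341 := d21_2 (iv F40151) D11700 (iv D10341) F32437 (iv F32241)
theorem F46080 : act 6 n11700 = n11700 := d23_2 F40152 D11700 (iv D11700)
theorem F46081 : act 7 n11700 = n11282 := d24_2 D10264 D11700 (iv D11282) (iv D9902) (iv F32237)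
theorem F46082 : act 8 n11700 = n10752 := d25_2 (iv F40153) D11700 (iv D10752)
def n11701 : Q := act 8 n10265
theorem D11701 : act 8 n10265 = n11701 := rfl
theorem F46083 : act 2 n11701 = n10266 := d20_1 D11701 (iv D10266) D10265
theorem F46084 : act 6 n11701 = n10268 := d34_1 D11701 (iv D10268) (iv F40154)
def n11702 : Q := act 7 n10266
theorem D11702 : act 7 n10266 = n11702 := rfl
theorem F46085 : act 1 n11702 = n10270 := d13_1 D11702 (iv D10270) (iv F40156)
theorem F46086 : act 3 n11702 = n10343 := d24_1 D11702 (iv D10343) F32450 (iv F32254) (iv F40157)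
theorem F46087 : act 6 n11702 = n10269 := d33_1 D11702 (iv D10269) (iv F40158)
theorem F46088 : act 8 n11702 = n11702 := d35_2 D10266 D11702 (iv D11702) (iv D10266) F32250
def n11703 : Q := act 0 n10267
theorem D11703 : act 0 n10267 = n11703 := rfl
theorem F46089 : act 2 n11703 = n10271 := d1_2 (iv F40159) D11703 (iv D10271)
theorem F46090 : act 5 n11703 = n10310 := d4_2 (iv F40160) D11703 F40310
theorem F46091 : act 7 n11703 = n11703 := d6_2 F40161 D11703 (iv D11703)
def n11704 : Q := act 8 n10267
theorem D11704 : act 8 n10267 = n11704 := rfl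
theorem F46092 : act 1 n11704 = n10268 := d14_1 D11704 (iv D10268) D10267
theorem F46093 : act 2 n11704 = n10272 := d20_1 D11704 (iv D10272) (iv F40159)
theorem F46094 : act 5 n11704 = n10342 := d32_1 D11704 (iv D10342) (iv F40160)
def n11705 : Q := act 7 n10268
theorem D11705 : act 7 n10268 = n11705 := rfl
theorem F46095 : act 2 n11705 = n10269 := d19_1 D11705 (iv D10269) (iv F40162)
theorem F46096 : act 5 n11705 = n11283 := d31_1 D11705 (iv D11283) (iv F40163)
theorem F46097 : act 8 n11705 = n11705 := d35_2 D10268 D11705 (iv D11705) (iv D10268) F32256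
def n11706 : Q := act 8 n10271
theorem D11706 : act 8 n10271 = n11706 := rfl
theorem F46098 : act 0 n11706 = n10272 := d7_1 D11706 (iv D10272) D10271
theorem F46099 : act 1 n11706 = n11501 := d14_1 D11706 (iv D11501) (iv F40172)
theorem F46100 : act 3 n11706 = n10309 := d25_1 D11706 (iv D10309) (iv F40173)
theorem F46101 : act 5 n11706 = n10311 := d32_1 D11706 (iv D10311) (iv F40174)
def n11707 : Q := act 7 n10272
theorem D11707 : act 7 n10272 = n11707 := rfl
theorem F46102 : act 1 n11707 = n10273 := d13_1 D11707 (iv D10273) (iv F40176)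
theorem F46103 : act 5 n11707 = n10343 := d31_1 D11707 (iv D10343) (iv F40178)
theorem F46104 : act 8 n11707 = n11707 := d35_2 D10272 D11707 (iv D11707) (iv D10272) F32279
def n11708 : Q := act 6 n10274
theorem D11708 : act 6 n10274 = n11708 := rfl
theorem F46105 : act 0 n11708 = n10404 := d5_1 D11708 (iv D10404) (iv F40183)
theorem F46106 : act 1 n11708 = n11708 := d12_1 D11708 (iv D11708) F40184
theorem F46107 : act 2 n11708 = n10275 := d18_1 D11708 (iv D10275) D10274
theorem F46108 : act 4 n11708 = n10772 := d27_1 D11708 (iv D10772) (iv F40185)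
theorem F46109 : act 8 n11708 = n10890 := d34_2 F45920 D11708 (iv F45919)
def n11709 : Q := act 7 n10274
theorem D11709 : act 7 n10274 = n11709 := rfl
theorem F46110 : act 0 n11709 = n10405 := d6_1 D11709 (iv D10405) (iv F40183)
theorem F46111 : act 1 n11709 = n11709 := d13_1 D11709 (iv D11709) F40184
theorem F46112 : act 2 n11709 = n10276 := d19_1 D11709 (iv D10276) D10274
theorem F46113 : act 4 n11709 = n10773 := d28_1 D11709 (iv D10773) (iv F40185)
def n11710 : Q := act 5 n10275
theorem D11710 : act 5 n10275 = n11710 := rfl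
theorem F46114 : act 0 n11710 = n10406 := d4_1 D11710 (iv D10406) (iv F40186)
theorem F46115 : act 1 n11710 = n10291 := d11_1 D11710 (iv D10291) (iv F40187)
theorem F46116 : act 3 n11710 = n10277 := d22_1 D11710 (iv D10277) (iv F40188)
theorem F46117 : act 4 n11710 = n10900 := d26_1 D11710 F42438 F34931 F44882 (iv F40189)
theorem F46118 : act 8 n11710 = n10892 := d32_2 (iv F44885) D11710 (iv D10892)
def n11711 : Q := act 7 n10275
theorem D11711 : act 7 n10275 = n11711 := rfl
theorem F46119 : act 0 n11711 = n10407 := d6_1 D11711 (iv D10407) (iv F40186)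
theorem F46120 : act 1 n11711 = n10292 := d13_1 D11711 (iv D10292) (iv F40187)
theorem F46121 : act 4 n11711 = n10775 := d28_1 D11711 (iv D10775) (iv F40189)
theorem F46122 : act 6 n11711 = n10276 := d33_1 D11711 (iv D10276) D10275
def n11712 : Q := act 3 n10276
theorem D11712 : act 3 n10276 = n11712 := rfl
theorem F46123 : act 0 n11712 = n10408 := d2_1 D11712 (iv D10408) (iv F40190)
theorem F46124 : act 1 n11712 = n10293 := d9_1 D11712 (iv D10293) (iv F40191)
theorem F46125 : act 7 n11712 = n10279 := d24_2 D10276 D11712 (iv D10279) (iv D8468) D8466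
def n11713 : Q := act 8 n10276
theorem D11713 : act 8 n10276 = n11713 := rfl
theorem F46126 : act 0 n11713 = n10409 := d7_1 D11713 (iv D10409) (iv F40190)
theorem F46127 : act 1 n11713 = n10294 := d14_1 D11713 (iv D10294) (iv F40191)
theorem F46128 : act 4 n11713 = n10777 := d29_1 D11713 (iv D10777) (iv F40192)
def n11714 : Q := act 7 n10277
theorem D11714 : act 7 n10277 = n11714 := rfl
theorem F46129 : act 0 n11714 = n10381 := d6_1 D11714 F40564 (iv F40193)
theorem F46130 : act 1 n11714 = n10295 := d13_1 D11714 (iv D10295) (iv F40194)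
theorem F46131 : act 2 n11714 = n11559 := d19_1 D11714 F45446 (iv F40195)
theorem F46132 : act 4 n11714 = n11714 := d28_1 D11714 (iv D11714) F40196
theorem F46133 : act 5 n11714 = n10278 := d31_1 D11714 (iv D10278) D10277
def n11715 : Q := act 3 n10278
theorem D11715 : act 3 n10278 = n11715 := rfl
theorem F46134 : act 0 n11715 = n10410 := d2_1 D11715 (iv D10410) (iv F40197)
theorem F46135 : act 1 n11715 = n10296 := d9_1 D11715 (iv D10296) (iv F40198)
theorem F46136 : act 6 n11715 = n10279 := d23_2 (iv F40200) D11715 (iv D10279)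
def n11716 : Q := act 8 n10278
theorem D11716 : act 8 n10278 = n11716 := rfl
theorem F46137 : act 0 n11716 = n10411 := d7_1 D11716 (iv D10411) (iv F40197)
theorem F46138 : act 1 n11716 = n10297 := d14_1 D11716 (iv D10297) (iv F40198)
theorem F46139 : act 4 n11716 = n10282 := d29_1 D11716 (iv D10282) (iv F40199)
theorem F46140 : act 6 n11716 = n10280 := d34_1 D11716 (iv D10280) (iv F40200)
def n11717 : Q := act 2 n10279
theorem D11717 : act 2 n10279 = n11717 := rfl
theorem F46141 : act 0 n11717 = n10412 := d1_1 D11717 (iv D10412) (iv F40201)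
def n11718 : Q := act 4 n10279
theorem D11718 : act 4 n10279 = n11718 := rfl
theorem F46142 : act 0 n11718 = n10413 := d3_1 D11718 (iv D10413) (iv F40201)
theorem F46143 : act 1 n11718 = n10299 := d10_1 D11718 (iv D10299) (iv F40202)
theorem F46144 : act 3 n11718 = n10284 := d21_1 D11718 (iv D10284) (iv D8470) (iv F32296) D10279
def n11719 : Q := act 8 n10279
theorem D11719 : act 8 n10279 = n11719 := rfl
theorem F46145 : act 0 n11719 = n10414 := d7_1 D11719 (iv D10414) (iv F40201)
theorem F46146 : act 1 n11719 = n10300 := d14_1 D11719 (iv D10300) (iv F40202)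
theorem F46147 : act 3 n11719 = n10280 := d25_1 D11719 (iv D10280) D10279
def n11720 : Q := act 2 n10281
theorem D11720 : act 2 n10281 = n11720 := rfl
theorem F46148 : act 0 n11720 = n10415 := d1_1 D11720 (iv D10415) (iv F40206)
theorem F46149 : act 1 n11720 = n11720 := d8_1 D11720 (iv D11720) F40207 F32339 (iv F40207)
theorem F46150 : act 5 n11720 = n11720 := d17_2 F40208 D11720 (iv D11720)
theorem F46151 : act 6 n11720 = n10283 := d18_2 (iv F40209) D11720 (iv D10283)
theorem F46152 : act 7 n11720 = n10784 := d19_2 (iv F40210) D11720 (iv D10784)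
def n11721 : Q := act 4 n10281
theorem D11721 : act 4 n10281 = n11721 := rfl
theorem F46153 : act 0 n11721 = n10416 := d3_1 D11721 (iv D10416) (iv F40206)
theorem F46154 : act 1 n11721 = n10301 := d10_1 D11721 (iv D10301) (iv F40207)
theorem F46155 : act 6 n11721 = n10284 := d27_2 (iv F40209) D11721 (iv D10284)
theorem F46156 : act 7 n11721 = n10785 := d28_2 (iv F40210) D11721 (iv D10785)
def n11722 : Q := act 8 n10281
theorem D11722 : act 8 n10281 = n11722 := rfl
theorem F46157 : act 0 n11722 = n10417 := d7_1 D11722 (iv D10417) (iv F40206)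
theorem F46158 : act 1 n11722 = n10302 := d14_1 D11722 (iv D10302) (iv F40207)
theorem F46159 : act 3 n11722 = n10282 := d25_1 D11722 (iv D10282) D10281
theorem F46160 : act 5 n11722 = n11722 := d32_1 D11722 (iv D11722) F40208
theorem F46161 : act 6 n11722 = n10285 := d34_1 D11722 (iv D10285) (iv F40209)
theorem F46162 : act 7 n11722 = n10998 := d35_1 D11722 (iv D10998) F35175 F44699 (iv F40210)
def n11723 : Q := act 4 n10283
theorem D11723 : act 4 n10283 = n11723 := rfl
theorem F46163 : act 0 n11723 = n10418 := d3_1 D11723 (iv D10418) (iv F40215)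
theorem F46164 : act 1 n11723 = n11723 := d10_1 D11723 (iv D11723) F40216
theorem F46165 : act 2 n11723 = n10284 := d16_1 D11723 (iv D10284) D10283
theorem F46166 : act 7 n11723 = n10787 := d28_2 (iv F40218) D11723 (iv D10787)
def n11724 : Q := act 8 n10283
theorem D11724 : act 8 n10283 = n11724 := rfl
theorem F46167 : act 0 n11724 = n10419 := d7_1 D11724 (iv D10419) (iv F40215)
theorem F46168 : act 1 n11724 = n11724 := d14_1 D11724 (iv D11724) F40216
theorem F46169 : act 2 n11724 = n10285 := d20_1 D11724 (iv D10285) D10283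
theorem F46170 : act 5 n11724 = n10287 := d32_1 D11724 (iv D10287) (iv F40217)
def n11725 : Q := act 5 n10284
theorem D11725 : act 5 n10284 = n11725 := rfl
theorem F46171 : act 0 n11725 = n10420 := d4_1 D11725 (iv D10420) (iv F40219)
theorem F46172 : act 1 n11725 = n10303 := d11_1 D11725 (iv D10303) (iv F40220)
theorem F46173 : act 4 n11725 = n10288 := d26_1 D11725 (iv D10288) (iv D8473) (iv F32303) D10284
theorem F46174 : act 7 n11725 = n10789 := d31_2 (iv F40221) D11725 (iv D10789)
def n11726 : Q := act 8 n10284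
theorem D11726 : act 8 n10284 = n11726 := rfl
theorem F46175 : act 0 n11726 = n10421 := d7_1 D11726 (iv D10421) (iv F40219)
theorem F46176 : act 1 n11726 = n10304 := d14_1 D11726 (iv D10304) (iv F40220)
theorem F46177 : act 4 n11726 = n10285 := d29_1 D11726 (iv D10285) D10284
def n11727 : Q := act 7 n10285
theorem D11727 : act 7 n10285 = n11727 := rfl
theorem F46178 : act 0 n11727 = n10422 := d6_1 D11727 (iv D10422) (iv F40222)
theorem F46179 : act 1 n11727 = n10305 := d13_1 D11727 (iv D10305) (iv F40223)
theorem F46180 : act 3 n11727 = n10995 := d24_1 D11727 (iv F45962) F45959 F40026 (iv F40224)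
theorem F46181 : act 5 n11727 = n10290 := d31_1 D11727 (iv D10290) (iv F40225)
theorem F46182 : act 6 n11727 = n10998 := d33_1 D11727 (iv F46162) F46161
theorem F46183 : act 8 n11727 = n10791 := d35_2 D10285 D11727 (iv D10791) (iv D9141) (iv F32304)
def n11728 : Q := act 3 n10286
theorem D11728 : act 3 n10286 = n11728 := rfl
theorem F46184 : act 0 n11728 = n10423 := d2_1 D11728 (iv D10423) (iv F40226)
theorem F46185 : act 1 n11728 = n11728 := d9_1 D11728 (iv D11728) F40227
theorem F46186 : act 6 n11728 = n11728 := d23_2 F40229 D11728 (iv D11728)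
def n11729 : Q := act 5 n10286
theorem D11729 : act 5 n10286 = n11729 := rfl
theorem F46187 : act 0 n11729 = n10424 := d4_1 D11729 (iv D10424) (iv F40226)
theorem F46188 : act 1 n11729 = n11729 := d11_1 D11729 (iv D11729) F40227
theorem F46189 : act 2 n11729 = n10288 := d17_1 D11729 (iv D10288) (iv F40228)
theorem F46190 : act 7 n11729 = n10793 := d31_2 (iv F40230) D11729 (iv D10793)
def n11730 : Q := act 8 n10286
theorem D11730 : act 8 n10286 = n11730 := rfl
theorem F46191 : act 0 n11730 = n10425 := d7_1 D11730 (iv D10425) (iv F40226)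
theorem F46192 : act 1 n11730 = n11730 := d14_1 D11730 (iv D11730) F40227
theorem F46193 : act 2 n11730 = n10289 := d20_1 D11730 (iv D10289) (iv F40228)
theorem F46194 : act 4 n11730 = n10287 := d29_1 D11730 (iv D10287) D10286
theorem F46195 : act 6 n11730 = n11730 := d34_1 D11730 (iv D11730) F40229
def n11731 : Q := act 7 n10287
theorem D11731 : act 7 n10287 = n11731 := rfl
theorem F46196 : act 0 n11731 = n10426 := d6_1 D11731 (iv D10426) (iv F40231)
theorem F46197 : act 1 n11731 = n11731 := d13_1 D11731 (iv D11731) F40232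
theorem F46198 : act 2 n11731 = n10290 := d19_1 D11731 (iv D10290) (iv F40233)
theorem F46199 : act 6 n11731 = n11731 := d33_1 D11731 (iv D11731) F40234
theorem F46200 : act 8 n11731 = n10795 := d35_2 D10287 D11731 (iv D10795) (iv D9143) (iv F32311)
def n11732 : Q := act 6 n10288
theorem D11732 : act 6 n10288 = n11732 := rfl
theorem F46201 : act 0 n11732 = n10427 := d5_1 D11732 (iv D10427) (iv F40235)
theorem F46202 : act 1 n11732 = n10306 := d12_1 D11732 (iv D10306) (iv F40236)
theorem F46203 : act 5 n11732 = n11732 := d30_1 D11732 (iv D11732) (iv D10288) F32314 D10288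
theorem F46204 : act 7 n11732 = n10796 := d33_2 (iv F40237) D11732 (iv D10796)
def n11733 : Q := act 8 n10288
theorem D11733 : act 8 n10288 = n11733 := rfl
theorem F46205 : act 0 n11733 = n10428 := d7_1 D11733 (iv D10428) (iv F40235)
theorem F46206 : act 1 n11733 = n10307 := d14_1 D11733 (iv D10307) (iv F40236)
theorem F46207 : act 5 n11733 = n10289 := d32_1 D11733 (iv D10289) D10288
def n11734 : Q := act 7 n10289
theorem D11734 : act 7 n10289 = n11734 := rfl
theorem F46208 : act 0 n11734 = n10429 := d6_1 D11734 (iv D10429) (iv F40238)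
theorem F46209 : act 1 n11734 = n10308 := d13_1 D11734 (iv D10308) (iv F40239)
theorem F46210 : act 4 n11734 = n10290 := d28_1 D11734 (iv D10290) (iv F40240)
theorem F46211 : act 6 n11734 = n11734 := d33_1 D11734 (iv D11734) F40241
theorem F46212 : act 8 n11734 = n10798 := d35_2 D10289 D11734 (iv D10798) (iv D9145) (iv F32315)
def n11735 : Q := act 7 n10291
theorem D11735 : act 7 n10291 = n11735 := rfl
theorem F46213 : act 0 n11735 = n10316 := d6_1 D11735 (iv D10316) (iv F40246)
theorem F46214 : act 2 n11735 = n11735 := d19_1 D11735 (iv D11735) F40247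
theorem F46215 : act 4 n11735 = n10927 := d28_1 D11735 (iv D10927) (iv F44892)
theorem F46216 : act 5 n11735 = n10292 := d31_1 D11735 (iv D10292) D10291
def n11736 : Q := act 3 n10292
theorem D11736 : act 3 n10292 = n11736 := rfl
theorem F46217 : act 0 n11736 = n10317 := d2_1 D11736 (iv D10317) (iv F40249)
theorem F46218 : act 4 n11736 = n11052 := d21_2 (iv F40251) D11736 (iv D11052) F35311 (iv F44744)
theorem F46219 : act 6 n11736 = n10293 := d23_2 (iv F40252) D11736 (iv D10293)
theorem F46220 : act 7 n11736 = n10296 := d24_2 D10292 D11736 (iv D10296) (iv D8478) (iv F32322)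
def n11737 : Q := act 8 n10292
theorem D11737 : act 8 n10292 = n11737 := rfl
theorem F46221 : act 0 n11737 = n10318 := d7_1 D11737 (iv D10318) (iv F40249)
theorem F46222 : act 2 n11737 = n11737 := d20_1 D11737 (iv D11737) F40250
theorem F46223 : act 4 n11737 = n10377 := d29_1 D11737 F44793 (iv F40251)
theorem F46224 : act 6 n11737 = n10294 := d34_1 D11737 (iv D10294) (iv F40252)
theorem F46225 : act 7 n11737 = n10376 := d35_1 D11737 (iv D10376) F32560 F44895 D10292
def n11738 : Q := act 2 n10293
theorem D11738 : act 2 n10293 = n11738 := rfl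
theorem F46226 : act 0 n11738 = n10319 := d1_1 D11738 (iv D10319) (iv F40253)
theorem F46227 : act 3 n11738 = n11738 := d15_2 D10293 D11738 (iv D11738) (iv D10293) F32325
theorem F46228 : act 7 n11738 = n10298 := d19_2 (iv F40254) D11738 (iv D10298)
def n11739 : Q := act 4 n10293
theorem D11739 : act 4 n10293 = n11739 := rfl
theorem F46229 : act 0 n11739 = n10320 := d3_1 D11739 (iv D10320) (iv F40253)
theorem F46230 : act 3 n11739 = n10804 := d21_1 D11739 (iv D10804) (iv D9149) (iv F32326) D10293
theorem F46231 : act 6 n11739 = n11052 := d27_2 F46219 D11739 (iv F46218)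
theorem F46232 : act 7 n11739 = n10299 := d28_2 (iv F40254) D11739 (iv D10299)
def n11740 : Q := act 8 n10293
theorem D11740 : act 8 n10293 = n11740 := rfl
theorem F46233 : act 0 n11740 = n10321 := d7_1 D11740 (iv D10321) (iv F40253)
theorem F46234 : act 3 n11740 = n10294 := d25_1 D11740 (iv D10294) D10293
def n11741 : Q := act 3 n10295
theorem D11741 : act 3 n10295 = n11741 := rfl
theorem F46235 : act 0 n11741 = n10322 := d2_1 D11741 (iv D10322) (iv F40258)
theorem F46236 : act 5 n11741 = n10296 := d22_2 (iv F40261) D11741 (iv D10296)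
def n11742 : Q := act 8 n10295
theorem D11742 : act 8 n10295 = n11742 := rfl
theorem F46237 : act 0 n11742 = n10323 := d7_1 D11742 (iv D10323) (iv F40258)
theorem F46238 : act 2 n11742 = n10309 := d20_1 D11742 (iv D10309) (iv F40259)
theorem F46239 : act 4 n11742 = n11742 := d29_1 D11742 (iv D11742) F40260
theorem F46240 : act 5 n11742 = n10297 := d32_1 D11742 (iv D10297) (iv F40261)
def n11743 : Q := act 2 n10296
theorem D11743 : act 2 n10296 = n11743 := rfl
theorem F46241 : act 0 n11743 = n10324 := d1_1 D11743 (iv D10324) (iv F40262)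
theorem F46242 : act 3 n11743 = n10310 := d15_2 D10296 D11743 (iv D10310) (iv D8489) (iv F32331)
theorem F46243 : act 6 n11743 = n10298 := d18_2 (iv F40263) D11743 (iv D10298)
def n11744 : Q := act 4 n10296
theorem D11744 : act 4 n10296 = n11744 := rfl
theorem F46244 : act 0 n11744 = n10325 := d3_1 D11744 (iv D10325) (iv F40262)
theorem F46245 : act 3 n11744 = n10301 := d21_1 D11744 (iv D10301) (iv D8481) (iv F32332) D10296
theorem F46246 : act 6 n11744 = n10299 := d27_2 (iv F40263) D11744 (iv D10299)
theorem F46247 : act 7 n11744 = n11052 := d28_2 F46220 D11744 (iv F46218)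
def n11745 : Q := act 8 n10296
theorem D11745 : act 8 n10296 = n11745 := rfl
theorem F46248 : act 0 n11745 = n10326 := d7_1 D11745 (iv D10326) (iv F40262)
theorem F46249 : act 3 n11745 = n10297 := d25_1 D11745 (iv D10297) D10296
theorem F46250 : act 6 n11745 = n10300 := d34_1 D11745 (iv D10300) (iv F40263)
def n11746 : Q := act 1 n10298
theorem D11746 : act 1 n10298 = n11746 := rfl
theorem F46251 : act 3 n11746 = n10312 := d9_2 (iv F40269) D11746 (iv D10312)
def n11747 : Q := act 4 n10298
theorem D11747 : act 4 n10298 = n11747 := rfl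
theorem F46252 : act 0 n11747 = n10328 := d3_1 D11747 (iv D10328) (iv F40268)
theorem F46253 : act 2 n11747 = n10299 := d16_1 D11747 (iv D10299) D10298
theorem F46254 : act 3 n11747 = n11747 := d21_1 D11747 (iv D11747) F40269 F32376 (iv F40269)
def n11748 : Q := act 8 n10298
theorem D11748 : act 8 n10298 = n11748 := rfl
theorem F46255 : act 0 n11748 = n10329 := d7_1 D11748 (iv D10329) (iv F40268)
theorem F46256 : act 2 n11748 = n10300 := d20_1 D11748 (iv D10300) D10298
theorem F46257 : act 3 n11748 = n10313 := d25_1 D11748 (iv D10313) (iv F40269)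
def n11749 : Q := act 5 n10299
theorem D11749 : act 5 n10299 = n11749 := rfl
theorem F46258 : act 0 n11749 = n10330 := d4_1 D11749 (iv D10330) (iv F40270)
theorem F46259 : act 3 n11749 = n10303 := d22_1 D11749 (iv D10303) (iv F40271)
def n11750 : Q := act 8 n10299
theorem D11750 : act 8 n10299 = n11750 := rfl
theorem F46260 : act 0 n11750 = n10331 := d7_1 D11750 (iv D10331) (iv F40270)
theorem F46261 : act 3 n11750 = n10304 := d25_1 D11750 (iv D10304) (iv F40271)
theorem F46262 : act 4 n11750 = n10300 := d29_1 D11750 (iv D10300) D10299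
def n11751 : Q := act 7 n10300
theorem D11751 : act 7 n10300 = n11751 := rfl
theorem F46263 : act 0 n11751 = n10332 := d6_1 D11751 (iv D10332) (iv F40272)
def n11752 : Q := act 5 n10301
theorem D11752 : act 5 n10301 = n11752 := rfl
theorem F46264 : act 0 n11752 = n10333 := d4_1 D11752 (iv D10333) (iv F40274)
theorem F46265 : act 2 n11752 = n11752 := d17_1 D11752 (iv D11752) F40275
theorem F46266 : act 4 n11752 = n11752 := d26_1 D11752 (iv D11752) (iv D10301) F32340 D10301
theorem F46267 : act 7 n11752 = n10817 := d31_2 (iv F40277) D11752 (iv D10817)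
def n11753 : Q := act 8 n10301
theorem D11753 : act 8 n10301 = n11753 := rfl
theorem F46268 : act 0 n11753 = n10334 := d7_1 D11753 (iv D10334) (iv F40274)
theorem F46269 : act 2 n11753 = n11753 := d20_1 D11753 (iv D11753) F40275
theorem F46270 : act 4 n11753 = n10302 := d29_1 D11753 (iv D10302) D10301
theorem F46271 : act 6 n11753 = n10304 := d34_1 D11753 (iv D10304) (iv F40276)
theorem F46272 : act 7 n11753 = n11037 := d35_1 D11753 (iv D11037) F35258 F44667 (iv F40277)
def n11754 : Q := act 6 n10303
theorem D11754 : act 6 n10303 = n11754 := rfl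
theorem F46273 : act 0 n11754 = n10336 := d5_1 D11754 (iv D10336) (iv F40283)
theorem F46274 : act 2 n11754 = n11754 := d18_1 D11754 (iv D11754) F40284
theorem F46275 : act 4 n11754 = n10306 := d27_1 D11754 (iv D10306) (iv F40285)
theorem F46276 : act 7 n11754 = n10820 := d33_2 (iv F40286) D11754 (iv D10820)
def n11755 : Q := act 8 n10303
theorem D11755 : act 8 n10303 = n11755 := rfl
theorem F46277 : act 0 n11755 = n10337 := d7_1 D11755 (iv D10337) (iv F40283)
theorem F46278 : act 2 n11755 = n11755 := d20_1 D11755 (iv D11755) F40284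
theorem F46279 : act 4 n11755 = n10307 := d29_1 D11755 (iv D10307) (iv F40285)
theorem F46280 : act 5 n11755 = n10304 := d32_1 D11755 (iv D10304) D10303
def n11756 : Q := act 7 n10304
theorem D11756 : act 7 n10304 = n11756 := rfl
theorem F46281 : act 0 n11756 = n10338 := d6_1 D11756 (iv D10338) (iv F40287)
theorem F46282 : act 2 n11756 = n11756 := d19_1 D11756 (iv D11756) F40288
theorem F46283 : act 4 n11756 = n10305 := d28_1 D11756 (iv D10305) (iv F40289)
theorem F46284 : act 6 n11756 = n11037 := d33_1 D11756 (iv F46272) F46271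
theorem F46285 : act 8 n11756 = n10822 := d35_2 D10304 D11756 (iv D10822) (iv D9160) (iv F32349)
def n11757 : Q := act 8 n10306
theorem D11757 : act 8 n10306 = n11757 := rfl
theorem F46286 : act 0 n11757 = n10339 := d7_1 D11757 (iv D10339) (iv F40294)
theorem F46287 : act 2 n11757 = n11757 := d20_1 D11757 (iv D11757) F40295
theorem F46288 : act 5 n11757 = n11757 := d32_1 D11757 (iv D11757) F40296
theorem F46289 : act 6 n11757 = n10307 := d34_1 D11757 (iv D10307) D10306
def n11758 : Q := act 7 n10307
theorem D11758 : act 7 n10307 = n11758 := rfl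
theorem F46290 : act 0 n11758 = n10340 := d6_1 D11758 (iv D10340) (iv F40298)
theorem F46291 : act 2 n11758 = n11758 := d19_1 D11758 (iv D11758) F40299
theorem F46292 : act 5 n11758 = n10308 := d31_1 D11758 (iv D10308) (iv F40300)
theorem F46293 : act 8 n11758 = n10824 := d35_2 D10307 D11758 (iv D10824) (iv D9163) (iv F32356)
def n11759 : Q := act 3 n10308
theorem D11759 : act 3 n10308 = n11759 := rfl
theorem F46294 : act 0 n11759 = n10341 := d2_1 D11759 (iv D10341) (iv F40301)
theorem F46295 : act 6 n11759 = n11759 := d23_2 F40304 D11759 (iv D11759)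
theorem F46296 : act 8 n11759 = n10825 := d25_2 (iv F40305) D11759 (iv D10825)
def n11760 : Q := act 1 n10310
theorem D11760 : act 1 n10310 = n11760 := rfl
theorem F46297 : act 0 n11760 = n11266 := d0_1 D11760 (iv D11266) F38740 F38611 (iv F40310)
theorem F46298 : act 4 n11760 = n11760 := d10_2 F40311 D11760 (iv D11760)
theorem F46299 : act 6 n11760 = n10312 := d12_2 (iv F40312) D11760 (iv D10312)
theorem F46300 : act 7 n11760 = n11760 := d13_2 F40313 D11760 (iv D11760)
def n11761 : Q := act 8 n10310
theorem D11761 : act 8 n10310 = n11761 := rfl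
theorem F46301 : act 0 n11761 = n10342 := d7_1 D11761 (iv D10342) (iv F40310)
theorem F46302 : act 2 n11761 = n10311 := d20_1 D11761 (iv D10311) D10310
theorem F46303 : act 4 n11761 = n11761 := d29_1 D11761 (iv D11761) F40311
theorem F46304 : act 6 n11761 = n10313 := d34_1 D11761 (iv D10313) (iv F40312)
def n11762 : Q := act 7 n10311
theorem D11762 : act 7 n10311 = n11762 := rfl
theorem F46305 : act 0 n11762 = n10343 := d6_1 D11762 (iv D10343) (iv F40314)
theorem F46306 : act 4 n11762 = n11762 := d28_1 D11762 (iv D11762) F40316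
theorem F46307 : act 6 n11762 = n10314 := d33_1 D11762 (iv D10314) (iv F40317)
theorem F46308 : act 8 n11762 = n11762 := d35_2 D10311 D11762 (iv D11762) (iv D10311) F32371
def n11763 : Q := act 0 n10312
theorem D11763 : act 0 n10312 = n11763 := rfl
theorem F46309 : act 1 n11763 = n10344 := d0_2 D10312 D11763 (iv D10344) (iv D8515) (iv F32375)
theorem F46310 : act 2 n11763 = n11760 := d1_2 F43766 D11763 F46297
theorem F46311 : act 4 n11763 = n11763 := d3_2 F40318 D11763 (iv D11763)
theorem F46312 : act 6 n11763 = n11266 := d5_2 F46299 D11763 (iv F46297)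
theorem F46313 : act 7 n11763 = n11763 := d6_2 F40319 D11763 (iv D11763)
def n11764 : Q := act 8 n10312
theorem D11764 : act 8 n10312 = n11764 := rfl
theorem F46314 : act 1 n11764 = n10313 := d14_1 D11764 (iv D10313) D10312
theorem F46315 : act 4 n11764 = n11764 := d29_1 D11764 (iv D11764) F40318
def n11765 : Q := act 7 n10313
theorem D11765 : act 7 n10313 = n11765 := rfl
theorem F46316 : act 0 n11765 = n10346 := d6_1 D11765 (iv D10346) (iv F40320)
theorem F46317 : act 2 n11765 = n10314 := d19_1 D11765 (iv D10314) (iv F40321)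
theorem F46318 : act 4 n11765 = n11765 := d28_1 D11765 (iv D11765) F40322
theorem F46319 : act 8 n11765 = n11765 := d35_2 D10313 D11765 (iv D11765) (iv D10313) F32377
def n11766 : Q := act 3 n10316
theorem D11766 : act 3 n10316 = n11766 := rfl
theorem F46320 : act 1 n11766 = n10385 := d9_1 D11766 F40575 (iv F40330)
theorem F46321 : act 5 n11766 = n10317 := d22_2 (iv F40332) D11766 (iv D10317)
theorem F46322 : act 7 n11766 = n10322 := d24_2 D10316 D11766 (iv D10322) (iv D8497) (iv F32383)
def n11767 : Q := act 8 n10316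
theorem D11767 : act 8 n10316 = n11767 := rfl
theorem F46323 : act 1 n11767 = n10457 := d14_1 D11767 (iv D10457) (iv F40330)
theorem F46324 : act 2 n11767 = n11767 := d20_1 D11767 (iv D11767) F40331
theorem F46325 : act 4 n11767 = n10402 := d29_1 D11767 F40623 (iv F44825)
theorem F46326 : act 5 n11767 = n10318 := d32_1 D11767 (iv D10318) (iv F40332)
theorem F46327 : act 7 n11767 = n10399 := d35_1 D11767 (iv D10399) F32639 F44943 D10316
def n11768 : Q := act 2 n10317
theorem D11768 : act 2 n10317 = n11768 := rfl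
theorem F46328 : act 1 n11768 = n11269 := d8_1 D11768 (iv D11269) F38747 F38626 (iv F40333)
theorem F46329 : act 3 n11768 = n11768 := d15_2 D10317 D11768 (iv D11768) (iv D10317) F32385
theorem F46330 : act 4 n11768 = n11080 := d16_2 (iv F44824) D11768 (iv D11080)
theorem F46331 : act 6 n11768 = n10319 := d18_2 (iv F40334) D11768 (iv D10319)
theorem F46332 : act 7 n11768 = n10324 := d19_2 (iv F40335) D11768 (iv D10324)
def n11769 : Q := act 8 n10317
theorem D11769 : act 8 n10317 = n11769 := rfl
theorem F46333 : act 1 n11769 = n10459 := d14_1 D11769 (iv D10459) (iv F40333)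
theorem F46334 : act 3 n11769 = n10318 := d25_1 D11769 (iv D10318) D10317
theorem F46335 : act 4 n11769 = n10483 := d29_1 D11769 F40865 (iv F44824)
theorem F46336 : act 6 n11769 = n10321 := d34_1 D11769 (iv D10321) (iv F40334)
def n11770 : Q := act 1 n10319
theorem D11770 : act 1 n10319 = n11770 := rfl
theorem F46337 : act 2 n11770 = n10460 := d8_2 D10319 D11770 (iv D10460) (iv D8634) (iv F32388)
theorem F46338 : act 3 n11770 = n11770 := d9_2 F40340 D11770 (iv D11770)
theorem F46339 : act 6 n11770 = n11269 := d12_2 F46331 D11770 (iv F46328)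
theorem F46340 : act 7 n11770 = n10327 := d13_2 (iv F40341) D11770 (iv D10327)
def n11771 : Q := act 4 n10319
theorem D11771 : act 4 n10319 = n11771 := rfl
theorem F46341 : act 2 n11771 = n10320 := d16_1 D11771 (iv D10320) D10319
theorem F46342 : act 6 n11771 = n11080 := d27_2 F46331 D11771 (iv F46330)
theorem F46343 : act 7 n11771 = n10328 := d28_2 (iv F40341) D11771 (iv D10328)
theorem F46344 : act 3 n11201 = n11771 := d23_3 F46342 F43026 (iv F43511)
def n11772 : Q := act 8 n10319
theorem D11772 : act 8 n10319 = n11772 := rfl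
theorem F46345 : act 2 n11772 = n10321 := d20_1 D11772 (iv D10321) D10319
theorem F46346 : act 3 n11772 = n11772 := d25_1 D11772 (iv D11772) F40340
def n11773 : Q := act 5 n10320
theorem D11773 : act 5 n10320 = n11773 := rfl
theorem F46347 : act 1 n11773 = n10463 := d11_1 D11773 (iv D10463) (iv F40342)
theorem F46348 : act 3 n11773 = n10842 := d22_1 D11773 (iv D10842) (iv F40343)
theorem F46349 : act 7 n11773 = n10330 := d31_2 (iv F40344) D11773 (iv D10330)
def n11774 : Q := act 8 n10320
theorem D11774 : act 8 n10320 = n11774 := rfl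
theorem F46350 : act 1 n11774 = n10464 := d14_1 D11774 (iv D10464) (iv F40342)
theorem F46351 : act 3 n11774 = n10480 := d25_1 D11774 F44727 (iv F40343)
theorem F46352 : act 4 n11774 = n10321 := d29_1 D11774 (iv D10321) D10320
theorem F46353 : act 6 n11774 = n10483 := d34_1 D11774 F40865 (iv F44725)
def n11775 : Q := act 7 n10321
theorem D11775 : act 7 n10321 = n11775 := rfl
theorem F46354 : act 1 n11775 = n10465 := d13_1 D11775 (iv D10465) (iv F40345)
theorem F46355 : act 8 n11775 = n10332 := d35_2 D10321 D11775 (iv D10332) (iv D8502) (iv F32389)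
def n11776 : Q := act 4 n10322
theorem D11776 : act 4 n10322 = n11776 := rfl
theorem F46356 : act 1 n11776 = n10390 := d10_1 D11776 (iv D10390) (iv F40347)
theorem F46357 : act 3 n11776 = n11776 := d21_1 D11776 (iv D11776) (iv D10322) F32395 D10322
def n11777 : Q := act 8 n10322
theorem D11777 : act 8 n10322 = n11777 := rfl
theorem F46358 : act 1 n11777 = n10391 := d14_1 D11777 (iv D10391) (iv F40347)
theorem F46359 : act 3 n11777 = n10323 := d25_1 D11777 (iv D10323) D10322
theorem F46360 : act 5 n11777 = n10326 := d32_1 D11777 (iv D10326) (iv F40348)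
def n11778 : Q := act 4 n10324
theorem D11778 : act 4 n10324 = n11778 := rfl
theorem F46361 : act 1 n11778 = n11272 := d10_1 D11778 (iv D11272) (iv F40353)
theorem F46362 : act 2 n11778 = n10325 := d16_1 D11778 (iv D10325) D10324
theorem F46363 : act 3 n11778 = n11778 := d21_1 D11778 (iv D11778) F40354 F32446 (iv F40354)
theorem F46364 : act 6 n11778 = n10328 := d27_2 (iv F40355) D11778 (iv D10328)
theorem F46365 : act 7 n11778 = n11080 := d28_2 F46332 D11778 (iv F46330)
def n11779 : Q := act 8 n10324
theorem D11779 : act 8 n10324 = n11779 := rfl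
theorem F46366 : act 1 n11779 = n11273 := d14_1 D11779 (iv D11273) (iv F40353)
theorem F46367 : act 2 n11779 = n10326 := d20_1 D11779 (iv D10326) D10324
theorem F46368 : act 3 n11779 = n10342 := d25_1 D11779 (iv D10342) (iv F40354)
theorem F46369 : act 6 n11779 = n10329 := d34_1 D11779 (iv D10329) (iv F40355)
def n11780 : Q := act 5 n10325
theorem D11780 : act 5 n10325 = n11780 := rfl
theorem F46370 : act 1 n11780 = n10466 := d11_1 D11780 (iv D10466) (iv F40356)
theorem F46371 : act 3 n11780 = n10333 := d22_1 D11780 (iv D10333) (iv F40357)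
theorem F46372 : act 7 n11780 = n11079 := d31_2 (iv F44683) D11780 F43025
def n11781 : Q := act 8 n10325
theorem D11781 : act 8 n10325 = n11781 := rfl
theorem F46373 : act 1 n11781 = n10467 := d14_1 D11781 (iv D10467) (iv F40356)
theorem F46374 : act 3 n11781 = n10334 := d25_1 D11781 (iv D10334) (iv F40357)
theorem F46375 : act 4 n11781 = n10326 := d29_1 D11781 (iv D10326) D10325
theorem F46376 : act 6 n11781 = n10331 := d34_1 D11781 (iv D10331) (iv F40358)
def n11782 : Q := act 7 n10326
theorem D11782 : act 7 n10326 = n11782 := rfl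
theorem F46377 : act 1 n11782 = n10468 := d13_1 D11782 (iv D10468) (iv F40359)
theorem F46378 : act 6 n11782 = n10332 := d33_1 D11782 (iv D10332) (iv F40361)
def n11783 : Q := act 0 n10327
theorem D11783 : act 0 n10327 = n11783 := rfl
theorem F46379 : act 2 n11783 = n10469 := d1_2 (iv F40362) D11783 (iv D10469)
theorem F46380 : act 3 n11783 = n10344 := d2_2 (iv F40363) D11783 (iv D10344)
theorem F46381 : act 6 n11783 = n11257 := d5_2 (iv F40364) D11783 F43737
def n11784 : Q := act 4 n10327
theorem D11784 : act 4 n10327 = n11784 := rfl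
theorem F46382 : act 1 n11784 = n10328 := d10_1 D11784 (iv D10328) D10327
theorem F46383 : act 2 n11784 = n10470 := d16_1 D11784 (iv D10470) (iv F40362)
theorem F46384 : act 3 n11784 = n11784 := d21_1 D11784 (iv D11784) F40363 F32454 (iv F40363)
theorem F46385 : act 6 n11784 = n11272 := d27_2 (iv F40364) D11784 (iv D11272)
def n11785 : Q := act 8 n10327
theorem D11785 : act 8 n10327 = n11785 := rfl
theorem F46386 : act 1 n11785 = n10329 := d14_1 D11785 (iv D10329) D10327
theorem F46387 : act 2 n11785 = n10471 := d20_1 D11785 (iv D10471) (iv F40362)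
theorem F46388 : act 3 n11785 = n10345 := d25_1 D11785 (iv D10345) (iv F40363)
theorem F46389 : act 6 n11785 = n11273 := d34_1 D11785 (iv D11273) (iv F40364)
def n11786 : Q := act 5 n10328
theorem D11786 : act 5 n10328 = n11786 := rfl
theorem F46390 : act 2 n11786 = n10330 := d17_1 D11786 (iv D10330) (iv F40365)
theorem F46391 : act 3 n11786 = n11786 := d22_1 D11786 (iv D11786) F40366
def n11787 : Q := act 8 n10328
theorem D11787 : act 8 n10328 = n11787 := rfl
theorem F46392 : act 2 n11787 = n10331 := d20_1 D11787 (iv D10331) (iv F40365)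
theorem F46393 : act 3 n11787 = n11787 := d25_1 D11787 (iv D11787) F40366
theorem F46394 : act 4 n11787 = n10329 := d29_1 D11787 (iv D10329) D10328
def n11788 : Q := act 7 n10329
theorem D11788 : act 7 n10329 = n11788 := rfl
theorem F46395 : act 2 n11788 = n10332 := d19_1 D11788 (iv D10332) (iv F40367)
def n11789 : Q := act 6 n10330
theorem D11789 : act 6 n10330 = n11789 := rfl
theorem F46396 : act 1 n11789 = n10475 := d12_1 D11789 (iv D10475) (iv F40369)
theorem F46397 : act 3 n11789 = n10336 := d23_1 D11789 (iv D10336) (iv F40370)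
def n11790 : Q := act 8 n10330
theorem D11790 : act 8 n10330 = n11790 := rfl
theorem F46398 : act 1 n11790 = n10476 := d14_1 D11790 (iv D10476) (iv F40369)
theorem F46399 : act 3 n11790 = n10337 := d25_1 D11790 (iv D10337) (iv F40370)
theorem F46400 : act 5 n11790 = n10331 := d32_1 D11790 (iv D10331) D10330
def n11791 : Q := act 7 n10331
theorem D11791 : act 7 n10331 = n11791 := rfl
theorem F46401 : act 1 n11791 = n10477 := d13_1 D11791 (iv D10477) (iv F40371)
theorem F46402 : act 4 n11791 = n10332 := d28_1 D11791 (iv D10332) (iv F40373)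
def n11792 : Q := act 6 n10333
theorem D11792 : act 6 n10333 = n11792 := rfl
theorem F46403 : act 1 n11792 = n10478 := d12_1 D11792 (iv D10478) (iv F40375)
theorem F46404 : act 2 n11792 = n11792 := d18_1 D11792 (iv D11792) F40376
theorem F46405 : act 4 n11792 = n11792 := d27_1 D11792 (iv D11792) F40377
theorem F46406 : act 5 n11792 = n10336 := d30_1 D11792 (iv D10336) (iv D8505) (iv F32410) D10333
theorem F46407 : act 7 n11792 = n10859 := d33_2 (iv F40378) D11792 (iv D10859)
def n11793 : Q := act 8 n10333
theorem D11793 : act 8 n10333 = n11793 := rfl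
theorem F46408 : act 1 n11793 = n10479 := d14_1 D11793 (iv D10479) (iv F40375)
theorem F46409 : act 2 n11793 = n11793 := d20_1 D11793 (iv D11793) F40376
theorem F46410 : act 4 n11793 = n11793 := d29_1 D11793 (iv D11793) F40377
theorem F46411 : act 5 n11793 = n10334 := d32_1 D11793 (iv D10334) D10333
theorem F46412 : act 7 n11793 = n11064 := d35_1 D11793 (iv D11064) F35341 F44659 (iv F40378)
def n11794 : Q := act 8 n10336
theorem D11794 : act 8 n10336 = n11794 := rfl
theorem F46413 : act 1 n11794 = n10481 := d14_1 D11794 (iv D10481) (iv F40388)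
theorem F46414 : act 2 n11794 = n11794 := d20_1 D11794 (iv D11794) F40389
theorem F46415 : act 4 n11794 = n10339 := d29_1 D11794 (iv D10339) (iv F40390)
theorem F46416 : act 6 n11794 = n10337 := d34_1 D11794 (iv D10337) D10336
def n11795 : Q := act 7 n10337
theorem D11795 : act 7 n10337 = n11795 := rfl
theorem F46417 : act 1 n11795 = n10482 := d13_1 D11795 (iv D10482) (iv F40392)
theorem F46418 : act 2 n11795 = n11795 := d19_1 D11795 (iv D11795) F40393
theorem F46419 : act 4 n11795 = n10340 := d28_1 D11795 (iv D10340) (iv F40394)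
theorem F46420 : act 5 n11795 = n10338 := d31_1 D11795 (iv D10338) (iv F40395)
theorem F46421 : act 8 n11795 = n10863 := d35_2 D10337 D11795 (iv D10863) (iv D9193) (iv F32420)
def n11796 : Q := act 3 n10338
theorem D11796 : act 3 n10338 = n11796 := rfl
theorem F46422 : act 1 n11796 = n10483 := d9_1 D11796 (iv D10483) (iv F40396)
theorem F46423 : act 4 n11796 = n10459 := d21_2 (iv F40398) D11796 F40802 F32857 F44810
theorem F46424 : act 6 n11796 = n10464 := d23_2 (iv F44719) D11796 F40816
theorem F46425 : act 8 n11796 = n10458 := d25_2 (iv F40399) D11796 F44718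
theorem F46426 : act 2 n11314 = n11796 := d20_3 F46425 F40797 D11314
def n11797 : Q := act 7 n10339
theorem D11797 : act 7 n10339 = n11797 := rfl
theorem F46427 : act 1 n11797 = n10484 := d13_1 D11797 (iv D10484) (iv F40400)
theorem F46428 : act 2 n11797 = n11797 := d19_1 D11797 (iv D11797) F40401
theorem F46429 : act 5 n11797 = n11797 := d31_1 D11797 (iv D11797) F40402
theorem F46430 : act 6 n11797 = n10340 := d33_1 D11797 (iv D10340) (iv F40403)
theorem F46431 : act 8 n11797 = n10865 := d35_2 D10339 D11797 (iv D10865) (iv D9195) (iv F32431)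
def n11798 : Q := act 3 n10340
theorem D11798 : act 3 n10340 = n11798 := rfl
theorem F46432 : act 1 n11798 = n10485 := d9_1 D11798 (iv D10485) (iv F40404)
theorem F46433 : act 5 n11798 = n10341 := d22_2 (iv F40406) D11798 (iv D10341)
theorem F46434 : act 8 n11798 = n10866 := d25_2 (iv F40407) D11798 (iv D10866)
def n11799 : Q := act 2 n10341
theorem D11799 : act 2 n10341 = n11799 := rfl
theorem F46435 : act 3 n11799 = n11799 := d15_2 D10341 D11799 (iv D11799) (iv D10341) F32436
theorem F46436 : act 6 n11799 = n11799 := d18_2 F40409 D11799 (iv D11799)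
theorem F46437 : act 8 n11799 = n10867 := d20_2 (iv F40410) D11799 (iv D10867)
def n11800 : Q := act 7 n10342
theorem D11800 : act 7 n10342 = n11800 := rfl
theorem F46438 : act 1 n11800 = n11283 := d13_1 D11800 (iv D11283) (iv F40411)
theorem F46439 : act 2 n11800 = n10343 := d19_1 D11800 (iv D10343) (iv F40412)
theorem F46440 : act 4 n11800 = n11800 := d28_1 D11800 (iv D11800) F40413
theorem F46441 : act 6 n11800 = n10346 := d33_1 D11800 (iv D10346) (iv F40414)
theorem F46442 : act 8 n11800 = n11800 := d35_2 D10342 D11800 (iv D11800) (iv D10342) F32448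
def n11801 : Q := act 8 n10344
theorem D11801 : act 8 n10344 = n11801 := rfl
theorem F46443 : act 0 n11801 = n10345 := d7_1 D11801 (iv D10345) D10344
theorem F46444 : act 2 n11801 = n10347 := d20_1 D11801 (iv D10347) (iv F40419)
theorem F46445 : act 4 n11801 = n11801 := d29_1 D11801 (iv D11801) F40420
theorem F46446 : act 6 n11801 = n11267 := d34_1 D11801 (iv D11267) (iv F40421)
def n11802 : Q := act 7 n10345
theorem D11802 : act 7 n10345 = n11802 := rfl
theorem F46447 : act 1 n11802 = n10346 := d13_1 D11802 (iv D10346) (iv F40423)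
theorem F46448 : act 2 n11802 = n10348 := d19_1 D11802 (iv D10348) (iv F40424)
theorem F46449 : act 4 n11802 = n11802 := d28_1 D11802 (iv D11802) F40425
theorem F46450 : act 6 n11802 = n11283 := d33_1 D11802 (iv D11283) (iv F40426)
theorem F46451 : act 8 n11802 = n11802 := d35_2 D10345 D11802 (iv D11802) (iv D10345) F32455
def n11803 : Q := act 3 n10346
theorem D11803 : act 3 n10346 = n11803 := rfl
theorem F46452 : act 8 n11803 = n11803 := d25_2 F40429 D11803 (iv D11803)
def n11804 : Q := act 7 n10347
theorem D11804 : act 7 n10347 = n11804 := rfl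
theorem F46453 : act 0 n11804 = n10348 := d6_1 D11804 (iv D10348) (iv F40430)
theorem F46454 : act 1 n11804 = n11762 := d13_1 D11804 (iv D11762) (iv F40431)
theorem F46455 : act 4 n11804 = n11804 := d28_1 D11804 (iv D11804) F40433
theorem F46456 : act 6 n11804 = n11268 := d33_1 D11804 (iv D11268) (iv F40434)
theorem F46457 : act 8 n11804 = n11804 := d35_2 D10347 D11804 (iv D11804) (iv D10347) F32482
def n11805 : Q := act 6 n10349
theorem D11805 : act 6 n10349 = n11805 := rfl
theorem F46458 : act 0 n11805 = n10890 := d5_1 D11805 (iv F45919) F45914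
theorem F46459 : act 1 n11805 = n10488 := d12_1 D11805 (iv D10488) (iv F40439)
theorem F46460 : act 2 n11805 = n10350 := d18_1 D11805 (iv D10350) D10349
theorem F46461 : act 3 n11805 = n11503 := d23_1 D11805 (iv D11503) (iv F40440)
theorem F46462 : act 4 n11805 = n10693 := d27_1 D11805 F44991 (iv F40441)
theorem F46463 : act 8 n11805 = n10404 := d34_2 (iv F40443) D11805 (iv D10404)
def n11806 : Q := act 7 n10349
theorem D11806 : act 7 n10349 = n11806 := rfl
theorem F46464 : act 1 n11806 = n10489 := d13_1 D11806 (iv D10489) (iv F40439)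
theorem F46465 : act 2 n11806 = n10351 := d19_1 D11806 (iv D10351) D10349
theorem F46466 : act 4 n11806 = n10876 := d28_1 D11806 (iv D10876) (iv F40441)
theorem F46467 : act 5 n11806 = n11284 := d31_1 D11806 (iv D11284) (iv F40442)
def n11807 : Q := act 3 n10351
theorem D11807 : act 3 n10351 = n11807 := rfl
theorem F46468 : act 1 n11807 = n10366 := d9_1 D11807 (iv D10366) (iv F40448)
theorem F46469 : act 5 n11807 = n11285 := d22_2 (iv F40450) D11807 (iv D11285)
theorem F46470 : act 7 n11807 = n10353 := d24_2 D10351 D11807 (iv D10353) (iv D8529) D8527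
def n11808 : Q := act 8 n10351
theorem D11808 : act 8 n10351 = n11808 := rfl
theorem F46471 : act 1 n11808 = n10367 := d14_1 D11808 (iv D10367) (iv F40448)
theorem F46472 : act 4 n11808 = n10880 := d29_1 D11808 (iv D10880) (iv F40449)
theorem F46473 : act 5 n11808 = n11286 := d32_1 D11808 (iv D11286) (iv F40450)
theorem F46474 : act 7 n11808 = n10409 := d35_1 D11808 (iv D10409) (iv D8590) (iv F32492) D10351
def n11809 : Q := act 3 n10352
theorem D11809 : act 3 n10352 = n11809 := rfl
theorem F46475 : act 1 n11809 = n10368 := d9_1 D11809 (iv D10368) (iv F40451)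
theorem F46476 : act 6 n11809 = n10353 := d23_2 (iv F40454) D11809 (iv D10353)
def n11810 : Q := act 8 n10352
theorem D11810 : act 8 n10352 = n11810 := rfl
theorem F46477 : act 1 n11810 = n10369 := d14_1 D11810 (iv D10369) (iv F40451)
theorem F46478 : act 2 n11810 = n11511 := d20_1 D11810 (iv D11511) (iv F40452)
theorem F46479 : act 4 n11810 = n10356 := d29_1 D11810 (iv D10356) (iv F40453)
theorem F46480 : act 6 n11810 = n10354 := d34_1 D11810 (iv D10354) (iv F40454)
theorem F46481 : act 7 n11810 = n10411 := d35_1 D11810 (iv D10411) (iv D8592) (iv F32496) D10352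
def n11811 : Q := act 2 n10353
theorem D11811 : act 2 n10353 = n11811 := rfl
theorem F46482 : act 3 n11811 = n11512 := d15_2 D10353 D11811 (iv D11512) (iv D10072) (iv F32498)
theorem F46483 : act 5 n11811 = n11287 := d17_2 (iv F40456) D11811 (iv D11287)
def n11812 : Q := act 4 n10353
theorem D11812 : act 4 n10353 = n11812 := rfl
theorem F46484 : act 1 n11812 = n10371 := d10_1 D11812 (iv D10371) (iv F40455)
theorem F46485 : act 3 n11812 = n10358 := d21_1 D11812 (iv D10358) (iv D8531) (iv F32499) D10353
def n11813 : Q := act 8 n10353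
theorem D11813 : act 8 n10353 = n11813 := rfl
theorem F46486 : act 1 n11813 = n10372 := d14_1 D11813 (iv D10372) (iv F40455)
theorem F46487 : act 3 n11813 = n10354 := d25_1 D11813 (iv D10354) D10353
theorem F46488 : act 5 n11813 = n11289 := d32_1 D11813 (iv D11289) (iv F40456)
def n11814 : Q := act 2 n10355
theorem D11814 : act 2 n10355 = n11814 := rfl
theorem F46489 : act 0 n11814 = n10876 := d1_1 D11814 F42364 (iv F44998)
theorem F46490 : act 1 n11814 = n11814 := d8_1 D11814 (iv D11814) F40462 F32549 (iv F40462)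
theorem F46491 : act 3 n11814 = n11515 := d15_2 D10355 D11814 (iv D11515) (iv D10074) (iv F32502)
theorem F46492 : act 5 n11814 = n11814 := d17_2 F40463 D11814 (iv D11814)
theorem F46493 : act 6 n11814 = n10357 := d18_2 (iv F40464) D11814 (iv D10357)
theorem F46494 : act 7 n11814 = n10684 := d19_2 (iv F44999) D11814 (iv D10684)
def n11815 : Q := act 8 n10355
theorem D11815 : act 8 n10355 = n11815 := rfl
theorem F46495 : act 0 n11815 = n10880 := d7_1 D11815 (iv D10880) (iv F44998)
theorem F46496 : act 1 n11815 = n10374 := d14_1 D11815 (iv D10374) (iv F40462)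
theorem F46497 : act 3 n11815 = n10356 := d25_1 D11815 (iv D10356) D10355
theorem F46498 : act 5 n11815 = n11815 := d32_1 D11815 (iv D11815) F40463
theorem F46499 : act 6 n11815 = n10359 := d34_1 D11815 (iv D10359) (iv F40464)
theorem F46500 : act 7 n11815 = n10777 := d35_1 D11815 (iv D10777) (iv D9132) (iv F34380) (iv F44999)
def n11816 : Q := act 4 n10357
theorem D11816 : act 4 n10357 = n11816 := rfl
theorem F46501 : act 1 n11816 = n11816 := d10_1 D11816 (iv D11816) F40471
theorem F46502 : act 2 n11816 = n10358 := d16_1 D11816 (iv D10358) D10357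
theorem F46503 : act 7 n11816 = n10890 := d28_2 (iv F40474) D11816 (iv D10890)
def n11817 : Q := act 8 n10357
theorem D11817 : act 8 n10357 = n11817 := rfl
theorem F46504 : act 1 n11817 = n11817 := d14_1 D11817 (iv D11817) F40471
theorem F46505 : act 2 n11817 = n10359 := d20_1 D11817 (iv D10359) D10357
theorem F46506 : act 3 n11817 = n11519 := d25_1 D11817 (iv D11519) (iv F40472)
theorem F46507 : act 5 n11817 = n10361 := d32_1 D11817 (iv D10361) (iv F40473)
def n11818 : Q := act 5 n10358
theorem D11818 : act 5 n10358 = n11818 := rfl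
theorem F46508 : act 1 n11818 = n10375 := d11_1 D11818 (iv D10375) (iv F40475)
theorem F46509 : act 4 n11818 = n10362 := d26_1 D11818 (iv D10362) (iv D8534) (iv F32506) D10358
theorem F46510 : act 7 n11818 = n10892 := d31_2 (iv F40476) D11818 (iv D10892)
def n11819 : Q := act 8 n10358
theorem D11819 : act 8 n10358 = n11819 := rfl
theorem F46511 : act 1 n11819 = n10376 := d14_1 D11819 (iv D10376) (iv F40475)
theorem F46512 : act 4 n11819 = n10359 := d29_1 D11819 (iv D10359) D10358
def n11820 : Q := act 7 n10359
theorem D11820 : act 7 n10359 = n11820 := rfl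
theorem F46513 : act 0 n11820 = n10995 := d6_1 D11820 (iv F45962) F45957
theorem F46514 : act 1 n11820 = n10377 := d13_1 D11820 (iv D10377) (iv F40477)
theorem F46515 : act 3 n11820 = n10422 := d24_1 D11820 (iv D10422) F32750 (iv F32511) (iv F40478)
theorem F46516 : act 5 n11820 = n10364 := d31_1 D11820 (iv D10364) (iv F40479)
theorem F46517 : act 6 n11820 = n10777 := d33_1 D11820 (iv F46500) F46499
theorem F46518 : act 8 n11820 = n10775 := d35_2 D10359 D11820 (iv D10775) (iv F44886) (iv F32507)
def n11821 : Q := act 3 n10360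
theorem D11821 : act 3 n10360 = n11821 := rfl
theorem F46519 : act 1 n11821 = n11821 := d9_1 D11821 (iv D11821) F40480
theorem F46520 : act 2 n11821 = n11295 := d15_1 D11821 (iv D11295) F38804 (iv F32517) (iv F40481)
theorem F46521 : act 4 n11821 = n11523 := d21_2 D10360 D11821 (iv D11523) (iv D10079) (iv F32513)
theorem F46522 : act 6 n11821 = n11821 := d23_2 F40482 D11821 (iv D11821)
def n11822 : Q := act 5 n10360
theorem D11822 : act 5 n10360 = n11822 := rfl
theorem F46523 : act 1 n11822 = n11822 := d11_1 D11822 (iv D11822) F40480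
theorem F46524 : act 2 n11822 = n10362 := d17_1 D11822 (iv D10362) (iv F40481)
theorem F46525 : act 7 n11822 = n10896 := d31_2 (iv F40483) D11822 (iv D10896)
def n11823 : Q := act 8 n10360
theorem D11823 : act 8 n10360 = n11823 := rfl
theorem F46526 : act 1 n11823 = n11823 := d14_1 D11823 (iv D11823) F40480
theorem F46527 : act 2 n11823 = n10363 := d20_1 D11823 (iv D10363) (iv F40481)
theorem F46528 : act 4 n11823 = n10361 := d29_1 D11823 (iv D10361) D10360
theorem F46529 : act 6 n11823 = n11823 := d34_1 D11823 (iv D11823) F40482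
def n11824 : Q := act 7 n10361
theorem D11824 : act 7 n10361 = n11824 := rfl
theorem F46530 : act 1 n11824 = n11824 := d13_1 D11824 (iv D11824) F40484
theorem F46531 : act 2 n11824 = n10364 := d19_1 D11824 (iv D10364) (iv F40485)
theorem F46532 : act 6 n11824 = n11824 := d33_1 D11824 (iv D11824) F40487
theorem F46533 : act 8 n11824 = n10898 := d35_2 D10361 D11824 (iv D10898) (iv D9219) (iv F32515)
def n11825 : Q := act 6 n10362
theorem D11825 : act 6 n10362 = n11825 := rfl
theorem F46534 : act 1 n11825 = n10378 := d12_1 D11825 (iv D10378) (iv F40488)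
theorem F46535 : act 3 n11825 = n11299 := d23_1 D11825 (iv D11299) (iv F40489)
theorem F46536 : act 5 n11825 = n11825 := d30_1 D11825 (iv D11825) (iv D10362) F32518 D10362
theorem F46537 : act 7 n11825 = n10899 := d33_2 (iv F40490) D11825 (iv D10899)
def n11826 : Q := act 8 n10362
theorem D11826 : act 8 n10362 = n11826 := rfl
theorem F46538 : act 1 n11826 = n10379 := d14_1 D11826 (iv D10379) (iv F40488)
theorem F46539 : act 3 n11826 = n11300 := d25_1 D11826 (iv D11300) (iv F40489)
theorem F46540 : act 5 n11826 = n10363 := d32_1 D11826 (iv D10363) D10362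
def n11827 : Q := act 7 n10363
theorem D11827 : act 7 n10363 = n11827 := rfl
theorem F46541 : act 1 n11827 = n10380 := d13_1 D11827 (iv D10380) (iv F40491)
theorem F46542 : act 4 n11827 = n10364 := d28_1 D11827 (iv D10364) (iv F40493)
theorem F46543 : act 6 n11827 = n11827 := d33_1 D11827 (iv D11827) F40494
theorem F46544 : act 8 n11827 = n10901 := d35_2 D10363 D11827 (iv D10901) (iv D9221) (iv F32519)
def n11828 : Q := act 2 n10366
theorem D11828 : act 2 n10366 = n11828 := rfl
theorem F46545 : act 0 n11828 = n10385 := d1_1 D11828 (iv D10385) (iv F40503)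
theorem F46546 : act 3 n11828 = n10431 := d15_2 D10366 D11828 F40704 (iv D8695) (iv F32529)
theorem F46547 : act 5 n11828 = n10432 := d17_2 (iv F40504) D11828 F40707
theorem F46548 : act 7 n11828 = n10370 := d19_2 (iv F40505) D11828 (iv D10370)
def n11829 : Q := act 8 n10366
theorem D11829 : act 8 n10366 = n11829 := rfl
theorem F46549 : act 0 n11829 = n10387 := d7_1 D11829 (iv D10387) (iv F40503)
theorem F46550 : act 3 n11829 = n10367 := d25_1 D11829 (iv D10367) D10366
theorem F46551 : act 5 n11829 = n11303 := d32_1 D11829 (iv D11303) (iv F40504)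
def n11830 : Q := act 8 n10368
theorem D11830 : act 8 n10368 = n11830 := rfl
theorem F46552 : act 0 n11830 = n10389 := d7_1 D11830 (iv D10389) (iv F40511)
theorem F46553 : act 3 n11830 = n10369 := d25_1 D11830 (iv D10369) D10368
theorem F46554 : act 6 n11830 = n10372 := d34_1 D11830 (iv D10372) (iv F40512)
def n11831 : Q := act 1 n10370
theorem D11831 : act 1 n10370 = n11831 := rfl
theorem F46555 : act 3 n11831 = n10381 := d9_2 (iv F40519) D11831 (iv D10381)
theorem F46556 : act 5 n11831 = n10410 := d11_2 (iv F40520) D11831 F40643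
def n11832 : Q := act 4 n10370
theorem D11832 : act 4 n10370 = n11832 := rfl
theorem F46557 : act 0 n11832 = n10390 := d3_1 D11832 (iv D10390) (iv F40518)
theorem F46558 : act 2 n11832 = n10371 := d16_1 D11832 (iv D10371) D10370
theorem F46559 : act 3 n11832 = n11832 := d21_1 D11832 (iv D11832) F40519 F32595 (iv F40519)
def n11833 : Q := act 8 n10370
theorem D11833 : act 8 n10370 = n11833 := rfl
theorem F46560 : act 0 n11833 = n10391 := d7_1 D11833 (iv D10391) (iv F40518)
theorem F46561 : act 2 n11833 = n10372 := d20_1 D11833 (iv D10372) D10370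
theorem F46562 : act 3 n11833 = n10382 := d25_1 D11833 (iv D10382) (iv F40519)
theorem F46563 : act 5 n11833 = n10438 := d32_1 D11833 (iv D10438) (iv F40520)
def n11834 : Q := act 5 n10371
theorem D11834 : act 5 n10371 = n11834 := rfl
theorem F46564 : act 0 n11834 = n10392 := d4_1 D11834 (iv D10392) (iv F40521)
theorem F46565 : act 3 n11834 = n10375 := d22_1 D11834 (iv D10375) (iv F40522)
theorem F46566 : act 4 n11834 = n11304 := d26_1 D11834 (iv D11304) (iv D9919) (iv F32542) D10371
def n11835 : Q := act 8 n10371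
theorem D11835 : act 8 n10371 = n11835 := rfl
theorem F46567 : act 0 n11835 = n10393 := d7_1 D11835 (iv D10393) (iv F40521)
theorem F46568 : act 3 n11835 = n10376 := d25_1 D11835 (iv D10376) (iv F40522)
theorem F46569 : act 4 n11835 = n10372 := d29_1 D11835 (iv D10372) D10371
def n11836 : Q := act 7 n10372
theorem D11836 : act 7 n10372 = n11836 := rfl
theorem F46570 : act 0 n11836 = n10394 := d6_1 D11836 (iv D10394) (iv F40523)
theorem F46571 : act 3 n11836 = n10444 := d24_1 D11836 (iv D10444) F32794 (iv F32547) (iv F40524)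
theorem F46572 : act 5 n11836 = n11306 := d31_1 D11836 (iv D11306) (iv F40525)
def n11837 : Q := act 8 n10375
theorem D11837 : act 8 n10375 = n11837 := rfl
theorem F46573 : act 0 n11837 = n10399 := d7_1 D11837 (iv D10399) (iv F40535)
theorem F46574 : act 2 n11837 = n11837 := d20_1 D11837 (iv D11837) F40536
theorem F46575 : act 4 n11837 = n10379 := d29_1 D11837 (iv D10379) (iv F40537)
theorem F46576 : act 5 n11837 = n10376 := d32_1 D11837 (iv D10376) D10375
def n11838 : Q := act 8 n10378
theorem D11838 : act 8 n10378 = n11838 := rfl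
theorem F46577 : act 0 n11838 = n10401 := d7_1 D11838 (iv D10401) (iv F40547)
theorem F46578 : act 2 n11838 = n11838 := d20_1 D11838 (iv D11838) F40548
theorem F46579 : act 3 n11838 = n11310 := d25_1 D11838 (iv D11310) (iv F40549)
theorem F46580 : act 5 n11838 = n11838 := d32_1 D11838 (iv D11838) F40550
theorem F46581 : act 6 n11838 = n10379 := d34_1 D11838 (iv D10379) D10378
def n11839 : Q := act 7 n10379
theorem D11839 : act 7 n10379 = n11839 := rfl
theorem F46582 : act 0 n11839 = n10402 := d6_1 D11839 (iv D10402) (iv F40552)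
theorem F46583 : act 2 n11839 = n11839 := d19_1 D11839 (iv D11839) F40553
theorem F46584 : act 5 n11839 = n10380 := d31_1 D11839 (iv D10380) (iv F40555)
theorem F46585 : act 8 n11839 = n10927 := d35_2 D10379 D11839 (iv D10927) (iv D9239) (iv F32568)
def n11840 : Q := act 3 n10380
theorem D11840 : act 3 n10380 = n11840 := rfl
theorem F46586 : act 0 n11840 = n10403 := d2_1 D11840 (iv D10403) (iv F40556)
theorem F46587 : act 4 n11840 = n10453 := d21_2 (iv F40558) D11840 (iv D10453) F32824 (iv F32576)
theorem F46588 : act 6 n11840 = n11840 := d23_2 F40559 D11840 (iv D11840)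
theorem F46589 : act 7 n11840 = n11312 := d24_2 D10380 D11840 (iv D11312) (iv D9926) (iv F32571)
theorem F46590 : act 8 n11840 = n10928 := d25_2 (iv F40560) D11840 (iv D10928)
def n11841 : Q := act 8 n10381
theorem D11841 : act 8 n10381 = n11841 := rfl
theorem F46591 : act 1 n11841 = n10382 := d14_1 D11841 (iv D10382) D10381
theorem F46592 : act 2 n11841 = n11560 := d20_1 D11841 (iv D11560) (iv F40561)
theorem F46593 : act 4 n11841 = n11841 := d29_1 D11841 (iv D11841) F40562
theorem F46594 : act 5 n11841 = n10411 := d32_1 D11841 (iv D10411) (iv F40563)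
def n11842 : Q := act 8 n10385
theorem D11842 : act 8 n10385 = n11842 := rfl
theorem F46595 : act 2 n11842 = n10387 := d20_1 D11842 (iv D10387) D10385
theorem F46596 : act 3 n11842 = n10457 := d25_1 D11842 (iv D10457) (iv F40575)
theorem F46597 : act 5 n11842 = n10459 := d32_1 D11842 (iv D10459) (iv F40576)
def n11843 : Q := act 7 n10387
theorem D11843 : act 7 n10387 = n11843 := rfl
theorem F46598 : act 3 n11843 = n10465 := d24_1 D11843 (iv D10465) F32863 (iv F32615) (iv F40580)
theorem F46599 : act 5 n11843 = n11315 := d31_1 D11843 (iv D11315) (iv F40581)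
theorem F46600 : act 8 n11843 = n10394 := d35_2 D10387 D11843 (iv D10394) (iv D8563) (iv F32611)
def n11844 : Q := act 7 n10389
theorem D11844 : act 7 n10389 = n11844 := rfl
theorem F46601 : act 3 n11844 = n10468 := d24_1 D11844 (iv D10468) F32872 (iv F32624) (iv F40584)
theorem F46602 : act 6 n11844 = n10394 := d33_1 D11844 (iv D10394) (iv F40585)
def n11845 : Q := act 5 n10390
theorem D11845 : act 5 n10390 = n11845 := rfl
theorem F46603 : act 2 n11845 = n10392 := d17_1 D11845 (iv D10392) (iv F40586)
theorem F46604 : act 3 n11845 = n11845 := d22_1 D11845 (iv D11845) F40587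
theorem F46605 : act 4 n11845 = n10466 := d26_1 D11845 (iv D10466) (iv D8640) F38390 D10390
def n11846 : Q := act 8 n10390
theorem D11846 : act 8 n10390 = n11846 := rfl
theorem F46606 : act 2 n11846 = n10393 := d20_1 D11846 (iv D10393) (iv F40586)
theorem F46607 : act 3 n11846 = n11846 := d25_1 D11846 (iv D11846) F40587
theorem F46608 : act 4 n11846 = n10391 := d29_1 D11846 (iv D10391) D10390
def n11847 : Q := act 7 n10391
theorem D11847 : act 7 n10391 = n11847 := rfl
theorem F46609 : act 2 n11847 = n10394 := d19_1 D11847 (iv D10394) (iv F40588)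
theorem F46610 : act 5 n11847 = n10468 := d31_1 D11847 (iv D10468) (iv F40590)
def n11848 : Q := act 8 n10392
theorem D11848 : act 8 n10392 = n11848 := rfl
theorem F46611 : act 3 n11848 = n10399 := d25_1 D11848 (iv D10399) (iv F40591)
theorem F46612 : act 4 n11848 = n11317 := d29_1 D11848 (iv D11317) (iv F40592)
theorem F46613 : act 5 n11848 = n10393 := d32_1 D11848 (iv D10393) D10392
def n11849 : Q := act 7 n10393
theorem D11849 : act 7 n10393 = n11849 := rfl
theorem F46614 : act 4 n11849 = n10394 := d28_1 D11849 (iv D10394) (iv F40594)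
def n11850 : Q := act 7 n10401
theorem D11850 : act 7 n10401 = n11850 := rfl
theorem F46615 : act 2 n11850 = n11850 := d19_1 D11850 (iv D11850) F40617
theorem F46616 : act 5 n11850 = n11850 := d31_1 D11850 (iv D11850) F40619
theorem F46617 : act 6 n11850 = n10402 := d33_1 D11850 (iv D10402) (iv F40620)
theorem F46618 : act 8 n11850 = n10972 := d35_2 D10401 D11850 (iv D10972) (iv D9271) (iv F32649)
def n11851 : Q := act 3 n10402
theorem D11851 : act 3 n10402 = n11851 := rfl
theorem F46619 : act 5 n11851 = n10403 := d22_2 (iv F40622) D11851 (iv D10403)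
theorem F46620 : act 7 n11851 = n11323 := d24_2 D10402 D11851 (iv D11323) (iv D9936) (iv F32651)
theorem F46621 : act 8 n11851 = n10973 := d25_2 (iv F40623) D11851 (iv D10973)
def n11852 : Q := act 2 n10403
theorem D11852 : act 2 n10403 = n11852 := rfl
theorem F46622 : act 3 n11852 = n11852 := d15_2 D10403 D11852 (iv D11852) (iv D10403) F32653
theorem F46623 : act 4 n11852 = n10486 := d16_2 (iv F40624) D11852 (iv D10486)
theorem F46624 : act 6 n11852 = n11852 := d18_2 F40625 D11852 (iv D11852)
theorem F46625 : act 7 n11852 = n11324 := d19_2 (iv F40626) D11852 (iv D11324)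
theorem F46626 : act 8 n11852 = n10974 := d20_2 (iv F40627) D11852 (iv D10974)
def n11853 : Q := act 5 n10404
theorem D11853 : act 5 n10404 = n11853 := rfl
theorem F46627 : act 1 n11853 = n10493 := d11_1 D11853 F40903 (iv F40628)
theorem F46628 : act 2 n11853 = n10406 := d17_1 D11853 (iv D10406) (iv F40629)
theorem F46629 : act 3 n11853 = n11616 := d22_1 D11853 F45671 F40951
def n11854 : Q := act 7 n10404
theorem D11854 : act 7 n10404 = n11854 := rfl
theorem F46630 : act 1 n11854 = n10500 := d13_1 D11854 (iv D10500) (iv F40628)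
theorem F46631 : act 2 n11854 = n10407 := d19_1 D11854 (iv D10407) (iv F40629)
theorem F46632 : act 4 n11854 = n10989 := d28_1 D11854 (iv D10989) (iv F40630)
theorem F46633 : act 6 n11854 = n10405 := d33_1 D11854 (iv D10405) D10404
def n11855 : Q := act 3 n10405
theorem D11855 : act 3 n10405 = n11855 := rfl
theorem F46634 : act 1 n11855 = n10501 := d9_1 D11855 (iv D10501) (iv F40631)
def n11856 : Q := act 8 n10405
theorem D11856 : act 8 n10405 = n11856 := rfl
theorem F46635 : act 1 n11856 = n10502 := d14_1 D11856 (iv D10502) (iv F40631)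
theorem F46636 : act 2 n11856 = n10409 := d20_1 D11856 (iv D10409) (iv F40632)
theorem F46637 : act 4 n11856 = n10991 := d29_1 D11856 (iv D10991) (iv F40633)
def n11857 : Q := act 4 n10406
theorem D11857 : act 4 n10406 = n11857 := rfl
theorem F46638 : act 0 n11857 = n10900 := d3_1 D11857 (iv F46117) F46114
theorem F46639 : act 1 n11857 = n10430 := d10_1 D11857 (iv D10430) (iv F40634)
theorem F46640 : act 3 n11857 = n11857 := d21_1 D11857 (iv D11857) F40635 F32730 (iv F40635)
theorem F46641 : act 5 n11857 = n10699 := d26_2 D10406 D11857 F41732 F44950 (iv F32726)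
theorem F46642 : act 8 n11857 = n10698 := d29_2 F45740 D11857 (iv F45737)
def n11858 : Q := act 7 n10406
theorem D11858 : act 7 n10406 = n11858 := rfl
theorem F46643 : act 1 n11858 = n10431 := d13_1 D11858 (iv D10431) (iv F40634)
theorem F46644 : act 5 n11858 = n10407 := d31_1 D11858 (iv D10407) D10406
def n11859 : Q := act 3 n10407
theorem D11859 : act 3 n10407 = n11859 := rfl
theorem F46645 : act 1 n11859 = n10432 := d9_1 D11859 (iv D10432) (iv F40636)
theorem F46646 : act 6 n11859 = n10408 := d23_2 (iv F40638) D11859 (iv D10408)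
theorem F46647 : act 7 n11859 = n10410 := d24_2 D10407 D11859 (iv D10410) (iv D8592) (iv F32725)
def n11860 : Q := act 8 n10407
theorem D11860 : act 8 n10407 = n11860 := rfl
theorem F46648 : act 1 n11860 = n10433 := d14_1 D11860 (iv D10433) (iv F40636)
theorem F46649 : act 4 n11860 = n10995 := d29_1 D11860 (iv D10995) (iv F40637)
theorem F46650 : act 6 n11860 = n10409 := d34_1 D11860 (iv D10409) (iv F40638)
def n11861 : Q := act 2 n10408
theorem D11861 : act 2 n10408 = n11861 := rfl
theorem F46651 : act 7 n11861 = n10412 := d19_2 (iv F40640) D11861 (iv D10412)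
def n11862 : Q := act 4 n10408
theorem D11862 : act 4 n10408 = n11862 := rfl
theorem F46652 : act 1 n11862 = n10435 := d10_1 D11862 (iv D10435) (iv F40639)
theorem F46653 : act 3 n11862 = n10997 := d21_1 D11862 (iv D10997) (iv D9292) (iv F32728) D10408
theorem F46654 : act 7 n11862 = n10413 := d28_2 (iv F40640) D11862 (iv D10413)
def n11863 : Q := act 8 n10408
theorem D11863 : act 8 n10408 = n11863 := rfl
theorem F46655 : act 1 n11863 = n10436 := d14_1 D11863 (iv D10436) (iv F40639)
theorem F46656 : act 3 n11863 = n10409 := d25_1 D11863 (iv D10409) D10408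
def n11864 : Q := act 2 n10410
theorem D11864 : act 2 n10410 = n11864 := rfl
theorem F46657 : act 1 n11864 = n11287 := d8_1 D11864 (iv D11287) F38790 F38627 (iv F40643)
theorem F46658 : act 6 n11864 = n10412 := d18_2 (iv F40644) D11864 (iv D10412)
def n11865 : Q := act 4 n10410
theorem D11865 : act 4 n10410 = n11865 := rfl
theorem F46659 : act 1 n11865 = n10437 := d10_1 D11865 (iv D10437) (iv F40643)
theorem F46660 : act 3 n11865 = n10416 := d21_1 D11865 (iv D10416) (iv D8595) (iv F32732) D10410
theorem F46661 : act 6 n11865 = n10413 := d27_2 (iv F40644) D11865 (iv D10413)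
def n11866 : Q := act 8 n10410
theorem D11866 : act 8 n10410 = n11866 := rfl
theorem F46662 : act 1 n11866 = n10438 := d14_1 D11866 (iv D10438) (iv F40643)
theorem F46663 : act 3 n11866 = n10411 := d25_1 D11866 (iv D10411) D10410
theorem F46664 : act 6 n11866 = n10414 := d34_1 D11866 (iv D10414) (iv F40644)
def n11867 : Q := act 1 n10412
theorem D11867 : act 1 n10412 = n11867 := rfl
theorem F46665 : act 2 n11867 = n10439 := d8_2 D10412 D11867 (iv D10439) (iv D8612) (iv F32734)
theorem F46666 : act 3 n11867 = n11864 := d9_2 F43826 D11867 F46657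
theorem F46667 : act 6 n11867 = n11287 := d12_2 F46658 D11867 (iv F46657)
def n11868 : Q := act 4 n10412
theorem D11868 : act 4 n10412 = n11868 := rfl
theorem F46668 : act 2 n11868 = n10413 := d16_1 D11868 (iv D10413) D10412
def n11869 : Q := act 8 n10412
theorem D11869 : act 8 n10412 = n11869 := rfl
theorem F46669 : act 2 n11869 = n10414 := d20_1 D11869 (iv D10414) D10412
def n11870 : Q := act 5 n10413
theorem D11870 : act 5 n10413 = n11870 := rfl
theorem F46670 : act 1 n11870 = n10442 := d11_1 D11870 (iv D10442) (iv F40648)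
theorem F46671 : act 3 n11870 = n10420 := d22_1 D11870 (iv D10420) (iv F40649)
def n11871 : Q := act 8 n10413
theorem D11871 : act 8 n10413 = n11871 := rfl
theorem F46672 : act 1 n11871 = n10443 := d14_1 D11871 (iv D10443) (iv F40648)
theorem F46673 : act 3 n11871 = n10421 := d25_1 D11871 (iv D10421) (iv F40649)
theorem F46674 : act 4 n11871 = n10414 := d29_1 D11871 (iv D10414) D10413
def n11872 : Q := act 7 n10414
theorem D11872 : act 7 n10414 = n11872 := rfl
theorem F46675 : act 1 n11872 = n10444 := d13_1 D11872 (iv D10444) (iv F40650)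
def n11873 : Q := act 4 n10415
theorem D11873 : act 4 n10415 = n11873 := rfl
theorem F46676 : act 1 n11873 = n10518 := d10_1 D11873 (iv D10518) (iv F40652)
theorem F46677 : act 2 n11873 = n10416 := d16_1 D11873 (iv D10416) D10415
theorem F46678 : act 6 n11873 = n10418 := d27_2 (iv F40654) D11873 (iv D10418)
theorem F46679 : act 7 n11873 = n11009 := d28_2 (iv F40655) D11873 (iv D11009)
def n11874 : Q := act 8 n10415
theorem D11874 : act 8 n10415 = n11874 := rfl
theorem F46680 : act 1 n11874 = n10519 := d14_1 D11874 (iv D10519) (iv F40652)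
theorem F46681 : act 2 n11874 = n10417 := d20_1 D11874 (iv D10417) D10415
theorem F46682 : act 5 n11874 = n11874 := d32_1 D11874 (iv D11874) F40653
theorem F46683 : act 6 n11874 = n10419 := d34_1 D11874 (iv D10419) (iv F40654)
def n11875 : Q := act 5 n10416
theorem D11875 : act 5 n10416 = n11875 := rfl
theorem F46684 : act 1 n11875 = n10445 := d11_1 D11875 (iv D10445) (iv F40656)
theorem F46685 : act 4 n11875 = n11875 := d26_1 D11875 (iv D11875) (iv D10416) F32738 D10416
theorem F46686 : act 7 n11875 = n11011 := d31_2 (iv F40658) D11875 (iv D11011)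
def n11876 : Q := act 8 n10416
theorem D11876 : act 8 n10416 = n11876 := rfl
theorem F46687 : act 1 n11876 = n10446 := d14_1 D11876 (iv D10446) (iv F40656)
theorem F46688 : act 4 n11876 = n10417 := d29_1 D11876 (iv D10417) D10416
theorem F46689 : act 6 n11876 = n10421 := d34_1 D11876 (iv D10421) (iv F40657)
def n11877 : Q := act 7 n10417
theorem D11877 : act 7 n10417 = n11877 := rfl
theorem F46690 : act 0 n11877 = n10998 := d6_1 D11877 (iv F46162) F46157
theorem F46691 : act 1 n11877 = n10447 := d13_1 D11877 (iv D10447) (iv F40659)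
theorem F46692 : act 3 n11877 = n10777 := d24_1 D11877 (iv F46500) F46497 F40470 (iv F40660)
theorem F46693 : act 5 n11877 = n11877 := d31_1 D11877 (iv D11877) F40661
theorem F46694 : act 6 n11877 = n10422 := d33_1 D11877 (iv D10422) (iv F40662)
theorem F46695 : act 8 n11877 = n10776 := d35_2 D10417 D11877 F41996 F44734 (iv F32740)
def n11878 : Q := act 3 n10418
theorem D11878 : act 3 n10418 = n11878 := rfl
theorem F46696 : act 1 n11878 = n10523 := d9_1 D11878 (iv D10523) (iv F40663)
def n11879 : Q := act 5 n10418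
theorem D11879 : act 5 n10418 = n11879 := rfl
theorem F46697 : act 1 n11879 = n10524 := d11_1 D11879 (iv D10524) (iv F40663)
theorem F46698 : act 2 n11879 = n10420 := d17_1 D11879 (iv D10420) (iv F40664)
theorem F46699 : act 4 n11879 = n10424 := d26_1 D11879 (iv D10424) (iv D8600) (iv F32745) D10418
theorem F46700 : act 7 n11879 = n11015 := d31_2 (iv F40665) D11879 (iv D11015)
def n11880 : Q := act 8 n10418
theorem D11880 : act 8 n10418 = n11880 := rfl
theorem F46701 : act 1 n11880 = n10525 := d14_1 D11880 (iv D10525) (iv F40663)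
theorem F46702 : act 2 n11880 = n10421 := d20_1 D11880 (iv D10421) (iv F40664)
theorem F46703 : act 4 n11880 = n10419 := d29_1 D11880 (iv D10419) D10418
def n11881 : Q := act 7 n10419
theorem D11881 : act 7 n10419 = n11881 := rfl
theorem F46704 : act 1 n11881 = n10526 := d13_1 D11881 (iv D10526) (iv F40666)
theorem F46705 : act 2 n11881 = n10422 := d19_1 D11881 (iv D10422) (iv F40667)
theorem F46706 : act 5 n11881 = n10426 := d31_1 D11881 (iv D10426) (iv F40668)
theorem F46707 : act 8 n11881 = n11017 := d35_2 D10419 D11881 (iv D11017) (iv D9304) (iv F32746)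
def n11882 : Q := act 6 n10420
theorem D11882 : act 6 n10420 = n11882 := rfl
theorem F46708 : act 1 n11882 = n10448 := d12_1 D11882 (iv D10448) (iv F40669)
theorem F46709 : act 4 n11882 = n10427 := d27_1 D11882 (iv D10427) (iv F40670)
theorem F46710 : act 7 n11882 = n11018 := d33_2 (iv F40671) D11882 (iv D11018)
def n11883 : Q := act 8 n10420
theorem D11883 : act 8 n10420 = n11883 := rfl
theorem F46711 : act 1 n11883 = n10449 := d14_1 D11883 (iv D10449) (iv F40669)
theorem F46712 : act 4 n11883 = n10428 := d29_1 D11883 (iv D10428) (iv F40670)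
theorem F46713 : act 5 n11883 = n10421 := d32_1 D11883 (iv D10421) D10420
def n11884 : Q := act 7 n10421
theorem D11884 : act 7 n10421 = n11884 := rfl
theorem F46714 : act 1 n11884 = n10450 := d13_1 D11884 (iv D10450) (iv F40672)
theorem F46715 : act 4 n11884 = n10422 := d28_1 D11884 (iv D10422) (iv F40673)
theorem F46716 : act 8 n11884 = n11020 := d35_2 D10421 D11884 (iv D11020) (iv D9306) (iv F32748)
def n11885 : Q := act 5 n10423
theorem D11885 : act 5 n10423 = n11885 := rfl
theorem F46717 : act 1 n11885 = n10530 := d11_1 D11885 (iv D10530) (iv F40677)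
theorem F46718 : act 3 n11885 = n10424 := d22_1 D11885 (iv D10424) D10423
def n11886 : Q := act 7 n10423
theorem D11886 : act 7 n10423 = n11886 := rfl
theorem F46719 : act 1 n11886 = n10531 := d13_1 D11886 (iv D10531) (iv F40677)
theorem F46720 : act 3 n11886 = n11022 := d24_1 D11886 (iv D11022) (iv D9308) (iv F32755) D10423
theorem F46721 : act 6 n11886 = n11886 := d33_1 D11886 (iv D11886) F40678
def n11887 : Q := act 8 n10423
theorem D11887 : act 8 n10423 = n11887 := rfl
theorem F46722 : act 1 n11887 = n10532 := d14_1 D11887 (iv D10532) (iv F40677)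
theorem F46723 : act 3 n11887 = n10425 := d25_1 D11887 (iv D10425) D10423
theorem F46724 : act 6 n11887 = n11887 := d34_1 D11887 (iv D11887) F40678
def n11888 : Q := act 6 n10424
theorem D11888 : act 6 n10424 = n11888 := rfl
theorem F46725 : act 1 n11888 = n10533 := d12_1 D11888 (iv D10533) (iv F40679)
theorem F46726 : act 2 n11888 = n10427 := d18_1 D11888 (iv D10427) (iv F40680)
theorem F46727 : act 5 n11888 = n11888 := d30_1 D11888 (iv D11888) (iv D10424) F32754 D10424
theorem F46728 : act 7 n11888 = n11024 := d33_2 (iv F40681) D11888 (iv D11024)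
def n11889 : Q := act 8 n10424
theorem D11889 : act 8 n10424 = n11889 := rfl
theorem F46729 : act 1 n11889 = n10534 := d14_1 D11889 (iv D10534) (iv F40679)
theorem F46730 : act 2 n11889 = n10428 := d20_1 D11889 (iv D10428) (iv F40680)
theorem F46731 : act 5 n11889 = n10425 := d32_1 D11889 (iv D10425) D10424
def n11890 : Q := act 7 n10425
theorem D11890 : act 7 n10425 = n11890 := rfl
theorem F46732 : act 1 n11890 = n10535 := d13_1 D11890 (iv D10535) (iv F40682)
theorem F46733 : act 2 n11890 = n10429 := d19_1 D11890 (iv D10429) (iv F40683)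
theorem F46734 : act 4 n11890 = n10426 := d28_1 D11890 (iv D10426) (iv F40684)
theorem F46735 : act 6 n11890 = n11890 := d33_1 D11890 (iv D11890) F40685
theorem F46736 : act 8 n11890 = n11026 := d35_2 D10425 D11890 (iv D11026) (iv D9310) (iv F32755)
def n11891 : Q := act 3 n10426
theorem D11891 : act 3 n10426 = n11891 := rfl
theorem F46737 : act 1 n11891 = n10536 := d9_1 D11891 (iv D10536) (iv F40686)
theorem F46738 : act 6 n11891 = n11891 := d23_2 F40688 D11891 (iv D11891)
theorem F46739 : act 8 n11891 = n11027 := d25_2 (iv F40689) D11891 (iv D11027)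
def n11892 : Q := act 8 n10427
theorem D11892 : act 8 n10427 = n11892 := rfl
theorem F46740 : act 1 n11892 = n10451 := d14_1 D11892 (iv D10451) (iv F40690)
theorem F46741 : act 5 n11892 = n11892 := d32_1 D11892 (iv D11892) F40691
theorem F46742 : act 6 n11892 = n10428 := d34_1 D11892 (iv D10428) D10427
def n11893 : Q := act 7 n10428
theorem D11893 : act 7 n10428 = n11893 := rfl
theorem F46743 : act 1 n11893 = n10452 := d13_1 D11893 (iv D10452) (iv F40693)
theorem F46744 : act 5 n11893 = n10429 := d31_1 D11893 (iv D10429) (iv F40694)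
theorem F46745 : act 8 n11893 = n11029 := d35_2 D10428 D11893 (iv D11029) (iv D9313) (iv F32760)
def n11894 : Q := act 3 n10429
theorem D11894 : act 3 n10429 = n11894 := rfl
theorem F46746 : act 1 n11894 = n10453 := d9_1 D11894 (iv D10453) (iv F40695)
theorem F46747 : act 6 n11894 = n11894 := d23_2 F40697 D11894 (iv D11894)
theorem F46748 : act 8 n11894 = n11030 := d25_2 (iv F40698) D11894 (iv D11030)
def n11895 : Q := act 7 n10430
theorem D11895 : act 7 n10430 = n11895 := rfl
theorem F46749 : act 0 n11895 = n10456 := d6_1 D11895 (iv D10456) (iv F40699)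
theorem F46750 : act 2 n11895 = n10497 := d19_1 D11895 F40920 (iv F40700)
theorem F46751 : act 4 n11895 = n10431 := d28_1 D11895 (iv D10431) D10430
theorem F46752 : act 5 n11895 = n10718 := d31_1 D11895 (iv D10718) (iv F45009)
def n11896 : Q := act 8 n10431
theorem D11896 : act 8 n10431 = n11896 := rfl
theorem F46753 : act 0 n11896 = n10457 := d7_1 D11896 (iv D10457) (iv F40703)
theorem F46754 : act 2 n11896 = n10498 := d20_1 D11896 (iv D10498) (iv F40704)
theorem F46755 : act 5 n11896 = n10433 := d32_1 D11896 (iv D10433) (iv F40705)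
def n11897 : Q := act 4 n10432
theorem D11897 : act 4 n10432 = n11897 := rfl
theorem F46756 : act 0 n11897 = n10458 := d3_1 D11897 (iv D10458) (iv F40706)
theorem F46757 : act 2 n11897 = n11302 := d16_1 D11897 (iv D11302) (iv F40707)
theorem F46758 : act 3 n11897 = n10822 := d21_1 D11897 F42161 (iv F44798) (iv F32772) D10432
theorem F46759 : act 6 n11897 = n10435 := d27_2 (iv F40708) D11897 (iv D10435)
theorem F46760 : act 7 n11897 = n10437 := d28_2 (iv F40709) D11897 (iv D10437)
def n11898 : Q := act 8 n10432
theorem D11898 : act 8 n10432 = n11898 := rfl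
theorem F46761 : act 0 n11898 = n10459 := d7_1 D11898 (iv D10459) (iv F40706)
theorem F46762 : act 2 n11898 = n11303 := d20_1 D11898 (iv D11303) (iv F40707)
theorem F46763 : act 3 n11898 = n10433 := d25_1 D11898 (iv D10433) D10432
theorem F46764 : act 6 n11898 = n10436 := d34_1 D11898 (iv D10436) (iv F40708)
def n11899 : Q := act 1 n10434
theorem D11899 : act 1 n10434 = n11899 := rfl
theorem F46765 : act 3 n11899 = n10507 := d9_2 (iv F40715) D11899 (iv D10507)
theorem F46766 : act 6 n11899 = n11285 := d12_2 (iv F40716) D11899 F43822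
theorem F46767 : act 7 n11899 = n10439 := d13_2 (iv F40717) D11899 (iv D10439)
def n11900 : Q := act 4 n10434
theorem D11900 : act 4 n10434 = n11900 := rfl
theorem F46768 : act 0 n11900 = n10461 := d3_1 D11900 (iv D10461) (iv F40714)
theorem F46769 : act 2 n11900 = n10435 := d16_1 D11900 (iv D10435) D10434
theorem F46770 : act 3 n11900 = n11900 := d21_1 D11900 (iv D11900) F40715 F33345 (iv F40715)
theorem F46771 : act 6 n11900 = n11302 := d27_2 (iv F40716) D11900 (iv D11302)
theorem F46772 : act 7 n11900 = n10440 := d28_2 (iv F40717) D11900 (iv D10440)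
def n11901 : Q := act 8 n10434
theorem D11901 : act 8 n10434 = n11901 := rfl
theorem F46773 : act 0 n11901 = n10462 := d7_1 D11901 (iv D10462) (iv F40714)
theorem F46774 : act 2 n11901 = n10436 := d20_1 D11901 (iv D10436) D10434
theorem F46775 : act 3 n11901 = n10508 := d25_1 D11901 (iv D10508) (iv F40715)
theorem F46776 : act 6 n11901 = n11303 := d34_1 D11901 (iv D11303) (iv F40716)
def n11902 : Q := act 5 n10435
theorem D11902 : act 5 n10435 = n11902 := rfl
theorem F46777 : act 0 n11902 = n10463 := d4_1 D11902 (iv D10463) (iv F40718)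
theorem F46778 : act 3 n11902 = n11036 := d22_1 D11902 (iv D11036) (iv F40719)
theorem F46779 : act 7 n11902 = n10442 := d31_2 (iv F40720) D11902 (iv D10442)
def n11903 : Q := act 8 n10435
theorem D11903 : act 8 n10435 = n11903 := rfl
theorem F46780 : act 0 n11903 = n10464 := d7_1 D11903 (iv D10464) (iv F40718)
theorem F46781 : act 3 n11903 = n11037 := d25_1 D11903 (iv D11037) (iv F40719)
theorem F46782 : act 4 n11903 = n10436 := d29_1 D11903 (iv D10436) D10435
def n11904 : Q := act 7 n10436
theorem D11904 : act 7 n10436 = n11904 := rfl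
theorem F46783 : act 0 n11904 = n10465 := d6_1 D11904 (iv D10465) (iv F40721)
theorem F46784 : act 8 n11904 = n10444 := d35_2 D10436 D11904 (iv D10444) (iv D8614) (iv F32775)
def n11905 : Q := act 5 n10437
theorem D11905 : act 5 n10437 = n11905 := rfl
theorem F46785 : act 0 n11905 = n10466 := d4_1 D11905 (iv D10466) (iv F40723)
theorem F46786 : act 2 n11905 = n11304 := d17_1 D11905 (iv D11304) (iv F40724)
theorem F46787 : act 3 n11905 = n10445 := d22_1 D11905 (iv D10445) (iv F40725)
def n11906 : Q := act 8 n10437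
theorem D11906 : act 8 n10437 = n11906 := rfl
theorem F46788 : act 0 n11906 = n10467 := d7_1 D11906 (iv D10467) (iv F40723)
theorem F46789 : act 2 n11906 = n11305 := d20_1 D11906 (iv D11305) (iv F40724)
theorem F46790 : act 3 n11906 = n10446 := d25_1 D11906 (iv D10446) (iv F40725)
theorem F46791 : act 4 n11906 = n10438 := d29_1 D11906 (iv D10438) D10437
theorem F46792 : act 6 n11906 = n10443 := d34_1 D11906 (iv D10443) (iv F40726)
def n11907 : Q := act 7 n10438
theorem D11907 : act 7 n10438 = n11907 := rfl
theorem F46793 : act 0 n11907 = n10468 := d6_1 D11907 (iv D10468) (iv F40727)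
theorem F46794 : act 2 n11907 = n11306 := d19_1 D11907 (iv D11306) (iv F40728)
theorem F46795 : act 6 n11907 = n10444 := d33_1 D11907 (iv D10444) (iv F40730)
def n11908 : Q := act 0 n10439
theorem D11908 : act 0 n10439 = n11908 := rfl
theorem F46796 : act 1 n11908 = n10469 := d0_2 D10439 D11908 (iv D10469) (iv D8642) (iv F32789)
theorem F46797 : act 3 n11908 = n10454 := d2_2 (iv F40731) D11908 (iv D10454)
theorem F46798 : act 6 n11908 = n11245 := d5_2 (iv F40732) D11908 F43693
def n11909 : Q := act 4 n10439
theorem D11909 : act 4 n10439 = n11909 := rfl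
theorem F46799 : act 1 n11909 = n10440 := d10_1 D11909 (iv D10440) D10439
theorem F46800 : act 3 n11909 = n10541 := d21_1 D11909 (iv D10541) F33612 (iv F32841) (iv F40731)
theorem F46801 : act 6 n11909 = n11288 := d27_2 (iv F40732) D11909 (iv D11288)
def n11910 : Q := act 8 n10439
theorem D11910 : act 8 n10439 = n11910 := rfl
theorem F46802 : act 1 n11910 = n10441 := d14_1 D11910 (iv D10441) D10439
theorem F46803 : act 3 n11910 = n10455 := d25_1 D11910 (iv D10455) (iv F40731)
theorem F46804 : act 6 n11910 = n11289 := d34_1 D11910 (iv D11289) (iv F40732)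
def n11911 : Q := act 5 n10440
theorem D11911 : act 5 n10440 = n11911 := rfl
theorem F46805 : act 0 n11911 = n10472 := d4_1 D11911 (iv D10472) (iv F40733)
theorem F46806 : act 2 n11911 = n10442 := d17_1 D11911 (iv D10442) (iv F40734)
theorem F46807 : act 3 n11911 = n10543 := d22_1 D11911 (iv D10543) (iv F40735)
def n11912 : Q := act 8 n10440
theorem D11912 : act 8 n10440 = n11912 := rfl
theorem F46808 : act 0 n11912 = n10473 := d7_1 D11912 (iv D10473) (iv F40733)
theorem F46809 : act 2 n11912 = n10443 := d20_1 D11912 (iv D10443) (iv F40734)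
theorem F46810 : act 3 n11912 = n10544 := d25_1 D11912 (iv D10544) (iv F40735)
theorem F46811 : act 4 n11912 = n10441 := d29_1 D11912 (iv D10441) D10440
theorem F46812 : act 6 n11912 = n11305 := d34_1 D11912 (iv D11305) (iv F40736)
def n11913 : Q := act 7 n10441
theorem D11913 : act 7 n10441 = n11913 := rfl
theorem F46813 : act 0 n11913 = n10474 := d6_1 D11913 (iv D10474) (iv F40737)
theorem F46814 : act 2 n11913 = n10444 := d19_1 D11913 (iv D10444) (iv F40738)
theorem F46815 : act 6 n11913 = n11306 := d33_1 D11913 (iv D11306) (iv F40740)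
def n11914 : Q := act 6 n10442
theorem D11914 : act 6 n10442 = n11914 := rfl
theorem F46816 : act 0 n11914 = n10475 := d5_1 D11914 (iv D10475) (iv F40741)
theorem F46817 : act 3 n11914 = n10448 := d23_1 D11914 (iv D10448) (iv F40742)
def n11915 : Q := act 8 n10442
theorem D11915 : act 8 n10442 = n11915 := rfl
theorem F46818 : act 0 n11915 = n10476 := d7_1 D11915 (iv D10476) (iv F40741)
theorem F46819 : act 3 n11915 = n10449 := d25_1 D11915 (iv D10449) (iv F40742)
theorem F46820 : act 5 n11915 = n10443 := d32_1 D11915 (iv D10443) D10442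
def n11916 : Q := act 7 n10443
theorem D11916 : act 7 n10443 = n11916 := rfl
theorem F46821 : act 0 n11916 = n10477 := d6_1 D11916 (iv D10477) (iv F40743)
theorem F46822 : act 4 n11916 = n10444 := d28_1 D11916 (iv D10444) (iv F40745)
def n11917 : Q := act 6 n10445
theorem D11917 : act 6 n10445 = n11917 := rfl
theorem F46823 : act 0 n11917 = n10478 := d5_1 D11917 (iv D10478) (iv F40747)
theorem F46824 : act 2 n11917 = n10549 := d18_1 D11917 (iv D10549) (iv F40748)
theorem F46825 : act 4 n11917 = n11917 := d27_1 D11917 (iv D11917) F40749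
theorem F46826 : act 5 n11917 = n10448 := d30_1 D11917 (iv D10448) (iv D8617) (iv F32797) D10445
theorem F46827 : act 7 n11917 = n11047 := d33_2 (iv F40750) D11917 (iv D11047)
def n11918 : Q := act 8 n10445
theorem D11918 : act 8 n10445 = n11918 := rfl
theorem F46828 : act 0 n11918 = n10479 := d7_1 D11918 (iv D10479) (iv F40747)
theorem F46829 : act 2 n11918 = n10550 := d20_1 D11918 (iv D10550) (iv F40748)
theorem F46830 : act 4 n11918 = n11918 := d29_1 D11918 (iv D11918) F40749
theorem F46831 : act 5 n11918 = n10446 := d32_1 D11918 (iv D10446) D10445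
def n11919 : Q := act 7 n10446
theorem D11919 : act 7 n10446 = n11919 := rfl
theorem F46832 : act 0 n11919 = n10480 := d6_1 D11919 (iv D10480) (iv F40751)
theorem F46833 : act 2 n11919 = n10551 := d19_1 D11919 (iv D10551) (iv F40752)
theorem F46834 : act 4 n11919 = n10447 := d28_1 D11919 (iv D10447) (iv F40753)
theorem F46835 : act 6 n11919 = n10450 := d33_1 D11919 (iv D10450) (iv F40754)
theorem F46836 : act 8 n11919 = n10804 := d35_2 D10446 D11919 F42102 F44686 (iv F32798)
def n11920 : Q := act 8 n10448
theorem D11920 : act 8 n10448 = n11920 := rfl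
theorem F46837 : act 0 n11920 = n10481 := d7_1 D11920 (iv D10481) (iv F40760)
theorem F46838 : act 2 n11920 = n10552 := d20_1 D11920 (iv D10552) (iv F40761)
theorem F46839 : act 4 n11920 = n10451 := d29_1 D11920 (iv D10451) (iv F40762)
theorem F46840 : act 6 n11920 = n10449 := d34_1 D11920 (iv D10449) D10448
def n11921 : Q := act 7 n10449
theorem D11921 : act 7 n10449 = n11921 := rfl
theorem F46841 : act 0 n11921 = n10482 := d6_1 D11921 (iv D10482) (iv F40764)
theorem F46842 : act 2 n11921 = n10553 := d19_1 D11921 (iv D10553) (iv F40765)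
theorem F46843 : act 4 n11921 = n10452 := d28_1 D11921 (iv D10452) (iv F40766)
theorem F46844 : act 5 n11921 = n10450 := d31_1 D11921 (iv D10450) (iv F40767)
theorem F46845 : act 8 n11921 = n11051 := d35_2 D10449 D11921 (iv D11051) (iv D9332) (iv F32807)
def n11922 : Q := act 3 n10450
theorem D11922 : act 3 n10450 = n11922 := rfl
theorem F46846 : act 0 n11922 = n10483 := d2_1 D11922 (iv D10483) (iv F40768)
theorem F46847 : act 8 n11922 = n11052 := d25_2 (iv F40771) D11922 (iv D11052)
def n11923 : Q := act 7 n10451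
theorem D11923 : act 7 n10451 = n11923 := rfl
theorem F46848 : act 0 n11923 = n10484 := d6_1 D11923 (iv D10484) (iv F40772)
theorem F46849 : act 2 n11923 = n10555 := d19_1 D11923 (iv D10555) (iv F40773)
theorem F46850 : act 5 n11923 = n11923 := d31_1 D11923 (iv D11923) F40774
theorem F46851 : act 6 n11923 = n10452 := d33_1 D11923 (iv D10452) (iv F40775)
theorem F46852 : act 8 n11923 = n11053 := d35_2 D10451 D11923 (iv D11053) (iv D9334) (iv F32818)
def n11924 : Q := act 3 n10452
theorem D11924 : act 3 n10452 = n11924 := rfl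
theorem F46853 : act 0 n11924 = n10485 := d2_1 D11924 (iv D10485) (iv F40776)
theorem F46854 : act 5 n11924 = n10453 := d22_2 (iv F40778) D11924 (iv D10453)
theorem F46855 : act 8 n11924 = n11054 := d25_2 (iv F40779) D11924 (iv D11054)
def n11925 : Q := act 2 n10453
theorem D11925 : act 2 n10453 = n11925 := rfl
theorem F46856 : act 0 n11925 = n10486 := d1_1 D11925 (iv D10486) (iv F40780)
theorem F46857 : act 3 n11925 = n10557 := d15_2 D10453 D11925 (iv D10557) (iv D8873) (iv F32823)
theorem F46858 : act 6 n11925 = n11925 := d18_2 F40781 D11925 (iv D11925)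
theorem F46859 : act 8 n11925 = n11055 := d20_2 (iv F40782) D11925 (iv D11055)
def n11926 : Q := act 8 n10454
theorem D11926 : act 8 n10454 = n11926 := rfl
theorem F46860 : act 0 n11926 = n10455 := d7_1 D11926 (iv D10455) D10454
theorem F46861 : act 1 n11926 = n10487 := d14_1 D11926 (iv D10487) (iv F40783)
theorem F46862 : act 2 n11926 = n11716 := d20_1 D11926 (iv D11716) (iv F40784)
theorem F46863 : act 4 n11926 = n10558 := d29_1 D11926 (iv D10558) (iv F40785)
theorem F46864 : act 6 n11926 = n11246 := d34_1 D11926 (iv D11246) (iv F40786)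
def n11927 : Q := act 5 n10458
theorem D11927 : act 5 n10458 = n11927 := rfl
theorem F46865 : act 1 n11927 = n11079 := d11_1 D11927 F43025 (iv F44717)
theorem F46866 : act 2 n11927 = n11313 := d17_1 D11927 (iv D11313) (iv F40797)
theorem F46867 : act 3 n11927 = n10863 := d22_1 D11927 F42315 (iv F44718)
theorem F46868 : act 7 n11927 = n10466 := d31_2 (iv F40800) D11927 (iv D10466)
def n11928 : Q := act 7 n10459
theorem D11928 : act 7 n10459 = n11928 := rfl
theorem F46869 : act 2 n11928 = n11315 := d19_1 D11928 (iv D11315) (iv F40801)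
theorem F46870 : act 6 n11928 = n10465 := d33_1 D11928 (iv D10465) (iv F40803)
theorem F46871 : act 8 n11928 = n10468 := d35_2 D10459 D11928 (iv D10468) (iv D8641) (iv F32855)
def n11929 : Q := act 0 n10460
theorem D11929 : act 0 n10460 = n11929 := rfl
theorem F46872 : act 3 n11929 = n10510 := d2_2 (iv F40804) D11929 (iv D10510)
theorem F46873 : act 6 n11929 = n11255 := d5_2 (iv F40805) D11929 F43732
theorem F46874 : act 7 n11929 = n10469 := d6_2 (iv F40806) D11929 (iv D10469)
def n11930 : Q := act 4 n10460
theorem D11930 : act 4 n10460 = n11930 := rfl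
theorem F46875 : act 1 n11930 = n10461 := d10_1 D11930 (iv D10461) D10460
theorem F46876 : act 3 n11930 = n11930 := d21_1 D11930 (iv D11930) F40804 F33412 (iv F40804)
theorem F46877 : act 6 n11930 = n11270 := d27_2 (iv F40805) D11930 (iv D11270)
theorem F46878 : act 7 n11930 = n10470 := d28_2 (iv F40806) D11930 (iv D10470)
def n11931 : Q := act 8 n10460
theorem D11931 : act 8 n10460 = n11931 := rfl
theorem F46879 : act 1 n11931 = n10462 := d14_1 D11931 (iv D10462) D10460
theorem F46880 : act 3 n11931 = n10511 := d25_1 D11931 (iv D10511) (iv F40804)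
theorem F46881 : act 6 n11931 = n11271 := d34_1 D11931 (iv D11271) (iv F40805)
def n11932 : Q := act 5 n10461
theorem D11932 : act 5 n10461 = n11932 := rfl
theorem F46882 : act 2 n11932 = n10463 := d17_1 D11932 (iv D10463) (iv F40807)
theorem F46883 : act 3 n11932 = n11932 := d22_1 D11932 (iv D11932) F40808
theorem F46884 : act 7 n11932 = n10472 := d31_2 (iv F40810) D11932 (iv D10472)
def n11933 : Q := act 8 n10461
theorem D11933 : act 8 n10461 = n11933 := rfl
theorem F46885 : act 2 n11933 = n10464 := d20_1 D11933 (iv D10464) (iv F40807)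
theorem F46886 : act 3 n11933 = n11933 := d25_1 D11933 (iv D11933) F40808
theorem F46887 : act 4 n11933 = n10462 := d29_1 D11933 (iv D10462) D10461
theorem F46888 : act 6 n11933 = n11314 := d34_1 D11933 (iv D11314) (iv F40809)
def n11934 : Q := act 7 n10462
theorem D11934 : act 7 n10462 = n11934 := rfl
theorem F46889 : act 2 n11934 = n10465 := d19_1 D11934 (iv D10465) (iv F40811)
theorem F46890 : act 6 n11934 = n11315 := d33_1 D11934 (iv D11315) (iv F40813)
theorem F46891 : act 8 n11934 = n10474 := d35_2 D10462 D11934 (iv D10474) (iv D8644) (iv F32860)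
def n11935 : Q := act 6 n10463
theorem D11935 : act 6 n10463 = n11935 := rfl
theorem F46892 : act 3 n11935 = n11063 := d23_1 D11935 (iv D11063) (iv F40814)
theorem F46893 : act 7 n11935 = n10475 := d33_2 (iv F40815) D11935 (iv D10475)
def n11936 : Q := act 8 n10463
theorem D11936 : act 8 n10463 = n11936 := rfl
theorem F46894 : act 3 n11936 = n11064 := d25_1 D11936 (iv D11064) (iv F40814)
theorem F46895 : act 5 n11936 = n10464 := d32_1 D11936 (iv D10464) D10463
def n11937 : Q := act 7 n10464
theorem D11937 : act 7 n10464 = n11937 := rfl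
theorem F46896 : act 4 n11937 = n10465 := d28_1 D11937 (iv D10465) (iv F40817)
theorem F46897 : act 8 n11937 = n10477 := d35_2 D10464 D11937 (iv D10477) (iv D8646) (iv F32862)
def n11938 : Q := act 6 n10466
theorem D11938 : act 6 n10466 = n11938 := rfl
theorem F46898 : act 2 n11938 = n11316 := d18_1 D11938 (iv D11316) (iv F40819)
theorem F46899 : act 3 n11938 = n10478 := d23_1 D11938 (iv D10478) (iv F40820)
theorem F46900 : act 5 n11938 = n10475 := d30_1 D11938 (iv D10475) (iv D8645) (iv F32871) D10466
def n11939 : Q := act 8 n10466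
theorem D11939 : act 8 n10466 = n11939 := rfl
theorem F46901 : act 2 n11939 = n11317 := d20_1 D11939 (iv D11317) (iv F40819)
theorem F46902 : act 3 n11939 = n10479 := d25_1 D11939 (iv D10479) (iv F40820)
theorem F46903 : act 5 n11939 = n10467 := d32_1 D11939 (iv D10467) D10466
def n11940 : Q := act 7 n10467
theorem D11940 : act 7 n10467 = n11940 := rfl
theorem F46904 : act 2 n11940 = n11318 := d19_1 D11940 (iv D11318) (iv F40821)
theorem F46905 : act 4 n11940 = n10468 := d28_1 D11940 (iv D10468) (iv F40823)
theorem F46906 : act 6 n11940 = n10477 := d33_1 D11940 (iv D10477) (iv F40824)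
def n11941 : Q := act 4 n10469
theorem D11941 : act 4 n10469 = n11941 := rfl
theorem F46907 : act 0 n11941 = n10470 := d3_1 D11941 (iv D10470) D10469
theorem F46908 : act 3 n11941 = n10559 := d21_1 D11941 (iv D10559) F33729 (iv F32930) (iv F40827)
theorem F46909 : act 6 n11941 = n11258 := d27_2 (iv F40828) D11941 (iv D11258)
def n11942 : Q := act 8 n10469
theorem D11942 : act 8 n10469 = n11942 := rfl
theorem F46910 : act 0 n11942 = n10471 := d7_1 D11942 (iv D10471) D10469
theorem F46911 : act 3 n11942 = n10487 := d25_1 D11942 (iv D10487) (iv F40827)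
theorem F46912 : act 6 n11942 = n11259 := d34_1 D11942 (iv D11259) (iv F40828)
def n11943 : Q := act 5 n10470
theorem D11943 : act 5 n10470 = n11943 := rfl
theorem F46913 : act 1 n11943 = n10472 := d11_1 D11943 (iv D10472) (iv F40829)
theorem F46914 : act 3 n11943 = n10561 := d22_1 D11943 (iv D10561) (iv F40830)
def n11944 : Q := act 8 n10470
theorem D11944 : act 8 n10470 = n11944 := rfl
theorem F46915 : act 1 n11944 = n10473 := d14_1 D11944 (iv D10473) (iv F40829)
theorem F46916 : act 3 n11944 = n10562 := d25_1 D11944 (iv D10562) (iv F40830)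
theorem F46917 : act 4 n11944 = n10471 := d29_1 D11944 (iv D10471) D10470
theorem F46918 : act 6 n11944 = n11275 := d34_1 D11944 (iv D11275) (iv F40831)
def n11945 : Q := act 7 n10471
theorem D11945 : act 7 n10471 = n11945 := rfl
theorem F46919 : act 1 n11945 = n10474 := d13_1 D11945 (iv D10474) (iv F40832)
theorem F46920 : act 6 n11945 = n11276 := d33_1 D11945 (iv D11276) (iv F40834)
def n11946 : Q := act 6 n10472
theorem D11946 : act 6 n10472 = n11946 := rfl
theorem F46921 : act 2 n11946 = n10475 := d18_1 D11946 (iv D10475) (iv F40835)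
theorem F46922 : act 3 n11946 = n10564 := d23_1 D11946 (iv D10564) (iv F40836)
theorem F46923 : act 5 n11946 = n11316 := d30_1 D11946 (iv D11316) (iv D9929) F38590 D10472
def n11947 : Q := act 8 n10472
theorem D11947 : act 8 n10472 = n11947 := rfl
theorem F46924 : act 2 n11947 = n10476 := d20_1 D11947 (iv D10476) (iv F40835)
theorem F46925 : act 3 n11947 = n10565 := d25_1 D11947 (iv D10565) (iv F40836)
theorem F46926 : act 5 n11947 = n10473 := d32_1 D11947 (iv D10473) D10472
def n11948 : Q := act 7 n10473
theorem D11948 : act 7 n10473 = n11948 := rfl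
theorem F46927 : act 2 n11948 = n10477 := d19_1 D11948 (iv D10477) (iv F40837)
theorem F46928 : act 4 n11948 = n10474 := d28_1 D11948 (iv D10474) (iv F40839)
theorem F46929 : act 6 n11948 = n11318 := d33_1 D11948 (iv D11318) (iv F40840)
def n11949 : Q := act 8 n10475
theorem D11949 : act 8 n10475 = n11949 := rfl
theorem F46930 : act 3 n11949 = n10481 := d25_1 D11949 (iv D10481) (iv F40843)
theorem F46931 : act 6 n11949 = n10476 := d34_1 D11949 (iv D10476) D10475
def n11950 : Q := act 7 n10476
theorem D11950 : act 7 n10476 = n11950 := rfl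
theorem F46932 : act 5 n11950 = n10477 := d31_1 D11950 (iv D10477) (iv F40845)
def n11951 : Q := act 3 n10477
theorem D11951 : act 3 n10477 = n11951 := rfl
theorem F46933 : act 7 n11951 = n10483 := d24_2 D10477 D11951 (iv D10483) (iv D8653) (iv F32880)
def n11952 : Q := act 8 n10478
theorem D11952 : act 8 n10478 = n11952 := rfl
theorem F46934 : act 2 n11952 = n10570 := d20_1 D11952 (iv D10570) (iv F40847)
theorem F46935 : act 4 n11952 = n11952 := d29_1 D11952 (iv D11952) F40848
theorem F46936 : act 5 n11952 = n10481 := d32_1 D11952 (iv D10481) (iv F40849)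
theorem F46937 : act 6 n11952 = n10479 := d34_1 D11952 (iv D10479) D10478
def n11953 : Q := act 7 n10479
theorem D11953 : act 7 n10479 = n11953 := rfl
theorem F46938 : act 1 n11953 = n11064 := d13_1 D11953 (iv F46412) F46408
theorem F46939 : act 2 n11953 = n10571 := d19_1 D11953 (iv D10571) (iv F40851)
theorem F46940 : act 4 n11953 = n11953 := d28_1 D11953 (iv D11953) F40852
theorem F46941 : act 5 n11953 = n10480 := d31_1 D11953 (iv D10480) (iv F40853)
theorem F46942 : act 8 n11953 = n10842 := d35_2 D10479 D11953 F42243 F44661 (iv F32884)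
def n11954 : Q := act 7 n10481
theorem D11954 : act 7 n10481 = n11954 := rfl
theorem F46943 : act 2 n11954 = n10573 := d19_1 D11954 (iv D10573) (iv F40858)
theorem F46944 : act 4 n11954 = n10484 := d28_1 D11954 (iv D10484) (iv F40859)
theorem F46945 : act 6 n11954 = n10482 := d33_1 D11954 (iv D10482) (iv F40860)
theorem F46946 : act 8 n11954 = n11078 := d35_2 D10481 D11954 (iv D11078) (iv D9356) (iv F32894)
def n11955 : Q := act 3 n10482
theorem D11955 : act 3 n10482 = n11955 := rfl
theorem F46947 : act 5 n11955 = n10483 := d22_2 (iv F40863) D11955 (iv D10483)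
theorem F46948 : act 8 n11955 = n11079 := d25_2 (iv F40864) D11955 (iv D11079)
def n11956 : Q := act 2 n10483
theorem D11956 : act 2 n10483 = n11956 := rfl
theorem F46949 : act 3 n11956 = n10575 := d15_2 D10483 D11956 (iv D10575) (iv D8906) (iv F32898)
theorem F46950 : act 8 n11956 = n11080 := d20_2 (iv F40865) D11956 (iv D11080)
def n11957 : Q := act 7 n10488
theorem D11957 : act 7 n10488 = n11957 := rfl
theorem F46951 : act 0 n11957 = n11957 := d6_1 D11957 (iv D11957) F40879
theorem F46952 : act 2 n11957 = n10490 := d19_1 D11957 (iv D10490) (iv F40880)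
theorem F46953 : act 4 n11957 = n11086 := d28_1 D11957 (iv D11086) (iv F40882)
theorem F46954 : act 6 n11957 = n10489 := d33_1 D11957 (iv D10489) D10488
def n11958 : Q := act 3 n10489
theorem D11958 : act 3 n10489 = n11958 := rfl
theorem F46955 : act 0 n11958 = n11958 := d2_1 D11958 (iv D11958) F40884
theorem F46956 : act 5 n11958 = n11325 := d22_2 (iv F40887) D11958 (iv D11325)
theorem F46957 : act 7 n11958 = n11605 := d24_2 D10489 D11958 (iv D11605) (iv D10142) (iv F32967)
def n11959 : Q := act 8 n10489
theorem D11959 : act 8 n10489 = n11959 := rfl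
theorem F46958 : act 0 n11959 = n11959 := d7_1 D11959 (iv D11959) F40884
theorem F46959 : act 2 n11959 = n10492 := d20_1 D11959 (iv D10492) (iv F40885)
theorem F46960 : act 4 n11959 = n11088 := d29_1 D11959 (iv D11088) (iv F40886)
theorem F46961 : act 5 n11959 = n11326 := d32_1 D11959 (iv D11326) (iv F40887)
theorem F46962 : act 7 n11959 = n10502 := d35_1 D11959 (iv D10502) (iv D8760) (iv F32970) D10489
def n11960 : Q := act 8 n10490
theorem D11960 : act 8 n10490 = n11960 := rfl
theorem F46963 : act 0 n11960 = n11960 := d7_1 D11960 (iv D11960) F40888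
theorem F46964 : act 1 n11960 = n10496 := d14_1 D11960 (iv D10496) (iv F40889)
theorem F46965 : act 4 n11960 = n11092 := d29_1 D11960 (iv D11092) (iv F40890)
theorem F46966 : act 6 n11960 = n10492 := d34_1 D11960 (iv D10492) (iv F40891)
theorem F46967 : act 7 n11960 = n10503 := d35_1 D11960 (iv D10503) (iv D8762) (iv F32975) D10490
def n11961 : Q := act 2 n10491
theorem D11961 : act 2 n10491 = n11961 := rfl
theorem F46968 : act 0 n11961 = n11961 := d1_1 D11961 (iv D11961) F40892
theorem F46969 : act 5 n11961 = n10500 := d17_2 (iv F40894) D11961 F40929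
theorem F46970 : act 7 n11961 = n10493 := d19_2 (iv F40895) D11961 (iv D10493)
def n11962 : Q := act 4 n10491
theorem D11962 : act 4 n10491 = n11962 := rfl
theorem F46971 : act 0 n11962 = n11962 := d3_1 D11962 (iv D11962) F40892
theorem F46972 : act 1 n11962 = n10497 := d10_1 D11962 (iv D10497) (iv F40893)
theorem F46973 : act 3 n11962 = n11094 := d21_1 D11962 (iv D11094) (iv D9366) (iv F32978) D10491
theorem F46974 : act 5 n11962 = n11156 := d26_2 (iv F40894) D11962 F43346 F35664 (iv F33305)
theorem F46975 : act 7 n11962 = n10494 := d28_2 (iv F40895) D11962 (iv D10494)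
def n11963 : Q := act 8 n10491
theorem D11963 : act 8 n10491 = n11963 := rfl
theorem F46976 : act 0 n11963 = n11963 := d7_1 D11963 (iv D11963) F40892
theorem F46977 : act 1 n11963 = n10498 := d14_1 D11963 (iv D10498) (iv F40893)
theorem F46978 : act 3 n11963 = n10492 := d25_1 D11963 (iv D10492) D10491
theorem F46979 : act 5 n11963 = n10503 := d32_1 D11963 (iv D10503) (iv F40894)
def n11964 : Q := act 4 n10493
theorem D11964 : act 4 n10493 = n11964 := rfl
theorem F46980 : act 0 n11964 = n11964 := d3_1 D11964 (iv D11964) F40901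
theorem F46981 : act 2 n11964 = n10494 := d16_1 D11964 (iv D10494) D10493
theorem F46982 : act 5 n11964 = n11150 := d26_2 (iv F40903) D11964 (iv D11150) (iv D9425) (iv F33296)
def n11965 : Q := act 8 n10497
theorem D11965 : act 8 n10497 = n11965 := rfl
theorem F46983 : act 0 n11965 = n10499 := d7_1 D11965 (iv D10499) (iv F40917)
theorem F46984 : act 3 n11965 = n11116 := d25_1 D11965 (iv D11116) (iv F40918)
theorem F46985 : act 4 n11965 = n10498 := d29_1 D11965 (iv D10498) D10497
theorem F46986 : act 5 n11965 = n11158 := d32_1 D11965 (iv D11158) (iv F40919)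
def n11966 : Q := act 3 n10500
theorem D11966 : act 3 n10500 = n11966 := rfl
theorem F46987 : act 0 n11966 = n11966 := d2_1 D11966 (iv D11966) F40928
theorem F46988 : act 2 n11966 = n11325 := d15_1 D11966 (iv D11325) F38875 F38636 (iv F40929)
theorem F46989 : act 6 n11966 = n10501 := d23_2 (iv F40931) D11966 (iv D10501)
def n11967 : Q := act 8 n10500
theorem D11967 : act 8 n10500 = n11967 := rfl
theorem F46990 : act 0 n11967 = n11967 := d7_1 D11967 (iv D11967) F40928
theorem F46991 : act 2 n11967 = n10503 := d20_1 D11967 (iv D10503) (iv F40929)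
theorem F46992 : act 4 n11967 = n11153 := d29_1 D11967 (iv D11153) (iv F40930)
theorem F46993 : act 6 n11967 = n10502 := d34_1 D11967 (iv D10502) (iv F40931)
def n11968 : Q := act 2 n10501
theorem D11968 : act 2 n10501 = n11968 := rfl
theorem F46994 : act 0 n11968 = n11968 := d1_1 D11968 (iv D11968) F40932
theorem F46995 : act 3 n11968 = n10504 := d15_2 D10501 D11968 (iv D10504) (iv D8763) (iv F33298)
theorem F46996 : act 6 n11968 = n11325 := d18_2 F46989 D11968 (iv F46988)
theorem F46997 : act 7 n11968 = n11966 := d19_2 F43930 D11968 F46988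
def n11969 : Q := act 4 n10501
theorem D11969 : act 4 n10501 = n11969 := rfl
theorem F46998 : act 0 n11969 = n11969 := d3_1 D11969 (iv D11969) F40932
theorem F46999 : act 3 n11969 = n11154 := d21_1 D11969 (iv D11154) (iv D9427) (iv F33299) D10501
def n11970 : Q := act 8 n10501
theorem D11970 : act 8 n10501 = n11970 := rfl
theorem F47000 : act 0 n11970 = n11970 := d7_1 D11970 (iv D11970) F40932
theorem F47001 : act 3 n11970 = n10502 := d25_1 D11970 (iv D10502) D10501
def n11971 : Q := act 1 n10504
theorem D11971 : act 1 n10504 = n11971 := rfl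
theorem F47002 : act 2 n11971 = n10507 := d8_2 D10504 D11971 (iv D10507) (iv D8774) (iv F33308)
theorem F47003 : act 4 n11971 = n11971 := d10_2 F40942 D11971 (iv D11971)
theorem F47004 : act 6 n11971 = n11284 := d12_2 (iv F40943) D11971 F43819
theorem F47005 : act 7 n11971 = n10506 := d13_2 (iv F40944) D11971 (iv D10506)
def n11972 : Q := act 8 n10504
theorem D11972 : act 8 n10504 = n11972 := rfl
theorem F47006 : act 0 n11972 = n11972 := d7_1 D11972 (iv D11972) F40941
theorem F47007 : act 2 n11972 = n10505 := d20_1 D11972 (iv D10505) D10504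
theorem F47008 : act 4 n11972 = n11972 := d29_1 D11972 (iv D11972) F40942
theorem F47009 : act 6 n11972 = n11326 := d34_1 D11972 (iv D11326) (iv F40943)
def n11973 : Q := act 0 n10506
theorem D11973 : act 0 n10506 = n11973 := rfl
theorem F47010 : act 1 n11973 = n11973 := d0_2 D10506 D11973 (iv D11973) (iv D10506) F33326
theorem F47011 : act 2 n11973 = n10509 := d1_2 (iv F40950) D11973 (iv D10509)
theorem F47012 : act 3 n11973 = n11708 := d2_2 (iv F40951) D11973 F46105
theorem F47013 : act 4 n11973 = n11973 := d3_2 F40952 D11973 (iv D11973)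
theorem F47014 : act 6 n11973 = n11243 := d5_2 (iv F40953) D11973 F43686
def n11974 : Q := act 0 n10507
theorem D11974 : act 0 n10507 = n11974 := rfl
theorem F47015 : act 1 n11974 = n10510 := d0_2 D10507 D11974 (iv D10510) (iv D8797) (iv F33344)
theorem F47016 : act 4 n11974 = n11974 := d3_2 F40954 D11974 (iv D11974)
theorem F47017 : act 6 n11974 = n11244 := d5_2 (iv F40955) D11974 F43690
theorem F47018 : act 7 n11974 = n10509 := d6_2 (iv F40956) D11974 (iv D10509)
def n11975 : Q := act 8 n10507
theorem D11975 : act 8 n10507 = n11975 := rfl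
theorem F47019 : act 1 n11975 = n10508 := d14_1 D11975 (iv D10508) D10507
theorem F47020 : act 4 n11975 = n11975 := d29_1 D11975 (iv D11975) F40954
theorem F47021 : act 6 n11975 = n11286 := d34_1 D11975 (iv D11286) (iv F40955)
def n11976 : Q := act 8 n10510
theorem D11976 : act 8 n10510 = n11976 := rfl
theorem F47022 : act 0 n11976 = n10511 := d7_1 D11976 (iv D10511) D10510
theorem F47023 : act 2 n11976 = n11976 := d20_1 D11976 (iv D11976) F40965
theorem F47024 : act 4 n11976 = n11976 := d29_1 D11976 (iv D11976) F40966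
theorem F47025 : act 6 n11976 = n11256 := d34_1 D11976 (iv D11256) (iv F40967)
def n11977 : Q := act 0 n10512
theorem D11977 : act 0 n10512 = n11977 := rfl
theorem F47026 : act 1 n11977 = n11977 := d0_2 D10512 D11977 (iv D11977) (iv D10512) F33521
theorem F47027 : act 2 n11977 = n10540 := d1_2 (iv F40973) D11977 (iv D10540)
theorem F47028 : act 3 n11977 = n11720 := d2_2 (iv F40974) D11977 F46148
theorem F47029 : act 5 n11977 = n11977 := d4_2 F40975 D11977 (iv D11977)
theorem F47030 : act 6 n11977 = n11247 := d5_2 (iv F40976) D11977 F43699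
theorem F47031 : act 7 n11977 = n11977 := d6_2 F40977 D11977 (iv D11977)
def n11978 : Q := act 4 n10512
theorem D11978 : act 4 n10512 = n11978 := rfl
theorem F47032 : act 1 n11978 = n10513 := d10_1 D11978 (iv D10513) D10512
theorem F47033 : act 2 n11978 = n10541 := d16_1 D11978 (iv D10541) (iv F40973)
theorem F47034 : act 6 n11978 = n11290 := d27_2 (iv F40976) D11978 (iv D11290)
theorem F47035 : act 7 n11978 = n11978 := d28_2 F40977 D11978 (iv D11978)
def n11979 : Q := act 8 n10512
theorem D11979 : act 8 n10512 = n11979 := rfl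
theorem F47036 : act 1 n11979 = n10514 := d14_1 D11979 (iv D10514) D10512
theorem F47037 : act 2 n11979 = n10542 := d20_1 D11979 (iv D10542) (iv F40973)
theorem F47038 : act 3 n11979 = n11874 := d25_1 D11979 (iv D11874) (iv F40974)
theorem F47039 : act 5 n11979 = n11979 := d32_1 D11979 (iv D11979) F40975
theorem F47040 : act 6 n11979 = n11291 := d34_1 D11979 (iv D11291) (iv F40976)
def n11980 : Q := act 3 n10513
theorem D11980 : act 3 n10513 = n11980 := rfl
theorem F47041 : act 0 n11980 = n11980 := d2_1 D11980 (iv D11980) F40978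
theorem F47042 : act 2 n11980 = n10523 := d15_1 D11980 (iv D10523) F33546 (iv F33526) (iv F40979)
theorem F47043 : act 6 n11980 = n11327 := d23_2 (iv F40980) D11980 (iv D11327)
def n11981 : Q := act 5 n10513
theorem D11981 : act 5 n10513 = n11981 := rfl
theorem F47044 : act 0 n11981 = n11981 := d4_1 D11981 (iv D11981) F40978
theorem F47045 : act 2 n11981 = n10515 := d17_1 D11981 (iv D10515) (iv F40979)
theorem F47046 : act 4 n11981 = n11981 := d26_1 D11981 (iv D11981) (iv D10513) F33522 D10513
theorem F47047 : act 7 n11981 = n11981 := d31_2 F40981 D11981 (iv D11981)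
def n11982 : Q := act 8 n10513
theorem D11982 : act 8 n10513 = n11982 := rfl
theorem F47048 : act 0 n11982 = n11982 := d7_1 D11982 (iv D11982) F40978
theorem F47049 : act 2 n11982 = n10516 := d20_1 D11982 (iv D10516) (iv F40979)
theorem F47050 : act 4 n11982 = n10514 := d29_1 D11982 (iv D10514) D10513
theorem F47051 : act 6 n11982 = n11329 := d34_1 D11982 (iv D11329) (iv F40980)
def n11983 : Q := act 7 n10514
theorem D11983 : act 7 n10514 = n11983 := rfl
theorem F47052 : act 0 n11983 = n11983 := d6_1 D11983 (iv D11983) F40982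
theorem F47053 : act 2 n11983 = n10517 := d19_1 D11983 (iv D10517) (iv F40983)
theorem F47054 : act 5 n11983 = n11983 := d31_1 D11983 (iv D11983) F40984
theorem F47055 : act 6 n11983 = n11330 := d33_1 D11983 (iv D11330) (iv F40985)
theorem F47056 : act 8 n11983 = n11983 := d35_2 D10514 D11983 (iv D11983) (iv D10514) F33523
def n11984 : Q := act 6 n10515
theorem D11984 : act 6 n10515 = n11984 := rfl
theorem F47057 : act 0 n11984 = n11984 := d5_1 D11984 (iv D11984) F40986
theorem F47058 : act 1 n11984 = n10546 := d12_1 D11984 (iv D10546) (iv F40987)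
theorem F47059 : act 3 n11984 = n10527 := d23_1 D11984 (iv D10527) (iv F40988)
theorem F47060 : act 4 n11984 = n11984 := d27_1 D11984 (iv D11984) F40989
theorem F47061 : act 5 n11984 = n11331 := d30_1 D11984 (iv D11331) (iv D9942) (iv F38593) D10515
theorem F47062 : act 7 n11984 = n11984 := d33_2 F40990 D11984 (iv D11984)
def n11985 : Q := act 8 n10515
theorem D11985 : act 8 n10515 = n11985 := rfl
theorem F47063 : act 0 n11985 = n11985 := d7_1 D11985 (iv D11985) F40986
theorem F47064 : act 1 n11985 = n10547 := d14_1 D11985 (iv D10547) (iv F40987)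
theorem F47065 : act 3 n11985 = n10528 := d25_1 D11985 (iv D10528) (iv F40988)
theorem F47066 : act 4 n11985 = n11985 := d29_1 D11985 (iv D11985) F40989
theorem F47067 : act 5 n11985 = n10516 := d32_1 D11985 (iv D10516) D10515
def n11986 : Q := act 7 n10516
theorem D11986 : act 7 n10516 = n11986 := rfl
theorem F47068 : act 0 n11986 = n11986 := d6_1 D11986 (iv D11986) F40991
theorem F47069 : act 1 n11986 = n10548 := d13_1 D11986 (iv D10548) (iv F40992)
theorem F47070 : act 4 n11986 = n10517 := d28_1 D11986 (iv D10517) (iv F40994)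
theorem F47071 : act 6 n11986 = n11333 := d33_1 D11986 (iv D11333) (iv F40995)
theorem F47072 : act 8 n11986 = n11986 := d35_2 D10516 D11986 (iv D11986) (iv D10516) F33527
def n11987 : Q := act 3 n10518
theorem D11987 : act 3 n10518 = n11987 := rfl
theorem F47073 : act 0 n11987 = n11987 := d2_1 D11987 (iv D11987) F41002
theorem F47074 : act 2 n11987 = n11327 := d15_1 D11987 (iv D11327) F38881 F38595 (iv F41003)
theorem F47075 : act 4 n11987 = n11980 := d21_2 D10518 D11987 (iv D11980) (iv D10513) (iv F38597)
theorem F47076 : act 6 n11987 = n10523 := d23_2 (iv F41004) D11987 (iv D10523)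
def n11988 : Q := act 5 n10518
theorem D11988 : act 5 n10518 = n11988 := rfl
theorem F47077 : act 0 n11988 = n11988 := d4_1 D11988 (iv D11988) F41002
theorem F47078 : act 2 n11988 = n10520 := d17_1 D11988 (iv D10520) (iv F41003)
theorem F47079 : act 4 n11988 = n11988 := d26_1 D11988 (iv D11988) (iv D10518) F33533 D10518
theorem F47080 : act 7 n11988 = n11160 := d31_2 (iv F41005) D11988 (iv D11160)
def n11989 : Q := act 8 n10518
theorem D11989 : act 8 n10518 = n11989 := rfl
theorem F47081 : act 0 n11989 = n11989 := d7_1 D11989 (iv D11989) F41002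
theorem F47082 : act 2 n11989 = n10521 := d20_1 D11989 (iv D10521) (iv F41003)
theorem F47083 : act 4 n11989 = n10519 := d29_1 D11989 (iv D10519) D10518
theorem F47084 : act 6 n11989 = n10525 := d34_1 D11989 (iv D10525) (iv F41004)
def n11990 : Q := act 7 n10519
theorem D11990 : act 7 n10519 = n11990 := rfl
theorem F47085 : act 0 n11990 = n11990 := d6_1 D11990 (iv D11990) F41006
theorem F47086 : act 2 n11990 = n10522 := d19_1 D11990 (iv D10522) (iv F41007)
theorem F47087 : act 5 n11990 = n11990 := d31_1 D11990 (iv D11990) F41009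
theorem F47088 : act 6 n11990 = n10526 := d33_1 D11990 (iv D10526) (iv F41010)
theorem F47089 : act 8 n11990 = n11162 := d35_2 D10519 D11990 (iv D11162) (iv D9437) (iv F33535)
def n11991 : Q := act 6 n10520
theorem D11991 : act 6 n10520 = n11991 := rfl
theorem F47090 : act 0 n11991 = n11991 := d5_1 D11991 (iv D11991) F41011
theorem F47091 : act 1 n11991 = n10549 := d12_1 D11991 (iv D10549) (iv F41012)
theorem F47092 : act 3 n11991 = n11331 := d23_1 D11991 (iv D11331) (iv F41013)
theorem F47093 : act 4 n11991 = n11991 := d27_1 D11991 (iv D11991) F41014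
theorem F47094 : act 5 n11991 = n10527 := d30_1 D11991 (iv D10527) (iv D8844) (iv F33538) D10520
theorem F47095 : act 7 n11991 = n11163 := d33_2 (iv F41015) D11991 (iv D11163)
def n11992 : Q := act 8 n10520
theorem D11992 : act 8 n10520 = n11992 := rfl
theorem F47096 : act 0 n11992 = n11992 := d7_1 D11992 (iv D11992) F41011
theorem F47097 : act 1 n11992 = n10550 := d14_1 D11992 (iv D10550) (iv F41012)
theorem F47098 : act 3 n11992 = n11332 := d25_1 D11992 (iv D11332) (iv F41013)
theorem F47099 : act 4 n11992 = n11992 := d29_1 D11992 (iv D11992) F41014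
theorem F47100 : act 5 n11992 = n10521 := d32_1 D11992 (iv D10521) D10520
def n11993 : Q := act 7 n10521
theorem D11993 : act 7 n10521 = n11993 := rfl
theorem F47101 : act 0 n11993 = n11993 := d6_1 D11993 (iv D11993) F41016
theorem F47102 : act 1 n11993 = n10551 := d13_1 D11993 (iv D10551) (iv F41017)
theorem F47103 : act 4 n11993 = n10522 := d28_1 D11993 (iv D10522) (iv F41019)
theorem F47104 : act 6 n11993 = n10529 := d33_1 D11993 (iv D10529) (iv F41020)
theorem F47105 : act 8 n11993 = n11165 := d35_2 D10521 D11993 (iv D11165) (iv D9439) (iv F33539)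
def n11994 : Q := act 5 n10523
theorem D11994 : act 5 n10523 = n11994 := rfl
theorem F47106 : act 0 n11994 = n11994 := d4_1 D11994 (iv D11994) F41027
theorem F47107 : act 3 n11994 = n10524 := d22_1 D11994 (iv D10524) D10523
def n11995 : Q := act 7 n10523
theorem D11995 : act 7 n10523 = n11995 := rfl
theorem F47108 : act 0 n11995 = n11995 := d6_1 D11995 (iv D11995) F41027
theorem F47109 : act 3 n11995 = n11167 := d24_1 D11995 (iv D11167) (iv D9441) (iv F33547) D10523
def n11996 : Q := act 8 n10523
theorem D11996 : act 8 n10523 = n11996 := rfl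
theorem F47110 : act 0 n11996 = n11996 := d7_1 D11996 (iv D11996) F41027
theorem F47111 : act 3 n11996 = n10525 := d25_1 D11996 (iv D10525) D10523
def n11997 : Q := act 6 n10524
theorem D11997 : act 6 n10524 = n11997 := rfl
theorem F47112 : act 0 n11997 = n11997 := d5_1 D11997 (iv D11997) F41028
theorem F47113 : act 2 n11997 = n10527 := d18_1 D11997 (iv D10527) (iv F41029)
theorem F47114 : act 4 n11997 = n10533 := d27_1 D11997 (iv D10533) (iv F41030)
theorem F47115 : act 7 n11997 = n11169 := d33_2 (iv F41031) D11997 (iv D11169)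
def n11998 : Q := act 8 n10524
theorem D11998 : act 8 n10524 = n11998 := rfl
theorem F47116 : act 0 n11998 = n11998 := d7_1 D11998 (iv D11998) F41028
theorem F47117 : act 2 n11998 = n10528 := d20_1 D11998 (iv D10528) (iv F41029)
theorem F47118 : act 4 n11998 = n10534 := d29_1 D11998 (iv D10534) (iv F41030)
theorem F47119 : act 5 n11998 = n10525 := d32_1 D11998 (iv D10525) D10524
def n11999 : Q := act 7 n10525
theorem D11999 : act 7 n10525 = n11999 := rfl
theorem F47120 : act 0 n11999 = n11999 := d6_1 D11999 (iv D11999) F41032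
theorem F47121 : act 2 n11999 = n10529 := d19_1 D11999 (iv D10529) (iv F41033)
theorem F47122 : act 4 n11999 = n10526 := d28_1 D11999 (iv D10526) (iv F41034)
theorem F47123 : act 8 n11999 = n11171 := d35_2 D10525 D11999 (iv D11171) (iv D9443) (iv F33547)
def n12000 : Q := act 3 n10526
theorem D12000 : act 3 n10526 = n12000 := rfl
theorem F47124 : act 0 n12000 = n12000 := d2_1 D12000 (iv D12000) F41035
theorem F47125 : act 2 n12000 = n12000 := d15_1 D12000 (iv D12000) F41036 F33560 (iv F41036)
theorem F47126 : act 5 n12000 = n10536 := d22_2 (iv F41037) D12000 (iv D10536)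
theorem F47127 : act 8 n12000 = n11172 := d25_2 (iv F41038) D12000 (iv D11172)
def n12001 : Q := act 8 n10527
theorem D12001 : act 8 n10527 = n12001 := rfl
theorem F47128 : act 0 n12001 = n12001 := d7_1 D12001 (iv D12001) F41039
theorem F47129 : act 1 n12001 = n10552 := d14_1 D12001 (iv D10552) (iv F41040)
theorem F47130 : act 4 n12001 = n10537 := d29_1 D12001 (iv D10537) (iv F41041)
theorem F47131 : act 6 n12001 = n10528 := d34_1 D12001 (iv D10528) D10527
def n12002 : Q := act 7 n10528
theorem D12002 : act 7 n10528 = n12002 := rfl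
theorem F47132 : act 0 n12002 = n12002 := d6_1 D12002 (iv D12002) F41043
theorem F47133 : act 1 n12002 = n10553 := d13_1 D12002 (iv D10553) (iv F41044)
theorem F47134 : act 4 n12002 = n10538 := d28_1 D12002 (iv D10538) (iv F41045)
theorem F47135 : act 5 n12002 = n10529 := d31_1 D12002 (iv D10529) (iv F41046)
theorem F47136 : act 8 n12002 = n11174 := d35_2 D10528 D12002 (iv D11174) (iv D9446) (iv F33554)
def n12003 : Q := act 3 n10529
theorem D12003 : act 3 n10529 = n12003 := rfl
theorem F47137 : act 0 n12003 = n12003 := d2_1 D12003 (iv D12003) F41047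
theorem F47138 : act 1 n12003 = n10554 := d9_1 D12003 (iv D10554) (iv F41048)
theorem F47139 : act 4 n12003 = n12003 := d21_2 (iv F41049) D12003 (iv D12003) F41049 F33560
theorem F47140 : act 8 n12003 = n11175 := d25_2 (iv F41050) D12003 (iv D11175)
def n12004 : Q := act 4 n10530
theorem D12004 : act 4 n10530 = n12004 := rfl
theorem F47141 : act 0 n12004 = n12004 := d3_1 D12004 (iv D12004) F41051
theorem F47142 : act 2 n12004 = n12004 := d16_1 D12004 (iv D12004) F41052
def n12005 : Q := act 6 n10530
theorem D12005 : act 6 n10530 = n12005 := rfl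
theorem F47143 : act 0 n12005 = n12005 := d5_1 D12005 (iv D12005) F41051
theorem F47144 : act 2 n12005 = n12005 := d18_1 D12005 (iv D12005) F41052
theorem F47145 : act 3 n12005 = n10533 := d23_1 D12005 (iv D10533) (iv F41053)
theorem F47146 : act 5 n12005 = n12005 := d30_1 D12005 (iv D12005) (iv D10530) F33565 D10530
def n12006 : Q := act 7 n10530
theorem D12006 : act 7 n10530 = n12006 := rfl
theorem F47147 : act 0 n12006 = n12006 := d6_1 D12006 (iv D12006) F41051
theorem F47148 : act 2 n12006 = n12006 := d19_1 D12006 (iv D12006) F41052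
theorem F47149 : act 3 n12006 = n11178 := d24_1 D12006 (iv D11178) F35732 (iv F33568) (iv F41053)
theorem F47150 : act 5 n12006 = n10531 := d31_1 D12006 (iv D10531) D10530
def n12007 : Q := act 8 n10530
theorem D12007 : act 8 n10530 = n12007 := rfl
theorem F47151 : act 0 n12007 = n12007 := d7_1 D12007 (iv D12007) F41051
theorem F47152 : act 2 n12007 = n12007 := d20_1 D12007 (iv D12007) F41052
theorem F47153 : act 3 n12007 = n10534 := d25_1 D12007 (iv D10534) (iv F41053)
theorem F47154 : act 5 n12007 = n10532 := d32_1 D12007 (iv D10532) D10530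
def n12008 : Q := act 8 n10531
theorem D12008 : act 8 n10531 = n12008 := rfl
theorem F47155 : act 0 n12008 = n12008 := d7_1 D12008 (iv D12008) F41054
theorem F47156 : act 2 n12008 = n12008 := d20_1 D12008 (iv D12008) F41055
theorem F47157 : act 3 n12008 = n11180 := d25_1 D12008 (iv D11180) (iv F41056)
theorem F47158 : act 6 n12008 = n12008 := d34_1 D12008 (iv D12008) F41057
def n12009 : Q := act 7 n10532
theorem D12009 : act 7 n10532 = n12009 := rfl
theorem F47159 : act 0 n12009 = n12009 := d6_1 D12009 (iv D12009) F41058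
theorem F47160 : act 2 n12009 = n12009 := d19_1 D12009 (iv D12009) F41059
theorem F47161 : act 6 n12009 = n12009 := d33_1 D12009 (iv D12009) F41061
def n12010 : Q := act 8 n10533
theorem D12010 : act 8 n10533 = n12010 := rfl
theorem F47162 : act 0 n12010 = n12010 := d7_1 D12010 (iv D12010) F41062
theorem F47163 : act 2 n12010 = n10537 := d20_1 D12010 (iv D10537) (iv F41063)
theorem F47164 : act 5 n12010 = n12010 := d32_1 D12010 (iv D12010) F41064
theorem F47165 : act 6 n12010 = n10534 := d34_1 D12010 (iv D10534) D10533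
def n12011 : Q := act 7 n10534
theorem D12011 : act 7 n10534 = n12011 := rfl
theorem F47166 : act 0 n12011 = n12011 := d6_1 D12011 (iv D12011) F41066
theorem F47167 : act 2 n12011 = n10538 := d19_1 D12011 (iv D10538) (iv F41067)
theorem F47168 : act 5 n12011 = n10535 := d31_1 D12011 (iv D10535) (iv F41068)
theorem F47169 : act 8 n12011 = n11183 := d35_2 D10534 D12011 (iv D11183) (iv D9452) (iv F33568)
def n12012 : Q := act 3 n10535
theorem D12012 : act 3 n10535 = n12012 := rfl
theorem F47170 : act 0 n12012 = n12012 := d2_1 D12012 (iv D12012) F41069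
theorem F47171 : act 6 n12012 = n12012 := d23_2 F41072 D12012 (iv D12012)
theorem F47172 : act 8 n12012 = n11184 := d25_2 (iv F41073) D12012 (iv D11184)
def n12013 : Q := act 4 n10536
theorem D12013 : act 4 n10536 = n12013 := rfl
theorem F47173 : act 0 n12013 = n12013 := d3_1 D12013 (iv D12013) F41074
theorem F47174 : act 2 n12013 = n12013 := d16_1 D12013 (iv D12013) F41075
theorem F47175 : act 6 n12013 = n12013 := d27_2 F41076 D12013 (iv D12013)
theorem F47176 : act 8 n12013 = n11185 := d29_2 (iv F41077) D12013 (iv D11185)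
def n12014 : Q := act 7 n10537
theorem D12014 : act 7 n10537 = n12014 := rfl
theorem F47177 : act 0 n12014 = n12014 := d6_1 D12014 (iv D12014) F41078
theorem F47178 : act 1 n12014 = n10555 := d13_1 D12014 (iv D10555) (iv F41079)
theorem F47179 : act 5 n12014 = n12014 := d31_1 D12014 (iv D12014) F41081
theorem F47180 : act 6 n12014 = n10538 := d33_1 D12014 (iv D10538) (iv F41082)
theorem F47181 : act 8 n12014 = n11186 := d35_2 D10537 D12014 (iv D11186) (iv D9455) (iv F33581)
def n12015 : Q := act 3 n10538
theorem D12015 : act 3 n10538 = n12015 := rfl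
theorem F47182 : act 0 n12015 = n12015 := d2_1 D12015 (iv D12015) F41083
theorem F47183 : act 1 n12015 = n10556 := d9_1 D12015 (iv D10556) (iv F41084)
theorem F47184 : act 5 n12015 = n10539 := d22_2 (iv F41085) D12015 (iv D10539)
theorem F47185 : act 7 n12015 = n12015 := d24_2 D10538 D12015 (iv D12015) (iv D10538) F33584
theorem F47186 : act 8 n12015 = n11187 := d25_2 (iv F41086) D12015 (iv D11187)
def n12016 : Q := act 2 n10539
theorem D12016 : act 2 n10539 = n12016 := rfl
theorem F47187 : act 0 n12016 = n12016 := d1_1 D12016 (iv D12016) F41087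
theorem F47188 : act 4 n12016 = n12016 := d16_2 F41089 D12016 (iv D12016)
theorem F47189 : act 6 n12016 = n12016 := d18_2 F41090 D12016 (iv D12016)
theorem F47190 : act 7 n12016 = n12016 := d19_2 F41091 D12016 (iv D12016)
theorem F47191 : act 8 n12016 = n11188 := d20_2 (iv F41092) D12016 (iv D11188)
def n12017 : Q := act 4 n10540
theorem D12017 : act 4 n10540 = n12017 := rfl
theorem F47192 : act 0 n12017 = n10541 := d3_1 D12017 (iv D10541) D10540
theorem F47193 : act 1 n12017 = n10559 := d10_1 D12017 (iv D10559) (iv F41093)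
theorem F47194 : act 6 n12017 = n11248 := d27_2 (iv F41096) D12017 (iv D11248)
theorem F47195 : act 7 n12017 = n12017 := d28_2 F41097 D12017 (iv D12017)
def n12018 : Q := act 8 n10540
theorem D12018 : act 8 n10540 = n12018 := rfl
theorem F47196 : act 0 n12018 = n10542 := d7_1 D12018 (iv D10542) D10540
theorem F47197 : act 1 n12018 = n10560 := d14_1 D12018 (iv D10560) (iv F41093)
theorem F47198 : act 3 n12018 = n10558 := d25_1 D12018 (iv D10558) (iv F41094)
theorem F47199 : act 5 n12018 = n12018 := d32_1 D12018 (iv D12018) F41095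
theorem F47200 : act 6 n12018 = n11249 := d34_1 D12018 (iv D11249) (iv F41096)
def n12019 : Q := act 5 n10541
theorem D12019 : act 5 n10541 = n12019 := rfl
theorem F47201 : act 1 n12019 = n10543 := d11_1 D12019 (iv D10543) (iv F41098)
theorem F47202 : act 4 n12019 = n12019 := d26_1 D12019 (iv D12019) (iv D10541) F33613 D10541
theorem F47203 : act 7 n12019 = n12019 := d31_2 F41100 D12019 (iv D12019)
def n12020 : Q := act 8 n10541
theorem D12020 : act 8 n10541 = n12020 := rfl
theorem F47204 : act 1 n12020 = n10544 := d14_1 D12020 (iv D10544) (iv F41098)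
theorem F47205 : act 4 n12020 = n10542 := d29_1 D12020 (iv D10542) D10541
theorem F47206 : act 6 n12020 = n11293 := d34_1 D12020 (iv D11293) (iv F41099)
def n12021 : Q := act 7 n10542
theorem D12021 : act 7 n10542 = n12021 := rfl
theorem F47207 : act 1 n12021 = n10545 := d13_1 D12021 (iv D10545) (iv F41101)
theorem F47208 : act 5 n12021 = n12021 := d31_1 D12021 (iv D12021) F41103
theorem F47209 : act 6 n12021 = n11294 := d33_1 D12021 (iv D11294) (iv F41104)
theorem F47210 : act 8 n12021 = n12021 := d35_2 D10542 D12021 (iv D12021) (iv D10542) F33614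
def n12022 : Q := act 6 n10543
theorem D12022 : act 6 n10543 = n12022 := rfl
theorem F47211 : act 0 n12022 = n10564 := d5_1 D12022 (iv D10564) (iv F41105)
theorem F47212 : act 2 n12022 = n10546 := d18_1 D12022 (iv D10546) (iv F41106)
theorem F47213 : act 4 n12022 = n12022 := d27_1 D12022 (iv D12022) F41107
theorem F47214 : act 5 n12022 = n11307 := d30_1 D12022 (iv D11307) (iv D9921) (iv F38594) D10543
theorem F47215 : act 7 n12022 = n12022 := d33_2 F41108 D12022 (iv D12022)
def n12023 : Q := act 8 n10543
theorem D12023 : act 8 n10543 = n12023 := rfl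
theorem F47216 : act 0 n12023 = n10565 := d7_1 D12023 (iv D10565) (iv F41105)
theorem F47217 : act 2 n12023 = n10547 := d20_1 D12023 (iv D10547) (iv F41106)
theorem F47218 : act 4 n12023 = n12023 := d29_1 D12023 (iv D12023) F41107
theorem F47219 : act 5 n12023 = n10544 := d32_1 D12023 (iv D10544) D10543
def n12024 : Q := act 7 n10544
theorem D12024 : act 7 n10544 = n12024 := rfl
theorem F47220 : act 0 n12024 = n10566 := d6_1 D12024 (iv D10566) (iv F41109)
theorem F47221 : act 2 n12024 = n10548 := d19_1 D12024 (iv D10548) (iv F41110)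
theorem F47222 : act 4 n12024 = n10545 := d28_1 D12024 (iv D10545) (iv F41111)
theorem F47223 : act 6 n12024 = n11309 := d33_1 D12024 (iv D11309) (iv F41112)
theorem F47224 : act 8 n12024 = n12024 := d35_2 D10544 D12024 (iv D12024) (iv D10544) F33617
def n12025 : Q := act 8 n10546
theorem D12025 : act 8 n10546 = n12025 := rfl
theorem F47225 : act 0 n12025 = n10567 := d7_1 D12025 (iv D10567) (iv F41118)
theorem F47226 : act 3 n12025 = n10552 := d25_1 D12025 (iv D10552) (iv F41119)
theorem F47227 : act 4 n12025 = n12025 := d29_1 D12025 (iv D12025) F41120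
theorem F47228 : act 5 n12025 = n11344 := d32_1 D12025 (iv D11344) (iv F41121)
theorem F47229 : act 6 n12025 = n10547 := d34_1 D12025 (iv D10547) D10546
def n12026 : Q := act 7 n10547
theorem D12026 : act 7 n10547 = n12026 := rfl
theorem F47230 : act 0 n12026 = n10568 := d6_1 D12026 (iv D10568) (iv F41123)
theorem F47231 : act 4 n12026 = n12026 := d28_1 D12026 (iv D12026) F41125
theorem F47232 : act 5 n12026 = n10548 := d31_1 D12026 (iv D10548) (iv F41126)
theorem F47233 : act 8 n12026 = n12026 := d35_2 D10547 D12026 (iv D12026) (iv D10547) F33625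
def n12027 : Q := act 3 n10548
theorem D12027 : act 3 n10548 = n12027 := rfl
theorem F47234 : act 0 n12027 = n10569 := d2_1 D12027 (iv D10569) (iv F41127)
theorem F47235 : act 4 n12027 = n12027 := d21_2 (iv F41128) D12027 (iv D12027) F41128 F33630
theorem F47236 : act 6 n12027 = n11346 := d23_2 (iv F41129) D12027 (iv D11346)
theorem F47237 : act 7 n12027 = n10554 := d24_2 D10548 D12027 (iv D10554) (iv D8870) (iv F33627)
theorem F47238 : act 8 n12027 = n12027 := d25_2 F41130 D12027 (iv D12027)
def n12028 : Q := act 8 n10549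
theorem D12028 : act 8 n10549 = n12028 := rfl
theorem F47239 : act 0 n12028 = n10570 := d7_1 D12028 (iv D10570) (iv F41131)
theorem F47240 : act 3 n12028 = n11344 := d25_1 D12028 (iv D11344) (iv F41132)
theorem F47241 : act 4 n12028 = n12028 := d29_1 D12028 (iv D12028) F41133
theorem F47242 : act 5 n12028 = n10552 := d32_1 D12028 (iv D10552) (iv F41134)
theorem F47243 : act 6 n12028 = n10550 := d34_1 D12028 (iv D10550) D10549
def n12029 : Q := act 7 n10550
theorem D12029 : act 7 n10550 = n12029 := rfl
theorem F47244 : act 0 n12029 = n10571 := d6_1 D12029 (iv D10571) (iv F41136)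
theorem F47245 : act 4 n12029 = n12029 := d28_1 D12029 (iv D12029) F41138
theorem F47246 : act 5 n12029 = n10551 := d31_1 D12029 (iv D10551) (iv F41139)
theorem F47247 : act 8 n12029 = n11190 := d35_2 D10550 D12029 (iv D11190) (iv D9459) (iv F33635)
def n12030 : Q := act 3 n10551
theorem D12030 : act 3 n10551 = n12030 := rfl
theorem F47248 : act 0 n12030 = n10572 := d2_1 D12030 (iv D10572) (iv F41140)
theorem F47249 : act 4 n12030 = n12030 := d21_2 (iv F41141) D12030 (iv D12030) F41141 F33640
theorem F47250 : act 6 n12030 = n10554 := d23_2 (iv F41142) D12030 (iv D10554)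
theorem F47251 : act 7 n12030 = n11346 := d24_2 D10551 D12030 (iv D11346) (iv D9954) F38584
theorem F47252 : act 8 n12030 = n11191 := d25_2 (iv F41143) D12030 (iv D11191)
def n12031 : Q := act 7 n10552
theorem D12031 : act 7 n10552 = n12031 := rfl
theorem F47253 : act 0 n12031 = n10573 := d6_1 D12031 (iv D10573) (iv F41144)
theorem F47254 : act 4 n12031 = n10555 := d28_1 D12031 (iv D10555) (iv F41145)
theorem F47255 : act 6 n12031 = n10553 := d33_1 D12031 (iv D10553) (iv F41146)
theorem F47256 : act 8 n12031 = n11192 := d35_2 D10552 D12031 (iv D11192) (iv D9461) (iv F33646)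
def n12032 : Q := act 3 n10553
theorem D12032 : act 3 n10553 = n12032 := rfl
theorem F47257 : act 0 n12032 = n10574 := d2_1 D12032 (iv D10574) (iv F41147)
theorem F47258 : act 5 n12032 = n10554 := d22_2 (iv F41149) D12032 (iv D10554)
theorem F47259 : act 8 n12032 = n11193 := d25_2 (iv F41150) D12032 (iv D11193)
def n12033 : Q := act 2 n10554
theorem D12033 : act 2 n10554 = n12033 := rfl
theorem F47260 : act 0 n12033 = n10575 := d1_1 D12033 (iv D10575) (iv F41151)
theorem F47261 : act 4 n12033 = n12033 := d16_2 F41152 D12033 (iv D12033)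
theorem F47262 : act 8 n12033 = n11194 := d20_2 (iv F41153) D12033 (iv D11194)
def n12034 : Q := act 1 n10557
theorem D12034 : act 1 n10557 = n12034 := rfl
theorem F47263 : act 0 n12034 = n11652 := d0_1 D12034 F45861 F39974 F44598 (iv F41162)
theorem F47264 : act 4 n12034 = n12034 := d10_2 F41163 D12034 (iv D12034)
theorem F47265 : act 5 n12034 = n11648 := d11_2 (iv F44651) D12034 F45841
theorem F47266 : act 6 n12034 = n12034 := d12_2 F41164 D12034 (iv D12034)
theorem F47267 : act 7 n12034 = n12034 := d13_2 F41165 D12034 (iv D12034)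
theorem F47268 : act 8 n12034 = n11198 := d14_2 (iv F41166) D12034 (iv D11198)
def n12035 : Q := act 5 n10559
theorem D12035 : act 5 n10559 = n12035 := rfl
theorem F47269 : act 0 n12035 = n10561 := d4_1 D12035 (iv D10561) (iv F41172)
theorem F47270 : act 2 n12035 = n12035 := d17_1 D12035 (iv D12035) F41173
theorem F47271 : act 4 n12035 = n12035 := d26_1 D12035 (iv D12035) (iv D10559) F33730 D10559
theorem F47272 : act 7 n12035 = n12035 := d31_2 F41175 D12035 (iv D12035)
def n12036 : Q := act 8 n10559
theorem D12036 : act 8 n10559 = n12036 := rfl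
theorem F47273 : act 0 n12036 = n10562 := d7_1 D12036 (iv D10562) (iv F41172)
theorem F47274 : act 2 n12036 = n12036 := d20_1 D12036 (iv D12036) F41173
theorem F47275 : act 4 n12036 = n10560 := d29_1 D12036 (iv D10560) D10559
theorem F47276 : act 6 n12036 = n11261 := d34_1 D12036 (iv D11261) (iv F41174)
def n12037 : Q := act 7 n10560
theorem D12037 : act 7 n10560 = n12037 := rfl
theorem F47277 : act 0 n12037 = n10563 := d6_1 D12037 (iv D10563) (iv F41176)
theorem F47278 : act 2 n12037 = n12037 := d19_1 D12037 (iv D12037) F41177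
theorem F47279 : act 5 n12037 = n12037 := d31_1 D12037 (iv D12037) F41179
theorem F47280 : act 6 n12037 = n11262 := d33_1 D12037 (iv D11262) (iv F41180)
theorem F47281 : act 8 n12037 = n12037 := d35_2 D10560 D12037 (iv D12037) (iv D10560) F33731
def n12038 : Q := act 6 n10561
theorem D12038 : act 6 n10561 = n12038 := rfl
theorem F47282 : act 1 n12038 = n10564 := d12_1 D12038 (iv D10564) (iv F41181)
theorem F47283 : act 2 n12038 = n12038 := d18_1 D12038 (iv D12038) F41182
theorem F47284 : act 4 n12038 = n12038 := d27_1 D12038 (iv D12038) F41183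
theorem F47285 : act 5 n12038 = n11277 := d30_1 D12038 (iv D11277) (iv D9897) (iv F38601) D10561
theorem F47286 : act 7 n12038 = n12038 := d33_2 F41184 D12038 (iv D12038)
def n12039 : Q := act 8 n10561
theorem D12039 : act 8 n10561 = n12039 := rfl
theorem F47287 : act 1 n12039 = n10565 := d14_1 D12039 (iv D10565) (iv F41181)
theorem F47288 : act 2 n12039 = n12039 := d20_1 D12039 (iv D12039) F41182
theorem F47289 : act 4 n12039 = n12039 := d29_1 D12039 (iv D12039) F41183
theorem F47290 : act 5 n12039 = n10562 := d32_1 D12039 (iv D10562) D10561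
def n12040 : Q := act 7 n10562
theorem D12040 : act 7 n10562 = n12040 := rfl
theorem F47291 : act 1 n12040 = n10566 := d13_1 D12040 (iv D10566) (iv F41185)
theorem F47292 : act 2 n12040 = n12040 := d19_1 D12040 (iv D12040) F41186
theorem F47293 : act 4 n12040 = n10563 := d28_1 D12040 (iv D10563) (iv F41187)
theorem F47294 : act 6 n12040 = n11279 := d33_1 D12040 (iv D11279) (iv F41188)
theorem F47295 : act 8 n12040 = n12040 := d35_2 D10562 D12040 (iv D12040) (iv D10562) F33734
def n12041 : Q := act 8 n10564
theorem D12041 : act 8 n10564 = n12041 := rfl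
theorem F47296 : act 2 n12041 = n10567 := d20_1 D12041 (iv D10567) (iv F41194)
theorem F47297 : act 4 n12041 = n12041 := d29_1 D12041 (iv D12041) F41195
theorem F47298 : act 5 n12041 = n11319 := d32_1 D12041 (iv D11319) (iv F41196)
theorem F47299 : act 6 n12041 = n10565 := d34_1 D12041 (iv D10565) D10564
def n12042 : Q := act 7 n10565
theorem D12042 : act 7 n10565 = n12042 := rfl
theorem F47300 : act 2 n12042 = n10568 := d19_1 D12042 (iv D10568) (iv F41198)
theorem F47301 : act 4 n12042 = n12042 := d28_1 D12042 (iv D12042) F41199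
theorem F47302 : act 5 n12042 = n10566 := d31_1 D12042 (iv D10566) (iv F41200)
theorem F47303 : act 8 n12042 = n12042 := d35_2 D10565 D12042 (iv D12042) (iv D10565) F33741
def n12043 : Q := act 3 n10566
theorem D12043 : act 3 n10566 = n12043 := rfl
theorem F47304 : act 6 n12043 = n11321 := d23_2 (iv F41203) D12043 (iv D11321)
theorem F47305 : act 8 n12043 = n12043 := d25_2 F41204 D12043 (iv D12043)
def n12044 : Q := act 7 n10567
theorem D12044 : act 7 n10567 = n12044 := rfl
theorem F47306 : act 1 n12044 = n12044 := d13_1 D12044 (iv D12044) F41205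
theorem F47307 : act 4 n12044 = n12044 := d28_1 D12044 (iv D12044) F41207
theorem F47308 : act 5 n12044 = n11350 := d31_1 D12044 (iv D11350) (iv F41208)
theorem F47309 : act 6 n12044 = n10568 := d33_1 D12044 (iv D10568) (iv F41209)
theorem F47310 : act 8 n12044 = n12044 := d35_2 D10567 D12044 (iv D12044) (iv D10567) F33750
def n12045 : Q := act 3 n10568
theorem D12045 : act 3 n10568 = n12045 := rfl
theorem F47311 : act 1 n12045 = n12045 := d9_1 D12045 (iv D12045) F41210
theorem F47312 : act 5 n12045 = n10569 := d22_2 (iv F41212) D12045 (iv D10569)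
theorem F47313 : act 7 n12045 = n10574 := d24_2 D10568 D12045 (iv D10574) (iv D8905) (iv F33752)
theorem F47314 : act 8 n12045 = n12045 := d25_2 F41213 D12045 (iv D12045)
def n12046 : Q := act 2 n10569
theorem D12046 : act 2 n10569 = n12046 := rfl
theorem F47315 : act 4 n12046 = n12046 := d16_2 F41215 D12046 (iv D12046)
theorem F47316 : act 6 n12046 = n11352 := d18_2 (iv F41216) D12046 (iv D11352)
theorem F47317 : act 7 n12046 = n10575 := d19_2 (iv F41217) D12046 (iv D10575)
theorem F47318 : act 8 n12046 = n12046 := d20_2 F41218 D12046 (iv D12046)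
def n12047 : Q := act 7 n10570
theorem D12047 : act 7 n10570 = n12047 := rfl
theorem F47319 : act 1 n12047 = n12047 := d13_1 D12047 (iv D12047) F41219
theorem F47320 : act 4 n12047 = n12047 := d28_1 D12047 (iv D12047) F41221
theorem F47321 : act 5 n12047 = n10573 := d31_1 D12047 (iv D10573) (iv F41222)
theorem F47322 : act 6 n12047 = n10571 := d33_1 D12047 (iv D10571) (iv F41223)
theorem F47323 : act 8 n12047 = n11199 := d35_2 D10570 D12047 (iv D11199) (iv D9467) (iv F33761)
def n12048 : Q := act 3 n10571
theorem D12048 : act 3 n10571 = n12048 := rfl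
theorem F47324 : act 1 n12048 = n12048 := d9_1 D12048 (iv D12048) F41224
theorem F47325 : act 5 n12048 = n10572 := d22_2 (iv F41226) D12048 (iv D10572)
theorem F47326 : act 7 n12048 = n11351 := d24_2 D10571 D12048 (iv D11351) (iv D9959) (iv F38585)
theorem F47327 : act 8 n12048 = n11200 := d25_2 (iv F41227) D12048 (iv D11200)
def n12049 : Q := act 2 n10572
theorem D12049 : act 2 n10572 = n12049 := rfl
theorem F47328 : act 4 n12049 = n12049 := d16_2 F41229 D12049 (iv D12049)
theorem F47329 : act 6 n12049 = n10575 := d18_2 (iv F41230) D12049 (iv D10575)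
theorem F47330 : act 7 n12049 = n11352 := d19_2 (iv F41231) D12049 (iv D11352)
theorem F47331 : act 8 n12049 = n11201 := d20_2 (iv F41232) D12049 (iv D11201)
def n12050 : Q := act 4 n10629
theorem D12050 : act 4 n10629 = n12050 := rfl
theorem F47332 : act 0 n12050 = n12050 := d3_1 D12050 (iv D12050) F41477
theorem F47333 : act 1 n12050 = n10696 := d10_1 D12050 (iv D10696) (iv F41478)
theorem F47334 : act 2 n12050 = n10630 := d16_1 D12050 (iv D10630) D10629
theorem F47335 : act 6 n12050 = n12050 := d27_2 F41480 D12050 (iv D12050)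
theorem F47336 : act 8 n12050 = n11150 := d29_2 (iv F45093) D12050 (iv D11150)
def n12051 : Q := act 3 n10696
theorem D12051 : act 3 n10696 = n12051 := rfl
theorem F47337 : act 0 n12051 = n10895 := d2_1 D12051 (iv D10895) (iv F41719)
theorem F47338 : act 2 n12051 = n12051 := d15_1 D12051 (iv D12051) F41720 F34409 (iv F41720)
theorem F47339 : act 4 n12051 = n12051 := d21_2 D10696 D12051 (iv D12051) (iv D10696) F34405
theorem F47340 : act 6 n12051 = n12051 := d23_2 F41721 D12051 (iv D12051)
def n12052 : Q := act 5 n10696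
theorem D12052 : act 5 n10696 = n12052 := rfl
theorem F47341 : act 0 n12052 = n10896 := d4_1 D12052 (iv D10896) (iv F41719)
theorem F47342 : act 2 n12052 = n10698 := d17_1 D12052 (iv D10698) (iv F41720)
def n12053 : Q := act 8 n10696
theorem D12053 : act 8 n10696 = n12053 := rfl
theorem F47343 : act 0 n12053 = n10897 := d7_1 D12053 (iv D10897) (iv F41719)
theorem F47344 : act 1 n12053 = n11150 := d14_1 D12053 (iv F47336) F47333
theorem F47345 : act 2 n12053 = n10699 := d20_1 D12053 (iv D10699) (iv F41720)
theorem F47346 : act 4 n12053 = n10697 := d29_1 D12053 (iv D10697) D10696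
theorem F47347 : act 6 n12053 = n12053 := d34_1 D12053 (iv D12053) F41721
def n12054 : Q := act 7 n10697
theorem D12054 : act 7 n10697 = n12054 := rfl
theorem F47348 : act 0 n12054 = n10898 := d6_1 D12054 (iv D10898) (iv F41722)
theorem F47349 : act 1 n12054 = n11151 := d13_1 D12054 (iv D11151) (iv F44988)
theorem F47350 : act 2 n12054 = n10700 := d19_1 D12054 (iv D10700) (iv F41723)
theorem F47351 : act 5 n12054 = n10989 := d31_1 D12054 (iv D10989) (iv F44989)
theorem F47352 : act 6 n12054 = n12054 := d33_1 D12054 (iv D12054) F41725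
def n12055 : Q := act 7 n10699
theorem D12055 : act 7 n10699 = n12055 := rfl
theorem F47353 : act 0 n12055 = n10901 := d6_1 D12055 (iv D10901) (iv F41729)
theorem F47354 : act 1 n12055 = n10718 := d13_1 D12055 (iv D10718) (iv F41730)
theorem F47355 : act 4 n12055 = n10700 := d28_1 D12055 (iv D10700) (iv F41732)
theorem F47356 : act 6 n12055 = n12055 := d33_1 D12055 (iv D12055) F41733
def n12056 : Q := act 3 n10718
theorem D12056 : act 3 n10718 = n12056 := rfl
theorem F47357 : act 0 n12056 = n10752 := d2_1 D12056 (iv D10752) (iv F41792)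
theorem F47358 : act 4 n12056 = n10825 := d21_2 (iv F41793) D12056 (iv D10825) F34721 (iv F34457)
theorem F47359 : act 6 n12056 = n12056 := d23_2 F41794 D12056 (iv D12056)
theorem F47360 : act 7 n12056 = n12056 := d24_2 D10718 D12056 (iv D12056) (iv D10718) F34453
def n12057 : Q := act 7 n10772
theorem D12057 : act 7 n10772 = n12057 := rfl
theorem F47361 : act 0 n12057 = n10989 := d6_1 D12057 (iv D10989) (iv F41978)
theorem F47362 : act 1 n12057 = n12057 := d13_1 D12057 (iv D12057) F41979
theorem F47363 : act 2 n12057 = n10775 := d19_1 D12057 (iv D10775) (iv F41980)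
theorem F47364 : act 5 n12057 = n10898 := d31_1 D12057 (iv D10898) (iv F44883)
theorem F47365 : act 6 n12057 = n10773 := d33_1 D12057 (iv D10773) D10772
def n12058 : Q := act 3 n10773
theorem D12058 : act 3 n10773 = n12058 := rfl
theorem F47366 : act 0 n12058 = n10990 := d2_1 D12058 (iv D10990) (iv F41982)
theorem F47367 : act 1 n12058 = n12058 := d9_1 D12058 (iv D12058) F41983
theorem F47368 : act 5 n12058 = n12058 := d22_2 F41985 D12058 (iv D12058)
theorem F47369 : act 7 n12058 = n12058 := d24_2 D10773 D12058 (iv D12058) (iv D10773) F34597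
def n12059 : Q := act 8 n10773
theorem D12059 : act 8 n10773 = n12059 := rfl
theorem F47370 : act 0 n12059 = n10991 := d7_1 D12059 (iv D10991) (iv F41982)
theorem F47371 : act 1 n12059 = n12059 := d14_1 D12059 (iv D12059) F41983
theorem F47372 : act 2 n12059 = n10777 := d20_1 D12059 (iv D10777) (iv F41984)
theorem F47373 : act 5 n12059 = n12059 := d32_1 D12059 (iv D12059) F41985
def n12060 : Q := act 2 n10776
theorem D12060 : act 2 n10776 = n12060 := rfl
theorem F47374 : act 0 n12060 = n10996 := d1_1 D12060 (iv D10996) (iv F41993)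
theorem F47375 : act 1 n12060 = n11162 := d8_1 D12060 F43368 F35702 F44780 (iv F41994)
theorem F47376 : act 5 n12060 = n12060 := d17_2 F41995 D12060 (iv D12060)
theorem F47377 : act 6 n12060 = n11017 := d18_2 (iv F44775) D12060 F42819
theorem F47378 : act 7 n12060 = n10781 := d19_2 (iv F41996) D12060 (iv D10781)
def n12061 : Q := act 4 n10776
theorem D12061 : act 4 n10776 = n12061 := rfl
theorem F47379 : act 0 n12061 = n10997 := d3_1 D12061 (iv D10997) (iv F41993)
theorem F47380 : act 1 n12061 = n10804 := d10_1 D12061 (iv D10804) (iv F41994)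
theorem F47381 : act 6 n12061 = n11020 := d27_2 (iv F44775) D12061 F42827
theorem F47382 : act 7 n12061 = n10782 := d28_2 (iv F41996) D12061 (iv D10782)
def n12062 : Q := act 4 n10781
theorem D12062 : act 4 n10781 = n12062 := rfl
theorem F47383 : act 0 n12062 = n11004 := d3_1 D12062 (iv D11004) (iv F42014)
theorem F47384 : act 1 n12062 = n11161 := d10_1 D12062 F43365 (iv F44772)
theorem F47385 : act 2 n12062 = n10782 := d16_1 D12062 (iv D10782) D10781
theorem F47386 : act 6 n12062 = n11016 := d27_2 (iv F44773) D12062 F42817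
theorem F47387 : act 8 n12062 = n11009 := d29_2 (iv F44774) D12062 (iv D11009)
def n12063 : Q := act 5 n10782
theorem D12063 : act 5 n10782 = n12063 := rfl
theorem F47388 : act 0 n12063 = n11006 := d4_1 D12063 (iv D11006) (iv F42017)
theorem F47389 : act 1 n12063 = n10814 := d11_1 D12063 (iv D10814) (iv F42018)
theorem F47390 : act 3 n12063 = n10789 := d22_1 D12063 (iv D10789) (iv F42019)
theorem F47391 : act 4 n12063 = n12063 := d26_1 D12063 (iv D12063) (iv D10782) F34617 D10782
theorem F47392 : act 8 n12063 = n11011 := d32_2 (iv F44704) D12063 (iv D11011)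
def n12064 : Q := act 4 n10784
theorem D12064 : act 4 n10784 = n12064 := rfl
theorem F47393 : act 0 n12064 = n11009 := d3_1 D12064 (iv D11009) (iv F42024)
theorem F47394 : act 1 n12064 = n12064 := d10_1 D12064 (iv D12064) F42025
theorem F47395 : act 2 n12064 = n10785 := d16_1 D12064 (iv D10785) D10784
theorem F47396 : act 6 n12064 = n10787 := d27_2 (iv F42028) D12064 (iv D10787)
theorem F47397 : act 8 n12064 = n11004 := d29_2 (iv F44698) D12064 (iv D11004)
def n12065 : Q := act 5 n10785
theorem D12065 : act 5 n10785 = n12065 := rfl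
theorem F47398 : act 0 n12065 = n11011 := d4_1 D12065 (iv D11011) (iv F42029)
theorem F47399 : act 1 n12065 = n10817 := d11_1 D12065 (iv D10817) (iv F42030)
theorem F47400 : act 3 n12065 = n11019 := d22_1 D12065 F42825 (iv F44664)
theorem F47401 : act 4 n12065 = n12065 := d26_1 D12065 (iv D12065) (iv D10785) F34625 D10785
theorem F47402 : act 8 n12065 = n11006 := d32_2 (iv F44665) D12065 (iv D11006)
def n12066 : Q := act 3 n10787
theorem D12066 : act 3 n10787 = n12066 := rfl
theorem F47403 : act 0 n12066 = n11014 := d2_1 D12066 (iv D11014) (iv F42037)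
theorem F47404 : act 1 n12066 = n12066 := d9_1 D12066 (iv D12066) F42038
theorem F47405 : act 4 n12066 = n12066 := d21_2 D10787 D12066 (iv D12066) (iv D10787) F34634
def n12067 : Q := act 5 n10787
theorem D12067 : act 5 n10787 = n12067 := rfl
theorem F47406 : act 0 n12067 = n11015 := d4_1 D12067 (iv D11015) (iv F42037)
theorem F47407 : act 1 n12067 = n12067 := d11_1 D12067 (iv D12067) F42038
theorem F47408 : act 2 n12067 = n10789 := d17_1 D12067 (iv D10789) (iv F42039)
theorem F47409 : act 4 n12067 = n10793 := d26_1 D12067 (iv D10793) (iv D9142) (iv F34635) D10787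
def n12068 : Q := act 8 n10787
theorem D12068 : act 8 n10787 = n12068 := rfl
theorem F47410 : act 0 n12068 = n11016 := d7_1 D12068 (iv D11016) (iv F42037)
theorem F47411 : act 1 n12068 = n12068 := d14_1 D12068 (iv D12068) F42038
theorem F47412 : act 2 n12068 = n10790 := d20_1 D12068 (iv D10790) (iv F42039)
theorem F47413 : act 4 n12068 = n10788 := d29_1 D12068 (iv D10788) D10787
theorem F47414 : act 6 n12068 = n11004 := d34_1 D12068 (iv F47397) F47396
def n12069 : Q := act 7 n10788
theorem D12069 : act 7 n10788 = n12069 := rfl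
theorem F47415 : act 0 n12069 = n11017 := d6_1 D12069 (iv D11017) (iv F42040)
theorem F47416 : act 1 n12069 = n12069 := d13_1 D12069 (iv D12069) F42041
theorem F47417 : act 2 n12069 = n10791 := d19_1 D12069 (iv D10791) (iv F42042)
theorem F47418 : act 5 n12069 = n10795 := d31_1 D12069 (iv D10795) (iv F42044)
theorem F47419 : act 6 n12069 = n10996 := d33_1 D12069 F42757 (iv F44777)
def n12070 : Q := act 6 n10789
theorem D12070 : act 6 n10789 = n12070 := rfl
theorem F47420 : act 0 n12070 = n11018 := d5_1 D12070 (iv D11018) (iv F42045)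
theorem F47421 : act 1 n12070 = n10820 := d12_1 D12070 (iv D10820) (iv F42046)
theorem F47422 : act 4 n12070 = n10796 := d27_1 D12070 (iv D10796) (iv F42047)
def n12071 : Q := act 8 n10789
theorem D12071 : act 8 n10789 = n12071 := rfl
theorem F47423 : act 0 n12071 = n11019 := d7_1 D12071 (iv D11019) (iv F42045)
theorem F47424 : act 1 n12071 = n10821 := d14_1 D12071 (iv D10821) (iv F42046)
theorem F47425 : act 3 n12071 = n11011 := d25_1 D12071 (iv F47392) F47390
theorem F47426 : act 4 n12071 = n10797 := d29_1 D12071 (iv D10797) (iv F42047)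
theorem F47427 : act 5 n12071 = n10790 := d32_1 D12071 (iv D10790) D10789
def n12072 : Q := act 7 n10790
theorem D12072 : act 7 n10790 = n12072 := rfl
theorem F47428 : act 0 n12072 = n11020 := d6_1 D12072 (iv D11020) (iv F42048)
theorem F47429 : act 1 n12072 = n10822 := d13_1 D12072 (iv D10822) (iv F42049)
theorem F47430 : act 4 n12072 = n10791 := d28_1 D12072 (iv D10791) (iv F42050)
theorem F47431 : act 6 n12072 = n10997 := d33_1 D12072 F42759 (iv F44712)
def n12073 : Q := act 5 n10792
theorem D12073 : act 5 n10792 = n12073 := rfl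
theorem F47432 : act 0 n12073 = n11021 := d4_1 D12073 (iv D11021) (iv F42054)
theorem F47433 : act 1 n12073 = n12073 := d11_1 D12073 (iv D12073) F42055
theorem F47434 : act 2 n12073 = n12073 := d17_1 D12073 (iv D12073) F42056
theorem F47435 : act 3 n12073 = n10793 := d22_1 D12073 (iv D10793) D10792
def n12074 : Q := act 7 n10792
theorem D12074 : act 7 n10792 = n12074 := rfl
theorem F47436 : act 0 n12074 = n11022 := d6_1 D12074 (iv D11022) (iv F42054)
theorem F47437 : act 1 n12074 = n12074 := d13_1 D12074 (iv D12074) F42055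
theorem F47438 : act 2 n12074 = n12074 := d19_1 D12074 (iv D12074) F42056
theorem F47439 : act 4 n12074 = n12074 := d28_1 D12074 (iv D12074) F42057
theorem F47440 : act 6 n12074 = n12074 := d33_1 D12074 (iv D12074) F42058
def n12075 : Q := act 8 n10792
theorem D12075 : act 8 n10792 = n12075 := rfl
theorem F47441 : act 0 n12075 = n11023 := d7_1 D12075 (iv D11023) (iv F42054)
theorem F47442 : act 1 n12075 = n12075 := d14_1 D12075 (iv D12075) F42055
theorem F47443 : act 2 n12075 = n12075 := d20_1 D12075 (iv D12075) F42056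
theorem F47444 : act 3 n12075 = n10794 := d25_1 D12075 (iv D10794) D10792
theorem F47445 : act 4 n12075 = n12075 := d29_1 D12075 (iv D12075) F42057
theorem F47446 : act 6 n12075 = n12075 := d34_1 D12075 (iv D12075) F42058
def n12076 : Q := act 6 n10793
theorem D12076 : act 6 n10793 = n12076 := rfl
theorem F47447 : act 0 n12076 = n11024 := d5_1 D12076 (iv D11024) (iv F42059)
theorem F47448 : act 1 n12076 = n12076 := d12_1 D12076 (iv D12076) F42060
theorem F47449 : act 2 n12076 = n10796 := d18_1 D12076 (iv D10796) (iv F42061)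
theorem F47450 : act 5 n12076 = n12076 := d30_1 D12076 (iv D12076) (iv D10793) F34645 D10793
def n12077 : Q := act 8 n10793
theorem D12077 : act 8 n10793 = n12077 := rfl
theorem F47451 : act 0 n12077 = n11025 := d7_1 D12077 (iv D11025) (iv F42059)
theorem F47452 : act 1 n12077 = n12077 := d14_1 D12077 (iv D12077) F42060
theorem F47453 : act 2 n12077 = n10797 := d20_1 D12077 (iv D10797) (iv F42061)
theorem F47454 : act 5 n12077 = n10794 := d32_1 D12077 (iv D10794) D10793
def n12078 : Q := act 7 n10794
theorem D12078 : act 7 n10794 = n12078 := rfl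
theorem F47455 : act 0 n12078 = n11026 := d6_1 D12078 (iv D11026) (iv F42062)
theorem F47456 : act 1 n12078 = n12078 := d13_1 D12078 (iv D12078) F42063
theorem F47457 : act 2 n12078 = n10798 := d19_1 D12078 (iv D10798) (iv F42064)
theorem F47458 : act 4 n12078 = n10795 := d28_1 D12078 (iv D10795) (iv F42065)
theorem F47459 : act 6 n12078 = n12078 := d33_1 D12078 (iv D12078) F42066
def n12079 : Q := act 3 n10795
theorem D12079 : act 3 n10795 = n12079 := rfl
theorem F47460 : act 0 n12079 = n11027 := d2_1 D12079 (iv D11027) (iv F42067)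
theorem F47461 : act 1 n12079 = n12079 := d9_1 D12079 (iv D12079) F42068
theorem F47462 : act 6 n12079 = n12079 := d23_2 F42070 D12079 (iv D12079)
theorem F47463 : act 7 n12079 = n12079 := d24_2 D10795 D12079 (iv D12079) (iv D10795) F34649
def n12080 : Q := act 8 n10796
theorem D12080 : act 8 n10796 = n12080 := rfl
theorem F47464 : act 0 n12080 = n11028 := d7_1 D12080 (iv D11028) (iv F42071)
theorem F47465 : act 1 n12080 = n10823 := d14_1 D12080 (iv D10823) (iv F42072)
theorem F47466 : act 3 n12080 = n12080 := d25_1 D12080 (iv D12080) F42073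
theorem F47467 : act 5 n12080 = n12080 := d32_1 D12080 (iv D12080) F42074
theorem F47468 : act 6 n12080 = n10797 := d34_1 D12080 (iv D10797) D10796
def n12081 : Q := act 7 n10797
theorem D12081 : act 7 n10797 = n12081 := rfl
theorem F47469 : act 0 n12081 = n11029 := d6_1 D12081 (iv D11029) (iv F42075)
theorem F47470 : act 1 n12081 = n10824 := d13_1 D12081 (iv D10824) (iv F42076)
theorem F47471 : act 5 n12081 = n10798 := d31_1 D12081 (iv D10798) (iv F42078)
def n12082 : Q := act 3 n10798
theorem D12082 : act 3 n10798 = n12082 := rfl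
theorem F47472 : act 0 n12082 = n11030 := d2_1 D12082 (iv D11030) (iv F42079)
theorem F47473 : act 1 n12082 = n10825 := d9_1 D12082 (iv D10825) (iv F42080)
theorem F47474 : act 6 n12082 = n12082 := d23_2 F42082 D12082 (iv D12082)
theorem F47475 : act 7 n12082 = n12082 := d24_2 D10798 D12082 (iv D12082) (iv D10798) F34656
def n12083 : Q := act 5 n10804
theorem D12083 : act 5 n10804 = n12083 := rfl
theorem F47476 : act 0 n12083 = n10842 := d4_1 D12083 (iv D10842) (iv F42101)
theorem F47477 : act 2 n12083 = n11190 := d17_1 D12083 F43476 (iv F44706)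
theorem F47478 : act 4 n12083 = n12083 := d26_1 D12083 (iv D12083) (iv D10804) F34670 D10804
theorem F47479 : act 7 n12083 = n10814 := d31_2 (iv F42102) D12083 (iv D10814)
def n12084 : Q := act 6 n10814
theorem D12084 : act 6 n10814 = n12084 := rfl
theorem F47480 : act 0 n12084 = n10856 := d5_1 D12084 (iv D10856) (iv F42133)
theorem F47481 : act 2 n12084 = n11189 := d18_1 D12084 F43473 (iv F44675)
theorem F47482 : act 3 n12084 = n10820 := d23_1 D12084 (iv D10820) (iv F42134)
theorem F47483 : act 4 n12084 = n12084 := d27_1 D12084 (iv D12084) F42135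
theorem F47484 : act 5 n12084 = n11050 := d30_1 D12084 F42941 F35308 (iv F44685) D10814
theorem F47485 : act 8 n12084 = n11047 := d34_2 (iv F44676) D12084 (iv D11047)
def n12085 : Q := act 6 n10817
theorem D12085 : act 6 n10817 = n12085 := rfl
theorem F47486 : act 0 n12085 = n10859 := d5_1 D12085 (iv D10859) (iv F42141)
theorem F47487 : act 2 n12085 = n12085 := d18_1 D12085 (iv D12085) F42142
theorem F47488 : act 3 n12085 = n11050 := d23_1 D12085 F42941 (iv F44656)
theorem F47489 : act 4 n12085 = n12085 := d27_1 D12085 (iv D12085) F42143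
theorem F47490 : act 5 n12085 = n10820 := d30_1 D12085 (iv D10820) (iv D9159) (iv F34696) D10817
theorem F47491 : act 8 n12085 = n11044 := d34_2 (iv F44657) D12085 (iv D11044)
def n12086 : Q := act 8 n10820
theorem D12086 : act 8 n10820 = n12086 := rfl
theorem F47492 : act 0 n12086 = n10862 := d7_1 D12086 (iv D10862) (iv F42152)
theorem F47493 : act 2 n12086 = n12086 := d20_1 D12086 (iv D12086) F42153
theorem F47494 : act 3 n12086 = n11047 := d25_1 D12086 (iv F47485) F47482
theorem F47495 : act 4 n12086 = n10823 := d29_1 D12086 (iv D10823) (iv F42154)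
theorem F47496 : act 5 n12086 = n11044 := d32_1 D12086 (iv F47491) F47490
theorem F47497 : act 6 n12086 = n10821 := d34_1 D12086 (iv D10821) D10820
def n12087 : Q := act 7 n10821
theorem D12087 : act 7 n10821 = n12087 := rfl
theorem F47498 : act 0 n12087 = n10863 := d6_1 D12087 (iv D10863) (iv F42155)
theorem F47499 : act 2 n12087 = n12087 := d19_1 D12087 (iv D12087) F42156
theorem F47500 : act 4 n12087 = n10824 := d28_1 D12087 (iv D10824) (iv F42157)
theorem F47501 : act 5 n12087 = n10822 := d31_1 D12087 (iv D10822) (iv F42158)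
def n12088 : Q := act 7 n10823
theorem D12088 : act 7 n10823 = n12088 := rfl
theorem F47502 : act 0 n12088 = n10865 := d6_1 D12088 (iv D10865) (iv F42162)
theorem F47503 : act 2 n12088 = n12088 := d19_1 D12088 (iv D12088) F42163
theorem F47504 : act 5 n12088 = n12088 := d31_1 D12088 (iv D12088) F42165
theorem F47505 : act 6 n12088 = n10824 := d33_1 D12088 (iv D10824) (iv F42166)
def n12089 : Q := act 3 n10824
theorem D12089 : act 3 n10824 = n12089 := rfl
theorem F47506 : act 0 n12089 = n10866 := d2_1 D12089 (iv D10866) (iv F42167)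
theorem F47507 : act 5 n12089 = n10825 := d22_2 (iv F42169) D12089 (iv D10825)
theorem F47508 : act 7 n12089 = n12089 := d24_2 D10824 D12089 (iv D12089) (iv D10824) F34717
def n12090 : Q := act 2 n10825
theorem D12090 : act 2 n10825 = n12090 := rfl
theorem F47509 : act 0 n12090 = n10867 := d1_1 D12090 (iv D10867) (iv F42170)
theorem F47510 : act 3 n12090 = n12090 := d15_2 D10825 D12090 (iv D12090) (iv D10825) F34720
theorem F47511 : act 6 n12090 = n12090 := d18_2 F42171 D12090 (iv D12090)
theorem F47512 : act 7 n12090 = n12090 := d19_2 F42172 D12090 (iv D12090)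
def n12091 : Q := act 6 n10842
theorem D12091 : act 6 n10842 = n12091 := rfl
theorem F47513 : act 1 n12091 = n11063 := d12_1 D12091 (iv D11063) (iv F42241)
theorem F47514 : act 2 n12091 = n11199 := d18_1 D12091 F43506 (iv F44681)
theorem F47515 : act 4 n12091 = n12091 := d27_1 D12091 (iv D12091) F42242
theorem F47516 : act 5 n12091 = n11078 := d30_1 D12091 F43024 F35385 (iv F44695) D10842
theorem F47517 : act 7 n12091 = n10856 := d33_2 (iv F42243) D12091 (iv D10856)
def n12092 : Q := act 7 n10862
theorem D12092 : act 7 n10862 = n12092 := rfl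
theorem F47518 : act 1 n12092 = n11078 := d13_1 D12092 (iv D11078) (iv F42308)
theorem F47519 : act 2 n12092 = n12092 := d19_1 D12092 (iv D12092) F42309
theorem F47520 : act 4 n12092 = n10865 := d28_1 D12092 (iv D10865) (iv F42310)
theorem F47521 : act 5 n12092 = n11063 := d31_1 D12092 F42980 (iv F44672)
theorem F47522 : act 6 n12092 = n10863 := d33_1 D12092 (iv D10863) (iv F42311)
def n12093 : Q := act 3 n10876
theorem D12093 : act 3 n10876 = n12093 := rfl
theorem F47523 : act 0 n12093 = n11515 := d2_1 D12093 (iv F46491) F46489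
theorem F47524 : act 1 n12093 = n11087 := d9_1 D12093 (iv D11087) (iv F42363)
theorem F47525 : act 2 n12093 = n11425 := d15_1 D12093 (iv D11425) (iv F40015) F44888 (iv F42364)
theorem F47526 : act 5 n12093 = n12093 := d22_2 F42365 D12093 (iv D12093)
theorem F47527 : act 6 n12093 = n11427 := d23_2 F45951 D12093 (iv F45949)
theorem F47528 : act 7 n12093 = n12093 := d24_2 D10876 D12093 (iv D12093) (iv D10876) F34881
def n12094 : Q := act 8 n10876
theorem D12094 : act 8 n10876 = n12094 := rfl
theorem F47529 : act 1 n12094 = n11088 := d14_1 D12094 (iv D11088) (iv F42363)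
theorem F47530 : act 2 n12094 = n10880 := d20_1 D12094 (iv D10880) (iv F42364)
theorem F47531 : act 5 n12094 = n12094 := d32_1 D12094 (iv D12094) F42365
theorem F47532 : act 7 n12094 = n10991 := d35_1 D12094 (iv D10991) (iv D9289) (iv F34883) D10876
def n12095 : Q := act 3 n10890
theorem D12095 : act 3 n10890 = n12095 := rfl
theorem F47533 : act 0 n12095 = n11503 := d2_1 D12095 (iv F46461) F46458
theorem F47534 : act 1 n12095 = n12095 := d9_1 D12095 (iv D12095) F42407
theorem F47535 : act 2 n12095 = n11419 := d15_1 D12095 F44311 (iv F40005) F44887 (iv F42408)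
theorem F47536 : act 4 n12095 = n12095 := d21_2 D10890 D12095 (iv D12095) (iv D10890) F34914
theorem F47537 : act 6 n12095 = n11418 := d23_2 F45919 D12095 (iv F45916)
theorem F47538 : act 8 n12095 = n11973 := d25_2 F46109 D12095 F47012
def n12096 : Q := act 5 n10890
theorem D12096 : act 5 n10890 = n12096 := rfl
theorem F47539 : act 1 n12096 = n12096 := d11_1 D12096 (iv D12096) F42407
theorem F47540 : act 2 n12096 = n10892 := d17_1 D12096 (iv D10892) (iv F42408)
theorem F47541 : act 4 n12096 = n10896 := d26_1 D12096 (iv D10896) (iv D9218) (iv F34915) D10890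
def n12097 : Q := act 5 n10895
theorem D12097 : act 5 n10895 = n12097 := rfl
theorem F47542 : act 1 n12097 = n12097 := d11_1 D12097 (iv D12097) F42420
theorem F47543 : act 2 n12097 = n12097 := d17_1 D12097 (iv D12097) F42421
theorem F47544 : act 3 n12097 = n10896 := d22_1 D12097 (iv D10896) D10895
def n12098 : Q := act 7 n10895
theorem D12098 : act 7 n10895 = n12098 := rfl
theorem F47545 : act 1 n12098 = n12098 := d13_1 D12098 (iv D12098) F42420
theorem F47546 : act 2 n12098 = n12098 := d19_1 D12098 (iv D12098) F42421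
theorem F47547 : act 4 n12098 = n12098 := d28_1 D12098 (iv D12098) F42422
theorem F47548 : act 6 n12098 = n12098 := d33_1 D12098 (iv D12098) F42423
def n12099 : Q := act 8 n10895
theorem D12099 : act 8 n10895 = n12099 := rfl
theorem F47549 : act 1 n12099 = n12099 := d14_1 D12099 (iv D12099) F42420
theorem F47550 : act 2 n12099 = n12099 := d20_1 D12099 (iv D12099) F42421
theorem F47551 : act 3 n12099 = n10897 := d25_1 D12099 (iv D10897) D10895
theorem F47552 : act 4 n12099 = n12099 := d29_1 D12099 (iv D12099) F42422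
theorem F47553 : act 6 n12099 = n12099 := d34_1 D12099 (iv D12099) F42423
def n12100 : Q := act 6 n10896
theorem D12100 : act 6 n10896 = n12100 := rfl
theorem F47554 : act 1 n12100 = n12100 := d12_1 D12100 (iv D12100) F42424
theorem F47555 : act 2 n12100 = n10899 := d18_1 D12100 (iv D10899) (iv F42425)
theorem F47556 : act 5 n12100 = n12100 := d30_1 D12100 (iv D12100) (iv D10896) F34922 D10896
def n12101 : Q := act 8 n10896
theorem D12101 : act 8 n10896 = n12101 := rfl
theorem F47557 : act 1 n12101 = n12101 := d14_1 D12101 (iv D12101) F42424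
theorem F47558 : act 2 n12101 = n10900 := d20_1 D12101 (iv D10900) (iv F42425)
theorem F47559 : act 5 n12101 = n10897 := d32_1 D12101 (iv D10897) D10896
def n12102 : Q := act 7 n10897
theorem D12102 : act 7 n10897 = n12102 := rfl
theorem F47560 : act 1 n12102 = n12102 := d13_1 D12102 (iv D12102) F42426
theorem F47561 : act 2 n12102 = n10901 := d19_1 D12102 (iv D10901) (iv F42427)
theorem F47562 : act 4 n12102 = n10898 := d28_1 D12102 (iv D10898) (iv F42428)
theorem F47563 : act 6 n12102 = n12102 := d33_1 D12102 (iv D12102) F42429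
theorem F47564 : act 3 n12102 = n12078 := d37_3 D12057 F47364 (iv F47562) F47457 F42080 F34719 (iv D6702) (iv F25711) (iv F34827) F44660 F26118 F19612 (iv F26416) (iv F33635) (iv D8865) (iv D6460) (iv D4716) F13637 (iv F38369) F10186 (iv D1858) F5720 (iv D1359) F4287 F3249 F2614 F1983 (iv F2560) (iv D565) (iv D415) F1461 (iv D306) (iv F1386) (iv F1717) F1721 F1314 D277 F1323 F38376 F1224 F945 F948 (iv F1145) F1144 (iv F1513) (iv F2001) (iv F2635) (iv F3497) (iv F4553) F4552 F3793 (iv F5025) (iv F6675) (iv F8893) F8892 F8895 (iv F10821) (iv F14497) (iv F19517) (iv F26326) (iv F35162) (iv F41978)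
theorem F47565 : act 7 n12075 = n12099 := d24_4 D12102 F47564 (iv D12078) (iv F47444) F47551
theorem F47566 : act 8 n12098 = n12074 := d35_4 D12075 F47565 (iv D12099) D12098 (iv D12074)
def n12103 : Q := act 3 n10898
theorem D12103 : act 3 n10898 = n12103 := rfl
theorem F47567 : act 1 n12103 = n12103 := d9_1 D12103 (iv D12103) F42430
theorem F47568 : act 2 n12103 = n11027 := d15_1 D12103 (iv D11027) F35230 (iv F34934) (iv F42431)
theorem F47569 : act 4 n12103 = n12079 := d21_2 F47562 D12103 (iv D12079) (iv F47458) (iv F47564)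
theorem F47570 : act 6 n12103 = n12103 := d23_2 F42432 D12103 (iv D12103)
theorem F47571 : act 7 n12103 = n12103 := d24_2 D10898 D12103 (iv D12103) (iv D10898) F34925
def n12104 : Q := act 8 n10899
theorem D12104 : act 8 n10899 = n12104 := rfl
theorem F47572 : act 1 n12104 = n10926 := d14_1 D12104 (iv D10926) (iv F42433)
theorem F47573 : act 3 n12104 = n12104 := d25_1 D12104 (iv D12104) F42434
theorem F47574 : act 5 n12104 = n12104 := d32_1 D12104 (iv D12104) F42435
theorem F47575 : act 6 n12104 = n10900 := d34_1 D12104 (iv D10900) D10899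
def n12105 : Q := act 7 n10900
theorem D12105 : act 7 n10900 = n12105 := rfl
theorem F47576 : act 1 n12105 = n10927 := d13_1 D12105 (iv D10927) (iv F42436)
theorem F47577 : act 5 n12105 = n10901 := d31_1 D12105 (iv D10901) (iv F42438)
def n12106 : Q := act 3 n10901
theorem D12106 : act 3 n10901 = n12106 := rfl
theorem F47578 : act 1 n12106 = n10928 := d9_1 D12106 (iv D10928) (iv F42439)
theorem F47579 : act 2 n12106 = n12082 := d15_1 D12106 (iv D12082) (iv F47457) (iv F47564) F47561
theorem F47580 : act 4 n12106 = n11030 := d21_2 (iv F42440) D12106 (iv D11030) F35239 (iv F34934)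
theorem F47581 : act 6 n12106 = n12106 := d23_2 F42441 D12106 (iv D12106)
theorem F47582 : act 7 n12106 = n12106 := d24_2 D10901 D12106 (iv D12106) (iv D10901) F34930
def n12107 : Q := act 7 n10926
theorem D12107 : act 7 n10926 = n12107 := rfl
theorem F47583 : act 0 n12107 = n10972 := d6_1 D12107 (iv D10972) (iv F42525)
theorem F47584 : act 2 n12107 = n12107 := d19_1 D12107 (iv D12107) F42526
theorem F47585 : act 5 n12107 = n12107 := d31_1 D12107 (iv D12107) F42528
theorem F47586 : act 6 n12107 = n10927 := d33_1 D12107 (iv D10927) (iv F42529)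
def n12108 : Q := act 3 n10927
theorem D12108 : act 3 n10927 = n12108 := rfl
theorem F47587 : act 0 n12108 = n10973 := d2_1 D12108 (iv D10973) (iv F42530)
theorem F47588 : act 5 n12108 = n10928 := d22_2 (iv F42532) D12108 (iv D10928)
theorem F47589 : act 7 n12108 = n12108 := d24_2 D10927 D12108 (iv D12108) (iv D10927) F34995
def n12109 : Q := act 2 n10928
theorem D12109 : act 2 n10928 = n12109 := rfl
theorem F47590 : act 0 n12109 = n10974 := d1_1 D12109 (iv D10974) (iv F42533)
theorem F47591 : act 1 n12109 = n12090 := d8_1 D12109 (iv D12090) (iv F47473) (iv F47579) F47578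
theorem F47592 : act 3 n12109 = n12109 := d15_2 D10928 D12109 (iv D12109) (iv D10928) F34998
theorem F47593 : act 4 n12109 = n11055 := d16_2 (iv F42534) D12109 (iv D11055)
theorem F47594 : act 6 n12109 = n12109 := d18_2 F42535 D12109 (iv D12109)
theorem F47595 : act 7 n12109 = n12109 := d19_2 F42536 D12109 (iv D12109)
def n12110 : Q := act 3 n10989
theorem D12110 : act 3 n10989 = n12110 := rfl
theorem F47596 : act 1 n12110 = n11152 := d9_1 D12110 (iv D11152) (iv F42735)
theorem F47597 : act 6 n12110 = n10990 := d23_2 (iv F42737) D12110 (iv D10990)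
theorem F47598 : act 7 n12110 = n12110 := d24_2 D10989 D12110 (iv D12110) (iv D10989) F35164
def n12111 : Q := act 8 n10989
theorem D12111 : act 8 n10989 = n12111 := rfl
theorem F47599 : act 1 n12111 = n11153 := d14_1 D12111 (iv D11153) (iv F42735)
theorem F47600 : act 2 n12111 = n10995 := d20_1 D12111 (iv D10995) (iv F42736)
theorem F47601 : act 6 n12111 = n10991 := d34_1 D12111 (iv D10991) (iv F42737)
def n12112 : Q := act 2 n10990
theorem D12112 : act 2 n10990 = n12112 := rfl
theorem F47602 : act 1 n12112 = n12112 := d8_1 D12112 (iv D12112) F42738 F35651 (iv F42738)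
theorem F47603 : act 3 n12112 = n10996 := d15_2 D10990 D12112 (iv D10996) (iv D9292) (iv F35166)
theorem F47604 : act 5 n12112 = n12112 := d17_2 F42739 D12112 (iv D12112)
theorem F47605 : act 7 n12112 = n12112 := d19_2 F42740 D12112 (iv D12112)
def n12113 : Q := act 4 n10990
theorem D12113 : act 4 n10990 = n12113 := rfl
theorem F47606 : act 1 n12113 = n11154 := d10_1 D12113 (iv D11154) (iv F42738)
theorem F47607 : act 7 n12113 = n12113 := d28_2 F42740 D12113 (iv D12113)
def n12114 : Q := act 8 n10990
theorem D12114 : act 8 n10990 = n12114 := rfl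
theorem F47608 : act 1 n12114 = n11155 := d14_1 D12114 (iv D11155) (iv F42738)
theorem F47609 : act 3 n12114 = n10991 := d25_1 D12114 (iv D10991) D10990
theorem F47610 : act 5 n12114 = n12114 := d32_1 D12114 (iv D12114) F42739
def n12115 : Q := act 4 n10996
theorem D12115 : act 4 n10996 = n12115 := rfl
theorem F47611 : act 1 n12115 = n12115 := d10_1 D12115 (iv D12115) F42755
theorem F47612 : act 2 n12115 = n10997 := d16_1 D12115 (iv D10997) D10996
theorem F47613 : act 7 n12115 = n11004 := d28_2 (iv F42757) D12115 (iv D11004)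
def n12116 : Q := act 8 n10996
theorem D12116 : act 8 n10996 = n12116 := rfl
theorem F47614 : act 1 n12116 = n12116 := d14_1 D12116 (iv D12116) F42755
theorem F47615 : act 2 n12116 = n10998 := d20_1 D12116 (iv D10998) D10996
theorem F47616 : act 5 n12116 = n12116 := d32_1 D12116 (iv D12116) F42756
def n12117 : Q := act 5 n10997
theorem D12117 : act 5 n10997 = n12117 := rfl
theorem F47617 : act 1 n12117 = n11036 := d11_1 D12117 (iv D11036) (iv F42758)
theorem F47618 : act 4 n12117 = n12117 := d26_1 D12117 (iv D12117) (iv D10997) F35174 D10997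
theorem F47619 : act 7 n12117 = n11006 := d31_2 (iv F42759) D12117 (iv D11006)
def n12118 : Q := act 8 n10997
theorem D12118 : act 8 n10997 = n12118 := rfl
theorem F47620 : act 1 n12118 = n11037 := d14_1 D12118 (iv D11037) (iv F42758)
theorem F47621 : act 4 n12118 = n10998 := d29_1 D12118 (iv D10998) D10997
def n12119 : Q := act 3 n11004
theorem D12119 : act 3 n11004 = n12119 := rfl
theorem F47622 : act 1 n12119 = n12119 := d9_1 D12119 (iv D12119) F42780
theorem F47623 : act 2 n12119 = n11014 := d15_1 D12119 (iv D11014) F35208 (iv F35193) (iv F42781)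
theorem F47624 : act 4 n12119 = n12119 := d21_2 D11004 D12119 (iv D12119) (iv D11004) F35190
def n12120 : Q := act 5 n11004
theorem D12120 : act 5 n11004 = n12120 := rfl
theorem F47625 : act 1 n12120 = n12120 := d11_1 D12120 (iv D12120) F42780
theorem F47626 : act 2 n12120 = n11006 := d17_1 D12120 (iv D11006) (iv F42781)
theorem F47627 : act 4 n12120 = n12120 := d26_1 D12120 (iv D12120) (iv D11004) F35191 D11004
def n12121 : Q := act 6 n11006
theorem D12121 : act 6 n11006 = n12121 := rfl
theorem F47628 : act 1 n12121 = n11044 := d12_1 D12121 (iv D11044) (iv F42786)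
theorem F47629 : act 3 n12121 = n11018 := d23_1 D12121 (iv D11018) (iv F42787)
theorem F47630 : act 4 n12121 = n12121 := d27_1 D12121 (iv D12121) F42788
def n12122 : Q := act 3 n11009
theorem D12122 : act 3 n11009 = n12122 := rfl
theorem F47631 : act 1 n12122 = n11159 := d9_1 D12122 (iv D11159) (iv F42794)
theorem F47632 : act 4 n12122 = n12122 := d21_2 D11009 D12122 (iv D12122) (iv D11009) F35198
theorem F47633 : act 6 n12122 = n11014 := d23_2 (iv F42796) D12122 (iv D11014)
def n12123 : Q := act 5 n11009
theorem D12123 : act 5 n11009 = n12123 := rfl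
theorem F47634 : act 1 n12123 = n11160 := d11_1 D12123 (iv D11160) (iv F42794)
theorem F47635 : act 2 n12123 = n11011 := d17_1 D12123 (iv D11011) (iv F42795)
theorem F47636 : act 4 n12123 = n12123 := d26_1 D12123 (iv D12123) (iv D11009) F35199 D11009
def n12124 : Q := act 6 n11011
theorem D12124 : act 6 n11011 = n12124 := rfl
theorem F47637 : act 1 n12124 = n11047 := d12_1 D12124 (iv D11047) (iv F42802)
theorem F47638 : act 4 n12124 = n12124 := d27_1 D12124 (iv D12124) F42803
theorem F47639 : act 5 n12124 = n11018 := d30_1 D12124 (iv D11018) (iv D9305) (iv F35202) D11011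
def n12125 : Q := act 5 n11014
theorem D12125 : act 5 n11014 = n12125 := rfl
theorem F47640 : act 1 n12125 = n11166 := d11_1 D12125 (iv D11166) (iv F42810)
theorem F47641 : act 3 n12125 = n11015 := d22_1 D12125 (iv D11015) D11014
def n12126 : Q := act 7 n11014
theorem D12126 : act 7 n11014 = n12126 := rfl
theorem F47642 : act 1 n12126 = n11167 := d13_1 D12126 (iv D11167) (iv F42810)
theorem F47643 : act 4 n12126 = n12126 := d28_1 D12126 (iv D12126) F42811
def n12127 : Q := act 8 n11014
theorem D12127 : act 8 n11014 = n12127 := rfl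
theorem F47644 : act 1 n12127 = n11168 := d14_1 D12127 (iv D11168) (iv F42810)
theorem F47645 : act 3 n12127 = n11016 := d25_1 D12127 (iv D11016) D11014
theorem F47646 : act 4 n12127 = n12127 := d29_1 D12127 (iv D12127) F42811
def n12128 : Q := act 6 n11015
theorem D12128 : act 6 n11015 = n12128 := rfl
theorem F47647 : act 1 n12128 = n11169 := d12_1 D12128 (iv D11169) (iv F42812)
theorem F47648 : act 2 n12128 = n11018 := d18_1 D12128 (iv D11018) (iv F42813)
theorem F47649 : act 4 n12128 = n11024 := d27_1 D12128 (iv D11024) (iv F42814)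
def n12129 : Q := act 8 n11015
theorem D12129 : act 8 n11015 = n12129 := rfl
theorem F47650 : act 1 n12129 = n11170 := d14_1 D12129 (iv D11170) (iv F42812)
theorem F47651 : act 2 n12129 = n11019 := d20_1 D12129 (iv D11019) (iv F42813)
theorem F47652 : act 4 n12129 = n11025 := d29_1 D12129 (iv D11025) (iv F42814)
theorem F47653 : act 5 n12129 = n11016 := d32_1 D12129 (iv D11016) D11015
def n12130 : Q := act 7 n11016
theorem D12130 : act 7 n11016 = n12130 := rfl
theorem F47654 : act 1 n12130 = n11171 := d13_1 D12130 (iv D11171) (iv F42815)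
theorem F47655 : act 2 n12130 = n11020 := d19_1 D12130 (iv D11020) (iv F42816)
theorem F47656 : act 4 n12130 = n11017 := d28_1 D12130 (iv D11017) (iv F42817)
def n12131 : Q := act 3 n11017
theorem D12131 : act 3 n11017 = n12131 := rfl
theorem F47657 : act 1 n12131 = n11172 := d9_1 D12131 (iv D11172) (iv F42818)
theorem F47658 : act 5 n12131 = n11027 := d22_2 (iv F42820) D12131 (iv D11027)
theorem F47659 : act 7 n12131 = n12131 := d24_2 D11017 D12131 (iv D12131) (iv D11017) F35211
def n12132 : Q := act 8 n11018
theorem D12132 : act 8 n11018 = n12132 := rfl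
theorem F47660 : act 1 n12132 = n11050 := d14_1 D12132 (iv D11050) (iv F42821)
theorem F47661 : act 4 n12132 = n11028 := d29_1 D12132 (iv D11028) (iv F42822)
theorem F47662 : act 6 n12132 = n11019 := d34_1 D12132 (iv D11019) D11018
def n12133 : Q := act 7 n11019
theorem D12133 : act 7 n11019 = n12133 := rfl
theorem F47663 : act 1 n12133 = n11051 := d13_1 D12133 (iv D11051) (iv F42823)
theorem F47664 : act 4 n12133 = n11029 := d28_1 D12133 (iv D11029) (iv F42824)
theorem F47665 : act 5 n12133 = n11020 := d31_1 D12133 (iv D11020) (iv F42825)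
def n12134 : Q := act 3 n11020
theorem D12134 : act 3 n11020 = n12134 := rfl
theorem F47666 : act 1 n12134 = n11052 := d9_1 D12134 (iv D11052) (iv F42826)
def n12135 : Q := act 4 n11021
theorem D12135 : act 4 n11021 = n12135 := rfl
theorem F47667 : act 1 n12135 = n11176 := d10_1 D12135 (iv D11176) (iv F42828)
theorem F47668 : act 2 n12135 = n12135 := d16_1 D12135 (iv D12135) F42829
theorem F47669 : act 5 n12135 = n12135 := d26_2 D11021 D12135 (iv D12135) (iv D11021) F35221
def n12136 : Q := act 6 n11021
theorem D12136 : act 6 n11021 = n12136 := rfl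
theorem F47670 : act 1 n12136 = n11177 := d12_1 D12136 (iv D11177) (iv F42828)
theorem F47671 : act 2 n12136 = n12136 := d18_1 D12136 (iv D12136) F42829
theorem F47672 : act 3 n12136 = n11024 := d23_1 D12136 (iv D11024) (iv F42830)
theorem F47673 : act 5 n12136 = n12136 := d30_1 D12136 (iv D12136) (iv D11021) F35222 D11021
def n12137 : Q := act 7 n11021
theorem D12137 : act 7 n11021 = n12137 := rfl
theorem F47674 : act 1 n12137 = n11178 := d13_1 D12137 (iv D11178) (iv F42828)
theorem F47675 : act 2 n12137 = n12137 := d19_1 D12137 (iv D12137) F42829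
theorem F47676 : act 5 n12137 = n11022 := d31_1 D12137 (iv D11022) D11021
def n12138 : Q := act 8 n11021
theorem D12138 : act 8 n11021 = n12138 := rfl
theorem F47677 : act 1 n12138 = n11179 := d14_1 D12138 (iv D11179) (iv F42828)
theorem F47678 : act 2 n12138 = n12138 := d20_1 D12138 (iv D12138) F42829
theorem F47679 : act 3 n12138 = n11025 := d25_1 D12138 (iv D11025) (iv F42830)
theorem F47680 : act 5 n12138 = n11023 := d32_1 D12138 (iv D11023) D11021
def n12139 : Q := act 8 n11022
theorem D12139 : act 8 n11022 = n12139 := rfl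
theorem F47681 : act 0 n12139 = n12098 := d7_1 D12139 F47566 F47436
theorem F47682 : act 1 n12139 = n11180 := d14_1 D12139 (iv D11180) (iv F42831)
theorem F47683 : act 2 n12139 = n12139 := d20_1 D12139 (iv D12139) F42832
theorem F47684 : act 4 n12139 = n12139 := d29_1 D12139 (iv D12139) F42833
theorem F47685 : act 6 n12139 = n12139 := d34_1 D12139 (iv D12139) F42834
theorem F47686 : act 7 n12051 = n12139 := d6_0 F47681 (iv D12098) (iv F47337)
def n12140 : Q := act 7 n11023
theorem D12140 : act 7 n11023 = n12140 := rfl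
theorem F47687 : act 0 n12140 = n12099 := d6_1 D12140 (iv F47565) F47441
theorem F47688 : act 1 n12140 = n11181 := d13_1 D12140 (iv D11181) (iv F42835)
theorem F47689 : act 2 n12140 = n12140 := d19_1 D12140 (iv D12140) F42836
theorem F47690 : act 4 n12140 = n12140 := d28_1 D12140 (iv D12140) F42838
theorem F47691 : act 6 n12140 = n12140 := d33_1 D12140 (iv D12140) F42839
theorem F47692 : act 8 n12140 = n12051 := d35_2 D11023 D12140 F47686 (iv D12139) (iv D11022)
theorem F47693 : act 3 n12053 = n12140 := d25_3 F47692 (iv D12051) D12053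
def n12141 : Q := act 8 n11024
theorem D12141 : act 8 n11024 = n12141 := rfl
theorem F47694 : act 1 n12141 = n11182 := d14_1 D12141 (iv D11182) (iv F42840)
theorem F47695 : act 2 n12141 = n11028 := d20_1 D12141 (iv D11028) (iv F42841)
theorem F47696 : act 5 n12141 = n12141 := d32_1 D12141 (iv D12141) F42842
theorem F47697 : act 6 n12141 = n11025 := d34_1 D12141 (iv D11025) D11024
def n12142 : Q := act 7 n11025
theorem D12142 : act 7 n11025 = n12142 := rfl
theorem F47698 : act 1 n12142 = n11183 := d13_1 D12142 (iv D11183) (iv F42843)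
theorem F47699 : act 2 n12142 = n11029 := d19_1 D12142 (iv D11029) (iv F42844)
theorem F47700 : act 5 n12142 = n11026 := d31_1 D12142 (iv D11026) (iv F42845)
def n12143 : Q := act 3 n11026
theorem D12143 : act 3 n11026 = n12143 := rfl
theorem F47701 : act 0 n12143 = n12102 := d2_1 D12143 F47564 F47455
theorem F47702 : act 1 n12143 = n11184 := d9_1 D12143 (iv D11184) (iv F42846)
theorem F47703 : act 6 n12143 = n12143 := d23_2 F42849 D12143 (iv D12143)
theorem F47704 : act 7 n12143 = n12053 := d24_2 D11026 D12143 F47693 (iv D12140) F42837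
theorem F47705 : act 2 n12143 = n12055 := d37_4 D11017 F42820 (iv F42848) D12143 F47354 F41792 (iv D9113) (iv F44970) (iv D8630) F24257 F17975 F13361 (iv F38213) (iv F12939) F12938 F9982 (iv D1863) F5736 (iv F7638) (iv F10186) (iv D2528) F7601 (iv D1848) F5700 F4278 F3464 F3463 (iv F3392) (iv D768) (iv D563) F1927 (iv F2401) (iv D526) (iv F2260) F2263 F1732 D374 F38249 F2132 F1610 F1259 (iv F1655) (iv F1968) (iv F2562) (iv F3355) (iv F4440) (iv F5895) (iv F7850) F7854 F7853 F7852 (iv F10490) (iv F14062) (iv F18920) F18919 D4947 F19239 (iv F44768) (iv F34640) (iv F42042) F42041 F42040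
theorem F47706 : act 4 n12054 = n12143 := d37_2 D10989 (iv F47351) (iv D12143) F42847 F35238 F26071 (iv D4984) (iv F19353) (iv F26129) F44658 F34812 F34811 (iv F35291) (iv F40750) (iv D10445) (iv D8615) (iv D6279) F17937 (iv F38303) F13662 F10232 F7691 (iv F10134) (iv D2512) (iv F10117) F10116 (iv F13529) (iv D3412) (iv F12957) (iv D3256) F9687 F9686 (iv F7474) F7473 D1819 F7505 (iv F37984) F4878 F3677 F2876 F2184 F2187 (iv F2003) (iv F2628) (iv F3484) F3483 (iv F4594) (iv F6103) D1985 F8137 F8136 (iv F10667) (iv F14292) (iv F19237) (iv F25563) (iv D6661) F18922 (iv F25557) (iv F34601) (iv F41980) F41979 F41978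
def n12144 : Q := act 4 n11027
theorem D12144 : act 4 n11027 = n12144 := rfl
theorem F47707 : act 0 n12144 = n12103 := d3_1 D12144 F47569 F47460
theorem F47708 : act 1 n12144 = n11185 := d10_1 D12144 (iv D11185) (iv F42850)
theorem F47709 : act 2 n12144 = n12079 := d16_1 D12144 (iv F47569) F47568
theorem F47710 : act 3 n12144 = n12054 := d21_1 D12144 F47706 (iv D12143) F42848 D11027
theorem F47711 : act 6 n12144 = n12144 := d27_2 F42851 D12144 (iv D12144)
theorem F47712 : act 7 n12144 = n12144 := d28_2 F42852 D12144 (iv D12144)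
theorem F47713 : act 5 n12110 = n12144 := d22_0 F47710 F47351 D12110
def n12145 : Q := act 7 n11028
theorem D12145 : act 7 n11028 = n12145 := rfl
theorem F47714 : act 1 n12145 = n11053 := d13_1 D12145 (iv D11053) (iv F42853)
theorem F47715 : act 5 n12145 = n12145 := d31_1 D12145 (iv D12145) F42855
theorem F47716 : act 6 n12145 = n11029 := d33_1 D12145 (iv D11029) (iv F42856)
def n12146 : Q := act 3 n11029
theorem D12146 : act 3 n11029 = n12146 := rfl
theorem F47717 : act 1 n12146 = n11054 := d9_1 D12146 (iv D11054) (iv F42857)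
theorem F47718 : act 5 n12146 = n11030 := d22_2 (iv F42858) D12146 (iv D11030)
theorem F47719 : act 7 n12146 = n12146 := d24_2 D11029 D12146 (iv D12146) (iv D11029) F35236
def n12147 : Q := act 2 n11030
theorem D12147 : act 2 n11030 = n12147 := rfl
theorem F47720 : act 0 n12147 = n12106 := d1_1 D12147 F47579 F47472
theorem F47721 : act 3 n12147 = n12055 := d15_2 D11030 D12147 (iv F47705) (iv D12143) F42847
theorem F47722 : act 4 n12147 = n12082 := d16_2 F47580 D12147 (iv F47579)
theorem F47723 : act 6 n12147 = n12147 := d18_2 F42860 D12147 (iv D12147)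
theorem F47724 : act 7 n12147 = n12147 := d19_2 F42861 D12147 (iv D12147)
theorem F47725 : act 1 n12056 = n12147 := d10_3 F47722 F47473 (iv F47358)
def n12148 : Q := act 6 n11036
theorem D12148 : act 6 n11036 = n12148 := rfl
theorem F47726 : act 0 n12148 = n11063 := d5_1 D12148 (iv D11063) (iv F42883)
theorem F47727 : act 2 n12148 = n12148 := d18_1 D12148 (iv D12148) F42884
theorem F47728 : act 4 n12148 = n12148 := d27_1 D12148 (iv D12148) F42885
theorem F47729 : act 7 n12148 = n11044 := d33_2 (iv F42886) D12148 (iv D11044)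
def n12149 : Q := act 8 n11036
theorem D12149 : act 8 n11036 = n12149 := rfl
theorem F47730 : act 0 n12149 = n11064 := d7_1 D12149 (iv D11064) (iv F42883)
theorem F47731 : act 2 n12149 = n12149 := d20_1 D12149 (iv D12149) F42884
theorem F47732 : act 4 n12149 = n12149 := d29_1 D12149 (iv D12149) F42885
theorem F47733 : act 5 n12149 = n11037 := d32_1 D12149 (iv D11037) D11036
def n12150 : Q := act 7 n11050
theorem D12150 : act 7 n11050 = n12150 := rfl
theorem F47734 : act 0 n12150 = n11078 := d6_1 D12150 (iv D11078) (iv F42938)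
theorem F47735 : act 2 n12150 = n11192 := d19_1 D12150 (iv D11192) (iv F42939)
theorem F47736 : act 4 n12150 = n11053 := d28_1 D12150 (iv D11053) (iv F42940)
theorem F47737 : act 6 n12150 = n11051 := d33_1 D12150 (iv D11051) (iv F42941)
def n12151 : Q := act 3 n11051
theorem D12151 : act 3 n11051 = n12151 := rfl
theorem F47738 : act 0 n12151 = n11079 := d2_1 D12151 (iv D11079) (iv F42942)
theorem F47739 : act 5 n12151 = n11052 := d22_2 (iv F42945) D12151 (iv D11052)
def n12152 : Q := act 2 n11052
theorem D12152 : act 2 n11052 = n12152 := rfl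
theorem F47740 : act 0 n12152 = n11080 := d1_1 D12152 (iv D11080) (iv F42946)
theorem F47741 : act 3 n12152 = n11194 := d15_2 D11052 D12152 (iv D11194) (iv D9463) (iv F35310)
def n12153 : Q := act 1 n11055
theorem D12153 : act 1 n11055 = n12153 := rfl
theorem F47742 : act 0 n12153 = n11651 := d0_1 D12153 F45855 F39970 F44581 (iv F42954)
theorem F47743 : act 2 n12153 = n12056 := d8_2 D11055 D12153 F47725 (iv D12147) F42859
theorem F47744 : act 3 n12153 = n11198 := d9_2 (iv F42955) D12153 (iv D11198)
theorem F47745 : act 4 n12153 = n12090 := d10_2 F47593 D12153 (iv F47591)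
theorem F47746 : act 5 n12153 = n11647 := d11_2 F45183 D12153 F45836
theorem F47747 : act 6 n12153 = n12153 := d12_2 F42956 D12153 (iv D12153)
theorem F47748 : act 7 n12153 = n12153 := d13_2 F42957 D12153 (iv D12153)
def n12154 : Q := act 8 n11063
theorem D12154 : act 8 n11063 = n12154 := rfl
theorem F47749 : act 2 n12154 = n12154 := d20_1 D12154 (iv D12154) F42978
theorem F47750 : act 4 n12154 = n12154 := d29_1 D12154 (iv D12154) F42979
theorem F47751 : act 6 n12154 = n11064 := d34_1 D12154 (iv D11064) D11063
def n12155 : Q := act 3 n11086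
theorem D12155 : act 3 n11086 = n12155 := rfl
theorem F47752 : act 0 n12155 = n12155 := d2_1 D12155 (iv D12155) F43042
theorem F47753 : act 1 n12155 = n11427 := d9_1 D12155 (iv F45949) F45948
theorem F47754 : act 2 n12155 = n11361 := d15_1 D12155 (iv D11361) (iv F39823) F45100 (iv F43043)
theorem F47755 : act 5 n12155 = n11363 := d22_2 F45809 D12155 (iv F45808)
theorem F47756 : act 6 n12155 = n11087 := d23_2 (iv F43044) D12155 (iv D11087)
theorem F47757 : act 7 n12155 = n12155 := d24_2 D11086 D12155 (iv D12155) (iv D11086) F35396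
def n12156 : Q := act 8 n11086
theorem D12156 : act 8 n11086 = n12156 := rfl
theorem F47758 : act 0 n12156 = n12156 := d7_1 D12156 (iv D12156) F43042
theorem F47759 : act 2 n12156 = n11092 := d20_1 D12156 (iv D11092) (iv F43043)
theorem F47760 : act 6 n12156 = n11088 := d34_1 D12156 (iv D11088) (iv F43044)
theorem F47761 : act 7 n12156 = n11153 := d35_1 D12156 (iv D11153) (iv D9426) (iv F35397) D11086
def n12157 : Q := act 2 n11087
theorem D12157 : act 2 n11087 = n12157 := rfl
theorem F47762 : act 0 n12157 = n12157 := d1_1 D12157 (iv D12157) F43045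
theorem F47763 : act 1 n12157 = n11372 := d8_1 D12157 F44117 (iv F44336) (iv F47525) F47524
theorem F47764 : act 3 n12157 = n11093 := d15_2 D11087 D12157 (iv D11093) (iv D9366) (iv F35399)
theorem F47765 : act 5 n12157 = n12157 := d17_2 F43046 D12157 (iv D12157)
theorem F47766 : act 6 n12157 = n11361 := d18_2 F47756 D12157 (iv F47754)
theorem F47767 : act 7 n12157 = n12157 := d19_2 F43047 D12157 (iv D12157)
def n12158 : Q := act 4 n11087
theorem D12158 : act 4 n11087 = n12158 := rfl
theorem F47768 : act 0 n12158 = n12158 := d3_1 D12158 (iv D12158) F43045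
theorem F47769 : act 7 n12158 = n12158 := d28_2 F43047 D12158 (iv D12158)
def n12159 : Q := act 8 n11087
theorem D12159 : act 8 n11087 = n12159 := rfl
theorem F47770 : act 0 n12159 = n12159 := d7_1 D12159 (iv D12159) F43045
theorem F47771 : act 3 n12159 = n11088 := d25_1 D12159 (iv D11088) D11087
theorem F47772 : act 5 n12159 = n12159 := d32_1 D12159 (iv D12159) F43046
def n12160 : Q := act 8 n11093
theorem D12160 : act 8 n11093 = n12160 := rfl
theorem F47773 : act 0 n12160 = n12160 := d7_1 D12160 (iv D12160) F43069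
theorem F47774 : act 1 n12160 = n11373 := d14_1 D12160 (iv D11373) (iv F45136)
theorem F47775 : act 2 n12160 = n11095 := d20_1 D12160 (iv D11095) D11093
theorem F47776 : act 4 n12160 = n12015 := d29_1 D12160 F47186 (iv F45137)
theorem F47777 : act 5 n12160 = n12160 := d32_1 D12160 (iv D12160) F43070
theorem F47778 : act 6 n12160 = n11362 := d34_1 D12160 (iv D11362) (iv F45138)
theorem F47779 : act 7 n12160 = n12160 := d35_1 D12160 (iv D12160) F43071 F35431 (iv F43071)
def n12161 : Q := act 8 n11094
theorem D12161 : act 8 n11094 = n12161 := rfl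
theorem F47780 : act 0 n12161 = n12161 := d7_1 D12161 (iv D12161) F43072
theorem F47781 : act 1 n12161 = n11116 := d14_1 D12161 (iv D11116) (iv F43073)
theorem F47782 : act 2 n12161 = n12015 := d20_1 D12161 F47186 (iv F45168)
theorem F47783 : act 4 n12161 = n11095 := d29_1 D12161 (iv D11095) D11094
theorem F47784 : act 5 n12161 = n12016 := d32_1 D12161 F47191 F45167
theorem F47785 : act 7 n12161 = n12161 := d35_1 D12161 (iv D12161) F43074 F35435 (iv F43074)
def n12162 : Q := act 8 n11115
theorem D12162 : act 8 n11115 = n12162 := rfl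
theorem F47786 : act 0 n12162 = n11139 := d7_1 D12162 (iv D11139) (iv F43166)
theorem F47787 : act 1 n12162 = n12016 := d14_1 D12162 F47191 (iv F45165)
theorem F47788 : act 2 n12162 = n12034 := d20_1 D12162 F47268 F45166
theorem F47789 : act 3 n12162 = n11158 := d25_1 D12162 (iv D11158) (iv F43167)
theorem F47790 : act 4 n12162 = n12162 := d29_1 D12162 (iv D12162) F43168
theorem F47791 : act 5 n12162 = n11116 := d32_1 D12162 (iv D11116) D11115
theorem F47792 : act 6 n12162 = n12162 := d34_1 D12162 (iv D12162) F43169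
theorem F47793 : act 7 n12162 = n12162 := d35_1 D12162 (iv D12162) F43170 F35514 (iv F43170)
def n12163 : Q := act 8 n11151
theorem D12163 : act 8 n11151 = n12163 := rfl
theorem F47794 : act 0 n12163 = n12163 := d7_1 D12163 (iv D12163) F43326
theorem F47795 : act 2 n12163 = n11157 := d20_1 D12163 (iv D11157) (iv F43327)
theorem F47796 : act 3 n12163 = n12013 := d25_1 D12163 F47176 F45162
theorem F47797 : act 4 n12163 = n12012 := d29_1 D12163 F47172 (iv F45161)
theorem F47798 : act 5 n12163 = n11153 := d32_1 D12163 (iv D11153) (iv F43328)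
theorem F47799 : act 6 n12163 = n12163 := d34_1 D12163 (iv D12163) F43329
def n12164 : Q := act 4 n11152
theorem D12164 : act 4 n11152 = n12164 := rfl
theorem F47800 : act 0 n12164 = n12164 := d3_1 D12164 (iv D12164) F43330
theorem F47801 : act 2 n12164 = n12164 := d16_1 D12164 (iv D12164) F43331
theorem F47802 : act 6 n12164 = n11154 := d27_2 (iv F43332) D12164 (iv D11154)
theorem F47803 : act 7 n12164 = n12164 := d28_2 F43333 D12164 (iv D12164)
def n12165 : Q := act 8 n11152
theorem D12165 : act 8 n11152 = n12165 := rfl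
theorem F47804 : act 0 n12165 = n12165 := d7_1 D12165 (iv D12165) F43330
theorem F47805 : act 2 n12165 = n12165 := d20_1 D12165 (iv D12165) F43331
theorem F47806 : act 3 n12165 = n11153 := d25_1 D12165 (iv D11153) D11152
theorem F47807 : act 5 n12165 = n12013 := d32_1 D12165 F47176 (iv F45163)
theorem F47808 : act 6 n12165 = n11155 := d34_1 D12165 (iv D11155) (iv F43332)
def n12166 : Q := act 5 n11154
theorem D12166 : act 5 n11154 = n12166 := rfl
theorem F47809 : act 0 n12166 = n12166 := d4_1 D12166 (iv D12166) F43337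
theorem F47810 : act 2 n12166 = n12166 := d17_1 D12166 (iv D12166) F43338
theorem F47811 : act 4 n12166 = n12166 := d26_1 D12166 (iv D12166) (iv D11154) F35652 D11154
theorem F47812 : act 7 n12166 = n12166 := d31_2 F43339 D12166 (iv D12166)
def n12167 : Q := act 8 n11154
theorem D12167 : act 8 n11154 = n12167 := rfl
theorem F47813 : act 0 n12167 = n12167 := d7_1 D12167 (iv D12167) F43337
theorem F47814 : act 2 n12167 = n12167 := d20_1 D12167 (iv D12167) F43338
theorem F47815 : act 4 n12167 = n11155 := d29_1 D12167 (iv D11155) D11154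
def n12168 : Q := act 7 n11155
theorem D12168 : act 7 n11155 = n12168 := rfl
theorem F47816 : act 0 n12168 = n12168 := d6_1 D12168 (iv D12168) F43340
theorem F47817 : act 2 n12168 = n12168 := d19_1 D12168 (iv D12168) F43341
theorem F47818 : act 5 n12168 = n12168 := d31_1 D12168 (iv D12168) F43343
theorem F47819 : act 8 n12168 = n12168 := d35_2 D11155 D12168 (iv D12168) (iv D11155) F35653
def n12169 : Q := act 8 n11156
theorem D12169 : act 8 n11156 = n12169 := rfl
theorem F47820 : act 0 n12169 = n12169 := d7_1 D12169 (iv D12169) F43344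
theorem F47821 : act 1 n12169 = n11158 := d14_1 D12169 (iv D11158) (iv F43345)
theorem F47822 : act 2 n12169 = n12012 := d20_1 D12169 F47172 (iv F45160)
theorem F47823 : act 3 n12169 = n12016 := d25_1 D12169 F47191 F45164
theorem F47824 : act 4 n12169 = n11157 := d29_1 D12169 (iv D11157) (iv F43346)
theorem F47825 : act 6 n12169 = n12169 := d34_1 D12169 (iv D12169) F43347
def n12170 : Q := act 5 n11159
theorem D12170 : act 5 n11159 = n12170 := rfl
theorem F47826 : act 0 n12170 = n12170 := d4_1 D12170 (iv D12170) F43356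
theorem F47827 : act 2 n12170 = n12170 := d17_1 D12170 (iv D12170) F43357
theorem F47828 : act 3 n12170 = n11160 := d22_1 D12170 (iv D11160) D11159
def n12171 : Q := act 7 n11159
theorem D12171 : act 7 n11159 = n12171 := rfl
theorem F47829 : act 0 n12171 = n12171 := d6_1 D12171 (iv D12171) F43356
theorem F47830 : act 2 n12171 = n12171 := d19_1 D12171 (iv D12171) F43357
theorem F47831 : act 4 n12171 = n12171 := d28_1 D12171 (iv D12171) F43358
theorem F47832 : act 6 n12171 = n11167 := d33_1 D12171 (iv D11167) (iv F43359)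
def n12172 : Q := act 8 n11159
theorem D12172 : act 8 n11159 = n12172 := rfl
theorem F47833 : act 0 n12172 = n12172 := d7_1 D12172 (iv D12172) F43356
theorem F47834 : act 2 n12172 = n12172 := d20_1 D12172 (iv D12172) F43357
theorem F47835 : act 3 n12172 = n11161 := d25_1 D12172 (iv D11161) D11159
theorem F47836 : act 4 n12172 = n12172 := d29_1 D12172 (iv D12172) F43358
theorem F47837 : act 6 n12172 = n11168 := d34_1 D12172 (iv D11168) (iv F43359)
def n12173 : Q := act 6 n11160
theorem D12173 : act 6 n11160 = n12173 := rfl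
theorem F47838 : act 0 n12173 = n12173 := d5_1 D12173 (iv D12173) F43360
theorem F47839 : act 2 n12173 = n11163 := d18_1 D12173 (iv D11163) (iv F43361)
theorem F47840 : act 4 n12173 = n12173 := d27_1 D12173 (iv D12173) F43362
theorem F47841 : act 5 n12173 = n11169 := d30_1 D12173 (iv D11169) (iv D9442) (iv F35686) D11160
def n12174 : Q := act 8 n11160
theorem D12174 : act 8 n11160 = n12174 := rfl
theorem F47842 : act 0 n12174 = n12174 := d7_1 D12174 (iv D12174) F43360
theorem F47843 : act 2 n12174 = n11164 := d20_1 D12174 (iv D11164) (iv F43361)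
theorem F47844 : act 4 n12174 = n12174 := d29_1 D12174 (iv D12174) F43362
theorem F47845 : act 5 n12174 = n11161 := d32_1 D12174 (iv D11161) D11160
def n12175 : Q := act 7 n11161
theorem D12175 : act 7 n11161 = n12175 := rfl
theorem F47846 : act 0 n12175 = n12175 := d6_1 D12175 (iv D12175) F43363
theorem F47847 : act 2 n12175 = n11165 := d19_1 D12175 (iv D11165) (iv F43364)
theorem F47848 : act 4 n12175 = n11162 := d28_1 D12175 (iv D11162) (iv F43365)
theorem F47849 : act 6 n12175 = n11171 := d33_1 D12175 (iv D11171) (iv F43366)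
def n12176 : Q := act 3 n11162
theorem D12176 : act 3 n11162 = n12176 := rfl
theorem F47850 : act 0 n12176 = n12176 := d2_1 D12176 (iv D12176) F43367
theorem F47851 : act 2 n12176 = n12176 := d15_1 D12176 (iv D12176) F43368 F35703 (iv F43368)
theorem F47852 : act 5 n12176 = n12176 := d22_2 F43369 D12176 (iv D12176)
theorem F47853 : act 6 n12176 = n11172 := d23_2 (iv F43370) D12176 (iv D11172)
theorem F47854 : act 7 n12176 = n12176 := d24_2 D11162 D12176 (iv D12176) (iv D11162) F35689
def n12177 : Q := act 8 n11163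
theorem D12177 : act 8 n11163 = n12177 := rfl
theorem F47855 : act 0 n12177 = n12177 := d7_1 D12177 (iv D12177) F43371
theorem F47856 : act 1 n12177 = n11189 := d14_1 D12177 (iv D11189) (iv F43372)
theorem F47857 : act 3 n12177 = n12177 := d25_1 D12177 (iv D12177) F43373
theorem F47858 : act 4 n12177 = n12177 := d29_1 D12177 (iv D12177) F43374
theorem F47859 : act 5 n12177 = n11173 := d32_1 D12177 (iv D11173) (iv F43375)
theorem F47860 : act 6 n12177 = n11164 := d34_1 D12177 (iv D11164) D11163
def n12178 : Q := act 7 n11164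
theorem D12178 : act 7 n11164 = n12178 := rfl
theorem F47861 : act 0 n12178 = n12178 := d6_1 D12178 (iv D12178) F43376
theorem F47862 : act 1 n12178 = n11190 := d13_1 D12178 (iv D11190) (iv F43377)
theorem F47863 : act 4 n12178 = n12178 := d28_1 D12178 (iv D12178) F43379
theorem F47864 : act 5 n12178 = n11165 := d31_1 D12178 (iv D11165) (iv F43380)
def n12179 : Q := act 3 n11165
theorem D12179 : act 3 n11165 = n12179 := rfl
theorem F47865 : act 0 n12179 = n12179 := d2_1 D12179 (iv D12179) F43381
theorem F47866 : act 1 n12179 = n11191 := d9_1 D12179 (iv D11191) (iv F43382)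
theorem F47867 : act 4 n12179 = n12179 := d21_2 (iv F43383) D12179 (iv D12179) F43383 F35703
theorem F47868 : act 6 n12179 = n11175 := d23_2 (iv F43384) D12179 (iv D11175)
theorem F47869 : act 7 n12179 = n12179 := d24_2 D11165 D12179 (iv D12179) (iv D11165) F35698
def n12180 : Q := act 4 n11166
theorem D12180 : act 4 n11166 = n12180 := rfl
theorem F47870 : act 0 n12180 = n12180 := d3_1 D12180 (iv D12180) F43385
theorem F47871 : act 2 n12180 = n12180 := d16_1 D12180 (iv D12180) F43386
theorem F47872 : act 3 n12180 = n11176 := d21_1 D12180 (iv D11176) F35732 (iv F35711) (iv F43387)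
theorem F47873 : act 5 n12180 = n12180 := d26_2 D11166 D12180 (iv D12180) (iv D11166) F35708
def n12181 : Q := act 6 n11166
theorem D12181 : act 6 n11166 = n12181 := rfl
theorem F47874 : act 0 n12181 = n12181 := d5_1 D12181 (iv D12181) F43385
theorem F47875 : act 2 n12181 = n12181 := d18_1 D12181 (iv D12181) F43386
theorem F47876 : act 3 n12181 = n11169 := d23_1 D12181 (iv D11169) (iv F43387)
def n12182 : Q := act 7 n11166
theorem D12182 : act 7 n11166 = n12182 := rfl
theorem F47877 : act 0 n12182 = n12182 := d6_1 D12182 (iv D12182) F43385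
theorem F47878 : act 2 n12182 = n12182 := d19_1 D12182 (iv D12182) F43386
theorem F47879 : act 5 n12182 = n11167 := d31_1 D12182 (iv D11167) D11166
def n12183 : Q := act 8 n11166
theorem D12183 : act 8 n11166 = n12183 := rfl
theorem F47880 : act 0 n12183 = n12183 := d7_1 D12183 (iv D12183) F43385
theorem F47881 : act 2 n12183 = n12183 := d20_1 D12183 (iv D12183) F43386
theorem F47882 : act 3 n12183 = n11170 := d25_1 D12183 (iv D11170) (iv F43387)
theorem F47883 : act 5 n12183 = n11168 := d32_1 D12183 (iv D11168) D11166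
def n12184 : Q := act 8 n11167
theorem D12184 : act 8 n11167 = n12184 := rfl
theorem F47884 : act 0 n12184 = n12184 := d7_1 D12184 (iv D12184) F43388
theorem F47885 : act 2 n12184 = n12184 := d20_1 D12184 (iv D12184) F43389
theorem F47886 : act 4 n12184 = n12184 := d29_1 D12184 (iv D12184) F43390
def n12185 : Q := act 7 n11168
theorem D12185 : act 7 n11168 = n12185 := rfl
theorem F47887 : act 0 n12185 = n12185 := d6_1 D12185 (iv D12185) F43391
theorem F47888 : act 2 n12185 = n12185 := d19_1 D12185 (iv D12185) F43392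
theorem F47889 : act 4 n12185 = n12185 := d28_1 D12185 (iv D12185) F43394
def n12186 : Q := act 8 n11169
theorem D12186 : act 8 n11169 = n12186 := rfl
theorem F47890 : act 0 n12186 = n12186 := d7_1 D12186 (iv D12186) F43395
theorem F47891 : act 2 n12186 = n11173 := d20_1 D12186 (iv D11173) (iv F43396)
theorem F47892 : act 4 n12186 = n11182 := d29_1 D12186 (iv D11182) (iv F43397)
theorem F47893 : act 6 n12186 = n11170 := d34_1 D12186 (iv D11170) D11169
def n12187 : Q := act 7 n11170
theorem D12187 : act 7 n11170 = n12187 := rfl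
theorem F47894 : act 0 n12187 = n12187 := d6_1 D12187 (iv D12187) F43398
theorem F47895 : act 2 n12187 = n11174 := d19_1 D12187 (iv D11174) (iv F43399)
theorem F47896 : act 4 n12187 = n11183 := d28_1 D12187 (iv D11183) (iv F43400)
theorem F47897 : act 5 n12187 = n11171 := d31_1 D12187 (iv D11171) (iv F43401)
def n12188 : Q := act 3 n11171
theorem D12188 : act 3 n11171 = n12188 := rfl
theorem F47898 : act 0 n12188 = n12188 := d2_1 D12188 (iv D12188) F43402
def n12189 : Q := act 4 n11172
theorem D12189 : act 4 n11172 = n12189 := rfl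
theorem F47899 : act 0 n12189 = n12189 := d3_1 D12189 (iv D12189) F43405
theorem F47900 : act 2 n12189 = n12189 := d16_1 D12189 (iv D12189) F43406
theorem F47901 : act 5 n12189 = n12164 := d26_2 (iv F43407) D12189 (iv D12164) F45163 (iv D11185)
theorem F47902 : act 7 n12189 = n12189 := d28_2 F43408 D12189 (iv D12189)
def n12190 : Q := act 7 n11173
theorem D12190 : act 7 n11173 = n12190 := rfl
theorem F47903 : act 0 n12190 = n12190 := d6_1 D12190 (iv D12190) F43409
theorem F47904 : act 1 n12190 = n11192 := d13_1 D12190 (iv D11192) (iv F43410)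
theorem F47905 : act 4 n12190 = n11186 := d28_1 D12190 (iv D11186) (iv F43412)
theorem F47906 : act 6 n12190 = n11174 := d33_1 D12190 (iv D11174) (iv F43413)
def n12191 : Q := act 3 n11174
theorem D12191 : act 3 n11174 = n12191 := rfl
theorem F47907 : act 0 n12191 = n12191 := d2_1 D12191 (iv D12191) F43414
theorem F47908 : act 1 n12191 = n11193 := d9_1 D12191 (iv D11193) (iv F43415)
theorem F47909 : act 4 n12191 = n12157 := d21_2 (iv F43416) D12191 F47764 F45137 (iv D11187)
theorem F47910 : act 5 n12191 = n11175 := d22_2 (iv F43417) D12191 (iv D11175)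
theorem F47911 : act 7 n12191 = n12191 := d24_2 D11174 D12191 (iv D12191) (iv D11174) F35724
theorem F47912 : act 2 n12158 = n12191 := d16_3 F47909 (iv D12157) D12158
def n12192 : Q := act 2 n11175
theorem D12192 : act 2 n11175 = n12192 := rfl
theorem F47913 : act 0 n12192 = n12192 := d1_1 D12192 (iv D12192) F43418
theorem F47914 : act 4 n12192 = n12192 := d16_2 F43420 D12192 (iv D12192)
theorem F47915 : act 5 n12192 = n12158 := d17_2 F47910 D12192 F47912
theorem F47916 : act 7 n12192 = n12192 := d19_2 F43421 D12192 (iv D12192)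
def n12193 : Q := act 6 n11176
theorem D12193 : act 6 n11176 = n12193 := rfl
theorem F47918 : act 2 n12193 = n11211 := d18_1 D12193 (iv D11211) (iv F43423)
theorem F47919 : act 4 n12193 = n11177 := d27_1 D12193 (iv D11177) D11176
def n12194 : Q := act 7 n11176
theorem D12194 : act 7 n11176 = n12194 := rfl
theorem F47922 : act 4 n12194 = n11178 := d28_1 D12194 (iv D11178) D11176
def n12195 : Q := act 8 n11176
theorem D12195 : act 8 n11176 = n12195 := rfl
theorem F47924 : act 0 n12195 = n12195 := d7_1 D12195 (iv D12195) F43422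
theorem F47925 : act 2 n12195 = n11213 := d20_1 D12195 (iv D11213) (iv F43423)
theorem F47926 : act 4 n12195 = n11179 := d29_1 D12195 (iv D11179) D11176
theorem F47927 : act 5 n12195 = n12195 := d32_1 D12195 (iv D12195) F43424
def n12196 : Q := act 7 n11177
theorem D12196 : act 7 n11177 = n12196 := rfl
theorem F47931 : act 6 n12196 = n11178 := d33_1 D12196 (iv D11178) D11177
def n12197 : Q := act 8 n11177
theorem D12197 : act 8 n11177 = n12197 := rfl
theorem F47932 : act 0 n12197 = n12197 := d7_1 D12197 (iv D12197) F43425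
theorem F47933 : act 2 n12197 = n11215 := d20_1 D12197 (iv D11215) (iv F43426)
theorem F47934 : act 3 n12197 = n11182 := d25_1 D12197 (iv D11182) (iv F43427)
theorem F47935 : act 5 n12197 = n12197 := d32_1 D12197 (iv D12197) F43428
theorem F47936 : act 6 n12197 = n11179 := d34_1 D12197 (iv D11179) D11177
def n12198 : Q := act 8 n11178
theorem D12198 : act 8 n11178 = n12198 := rfl
theorem F47937 : act 0 n12198 = n12198 := d7_1 D12198 (iv D12198) F43429
theorem F47938 : act 2 n12198 = n11216 := d20_1 D12198 (iv D11216) (iv F43430)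
theorem F47939 : act 5 n12198 = n11180 := d32_1 D12198 (iv D11180) (iv F43431)
def n12199 : Q := act 7 n11179
theorem D12199 : act 7 n11179 = n12199 := rfl
theorem F47940 : act 0 n12199 = n12199 := d6_1 D12199 (iv D12199) F43432
theorem F47941 : act 2 n12199 = n11217 := d19_1 D12199 (iv D11217) (iv F43433)
theorem F47942 : act 5 n12199 = n11181 := d31_1 D12199 (iv D11181) (iv F43435)
theorem F47943 : act 3 n11964 = n12199 := d22_3 F47942 (iv F45156) (iv F46982)
def n12200 : Q := act 7 n11180
theorem D12200 : act 7 n11180 = n12200 := rfl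
theorem F47944 : act 0 n12200 = n12200 := d6_1 D12200 (iv D12200) F43436
theorem F47945 : act 1 n12200 = n12051 := d13_1 D12200 F47686 F47682
theorem F47946 : act 2 n12200 = n11218 := d19_1 D12200 (iv D11218) (iv F43437)
theorem F47947 : act 4 n12200 = n12200 := d28_1 D12200 (iv D12200) F43438
theorem F47948 : act 6 n12200 = n12200 := d33_1 D12200 (iv D12200) F43439
theorem F47949 : act 8 n12200 = n11181 := d35_2 D11180 D12200 (iv D11181) (iv D9450) D9449
theorem F47950 : act 4 n12198 = n12197 := d37_2 (iv D12200) (iv F47939) F47934 F43445 F35757 F26436 D6914 F26468 (iv F35813) (iv F44604) F39083 F31430 (iv F31548) F31550 D10096 F39475 F31557 F24230 (iv F24787) F24786 F24789 (iv D5039) (iv D3685) (iv D2702) F8115 F8114 F6099 (iv D1070) D1069 F4588 (iv F5712) F5711 F4286 (iv F3964) D1245 F5271 F3970 (iv F5193) (iv F6861) (iv F9128) (iv F12171) (iv D3046) D3045 D4148 F16314 (iv F21933) (iv F29572) F29571 D7768 (iv F32500) F32499 D8531 D10357 F40471 (iv F45947) F45952 F41712 D10696 D12051 F47338 (iv F47945) F47944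
theorem F47951 : act 4 n11215 = n11216 := d16_2 F47950 F47933 (iv F47938)
theorem F47952 : act 6 n12195 = n12198 := d27_0 F47950 F47936 (iv F47926)
theorem E6546 : n12193 = n11178 := (c29_4 D12198 F47950 (iv D12197) (iv F47919))
theorem E6547 : n11211 = n9479 := (((F43430).symm.trans (sb E6546 F47918))).symm
theorem E6548 : n12194 = n11177 := (((iv F47922)).symm.trans (sb E6546 F47919))
theorem E6549 : n12196 = n11176 := (((iv F47931)).symm.trans (sb E6546 (iv D12193)))
theorem E6550 : n11212 = n9478 := (((iv F43547)).symm.trans (sb E6547 F43544))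
theorem E6551 : n11214 = n9477 := (((iv F43558)).symm.trans (sb E6547 (iv D11211)))
theorem F47953 : act 4 n11177 = n11178 := (sb E6548 F47922)
theorem F47954 : act 6 n11176 = n11178 := (sb E6549 F47931)
theorem F47955 : act 7 n11176 = n11177 := (sb E6549 (iv D12196))
theorem F47956 : act 4 n9478 = n9479 := (sb E6550 F43547)
theorem F47957 : act 6 n9477 = n9479 := (sb E6551 F43558)
theorem F47958 : act 7 n9477 = n9478 := (sb E6551 (iv D11214))
theorem F47959 : act 6 n11216 = n11213 := d34_3 (iv D11213) F47957 D11216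
theorem F47960 : act 7 n12136 = n12135 := d13_2 F47955 (iv F47670) F47667
theorem F47961 : act 7 n12005 = n12180 := d24_4 F47955 F43427 (iv F41065) (iv F47145) F47872
theorem F47962 : act 4 n12182 = n12005 := d28_3 F47961 (iv D12180) D12182
theorem F47963 : act 6 n12180 = n12006 := d33_1 F47961 (iv D12006) D12005
theorem F47964 : act 4 n12006 = n12181 := d27_1 F47963 (iv D12181) D12180
theorem F47965 : act 7 n12181 = n12004 := d28_2 D12006 F47964 (iv D12004)
theorem F47966 : act 6 n12004 = n12182 := d33_1 F47965 (iv D12182) D12181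
theorem F47967 : act 4 n12137 = n12136 := d28_3 F47960 (iv D12135) D12137
theorem F47968 : act 6 n12135 = n12137 := d33_1 F47960 (iv D12137) D12136
theorem F47969 : act 3 n12050 = n12200 := d37_59 (iv D11218) (iv F43567) (iv F47951) F43561 F35860 F26514 F19676 D5069 F19693 F19692 F44610 F23128 F17188 (iv F13084) D4495 F17611 F17610 F13096 F9829 (iv F9913) (iv F13247) (iv D3332) (iv D2440) F7390 (iv D1655) F5181 F5180 F4201 F3188 D733 F3250 (iv F3272) F3271 F3270 F38287 (iv F3239) F3238 F2790 (iv F3683) F3682 (iv F4877) (iv F6480) (iv F37997) D1666 D2267 (iv F12225) (iv F16381) (iv F22026) (iv F29571) D9876 (iv F40012) F40011 D10228 D11669 F45948 F43042 (iv D11086) (iv F45092) D12050 F47946 F43572 F43571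
def n12201 : Q := act 7 n11182
theorem D12201 : act 7 n11182 = n12201 := rfl
theorem F47970 : act 0 n12201 = n12201 := d6_1 D12201 (iv D12201) F43444
theorem F47971 : act 2 n12201 = n11186 := d19_1 D12201 (iv D11186) (iv F43445)
theorem F47972 : act 5 n12201 = n12201 := d31_1 D12201 (iv D12201) F43446
theorem F47973 : act 6 n12201 = n11183 := d33_1 D12201 (iv D11183) (iv F43447)
def n12202 : Q := act 3 n11183
theorem D12202 : act 3 n11183 = n12202 := rfl
theorem F47974 : act 0 n12202 = n12202 := d2_1 D12202 (iv D12202) F43448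
theorem F47975 : act 2 n12202 = n11962 := d15_1 D12202 F46973 F45168 (iv D11187) (iv F43449)
theorem F47976 : act 5 n12202 = n11184 := d22_2 (iv F43450) D12202 (iv D11184)
theorem F47977 : act 7 n12202 = n11964 := d24_2 D11183 D12202 F47943 (iv D12199) F43434
theorem F47978 : act 4 n11961 = n12202 := d37_2 D10500 (iv F46969) (iv D12202) F43449 F35762 F26440 (iv D5057) F14588 F10906 F8160 F6130 F4602 F3492 F3496 (iv F4614) F4613 (iv F6002) (iv F7888) (iv F10527) (iv F14087) (iv F44844) (iv F44896) F13993 (iv F44956) (iv F14505) (iv F19523) F19522 F19527 (iv D5025) F14497 (iv F13514) (iv F37865) F13517 F10092 (iv D1834) (iv D1343) (iv F5464) F5463 (iv D1291) F4111 (iv F3208) D979 (iv F5647) (iv F7517) (iv F38205) (iv F13210) (iv F17772) (iv F23906) D8488 F32367 F23910 F17738 (iv F23888) (iv F32298) F32297 (iv D6267) F17919 (iv F24175) (iv F32725) (iv F40629) F40628 F33294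
def n12203 : Q := act 7 n11189
theorem D12203 : act 7 n11189 = n12203 := rfl
theorem F47979 : act 0 n12203 = n11199 := d6_1 D12203 (iv D11199) (iv F43469)
theorem F47980 : act 4 n12203 = n12203 := d28_1 D12203 (iv D12203) F43471
theorem F47981 : act 5 n12203 = n11192 := d31_1 D12203 (iv D11192) (iv F43472)
theorem F47982 : act 6 n12203 = n11190 := d33_1 D12203 (iv D11190) (iv F43473)
def n12204 : Q := act 3 n11190
theorem D12204 : act 3 n11190 = n12204 := rfl
theorem F47983 : act 0 n12204 = n11200 := d2_1 D12204 (iv D11200) (iv F43474)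
theorem F47984 : act 5 n12204 = n11191 := d22_2 (iv F43476) D12204 (iv D11191)
theorem F47985 : act 7 n12204 = n12204 := d24_2 D11190 D12204 (iv D12204) (iv D11190) F35774
def n12205 : Q := act 2 n11191
theorem D12205 : act 2 n11191 = n12205 := rfl
theorem F47986 : act 0 n12205 = n11201 := d1_1 D12205 (iv D11201) (iv F43477)
theorem F47987 : act 4 n12205 = n12205 := d16_2 F43478 D12205 (iv D12205)
theorem F47988 : act 6 n12205 = n11194 := d18_2 (iv F43479) D12205 (iv D11194)
theorem F47989 : act 7 n12205 = n12205 := d19_2 F43480 D12205 (iv D12205)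
def n12206 : Q := act 1 n11194
theorem D12206 : act 1 n11194 = n12206 := rfl
theorem F47990 : act 4 n12206 = n12206 := d10_2 F43488 D12206 (iv D12206)
theorem F47991 : act 7 n12206 = n12206 := d13_2 F43489 D12206 (iv D12206)
def n12207 : Q := act 7 n11215
theorem D12207 : act 7 n11215 = n12207 := rfl
theorem F47992 : act 0 n12207 = n12207 := d6_1 D12207 (iv D12207) F43559
theorem F47993 : act 1 n12207 = n12207 := d13_1 D12207 (iv D12207) F43560
theorem F47994 : act 3 n12207 = n11620 := d24_1 D12207 (iv F45693) F45169 (iv D11220) (iv F43561)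
theorem F47995 : act 5 n12207 = n12207 := d31_1 D12207 (iv D12207) F43562
theorem F47996 : act 6 n12207 = n11217 := d33_1 D12207 (iv D11217) (iv F43563)
theorem F47997 : act 8 n12207 = n11619 := d35_2 D11215 D12207 (iv F45686) (iv D11213) F47958
def n12208 : Q := act 7 n11216
theorem D12208 : act 7 n11216 = n12208 := rfl
theorem F47998 : act 0 n12208 = n12208 := d6_1 D12208 (iv D12208) F43564
theorem F47999 : act 1 n12208 = n12208 := d13_1 D12208 (iv D12208) F43565
theorem F48000 : act 4 n12208 = n12207 := d28_1 D12208 (iv D12207) F47951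
theorem F48001 : act 5 n12208 = n11218 := d31_1 D12208 (iv D11218) (iv F43567)
theorem F48002 : act 6 n12208 = n11619 := d33_1 D12208 (iv F45686) (iv F47959)
theorem F48003 : act 8 n12208 = n11217 := d35_2 D11216 D12208 (iv D11217) (iv D9480) D9479
theorem F48004 : act 3 n11618 = n12208 := d25_3 F48003 (iv F45157) (iv F45681)
def n12209 : Q := act 7 n11243
theorem D12209 : act 7 n11243 = n12209 := rfl
theorem F48005 : act 0 n12209 = n11284 := d6_1 D12209 (iv D11284) (iv F43686)
theorem F48006 : act 1 n12209 = n12209 := d13_1 D12209 (iv D12209) F43687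
theorem F48007 : act 2 n12209 = n11244 := d19_1 D12209 (iv D11244) D11243
theorem F48008 : act 4 n12209 = n12209 := d28_1 D12209 (iv D12209) F43689
def n12210 : Q := act 3 n11244
theorem D12210 : act 3 n11244 = n12210 := rfl
theorem F48009 : act 0 n12210 = n11285 := d2_1 D12210 (iv D11285) (iv F43690)
theorem F48010 : act 1 n12210 = n11255 := d9_1 D12210 (iv D11255) (iv F43691)
theorem F48011 : act 7 n12210 = n11245 := d24_2 D11244 D12210 (iv D11245) (iv D9876) D9875
def n12211 : Q := act 8 n11244
theorem D12211 : act 8 n11244 = n12211 := rfl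
theorem F48012 : act 0 n12211 = n11286 := d7_1 D12211 (iv D11286) (iv F43690)
theorem F48013 : act 1 n12211 = n11256 := d14_1 D12211 (iv D11256) (iv F43691)
theorem F48014 : act 4 n12211 = n12211 := d29_1 D12211 (iv D12211) F43692
def n12212 : Q := act 2 n11245
theorem D12212 : act 2 n11245 = n12212 := rfl
theorem F48015 : act 0 n12212 = n11287 := d1_1 D12212 (iv D11287) (iv F43693)
theorem F48016 : act 3 n12212 = n11717 := d15_2 D11245 D12212 (iv D11717) (iv D10279) (iv F38692)
def n12213 : Q := act 4 n11245
theorem D12213 : act 4 n11245 = n12213 := rfl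
theorem F48017 : act 0 n12213 = n11288 := d3_1 D12213 (iv D11288) (iv F43693)
theorem F48018 : act 1 n12213 = n11258 := d10_1 D12213 (iv D11258) (iv F43694)
theorem F48019 : act 3 n12213 = n11248 := d21_1 D12213 (iv D11248) (iv D9877) (iv F38693) D11245
def n12214 : Q := act 8 n11245
theorem D12214 : act 8 n11245 = n12214 := rfl
theorem F48020 : act 0 n12214 = n11289 := d7_1 D12214 (iv D11289) (iv F43693)
theorem F48021 : act 1 n12214 = n11259 := d14_1 D12214 (iv D11259) (iv F43694)
theorem F48022 : act 3 n12214 = n11246 := d25_1 D12214 (iv D11246) D11245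
def n12215 : Q := act 4 n11247
theorem D12215 : act 4 n11247 = n12215 := rfl
theorem F48023 : act 0 n12215 = n11290 := d3_1 D12215 (iv D11290) (iv F43699)
theorem F48024 : act 1 n12215 = n12215 := d10_1 D12215 (iv D12215) F43700
theorem F48025 : act 2 n12215 = n11248 := d16_1 D12215 (iv D11248) D11247
theorem F48026 : act 7 n12215 = n12215 := d28_2 F43703 D12215 (iv D12215)
def n12216 : Q := act 8 n11247
theorem D12216 : act 8 n11247 = n12216 := rfl
theorem F48027 : act 0 n12216 = n11291 := d7_1 D12216 (iv D11291) (iv F43699)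
theorem F48028 : act 1 n12216 = n12216 := d14_1 D12216 (iv D12216) F43700
theorem F48029 : act 2 n12216 = n11249 := d20_1 D12216 (iv D11249) D11247
theorem F48030 : act 3 n12216 = n11724 := d25_1 D12216 (iv D11724) (iv F43701)
theorem F48031 : act 5 n12216 = n11251 := d32_1 D12216 (iv D11251) (iv F43702)
def n12217 : Q := act 5 n11248
theorem D12217 : act 5 n11248 = n12217 := rfl
theorem F48032 : act 0 n12217 = n11292 := d4_1 D12217 (iv D11292) (iv F43704)
theorem F48033 : act 1 n12217 = n11260 := d11_1 D12217 (iv D11260) (iv F43705)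
theorem F48034 : act 4 n12217 = n11252 := d26_1 D12217 (iv D11252) (iv D9880) (iv F38696) D11248
theorem F48035 : act 7 n12217 = n12217 := d31_2 F43706 D12217 (iv D12217)
def n12218 : Q := act 8 n11248
theorem D12218 : act 8 n11248 = n12218 := rfl
theorem F48036 : act 0 n12218 = n11293 := d7_1 D12218 (iv D11293) (iv F43704)
theorem F48037 : act 1 n12218 = n11261 := d14_1 D12218 (iv D11261) (iv F43705)
theorem F48038 : act 4 n12218 = n11249 := d29_1 D12218 (iv D11249) D11248
def n12219 : Q := act 7 n11249
theorem D12219 : act 7 n11249 = n12219 := rfl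
theorem F48039 : act 0 n12219 = n11294 := d6_1 D12219 (iv D11294) (iv F43707)
theorem F48040 : act 1 n12219 = n11262 := d13_1 D12219 (iv D11262) (iv F43708)
theorem F48041 : act 5 n12219 = n11254 := d31_1 D12219 (iv D11254) (iv F43710)
theorem F48042 : act 8 n12219 = n12219 := d35_2 D11249 D12219 (iv D12219) (iv D11249) F38697
def n12220 : Q := act 3 n11250
theorem D12220 : act 3 n11250 = n12220 := rfl
theorem F48043 : act 0 n12220 = n11295 := d2_1 D12220 (iv D11295) (iv F43711)
theorem F48044 : act 1 n12220 = n12220 := d9_1 D12220 (iv D12220) F43712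
theorem F48045 : act 4 n12220 = n11728 := d21_2 D11250 D12220 (iv D11728) (iv D10286) (iv F38704)
theorem F48046 : act 6 n12220 = n12220 := d23_2 F43714 D12220 (iv D12220)
def n12221 : Q := act 5 n11250
theorem D12221 : act 5 n11250 = n12221 := rfl
theorem F48047 : act 0 n12221 = n11296 := d4_1 D12221 (iv D11296) (iv F43711)
theorem F48048 : act 1 n12221 = n12221 := d11_1 D12221 (iv D12221) F43712
theorem F48049 : act 2 n12221 = n11252 := d17_1 D12221 (iv D11252) (iv F43713)
theorem F48050 : act 7 n12221 = n12221 := d31_2 F43715 D12221 (iv D12221)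
def n12222 : Q := act 8 n11250
theorem D12222 : act 8 n11250 = n12222 := rfl
theorem F48051 : act 0 n12222 = n11297 := d7_1 D12222 (iv D11297) (iv F43711)
theorem F48052 : act 1 n12222 = n12222 := d14_1 D12222 (iv D12222) F43712
theorem F48053 : act 2 n12222 = n11253 := d20_1 D12222 (iv D11253) (iv F43713)
theorem F48054 : act 4 n12222 = n11251 := d29_1 D12222 (iv D11251) D11250
theorem F48055 : act 6 n12222 = n12222 := d34_1 D12222 (iv D12222) F43714
def n12223 : Q := act 7 n11251
theorem D12223 : act 7 n11251 = n12223 := rfl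
theorem F48056 : act 0 n12223 = n11298 := d6_1 D12223 (iv D11298) (iv F43716)
theorem F48057 : act 1 n12223 = n12223 := d13_1 D12223 (iv D12223) F43717
theorem F48058 : act 2 n12223 = n11254 := d19_1 D12223 (iv D11254) (iv F43718)
theorem F48059 : act 6 n12223 = n12223 := d33_1 D12223 (iv D12223) F43720
theorem F48060 : act 8 n12223 = n12223 := d35_2 D11251 D12223 (iv D12223) (iv D11251) F38706
def n12224 : Q := act 6 n11252
theorem D12224 : act 6 n11252 = n12224 := rfl
theorem F48061 : act 0 n12224 = n11299 := d5_1 D12224 (iv D11299) (iv F43721)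
theorem F48062 : act 1 n12224 = n11263 := d12_1 D12224 (iv D11263) (iv F43722)
theorem F48063 : act 5 n12224 = n12224 := d30_1 D12224 (iv D12224) (iv D11252) F38709 D11252
theorem F48064 : act 7 n12224 = n12224 := d33_2 F43723 D12224 (iv D12224)
def n12225 : Q := act 8 n11252
theorem D12225 : act 8 n11252 = n12225 := rfl
theorem F48065 : act 0 n12225 = n11300 := d7_1 D12225 (iv D11300) (iv F43721)
theorem F48066 : act 1 n12225 = n11264 := d14_1 D12225 (iv D11264) (iv F43722)
theorem F48067 : act 5 n12225 = n11253 := d32_1 D12225 (iv D11253) D11252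
def n12226 : Q := act 7 n11253
theorem D12226 : act 7 n11253 = n12226 := rfl
theorem F48068 : act 0 n12226 = n11301 := d6_1 D12226 (iv D11301) (iv F43724)
theorem F48069 : act 1 n12226 = n11265 := d13_1 D12226 (iv D11265) (iv F43725)
theorem F48070 : act 4 n12226 = n11254 := d28_1 D12226 (iv D11254) (iv F43726)
theorem F48071 : act 6 n12226 = n12226 := d33_1 D12226 (iv D12226) F43727
theorem F48072 : act 8 n12226 = n12226 := d35_2 D11253 D12226 (iv D12226) (iv D11253) F38710
def n12227 : Q := act 2 n11255
theorem D12227 : act 2 n11255 = n12227 := rfl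
theorem F48073 : act 0 n12227 = n11269 := d1_1 D12227 (iv D11269) (iv F43732)
theorem F48074 : act 3 n12227 = n12227 := d15_2 D11255 D12227 (iv D12227) (iv D11255) F38716
theorem F48075 : act 7 n12227 = n11257 := d19_2 (iv F43733) D12227 (iv D11257)
def n12228 : Q := act 4 n11255
theorem D12228 : act 4 n11255 = n12228 := rfl
theorem F48076 : act 0 n12228 = n11270 := d3_1 D12228 (iv D11270) (iv F43732)
theorem F48077 : act 3 n12228 = n12228 := d21_1 D12228 (iv D12228) (iv D11255) F38717 D11255
theorem F48078 : act 7 n12228 = n11258 := d28_2 (iv F43733) D12228 (iv D11258)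
def n12229 : Q := act 8 n11255
theorem D12229 : act 8 n11255 = n12229 := rfl
theorem F48079 : act 0 n12229 = n11271 := d7_1 D12229 (iv D11271) (iv F43732)
theorem F48080 : act 3 n12229 = n11256 := d25_1 D12229 (iv D11256) D11255
def n12230 : Q := act 1 n11257
theorem D12230 : act 1 n11257 = n12230 := rfl
theorem F48081 : act 3 n12230 = n11266 := d9_2 (iv F43738) D12230 (iv D11266)
def n12231 : Q := act 4 n11257
theorem D12231 : act 4 n11257 = n12231 := rfl
theorem F48082 : act 0 n12231 = n11272 := d3_1 D12231 (iv D11272) (iv F43737)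
theorem F48083 : act 2 n12231 = n11258 := d16_1 D12231 (iv D11258) D11257
theorem F48084 : act 3 n12231 = n12231 := d21_1 D12231 (iv D12231) F43738 F38741 (iv F43738)
def n12232 : Q := act 8 n11257
theorem D12232 : act 8 n11257 = n12232 := rfl
theorem F48085 : act 0 n12232 = n11273 := d7_1 D12232 (iv D11273) (iv F43737)
theorem F48086 : act 2 n12232 = n11259 := d20_1 D12232 (iv D11259) D11257
theorem F48087 : act 3 n12232 = n11267 := d25_1 D12232 (iv D11267) (iv F43738)
def n12233 : Q := act 5 n11258
theorem D12233 : act 5 n11258 = n12233 := rfl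
theorem F48088 : act 0 n12233 = n11274 := d4_1 D12233 (iv D11274) (iv F43739)
theorem F48089 : act 3 n12233 = n11260 := d22_1 D12233 (iv D11260) (iv F43740)
def n12234 : Q := act 8 n11258
theorem D12234 : act 8 n11258 = n12234 := rfl
theorem F48090 : act 0 n12234 = n11275 := d7_1 D12234 (iv D11275) (iv F43739)
theorem F48091 : act 3 n12234 = n11261 := d25_1 D12234 (iv D11261) (iv F43740)
theorem F48092 : act 4 n12234 = n11259 := d29_1 D12234 (iv D11259) D11258
def n12235 : Q := act 7 n11259
theorem D12235 : act 7 n11259 = n12235 := rfl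
theorem F48093 : act 0 n12235 = n11276 := d6_1 D12235 (iv D11276) (iv F43741)
def n12236 : Q := act 6 n11260
theorem D12236 : act 6 n11260 = n12236 := rfl
theorem F48094 : act 0 n12236 = n11277 := d5_1 D12236 (iv D11277) (iv F43743)
theorem F48095 : act 2 n12236 = n12236 := d18_1 D12236 (iv D12236) F43744
theorem F48096 : act 4 n12236 = n11263 := d27_1 D12236 (iv D11263) (iv F43745)
theorem F48097 : act 7 n12236 = n12236 := d33_2 F43746 D12236 (iv D12236)
def n12237 : Q := act 8 n11260
theorem D12237 : act 8 n11260 = n12237 := rfl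
theorem F48098 : act 0 n12237 = n11278 := d7_1 D12237 (iv D11278) (iv F43743)
theorem F48099 : act 2 n12237 = n12237 := d20_1 D12237 (iv D12237) F43744
theorem F48100 : act 4 n12237 = n11264 := d29_1 D12237 (iv D11264) (iv F43745)
theorem F48101 : act 5 n12237 = n11261 := d32_1 D12237 (iv D11261) D11260
def n12238 : Q := act 7 n11261
theorem D12238 : act 7 n11261 = n12238 := rfl
theorem F48102 : act 0 n12238 = n11279 := d6_1 D12238 (iv D11279) (iv F43747)
theorem F48103 : act 2 n12238 = n12238 := d19_1 D12238 (iv D12238) F43748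
theorem F48104 : act 4 n12238 = n11262 := d28_1 D12238 (iv D11262) (iv F43749)
theorem F48105 : act 8 n12238 = n12238 := d35_2 D11261 D12238 (iv D12238) (iv D11261) F38724
def n12239 : Q := act 8 n11263
theorem D12239 : act 8 n11263 = n12239 := rfl
theorem F48106 : act 0 n12239 = n11280 := d7_1 D12239 (iv D11280) (iv F43754)
theorem F48107 : act 2 n12239 = n12239 := d20_1 D12239 (iv D12239) F43755
theorem F48108 : act 5 n12239 = n12239 := d32_1 D12239 (iv D12239) F43756
theorem F48109 : act 6 n12239 = n11264 := d34_1 D12239 (iv D11264) D11263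
def n12240 : Q := act 7 n11264
theorem D12240 : act 7 n11264 = n12240 := rfl
theorem F48110 : act 0 n12240 = n11281 := d6_1 D12240 (iv D11281) (iv F43758)
theorem F48111 : act 2 n12240 = n12240 := d19_1 D12240 (iv D12240) F43759
theorem F48112 : act 5 n12240 = n11265 := d31_1 D12240 (iv D11265) (iv F43760)
theorem F48113 : act 8 n12240 = n12240 := d35_2 D11264 D12240 (iv D12240) (iv D11264) F38731
def n12241 : Q := act 3 n11265
theorem D12241 : act 3 n11265 = n12241 := rfl
theorem F48114 : act 0 n12241 = n11282 := d2_1 D12241 (iv D11282) (iv F43761)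
theorem F48115 : act 6 n12241 = n12241 := d23_2 F43764 D12241 (iv D12241)
theorem F48116 : act 8 n12241 = n12241 := d25_2 F43765 D12241 (iv D12241)
def n12242 : Q := act 8 n11266
theorem D12242 : act 8 n11266 = n12242 := rfl
theorem F48117 : act 1 n12242 = n11267 := d14_1 D12242 (iv D11267) D11266
theorem F48118 : act 2 n12242 = n11764 := d20_1 D12242 (iv D11764) (iv F43766)
theorem F48119 : act 4 n12242 = n12242 := d29_1 D12242 (iv D12242) F43767
def n12243 : Q := act 7 n11267
theorem D12243 : act 7 n11267 = n12243 := rfl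
theorem F48120 : act 0 n12243 = n11283 := d6_1 D12243 (iv D11283) (iv F43769)
theorem F48121 : act 2 n12243 = n11268 := d19_1 D12243 (iv D11268) (iv F43770)
theorem F48122 : act 4 n12243 = n12243 := d28_1 D12243 (iv D12243) F43771
theorem F48123 : act 8 n12243 = n12243 := d35_2 D11267 D12243 (iv D12243) (iv D11267) F38742
def n12244 : Q := act 8 n11269
theorem D12244 : act 8 n11269 = n12244 := rfl
theorem F48124 : act 2 n12244 = n11271 := d20_1 D12244 (iv D11271) D11269
theorem F48125 : act 3 n12244 = n12244 := d25_1 D12244 (iv D12244) F43776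
def n12245 : Q := act 8 n11270
theorem D12245 : act 8 n11270 = n12245 := rfl
theorem F48126 : act 1 n12245 = n11314 := d14_1 D12245 (iv D11314) (iv F43778)
theorem F48127 : act 3 n12245 = n12245 := d25_1 D12245 (iv D12245) F43779
theorem F48128 : act 4 n12245 = n11271 := d29_1 D12245 (iv D11271) D11270
def n12246 : Q := act 7 n11271
theorem D12246 : act 7 n11271 = n12246 := rfl
theorem F48129 : act 1 n12246 = n11315 := d13_1 D12246 (iv D11315) (iv F43781)
theorem F48130 : act 8 n12246 = n11276 := d35_2 D11271 D12246 (iv D11276) (iv D9896) (iv F38748)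
def n12247 : Q := act 8 n11272
theorem D12247 : act 8 n11272 = n12247 := rfl
theorem F48131 : act 2 n12247 = n11275 := d20_1 D12247 (iv D11275) (iv F43783)
theorem F48132 : act 3 n12247 = n12247 := d25_1 D12247 (iv D12247) F43784
theorem F48133 : act 4 n12247 = n11273 := d29_1 D12247 (iv D11273) D11272
def n12248 : Q := act 7 n11273
theorem D12248 : act 7 n11273 = n12248 := rfl
theorem F48134 : act 2 n12248 = n11276 := d19_1 D12248 (iv D11276) (iv F43785)
def n12249 : Q := act 8 n11274
theorem D12249 : act 8 n11274 = n12249 := rfl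
theorem F48135 : act 1 n12249 = n11317 := d14_1 D12249 (iv D11317) (iv F43787)
theorem F48136 : act 3 n12249 = n11278 := d25_1 D12249 (iv D11278) (iv F43788)
theorem F48137 : act 5 n12249 = n11275 := d32_1 D12249 (iv D11275) D11274
def n12250 : Q := act 7 n11275
theorem D12250 : act 7 n11275 = n12250 := rfl
theorem F48138 : act 1 n12250 = n11318 := d13_1 D12250 (iv D11318) (iv F43789)
theorem F48139 : act 4 n12250 = n11276 := d28_1 D12250 (iv D11276) (iv F43791)
def n12251 : Q := act 8 n11277
theorem D12251 : act 8 n11277 = n12251 := rfl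
theorem F48140 : act 1 n12251 = n11319 := d14_1 D12251 (iv D11319) (iv F43793)
theorem F48141 : act 2 n12251 = n12251 := d20_1 D12251 (iv D12251) F43794
theorem F48142 : act 4 n12251 = n11280 := d29_1 D12251 (iv D11280) (iv F43795)
theorem F48143 : act 6 n12251 = n11278 := d34_1 D12251 (iv D11278) D11277
def n12252 : Q := act 7 n11278
theorem D12252 : act 7 n11278 = n12252 := rfl
theorem F48144 : act 1 n12252 = n11320 := d13_1 D12252 (iv D11320) (iv F43797)
theorem F48145 : act 2 n12252 = n12252 := d19_1 D12252 (iv D12252) F43798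
theorem F48146 : act 4 n12252 = n11281 := d28_1 D12252 (iv D11281) (iv F43799)
theorem F48147 : act 5 n12252 = n11279 := d31_1 D12252 (iv D11279) (iv F43800)
theorem F48148 : act 8 n12252 = n12252 := d35_2 D11278 D12252 (iv D12252) (iv D11278) F38760
def n12253 : Q := act 3 n11279
theorem D12253 : act 3 n11279 = n12253 := rfl
theorem F48149 : act 1 n12253 = n11321 := d9_1 D12253 (iv D11321) (iv F43801)
theorem F48150 : act 8 n12253 = n12253 := d25_2 F43804 D12253 (iv D12253)
def n12254 : Q := act 7 n11280
theorem D12254 : act 7 n11280 = n12254 := rfl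
theorem F48151 : act 1 n12254 = n11322 := d13_1 D12254 (iv D11322) (iv F43805)
theorem F48152 : act 2 n12254 = n12254 := d19_1 D12254 (iv D12254) F43806
theorem F48153 : act 5 n12254 = n12254 := d31_1 D12254 (iv D12254) F43807
theorem F48154 : act 6 n12254 = n11281 := d33_1 D12254 (iv D11281) (iv F43808)
theorem F48155 : act 8 n12254 = n12254 := d35_2 D11280 D12254 (iv D12254) (iv D11280) F38771
def n12255 : Q := act 3 n11281
theorem D12255 : act 3 n11281 = n12255 := rfl
theorem F48156 : act 1 n12255 = n11323 := d9_1 D12255 (iv D11323) (iv F43809)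
theorem F48157 : act 5 n12255 = n11282 := d22_2 (iv F43811) D12255 (iv D11282)
theorem F48158 : act 8 n12255 = n12255 := d25_2 F43812 D12255 (iv D12255)
def n12256 : Q := act 2 n11282
theorem D12256 : act 2 n11282 = n12256 := rfl
theorem F48159 : act 3 n12256 = n12256 := d15_2 D11282 D12256 (iv D12256) (iv D11282) F38776
theorem F48160 : act 6 n12256 = n12256 := d18_2 F43814 D12256 (iv D12256)
theorem F48161 : act 8 n12256 = n12256 := d20_2 F43815 D12256 (iv D12256)
def n12257 : Q := act 3 n11283
theorem D12257 : act 3 n11283 = n12257 := rfl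
theorem F48162 : act 8 n12257 = n12257 := d25_2 F43818 D12257 (iv D12257)
def n12258 : Q := act 3 n11284
theorem D12258 : act 3 n11284 = n12258 := rfl
theorem F48163 : act 1 n12258 = n11325 := d9_1 D12258 (iv D11325) (iv F43819)
theorem F48164 : act 7 n12258 = n11855 := d24_2 D11284 D12258 (iv D11855) (iv D10405) (iv F38786)
def n12259 : Q := act 8 n11284
theorem D12259 : act 8 n11284 = n12259 := rfl
theorem F48165 : act 1 n12259 = n11326 := d14_1 D12259 (iv D11326) (iv F43819)
theorem F48166 : act 2 n12259 = n11286 := d20_1 D12259 (iv D11286) (iv F43820)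
theorem F48167 : act 4 n12259 = n12259 := d29_1 D12259 (iv D12259) F43821
def n12260 : Q := act 2 n11285
theorem D12260 : act 2 n11285 = n12260 := rfl
theorem F48168 : act 7 n12260 = n11287 := d19_2 (iv F43823) D12260 (iv D11287)
def n12261 : Q := act 4 n11285
theorem D12261 : act 4 n11285 = n12261 := rfl
theorem F48169 : act 1 n12261 = n11302 := d10_1 D12261 (iv D11302) (iv F43822)
theorem F48170 : act 3 n12261 = n12261 := d21_1 D12261 (iv D12261) (iv D11285) F38789 D11285
theorem F48171 : act 7 n12261 = n11288 := d28_2 (iv F43823) D12261 (iv D11288)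
def n12262 : Q := act 8 n11285
theorem D12262 : act 8 n11285 = n12262 := rfl
theorem F48172 : act 1 n12262 = n11303 := d14_1 D12262 (iv D11303) (iv F43822)
theorem F48173 : act 3 n12262 = n11286 := d25_1 D12262 (iv D11286) D11285
def n12263 : Q := act 4 n11287
theorem D12263 : act 4 n11287 = n12263 := rfl
theorem F48174 : act 2 n12263 = n11288 := d16_1 D12263 (iv D11288) D11287
def n12264 : Q := act 8 n11287
theorem D12264 : act 8 n11287 = n12264 := rfl
theorem F48175 : act 2 n12264 = n11289 := d20_1 D12264 (iv D11289) D11287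
theorem F48176 : act 3 n12264 = n11869 := d25_1 D12264 (iv D11869) (iv F43826)
def n12265 : Q := act 5 n11288
theorem D12265 : act 5 n11288 = n12265 := rfl
theorem F48177 : act 1 n12265 = n11304 := d11_1 D12265 (iv D11304) (iv F43827)
theorem F48178 : act 3 n12265 = n11292 := d22_1 D12265 (iv D11292) (iv F43828)
def n12266 : Q := act 8 n11288
theorem D12266 : act 8 n11288 = n12266 := rfl
theorem F48179 : act 1 n12266 = n11305 := d14_1 D12266 (iv D11305) (iv F43827)
theorem F48180 : act 3 n12266 = n11293 := d25_1 D12266 (iv D11293) (iv F43828)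
theorem F48181 : act 4 n12266 = n11289 := d29_1 D12266 (iv D11289) D11288
def n12267 : Q := act 7 n11289
theorem D12267 : act 7 n11289 = n12267 := rfl
theorem F48182 : act 1 n12267 = n11306 := d13_1 D12267 (iv D11306) (iv F43829)
def n12268 : Q := act 3 n11290
theorem D12268 : act 3 n11290 = n12268 := rfl
theorem F48183 : act 1 n12268 = n11327 := d9_1 D12268 (iv D11327) (iv F43831)
theorem F48184 : act 4 n12268 = n11878 := d21_2 D11290 D12268 (iv D11878) (iv D10418) (iv F38795)
def n12269 : Q := act 5 n11290
theorem D12269 : act 5 n11290 = n12269 := rfl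
theorem F48185 : act 1 n12269 = n11328 := d11_1 D12269 (iv D11328) (iv F43831)
theorem F48186 : act 2 n12269 = n11292 := d17_1 D12269 (iv D11292) (iv F43832)
theorem F48187 : act 4 n12269 = n11296 := d26_1 D12269 (iv D11296) (iv D9912) (iv F38796) D11290
theorem F48188 : act 7 n12269 = n12269 := d31_2 F43833 D12269 (iv D12269)
def n12270 : Q := act 8 n11290
theorem D12270 : act 8 n11290 = n12270 := rfl
theorem F48189 : act 1 n12270 = n11329 := d14_1 D12270 (iv D11329) (iv F43831)
theorem F48190 : act 2 n12270 = n11293 := d20_1 D12270 (iv D11293) (iv F43832)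
theorem F48191 : act 4 n12270 = n11291 := d29_1 D12270 (iv D11291) D11290
def n12271 : Q := act 7 n11291
theorem D12271 : act 7 n11291 = n12271 := rfl
theorem F48192 : act 1 n12271 = n11330 := d13_1 D12271 (iv D11330) (iv F43834)
theorem F48193 : act 2 n12271 = n11294 := d19_1 D12271 (iv D11294) (iv F43835)
theorem F48194 : act 5 n12271 = n11298 := d31_1 D12271 (iv D11298) (iv F43837)
theorem F48195 : act 8 n12271 = n12271 := d35_2 D11291 D12271 (iv D12271) (iv D11291) F38797
def n12272 : Q := act 6 n11292
theorem D12272 : act 6 n11292 = n12272 := rfl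
theorem F48196 : act 1 n12272 = n11307 := d12_1 D12272 (iv D11307) (iv F43838)
theorem F48197 : act 4 n12272 = n11299 := d27_1 D12272 (iv D11299) (iv F43839)
theorem F48198 : act 7 n12272 = n12272 := d33_2 F43840 D12272 (iv D12272)
def n12273 : Q := act 8 n11292
theorem D12273 : act 8 n11292 = n12273 := rfl
theorem F48199 : act 1 n12273 = n11308 := d14_1 D12273 (iv D11308) (iv F43838)
theorem F48200 : act 4 n12273 = n11300 := d29_1 D12273 (iv D11300) (iv F43839)
theorem F48201 : act 5 n12273 = n11293 := d32_1 D12273 (iv D11293) D11292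
def n12274 : Q := act 7 n11293
theorem D12274 : act 7 n11293 = n12274 := rfl
theorem F48202 : act 1 n12274 = n11309 := d13_1 D12274 (iv D11309) (iv F43841)
theorem F48203 : act 4 n12274 = n11294 := d28_1 D12274 (iv D11294) (iv F43842)
theorem F48204 : act 8 n12274 = n12274 := d35_2 D11293 D12274 (iv D12274) (iv D11293) F38799
def n12275 : Q := act 5 n11295
theorem D12275 : act 5 n11295 = n12275 := rfl
theorem F48205 : act 1 n12275 = n11334 := d11_1 D12275 (iv D11334) (iv F43846)
theorem F48206 : act 3 n12275 = n11296 := d22_1 D12275 (iv D11296) D11295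
def n12276 : Q := act 7 n11295
theorem D12276 : act 7 n11295 = n12276 := rfl
theorem F48207 : act 1 n12276 = n11335 := d13_1 D12276 (iv D11335) (iv F43846)
theorem F48208 : act 3 n12276 = n12276 := d24_1 D12276 (iv D12276) (iv D11295) F38806 D11295
theorem F48209 : act 4 n12276 = n11886 := d28_1 D12276 (iv D11886) (iv F43847)
theorem F48210 : act 6 n12276 = n12276 := d33_1 D12276 (iv D12276) F43848
def n12277 : Q := act 8 n11295
theorem D12277 : act 8 n11295 = n12277 := rfl
theorem F48211 : act 1 n12277 = n11336 := d14_1 D12277 (iv D11336) (iv F43846)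
theorem F48212 : act 3 n12277 = n11297 := d25_1 D12277 (iv D11297) D11295
theorem F48213 : act 4 n12277 = n11887 := d29_1 D12277 (iv D11887) (iv F43847)
theorem F48214 : act 6 n12277 = n12277 := d34_1 D12277 (iv D12277) F43848
def n12278 : Q := act 6 n11296
theorem D12278 : act 6 n11296 = n12278 := rfl
theorem F48215 : act 1 n12278 = n11337 := d12_1 D12278 (iv D11337) (iv F43849)
theorem F48216 : act 2 n12278 = n11299 := d18_1 D12278 (iv D11299) (iv F43850)
theorem F48217 : act 5 n12278 = n12278 := d30_1 D12278 (iv D12278) (iv D11296) F38805 D11296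
theorem F48218 : act 7 n12278 = n12278 := d33_2 F43851 D12278 (iv D12278)
def n12279 : Q := act 8 n11296
theorem D12279 : act 8 n11296 = n12279 := rfl
theorem F48219 : act 1 n12279 = n11338 := d14_1 D12279 (iv D11338) (iv F43849)
theorem F48220 : act 2 n12279 = n11300 := d20_1 D12279 (iv D11300) (iv F43850)
theorem F48221 : act 5 n12279 = n11297 := d32_1 D12279 (iv D11297) D11296
def n12280 : Q := act 7 n11297
theorem D12280 : act 7 n11297 = n12280 := rfl
theorem F48222 : act 1 n12280 = n11339 := d13_1 D12280 (iv D11339) (iv F43852)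
theorem F48223 : act 2 n12280 = n11301 := d19_1 D12280 (iv D11301) (iv F43853)
theorem F48224 : act 4 n12280 = n11298 := d28_1 D12280 (iv D11298) (iv F43854)
theorem F48225 : act 6 n12280 = n12280 := d33_1 D12280 (iv D12280) F43855
theorem F48226 : act 8 n12280 = n12280 := d35_2 D11297 D12280 (iv D12280) (iv D11297) F38806
def n12281 : Q := act 3 n11298
theorem D12281 : act 3 n11298 = n12281 := rfl
theorem F48227 : act 1 n12281 = n11340 := d9_1 D12281 (iv D11340) (iv F43856)
theorem F48228 : act 6 n12281 = n12281 := d23_2 F43858 D12281 (iv D12281)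
theorem F48229 : act 7 n12281 = n11891 := d24_2 D11298 D12281 (iv D11891) (iv D10426) (iv F38809)
theorem F48230 : act 8 n12281 = n12281 := d25_2 F43859 D12281 (iv D12281)
def n12282 : Q := act 8 n11299
theorem D12282 : act 8 n11299 = n12282 := rfl
theorem F48231 : act 1 n12282 = n11310 := d14_1 D12282 (iv D11310) (iv F43860)
theorem F48232 : act 5 n12282 = n12282 := d32_1 D12282 (iv D12282) F43861
theorem F48233 : act 6 n12282 = n11300 := d34_1 D12282 (iv D11300) D11299
def n12283 : Q := act 7 n11300
theorem D12283 : act 7 n11300 = n12283 := rfl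
theorem F48234 : act 1 n12283 = n11311 := d13_1 D12283 (iv D11311) (iv F43863)
theorem F48235 : act 5 n12283 = n11301 := d31_1 D12283 (iv D11301) (iv F43864)
theorem F48236 : act 8 n12283 = n12283 := d35_2 D11300 D12283 (iv D12283) (iv D11300) F38812
def n12284 : Q := act 3 n11301
theorem D12284 : act 3 n11301 = n12284 := rfl
theorem F48237 : act 1 n12284 = n11312 := d9_1 D12284 (iv D11312) (iv F43865)
theorem F48238 : act 6 n12284 = n12284 := d23_2 F43867 D12284 (iv D12284)
theorem F48239 : act 8 n12284 = n12284 := d25_2 F43868 D12284 (iv D12284)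
def n12285 : Q := act 5 n11302
theorem D12285 : act 5 n11302 = n12285 := rfl
theorem F48240 : act 0 n12285 = n11313 := d4_1 D12285 (iv D11313) (iv F43869)
theorem F48241 : act 3 n12285 = n12285 := d22_1 D12285 (iv D12285) F43870
theorem F48242 : act 7 n12285 = n11304 := d31_2 (iv F43871) D12285 (iv D11304)
def n12286 : Q := act 8 n11302
theorem D12286 : act 8 n11302 = n12286 := rfl
theorem F48243 : act 0 n12286 = n11314 := d7_1 D12286 (iv D11314) (iv F43869)
theorem F48244 : act 3 n12286 = n12286 := d25_1 D12286 (iv D12286) F43870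
theorem F48245 : act 4 n12286 = n11303 := d29_1 D12286 (iv D11303) D11302
def n12287 : Q := act 7 n11303
theorem D12287 : act 7 n11303 = n12287 := rfl
theorem F48246 : act 0 n12287 = n11315 := d6_1 D12287 (iv D11315) (iv F43872)
theorem F48247 : act 8 n12287 = n11306 := d35_2 D11303 D12287 (iv D11306) (iv D9920) (iv F38820)
def n12288 : Q := act 6 n11304
theorem D12288 : act 6 n11304 = n12288 := rfl
theorem F48248 : act 0 n12288 = n11316 := d5_1 D12288 (iv D11316) (iv F43874)
theorem F48249 : act 3 n12288 = n11307 := d23_1 D12288 (iv D11307) (iv F43875)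
def n12289 : Q := act 8 n11304
theorem D12289 : act 8 n11304 = n12289 := rfl
theorem F48250 : act 0 n12289 = n11317 := d7_1 D12289 (iv D11317) (iv F43874)
theorem F48251 : act 3 n12289 = n11308 := d25_1 D12289 (iv D11308) (iv F43875)
theorem F48252 : act 5 n12289 = n11305 := d32_1 D12289 (iv D11305) D11304
def n12290 : Q := act 7 n11305
theorem D12290 : act 7 n11305 = n12290 := rfl
theorem F48253 : act 0 n12290 = n11318 := d6_1 D12290 (iv D11318) (iv F43876)
theorem F48254 : act 4 n12290 = n11306 := d28_1 D12290 (iv D11306) (iv F43878)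
def n12291 : Q := act 8 n11307
theorem D12291 : act 8 n11307 = n12291 := rfl
theorem F48255 : act 0 n12291 = n11319 := d7_1 D12291 (iv D11319) (iv F43880)
theorem F48256 : act 2 n12291 = n11344 := d20_1 D12291 (iv D11344) (iv F43881)
theorem F48257 : act 4 n12291 = n11310 := d29_1 D12291 (iv D11310) (iv F43882)
theorem F48258 : act 6 n12291 = n11308 := d34_1 D12291 (iv D11308) D11307
def n12292 : Q := act 7 n11308
theorem D12292 : act 7 n11308 = n12292 := rfl
theorem F48259 : act 0 n12292 = n11320 := d6_1 D12292 (iv D11320) (iv F43884)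
theorem F48260 : act 2 n12292 = n11345 := d19_1 D12292 (iv D11345) (iv F43885)
theorem F48261 : act 4 n12292 = n11311 := d28_1 D12292 (iv D11311) (iv F43886)
theorem F48262 : act 5 n12292 = n11309 := d31_1 D12292 (iv D11309) (iv F43887)
theorem F48263 : act 8 n12292 = n12292 := d35_2 D11308 D12292 (iv D12292) (iv D11308) F38831
def n12293 : Q := act 3 n11309
theorem D12293 : act 3 n11309 = n12293 := rfl
theorem F48264 : act 0 n12293 = n11321 := d2_1 D12293 (iv D11321) (iv F43888)
theorem F48265 : act 8 n12293 = n12293 := d25_2 F43891 D12293 (iv D12293)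
def n12294 : Q := act 7 n11310
theorem D12294 : act 7 n11310 = n12294 := rfl
theorem F48266 : act 0 n12294 = n11322 := d6_1 D12294 (iv D11322) (iv F43892)
theorem F48267 : act 2 n12294 = n11347 := d19_1 D12294 (iv D11347) (iv F43893)
theorem F48268 : act 5 n12294 = n12294 := d31_1 D12294 (iv D12294) F43894
theorem F48269 : act 6 n12294 = n11311 := d33_1 D12294 (iv D11311) (iv F43895)
theorem F48270 : act 8 n12294 = n12294 := d35_2 D11310 D12294 (iv D12294) (iv D11310) F38842
def n12295 : Q := act 3 n11311
theorem D12295 : act 3 n11311 = n12295 := rfl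
theorem F48271 : act 0 n12295 = n11323 := d2_1 D12295 (iv D11323) (iv F43896)
theorem F48272 : act 5 n12295 = n11312 := d22_2 (iv F43898) D12295 (iv D11312)
theorem F48273 : act 8 n12295 = n12295 := d25_2 F43899 D12295 (iv D12295)
def n12296 : Q := act 2 n11312
theorem D12296 : act 2 n11312 = n12296 := rfl
theorem F48274 : act 0 n12296 = n11324 := d1_1 D12296 (iv D11324) (iv F43900)
theorem F48275 : act 3 n12296 = n11349 := d15_2 D11312 D12296 (iv D11349) (iv D9957) (iv F38847)
theorem F48276 : act 6 n12296 = n12296 := d18_2 F43901 D12296 (iv D12296)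
theorem F48277 : act 8 n12296 = n12296 := d20_2 F43902 D12296 (iv D12296)
def n12297 : Q := act 8 n11313
theorem D12297 : act 8 n11313 = n12297 := rfl
theorem F48278 : act 3 n12297 = n12297 := d25_1 D12297 (iv D12297) F43903
theorem F48279 : act 5 n12297 = n11314 := d32_1 D12297 (iv D11314) D11313
def n12298 : Q := act 7 n11314
theorem D12298 : act 7 n11314 = n12298 := rfl
theorem F48280 : act 4 n12298 = n11315 := d28_1 D12298 (iv D11315) (iv F43906)
theorem F48281 : act 8 n12298 = n11318 := d35_2 D11314 D12298 (iv D11318) (iv D9930) (iv F38852)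
def n12299 : Q := act 8 n11316
theorem D12299 : act 8 n11316 = n12299 := rfl
theorem F48282 : act 3 n12299 = n11319 := d25_1 D12299 (iv D11319) (iv F43908)
theorem F48283 : act 6 n12299 = n11317 := d34_1 D12299 (iv D11317) D11316
def n12300 : Q := act 7 n11317
theorem D12300 : act 7 n11317 = n12300 := rfl
theorem F48284 : act 5 n12300 = n11318 := d31_1 D12300 (iv D11318) (iv F43910)
def n12301 : Q := act 3 n11318
theorem D12301 : act 3 n11318 = n12301 := rfl
theorem F48285 : act 7 n12301 = n11321 := d24_2 D11318 D12301 (iv D11321) (iv D9934) (iv F38855)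
def n12302 : Q := act 7 n11319
theorem D12302 : act 7 n11319 = n12302 := rfl
theorem F48286 : act 2 n12302 = n11350 := d19_1 D12302 (iv D11350) (iv F43912)
theorem F48287 : act 4 n12302 = n11322 := d28_1 D12302 (iv D11322) (iv F43913)
theorem F48288 : act 6 n12302 = n11320 := d33_1 D12302 (iv D11320) (iv F43914)
theorem F48289 : act 8 n12302 = n12302 := d35_2 D11319 D12302 (iv D12302) (iv D11319) F38859
def n12303 : Q := act 3 n11320
theorem D12303 : act 3 n11320 = n12303 := rfl
theorem F48290 : act 5 n12303 = n11321 := d22_2 (iv F43917) D12303 (iv D11321)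
theorem F48291 : act 8 n12303 = n12303 := d25_2 F43918 D12303 (iv D12303)
def n12304 : Q := act 2 n11321
theorem D12304 : act 2 n11321 = n12304 := rfl
theorem F48292 : act 3 n12304 = n11352 := d15_2 D11321 D12304 (iv D11352) (iv D9960) (iv F38863)
theorem F48293 : act 8 n12304 = n12304 := d20_2 F43919 D12304 (iv D12304)
def n12305 : Q := act 3 n11322
theorem D12305 : act 3 n11322 = n12305 := rfl
theorem F48294 : act 5 n12305 = n12305 := d22_2 F43921 D12305 (iv D12305)
theorem F48295 : act 6 n12305 = n11323 := d23_2 (iv F43922) D12305 (iv D11323)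
theorem F48296 : act 8 n12305 = n12305 := d25_2 F43923 D12305 (iv D12305)
def n12306 : Q := act 2 n11323
theorem D12306 : act 2 n11323 = n12306 := rfl
theorem F48297 : act 3 n12306 = n11354 := d15_2 D11323 D12306 (iv D11354) (iv D9962) (iv F38869)
theorem F48298 : act 5 n12306 = n11324 := d17_2 (iv F43924) D12306 (iv D11324)
theorem F48299 : act 8 n12306 = n12306 := d20_2 F43925 D12306 (iv D12306)
def n12307 : Q := act 4 n11323
theorem D12307 : act 4 n11323 = n12307 := rfl
theorem F48300 : act 8 n12307 = n12307 := d29_2 F43925 D12307 (iv D12307)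
def n12308 : Q := act 1 n11324
theorem D12308 : act 1 n11324 = n12308 := rfl
theorem F48301 : act 3 n12308 = n11356 := d9_2 (iv F43926) D12308 (iv D11356)
theorem F48302 : act 6 n12308 = n12308 := d12_2 F43927 D12308 (iv D12308)
theorem F48303 : act 8 n12308 = n12308 := d14_2 F43928 D12308 (iv D12308)
def n12309 : Q := act 4 n11325
theorem D12309 : act 4 n11325 = n12309 := rfl
theorem F48304 : act 0 n12309 = n12309 := d3_1 D12309 (iv D12309) F43929
theorem F48305 : act 3 n12309 = n12309 := d21_1 D12309 (iv D12309) (iv D11325) F38876 D11325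
theorem F48306 : act 7 n12309 = n11969 := d28_2 (iv F43930) D12309 (iv D11969)
def n12310 : Q := act 8 n11325
theorem D12310 : act 8 n11325 = n12310 := rfl
theorem F48307 : act 0 n12310 = n12310 := d7_1 D12310 (iv D12310) F43929
theorem F48308 : act 3 n12310 = n11326 := d25_1 D12310 (iv D11326) D11325
def n12311 : Q := act 5 n11327
theorem D12311 : act 5 n11327 = n12311 := rfl
theorem F48309 : act 0 n12311 = n12311 := d4_1 D12311 (iv D12311) F43934
theorem F48310 : act 3 n12311 = n11328 := d22_1 D12311 (iv D11328) D11327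
def n12312 : Q := act 7 n11327
theorem D12312 : act 7 n11327 = n12312 := rfl
theorem F48311 : act 0 n12312 = n12312 := d6_1 D12312 (iv D12312) F43934
theorem F48312 : act 3 n12312 = n12312 := d24_1 D12312 (iv D12312) (iv D11327) F38882 D11327
theorem F48313 : act 4 n12312 = n11995 := d28_1 D12312 (iv D11995) (iv F43935)
def n12313 : Q := act 8 n11327
theorem D12313 : act 8 n11327 = n12313 := rfl
theorem F48314 : act 0 n12313 = n12313 := d7_1 D12313 (iv D12313) F43934
theorem F48315 : act 3 n12313 = n11329 := d25_1 D12313 (iv D11329) D11327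
theorem F48316 : act 4 n12313 = n11996 := d29_1 D12313 (iv D11996) (iv F43935)
def n12314 : Q := act 6 n11328
theorem D12314 : act 6 n11328 = n12314 := rfl
theorem F48317 : act 0 n12314 = n12314 := d5_1 D12314 (iv D12314) F43936
theorem F48318 : act 2 n12314 = n11331 := d18_1 D12314 (iv D11331) (iv F43937)
theorem F48319 : act 4 n12314 = n11337 := d27_1 D12314 (iv D11337) (iv F43938)
theorem F48320 : act 7 n12314 = n12314 := d33_2 F43939 D12314 (iv D12314)
def n12315 : Q := act 8 n11328
theorem D12315 : act 8 n11328 = n12315 := rfl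
theorem F48321 : act 0 n12315 = n12315 := d7_1 D12315 (iv D12315) F43936
theorem F48322 : act 2 n12315 = n11332 := d20_1 D12315 (iv D11332) (iv F43937)
theorem F48323 : act 4 n12315 = n11338 := d29_1 D12315 (iv D11338) (iv F43938)
theorem F48324 : act 5 n12315 = n11329 := d32_1 D12315 (iv D11329) D11328
def n12316 : Q := act 7 n11329
theorem D12316 : act 7 n11329 = n12316 := rfl
theorem F48325 : act 0 n12316 = n12316 := d6_1 D12316 (iv D12316) F43940
theorem F48326 : act 2 n12316 = n11333 := d19_1 D12316 (iv D11333) (iv F43941)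
theorem F48327 : act 4 n12316 = n11330 := d28_1 D12316 (iv D11330) (iv F43942)
theorem F48328 : act 8 n12316 = n12316 := d35_2 D11329 D12316 (iv D12316) (iv D11329) F38882
def n12317 : Q := act 3 n11330
theorem D12317 : act 3 n11330 = n12317 := rfl
theorem F48329 : act 0 n12317 = n12317 := d2_1 D12317 (iv D12317) F43943
theorem F48330 : act 2 n12317 = n12317 := d15_1 D12317 (iv D12317) F43944 F38896 (iv F43944)
theorem F48331 : act 5 n12317 = n11340 := d22_2 (iv F43945) D12317 (iv D11340)
theorem F48332 : act 7 n12317 = n12000 := d24_2 D11330 D12317 (iv D12000) (iv D10526) (iv F38885)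
theorem F48333 : act 8 n12317 = n12317 := d25_2 F43946 D12317 (iv D12317)
def n12318 : Q := act 8 n11331
theorem D12318 : act 8 n11331 = n12318 := rfl
theorem F48334 : act 0 n12318 = n12318 := d7_1 D12318 (iv D12318) F43947
theorem F48335 : act 1 n12318 = n11344 := d14_1 D12318 (iv D11344) (iv F43948)
theorem F48336 : act 4 n12318 = n11341 := d29_1 D12318 (iv D11341) (iv F43949)
theorem F48337 : act 6 n12318 = n11332 := d34_1 D12318 (iv D11332) D11331
def n12319 : Q := act 7 n11332
theorem D12319 : act 7 n11332 = n12319 := rfl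
theorem F48338 : act 0 n12319 = n12319 := d6_1 D12319 (iv D12319) F43951
theorem F48339 : act 1 n12319 = n11345 := d13_1 D12319 (iv D11345) (iv F43952)
theorem F48340 : act 4 n12319 = n11342 := d28_1 D12319 (iv D11342) (iv F43953)
theorem F48341 : act 5 n12319 = n11333 := d31_1 D12319 (iv D11333) (iv F43954)
theorem F48342 : act 8 n12319 = n12319 := d35_2 D11332 D12319 (iv D12319) (iv D11332) F38890
def n12320 : Q := act 3 n11333
theorem D12320 : act 3 n11333 = n12320 := rfl
theorem F48343 : act 0 n12320 = n12320 := d2_1 D12320 (iv D12320) F43955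
theorem F48344 : act 1 n12320 = n11346 := d9_1 D12320 (iv D11346) (iv F43956)
theorem F48345 : act 4 n12320 = n12320 := d21_2 (iv F43957) D12320 (iv D12320) F43957 F38896
theorem F48346 : act 8 n12320 = n12320 := d25_2 F43958 D12320 (iv D12320)
def n12321 : Q := act 4 n11334
theorem D12321 : act 4 n11334 = n12321 := rfl
theorem F48347 : act 0 n12321 = n12321 := d3_1 D12321 (iv D12321) F43959
theorem F48348 : act 2 n12321 = n12321 := d16_1 D12321 (iv D12321) F43960
theorem F48349 : act 5 n12321 = n12004 := d26_2 D11334 D12321 (iv D12004) (iv D10530) (iv F38901)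
def n12322 : Q := act 6 n11334
theorem D12322 : act 6 n11334 = n12322 := rfl
theorem F48350 : act 0 n12322 = n12322 := d5_1 D12322 (iv D12322) F43959
theorem F48351 : act 2 n12322 = n12322 := d18_1 D12322 (iv D12322) F43960
theorem F48352 : act 3 n12322 = n11337 := d23_1 D12322 (iv D11337) (iv F43961)
theorem F48353 : act 5 n12322 = n12322 := d30_1 D12322 (iv D12322) (iv D11334) F38902 D11334
def n12323 : Q := act 7 n11334
theorem D12323 : act 7 n11334 = n12323 := rfl
theorem F48354 : act 0 n12323 = n12323 := d6_1 D12323 (iv D12323) F43959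
theorem F48355 : act 2 n12323 = n12323 := d19_1 D12323 (iv D12323) F43960
theorem F48356 : act 3 n12323 = n12323 := d24_1 D12323 (iv D12323) F43961 F38905 (iv F43961)
theorem F48357 : act 5 n12323 = n11335 := d31_1 D12323 (iv D11335) D11334
def n12324 : Q := act 8 n11334
theorem D12324 : act 8 n11334 = n12324 := rfl
theorem F48358 : act 0 n12324 = n12324 := d7_1 D12324 (iv D12324) F43959
theorem F48359 : act 2 n12324 = n12324 := d20_1 D12324 (iv D12324) F43960
theorem F48360 : act 3 n12324 = n11338 := d25_1 D12324 (iv D11338) (iv F43961)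
theorem F48361 : act 5 n12324 = n11336 := d32_1 D12324 (iv D11336) D11334
def n12325 : Q := act 8 n11335
theorem D12325 : act 8 n11335 = n12325 := rfl
theorem F48362 : act 0 n12325 = n12325 := d7_1 D12325 (iv D12325) F43962
theorem F48363 : act 2 n12325 = n12325 := d20_1 D12325 (iv D12325) F43963
theorem F48364 : act 3 n12325 = n12325 := d25_1 D12325 (iv D12325) F43964
theorem F48365 : act 4 n12325 = n12008 := d29_1 D12325 (iv D12008) (iv F43965)
theorem F48366 : act 6 n12325 = n12325 := d34_1 D12325 (iv D12325) F43966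
def n12326 : Q := act 7 n11336
theorem D12326 : act 7 n11336 = n12326 := rfl
theorem F48367 : act 0 n12326 = n12326 := d6_1 D12326 (iv D12326) F43967
theorem F48368 : act 2 n12326 = n12326 := d19_1 D12326 (iv D12326) F43968
theorem F48369 : act 4 n12326 = n12009 := d28_1 D12326 (iv D12009) (iv F43970)
theorem F48370 : act 6 n12326 = n12326 := d33_1 D12326 (iv D12326) F43971
def n12327 : Q := act 8 n11337
theorem D12327 : act 8 n11337 = n12327 := rfl
theorem F48371 : act 0 n12327 = n12327 := d7_1 D12327 (iv D12327) F43972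
theorem F48372 : act 2 n12327 = n11341 := d20_1 D12327 (iv D11341) (iv F43973)
theorem F48373 : act 5 n12327 = n12327 := d32_1 D12327 (iv D12327) F43974
theorem F48374 : act 6 n12327 = n11338 := d34_1 D12327 (iv D11338) D11337
def n12328 : Q := act 7 n11338
theorem D12328 : act 7 n11338 = n12328 := rfl
theorem F48375 : act 0 n12328 = n12328 := d6_1 D12328 (iv D12328) F43976
theorem F48376 : act 2 n12328 = n11342 := d19_1 D12328 (iv D11342) (iv F43977)
theorem F48377 : act 5 n12328 = n11339 := d31_1 D12328 (iv D11339) (iv F43978)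
theorem F48378 : act 8 n12328 = n12328 := d35_2 D11338 D12328 (iv D12328) (iv D11338) F38905
def n12329 : Q := act 3 n11339
theorem D12329 : act 3 n11339 = n12329 := rfl
theorem F48379 : act 0 n12329 = n12329 := d2_1 D12329 (iv D12329) F43979
theorem F48380 : act 6 n12329 = n12329 := d23_2 F43982 D12329 (iv D12329)
theorem F48381 : act 8 n12329 = n12329 := d25_2 F43983 D12329 (iv D12329)
def n12330 : Q := act 4 n11340
theorem D12330 : act 4 n11340 = n12330 := rfl
theorem F48382 : act 0 n12330 = n12330 := d3_1 D12330 (iv D12330) F43984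
theorem F48383 : act 2 n12330 = n12330 := d16_1 D12330 (iv D12330) F43985
theorem F48384 : act 6 n12330 = n12330 := d27_2 F43986 D12330 (iv D12330)
theorem F48385 : act 7 n12330 = n12013 := d28_2 (iv F43987) D12330 (iv D12013)
theorem F48386 : act 8 n12330 = n12330 := d29_2 F43988 D12330 (iv D12330)
def n12331 : Q := act 7 n11341
theorem D12331 : act 7 n11341 = n12331 := rfl
theorem F48387 : act 0 n12331 = n12331 := d6_1 D12331 (iv D12331) F43989
theorem F48388 : act 1 n12331 = n11347 := d13_1 D12331 (iv D11347) (iv F43990)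
theorem F48389 : act 5 n12331 = n12331 := d31_1 D12331 (iv D12331) F43992
theorem F48390 : act 6 n12331 = n11342 := d33_1 D12331 (iv D11342) (iv F43993)
theorem F48391 : act 8 n12331 = n12331 := d35_2 D11341 D12331 (iv D12331) (iv D11341) F38918
def n12332 : Q := act 3 n11342
theorem D12332 : act 3 n11342 = n12332 := rfl
theorem F48392 : act 0 n12332 = n12332 := d2_1 D12332 (iv D12332) F43994
theorem F48393 : act 1 n12332 = n11348 := d9_1 D12332 (iv D11348) (iv F43995)
theorem F48394 : act 5 n12332 = n11343 := d22_2 (iv F43996) D12332 (iv D11343)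
theorem F48395 : act 7 n12332 = n12332 := d24_2 D11342 D12332 (iv D12332) (iv D11342) F38921
theorem F48396 : act 8 n12332 = n12332 := d25_2 F43997 D12332 (iv D12332)
def n12333 : Q := act 2 n11343
theorem D12333 : act 2 n11343 = n12333 := rfl
theorem F48397 : act 0 n12333 = n12333 := d1_1 D12333 (iv D12333) F43998
theorem F48398 : act 4 n12333 = n12333 := d16_2 F44000 D12333 (iv D12333)
theorem F48399 : act 6 n12333 = n12333 := d18_2 F44001 D12333 (iv D12333)
theorem F48400 : act 7 n12333 = n12333 := d19_2 F44002 D12333 (iv D12333)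
theorem F48401 : act 8 n12333 = n12333 := d20_2 F44003 D12333 (iv D12333)
def n12334 : Q := act 7 n11344
theorem D12334 : act 7 n11344 = n12334 := rfl
theorem F48402 : act 0 n12334 = n11350 := d6_1 D12334 (iv D11350) (iv F44004)
theorem F48403 : act 4 n12334 = n11347 := d28_1 D12334 (iv D11347) (iv F44005)
theorem F48404 : act 6 n12334 = n11345 := d33_1 D12334 (iv D11345) (iv F44006)
theorem F48405 : act 8 n12334 = n12334 := d35_2 D11344 D12334 (iv D12334) (iv D11344) F38930
def n12335 : Q := act 3 n11345
theorem D12335 : act 3 n11345 = n12335 := rfl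
theorem F48406 : act 0 n12335 = n11351 := d2_1 D12335 (iv D11351) (iv F44007)
theorem F48407 : act 5 n12335 = n11346 := d22_2 (iv F44009) D12335 (iv D11346)
theorem F48408 : act 8 n12335 = n12335 := d25_2 F44010 D12335 (iv D12335)
def n12336 : Q := act 2 n11346
theorem D12336 : act 2 n11346 = n12336 := rfl
theorem F48409 : act 0 n12336 = n11352 := d1_1 D12336 (iv D11352) (iv F44011)
theorem F48410 : act 4 n12336 = n12336 := d16_2 F44012 D12336 (iv D12336)
theorem F48411 : act 8 n12336 = n12336 := d20_2 F44013 D12336 (iv D12336)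
def n12337 : Q := act 3 n11347
theorem D12337 : act 3 n11347 = n12337 := rfl
theorem F48412 : act 0 n12337 = n11353 := d2_1 D12337 (iv D11353) (iv F44014)
theorem F48413 : act 5 n12337 = n12337 := d22_2 F44015 D12337 (iv D12337)
theorem F48414 : act 6 n12337 = n11348 := d23_2 (iv F44016) D12337 (iv D11348)
theorem F48415 : act 7 n12337 = n12337 := d24_2 D11347 D12337 (iv D12337) (iv D11347) F38938
theorem F48416 : act 8 n12337 = n12337 := d25_2 F44017 D12337 (iv D12337)
def n12338 : Q := act 2 n11348
theorem D12338 : act 2 n11348 = n12338 := rfl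
theorem F48417 : act 0 n12338 = n11354 := d1_1 D12338 (iv D11354) (iv F44018)
theorem F48418 : act 5 n12338 = n11349 := d17_2 (iv F44019) D12338 (iv D11349)
theorem F48419 : act 7 n12338 = n12338 := d19_2 F44020 D12338 (iv D12338)
theorem F48420 : act 8 n12338 = n12338 := d20_2 F44021 D12338 (iv D12338)
def n12339 : Q := act 4 n11348
theorem D12339 : act 4 n11348 = n12339 := rfl
theorem F48421 : act 0 n12339 = n11355 := d3_1 D12339 (iv D11355) (iv F44018)
theorem F48422 : act 5 n12339 = n12339 := d26_2 (iv F44019) D12339 (iv D12339) F44019 F38945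
theorem F48423 : act 7 n12339 = n12339 := d28_2 F44020 D12339 (iv D12339)
theorem F48424 : act 8 n12339 = n12339 := d29_2 F44021 D12339 (iv D12339)
def n12340 : Q := act 1 n11349
theorem D12340 : act 1 n11349 = n12340 := rfl
theorem F48425 : act 4 n12340 = n12340 := d10_2 F44023 D12340 (iv D12340)
theorem F48426 : act 6 n12340 = n12340 := d12_2 F44024 D12340 (iv D12340)
theorem F48427 : act 7 n12340 = n12340 := d13_2 F44025 D12340 (iv D12340)
theorem F48428 : act 8 n12340 = n12340 := d14_2 F44026 D12340 (iv D12340)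
def n12341 : Q := act 3 n11350
theorem D12341 : act 3 n11350 = n12341 := rfl
theorem F48429 : act 1 n12341 = n12341 := d9_1 D12341 (iv D12341) F44027
theorem F48430 : act 6 n12341 = n11351 := d23_2 (iv F44029) D12341 (iv D11351)
theorem F48431 : act 8 n12341 = n12341 := d25_2 F44030 D12341 (iv D12341)
def n12342 : Q := act 2 n11351
theorem D12342 : act 2 n11351 = n12342 := rfl
theorem F48432 : act 5 n12342 = n11352 := d17_2 (iv F44032) D12342 (iv D11352)
theorem F48433 : act 8 n12342 = n12342 := d20_2 F44033 D12342 (iv D12342)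
def n12343 : Q := act 4 n11351
theorem D12343 : act 4 n11351 = n12343 := rfl
theorem F48434 : act 1 n12343 = n12343 := d10_1 D12343 (iv D12343) F44031
theorem F48435 : act 3 n12343 = n11355 := d21_1 D12343 (iv D11355) (iv D9962) (iv F38953) D11351
theorem F48436 : act 5 n12343 = n12343 := d26_2 (iv F44032) D12343 (iv D12343) F44032 F38957
theorem F48437 : act 8 n12343 = n12343 := d29_2 F44033 D12343 (iv D12343)
def n12344 : Q := act 1 n11352
theorem D12344 : act 1 n11352 = n12344 := rfl
theorem F48438 : act 2 n12344 = n12344 := d8_2 D11352 D12344 (iv D12344) (iv D11352) F38956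
theorem F48439 : act 4 n12344 = n12344 := d10_2 F44034 D12344 (iv D12344)
theorem F48440 : act 8 n12344 = n12344 := d14_2 F44035 D12344 (iv D12344)
def n12345 : Q := act 2 n11353
theorem D12345 : act 2 n11353 = n12345 := rfl
theorem F48441 : act 5 n12345 = n12345 := d17_2 F44037 D12345 (iv D12345)
theorem F48442 : act 6 n12345 = n11354 := d18_2 (iv F44038) D12345 (iv D11354)
theorem F48443 : act 7 n12345 = n12345 := d19_2 F44039 D12345 (iv D12345)
theorem F48444 : act 8 n12345 = n12345 := d20_2 F44040 D12345 (iv D12345)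
def n12346 : Q := act 4 n11353
theorem D12346 : act 4 n11353 = n12346 := rfl
theorem F48445 : act 1 n12346 = n12346 := d10_1 D12346 (iv D12346) F44036
theorem F48446 : act 6 n12346 = n11355 := d27_2 (iv F44038) D12346 (iv D11355)
theorem F48447 : act 7 n12346 = n12346 := d28_2 F44039 D12346 (iv D12346)
theorem F48448 : act 8 n12346 = n12346 := d29_2 F44040 D12346 (iv D12346)
def n12347 : Q := act 1 n11354
theorem D12347 : act 1 n11354 = n12347 := rfl
theorem F48449 : act 2 n12347 = n12347 := d8_2 D11354 D12347 (iv D12347) (iv D11354) F38963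
theorem F48450 : act 5 n12347 = n11356 := d11_2 (iv F44041) D12347 (iv D11356)
theorem F48451 : act 7 n12347 = n12347 := d13_2 F44042 D12347 (iv D12347)
theorem F48452 : act 8 n12347 = n12347 := d14_2 F44043 D12347 (iv D12347)
def n12348 : Q := act 4 n11354
theorem D12348 : act 4 n11354 = n12348 := rfl
theorem F48453 : act 2 n12348 = n11355 := d16_1 D12348 (iv D11355) D11354
theorem F48454 : act 5 n12348 = n12348 := d26_2 (iv F44041) D12348 (iv D12348) F44041 F38967
theorem F48455 : act 7 n12348 = n12348 := d28_2 F44042 D12348 (iv D12348)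
theorem F48456 : act 8 n12348 = n12348 := d29_2 F44043 D12348 (iv D12348)
def n12349 : Q := act 0 n11356
theorem D12349 : act 0 n11356 = n12349 := rfl
theorem F48457 : act 2 n12349 = n12349 := d1_2 F44048 D12349 (iv D12349)
theorem F48458 : act 4 n12349 = n12349 := d3_2 F44049 D12349 (iv D12349)
theorem F48459 : act 6 n12349 = n12349 := d5_2 F44050 D12349 (iv D12349)
theorem F48460 : act 7 n12349 = n12349 := d6_2 F44051 D12349 (iv D12349)
theorem F48461 : act 8 n12349 = n12349 := d7_2 F44052 D12349 (iv D12349)
def n12350 : Q := act 8 n11359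
theorem D12350 : act 8 n11359 = n12350 := rfl
theorem F48462 : act 0 n12350 = n12350 := d7_1 D12350 (iv D12350) F44062
theorem F48463 : act 1 n12350 = n11371 := d14_1 D12350 (iv D11371) (iv F44063)
theorem F48464 : act 3 n12350 = n12014 := d25_1 D12350 F47181 (iv F44637)
theorem F48465 : act 4 n12350 = n11362 := d29_1 D12350 (iv D11362) (iv F44064)
theorem F48466 : act 5 n12350 = n12350 := d32_1 D12350 (iv D12350) F44065
theorem F48467 : act 6 n12350 = n12015 := d34_1 D12350 F47186 F44638
theorem F48468 : act 7 n12350 = n12350 := d35_1 D12350 (iv D12350) (iv D11359) F38974 D11359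
def n12351 : Q := act 4 n11361
theorem D12351 : act 4 n11361 = n12351 := rfl
theorem F48469 : act 0 n12351 = n12351 := d3_1 D12351 (iv D12351) F44070
theorem F48470 : act 1 n12351 = n11374 := d10_1 D12351 (iv D11374) (iv F44071)
theorem F48471 : act 3 n12351 = n12190 := d21_1 D12351 F47905 (iv F44637) F44064 D11361
theorem F48472 : act 6 n12351 = n12191 := d27_2 F47766 D12351 F47909
theorem F48473 : act 7 n12351 = n12351 := d28_2 F44073 D12351 (iv D12351)
def n12352 : Q := act 8 n11361
theorem D12352 : act 8 n11361 = n12352 := rfl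
theorem F48474 : act 0 n12352 = n12352 := d7_1 D12352 (iv D12352) F44070
theorem F48475 : act 1 n12352 = n11375 := d14_1 D12352 (iv D11375) (iv F44071)
theorem F48476 : act 3 n12352 = n11362 := d25_1 D12352 (iv D11362) D11361
theorem F48477 : act 5 n12352 = n11365 := d32_1 D12352 (iv D11365) (iv F44072)
def n12353 : Q := act 4 n11363
theorem D12353 : act 4 n11363 = n12353 := rfl
theorem F48478 : act 0 n12353 = n12353 := d3_1 D12353 (iv D12353) F44078
theorem F48479 : act 1 n12353 = n11430 := d10_1 D12353 (iv D11430) (iv F44079)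
theorem F48480 : act 2 n12353 = n11364 := d16_1 D12353 (iv D11364) D11363
theorem F48481 : act 6 n12353 = n12353 := d27_2 F44080 D12353 (iv D12353)
theorem F48482 : act 7 n12353 = n12353 := d28_2 F44081 D12353 (iv D12353)
def n12354 : Q := act 8 n11363
theorem D12354 : act 8 n11363 = n12354 := rfl
theorem F48483 : act 0 n12354 = n12354 := d7_1 D12354 (iv D12354) F44078
theorem F48484 : act 1 n12354 = n11431 := d14_1 D12354 (iv D11431) (iv F44079)
theorem F48485 : act 2 n12354 = n11365 := d20_1 D12354 (iv D11365) D11363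
theorem F48486 : act 6 n12354 = n12354 := d34_1 D12354 (iv D12354) F44080
def n12355 : Q := act 5 n11364
theorem D12355 : act 5 n11364 = n12355 := rfl
theorem F48487 : act 0 n12355 = n12355 := d4_1 D12355 (iv D12355) F44082
theorem F48488 : act 1 n12355 = n11376 := d11_1 D12355 (iv D11376) (iv F44083)
theorem F48489 : act 3 n12355 = n12355 := d22_1 D12355 (iv D12355) F44084
theorem F48490 : act 7 n12355 = n12355 := d31_2 F44086 D12355 (iv D12355)
def n12356 : Q := act 8 n11364
theorem D12356 : act 8 n11364 = n12356 := rfl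
theorem F48491 : act 0 n12356 = n12356 := d7_1 D12356 (iv D12356) F44082
theorem F48492 : act 1 n12356 = n11377 := d14_1 D12356 (iv D11377) (iv F44083)
theorem F48493 : act 3 n12356 = n12356 := d25_1 D12356 (iv D12356) F44084
theorem F48494 : act 4 n12356 = n11365 := d29_1 D12356 (iv D11365) D11364
theorem F48495 : act 6 n12356 = n12356 := d34_1 D12356 (iv D12356) F44085
def n12357 : Q := act 7 n11365
theorem D12357 : act 7 n11365 = n12357 := rfl
theorem F48496 : act 0 n12357 = n12357 := d6_1 D12357 (iv D12357) F44087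
theorem F48497 : act 1 n12357 = n11378 := d13_1 D12357 (iv D11378) (iv F44088)
theorem F48498 : act 3 n12357 = n12357 := d24_1 D12357 (iv D12357) F44089 F38991 (iv F44089)
theorem F48499 : act 6 n12357 = n12357 := d33_1 D12357 (iv D12357) F44090
theorem F48500 : act 8 n12357 = n12357 := d35_2 D11365 D12357 (iv D12357) (iv D11365) F38986
def n12358 : Q := act 8 n11372
theorem D12358 : act 8 n11372 = n12358 := rfl
theorem F48501 : act 0 n12358 = n11395 := d7_1 D12358 (iv D11395) (iv F44116)
theorem F48502 : act 2 n12358 = n11446 := d20_1 D12358 (iv D11446) (iv F44117)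
theorem F48503 : act 3 n12358 = n11373 := d25_1 D12358 (iv D11373) D11372
theorem F48504 : act 4 n12358 = n12032 := d29_1 D12358 F47259 (iv F44634)
theorem F48505 : act 5 n12358 = n12358 := d32_1 D12358 (iv D12358) F44118
theorem F48506 : act 6 n12358 = n11375 := d34_1 D12358 (iv D11375) (iv F44119)
def n12359 : Q := act 5 n11374
theorem D12359 : act 5 n11374 = n12359 := rfl
theorem F48507 : act 0 n12359 = n11396 := d4_1 D12359 (iv D11396) (iv F44126)
theorem F48508 : act 2 n12359 = n11447 := d17_1 D12359 (iv D11447) (iv F44127)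
theorem F48509 : act 3 n12359 = n12203 := d22_1 D12359 F47981 F44636
theorem F48510 : act 4 n12359 = n11376 := d26_1 D12359 (iv D11376) (iv D9975) (iv F39011) D11374
theorem F48511 : act 6 n12359 = n12204 := d30_2 (iv F44635) D12359 F47984 F43479 (iv F43485)
theorem F48512 : act 7 n12359 = n12359 := d31_2 F44128 D12359 (iv D12359)
def n12360 : Q := act 8 n11374
theorem D12360 : act 8 n11374 = n12360 := rfl
theorem F48513 : act 0 n12360 = n11397 := d7_1 D12360 (iv D11397) (iv F44126)
theorem F48514 : act 2 n12360 = n11448 := d20_1 D12360 (iv D11448) (iv F44127)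
theorem F48515 : act 3 n12360 = n12031 := d25_1 D12360 F47256 F44636
theorem F48516 : act 4 n12360 = n11375 := d29_1 D12360 (iv D11375) D11374
theorem F48517 : act 6 n12360 = n12032 := d34_1 D12360 F47259 (iv F44635)
def n12361 : Q := act 7 n11375
theorem D12361 : act 7 n11375 = n12361 := rfl
theorem F48518 : act 0 n12361 = n11398 := d6_1 D12361 (iv D11398) (iv F44129)
theorem F48519 : act 2 n12361 = n11449 := d19_1 D12361 (iv D11449) (iv F44130)
theorem F48520 : act 3 n12361 = n12361 := d24_1 D12361 (iv D12361) F44131 F39016 (iv F44131)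
theorem F48521 : act 5 n12361 = n11378 := d31_1 D12361 (iv D11378) (iv F44132)
theorem F48522 : act 8 n12361 = n12361 := d35_2 D11375 D12361 (iv D12361) (iv D11375) F39012
def n12362 : Q := act 6 n11376
theorem D12362 : act 6 n11376 = n12362 := rfl
theorem F48523 : act 0 n12362 = n11399 := d5_1 D12362 (iv D11399) (iv F44133)
theorem F48524 : act 2 n12362 = n11450 := d18_1 D12362 (iv D11450) (iv F44134)
theorem F48525 : act 3 n12362 = n12362 := d23_1 D12362 (iv D12362) F44135
theorem F48526 : act 4 n12362 = n12204 := d27_1 D12362 (iv F48511) F48510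
theorem F48527 : act 5 n12362 = n12362 := d30_1 D12362 (iv D12362) (iv D11376) F39020 D11376
theorem F48528 : act 7 n12362 = n12362 := d33_2 F44136 D12362 (iv D12362)
def n12363 : Q := act 8 n11376
theorem D12363 : act 8 n11376 = n12363 := rfl
theorem F48529 : act 0 n12363 = n11400 := d7_1 D12363 (iv D11400) (iv F44133)
theorem F48530 : act 2 n12363 = n11451 := d20_1 D12363 (iv D11451) (iv F44134)
theorem F48531 : act 3 n12363 = n12363 := d25_1 D12363 (iv D12363) F44135
theorem F48532 : act 5 n12363 = n11377 := d32_1 D12363 (iv D11377) D11376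
def n12364 : Q := act 7 n11377
theorem D12364 : act 7 n11377 = n12364 := rfl
theorem F48533 : act 0 n12364 = n11401 := d6_1 D12364 (iv D11401) (iv F44137)
theorem F48534 : act 2 n12364 = n11452 := d19_1 D12364 (iv D11452) (iv F44138)
theorem F48535 : act 4 n12364 = n11378 := d28_1 D12364 (iv D11378) (iv F44140)
theorem F48536 : act 6 n12364 = n12364 := d33_1 D12364 (iv D12364) F44141
theorem F48537 : act 8 n12364 = n12364 := d35_2 D11377 D12364 (iv D12364) (iv D11377) F39021
def n12365 : Q := act 8 n11380
theorem D12365 : act 8 n11380 = n12365 := rfl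
theorem F48538 : act 0 n12365 = n11405 := d7_1 D12365 (iv D11405) (iv F44151)
theorem F48539 : act 2 n12365 = n11924 := d20_1 D12365 F46855 F45181
theorem F48540 : act 3 n12365 = n11381 := d25_1 D12365 (iv D11381) D11380
theorem F48541 : act 4 n12365 = n11456 := d29_1 D12365 (iv D11456) (iv F44152)
theorem F48542 : act 5 n12365 = n11925 := d32_1 D12365 F46859 (iv F45183)
theorem F48543 : act 6 n12365 = n11383 := d34_1 D12365 (iv D11383) (iv F44153)
def n12366 : Q := act 1 n11382
theorem D12366 : act 1 n11382 = n12366 := rfl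
theorem F48544 : act 3 n12366 = n12145 := d9_2 F45179 D12366 F47714
theorem F48545 : act 4 n12366 = n11457 := d10_2 (iv F44160) D12366 (iv D11457)
theorem F48546 : act 5 n12366 = n12366 := d11_2 F44161 D12366 (iv D12366)
theorem F48547 : act 6 n12366 = n12146 := d12_2 (iv F45180) D12366 F47717
theorem F48548 : act 7 n12366 = n12366 := d13_2 F44162 D12366 (iv D12366)
def n12367 : Q := act 8 n11382
theorem D12367 : act 8 n11382 = n12367 := rfl
theorem F48549 : act 0 n12367 = n11407 := d7_1 D12367 (iv D11407) (iv F44159)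
theorem F48550 : act 2 n12367 = n11383 := d20_1 D12367 (iv D11383) D11382
theorem F48551 : act 3 n12367 = n11923 := d25_1 D12367 F46852 F45179
theorem F48552 : act 4 n12367 = n11458 := d29_1 D12367 (iv D11458) (iv F44160)
theorem F48553 : act 5 n12367 = n12367 := d32_1 D12367 (iv D12367) F44161
theorem F48554 : act 6 n12367 = n11924 := d34_1 D12367 F46855 (iv F45180)
def n12368 : Q := act 7 n11383
theorem D12368 : act 7 n11383 = n12368 := rfl
theorem F48555 : act 0 n12368 = n11408 := d6_1 D12368 (iv D11408) (iv F44163)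
theorem F48556 : act 3 n12368 = n12368 := d24_1 D12368 (iv D12368) F44164 F39041 (iv F44164)
theorem F48557 : act 4 n12368 = n11459 := d28_1 D12368 (iv D11459) (iv F44165)
theorem F48558 : act 5 n12368 = n12368 := d31_1 D12368 (iv D12368) F44166
theorem F48559 : act 8 n12368 = n12368 := d35_2 D11383 D12368 (iv D12368) (iv D11383) F39037
def n12369 : Q := act 7 n11395
theorem D12369 : act 7 n11395 = n12369 := rfl
theorem F48560 : act 1 n12369 = n12369 := d13_1 D12369 (iv D12369) F44207
theorem F48561 : act 2 n12369 = n11480 := d19_1 D12369 (iv D11480) (iv F44208)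
theorem F48562 : act 3 n12369 = n12369 := d24_1 D12369 (iv D12369) F44209 F39081 (iv F44209)
theorem F48563 : act 4 n12369 = n12045 := d28_1 D12369 F47313 (iv F44626)
theorem F48564 : act 5 n12369 = n12369 := d31_1 D12369 (iv D12369) F44210
theorem F48565 : act 6 n12369 = n11398 := d33_1 D12369 (iv D11398) (iv F44211)
theorem F48566 : act 8 n12369 = n12369 := d35_2 D11395 D12369 (iv D12369) (iv D11395) F39076
def n12370 : Q := act 8 n11396
theorem D12370 : act 8 n11396 = n12370 := rfl
theorem F48567 : act 1 n12370 = n12370 := d14_1 D12370 (iv D12370) F44212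
theorem F48568 : act 2 n12370 = n11482 := d20_1 D12370 (iv D11482) (iv F44213)
theorem F48569 : act 3 n12370 = n12047 := d25_1 D12370 F47323 F44632
theorem F48570 : act 4 n12370 = n11400 := d29_1 D12370 (iv D11400) (iv F44214)
theorem F48571 : act 5 n12370 = n11397 := d32_1 D12370 (iv D11397) D11396
theorem F48572 : act 6 n12370 = n12048 := d34_1 D12370 F47327 (iv F44631)
theorem F48573 : act 7 n12341 = n12370 := d33_0 F48572 F47326 (iv F48430)
def n12371 : Q := act 7 n11397
theorem D12371 : act 7 n11397 = n12371 := rfl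
theorem F48574 : act 1 n12371 = n12371 := d13_1 D12371 (iv D12371) F44216
theorem F48575 : act 2 n12371 = n11483 := d19_1 D12371 (iv D11483) (iv F44217)
theorem F48576 : act 3 n12371 = n12044 := d24_1 D12371 (iv D12044) F41206 D10573 F44628
theorem F48577 : act 4 n12371 = n11398 := d28_1 D12371 (iv D11398) (iv F44218)
theorem F48578 : act 5 n12371 = n12341 := d31_1 D12371 F48573 F48571
theorem F48579 : act 6 n12371 = n12045 := d33_1 D12371 F47313 (iv F44627)
theorem F48580 : act 8 n12371 = n12371 := d35_2 D11397 D12371 (iv D12371) (iv D11397) F39084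
def n12372 : Q := act 8 n11399
theorem D12372 : act 8 n11399 = n12372 := rfl
theorem F48581 : act 1 n12372 = n12372 := d14_1 D12372 (iv D12372) F44224
theorem F48582 : act 2 n12372 = n11484 := d20_1 D12372 (iv D11484) (iv F44225)
theorem F48583 : act 3 n12372 = n12372 := d25_1 D12372 (iv D12372) F44226
theorem F48584 : act 4 n12372 = n12048 := d29_1 D12372 F47327 (iv F44630)
theorem F48585 : act 5 n12372 = n12372 := d32_1 D12372 (iv D12372) F44227
theorem F48586 : act 6 n12372 = n11400 := d34_1 D12372 (iv D11400) D11399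
theorem F48587 : act 7 n12343 = n12372 := d28_0 F48584 F47326 D12343
def n12373 : Q := act 7 n11400
theorem D12373 : act 7 n11400 = n12373 := rfl
theorem F48588 : act 1 n12373 = n12373 := d13_1 D12373 (iv D12373) F44229
theorem F48589 : act 2 n12373 = n11485 := d19_1 D12373 (iv D11485) (iv F44230)
theorem F48590 : act 4 n12373 = n12341 := d28_1 D12373 F48573 F48570
theorem F48591 : act 5 n12373 = n11401 := d31_1 D12373 (iv D11401) (iv F44232)
theorem F48592 : act 6 n12373 = n12343 := d33_1 D12373 F48587 F48586
theorem F48593 : act 8 n12373 = n12373 := d35_2 D11400 D12373 (iv D12373) (iv D11400) F39092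
theorem F48594 : act 3 n12346 = n12373 := d23_3 F48592 F48435 (iv F48446)
def n12374 : Q := act 3 n11401
theorem D12374 : act 3 n11401 = n12374 := rfl
theorem F48595 : act 1 n12374 = n12374 := d9_1 D12374 (iv D12374) F44233
theorem F48596 : act 4 n12374 = n12374 := d21_2 (iv F44235) D12374 (iv D12374) F44235 F39100
theorem F48597 : act 5 n12374 = n12346 := d22_2 F48591 D12374 F48594
theorem F48598 : act 6 n12374 = n12374 := d23_2 F44236 D12374 (iv D12374)
theorem F48599 : act 7 n12374 = n12374 := d24_2 D11401 D12374 (iv D12374) (iv D11401) F39095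
theorem F48600 : act 8 n12374 = n12374 := d25_2 F44237 D12374 (iv D12374)
def n12375 : Q := act 7 n11405
theorem D12375 : act 7 n11405 = n12375 := rfl
theorem F48601 : act 1 n12375 = n11414 := d13_1 D12375 (iv D11414) (iv F44250)
theorem F48602 : act 2 n12375 = n11597 := d19_1 D12375 F45583 F45176
theorem F48603 : act 3 n12375 = n12375 := d24_1 D12375 (iv D12375) F44251 F39114 (iv F44251)
theorem F48604 : act 4 n12375 = n11492 := d28_1 D12375 (iv D11492) (iv F44252)
theorem F48605 : act 5 n12375 = n11598 := d31_1 D12375 F45588 (iv F45177)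
theorem F48606 : act 6 n12375 = n11408 := d33_1 D12375 (iv D11408) (iv F44253)
theorem F48607 : act 8 n12375 = n12375 := d35_2 D11405 D12375 (iv D12375) (iv D11405) F39110
def n12376 : Q := act 0 n11406
theorem D12376 : act 0 n11406 = n12376 := rfl
theorem F48608 : act 2 n12376 = n11415 := d1_2 (iv F44254) D12376 (iv D11415)
theorem F48609 : act 3 n12376 = n12088 := d2_2 F45189 D12376 F47502
theorem F48610 : act 4 n12376 = n11493 := d3_2 (iv F44255) D12376 (iv D11493)
theorem F48611 : act 5 n12376 = n12376 := d4_2 F44256 D12376 (iv D12376)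
theorem F48612 : act 6 n12376 = n12089 := d5_2 (iv F45188) D12376 F47506
theorem F48613 : act 7 n12376 = n12376 := d6_2 F44257 D12376 (iv D12376)
def n12377 : Q := act 8 n11406
theorem D12377 : act 8 n11406 = n12377 := rfl
theorem F48614 : act 1 n12377 = n11407 := d14_1 D12377 (iv D11407) D11406
theorem F48615 : act 2 n12377 = n11416 := d20_1 D12377 (iv D11416) (iv F44254)
theorem F48616 : act 3 n12377 = n11797 := d25_1 D12377 F46431 F45189
theorem F48617 : act 4 n12377 = n11494 := d29_1 D12377 (iv D11494) (iv F44255)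
theorem F48618 : act 5 n12377 = n12377 := d32_1 D12377 (iv D12377) F44256
theorem F48619 : act 6 n12377 = n11798 := d34_1 D12377 F46434 (iv F45188)
def n12378 : Q := act 7 n11407
theorem D12378 : act 7 n11407 = n12378 := rfl
theorem F48620 : act 2 n12378 = n11408 := d19_1 D12378 (iv D11408) (iv F44258)
theorem F48621 : act 3 n12378 = n11596 := d24_1 D12378 (iv D11596) F39594 D10484 F44652
theorem F48622 : act 4 n12378 = n11495 := d28_1 D12378 (iv D11495) (iv F44259)
theorem F48623 : act 5 n12378 = n12378 := d31_1 D12378 (iv D12378) F44260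
theorem F48624 : act 6 n12378 = n11597 := d33_1 D12378 F45583 (iv F44653)
theorem F48625 : act 8 n12378 = n12378 := d35_2 D11407 D12378 (iv D12378) (iv D11407) F39117
def n12379 : Q := act 8 n11409
theorem D12379 : act 8 n11409 = n12379 := rfl
theorem F48626 : act 1 n12379 = n11799 := d14_1 D12379 F46437 F45184
theorem F48627 : act 2 n12379 = n11411 := d20_1 D12379 (iv D11411) D11409
theorem F48628 : act 3 n12379 = n12379 := d25_1 D12379 (iv D12379) F44266
theorem F48629 : act 4 n12379 = n11658 := d29_1 D12379 (iv D11658) F44270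
theorem F48630 : act 5 n12379 = n11413 := d32_1 D12379 (iv D11413) (iv F44267)
theorem F48631 : act 6 n12379 = n12379 := d34_1 D12379 (iv D12379) F44268
def n12380 : Q := act 8 n11410
theorem D12380 : act 8 n11410 = n12380 := rfl
theorem F48632 : act 0 n12380 = n12379 := d7_1 D12380 (iv D12379) (iv F44271)
theorem F48633 : act 1 n12380 = n11852 := d14_1 D12380 F46626 (iv F45175)
theorem F48634 : act 2 n12380 = n11658 := d20_1 D12380 (iv D11658) (iv F44272)
theorem F48635 : act 3 n12380 = n12380 := d25_1 D12380 (iv D12380) F44273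
theorem F48636 : act 4 n12380 = n11411 := d29_1 D12380 (iv D11411) D11410
theorem F48637 : act 5 n12380 = n11496 := d32_1 D12380 (iv D11496) (iv F44274)
theorem F48638 : act 6 n12380 = n12380 := d34_1 D12380 (iv D12380) F44275
theorem F48639 : act 7 n12308 = n12380 := d13_0 F48633 F46625 D12308
def n12381 : Q := act 7 n11411
theorem D12381 : act 7 n11411 = n12381 := rfl
theorem F48640 : act 1 n12381 = n11598 := d13_1 D12381 F45588 F45178
theorem F48641 : act 3 n12381 = n12381 := d24_1 D12381 (iv D12381) F44277 F39129 (iv F44277)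
theorem F48642 : act 4 n12381 = n12308 := d28_1 D12381 F48639 F48636
theorem F48643 : act 5 n12381 = n11414 := d31_1 D12381 (iv D11414) (iv F44278)
theorem F48644 : act 6 n12381 = n12381 := d33_1 D12381 (iv D12381) F44279
theorem F48645 : act 8 n12381 = n12381 := d35_2 D11411 D12381 (iv D12381) (iv D11411) F39124
def n12382 : Q := act 0 n11412
theorem D12382 : act 0 n11412 = n12382 := rfl
theorem F48646 : act 2 n12382 = n12089 := d1_2 F45186 D12382 F47506
theorem F48647 : act 3 n12382 = n12382 := d2_2 F44280 D12382 (iv D12382)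
theorem F48648 : act 4 n12382 = n11498 := d3_2 (iv F44281) D12382 (iv D11498)
theorem F48649 : act 5 n12382 = n12090 := d4_2 (iv F45185) D12382 F47509
theorem F48650 : act 6 n12382 = n11415 := d5_2 (iv F44282) D12382 (iv D11415)
theorem F48651 : act 7 n12382 = n12382 := d6_2 F44283 D12382 (iv D12382)
def n12383 : Q := act 8 n11412
theorem D12383 : act 8 n11412 = n12383 := rfl
theorem F48652 : act 1 n12383 = n11413 := d14_1 D12383 (iv D11413) D11412
theorem F48653 : act 2 n12383 = n11798 := d20_1 D12383 F46434 F45186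
theorem F48654 : act 3 n12383 = n12383 := d25_1 D12383 (iv D12383) F44280
theorem F48655 : act 4 n12383 = n11499 := d29_1 D12383 (iv D11499) (iv F44281)
theorem F48656 : act 5 n12383 = n11799 := d32_1 D12383 F46437 (iv F45185)
theorem F48657 : act 6 n12383 = n11416 := d34_1 D12383 (iv D11416) (iv F44282)
def n12384 : Q := act 7 n11413
theorem D12384 : act 7 n11413 = n12384 := rfl
theorem F48658 : act 2 n12384 = n11414 := d19_1 D12384 (iv D11414) (iv F44284)
theorem F48659 : act 4 n12384 = n11500 := d28_1 D12384 (iv D11500) (iv F44286)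
theorem F48660 : act 6 n12384 = n11417 := d33_1 D12384 (iv D11417) (iv F44287)
theorem F48661 : act 8 n12384 = n12384 := d35_2 D11413 D12384 (iv D12384) (iv D11413) F39133
def n12385 : Q := act 8 n11415
theorem D12385 : act 8 n11415 = n12385 := rfl
theorem F48662 : act 0 n12385 = n11416 := d7_1 D12385 (iv D11416) D11415
theorem F48663 : act 3 n12385 = n12385 := d25_1 D12385 (iv D12385) F44292
theorem F48664 : act 4 n12385 = n11501 := d29_1 D12385 (iv D11501) (iv F44293)
theorem F48665 : act 5 n12385 = n12385 := d32_1 D12385 (iv D12385) F44294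
def n12386 : Q := act 7 n11416
theorem D12386 : act 7 n11416 = n12386 := rfl
theorem F48666 : act 1 n12386 = n11417 := d13_1 D12386 (iv D11417) (iv F44296)
theorem F48667 : act 4 n12386 = n11502 := d28_1 D12386 (iv D11502) (iv F44298)
theorem F48668 : act 5 n12386 = n12386 := d31_1 D12386 (iv D12386) F44299
theorem F48669 : act 8 n12386 = n12386 := d35_2 D11416 D12386 (iv D12386) (iv D11416) F39140
def n12387 : Q := act 3 n11417
theorem D12387 : act 3 n11417 = n12387 := rfl
theorem F48670 : act 2 n12387 = n12387 := d15_1 D12387 (iv D12387) F44300 F39145 (iv F44300)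
theorem F48671 : act 5 n12387 = n12387 := d22_2 F44302 D12387 (iv D12387)
theorem F48672 : act 7 n12387 = n12387 := d24_2 D11417 D12387 (iv D12387) (iv D11417) F39142
theorem F48673 : act 8 n12387 = n12387 := d25_2 F44303 D12387 (iv D12387)
def n12388 : Q := act 7 n11418
theorem D12388 : act 7 n11418 = n12388 := rfl
theorem F48674 : act 0 n12388 = n11504 := d6_1 D12388 (iv D11504) (iv F44304)
theorem F48675 : act 1 n12388 = n12388 := d13_1 D12388 (iv D12388) F44305
theorem F48676 : act 2 n12388 = n11420 := d19_1 D12388 (iv D11420) D11418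
theorem F48677 : act 4 n12388 = n12388 := d28_1 D12388 (iv D12388) F44306
theorem F48678 : act 5 n12388 = n11709 := d31_1 D12388 (iv D11709) (iv F44307)
def n12389 : Q := act 5 n11419
theorem D12389 : act 5 n11419 = n12389 := rfl
theorem F48679 : act 0 n12389 = n11505 := d4_1 D12389 (iv D11505) (iv F44309)
theorem F48680 : act 1 n12389 = n11435 := d11_1 D12389 (iv D11435) (iv F44310)
theorem F48681 : act 3 n12389 = n11421 := d22_1 D12389 (iv D11421) (iv F44311)
theorem F48682 : act 6 n12389 = n11710 := d30_2 D11419 D12389 (iv D11710) (iv D10275) (iv F39152)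
theorem F48683 : act 8 n12389 = n11631 := d32_2 (iv F44313) D12389 F45743
theorem F48684 : act 4 n12104 = n12389 := d29_3 F48683 (iv F45745) D12104
def n12390 : Q := act 7 n11419
theorem D12390 : act 7 n11419 = n12390 := rfl
theorem F48685 : act 0 n12390 = n11506 := d6_1 D12390 (iv D11506) (iv F44309)
theorem F48686 : act 1 n12390 = n11436 := d13_1 D12390 (iv D11436) (iv F44310)
theorem F48687 : act 4 n12390 = n12390 := d28_1 D12390 (iv D12390) F44312
theorem F48688 : act 6 n12390 = n11420 := d33_1 D12390 (iv D11420) D11419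
def n12391 : Q := act 3 n11420
theorem D12391 : act 3 n11420 = n12391 := rfl
theorem F48689 : act 0 n12391 = n11507 := d2_1 D12391 (iv D11507) (iv F44314)
theorem F48690 : act 1 n12391 = n11437 := d9_1 D12391 (iv D11437) (iv F44315)
theorem F48691 : act 5 n12391 = n11712 := d22_2 (iv F44317) D12391 (iv D11712)
theorem F48692 : act 7 n12391 = n11423 := d24_2 D11420 D12391 (iv D11423) (iv D10009) D10007
def n12392 : Q := act 8 n11420
theorem D12392 : act 8 n11420 = n12392 := rfl
theorem F48693 : act 0 n12392 = n11508 := d7_1 D12392 (iv D11508) (iv F44314)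
theorem F48694 : act 1 n12392 = n11438 := d14_1 D12392 (iv D11438) (iv F44315)
theorem F48695 : act 4 n12392 = n12392 := d29_1 D12392 (iv D12392) F44316
theorem F48696 : act 5 n12392 = n11713 := d32_1 D12392 (iv D11713) (iv F44317)
theorem F48697 : act 7 n12392 = n12211 := d35_1 D12392 (iv D12211) (iv D11244) (iv F39153) D11420
def n12393 : Q := act 7 n11421
theorem D12393 : act 7 n11421 = n12393 := rfl
theorem F48698 : act 0 n12393 = n11509 := d6_1 D12393 (iv D11509) (iv F44318)
theorem F48699 : act 1 n12393 = n11439 := d13_1 D12393 (iv D11439) (iv F44319)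
theorem F48700 : act 4 n12393 = n12393 := d28_1 D12393 (iv D12393) F44320
theorem F48701 : act 5 n12393 = n11422 := d31_1 D12393 (iv D11422) D11421
theorem F48702 : act 6 n12393 = n11714 := d33_1 D12393 (iv D11714) (iv F44321)
def n12394 : Q := act 3 n11422
theorem D12394 : act 3 n11422 = n12394 := rfl
theorem F48703 : act 0 n12394 = n11510 := d2_1 D12394 (iv D11510) (iv F44323)
theorem F48704 : act 1 n12394 = n11440 := d9_1 D12394 (iv D11440) (iv F44324)
theorem F48705 : act 6 n12394 = n11423 := d23_2 (iv F44326) D12394 (iv D11423)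
def n12395 : Q := act 8 n11422
theorem D12395 : act 8 n11422 = n12395 := rfl
theorem F48706 : act 0 n12395 = n11511 := d7_1 D12395 (iv D11511) (iv F44323)
theorem F48707 : act 1 n12395 = n11441 := d14_1 D12395 (iv D11441) (iv F44324)
theorem F48708 : act 4 n12395 = n11426 := d29_1 D12395 (iv D11426) (iv F44325)
theorem F48709 : act 6 n12395 = n11424 := d34_1 D12395 (iv D11424) (iv F44326)
theorem F48710 : act 7 n12395 = n11926 := d35_1 D12395 (iv D11926) F40787 (iv F39157) D11422
def n12396 : Q := act 2 n11423
theorem D12396 : act 2 n11423 = n12396 := rfl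
theorem F48711 : act 0 n12396 = n11512 := d1_1 D12396 (iv D11512) (iv F44327)
theorem F48712 : act 5 n12396 = n11717 := d17_2 (iv F44329) D12396 (iv D11717)
def n12397 : Q := act 4 n11423
theorem D12397 : act 4 n11423 = n12397 := rfl
theorem F48713 : act 0 n12397 = n11513 := d3_1 D12397 (iv D11513) (iv F44327)
theorem F48714 : act 1 n12397 = n11443 := d10_1 D12397 (iv D11443) (iv F44328)
theorem F48715 : act 3 n12397 = n11428 := d21_1 D12397 (iv D11428) (iv D10011) (iv F39160) D11423
def n12398 : Q := act 8 n11423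
theorem D12398 : act 8 n11423 = n12398 := rfl
theorem F48716 : act 0 n12398 = n11514 := d7_1 D12398 (iv D11514) (iv F44327)
theorem F48717 : act 1 n12398 = n11444 := d14_1 D12398 (iv D11444) (iv F44328)
theorem F48718 : act 3 n12398 = n11424 := d25_1 D12398 (iv D11424) D11423
theorem F48719 : act 5 n12398 = n11719 := d32_1 D12398 (iv D11719) (iv F44329)
def n12399 : Q := act 4 n11425
theorem D12399 : act 4 n11425 = n12399 := rfl
theorem F48720 : act 0 n12399 = n11516 := d3_1 D12399 (iv D11516) (iv F44335)
theorem F48721 : act 1 n12399 = n11445 := d10_1 D12399 (iv D11445) (iv F44336)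
theorem F48722 : act 6 n12399 = n11428 := d27_2 (iv F44338) D12399 (iv D11428)
theorem F48723 : act 7 n12399 = n12399 := d28_2 F44339 D12399 (iv D12399)
theorem F48724 : act 5 n12206 = n12399 := d11_0 F48721 F44621 D12206
def n12400 : Q := act 8 n11425
theorem D12400 : act 8 n11425 = n12400 := rfl
theorem F48725 : act 0 n12400 = n11517 := d7_1 D12400 (iv D11517) (iv F44335)
theorem F48726 : act 1 n12400 = n11446 := d14_1 D12400 (iv D11446) (iv F44336)
theorem F48727 : act 3 n12400 = n11426 := d25_1 D12400 (iv D11426) D11425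
theorem F48728 : act 5 n12400 = n12400 := d32_1 D12400 (iv D12400) F44337
theorem F48729 : act 6 n12400 = n11429 := d34_1 D12400 (iv D11429) (iv F44338)
def n12401 : Q := act 4 n11427
theorem D12401 : act 4 n11427 = n12401 := rfl
theorem F48730 : act 0 n12401 = n11518 := d3_1 D12401 (iv D11518) (iv F44345)
theorem F48731 : act 2 n12401 = n11428 := d16_1 D12401 (iv D11428) D11427
theorem F48732 : act 7 n12401 = n12401 := d28_2 F44347 D12401 (iv D12401)
def n12402 : Q := act 8 n11427
theorem D12402 : act 8 n11427 = n12402 := rfl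
theorem F48733 : act 0 n12402 = n11519 := d7_1 D12402 (iv D11519) (iv F44345)
theorem F48734 : act 2 n12402 = n11429 := d20_1 D12402 (iv D11429) D11427
theorem F48735 : act 5 n12402 = n11431 := d32_1 D12402 (iv D11431) (iv F44346)
def n12403 : Q := act 5 n11428
theorem D12403 : act 5 n11428 = n12403 := rfl
theorem F48736 : act 0 n12403 = n11520 := d4_1 D12403 (iv D11520) (iv F44348)
theorem F48737 : act 1 n12403 = n11447 := d11_1 D12403 (iv D11447) (iv F44349)
theorem F48738 : act 4 n12403 = n11432 := d26_1 D12403 (iv D11432) (iv D10014) (iv F39168) D11428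
theorem F48739 : act 7 n12403 = n12403 := d31_2 F44350 D12403 (iv D12403)
def n12404 : Q := act 8 n11428
theorem D12404 : act 8 n11428 = n12404 := rfl
theorem F48740 : act 0 n12404 = n11521 := d7_1 D12404 (iv D11521) (iv F44348)
theorem F48741 : act 1 n12404 = n11448 := d14_1 D12404 (iv D11448) (iv F44349)
theorem F48742 : act 4 n12404 = n11429 := d29_1 D12404 (iv D11429) D11428
def n12405 : Q := act 7 n11429
theorem D12405 : act 7 n11429 = n12405 := rfl
theorem F48743 : act 0 n12405 = n11522 := d6_1 D12405 (iv D11522) (iv F44351)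
theorem F48744 : act 1 n12405 = n11449 := d13_1 D12405 (iv D11449) (iv F44352)
theorem F48745 : act 3 n12405 = n12219 := d24_1 D12405 (iv D12219) F43709 (iv F39173) (iv F44353)
theorem F48746 : act 5 n12405 = n11434 := d31_1 D12405 (iv D11434) (iv F44354)
theorem F48747 : act 8 n12405 = n12405 := d35_2 D11429 D12405 (iv D12405) (iv D11429) F39169
def n12406 : Q := act 3 n11430
theorem D12406 : act 3 n11430 = n12406 := rfl
theorem F48748 : act 0 n12406 = n11523 := d2_1 D12406 (iv D11523) (iv F44355)
theorem F48749 : act 2 n12406 = n11728 := d15_1 D12406 (iv D11728) F40228 (iv F39179) (iv F44356)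
theorem F48750 : act 6 n12406 = n12406 := d23_2 F44357 D12406 (iv D12406)
def n12407 : Q := act 5 n11430
theorem D12407 : act 5 n11430 = n12407 := rfl
theorem F48751 : act 0 n12407 = n11524 := d4_1 D12407 (iv D11524) (iv F44355)
theorem F48752 : act 2 n12407 = n11432 := d17_1 D12407 (iv D11432) (iv F44356)
theorem F48753 : act 7 n12407 = n12407 := d31_2 F44358 D12407 (iv D12407)
def n12408 : Q := act 8 n11430
theorem D12408 : act 8 n11430 = n12408 := rfl
theorem F48754 : act 0 n12408 = n11525 := d7_1 D12408 (iv D11525) (iv F44355)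
theorem F48755 : act 2 n12408 = n11433 := d20_1 D12408 (iv D11433) (iv F44356)
theorem F48756 : act 4 n12408 = n11431 := d29_1 D12408 (iv D11431) D11430
theorem F48757 : act 6 n12408 = n12408 := d34_1 D12408 (iv D12408) F44357
def n12409 : Q := act 7 n11431
theorem D12409 : act 7 n11431 = n12409 := rfl
theorem F48758 : act 0 n12409 = n11526 := d6_1 D12409 (iv D11526) (iv F44359)
theorem F48759 : act 2 n12409 = n11434 := d19_1 D12409 (iv D11434) (iv F44360)
theorem F48760 : act 6 n12409 = n12409 := d33_1 D12409 (iv D12409) F44361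
theorem F48761 : act 8 n12409 = n12409 := d35_2 D11431 D12409 (iv D12409) (iv D11431) F39176
def n12410 : Q := act 6 n11432
theorem D12410 : act 6 n11432 = n12410 := rfl
theorem F48762 : act 0 n12410 = n11527 := d5_1 D12410 (iv D11527) (iv F44362)
theorem F48763 : act 1 n12410 = n11450 := d12_1 D12410 (iv D11450) (iv F44363)
theorem F48764 : act 3 n12410 = n11732 := d23_1 D12410 (iv D11732) (iv F44364)
theorem F48765 : act 5 n12410 = n12410 := d30_1 D12410 (iv D12410) (iv D11432) F39180 D11432
theorem F48766 : act 7 n12410 = n12410 := d33_2 F44365 D12410 (iv D12410)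
def n12411 : Q := act 8 n11432
theorem D12411 : act 8 n11432 = n12411 := rfl
theorem F48767 : act 0 n12411 = n11528 := d7_1 D12411 (iv D11528) (iv F44362)
theorem F48768 : act 1 n12411 = n11451 := d14_1 D12411 (iv D11451) (iv F44363)
theorem F48769 : act 3 n12411 = n11733 := d25_1 D12411 (iv D11733) (iv F44364)
theorem F48770 : act 5 n12411 = n11433 := d32_1 D12411 (iv D11433) D11432
def n12412 : Q := act 7 n11433
theorem D12412 : act 7 n11433 = n12412 := rfl
theorem F48771 : act 0 n12412 = n11529 := d6_1 D12412 (iv D11529) (iv F44366)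
theorem F48772 : act 1 n12412 = n11452 := d13_1 D12412 (iv D11452) (iv F44367)
theorem F48773 : act 4 n12412 = n11434 := d28_1 D12412 (iv D11434) (iv F44369)
theorem F48774 : act 6 n12412 = n12412 := d33_1 D12412 (iv D12412) F44370
theorem F48775 : act 8 n12412 = n12412 := d35_2 D11433 D12412 (iv D12412) (iv D11433) F39181
def n12413 : Q := act 7 n11435
theorem D12413 : act 7 n11435 = n12413 := rfl
theorem F48776 : act 0 n12413 = n11461 := d6_1 D12413 (iv D11461) (iv F44376)
theorem F48777 : act 2 n12413 = n12413 := d19_1 D12413 (iv D12413) F44377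
theorem F48778 : act 4 n12413 = n12107 := d28_1 D12413 (iv D12107) F45170
theorem F48779 : act 5 n12413 = n11436 := d31_1 D12413 (iv D11436) D11435
theorem F48780 : act 6 n12413 = n11735 := d33_1 D12413 (iv D11735) (iv F44379)
def n12414 : Q := act 3 n11436
theorem D12414 : act 3 n11436 = n12414 := rfl
theorem F48781 : act 0 n12414 = n11462 := d2_1 D12414 (iv D11462) (iv F44381)
theorem F48782 : act 6 n12414 = n11437 := d23_2 (iv F44384) D12414 (iv D11437)
theorem F48783 : act 7 n12414 = n11440 := d24_2 D11436 D12414 (iv D11440) (iv D10019) (iv F39188)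
def n12415 : Q := act 8 n11436
theorem D12415 : act 8 n11436 = n12415 := rfl
theorem F48784 : act 0 n12415 = n11463 := d7_1 D12415 (iv D11463) (iv F44381)
theorem F48785 : act 2 n12415 = n12415 := d20_1 D12415 (iv D12415) F44382
theorem F48786 : act 4 n12415 = n12415 := d29_1 D12415 (iv D12415) F44383
theorem F48787 : act 6 n12415 = n11438 := d34_1 D12415 (iv D11438) (iv F44384)
theorem F48788 : act 7 n12415 = n11976 := d35_1 D12415 (iv D11976) F40968 (iv F39190) D11436
def n12416 : Q := act 2 n11437
theorem D12416 : act 2 n11437 = n12416 := rfl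
theorem F48789 : act 0 n12416 = n11464 := d1_1 D12416 (iv D11464) (iv F44385)
theorem F48790 : act 3 n12416 = n12416 := d15_2 D11437 D12416 (iv D12416) (iv D11437) F39192
theorem F48791 : act 5 n12416 = n11738 := d17_2 (iv F44386) D12416 (iv D11738)
theorem F48792 : act 7 n12416 = n11442 := d19_2 (iv F44387) D12416 (iv D11442)
def n12417 : Q := act 4 n11437
theorem D12417 : act 4 n11437 = n12417 := rfl
theorem F48793 : act 0 n12417 = n11465 := d3_1 D12417 (iv D11465) (iv F44385)
theorem F48794 : act 3 n12417 = n12417 := d21_1 D12417 (iv D12417) (iv D11437) F39193 D11437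
theorem F48795 : act 7 n12417 = n11443 := d28_2 (iv F44387) D12417 (iv D11443)
def n12418 : Q := act 8 n11437
theorem D12418 : act 8 n11437 = n12418 := rfl
theorem F48796 : act 0 n12418 = n11466 := d7_1 D12418 (iv D11466) (iv F44385)
theorem F48797 : act 3 n12418 = n11438 := d25_1 D12418 (iv D11438) D11437
theorem F48798 : act 5 n12418 = n11740 := d32_1 D12418 (iv D11740) (iv F44386)
def n12419 : Q := act 3 n11439
theorem D12419 : act 3 n11439 = n12419 := rfl
theorem F48799 : act 0 n12419 = n11467 := d2_1 D12419 (iv D11467) (iv F44393)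
theorem F48800 : act 5 n12419 = n11440 := d22_2 (iv F44396) D12419 (iv D11440)
theorem F48801 : act 6 n12419 = n11741 := d23_2 (iv F44397) D12419 (iv D11741)
def n12420 : Q := act 8 n11439
theorem D12420 : act 8 n11439 = n12420 := rfl
theorem F48802 : act 0 n12420 = n11468 := d7_1 D12420 (iv D11468) (iv F44393)
theorem F48803 : act 2 n12420 = n11454 := d20_1 D12420 (iv D11454) (iv F44394)
theorem F48804 : act 4 n12420 = n12420 := d29_1 D12420 (iv D12420) F44395
theorem F48805 : act 5 n12420 = n11441 := d32_1 D12420 (iv D11441) (iv F44396)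
theorem F48806 : act 6 n12420 = n11742 := d34_1 D12420 (iv D11742) (iv F44397)
theorem F48807 : act 7 n12420 = n11601 := d35_1 D12420 (iv D11601) F39617 (iv F39199) D11439
def n12421 : Q := act 2 n11440
theorem D12421 : act 2 n11440 = n12421 := rfl
theorem F48808 : act 0 n12421 = n11469 := d1_1 D12421 (iv D11469) (iv F44398)
theorem F48809 : act 3 n12421 = n11455 := d15_2 D11440 D12421 (iv D11455) (iv D10030) (iv F39201)
theorem F48810 : act 6 n12421 = n11442 := d18_2 (iv F44399) D12421 (iv D11442)
theorem F48811 : act 4 n12151 = n12421 := d21_0 F48809 (iv F45182) (iv D11054) (iv F42944) D12151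
def n12422 : Q := act 4 n11440
theorem D12422 : act 4 n11440 = n12422 := rfl
theorem F48812 : act 0 n12422 = n11470 := d3_1 D12422 (iv D11470) (iv F44398)
theorem F48813 : act 2 n12422 = n12151 := d16_1 D12422 F48811 (iv D12421)
theorem F48814 : act 3 n12422 = n11445 := d21_1 D12422 (iv D11445) (iv D10022) (iv F39202) D11440
theorem F48815 : act 6 n12422 = n11443 := d27_2 (iv F44399) D12422 (iv D11443)
theorem F48816 : act 5 n12152 = n12422 := d22_0 F48814 F44621 (iv F47741)
def n12423 : Q := act 8 n11440
theorem D12423 : act 8 n11440 = n12423 := rfl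
theorem F48817 : act 0 n12423 = n11471 := d7_1 D12423 (iv D11471) (iv F44398)
theorem F48818 : act 3 n12423 = n11441 := d25_1 D12423 (iv D11441) D11440
theorem F48819 : act 6 n12423 = n11444 := d34_1 D12423 (iv D11444) (iv F44399)
def n12424 : Q := act 1 n11442
theorem D12424 : act 1 n11442 = n12424 := rfl
theorem F48820 : act 3 n12424 = n11457 := d9_2 (iv F44406) D12424 (iv D11457)
theorem F48821 : act 5 n12424 = n11746 := d11_2 (iv F44407) D12424 (iv D11746)
def n12425 : Q := act 4 n11442
theorem D12425 : act 4 n11442 = n12425 := rfl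
theorem F48822 : act 0 n12425 = n11473 := d3_1 D12425 (iv D11473) (iv F44405)
theorem F48823 : act 2 n12425 = n11443 := d16_1 D12425 (iv D11443) D11442
theorem F48824 : act 3 n12425 = n12150 := d21_1 D12425 F47736 F45179 F44160 (iv F44406)
theorem F48825 : act 6 n12425 = n12151 := d27_2 F48810 D12425 F48811
def n12426 : Q := act 8 n11442
theorem D12426 : act 8 n11442 = n12426 := rfl
theorem F48826 : act 0 n12426 = n11474 := d7_1 D12426 (iv D11474) (iv F44405)
theorem F48827 : act 2 n12426 = n11444 := d20_1 D12426 (iv D11444) D11442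
theorem F48828 : act 3 n12426 = n11458 := d25_1 D12426 (iv D11458) (iv F44406)
theorem F48829 : act 5 n12426 = n11748 := d32_1 D12426 (iv D11748) (iv F44407)
def n12427 : Q := act 5 n11443
theorem D12427 : act 5 n11443 = n12427 := rfl
theorem F48830 : act 0 n12427 = n11475 := d4_1 D12427 (iv D11475) (iv F44408)
theorem F48831 : act 3 n12427 = n11447 := d22_1 D12427 (iv D11447) (iv F44409)
theorem F48832 : act 4 n12427 = n11749 := d26_1 D12427 (iv D11749) (iv D10299) (iv F39205) D11443
def n12428 : Q := act 8 n11443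
theorem D12428 : act 8 n11443 = n12428 := rfl
theorem F48833 : act 0 n12428 = n11476 := d7_1 D12428 (iv D11476) (iv F44408)
theorem F48834 : act 3 n12428 = n11448 := d25_1 D12428 (iv D11448) (iv F44409)
theorem F48835 : act 4 n12428 = n11444 := d29_1 D12428 (iv D11444) D11443
def n12429 : Q := act 7 n11444
theorem D12429 : act 7 n11444 = n12429 := rfl
theorem F48836 : act 0 n12429 = n11477 := d6_1 D12429 (iv D11477) (iv F44410)
theorem F48837 : act 3 n12429 = n12235 := d24_1 D12429 (iv D12235) F43742 (iv F39210) (iv F44411)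
theorem F48838 : act 5 n12429 = n11751 := d31_1 D12429 (iv D11751) (iv F44412)
def n12430 : Q := act 8 n11445
theorem D12430 : act 8 n11445 = n12430 := rfl
theorem F48839 : act 0 n12430 = n11479 := d7_1 D12430 (iv D11479) (iv F44413)
theorem F48840 : act 2 n12430 = n12032 := d20_1 D12430 F47259 F44633
theorem F48841 : act 4 n12430 = n11446 := d29_1 D12430 (iv D11446) D11445
theorem F48842 : act 5 n12430 = n12033 := d32_1 D12430 F47262 (iv F44621)
theorem F48843 : act 6 n12430 = n11448 := d34_1 D12430 (iv D11448) (iv F44414)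
def n12431 : Q := act 7 n11446
theorem D12431 : act 7 n11446 = n12431 := rfl
theorem F48844 : act 0 n12431 = n11480 := d6_1 D12431 (iv D11480) (iv F44416)
theorem F48845 : act 3 n12431 = n12037 := d24_1 D12431 (iv D12037) F41178 (iv F39219) (iv F44417)
theorem F48846 : act 5 n12431 = n12431 := d31_1 D12431 (iv D12431) F44418
theorem F48847 : act 6 n12431 = n11449 := d33_1 D12431 (iv D11449) (iv F44419)
theorem F48848 : act 8 n12431 = n12431 := d35_2 D11446 D12431 (iv D12431) (iv D11446) F39214
def n12432 : Q := act 6 n11447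
theorem D12432 : act 6 n11447 = n12432 := rfl
theorem F48849 : act 0 n12432 = n11481 := d5_1 D12432 (iv D11481) (iv F44420)
theorem F48850 : act 2 n12432 = n12204 := d18_1 D12432 (iv F48511) F48508
theorem F48851 : act 4 n12432 = n11450 := d27_1 D12432 (iv D11450) (iv F44421)
theorem F48852 : act 5 n12432 = n12205 := d30_1 D12432 F47988 (iv F44621) F44414 D11447
theorem F48853 : act 7 n12432 = n12432 := d33_2 F44422 D12432 (iv D12432)
def n12433 : Q := act 8 n11447
theorem D12433 : act 8 n11447 = n12433 := rfl
theorem F48854 : act 0 n12433 = n11482 := d7_1 D12433 (iv D11482) (iv F44420)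
theorem F48855 : act 4 n12433 = n11451 := d29_1 D12433 (iv D11451) (iv F44421)
theorem F48856 : act 5 n12433 = n11448 := d32_1 D12433 (iv D11448) D11447
def n12434 : Q := act 7 n11448
theorem D12434 : act 7 n11448 = n12434 := rfl
theorem F48857 : act 0 n12434 = n11483 := d6_1 D12434 (iv D11483) (iv F44423)
theorem F48858 : act 4 n12434 = n11449 := d28_1 D12434 (iv D11449) (iv F44424)
theorem F48859 : act 8 n12434 = n12434 := d35_2 D11448 D12434 (iv D12434) (iv D11448) F39221
def n12435 : Q := act 8 n11450
theorem D12435 : act 8 n11450 = n12435 := rfl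
theorem F48860 : act 0 n12435 = n11484 := d7_1 D12435 (iv D11484) (iv F44429)
theorem F48861 : act 3 n12435 = n11757 := d25_1 D12435 (iv D11757) (iv F44430)
theorem F48862 : act 5 n12435 = n12435 := d32_1 D12435 (iv D12435) F44431
theorem F48863 : act 6 n12435 = n11451 := d34_1 D12435 (iv D11451) D11450
def n12436 : Q := act 7 n11451
theorem D12436 : act 7 n11451 = n12436 := rfl
theorem F48864 : act 0 n12436 = n11485 := d6_1 D12436 (iv D11485) (iv F44433)
theorem F48865 : act 5 n12436 = n11452 := d31_1 D12436 (iv D11452) (iv F44435)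
theorem F48866 : act 8 n12436 = n12436 := d35_2 D11451 D12436 (iv D12436) (iv D11451) F39227
def n12437 : Q := act 3 n11452
theorem D12437 : act 3 n11452 = n12437 := rfl
theorem F48867 : act 0 n12437 = n11486 := d2_1 D12437 (iv D11486) (iv F44436)
theorem F48868 : act 4 n12437 = n12241 := d21_2 (iv F44437) D12437 (iv D12241) F43763 (iv F39233)
theorem F48869 : act 6 n12437 = n12437 := d23_2 F44438 D12437 (iv D12437)
theorem F48870 : act 7 n12437 = n11759 := d24_2 D11452 D12437 (iv D11759) (iv D10308) (iv F39229)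
theorem F48871 : act 8 n12437 = n12437 := d25_2 F44439 D12437 (iv D12437)
def n12438 : Q := act 2 n11453
theorem D12438 : act 2 n11453 = n12438 := rfl
theorem F48872 : act 0 n12438 = n11487 := d1_1 D12438 (iv D11487) (iv F44440)
theorem F48873 : act 5 n12438 = n11455 := d17_2 (iv F44441) D12438 (iv D11455)
theorem F48874 : act 6 n12438 = n11703 := d18_2 (iv F44442) D12438 F46089
theorem F48875 : act 7 n12438 = n12438 := d19_2 F44443 D12438 (iv D12438)
theorem F48876 : act 4 n12108 = n12438 := d26_5 F48873 (iv F45182) F42952 (iv F42534) (iv F47588)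
def n12439 : Q := act 4 n11453
theorem D12439 : act 4 n11453 = n12439 := rfl
theorem F48877 : act 0 n12439 = n11488 := d3_1 D12439 (iv D11488) (iv F44440)
theorem F48878 : act 1 n12439 = n12382 := d10_1 D12439 F48648 F45216
theorem F48879 : act 2 n12439 = n12108 := d16_1 D12439 F48876 (iv D12438)
theorem F48880 : act 3 n12439 = n12439 := d21_1 D12439 (iv D12439) (iv D11453) F39237 D11453
theorem F48881 : act 5 n12439 = n12109 := d26_2 (iv F44441) D12439 F47593 (iv F45183) F44152
theorem F48882 : act 6 n12439 = n11660 := d27_2 (iv F44442) D12439 F45902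
theorem F48883 : act 7 n12439 = n12439 := d28_2 F44443 D12439 (iv D12439)
def n12440 : Q := act 8 n11453
theorem D12440 : act 8 n11453 = n12440 := rfl
theorem F48884 : act 0 n12440 = n11489 := d7_1 D12440 (iv D11489) (iv F44440)
theorem F48885 : act 3 n12440 = n11454 := d25_1 D12440 (iv D11454) D11453
theorem F48886 : act 5 n12440 = n11456 := d32_1 D12440 (iv D11456) (iv F44441)
theorem F48887 : act 6 n12440 = n11706 := d34_1 D12440 (iv D11706) (iv F44442)
def n12441 : Q := act 1 n11455
theorem D12441 : act 1 n11455 = n12441 := rfl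
theorem F48888 : act 4 n12441 = n12146 := d10_2 F45182 D12441 F47717
theorem F48889 : act 6 n12441 = n11457 := d12_2 (iv F44450) D12441 (iv D11457)
theorem F48890 : act 7 n12441 = n12441 := d13_2 F44451 D12441 (iv D12441)
def n12442 : Q := act 8 n11455
theorem D12442 : act 8 n11455 = n12442 := rfl
theorem F48891 : act 0 n12442 = n11491 := d7_1 D12442 (iv D11491) (iv F44449)
theorem F48892 : act 2 n12442 = n11456 := d20_1 D12442 (iv D11456) D11455
theorem F48893 : act 4 n12442 = n11924 := d29_1 D12442 F46855 F45182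
theorem F48894 : act 6 n12442 = n11458 := d34_1 D12442 (iv D11458) (iv F44450)
def n12443 : Q := act 7 n11456
theorem D12443 : act 7 n11456 = n12443 := rfl
theorem F48895 : act 0 n12443 = n11492 := d6_1 D12443 (iv D11492) (iv F44452)
theorem F48896 : act 3 n12443 = n11804 := d24_1 D12443 (iv D11804) F40432 (iv F39246) (iv F44453)
theorem F48897 : act 6 n12443 = n11459 := d33_1 D12443 (iv D11459) (iv F44454)
theorem F48898 : act 8 n12443 = n12443 := d35_2 D11456 D12443 (iv D12443) (iv D11456) F39242
def n12444 : Q := act 0 n11457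
theorem D12444 : act 0 n11457 = n12444 := rfl
theorem F48899 : act 1 n12444 = n11493 := d0_2 D11457 D12444 (iv D11493) (iv D10056) (iv F39247)
theorem F48900 : act 5 n12444 = n11763 := d4_2 (iv F44455) D12444 (iv D11763)
theorem F48901 : act 7 n12444 = n12444 := d6_2 F44456 D12444 (iv D12444)
def n12445 : Q := act 8 n11457
theorem D12445 : act 8 n11457 = n12445 := rfl
theorem F48902 : act 1 n12445 = n11458 := d14_1 D12445 (iv D11458) D11457
theorem F48903 : act 5 n12445 = n11764 := d32_1 D12445 (iv D11764) (iv F44455)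
def n12446 : Q := act 7 n11458
theorem D12446 : act 7 n11458 = n12446 := rfl
theorem F48904 : act 0 n12446 = n11495 := d6_1 D12446 (iv D11495) (iv F44457)
theorem F48905 : act 2 n12446 = n11459 := d19_1 D12446 (iv D11459) (iv F44458)
theorem F48906 : act 5 n12446 = n11765 := d31_1 D12446 (iv D11765) (iv F44459)
theorem F48907 : act 8 n12446 = n12446 := d35_2 D11458 D12446 (iv D12446) (iv D11458) F39249
def n12447 : Q := act 3 n11461
theorem D12447 : act 3 n11461 = n12447 := rfl
theorem F48908 : act 1 n12447 = n11562 := d9_1 D12447 (iv D11562) (iv F44470)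
theorem F48909 : act 4 n12447 = n11695 := d21_2 (iv F45171) D12447 F46061 (iv F45879) F45878
theorem F48910 : act 5 n12447 = n11462 := d22_2 (iv F44472) D12447 (iv D11462)
theorem F48911 : act 6 n12447 = n11766 := d23_2 (iv F44473) D12447 (iv D11766)
theorem F48912 : act 7 n12447 = n11467 := d24_2 D11461 D12447 (iv D11467) (iv D10038) (iv F39255)
theorem F48913 : act 2 n11776 = n12447 := d16_3 F48909 F46060 D11776
def n12448 : Q := act 8 n11461
theorem D12448 : act 8 n11461 = n12448 := rfl
theorem F48914 : act 1 n12448 = n11563 := d14_1 D12448 (iv D11563) (iv F44470)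
theorem F48915 : act 2 n12448 = n12448 := d20_1 D12448 (iv D12448) F44471
theorem F48916 : act 4 n12448 = n11850 := d29_1 D12448 F46618 (iv F45171)
theorem F48917 : act 5 n12448 = n11463 := d32_1 D12448 (iv D11463) (iv F44472)
theorem F48918 : act 6 n12448 = n11767 := d34_1 D12448 (iv D11767) (iv F44473)
theorem F48919 : act 7 n12448 = n11638 := d35_1 D12448 (iv D11638) F39778 (iv F39257) D11461
def n12449 : Q := act 2 n11462
theorem D12449 : act 2 n11462 = n12449 := rfl
theorem F48920 : act 1 n12449 = n11845 := d8_1 D12449 F46603 F45469 (iv D11564) (iv F44474)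
theorem F48921 : act 3 n12449 = n12449 := d15_2 D11462 D12449 (iv D12449) (iv D11462) F39259
theorem F48922 : act 5 n12449 = n11776 := d17_2 F48910 D12449 F48913
theorem F48923 : act 6 n12449 = n11464 := d18_2 (iv F44475) D12449 (iv D11464)
theorem F48924 : act 7 n12449 = n11469 := d19_2 (iv F44476) D12449 (iv D11469)
theorem F48925 : act 4 n11780 = n12449 := d28_3 F48924 (iv F44572) (iv F46372)
def n12450 : Q := act 4 n11462
theorem D12450 : act 4 n11462 = n12450 := rfl
theorem F48926 : act 1 n12450 = n11565 := d10_1 D12450 (iv D11565) (iv F44474)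
theorem F48927 : act 2 n12450 = n11780 := d16_1 D12450 F48925 (iv D12449)
theorem F48928 : act 3 n12450 = n12450 := d21_1 D12450 (iv D12450) (iv D11462) F39260 D11462
theorem F48929 : act 5 n12450 = n11778 := d26_2 F48910 D12450 (iv D11778) (iv F46062) (iv F48909)
theorem F48930 : act 6 n12450 = n11465 := d27_2 (iv F44475) D12450 (iv D11465)
theorem F48931 : act 7 n12450 = n11470 := d28_2 (iv F44476) D12450 (iv D11470)
def n12451 : Q := act 8 n11462
theorem D12451 : act 8 n11462 = n12451 := rfl
theorem F48932 : act 1 n12451 = n11566 := d14_1 D12451 (iv D11566) (iv F44474)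
theorem F48933 : act 3 n12451 = n11463 := d25_1 D12451 (iv D11463) D11462
theorem F48934 : act 6 n12451 = n11466 := d34_1 D12451 (iv D11466) (iv F44475)
def n12452 : Q := act 1 n11464
theorem D12452 : act 1 n11464 = n12452 := rfl
theorem F48935 : act 2 n12452 = n11567 := d8_2 D11464 D12452 (iv D11567) (iv D10111) (iv F39262)
theorem F48936 : act 3 n12452 = n12452 := d9_2 F44482 D12452 (iv D12452)
theorem F48937 : act 5 n12452 = n11770 := d11_2 (iv F44483) D12452 (iv D11770)
theorem F48938 : act 6 n12452 = n11845 := d12_2 F48923 D12452 (iv F48920)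
theorem F48939 : act 7 n12452 = n11472 := d13_2 (iv F44484) D12452 (iv D11472)
theorem F48940 : act 4 n11938 = n12452 := d27_3 F48938 F46605 D11938
def n12453 : Q := act 4 n11464
theorem D12453 : act 4 n11464 = n12453 := rfl
theorem F48941 : act 1 n12453 = n11938 := d10_1 D12453 F48940 (iv D12452)
theorem F48942 : act 2 n12453 = n11465 := d16_1 D12453 (iv D11465) D11464
theorem F48943 : act 6 n12453 = n11780 := d27_2 F48923 D12453 F48925
theorem F48944 : act 7 n12453 = n11473 := d28_2 (iv F44484) D12453 (iv D11473)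
theorem F48945 : act 3 n12453 = n11792 := d36_5 (iv D10329) (iv F40341) F40340 (iv F44483) D12453 F46403 F40847 F38587 D9958 D11350 D12341 (iv F48578) F48577 F44221 F44219 F44220 F39302 F38767 (iv D9899) F29671 F21983 (iv F17671) (iv F23821) F23820 F17872 F17873 (iv D3338) (iv D2444) F7399 D1926 D2632 D3595 (iv F18848) F18849 (iv D4844) F13999 D3569 D4884 F19001 D6693 F25683 F19014 F14350 F10898 D3697 D5055 D6913 (iv F35816) F44608 (iv D9988) F31265 F31266 F23156 D6025 (iv F38556) F18520 F18521 (iv F24338) (iv F32484) F32483 F23996 F17799 (iv D3325) (iv D2436) F7378 (iv F9617) (iv D2370) F7202 (iv F7197) F7198 (iv F9605) F9606 D3052 F12193 F12194 (iv F9811) (iv F13075) F13074 F9782 F9783 D2424 F9835 F7386 (iv F9877) (iv F13219) (iv F17799) (iv F23978) (iv F32456) (iv F40368)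
theorem F48946 : act 5 n11789 = n12453 := d22_0 F48945 F46406 (iv F46397)
def n12454 : Q := act 8 n11464
theorem D12454 : act 8 n11464 = n12454 := rfl
theorem F48947 : act 2 n12454 = n11466 := d20_1 D12454 (iv D11466) D11464
theorem F48948 : act 3 n12454 = n12454 := d25_1 D12454 (iv D12454) F44482
theorem F48949 : act 5 n12454 = n11772 := d32_1 D12454 (iv D11772) (iv F44483)
def n12455 : Q := act 5 n11465
theorem D12455 : act 5 n11465 = n12455 := rfl
theorem F48950 : act 1 n12455 = n11570 := d11_1 D12455 (iv D11570) (iv F44485)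
theorem F48951 : act 2 n12455 = n11789 := d17_1 D12455 F48946 F48942
theorem F48952 : act 3 n12455 = n12455 := d22_1 D12455 (iv D12455) F44486
theorem F48953 : act 4 n12455 = n11773 := d26_1 D12455 (iv D11773) (iv D10320) (iv F39263) D11465
theorem F48954 : act 6 n12455 = n11786 := d30_2 F48930 D12455 (iv D11786) (iv F46364) (iv F48929)
theorem F48955 : act 7 n12455 = n11475 := d31_2 (iv F44487) D12455 (iv D11475)
def n12456 : Q := act 8 n11465
theorem D12456 : act 8 n11465 = n12456 := rfl
theorem F48956 : act 1 n12456 = n11571 := d14_1 D12456 (iv D11571) (iv F44485)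
theorem F48957 : act 3 n12456 = n12456 := d25_1 D12456 (iv D12456) F44486
theorem F48958 : act 4 n12456 = n11466 := d29_1 D12456 (iv D11466) D11465
def n12457 : Q := act 7 n11466
theorem D12457 : act 7 n11466 = n12457 := rfl
theorem F48959 : act 1 n12457 = n11572 := d13_1 D12457 (iv D11572) (iv F44488)
theorem F48960 : act 3 n12457 = n12246 := d24_1 D12457 (iv D12246) F43782 (iv F39269) (iv F44489)
theorem F48961 : act 5 n12457 = n11775 := d31_1 D12457 (iv D11775) (iv F44490)
theorem F48962 : act 8 n12457 = n11477 := d35_2 D11466 D12457 (iv D11477) (iv D10043) (iv F39264)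
def n12458 : Q := act 2 n11467
theorem D12458 : act 2 n11467 = n12458 := rfl
theorem F48963 : act 1 n12458 = n11693 := d8_1 D12458 (iv D11693) F40113 (iv F39545) (iv F44491)
theorem F48964 : act 3 n12458 = n11487 := d15_2 D11467 D12458 (iv D11487) (iv D10052) (iv F39271)
theorem F48965 : act 5 n12458 = n11469 := d17_2 (iv F44492) D12458 (iv D11469)
theorem F48966 : act 6 n12458 = n11695 := d18_2 (iv F44493) D12458 F46060
theorem F48967 : act 7 n12458 = n11776 := d19_2 F48912 D12458 F48913
theorem F48968 : act 4 n11766 = n12458 := d28_3 F48967 (iv D11776) (iv F46322)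
def n12459 : Q := act 4 n11467
theorem D12459 : act 4 n11467 = n12459 := rfl
theorem F48969 : act 1 n12459 = n11573 := d10_1 D12459 (iv D11573) (iv F44491)
theorem F48970 : act 2 n12459 = n11766 := d16_1 D12459 F48968 (iv D12458)
theorem F48971 : act 3 n12459 = n12459 := d21_1 D12459 (iv D12459) (iv D11467) F39272 D11467
theorem F48972 : act 5 n12459 = n11768 := d26_2 (iv F44492) D12459 F46330 (iv F44622) (iv D11470)
theorem F48973 : act 6 n12459 = n11776 := d27_2 (iv F44493) D12459 (iv D11776)
theorem F48974 : act 7 n12459 = n11695 := d28_2 F48912 D12459 (iv F48909)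
def n12460 : Q := act 8 n11467
theorem D12460 : act 8 n11467 = n12460 := rfl
theorem F48975 : act 1 n12460 = n11574 := d14_1 D12460 (iv D11574) (iv F44491)
theorem F48976 : act 3 n12460 = n11468 := d25_1 D12460 (iv D11468) D11467
theorem F48977 : act 5 n12460 = n11471 := d32_1 D12460 (iv D11471) (iv F44492)
theorem F48978 : act 6 n12460 = n11777 := d34_1 D12460 (iv D11777) (iv F44493)
def n12461 : Q := act 1 n11469
theorem D12461 : act 1 n11469 = n12461 := rfl
theorem F48979 : act 2 n12461 = n11575 := d8_2 D11469 D12461 (iv D11575) (iv D10116) (iv F39275)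
theorem F48980 : act 3 n12461 = n11490 := d9_2 (iv F44500) D12461 (iv D11490)
theorem F48981 : act 4 n12461 = n11927 := d10_2 F44572 D12461 F46865
theorem F48982 : act 5 n12461 = n11693 := d11_2 F48965 D12461 (iv F48963)
theorem F48983 : act 6 n12461 = n11472 := d12_2 (iv F44501) D12461 (iv D11472)
theorem F48984 : act 7 n12461 = n11845 := d13_2 F48924 D12461 (iv F48920)
def n12462 : Q := act 8 n11469
theorem D12462 : act 8 n11469 = n12462 := rfl
theorem F48985 : act 2 n12462 = n11471 := d20_1 D12462 (iv D11471) D11469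
theorem F48986 : act 3 n12462 = n11491 := d25_1 D12462 (iv D11491) (iv F44500)
theorem F48987 : act 4 n12462 = n11955 := d29_1 D12462 F46948 F44572
theorem F48988 : act 6 n12462 = n11474 := d34_1 D12462 (iv D11474) (iv F44501)
def n12463 : Q := act 8 n11470
theorem D12463 : act 8 n11470 = n12463 := rfl
theorem F48989 : act 1 n12463 = n11579 := d14_1 D12463 (iv D11579) (iv F44502)
theorem F48990 : act 2 n12463 = n11955 := d20_1 D12463 F46948 (iv F44573)
theorem F48991 : act 3 n12463 = n11479 := d25_1 D12463 (iv D11479) (iv F44503)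
theorem F48992 : act 4 n12463 = n11471 := d29_1 D12463 (iv D11471) D11470
theorem F48993 : act 5 n12463 = n11956 := d32_1 D12463 F46950 (iv F44622)
theorem F48994 : act 6 n12463 = n11476 := d34_1 D12463 (iv D11476) (iv F44504)
def n12464 : Q := act 7 n11471
theorem D12464 : act 7 n11471 = n12464 := rfl
theorem F48995 : act 1 n12464 = n11580 := d13_1 D12464 (iv D11580) (iv F44505)
theorem F48996 : act 3 n12464 = n11945 := d24_1 D12464 (iv D11945) F40833 (iv F39281) (iv F44506)
theorem F48997 : act 6 n12464 = n11477 := d33_1 D12464 (iv D11477) (iv F44507)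
def n12465 : Q := act 0 n11472
theorem D12465 : act 0 n11472 = n12465 := rfl
theorem F48998 : act 2 n12465 = n11581 := d1_2 (iv F44508) D12465 (iv D11581)
theorem F48999 : act 3 n12465 = n11493 := d2_2 (iv F44509) D12465 (iv D11493)
theorem F49000 : act 5 n12465 = n11783 := d4_2 (iv F44510) D12465 (iv D11783)
def n12466 : Q := act 4 n11472
theorem D12466 : act 4 n11472 = n12466 := rfl
theorem F49001 : act 1 n12466 = n11473 := d10_1 D12466 (iv D11473) D11472
theorem F49002 : act 2 n12466 = n11582 := d16_1 D12466 (iv D11582) (iv F44508)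
theorem F49003 : act 3 n12466 = n12092 := d21_1 D12466 F47520 F45189 F44255 (iv F44509)
theorem F49004 : act 6 n12466 = n11927 := d27_2 F48983 D12466 (iv F48981)
theorem F49005 : act 7 n12466 = n11938 := d28_2 F48939 D12466 F48940
theorem F49006 : act 5 n11935 = n12466 := d36_3 F44655 (iv F42980) (iv F46892) (iv D12466) F44509 (iv D10056) (iv D8248) (iv D6023) D6024 F23269 (iv F29697) (iv F32259) (iv F39968) F39967 F32082 F23735 (iv F32111) (iv D8422) F23733 (iv D6146) F17611 F17610 F13096 (iv F13139) (iv F17664) D6164 D8450 F44862 F44810 F32426 (iv F32437) D10341 F40408 D10486 F40872 F33790 F26475 F19699 F44590 F23150 F17193 F12799 F9586 F7184 F7188 F7187 F5426 F4103 F4102 F3134 F3133 (iv F4126) (iv F5483) (iv F38159) (iv D989) F3233 (iv D535) (iv D394) (iv F1790) D517 F2358 F2359 (iv F2415) F2414 F2412 (iv F2973) D902 D1222 F5184 (iv F5167) (iv D1218) (iv F4078) (iv F5402) D1733 D2361 D3215 F12806 (iv F17188) (iv F23128) (iv F44610) F19695 (iv D5069) (iv F19633) F19634 (iv F26459) F26458 F26457 (iv F35380) (iv F44654)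
def n12467 : Q := act 8 n11472
theorem D12467 : act 8 n11472 = n12467 := rfl
theorem F49007 : act 1 n12467 = n11474 := d14_1 D12467 (iv D11474) D11472
theorem F49008 : act 2 n12467 = n11583 := d20_1 D12467 (iv D11583) (iv F44508)
theorem F49009 : act 3 n12467 = n11494 := d25_1 D12467 (iv D11494) (iv F44509)
theorem F49010 : act 5 n12467 = n11785 := d32_1 D12467 (iv D11785) (iv F44510)
def n12468 : Q := act 5 n11473
theorem D12468 : act 5 n11473 = n12468 := rfl
theorem F49011 : act 1 n12468 = n11935 := d11_1 D12468 F49006 F49001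
theorem F49012 : act 2 n12468 = n11475 := d17_1 D12468 (iv D11475) (iv F44511)
theorem F49013 : act 3 n12468 = n12091 := d22_1 D12468 F47516 F44620
theorem F49014 : act 4 n12468 = n11786 := d26_1 D12468 (iv D11786) (iv D10328) (iv F39283) D11473
theorem F49015 : act 6 n12468 = n11773 := d30_2 (iv F44619) D12468 (iv D11773) F44725 (iv F43025)
theorem F49016 : act 7 n12468 = n11789 := d31_2 F48944 D12468 F48946
def n12469 : Q := act 8 n11473
theorem D12469 : act 8 n11473 = n12469 := rfl
theorem F49017 : act 2 n12469 = n11476 := d20_1 D12469 (iv D11476) (iv F44511)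
theorem F49018 : act 3 n12469 = n11954 := d25_1 D12469 F46946 F44620
theorem F49019 : act 4 n12469 = n11474 := d29_1 D12469 (iv D11474) D11473
theorem F49020 : act 6 n12469 = n11955 := d34_1 D12469 F46948 (iv F44619)
def n12470 : Q := act 7 n11474
theorem D12470 : act 7 n11474 = n12470 := rfl
theorem F49021 : act 2 n12470 = n11477 := d19_1 D12470 (iv D11477) (iv F44512)
theorem F49022 : act 5 n12470 = n11788 := d31_1 D12470 (iv D11788) (iv F44514)
def n12471 : Q := act 6 n11475
theorem D12471 : act 6 n11475 = n12471 := rfl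
theorem F49023 : act 1 n12471 = n11587 := d12_1 D12471 (iv D11587) (iv F44515)
theorem F49024 : act 2 n12471 = n11773 := d18_1 D12471 (iv F49015) F49012
theorem F49025 : act 3 n12471 = n11481 := d23_1 D12471 (iv D11481) (iv F44516)
theorem F49026 : act 4 n12471 = n11789 := d27_1 D12471 (iv D11789) (iv F44517)
theorem F49027 : act 5 n12471 = n11771 := d30_1 D12471 F46342 (iv F44622) F44504 D11475
theorem F49028 : act 7 n12471 = n11786 := d33_2 F48955 D12471 (iv F48954)
def n12472 : Q := act 8 n11475
theorem D12472 : act 8 n11475 = n12472 := rfl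
theorem F49029 : act 1 n12472 = n11588 := d14_1 D12472 (iv D11588) (iv F44515)
theorem F49030 : act 3 n12472 = n11482 := d25_1 D12472 (iv D11482) (iv F44516)
theorem F49031 : act 4 n12472 = n11790 := d29_1 D12472 (iv D11790) (iv F44517)
theorem F49032 : act 5 n12472 = n11476 := d32_1 D12472 (iv D11476) D11475
def n12473 : Q := act 7 n11476
theorem D12473 : act 7 n11476 = n12473 := rfl
theorem F49033 : act 1 n12473 = n11589 := d13_1 D12473 (iv D11589) (iv F44518)
theorem F49034 : act 4 n12473 = n11477 := d28_1 D12473 (iv D11477) (iv F44520)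
def n12474 : Q := act 7 n11479
theorem D12474 : act 7 n11479 = n12474 := rfl
theorem F49035 : act 1 n12474 = n11592 := d13_1 D12474 (iv D11592) (iv F44527)
theorem F49036 : act 2 n12474 = n12045 := d19_1 D12474 F47313 F44625
theorem F49037 : act 4 n12474 = n11480 := d28_1 D12474 (iv D11480) (iv F44528)
theorem F49038 : act 5 n12474 = n12046 := d31_1 D12474 F47317 (iv F44624)
theorem F49039 : act 6 n12474 = n11483 := d33_1 D12474 (iv D11483) (iv F44529)
theorem F49040 : act 8 n12474 = n12474 := d35_2 D11479 D12474 (iv D12474) (iv D11479) F39291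
def n12475 : Q := act 8 n11481
theorem D12475 : act 8 n11481 = n12475 := rfl
theorem F49041 : act 1 n12475 = n11593 := d14_1 D12475 (iv D11593) (iv F44535)
theorem F49042 : act 2 n12475 = n12048 := d20_1 D12475 F47327 F44629
theorem F49043 : act 4 n12475 = n11484 := d29_1 D12475 (iv D11484) (iv F44536)
theorem F49044 : act 5 n12475 = n12049 := d32_1 D12475 F47331 (iv F44623)
theorem F49045 : act 6 n12475 = n11482 := d34_1 D12475 (iv D11482) D11481
theorem F49046 : act 7 n12342 = n12475 := d31_0 F49044 F47330 (iv F48432)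
def n12476 : Q := act 7 n11482
theorem D12476 : act 7 n11482 = n12476 := rfl
theorem F49047 : act 1 n12476 = n11594 := d13_1 D12476 (iv D11594) (iv F44538)
theorem F49048 : act 2 n12476 = n12341 := d19_1 D12476 F48573 F48568
theorem F49049 : act 4 n12476 = n11485 := d28_1 D12476 (iv D11485) (iv F44539)
theorem F49050 : act 5 n12476 = n11483 := d31_1 D12476 (iv D11483) (iv F44540)
theorem F49051 : act 6 n12476 = n12342 := d33_1 D12476 F49046 F49045
theorem F49052 : act 8 n12476 = n12476 := d35_2 D11482 D12476 (iv D12476) (iv D11482) F39298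
def n12477 : Q := act 3 n11483
theorem D12477 : act 3 n11483 = n12477 := rfl
theorem F49053 : act 1 n12477 = n11595 := d9_1 D12477 (iv D11595) (iv F44541)
theorem F49054 : act 4 n12477 = n12253 := d21_2 (iv F44542) D12477 (iv D12253) F43803 (iv F39302)
theorem F49055 : act 8 n12477 = n12477 := d25_2 F44543 D12477 (iv D12477)
def n12478 : Q := act 7 n11484
theorem D12478 : act 7 n11484 = n12478 := rfl
theorem F49056 : act 1 n12478 = n11596 := d13_1 D12478 (iv D11596) (iv F44544)
theorem F49057 : act 2 n12478 = n12343 := d19_1 D12478 F48587 F48582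
theorem F49058 : act 4 n12478 = n12342 := d28_1 D12478 F49046 F49043
theorem F49059 : act 5 n12478 = n12478 := d31_1 D12478 (iv D12478) F44546
theorem F49060 : act 6 n12478 = n11485 := d33_1 D12478 (iv D11485) (iv F44547)
theorem F49061 : act 8 n12478 = n12478 := d35_2 D11484 D12478 (iv D12478) (iv D11484) F39308
def n12479 : Q := act 3 n11485
theorem D12479 : act 3 n11485 = n12479 := rfl
theorem F49062 : act 1 n12479 = n11597 := d9_1 D12479 (iv D11597) (iv F44548)
theorem F49063 : act 5 n12479 = n11486 := d22_2 (iv F44549) D12479 (iv D11486)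
theorem F49064 : act 7 n12479 = n11798 := d24_2 D11485 D12479 (iv D11798) (iv D10340) (iv F39310)
theorem F49065 : act 8 n12479 = n12479 := d25_2 F44550 D12479 (iv D12479)
def n12480 : Q := act 2 n11486
theorem D12480 : act 2 n11486 = n12480 := rfl
theorem F49066 : act 4 n12480 = n12256 := d16_2 (iv F44552) D12480 (iv D12256)
theorem F49067 : act 6 n12480 = n12480 := d18_2 F44553 D12480 (iv D12480)
theorem F49068 : act 7 n12480 = n11799 := d19_2 (iv F44554) D12480 (iv D11799)
theorem F49069 : act 8 n12480 = n12480 := d20_2 F44555 D12480 (iv D12480)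
def n12481 : Q := act 8 n11487
theorem D12481 : act 8 n11487 = n12481 := rfl
theorem F49070 : act 1 n12481 = n11701 := d14_1 D12481 (iv D11701) (iv F44556)
theorem F49071 : act 2 n12481 = n11489 := d20_1 D12481 (iv D11489) D11487
theorem F49072 : act 4 n12481 = n11851 := d29_1 D12481 F46621 F45173
theorem F49073 : act 5 n12481 = n11491 := d32_1 D12481 (iv D11491) (iv F44557)
theorem F49074 : act 6 n12481 = n11704 := d34_1 D12481 (iv D11704) (iv F44558)
theorem F49075 : act 7 n12307 = n12481 := d28_0 F49072 F46620 D12307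
def n12482 : Q := act 8 n11488
theorem D12482 : act 8 n11488 = n12482 := rfl
theorem F49076 : act 1 n12482 = n11496 := d14_1 D12482 (iv D11496) (iv F44560)
theorem F49077 : act 2 n12482 = n11851 := d20_1 D12482 F46621 (iv F45172)
theorem F49078 : act 3 n12482 = n12482 := d25_1 D12482 (iv D12482) F44561
theorem F49079 : act 4 n12482 = n11489 := d29_1 D12482 (iv D11489) D11488
theorem F49080 : act 5 n12482 = n11852 := d32_1 D12482 F46626 F45174
theorem F49081 : act 6 n12482 = n11661 := d34_1 D12482 (iv D11661) (iv F44562)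
theorem F49082 : act 7 n12306 = n12482 := d31_0 F49080 F46625 (iv F48298)
def n12483 : Q := act 7 n11489
theorem D12483 : act 7 n11489 = n12483 := rfl
theorem F49083 : act 1 n12483 = n11497 := d13_1 D12483 (iv D11497) (iv F44564)
theorem F49084 : act 2 n12483 = n12307 := d19_1 D12483 F49075 F49071
theorem F49085 : act 3 n12483 = n11502 := d24_1 D12483 (iv D11502) F39364 (iv F39324) (iv F44565)
theorem F49086 : act 4 n12483 = n12306 := d28_1 D12483 F49082 F49079
theorem F49087 : act 5 n12483 = n11492 := d31_1 D12483 (iv D11492) (iv F44566)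
theorem F49088 : act 6 n12483 = n11707 := d33_1 D12483 (iv D11707) (iv F44567)
theorem F49089 : act 8 n12483 = n12483 := d35_2 D11489 D12483 (iv D12483) (iv D11489) F39319
theorem F49090 : act 3 n12348 = n12386 := d21_3 F49086 F48297 D12348 F48667 (iv F49085)
theorem F49091 : act 1 n12387 = n12348 := d9_3 F49090 F48666 D12387
theorem F49092 : act 4 n12347 = n12387 := d10_0 F49091 (iv D12348) D12347
def n12484 : Q := act 0 n11490
theorem D12484 : act 0 n11490 = n12484 := rfl
theorem F49093 : act 2 n12484 = n11498 := d1_2 (iv F44568) D12484 (iv D11498)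
theorem F49094 : act 4 n12484 = n12089 := d3_2 (iv F45187) D12484 F47506
theorem F49095 : act 5 n12484 = n11687 := d4_2 (iv F44569) D12484 F46029
theorem F49096 : act 6 n12484 = n11493 := d5_2 (iv F44570) D12484 (iv D11493)
theorem F49097 : act 7 n12484 = n12484 := d6_2 F44571 D12484 (iv D12484)
def n12485 : Q := act 8 n11490
theorem D12485 : act 8 n11490 = n12485 := rfl
theorem F49098 : act 1 n12485 = n11491 := d14_1 D12485 (iv D11491) D11490
theorem F49099 : act 2 n12485 = n11499 := d20_1 D12485 (iv D11499) (iv F44568)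
theorem F49100 : act 4 n12485 = n11798 := d29_1 D12485 F46434 (iv F45187)
theorem F49101 : act 5 n12485 = n11701 := d32_1 D12485 (iv D11701) (iv F44569)
theorem F49102 : act 6 n12485 = n11494 := d34_1 D12485 (iv D11494) (iv F44570)
def n12486 : Q := act 7 n11491
theorem D12486 : act 7 n11491 = n12486 := rfl
theorem F49103 : act 2 n12486 = n11492 := d19_1 D12486 (iv D11492) (iv F45190)
theorem F49104 : act 4 n12486 = n11597 := d28_1 D12486 F45583 (iv F45191)
theorem F49105 : act 5 n12486 = n12307 := d31_1 D12486 F49075 F49073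
theorem F49106 : act 6 n12486 = n11495 := d33_1 D12486 (iv D11495) (iv F45192)
theorem F49107 : act 8 n12486 = n12486 := d35_2 D11491 D12486 (iv D12486) (iv D11491) F39326
def n12487 : Q := act 8 n11493
theorem D12487 : act 8 n11493 = n12487 := rfl
theorem F49108 : act 0 n12487 = n11494 := d7_1 D12487 (iv D11494) D11493
theorem F49109 : act 2 n12487 = n11501 := d20_1 D12487 (iv D11501) (iv F45197)
theorem F49110 : act 5 n12487 = n11801 := d32_1 D12487 (iv D11801) (iv F45198)
def n12488 : Q := act 7 n11494
theorem D12488 : act 7 n11494 = n12488 := rfl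
theorem F49111 : act 1 n12488 = n11495 := d13_1 D12488 (iv D11495) (iv F45200)
theorem F49112 : act 2 n12488 = n11502 := d19_1 D12488 (iv D11502) (iv F45201)
theorem F49113 : act 5 n12488 = n11802 := d31_1 D12488 (iv D11802) (iv F45202)
theorem F49114 : act 8 n12488 = n12488 := d35_2 D11494 D12488 (iv D12488) (iv D11494) F39332
def n12489 : Q := act 3 n11495
theorem D12489 : act 3 n11495 = n12489 := rfl
theorem F49115 : act 2 n12489 = n12257 := d15_1 D12489 (iv D12257) F43816 (iv F39336) (iv F45203)
theorem F49116 : act 5 n12489 = n11803 := d22_2 (iv F45204) D12489 (iv D11803)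
theorem F49117 : act 8 n12489 = n12489 := d25_2 F45205 D12489 (iv D12489)
def n12490 : Q := act 7 n11496
theorem D12490 : act 7 n11496 = n12490 := rfl
theorem F49118 : act 0 n12490 = n12384 := d6_1 D12490 (iv D12384) (iv F45206)
theorem F49119 : act 1 n12490 = n12306 := d13_1 D12490 F49082 F49076
theorem F49120 : act 2 n12490 = n11659 := d19_1 D12490 (iv D11659) (iv F45207)
theorem F49121 : act 4 n12490 = n11497 := d28_1 D12490 (iv D11497) (iv F45209)
theorem F49122 : act 5 n12490 = n12308 := d31_1 D12490 F48639 F48637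
theorem F49123 : act 6 n12490 = n11662 := d33_1 D12490 (iv D11662) (iv F45210)
theorem F49124 : act 8 n12490 = n12490 := d35_2 D11496 D12490 (iv D12490) (iv D11496) F39343
theorem F49125 : act 3 n12347 = n12490 := d22_3 F49122 F48301 (iv F48450)
def n12491 : Q := act 8 n11498
theorem D12491 : act 8 n11498 = n12491 := rfl
theorem F49126 : act 0 n12491 = n11499 := d7_1 D12491 (iv D11499) D11498
theorem F49127 : act 1 n12491 = n12440 := d14_1 D12491 (iv D12440) (iv F45216)
theorem F49128 : act 3 n12491 = n11602 := d25_1 D12491 (iv D11602) (iv F45217)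
theorem F49129 : act 5 n12491 = n11688 := d32_1 D12491 (iv D11688) (iv F45218)
theorem F49130 : act 6 n12491 = n11501 := d34_1 D12491 (iv D11501) (iv F45219)
def n12492 : Q := act 7 n11499
theorem D12492 : act 7 n11499 = n12492 := rfl
theorem F49131 : act 1 n12492 = n11500 := d13_1 D12492 (iv D11500) (iv F45221)
theorem F49132 : act 3 n12492 = n11707 := d24_1 D12492 (iv D11707) F40177 (iv F39631) (iv F45222)
theorem F49133 : act 5 n12492 = n11702 := d31_1 D12492 (iv D11702) (iv F45223)
theorem F49134 : act 6 n12492 = n11502 := d33_1 D12492 (iv D11502) (iv F45224)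
theorem F49135 : act 8 n12492 = n12492 := d35_2 D11499 D12492 (iv D12492) (iv D11499) F39351
def n12493 : Q := act 7 n11501
theorem D12493 : act 7 n11501 = n12493 := rfl
theorem F49136 : act 0 n12493 = n11502 := d6_1 D12493 (iv D11502) (iv F45231)
theorem F49137 : act 5 n12493 = n11804 := d31_1 D12493 (iv D11804) (iv F45233)
theorem F49138 : act 8 n12493 = n12493 := d35_2 D11501 D12493 (iv D12493) (iv D11501) F39362
def n12494 : Q := act 5 n11503
theorem D12494 : act 5 n11503 = n12494 := rfl
theorem F49139 : act 1 n12494 = n11603 := d11_1 D12494 (iv D11603) (iv F45237)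
theorem F49140 : act 2 n12494 = n11505 := d17_1 D12494 (iv D11505) (iv F45238)
theorem F49141 : act 6 n12494 = n11853 := d30_2 D11503 D12494 (iv D11853) (iv D10404) (iv F39371)
theorem F49142 : act 8 n12494 = n11616 := d32_2 (iv F45240) D12494 F45671
def n12495 : Q := act 7 n11503
theorem D12495 : act 7 n11503 = n12495 := rfl
theorem F49143 : act 1 n12495 = n11604 := d13_1 D12495 (iv D11604) (iv F45237)
theorem F49144 : act 2 n12495 = n11506 := d19_1 D12495 (iv D11506) (iv F45238)
theorem F49145 : act 4 n12495 = n12495 := d28_1 D12495 (iv D12495) F45239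
theorem F49146 : act 6 n12495 = n11504 := d33_1 D12495 (iv D11504) D11503
def n12496 : Q := act 3 n11504
theorem D12496 : act 3 n11504 = n12496 := rfl
theorem F49147 : act 1 n12496 = n11605 := d9_1 D12496 (iv D11605) (iv F45241)
theorem F49148 : act 5 n12496 = n11855 := d22_2 (iv F45244) D12496 (iv D11855)
def n12497 : Q := act 8 n11504
theorem D12497 : act 8 n11504 = n12497 := rfl
theorem F49149 : act 1 n12497 = n11606 := d14_1 D12497 (iv D11606) (iv F45241)
theorem F49150 : act 2 n12497 = n11508 := d20_1 D12497 (iv D11508) (iv F45242)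
theorem F49151 : act 4 n12497 = n12497 := d29_1 D12497 (iv D12497) F45243
theorem F49152 : act 5 n12497 = n11856 := d32_1 D12497 (iv D11856) (iv F45244)
theorem F49153 : act 7 n12497 = n12259 := d35_1 D12497 (iv D12259) (iv D11284) (iv F39372) D11504
def n12498 : Q := act 4 n11505
theorem D12498 : act 4 n11505 = n12498 := rfl
theorem F49154 : act 0 n12498 = n12104 := d3_1 D12498 F48684 F48679
theorem F49155 : act 1 n12498 = n11530 := d10_1 D12498 (iv D11530) (iv F45245)
theorem F49156 : act 3 n12498 = n12498 := d21_1 D12498 (iv D12498) F45246 F39381 (iv F45246)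
theorem F49157 : act 5 n12498 = n12498 := d26_2 D11505 D12498 (iv D12498) (iv D11505) F39375
theorem F49158 : act 6 n12498 = n11857 := d27_2 (iv F45247) D12498 (iv D11857)
theorem F49159 : act 8 n12498 = n11632 := d29_2 (iv F45248) D12498 (iv D11632)
def n12499 : Q := act 7 n11505
theorem D12499 : act 7 n11505 = n12499 := rfl
theorem F49160 : act 1 n12499 = n11531 := d13_1 D12499 (iv D11531) (iv F45245)
theorem F49161 : act 5 n12499 = n11506 := d31_1 D12499 (iv D11506) D11505
theorem F49162 : act 6 n12499 = n11858 := d33_1 D12499 (iv D11858) (iv F45247)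
def n12500 : Q := act 3 n11506
theorem D12500 : act 3 n11506 = n12500 := rfl
theorem F49163 : act 1 n12500 = n11532 := d9_1 D12500 (iv D11532) (iv F45249)
theorem F49164 : act 6 n12500 = n11507 := d23_2 (iv F45251) D12500 (iv D11507)
theorem F49165 : act 7 n12500 = n11510 := d24_2 D11506 D12500 (iv D11510) (iv D10071) (iv F39374)
def n12501 : Q := act 8 n11506
theorem D12501 : act 8 n11506 = n12501 := rfl
theorem F49166 : act 1 n12501 = n11533 := d14_1 D12501 (iv D11533) (iv F45249)
theorem F49167 : act 4 n12501 = n12501 := d29_1 D12501 (iv D12501) F45250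
theorem F49168 : act 6 n12501 = n11508 := d34_1 D12501 (iv D11508) (iv F45251)
theorem F49169 : act 7 n12501 = n11975 := d35_1 D12501 (iv D11975) F40956 (iv F39376) D11506
def n12502 : Q := act 2 n11507
theorem D12502 : act 2 n11507 = n12502 := rfl
theorem F49170 : act 5 n12502 = n11861 := d17_2 (iv F45253) D12502 (iv D11861)
theorem F49171 : act 7 n12502 = n11512 := d19_2 (iv F45254) D12502 (iv D11512)
def n12503 : Q := act 4 n11507
theorem D12503 : act 4 n11507 = n12503 := rfl
theorem F49172 : act 1 n12503 = n11535 := d10_1 D12503 (iv D11535) (iv F45252)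
theorem F49173 : act 3 n12503 = n12503 := d21_1 D12503 (iv D12503) (iv D11507) F39378 D11507
theorem F49174 : act 7 n12503 = n11513 := d28_2 (iv F45254) D12503 (iv D11513)
def n12504 : Q := act 8 n11507
theorem D12504 : act 8 n11507 = n12504 := rfl
theorem F49175 : act 1 n12504 = n11536 := d14_1 D12504 (iv D11536) (iv F45252)
theorem F49176 : act 3 n12504 = n11508 := d25_1 D12504 (iv D11508) D11507
theorem F49177 : act 5 n12504 = n11863 := d32_1 D12504 (iv D11863) (iv F45253)
def n12505 : Q := act 3 n11509
theorem D12505 : act 3 n11509 = n12505 := rfl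
theorem F49178 : act 1 n12505 = n11537 := d9_1 D12505 (iv D11537) (iv F45259)
theorem F49179 : act 5 n12505 = n11510 := d22_2 (iv F45261) D12505 (iv D11510)
theorem F49180 : act 6 n12505 = n11831 := d23_2 (iv F45262) D12505 F46555
def n12506 : Q := act 8 n11509
theorem D12506 : act 8 n11509 = n12506 := rfl
theorem F49181 : act 1 n12506 = n11538 := d14_1 D12506 (iv D11538) (iv F45259)
theorem F49182 : act 4 n12506 = n12506 := d29_1 D12506 (iv D12506) F45260
theorem F49183 : act 5 n12506 = n11511 := d32_1 D12506 (iv D11511) (iv F45261)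
theorem F49184 : act 6 n12506 = n11841 := d34_1 D12506 (iv D11841) (iv F45262)
theorem F49185 : act 7 n12506 = n11560 := d35_1 D12506 (iv D11560) F39519 (iv F39383) D11509
def n12507 : Q := act 2 n11510
theorem D12507 : act 2 n11510 = n12507 := rfl
theorem F49186 : act 6 n12507 = n11512 := d18_2 (iv F45264) D12507 (iv D11512)
def n12508 : Q := act 4 n11510
theorem D12508 : act 4 n11510 = n12508 := rfl
theorem F49187 : act 1 n12508 = n11540 := d10_1 D12508 (iv D11540) (iv F45263)
theorem F49188 : act 3 n12508 = n11516 := d21_1 D12508 (iv D11516) (iv D10074) (iv F39385) D11510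
theorem F49189 : act 6 n12508 = n11513 := d27_2 (iv F45264) D12508 (iv D11513)
def n12509 : Q := act 8 n11510
theorem D12509 : act 8 n11510 = n12509 := rfl
theorem F49190 : act 1 n12509 = n11541 := d14_1 D12509 (iv D11541) (iv F45263)
theorem F49191 : act 3 n12509 = n11511 := d25_1 D12509 (iv D11511) D11510
theorem F49192 : act 6 n12509 = n11514 := d34_1 D12509 (iv D11514) (iv F45264)
def n12510 : Q := act 1 n11512
theorem D12510 : act 1 n11512 = n12510 := rfl
theorem F49193 : act 2 n12510 = n11542 := d8_2 D11512 D12510 (iv D11542) (iv D10091) (iv F39387)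
theorem F49194 : act 5 n12510 = n11867 := d11_2 (iv F45269) D12510 (iv D11867)
def n12511 : Q := act 4 n11512
theorem D12511 : act 4 n11512 = n12511 := rfl
theorem F49195 : act 2 n12511 = n11513 := d16_1 D12511 (iv D11513) D11512
def n12512 : Q := act 8 n11512
theorem D12512 : act 8 n11512 = n12512 := rfl
theorem F49196 : act 2 n12512 = n11514 := d20_1 D12512 (iv D11514) D11512
theorem F49197 : act 5 n12512 = n11869 := d32_1 D12512 (iv D11869) (iv F45269)
def n12513 : Q := act 5 n11513
theorem D12513 : act 5 n11513 = n12513 := rfl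
theorem F49198 : act 1 n12513 = n11545 := d11_1 D12513 (iv D11545) (iv F45270)
theorem F49199 : act 3 n12513 = n11520 := d22_1 D12513 (iv D11520) (iv F45271)
theorem F49200 : act 4 n12513 = n11870 := d26_1 D12513 (iv D11870) (iv D10413) (iv F39388) D11513
def n12514 : Q := act 8 n11513
theorem D12514 : act 8 n11513 = n12514 := rfl
theorem F49201 : act 1 n12514 = n11546 := d14_1 D12514 (iv D11546) (iv F45270)
theorem F49202 : act 3 n12514 = n11521 := d25_1 D12514 (iv D11521) (iv F45271)
theorem F49203 : act 4 n12514 = n11514 := d29_1 D12514 (iv D11514) D11513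
def n12515 : Q := act 7 n11514
theorem D12515 : act 7 n11514 = n12515 := rfl
theorem F49204 : act 1 n12515 = n11547 := d13_1 D12515 (iv D11547) (iv F45272)
theorem F49205 : act 3 n12515 = n12267 := d24_1 D12515 (iv D12267) F43830 (iv F39392) (iv F45273)
theorem F49206 : act 5 n12515 = n11872 := d31_1 D12515 (iv D11872) (iv F45274)
def n12516 : Q := act 4 n11515
theorem D12516 : act 4 n11515 = n12516 := rfl
theorem F49207 : act 1 n12516 = n12516 := d10_1 D12516 (iv D12516) F45275
theorem F49208 : act 2 n12516 = n11516 := d16_1 D12516 (iv D11516) D11515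
theorem F49209 : act 6 n12516 = n11518 := d27_2 (iv F45277) D12516 (iv D11518)
theorem F49210 : act 7 n12516 = n12516 := d28_2 F45278 D12516 (iv D12516)
def n12517 : Q := act 8 n11515
theorem D12517 : act 8 n11515 = n12517 := rfl
theorem F49211 : act 1 n12517 = n12517 := d14_1 D12517 (iv D12517) F45275
theorem F49212 : act 2 n12517 = n11517 := d20_1 D12517 (iv D11517) D11515
theorem F49213 : act 5 n12517 = n12517 := d32_1 D12517 (iv D12517) F45276
theorem F49214 : act 6 n12517 = n11519 := d34_1 D12517 (iv D11519) (iv F45277)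
def n12518 : Q := act 5 n11516
theorem D12518 : act 5 n11516 = n12518 := rfl
theorem F49215 : act 0 n12518 = n12206 := d4_1 D12518 F48724 F48720
theorem F49216 : act 1 n12518 = n11548 := d11_1 D12518 (iv D11548) (iv F45279)
theorem F49217 : act 4 n12518 = n12518 := d26_1 D12518 (iv D12518) (iv D11516) F39394 D11516
theorem F49218 : act 7 n12518 = n12518 := d31_2 F45281 D12518 (iv D12518)
def n12519 : Q := act 8 n11516
theorem D12519 : act 8 n11516 = n12519 := rfl
theorem F49219 : act 1 n12519 = n11549 := d14_1 D12519 (iv D11549) (iv F45279)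
theorem F49220 : act 4 n12519 = n11517 := d29_1 D12519 (iv D11517) D11516
theorem F49221 : act 6 n12519 = n11521 := d34_1 D12519 (iv D11521) (iv F45280)
def n12520 : Q := act 7 n11517
theorem D12520 : act 7 n11517 = n12520 := rfl
theorem F49222 : act 1 n12520 = n11550 := d13_1 D12520 (iv D11550) (iv F45282)
theorem F49223 : act 3 n12520 = n12021 := d24_1 D12520 (iv D12021) F41102 (iv F39400) (iv F45283)
theorem F49224 : act 5 n12520 = n12520 := d31_1 D12520 (iv D12520) F45284
theorem F49225 : act 6 n12520 = n11522 := d33_1 D12520 (iv D11522) (iv F45285)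
theorem F49226 : act 8 n12520 = n12520 := d35_2 D11517 D12520 (iv D12520) (iv D11517) F39396
def n12521 : Q := act 3 n11518
theorem D12521 : act 3 n11518 = n12521 := rfl
theorem F49227 : act 1 n12521 = n12521 := d9_1 D12521 (iv D12521) F45286
def n12522 : Q := act 5 n11518
theorem D12522 : act 5 n11518 = n12522 := rfl
theorem F49228 : act 1 n12522 = n12522 := d11_1 D12522 (iv D12522) F45286
theorem F49229 : act 2 n12522 = n11520 := d17_1 D12522 (iv D11520) (iv F45287)
theorem F49230 : act 4 n12522 = n11524 := d26_1 D12522 (iv D11524) (iv D10079) (iv F39402) D11518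
theorem F49231 : act 7 n12522 = n12522 := d31_2 F45288 D12522 (iv D12522)
def n12523 : Q := act 8 n11518
theorem D12523 : act 8 n11518 = n12523 := rfl
theorem F49232 : act 1 n12523 = n12523 := d14_1 D12523 (iv D12523) F45286
theorem F49233 : act 2 n12523 = n11521 := d20_1 D12523 (iv D11521) (iv F45287)
theorem F49234 : act 4 n12523 = n11519 := d29_1 D12523 (iv D11519) D11518
def n12524 : Q := act 7 n11519
theorem D12524 : act 7 n11519 = n12524 := rfl
theorem F49235 : act 1 n12524 = n12524 := d13_1 D12524 (iv D12524) F45289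
theorem F49236 : act 2 n12524 = n11522 := d19_1 D12524 (iv D11522) (iv F45290)
theorem F49237 : act 5 n12524 = n11526 := d31_1 D12524 (iv D11526) (iv F45291)
theorem F49238 : act 8 n12524 = n12524 := d35_2 D11519 D12524 (iv D12524) (iv D11519) F39403
def n12525 : Q := act 6 n11520
theorem D12525 : act 6 n11520 = n12525 := rfl
theorem F49239 : act 1 n12525 = n11551 := d12_1 D12525 (iv D11551) (iv F45292)
theorem F49240 : act 4 n12525 = n11527 := d27_1 D12525 (iv D11527) (iv F45293)
theorem F49241 : act 7 n12525 = n12525 := d33_2 F45294 D12525 (iv D12525)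
def n12526 : Q := act 8 n11520
theorem D12526 : act 8 n11520 = n12526 := rfl
theorem F49242 : act 1 n12526 = n11552 := d14_1 D12526 (iv D11552) (iv F45292)
theorem F49243 : act 4 n12526 = n11528 := d29_1 D12526 (iv D11528) (iv F45293)
theorem F49244 : act 5 n12526 = n11521 := d32_1 D12526 (iv D11521) D11520
def n12527 : Q := act 7 n11521
theorem D12527 : act 7 n11521 = n12527 := rfl
theorem F49245 : act 1 n12527 = n11553 := d13_1 D12527 (iv D11553) (iv F45295)
theorem F49246 : act 4 n12527 = n11522 := d28_1 D12527 (iv D11522) (iv F45296)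
theorem F49247 : act 8 n12527 = n12527 := d35_2 D11521 D12527 (iv D12527) (iv D11521) F39405
def n12528 : Q := act 5 n11523
theorem D12528 : act 5 n11523 = n12528 := rfl
theorem F49248 : act 1 n12528 = n12528 := d11_1 D12528 (iv D12528) F45301
theorem F49249 : act 2 n12528 = n11885 := d17_1 D12528 (iv D11885) (iv F45302)
theorem F49250 : act 3 n12528 = n11524 := d22_1 D12528 (iv D11524) D11523
def n12529 : Q := act 7 n11523
theorem D12529 : act 7 n11523 = n12529 := rfl
theorem F49251 : act 1 n12529 = n12529 := d13_1 D12529 (iv D12529) F45301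
theorem F49252 : act 2 n12529 = n11886 := d19_1 D12529 (iv D11886) (iv F45302)
theorem F49253 : act 3 n12529 = n12529 := d24_1 D12529 (iv D12529) (iv D11523) F39412 D11523
theorem F49254 : act 6 n12529 = n12529 := d33_1 D12529 (iv D12529) F45303
def n12530 : Q := act 8 n11523
theorem D12530 : act 8 n11523 = n12530 := rfl
theorem F49255 : act 1 n12530 = n12530 := d14_1 D12530 (iv D12530) F45301
theorem F49256 : act 2 n12530 = n11887 := d20_1 D12530 (iv D11887) (iv F45302)
theorem F49257 : act 3 n12530 = n11525 := d25_1 D12530 (iv D11525) D11523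
theorem F49258 : act 6 n12530 = n12530 := d34_1 D12530 (iv D12530) F45303
def n12531 : Q := act 6 n11524
theorem D12531 : act 6 n11524 = n12531 := rfl
theorem F49259 : act 1 n12531 = n12531 := d12_1 D12531 (iv D12531) F45304
theorem F49260 : act 2 n12531 = n11527 := d18_1 D12531 (iv D11527) (iv F45305)
theorem F49261 : act 5 n12531 = n12531 := d30_1 D12531 (iv D12531) (iv D11524) F39411 D11524
theorem F49262 : act 7 n12531 = n12531 := d33_2 F45306 D12531 (iv D12531)
def n12532 : Q := act 8 n11524
theorem D12532 : act 8 n11524 = n12532 := rfl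
theorem F49263 : act 1 n12532 = n12532 := d14_1 D12532 (iv D12532) F45304
theorem F49264 : act 2 n12532 = n11528 := d20_1 D12532 (iv D11528) (iv F45305)
theorem F49265 : act 5 n12532 = n11525 := d32_1 D12532 (iv D11525) D11524
def n12533 : Q := act 7 n11525
theorem D12533 : act 7 n11525 = n12533 := rfl
theorem F49266 : act 1 n12533 = n12533 := d13_1 D12533 (iv D12533) F45307
theorem F49267 : act 2 n12533 = n11529 := d19_1 D12533 (iv D11529) (iv F45308)
theorem F49268 : act 4 n12533 = n11526 := d28_1 D12533 (iv D11526) (iv F45309)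
theorem F49269 : act 6 n12533 = n12533 := d33_1 D12533 (iv D12533) F45310
theorem F49270 : act 8 n12533 = n12533 := d35_2 D11525 D12533 (iv D12533) (iv D11525) F39412
def n12534 : Q := act 3 n11526
theorem D12534 : act 3 n11526 = n12534 := rfl
theorem F49271 : act 1 n12534 = n12534 := d9_1 D12534 (iv D12534) F45311
theorem F49272 : act 2 n12534 = n12281 := d15_1 D12534 (iv D12281) F43857 (iv F39424) (iv F45312)
theorem F49273 : act 6 n12534 = n12534 := d23_2 F45313 D12534 (iv D12534)
theorem F49274 : act 8 n12534 = n12534 := d25_2 F45314 D12534 (iv D12534)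
def n12535 : Q := act 8 n11527
theorem D12535 : act 8 n11527 = n12535 := rfl
theorem F49275 : act 1 n12535 = n11554 := d14_1 D12535 (iv D11554) (iv F45315)
theorem F49276 : act 3 n12535 = n11892 := d25_1 D12535 (iv D11892) (iv F45316)
theorem F49277 : act 5 n12535 = n12535 := d32_1 D12535 (iv D12535) F45317
theorem F49278 : act 6 n12535 = n11528 := d34_1 D12535 (iv D11528) D11527
def n12536 : Q := act 7 n11528
theorem D12536 : act 7 n11528 = n12536 := rfl
theorem F49279 : act 1 n12536 = n11555 := d13_1 D12536 (iv D11555) (iv F45319)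
theorem F49280 : act 5 n12536 = n11529 := d31_1 D12536 (iv D11529) (iv F45321)
theorem F49281 : act 8 n12536 = n12536 := d35_2 D11528 D12536 (iv D12536) (iv D11528) F39418
def n12537 : Q := act 3 n11529
theorem D12537 : act 3 n11529 = n12537 := rfl
theorem F49282 : act 1 n12537 = n11556 := d9_1 D12537 (iv D11556) (iv F45322)
theorem F49283 : act 4 n12537 = n12284 := d21_2 (iv F45323) D12537 (iv D12284) F43866 (iv F39424)
theorem F49284 : act 6 n12537 = n12537 := d23_2 F45324 D12537 (iv D12537)
theorem F49285 : act 7 n12537 = n11894 := d24_2 D11529 D12537 (iv D11894) (iv D10429) (iv F39420)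
theorem F49286 : act 8 n12537 = n12537 := d25_2 F45325 D12537 (iv D12537)
def n12538 : Q := act 7 n11530
theorem D12538 : act 7 n11530 = n12538 := rfl
theorem F49287 : act 0 n12538 = n11561 := d6_1 D12538 (iv D11561) (iv F45326)
theorem F49288 : act 2 n12538 = n11621 := d19_1 D12538 (iv D11621) (iv F45327)
theorem F49289 : act 4 n12538 = n11531 := d28_1 D12538 (iv D11531) D11530
theorem F49290 : act 5 n12538 = n12538 := d31_1 D12538 (iv D12538) F45329
theorem F49291 : act 6 n12538 = n11895 := d33_1 D12538 (iv D11895) (iv F45330)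
theorem F49292 : act 3 n12538 = n11649 := d37_3 D10085 (iv F45334) (iv F49289) (iv D11649) F39880 F39034 F31297 F31296 F31295 (iv D6023) (iv F23234) F23233 (iv F23314) (iv D6038) F17305 (iv D3350) F9940 F7950 F5961 F5960 D1427 F5985 F4484 F4483 (iv F4591) F4590 (iv F6099) (iv D1455) D1454 F6097 (iv F7593) F7592 (iv F6952) F6951 D1687 F6982 F5252 (iv F6882) (iv F9169) (iv F12184) (iv F16309) (iv D4147) D4146 D5655 D7728 F29592 (iv F38688) F38687 D9906 (iv F40450) F40449 (iv F44888) F40015 F39163 F31359 (iv D6016) F17253 (iv F23231) (iv F31398) F31397 F31396 (iv F31513)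
def n12539 : Q := act 3 n11531
theorem D12539 : act 3 n11531 = n12539 := rfl
theorem F49293 : act 0 n12539 = n11562 := d2_1 D12539 (iv D11562) (iv F45332)
theorem F49294 : act 2 n12539 = n11682 := d15_1 D12539 F46010 F45012 (iv F39708) (iv F45333)
theorem F49295 : act 4 n12539 = n11681 := d21_2 F49289 D12539 F46007 (iv F45847) (iv F49292)
theorem F49296 : act 5 n12539 = n11532 := d22_2 (iv F45334) D12539 (iv D11532)
theorem F49297 : act 6 n12539 = n11828 := d23_2 (iv F45335) D12539 F46546
theorem F49298 : act 7 n12539 = n11537 := d24_2 D11531 D12539 (iv D11537) (iv D10088) (iv F39429)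
def n12540 : Q := act 8 n11531
theorem D12540 : act 8 n11531 = n12540 := rfl
theorem F49299 : act 0 n12540 = n11563 := d7_1 D12540 (iv D11563) (iv F45332)
theorem F49300 : act 2 n12540 = n11622 := d20_1 D12540 (iv D11622) (iv F45333)
theorem F49301 : act 5 n12540 = n11533 := d32_1 D12540 (iv D11533) (iv F45334)
theorem F49302 : act 6 n12540 = n11896 := d34_1 D12540 (iv D11896) (iv F45335)
theorem F49303 : act 7 n12540 = n11628 := d35_1 D12540 (iv D11628) F39721 (iv F39431) D11531
def n12541 : Q := act 2 n11532
theorem D12541 : act 2 n11532 = n12541 := rfl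
theorem F49304 : act 0 n12541 = n11564 := d1_1 D12541 (iv D11564) (iv F45336)
theorem F49305 : act 3 n12541 = n11623 := d15_2 D11532 D12541 (iv D11623) (iv D10157) (iv F39433)
theorem F49306 : act 5 n12541 = n11682 := d17_2 F49296 D12541 (iv F49294)
theorem F49307 : act 6 n12541 = n11534 := d18_2 (iv F45337) D12541 (iv D11534)
theorem F49308 : act 7 n12541 = n11539 := d19_2 (iv F45338) D12541 (iv D11539)
theorem F49309 : act 4 n12233 = n12541 := d26_5 F49306 (iv D11682) F40054 D11258 D12233
def n12542 : Q := act 4 n11532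
theorem D12542 : act 4 n11532 = n12542 := rfl
theorem F49310 : act 0 n12542 = n11565 := d3_1 D12542 (iv D11565) (iv F45336)
theorem F49311 : act 2 n12542 = n12233 := d16_1 D12542 F49309 (iv D12541)
theorem F49312 : act 3 n12542 = n12542 := d21_1 D12542 (iv D12542) (iv D11532) F39434 D11532
theorem F49313 : act 5 n12542 = n12231 := d26_2 F49296 D12542 (iv D12231) (iv F46008) (iv F49295)
theorem F49314 : act 6 n12542 = n11535 := d27_2 (iv F45337) D12542 (iv D11535)
theorem F49315 : act 7 n12542 = n11540 := d28_2 (iv F45338) D12542 (iv D11540)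
def n12543 : Q := act 8 n11532
theorem D12543 : act 8 n11532 = n12543 := rfl
theorem F49316 : act 0 n12543 = n11566 := d7_1 D12543 (iv D11566) (iv F45336)
theorem F49317 : act 3 n12543 = n11533 := d25_1 D12543 (iv D11533) D11532
theorem F49318 : act 6 n12543 = n11536 := d34_1 D12543 (iv D11536) (iv F45337)
def n12544 : Q := act 1 n11534
theorem D12544 : act 1 n11534 = n12544 := rfl
theorem F49319 : act 3 n12544 = n11626 := d9_2 (iv F45345) D12544 (iv D11626)
theorem F49320 : act 5 n12544 = n11899 := d11_2 (iv F45346) D12544 (iv D11899)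
theorem F49321 : act 7 n12544 = n11542 := d13_2 (iv F45347) D12544 (iv D11542)
def n12545 : Q := act 4 n11534
theorem D12545 : act 4 n11534 = n12545 := rfl

end Cfsg.Agent.Helper17.FiR1TC
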