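import Cfsg.Agent.Helper17.FiR1TC.Facts3

set_option autoImplicit false
set_option linter.all false

noncomputable section

namespace Cfsg.Agent.Helper17.FiR1TC

theorem F49322 : act 0 n12545 = n11568 := d3_1 D12545 (iv D11568) (iv F45344)
theorem F49323 : act 2 n12545 = n11535 := d16_1 D12545 (iv D11535) D11534
theorem F49324 : act 3 n12545 = n12236 := d21_1 D12545 F48096 F45727 (iv D11627) (iv F45345)
theorem F49325 : act 6 n12545 = n12233 := d27_2 F49307 D12545 F49309
theorem F49326 : act 7 n12545 = n11543 := d28_2 (iv F45347) D12545 (iv D11543)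
def n12546 : Q := act 8 n11534
theorem D12546 : act 8 n11534 = n12546 := rfl
theorem F49327 : act 0 n12546 = n11569 := d7_1 D12546 (iv D11569) (iv F45344)
theorem F49328 : act 2 n12546 = n11536 := d20_1 D12546 (iv D11536) D11534
theorem F49329 : act 3 n12546 = n11628 := d25_1 D12546 (iv D11628) (iv F45345)
theorem F49330 : act 5 n12546 = n11901 := d32_1 D12546 (iv D11901) (iv F45346)
def n12547 : Q := act 5 n11535
theorem D12547 : act 5 n11535 = n12547 := rfl
theorem F49331 : act 0 n12547 = n11570 := d4_1 D12547 (iv D11570) (iv F45348)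
theorem F49332 : act 3 n12547 = n12547 := d22_1 D12547 (iv D12547) F45349
theorem F49333 : act 4 n12547 = n11902 := d26_1 D12547 (iv D11902) (iv D10435) (iv F39437) D11535
theorem F49334 : act 7 n12547 = n11545 := d31_2 (iv F45350) D12547 (iv D11545)
def n12548 : Q := act 8 n11535
theorem D12548 : act 8 n11535 = n12548 := rfl
theorem F49335 : act 0 n12548 = n11571 := d7_1 D12548 (iv D11571) (iv F45348)
theorem F49336 : act 3 n12548 = n12548 := d25_1 D12548 (iv D12548) F45349
theorem F49337 : act 4 n12548 = n11536 := d29_1 D12548 (iv D11536) D11535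
def n12549 : Q := act 7 n11536
theorem D12549 : act 7 n11536 = n12549 := rfl
theorem F49338 : act 0 n12549 = n11572 := d6_1 D12549 (iv D11572) (iv F45351)
theorem F49339 : act 3 n12549 = n12287 := d24_1 D12549 (iv D12287) F43873 (iv F39443) (iv F45352)
theorem F49340 : act 5 n12549 = n11904 := d31_1 D12549 (iv D11904) (iv F45353)
theorem F49341 : act 8 n12549 = n11547 := d35_2 D11536 D12549 (iv D11547) (iv D10093) (iv F39438)
def n12550 : Q := act 4 n11537
theorem D12550 : act 4 n11537 = n12550 := rfl
theorem F49342 : act 0 n12550 = n11573 := d3_1 D12550 (iv D11573) (iv F45354)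
theorem F49343 : act 2 n12550 = n11677 := d16_1 D12550 F45987 (iv F45355)
theorem F49344 : act 3 n12550 = n12550 := d21_1 D12550 (iv D12550) (iv D11537) F39446 D11537
theorem F49345 : act 6 n12550 = n11832 := d27_2 (iv F45357) D12550 (iv D11832)
theorem F49346 : act 7 n12550 = n11681 := d28_2 F49298 D12550 (iv F49295)
theorem F49347 : act 5 n12227 = n12550 := d37_1 (iv F48075) (iv D12550) (iv D11537) F39445 (iv F38175) F31573 F23410 F38172 F13275 F9910 F7411 F5936 F4464 F4468 F4467 F4466 (iv F4534) F4533 (iv F6034) (iv F8030) D2679 F10757 (iv F11811) (iv F45127) F13869 F13868 F13867 F10361 (iv D2576) (iv D1888) F5814 (iv F5494) (iv D1299) F4130 F4064 F3095 D941 D1280 F5418 (iv F5435) (iv F7211) D2376 (iv F12894) (iv F17329) D6046 D8282 D10105 D11559 F45446 F39752 F33390 F25033 F38434 F23865 F17718 D4533 F17755 (iv F23933) D8498 D10324 F40353 (iv F43737)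
def n12551 : Q := act 8 n11537
theorem D12551 : act 8 n11537 = n12551 := rfl
theorem F49348 : act 0 n12551 = n11574 := d7_1 D12551 (iv D11574) (iv F45354)
theorem F49349 : act 2 n12551 = n11830 := d20_1 D12551 (iv D11830) (iv F45355)
theorem F49350 : act 3 n12551 = n11538 := d25_1 D12551 (iv D11538) D11537
theorem F49351 : act 5 n12551 = n11541 := d32_1 D12551 (iv D11541) (iv F45356)
theorem F49352 : act 6 n12551 = n11833 := d34_1 D12551 (iv D11833) (iv F45357)
def n12552 : Q := act 1 n11539
theorem D12552 : act 1 n11539 = n12552 := rfl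
theorem F49353 : act 3 n12552 = n11557 := d9_2 (iv F45365) D12552 (iv D11557)
theorem F49354 : act 5 n12552 = n11809 := d11_2 (iv F45366) D12552 F46475
theorem F49355 : act 6 n12552 = n11542 := d12_2 (iv F45367) D12552 (iv D11542)
def n12553 : Q := act 4 n11539
theorem D12553 : act 4 n11539 = n12553 := rfl
theorem F49356 : act 0 n12553 = n11576 := d3_1 D12553 (iv D11576) (iv F45364)
theorem F49357 : act 2 n12553 = n11540 := d16_1 D12553 (iv D11540) D11539
theorem F49358 : act 3 n12553 = n12553 := d21_1 D12553 (iv D12553) F45365 F39506 (iv F45365)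
theorem F49359 : act 5 n12553 = n12228 := d26_2 (iv F45366) D12553 (iv D12228) (iv F45988) F45987
theorem F49360 : act 6 n12553 = n11543 := d27_2 (iv F45367) D12553 (iv D11543)
theorem F49361 : act 7 n12553 = n12233 := d28_2 F49308 D12553 F49309
def n12554 : Q := act 8 n11539
theorem D12554 : act 8 n11539 = n12554 := rfl
theorem F49362 : act 0 n12554 = n11577 := d7_1 D12554 (iv D11577) (iv F45364)
theorem F49363 : act 2 n12554 = n11541 := d20_1 D12554 (iv D11541) D11539
theorem F49364 : act 3 n12554 = n11558 := d25_1 D12554 (iv D11558) (iv F45365)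
theorem F49365 : act 5 n12554 = n11830 := d32_1 D12554 (iv D11830) (iv F45366)
theorem F49366 : act 6 n12554 = n11544 := d34_1 D12554 (iv D11544) (iv F45367)
def n12555 : Q := act 5 n11540
theorem D12555 : act 5 n11540 = n12555 := rfl
theorem F49367 : act 0 n12555 = n11578 := d4_1 D12555 (iv D11578) (iv F45368)
theorem F49368 : act 2 n12555 = n12228 := d17_1 D12555 (iv F49359) F49357
theorem F49369 : act 3 n12555 = n11548 := d22_1 D12555 (iv D11548) (iv F45369)
theorem F49370 : act 4 n12555 = n12227 := d26_1 D12555 F49347 (iv D12550) F45356 D11540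
theorem F49371 : act 7 n12555 = n12231 := d31_2 F49315 D12555 (iv F49313)
def n12556 : Q := act 8 n11540
theorem D12556 : act 8 n11540 = n12556 := rfl
theorem F49372 : act 0 n12556 = n11579 := d7_1 D12556 (iv D11579) (iv F45368)
theorem F49373 : act 3 n12556 = n11549 := d25_1 D12556 (iv D11549) (iv F45369)
theorem F49374 : act 4 n12556 = n11541 := d29_1 D12556 (iv D11541) D11540
theorem F49375 : act 6 n12556 = n11546 := d34_1 D12556 (iv D11546) (iv F45370)
def n12557 : Q := act 7 n11541
theorem D12557 : act 7 n11541 = n12557 := rfl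
theorem F49376 : act 0 n12557 = n11580 := d6_1 D12557 (iv D11580) (iv F45371)
theorem F49377 : act 3 n12557 = n11913 := d24_1 D12557 (iv D11913) F40739 (iv F39455) (iv F45372)
theorem F49378 : act 6 n12557 = n11547 := d33_1 D12557 (iv D11547) (iv F45373)
def n12558 : Q := act 0 n11542
theorem D12558 : act 0 n11542 = n12558 := rfl
theorem F49379 : act 1 n12558 = n11581 := d0_2 D11542 D12558 (iv D11581) (iv D10119) (iv F39456)
theorem F49380 : act 3 n12558 = n11559 := d2_2 (iv F45374) D12558 (iv D11559)
theorem F49381 : act 5 n12558 = n11908 := d4_2 (iv F45375) D12558 (iv D11908)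
def n12559 : Q := act 4 n11542
theorem D12559 : act 4 n11542 = n12559 := rfl
theorem F49382 : act 1 n12559 = n11543 := d10_1 D12559 (iv D11543) D11542
theorem F49383 : act 3 n12559 = n12559 := d21_1 D12559 (iv D12559) F45374 F39517 (iv F45374)
def n12560 : Q := act 8 n11542
theorem D12560 : act 8 n11542 = n12560 := rfl
theorem F49384 : act 1 n12560 = n11544 := d14_1 D12560 (iv D11544) D11542
theorem F49385 : act 3 n12560 = n11560 := d25_1 D12560 (iv D11560) (iv F45374)
theorem F49386 : act 5 n12560 = n11910 := d32_1 D12560 (iv D11910) (iv F45375)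
def n12561 : Q := act 5 n11543
theorem D12561 : act 5 n11543 = n12561 := rfl
theorem F49387 : act 0 n12561 = n11584 := d4_1 D12561 (iv D11584) (iv F45376)
theorem F49388 : act 2 n12561 = n11545 := d17_1 D12561 (iv D11545) (iv F45377)
theorem F49389 : act 3 n12561 = n12561 := d22_1 D12561 (iv D12561) F45378
theorem F49390 : act 4 n12561 = n11911 := d26_1 D12561 (iv D11911) (iv D10440) (iv F39458) D11543
def n12562 : Q := act 8 n11543
theorem D12562 : act 8 n11543 = n12562 := rfl
theorem F49391 : act 0 n12562 = n11585 := d7_1 D12562 (iv D11585) (iv F45376)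
theorem F49392 : act 2 n12562 = n11546 := d20_1 D12562 (iv D11546) (iv F45377)
theorem F49393 : act 3 n12562 = n12562 := d25_1 D12562 (iv D12562) F45378
theorem F49394 : act 4 n12562 = n11544 := d29_1 D12562 (iv D11544) D11543
def n12563 : Q := act 7 n11544
theorem D12563 : act 7 n11544 = n12563 := rfl
theorem F49395 : act 0 n12563 = n11586 := d6_1 D12563 (iv D11586) (iv F45379)
theorem F49396 : act 2 n12563 = n11547 := d19_1 D12563 (iv D11547) (iv F45380)
theorem F49397 : act 5 n12563 = n11913 := d31_1 D12563 (iv D11913) (iv F45382)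
def n12564 : Q := act 6 n11545
theorem D12564 : act 6 n11545 = n12564 := rfl
theorem F49398 : act 0 n12564 = n11587 := d5_1 D12564 (iv D11587) (iv F45383)
theorem F49399 : act 3 n12564 = n11551 := d23_1 D12564 (iv D11551) (iv F45384)
theorem F49400 : act 4 n12564 = n11914 := d27_1 D12564 (iv D11914) (iv F45385)
def n12565 : Q := act 8 n11545
theorem D12565 : act 8 n11545 = n12565 := rfl
theorem F49401 : act 0 n12565 = n11588 := d7_1 D12565 (iv D11588) (iv F45383)
theorem F49402 : act 3 n12565 = n11552 := d25_1 D12565 (iv D11552) (iv F45384)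
theorem F49403 : act 4 n12565 = n11915 := d29_1 D12565 (iv D11915) (iv F45385)
theorem F49404 : act 5 n12565 = n11546 := d32_1 D12565 (iv D11546) D11545
def n12566 : Q := act 7 n11546
theorem D12566 : act 7 n11546 = n12566 := rfl
theorem F49405 : act 0 n12566 = n11589 := d6_1 D12566 (iv D11589) (iv F45386)
theorem F49406 : act 4 n12566 = n11547 := d28_1 D12566 (iv D11547) (iv F45388)
def n12567 : Q := act 6 n11548
theorem D12567 : act 6 n11548 = n12567 := rfl
theorem F49407 : act 0 n12567 = n11590 := d5_1 D12567 (iv D11590) (iv F45392)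
theorem F49408 : act 2 n12567 = n12567 := d18_1 D12567 (iv D12567) F45393
theorem F49409 : act 4 n12567 = n12567 := d27_1 D12567 (iv D12567) F45394
theorem F49410 : act 5 n12567 = n11551 := d30_1 D12567 (iv D11551) (iv D10096) (iv F39466) D11548
theorem F49411 : act 7 n12567 = n12567 := d33_2 F45395 D12567 (iv D12567)
def n12568 : Q := act 8 n11548
theorem D12568 : act 8 n11548 = n12568 := rfl
theorem F49412 : act 0 n12568 = n11591 := d7_1 D12568 (iv D11591) (iv F45392)
theorem F49413 : act 2 n12568 = n12568 := d20_1 D12568 (iv D12568) F45393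
theorem F49414 : act 4 n12568 = n12568 := d29_1 D12568 (iv D12568) F45394
theorem F49415 : act 5 n12568 = n11549 := d32_1 D12568 (iv D11549) D11548
def n12569 : Q := act 7 n11549
theorem D12569 : act 7 n11549 = n12569 := rfl
theorem F49416 : act 0 n12569 = n11592 := d6_1 D12569 (iv D11592) (iv F45396)
theorem F49417 : act 2 n12569 = n12569 := d19_1 D12569 (iv D12569) F45397
theorem F49418 : act 4 n12569 = n11550 := d28_1 D12569 (iv D11550) (iv F45398)
theorem F49419 : act 6 n12569 = n11553 := d33_1 D12569 (iv D11553) (iv F45399)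
theorem F49420 : act 8 n12569 = n12569 := d35_2 D11549 D12569 (iv D12569) (iv D11549) F39467
def n12570 : Q := act 8 n11551
theorem D12570 : act 8 n11551 = n12570 := rfl
theorem F49421 : act 0 n12570 = n11593 := d7_1 D12570 (iv D11593) (iv F45406)
theorem F49422 : act 2 n12570 = n12570 := d20_1 D12570 (iv D12570) F45407
theorem F49423 : act 4 n12570 = n11554 := d29_1 D12570 (iv D11554) (iv F45408)
theorem F49424 : act 6 n12570 = n11552 := d34_1 D12570 (iv D11552) D11551
def n12571 : Q := act 7 n11552
theorem D12571 : act 7 n11552 = n12571 := rfl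
theorem F49425 : act 0 n12571 = n11594 := d6_1 D12571 (iv D11594) (iv F45410)
theorem F49426 : act 2 n12571 = n12571 := d19_1 D12571 (iv D12571) F45411
theorem F49427 : act 4 n12571 = n11555 := d28_1 D12571 (iv D11555) (iv F45412)
theorem F49428 : act 5 n12571 = n11553 := d31_1 D12571 (iv D11553) (iv F45413)
theorem F49429 : act 8 n12571 = n12571 := d35_2 D11552 D12571 (iv D12571) (iv D11552) F39476
def n12572 : Q := act 3 n11553
theorem D12572 : act 3 n11553 = n12572 := rfl
theorem F49430 : act 0 n12572 = n11595 := d2_1 D12572 (iv D11595) (iv F45414)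
theorem F49431 : act 4 n12572 = n12293 := d21_2 (iv F45416) D12572 (iv D12293) F43890 (iv F39482)
theorem F49432 : act 8 n12572 = n12572 := d25_2 F45417 D12572 (iv D12572)
def n12573 : Q := act 7 n11554
theorem D12573 : act 7 n11554 = n12573 := rfl
theorem F49433 : act 0 n12573 = n11596 := d6_1 D12573 (iv D11596) (iv F45418)
theorem F49434 : act 2 n12573 = n12573 := d19_1 D12573 (iv D12573) F45419
theorem F49435 : act 5 n12573 = n12573 := d31_1 D12573 (iv D12573) F45421
theorem F49436 : act 6 n12573 = n11555 := d33_1 D12573 (iv D11555) (iv F45422)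
theorem F49437 : act 8 n12573 = n12573 := d35_2 D11554 D12573 (iv D12573) (iv D11554) F39489
def n12574 : Q := act 3 n11555
theorem D12574 : act 3 n11555 = n12574 := rfl
theorem F49438 : act 0 n12574 = n11597 := d2_1 D12574 (iv D11597) (iv F45423)
theorem F49439 : act 5 n12574 = n11556 := d22_2 (iv F45425) D12574 (iv D11556)
theorem F49440 : act 7 n12574 = n11924 := d24_2 D11555 D12574 (iv D11924) (iv D10452) (iv F39492)
theorem F49441 : act 8 n12574 = n12574 := d25_2 F45426 D12574 (iv D12574)
def n12575 : Q := act 2 n11556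
theorem D12575 : act 2 n11556 = n12575 := rfl
theorem F49442 : act 0 n12575 = n11598 := d1_1 D12575 (iv D11598) (iv F45427)
theorem F49443 : act 3 n12575 = n12575 := d15_2 D11556 D12575 (iv D12575) (iv D11556) F39495
theorem F49444 : act 4 n12575 = n12296 := d16_2 (iv F45428) D12575 (iv D12296)
theorem F49445 : act 6 n12575 = n12575 := d18_2 F45429 D12575 (iv D12575)
theorem F49446 : act 7 n12575 = n11925 := d19_2 (iv F45430) D12575 (iv D11925)
theorem F49447 : act 8 n12575 = n12575 := d20_2 F45431 D12575 (iv D12575)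
def n12576 : Q := act 0 n11557
theorem D12576 : act 0 n11557 = n12576 := rfl
theorem F49448 : act 1 n12576 = n11599 := d0_2 D11557 D12576 (iv D11599) (iv D10134) (iv F39505)
theorem F49449 : act 2 n12576 = n12393 := d1_2 (iv F45432) D12576 F48698
theorem F49450 : act 4 n12576 = n12576 := d3_2 F45433 D12576 (iv D12576)
theorem F49451 : act 5 n12576 = n11665 := d4_2 (iv F45434) D12576 F45926
theorem F49452 : act 6 n12576 = n11559 := d5_2 (iv F45435) D12576 (iv D11559)
theorem F49453 : act 7 n12576 = n11633 := d6_2 (iv F45436) D12576 (iv D11633)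
def n12577 : Q := act 8 n11557
theorem D12577 : act 8 n11557 = n12577 := rfl
theorem F49454 : act 1 n12577 = n11558 := d14_1 D12577 (iv D11558) D11557
theorem F49455 : act 2 n12577 = n12506 := d20_1 D12577 (iv D12506) (iv F45432)
theorem F49456 : act 4 n12577 = n12577 := d29_1 D12577 (iv D12577) F45433
theorem F49457 : act 5 n12577 = n11810 := d32_1 D12577 (iv D11810) (iv F45434)
theorem F49458 : act 6 n12577 = n11560 := d34_1 D12577 (iv D11560) (iv F45435)
theorem F49459 : act 7 n12577 = n11841 := d35_1 D12577 (iv D11841) F40564 (iv F39749) (iv F45436)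
def n12578 : Q := act 8 n11559
theorem D12578 : act 8 n11559 = n12578 := rfl
theorem F49460 : act 0 n12578 = n11560 := d7_1 D12578 (iv D11560) D11559
theorem F49461 : act 1 n12578 = n11601 := d14_1 D12578 (iv D11601) (iv F45443)
theorem F49462 : act 4 n12578 = n12578 := d29_1 D12578 (iv D12578) F45444
theorem F49463 : act 5 n12578 = n11926 := d32_1 D12578 (iv D11926) (iv F45445)
def n12579 : Q := act 8 n11561
theorem D12579 : act 8 n11561 = n12579 := rfl
theorem F49464 : act 1 n12579 = n11850 := d14_1 D12579 F46618 (iv F45450)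
theorem F49465 : act 2 n12579 = n11634 := d20_1 D12579 (iv D11634) (iv F45451)
theorem F49466 : act 3 n12579 = n11656 := d25_1 D12579 (iv D11656) F45455
theorem F49467 : act 4 n12579 = n11563 := d29_1 D12579 (iv D11563) (iv F45452)
theorem F49468 : act 5 n12579 = n12579 := d32_1 D12579 (iv D12579) F45453
theorem F49469 : act 6 n12579 = n11699 := d34_1 D12579 F46077 (iv F45454)
theorem F49470 : act 7 n12579 = n11639 := d35_1 D12579 (iv D11639) F39781 (iv F39528) D11561
def n12580 : Q := act 8 n11562
theorem D12580 : act 8 n11562 = n12580 := rfl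
theorem F49471 : act 2 n12580 = n11697 := d20_1 D12580 (iv D11697) (iv F45456)
theorem F49472 : act 3 n12580 = n11563 := d25_1 D12580 (iv D11563) D11562
theorem F49473 : act 4 n12580 = n11696 := d29_1 D12580 (iv D11696) (iv F45457)
theorem F49474 : act 5 n12580 = n11566 := d32_1 D12580 (iv D11566) (iv F45458)
theorem F49475 : act 6 n12580 = n11842 := d34_1 D12580 (iv D11842) (iv F45459)
def n12581 : Q := act 8 n11564
theorem D12581 : act 8 n11564 = n12581 := rfl
theorem F49476 : act 1 n12581 = n11848 := d14_1 D12581 (iv D11848) F45469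
theorem F49477 : act 2 n12581 = n11566 := d20_1 D12581 (iv D11566) D11564
theorem F49478 : act 3 n12581 = n11635 := d25_1 D12581 (iv D11635) (iv F45465)
theorem F49479 : act 4 n12581 = n12249 := d29_1 D12581 (iv D12249) F45470
theorem F49480 : act 5 n12581 = n11697 := d32_1 D12581 (iv D11697) (iv F45466)
theorem F49481 : act 6 n12581 = n11569 := d34_1 D12581 (iv D11569) (iv F45467)
def n12582 : Q := act 8 n11565
theorem D12582 : act 8 n11565 = n12582 := rfl
theorem F49482 : act 2 n12582 = n12249 := d20_1 D12582 (iv D12249) (iv F45471)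
theorem F49483 : act 3 n12582 = n12582 := d25_1 D12582 (iv D12582) F45472
theorem F49484 : act 4 n12582 = n11566 := d29_1 D12582 (iv D11566) D11565
theorem F49485 : act 5 n12582 = n12247 := d32_1 D12582 (iv D12247) (iv F45473)
theorem F49486 : act 6 n12582 = n11571 := d34_1 D12582 (iv D11571) (iv F45474)
def n12583 : Q := act 7 n11566
theorem D12583 : act 7 n11566 = n12583 := rfl
theorem F49487 : act 3 n12583 = n11934 := d24_1 D12583 (iv D11934) F40812 (iv F39537) (iv F45476)
theorem F49488 : act 6 n12583 = n11572 := d33_1 D12583 (iv D11572) (iv F45477)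
theorem F49489 : act 8 n12583 = n11580 := d35_2 D11566 D12583 (iv D11580) (iv D10118) (iv F39533)
def n12584 : Q := act 0 n11567
theorem D12584 : act 0 n11567 = n12584 := rfl
theorem F49490 : act 3 n12584 = n11637 := d2_2 (iv F45478) D12584 (iv D11637)
theorem F49491 : act 4 n12584 = n12288 := d3_2 F45482 D12584 F48248
theorem F49492 : act 5 n12584 = n11929 := d4_2 (iv F45479) D12584 (iv D11929)
theorem F49493 : act 6 n12584 = n11834 := d5_2 (iv F45480) D12584 F46564
theorem F49494 : act 7 n12584 = n11581 := d6_2 (iv F45481) D12584 (iv D11581)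
def n12585 : Q := act 8 n11567
theorem D12585 : act 8 n11567 = n12585 := rfl
theorem F49495 : act 1 n12585 = n11569 := d14_1 D12585 (iv D11569) D11567
theorem F49496 : act 3 n12585 = n11638 := d25_1 D12585 (iv D11638) (iv F45478)
theorem F49497 : act 4 n12585 = n12299 := d29_1 D12585 (iv D12299) F45482
theorem F49498 : act 5 n12585 = n11931 := d32_1 D12585 (iv D11931) (iv F45479)
theorem F49499 : act 6 n12585 = n11848 := d34_1 D12585 (iv D11848) (iv F45480)
def n12586 : Q := act 5 n11568
theorem D12586 : act 5 n11568 = n12586 := rfl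
theorem F49500 : act 1 n12586 = n11946 := d11_1 D12586 F46923 (iv F45483)
theorem F49501 : act 2 n12586 = n11570 := d17_1 D12586 (iv D11570) (iv F45484)
theorem F49502 : act 3 n12586 = n12038 := d22_1 D12586 F47285 (iv F45485)
theorem F49503 : act 4 n12586 = n11932 := d26_1 D12586 (iv D11932) (iv D10461) (iv F39539) D11568
theorem F49504 : act 6 n12586 = n11943 := d30_2 (iv F45486) D12586 (iv D11943) F40831 D11274
theorem F49505 : act 7 n12586 = n11584 := d31_2 (iv F45487) D12586 (iv D11584)
def n12587 : Q := act 8 n11568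
theorem D12587 : act 8 n11568 = n12587 := rfl
theorem F49506 : act 1 n12587 = n12299 := d14_1 D12587 (iv D12299) (iv F45483)
theorem F49507 : act 2 n12587 = n11571 := d20_1 D12587 (iv D11571) (iv F45484)
theorem F49508 : act 3 n12587 = n12251 := d25_1 D12587 (iv D12251) (iv F45485)
theorem F49509 : act 4 n12587 = n11569 := d29_1 D12587 (iv D11569) D11568
theorem F49510 : act 6 n12587 = n12249 := d34_1 D12587 (iv D12249) (iv F45486)
def n12588 : Q := act 7 n11569
theorem D12588 : act 7 n11569 = n12588 := rfl
theorem F49511 : act 2 n12588 = n11572 := d19_1 D12588 (iv D11572) (iv F45488)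
theorem F49512 : act 5 n12588 = n11934 := d31_1 D12588 (iv D11934) (iv F45490)
theorem F49513 : act 8 n12588 = n11586 := d35_2 D11569 D12588 (iv D11586) (iv D10121) (iv F39540)
def n12589 : Q := act 6 n11570
theorem D12589 : act 6 n11570 = n12589 := rfl
theorem F49514 : act 1 n12589 = n11786 := d12_1 D12589 (iv F48954) F48950
theorem F49515 : act 2 n12589 = n11943 := d18_1 D12589 (iv F49504) F49501
theorem F49516 : act 3 n12589 = n12589 := d23_1 D12589 (iv D12589) F45491
theorem F49517 : act 4 n12589 = n11935 := d27_1 D12589 (iv D11935) (iv F45492)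
theorem F49518 : act 5 n12589 = n11784 := d30_1 D12589 F46385 (iv F45473) F45474 D11570
theorem F49519 : act 7 n12589 = n11587 := d33_2 (iv F45493) D12589 (iv D11587)
def n12590 : Q := act 8 n11570
theorem D12590 : act 8 n11570 = n12590 := rfl
theorem F49520 : act 3 n12590 = n12590 := d25_1 D12590 (iv D12590) F45491
theorem F49521 : act 4 n12590 = n11936 := d29_1 D12590 (iv D11936) (iv F45492)
theorem F49522 : act 5 n12590 = n11571 := d32_1 D12590 (iv D11571) D11570
def n12591 : Q := act 7 n11571
theorem D12591 : act 7 n11571 = n12591 := rfl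
theorem F49523 : act 4 n12591 = n11572 := d28_1 D12591 (iv D11572) (iv F45495)
theorem F49524 : act 8 n12591 = n11589 := d35_2 D11571 D12591 (iv D11589) (iv D10123) (iv F39542)
def n12592 : Q := act 8 n11573
theorem D12592 : act 8 n11573 = n12592 := rfl
theorem F49525 : act 2 n12592 = n11692 := d20_1 D12592 (iv D11692) (iv F45499)
theorem F49526 : act 3 n12592 = n12592 := d25_1 D12592 (iv D12592) F45500
theorem F49527 : act 4 n12592 = n11574 := d29_1 D12592 (iv D11574) D11573
theorem F49528 : act 5 n12592 = n12244 := d32_1 D12592 (iv D12244) F45503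
theorem F49529 : act 6 n12592 = n11846 := d34_1 D12592 (iv D11846) (iv F45501)
def n12593 : Q := act 7 n11574
theorem D12593 : act 7 n11574 = n12593 := rfl
theorem F49530 : act 2 n12593 = n11844 := d19_1 D12593 (iv D11844) (iv F45504)
theorem F49531 : act 3 n12593 = n11586 := d24_1 D12593 (iv D11586) F39565 (iv F39552) (iv F45505)
theorem F49532 : act 5 n12593 = n11580 := d31_1 D12593 (iv D11580) (iv F45506)
theorem F49533 : act 6 n12593 = n11847 := d33_1 D12593 (iv D11847) (iv F45507)
def n12594 : Q := act 0 n11575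
theorem D12594 : act 0 n11575 = n12594 := rfl
theorem F49534 : act 3 n12594 = n11599 := d2_2 (iv F45508) D12594 (iv D11599)
theorem F49535 : act 4 n12594 = n12285 := d3_2 F45512 D12594 F48240
theorem F49536 : act 5 n12594 = n11679 := d4_2 (iv F45509) D12594 F45997
theorem F49537 : act 6 n12594 = n11581 := d5_2 (iv F45510) D12594 (iv D11581)
theorem F49538 : act 7 n12594 = n11834 := d6_2 (iv F45511) D12594 F46564
def n12595 : Q := act 8 n11575
theorem D12595 : act 8 n11575 = n12595 := rfl
theorem F49539 : act 1 n12595 = n11577 := d14_1 D12595 (iv D11577) D11575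
theorem F49540 : act 3 n12595 = n11600 := d25_1 D12595 (iv D11600) (iv F45508)
theorem F49541 : act 4 n12595 = n12297 := d29_1 D12595 (iv D12297) F45512
theorem F49542 : act 5 n12595 = n11694 := d32_1 D12595 (iv D11694) (iv F45509)
theorem F49543 : act 6 n12595 = n11583 := d34_1 D12595 (iv D11583) (iv F45510)
def n12596 : Q := act 8 n11576
theorem D12596 : act 8 n11576 = n12596 := rfl
theorem F49544 : act 1 n12596 = n12297 := d14_1 D12596 (iv D12297) (iv F45513)
theorem F49545 : act 2 n12596 = n11579 := d20_1 D12596 (iv D11579) (iv F45514)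
theorem F49546 : act 3 n12596 = n12596 := d25_1 D12596 (iv D12596) F45515
theorem F49547 : act 4 n12596 = n11577 := d29_1 D12596 (iv D11577) D11576
theorem F49548 : act 5 n12596 = n12245 := d32_1 D12596 (iv D12245) (iv F45516)
theorem F49549 : act 6 n12596 = n11585 := d34_1 D12596 (iv D11585) (iv F45517)
def n12597 : Q := act 7 n11577
theorem D12597 : act 7 n11577 = n12597 := rfl
theorem F49550 : act 2 n12597 = n11580 := d19_1 D12597 (iv D11580) (iv F45519)
theorem F49551 : act 3 n12597 = n11847 := d24_1 D12597 (iv D11847) F40589 (iv F39613) (iv F45520)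
theorem F49552 : act 5 n12597 = n11844 := d31_1 D12597 (iv D11844) (iv F45521)
theorem F49553 : act 6 n12597 = n11586 := d33_1 D12597 (iv D11586) (iv F45522)
def n12598 : Q := act 6 n11578
theorem D12598 : act 6 n11578 = n12598 := rfl
theorem F49554 : act 1 n12598 = n11771 := d12_1 D12598 F46342 (iv F45523)
theorem F49555 : act 2 n12598 = n11930 := d18_1 D12598 F46877 (iv F45524)
theorem F49556 : act 3 n12598 = n11590 := d23_1 D12598 (iv D11590) (iv F45525)
theorem F49557 : act 4 n12598 = n11770 := d27_1 D12598 F46339 (iv F45526)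
theorem F49558 : act 5 n12598 = n11587 := d30_1 D12598 (iv D11587) (iv D10122) (iv F39557) D11578
theorem F49559 : act 7 n12598 = n11784 := d33_2 (iv F45527) D12598 F46385
def n12599 : Q := act 8 n11578
theorem D12599 : act 8 n11578 = n12599 := rfl
theorem F49560 : act 1 n12599 = n11956 := d14_1 D12599 F46950 (iv F45523)
theorem F49561 : act 2 n12599 = n12245 := d20_1 D12599 (iv D12245) (iv F45524)
theorem F49562 : act 3 n12599 = n11591 := d25_1 D12599 (iv D11591) (iv F45525)
theorem F49563 : act 4 n12599 = n12244 := d29_1 D12599 (iv D12244) (iv F45526)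
theorem F49564 : act 5 n12599 = n11579 := d32_1 D12599 (iv D11579) D11578
def n12600 : Q := act 7 n11579
theorem D12600 : act 7 n11579 = n12600 := rfl
theorem F49565 : act 4 n12600 = n11580 := d28_1 D12600 (iv D11580) (iv F45529)
theorem F49566 : act 6 n12600 = n11589 := d33_1 D12600 (iv D11589) (iv F45530)
def n12601 : Q := act 4 n11581
theorem D12601 : act 4 n11581 = n12601 := rfl
theorem F49567 : act 0 n12601 = n11582 := d3_1 D12601 (iv D11582) D11581
theorem F49568 : act 3 n12601 = n12601 := d21_1 D12601 (iv D12601) F45533 F39615 (iv F45533)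
theorem F49569 : act 6 n12601 = n12285 := d27_2 F49537 D12601 (iv F49535)
theorem F49570 : act 7 n12601 = n12288 := d28_2 F49494 D12601 (iv F49491)
def n12602 : Q := act 8 n11581
theorem D12602 : act 8 n11581 = n12602 := rfl
theorem F49571 : act 0 n12602 = n11583 := d7_1 D12602 (iv D11583) D11581
theorem F49572 : act 3 n12602 = n11601 := d25_1 D12602 (iv D11601) (iv F45533)
theorem F49573 : act 5 n12602 = n11942 := d32_1 D12602 (iv D11942) (iv F45534)
def n12603 : Q := act 5 n11582
theorem D12603 : act 5 n11582 = n12603 := rfl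
theorem F49574 : act 1 n12603 = n11584 := d11_1 D12603 (iv D11584) (iv F45535)
theorem F49575 : act 2 n12603 = n11935 := d17_1 D12603 F49006 F49002
theorem F49576 : act 3 n12603 = n12603 := d22_1 D12603 (iv D12603) F45536
theorem F49577 : act 4 n12603 = n11943 := d26_1 D12603 (iv D11943) (iv D10470) (iv F39561) D11582
theorem F49578 : act 6 n12603 = n11932 := d30_2 (iv F45537) D12603 (iv D11932) F40809 D11313
theorem F49579 : act 7 n12603 = n11946 := d31_2 (iv F45538) D12603 F46923
def n12604 : Q := act 8 n11582
theorem D12604 : act 8 n11582 = n12604 := rfl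
theorem F49580 : act 1 n12604 = n11585 := d14_1 D12604 (iv D11585) (iv F45535)
theorem F49581 : act 3 n12604 = n12604 := d25_1 D12604 (iv D12604) F45536
theorem F49582 : act 4 n12604 = n11583 := d29_1 D12604 (iv D11583) D11582
theorem F49583 : act 6 n12604 = n12297 := d34_1 D12604 (iv D12297) (iv F45537)
def n12605 : Q := act 7 n11583
theorem D12605 : act 7 n11583 = n12605 := rfl
theorem F49584 : act 1 n12605 = n11586 := d13_1 D12605 (iv D11586) (iv F45539)
theorem F49585 : act 5 n12605 = n11945 := d31_1 D12605 (iv D11945) (iv F45541)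
def n12606 : Q := act 6 n11584
theorem D12606 : act 6 n11584 = n12606 := rfl
theorem F49586 : act 1 n12606 = n11932 := d12_1 D12606 (iv F49578) F49574
theorem F49587 : act 2 n12606 = n11587 := d18_1 D12606 (iv D11587) (iv F45542)
theorem F49588 : act 3 n12606 = n12606 := d23_1 D12606 (iv D12606) F45543
theorem F49589 : act 4 n12606 = n11946 := d27_1 D12606 (iv D11946) (iv F45544)
theorem F49590 : act 5 n12606 = n11930 := d30_1 D12606 F46877 (iv F45516) F45517 D11584
theorem F49591 : act 7 n12606 = n11943 := d33_2 F49505 D12606 (iv F49504)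
def n12607 : Q := act 8 n11584
theorem D12607 : act 8 n11584 = n12607 := rfl
theorem F49592 : act 2 n12607 = n11588 := d20_1 D12607 (iv D11588) (iv F45542)
theorem F49593 : act 3 n12607 = n12607 := d25_1 D12607 (iv D12607) F45543
theorem F49594 : act 4 n12607 = n11947 := d29_1 D12607 (iv D11947) (iv F45544)
theorem F49595 : act 5 n12607 = n11585 := d32_1 D12607 (iv D11585) D11584
def n12608 : Q := act 7 n11585
theorem D12608 : act 7 n11585 = n12608 := rfl
theorem F49596 : act 2 n12608 = n11589 := d19_1 D12608 (iv D11589) (iv F45545)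
theorem F49597 : act 4 n12608 = n11586 := d28_1 D12608 (iv D11586) (iv F45547)
def n12609 : Q := act 8 n11587
theorem D12609 : act 8 n11587 = n12609 := rfl
theorem F49598 : act 3 n12609 = n11593 := d25_1 D12609 (iv D11593) (iv F45550)
theorem F49599 : act 4 n12609 = n11949 := d29_1 D12609 (iv D11949) (iv F45551)
theorem F49600 : act 6 n12609 = n11588 := d34_1 D12609 (iv D11588) D11587
def n12610 : Q := act 7 n11588
theorem D12610 : act 7 n11588 = n12610 := rfl
theorem F49601 : act 4 n12610 = n11950 := d28_1 D12610 (iv D11950) (iv F45553)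
theorem F49602 : act 5 n12610 = n11589 := d31_1 D12610 (iv D11589) (iv F45554)
def n12611 : Q := act 3 n11589
theorem D12611 : act 3 n11589 = n12611 := rfl
theorem F49603 : act 4 n12611 = n12301 := d21_2 (iv F45555) D12611 (iv D12301) F43911 (iv F39571)
theorem F49604 : act 7 n12611 = n11595 := d24_2 D11589 D12611 (iv D11595) (iv D10130) (iv F39569)
def n12612 : Q := act 8 n11590
theorem D12612 : act 8 n11590 = n12612 := rfl
theorem F49605 : act 1 n12612 = n12049 := d14_1 D12612 F47331 (iv F45556)
theorem F49606 : act 2 n12612 = n12612 := d20_1 D12612 (iv D12612) F45557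
theorem F49607 : act 4 n12612 = n12612 := d29_1 D12612 (iv D12612) F45558
theorem F49608 : act 5 n12612 = n11593 := d32_1 D12612 (iv D11593) (iv F45559)
theorem F49609 : act 6 n12612 = n11591 := d34_1 D12612 (iv D11591) D11590
theorem F49610 : act 7 n12344 = n12612 := d13_0 F49605 F47330 D12344
def n12613 : Q := act 7 n11591
theorem D12613 : act 7 n11591 = n12613 := rfl
theorem F49611 : act 1 n12613 = n12046 := d13_1 D12613 F47317 (iv F45561)
theorem F49612 : act 2 n12613 = n12613 := d19_1 D12613 (iv D12613) F45562
theorem F49613 : act 4 n12613 = n12613 := d28_1 D12613 (iv D12613) F45563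
theorem F49614 : act 5 n12613 = n11592 := d31_1 D12613 (iv D11592) (iv F45564)
theorem F49615 : act 6 n12613 = n12344 := d33_1 D12613 F49610 F49609
theorem F49616 : act 8 n12613 = n12613 := d35_2 D11591 D12613 (iv D12613) (iv D11591) F39575
def n12614 : Q := act 3 n11592
theorem D12614 : act 3 n11592 = n12614 := rfl
theorem F49617 : act 4 n12614 = n12043 := d21_2 (iv F45566) D12614 (iv D12043) F41202 (iv F39580)
theorem F49618 : act 6 n12614 = n11595 := d23_2 (iv F45567) D12614 (iv D11595)
theorem F49619 : act 8 n12614 = n12614 := d25_2 F45568 D12614 (iv D12614)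
def n12615 : Q := act 7 n11593
theorem D12615 : act 7 n11593 = n12615 := rfl
theorem F49620 : act 1 n12615 = n12342 := d13_1 D12615 F49046 F49041
theorem F49621 : act 2 n12615 = n12615 := d19_1 D12615 (iv D12615) F45569
theorem F49622 : act 4 n12615 = n11596 := d28_1 D12615 (iv D11596) (iv F45570)
theorem F49623 : act 5 n12615 = n12344 := d31_1 D12615 F49610 F49608
theorem F49624 : act 6 n12615 = n11594 := d33_1 D12615 (iv D11594) (iv F45571)
theorem F49625 : act 8 n12615 = n12615 := d35_2 D11593 D12615 (iv D12615) (iv D11593) F39586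
def n12616 : Q := act 3 n11594
theorem D12616 : act 3 n11594 = n12616 := rfl
theorem F49626 : act 5 n12616 = n11595 := d22_2 (iv F45574) D12616 (iv D11595)
theorem F49627 : act 8 n12616 = n12616 := d25_2 F45575 D12616 (iv D12616)
def n12617 : Q := act 2 n11595
theorem D12617 : act 2 n11595 = n12617 := rfl
theorem F49628 : act 3 n12617 = n12617 := d15_2 D11595 D12617 (iv D12617) (iv D11595) F39590
theorem F49629 : act 4 n12617 = n12304 := d16_2 (iv F45576) D12617 (iv D12304)
theorem F49630 : act 8 n12617 = n12617 := d20_2 F45577 D12617 (iv D12617)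
def n12618 : Q := act 8 n11599
theorem D12618 : act 8 n11599 = n12618 := rfl
theorem F49631 : act 0 n12618 = n11600 := d7_1 D12618 (iv D11600) D11599
theorem F49632 : act 2 n12618 = n11602 := d20_1 D12618 (iv D11602) (iv F45590)
theorem F49633 : act 4 n12618 = n12618 := d29_1 D12618 (iv D12618) F45591
theorem F49634 : act 5 n12618 = n11680 := d32_1 D12618 (iv D11680) (iv F45592)
theorem F49635 : act 6 n12618 = n11601 := d34_1 D12618 (iv D11601) (iv F45593)
theorem F49636 : act 7 n12618 = n11742 := d35_1 D12618 (iv D11742) (iv D10295) (iv F39809) (iv F45594)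
def n12619 : Q := act 4 n11603
theorem D12619 : act 4 n11603 = n12619 := rfl
theorem F49637 : act 0 n12619 = n12619 := d3_1 D12619 (iv D12619) F45611
theorem F49638 : act 2 n12619 = n11607 := d16_1 D12619 (iv D11607) (iv F45612)
theorem F49639 : act 5 n12619 = n12619 := d26_2 D11603 D12619 (iv D12619) (iv D11603) F39637
theorem F49640 : act 6 n12619 = n11964 := d27_2 (iv F45613) D12619 (iv D11964)
theorem F49641 : act 8 n12619 = n11617 := d29_2 (iv F45614) D12619 (iv D11617)
def n12620 : Q := act 7 n11603
theorem D12620 : act 7 n11603 = n12620 := rfl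
theorem F49642 : act 0 n12620 = n12620 := d6_1 D12620 (iv D12620) F45611
theorem F49643 : act 2 n12620 = n11608 := d19_1 D12620 (iv D11608) (iv F45612)
theorem F49644 : act 5 n12620 = n11604 := d31_1 D12620 (iv D11604) D11603
theorem F49645 : act 6 n12620 = n11961 := d33_1 D12620 F46970 (iv F45613)
def n12621 : Q := act 3 n11604
theorem D12621 : act 3 n11604 = n12621 := rfl
theorem F49646 : act 0 n12621 = n12621 := d2_1 D12621 (iv D12621) F45615
theorem F49647 : act 6 n12621 = n11605 := d23_2 (iv F45618) D12621 (iv D11605)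
def n12622 : Q := act 8 n11604
theorem D12622 : act 8 n11604 = n12622 := rfl
theorem F49648 : act 0 n12622 = n12622 := d7_1 D12622 (iv D12622) F45615
theorem F49649 : act 2 n12622 = n11610 := d20_1 D12622 (iv D11610) (iv F45616)
theorem F49650 : act 4 n12622 = n12622 := d29_1 D12622 (iv D12622) F45617
theorem F49651 : act 6 n12622 = n11606 := d34_1 D12622 (iv D11606) (iv F45618)
theorem F49652 : act 7 n12622 = n11972 := d35_1 D12622 (iv D11972) F40944 (iv F39638) D11604
def n12623 : Q := act 2 n11605
theorem D12623 : act 2 n11605 = n12623 := rfl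
theorem F49653 : act 0 n12623 = n12623 := d1_1 D12623 (iv D12623) F45619
theorem F49654 : act 3 n12623 = n11611 := d15_2 D11605 D12623 (iv D11611) (iv D10145) (iv F39640)
theorem F49655 : act 5 n12623 = n11968 := d17_2 (iv F45620) D12623 (iv D11968)
def n12624 : Q := act 4 n11605
theorem D12624 : act 4 n11605 = n12624 := rfl
theorem F49656 : act 0 n12624 = n12624 := d3_1 D12624 (iv D12624) F45619
theorem F49657 : act 3 n12624 = n12624 := d21_1 D12624 (iv D12624) (iv D11605) F39641 D11605
def n12625 : Q := act 8 n11605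
theorem D12625 : act 8 n11605 = n12625 := rfl
theorem F49658 : act 0 n12625 = n12625 := d7_1 D12625 (iv D12625) F45619
theorem F49659 : act 3 n12625 = n11606 := d25_1 D12625 (iv D11606) D11605
theorem F49660 : act 5 n12625 = n11970 := d32_1 D12625 (iv D11970) (iv F45620)
def n12626 : Q := act 7 n11607
theorem D12626 : act 7 n11607 = n12626 := rfl
theorem F49661 : act 0 n12626 = n12626 := d6_1 D12626 (iv D12626) F45626
theorem F49662 : act 1 n12626 = n11621 := d13_1 D12626 (iv D11621) (iv F45627)
theorem F49663 : act 3 n12626 = n11640 := d24_1 D12626 (iv D11640) F45131 F39701 (iv F45628)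
theorem F49664 : act 4 n12626 = n11608 := d28_1 D12626 (iv D11608) D11607
theorem F49665 : act 5 n12626 = n12626 := d31_1 D12626 (iv D12626) F45629
theorem F49666 : act 6 n12626 = n11962 := d33_1 D12626 F46975 (iv F45630)
def n12627 : Q := act 8 n11608
theorem D12627 : act 8 n11608 = n12627 := rfl
theorem F49667 : act 0 n12627 = n12627 := d7_1 D12627 (iv D12627) F45632
theorem F49668 : act 1 n12627 = n11622 := d14_1 D12627 (iv D11622) (iv F45633)
theorem F49669 : act 3 n12627 = n11960 := d25_1 D12627 (iv D11960) (iv F45634)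
theorem F49670 : act 5 n12627 = n11610 := d32_1 D12627 (iv D11610) (iv F45635)
theorem F49671 : act 6 n12627 = n11963 := d34_1 D12627 (iv D11963) (iv F45636)
theorem F49672 : act 7 n12627 = n11613 := d35_1 D12627 (iv D11613) F39655 (iv F39647) D11608
def n12628 : Q := act 2 n11609
theorem D12628 : act 2 n11609 = n12628 := rfl
theorem F49673 : act 0 n12628 = n12628 := d1_1 D12628 (iv D12628) F45637
theorem F49674 : act 5 n12628 = n11957 := d17_2 (iv F45639) D12628 F46952
theorem F49675 : act 6 n12628 = n11611 := d18_2 (iv F45640) D12628 (iv D11611)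
theorem F49676 : act 7 n12628 = n11614 := d19_2 (iv F45641) D12628 (iv D11614)
def n12629 : Q := act 4 n11609
theorem D12629 : act 4 n11609 = n12629 := rfl
theorem F49677 : act 0 n12629 = n12629 := d3_1 D12629 (iv D12629) F45637
theorem F49678 : act 1 n12629 = n11624 := d10_1 D12629 (iv D11624) (iv F45638)
theorem F49679 : act 3 n12629 = n12629 := d21_1 D12629 (iv D12629) (iv D11609) F39650 D11609
theorem F49680 : act 5 n12629 = n11643 := d26_2 (iv F45639) D12629 (iv D11643) F45096 (iv F40890)
theorem F49681 : act 6 n12629 = n11612 := d27_2 (iv F45640) D12629 (iv D11612)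
theorem F49682 : act 7 n12629 = n11615 := d28_2 (iv F45641) D12629 (iv D11615)
def n12630 : Q := act 8 n11609
theorem D12630 : act 8 n11609 = n12630 := rfl
theorem F49683 : act 0 n12630 = n12630 := d7_1 D12630 (iv D12630) F45637
theorem F49684 : act 1 n12630 = n11625 := d14_1 D12630 (iv D11625) (iv F45638)
theorem F49685 : act 3 n12630 = n11610 := d25_1 D12630 (iv D11610) D11609
theorem F49686 : act 5 n12630 = n11960 := d32_1 D12630 (iv D11960) (iv F45639)
theorem F49687 : act 6 n12630 = n11613 := d34_1 D12630 (iv D11613) (iv F45640)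
theorem F49688 : act 7 n12630 = n11963 := d35_1 D12630 (iv D11963) F40895 (iv F39665) (iv F45641)
def n12631 : Q := act 1 n11611
theorem D12631 : act 1 n11611 = n12631 := rfl
theorem F49689 : act 2 n12631 = n11626 := d8_2 D11611 D12631 (iv D11626) (iv D10159) (iv F39653)
theorem F49690 : act 5 n12631 = n11971 := d11_2 (iv F45648) D12631 (iv D11971)
theorem F49691 : act 7 n12631 = n11616 := d13_2 (iv F45649) D12631 (iv D11616)
def n12632 : Q := act 4 n11611
theorem D12632 : act 4 n11611 = n12632 := rfl
theorem F49692 : act 0 n12632 = n12632 := d3_1 D12632 (iv D12632) F45647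
theorem F49693 : act 2 n12632 = n11612 := d16_1 D12632 (iv D11612) D11611
theorem F49694 : act 5 n12632 = n12632 := d26_2 (iv F45648) D12632 (iv D12632) F45648 F40942
theorem F49695 : act 7 n12632 = n11617 := d28_2 (iv F45649) D12632 (iv D11617)
def n12633 : Q := act 8 n11611
theorem D12633 : act 8 n11611 = n12633 := rfl
theorem F49696 : act 0 n12633 = n12633 := d7_1 D12633 (iv D12633) F45647
theorem F49697 : act 2 n12633 = n11613 := d20_1 D12633 (iv D11613) D11611
theorem F49698 : act 5 n12633 = n11972 := d32_1 D12633 (iv D11972) (iv F45648)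
def n12634 : Q := act 8 n11612
theorem D12634 : act 8 n11612 = n12634 := rfl
theorem F49699 : act 0 n12634 = n12634 := d7_1 D12634 (iv D12634) F45650
theorem F49700 : act 1 n12634 = n11629 := d14_1 D12634 (iv D11629) (iv F45651)
theorem F49701 : act 3 n12634 = n12634 := d25_1 D12634 (iv D12634) F45652
theorem F49702 : act 4 n12634 = n11613 := d29_1 D12634 (iv D11613) D11612
theorem F49703 : act 5 n12634 = n12634 := d32_1 D12634 (iv D12634) F45653
def n12635 : Q := act 1 n11614
theorem D12635 : act 1 n11614 = n12635 := rfl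
theorem F49704 : act 2 n12635 = n11630 := d8_2 D11614 D12635 (iv D11630) (iv D10162) (iv F39662)
theorem F49705 : act 3 n12635 = n12494 := d9_2 (iv F45660) D12635 F49139
theorem F49706 : act 5 n12635 = n11805 := d11_2 (iv F45661) D12635 F46459
theorem F49707 : act 6 n12635 = n11616 := d12_2 (iv F45662) D12635 (iv D11616)
theorem F49708 : act 8 n12635 = n11853 := d14_2 (iv F45663) D12635 F46627
theorem F49709 : act 0 n12096 = n12635 := d4_3 F49706 F46458 D12096
theorem F49710 : act 4 n12052 = n12635 := d26_5 F49706 F46462 F41712 D10696 D12052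
def n12636 : Q := act 4 n11614
theorem D12636 : act 4 n11614 = n12636 := rfl
theorem F49711 : act 0 n12636 = n12636 := d3_1 D12636 (iv D12636) F45659
theorem F49712 : act 1 n12636 = n12052 := d10_1 D12636 F49710 (iv D12635)
theorem F49713 : act 2 n12636 = n11615 := d16_1 D12636 (iv D11615) D11614
theorem F49714 : act 5 n12636 = n12050 := d26_2 (iv F45661) D12636 (iv D12050) F45092 (iv F40882)
theorem F49715 : act 6 n12636 = n11617 := d27_2 (iv F45662) D12636 (iv D11617)
theorem F49716 : act 8 n12636 = n11964 := d29_2 (iv F45663) D12636 (iv D11964)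
def n12637 : Q := act 0 n11616
theorem D12637 : act 0 n11616 = n12637 := rfl
theorem F49717 : act 1 n12637 = n12637 := d0_2 D11616 D12637 (iv D12637) (iv D11616) F39666
theorem F49718 : act 2 n12637 = n11631 := d1_2 (iv F45670) D12637 (iv D11631)
theorem F49719 : act 5 n12637 = n11973 := d4_2 (iv F45671) D12637 (iv D11973)
theorem F49720 : act 6 n12637 = n12096 := d5_2 F49707 D12637 F49709
theorem F49721 : act 4 n12100 = n12637 := d27_3 F49720 F47541 D12100
def n12638 : Q := act 4 n11616
theorem D12638 : act 4 n11616 = n12638 := rfl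
theorem F49722 : act 0 n12638 = n12100 := d3_1 D12638 F49721 (iv D12637)
theorem F49723 : act 1 n12638 = n11617 := d10_1 D12638 (iv D11617) D11616
theorem F49724 : act 2 n12638 = n11632 := d16_1 D12638 (iv D11632) (iv F45670)
theorem F49725 : act 5 n12638 = n12638 := d26_2 (iv F45671) D12638 (iv D12638) F45671 F40952
theorem F49726 : act 6 n12638 = n12052 := d27_2 F49707 D12638 F49710
def n12639 : Q := act 3 n11617
theorem D12639 : act 3 n11617 = n12639 := rfl
theorem F49727 : act 0 n12639 = n12639 := d2_1 D12639 (iv D12639) F45672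
theorem F49728 : act 2 n12639 = n11619 := d15_1 D12639 (iv D11619) F39686 (iv F39670) (iv F45673)
theorem F49729 : act 4 n12639 = n12199 := d21_2 D11617 D12639 (iv F47943) (iv D11964) F40902
theorem F49730 : act 5 n12639 = n12639 := d22_2 F45674 D12639 (iv D12639)
theorem F49731 : act 7 n12195 = n12639 := d28_0 F49729 (iv D12199) (iv F47926)
def n12640 : Q := act 8 n11621
theorem D12640 : act 8 n11621 = n12640 := rfl
theorem F49732 : act 0 n12640 = n11634 := d7_1 D12640 (iv D11634) (iv F45694)
theorem F49733 : act 3 n12640 = n11645 := d25_1 D12640 (iv D11645) (iv F45695)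
theorem F49734 : act 4 n12640 = n11622 := d29_1 D12640 (iv D11622) (iv F45696)
theorem F49735 : act 5 n12640 = n12640 := d32_1 D12640 (iv D12640) F45697
theorem F49736 : act 6 n12640 = n11965 := d34_1 D12640 (iv D11965) (iv F45698)
theorem F49737 : act 7 n12640 = n11629 := d35_1 D12640 (iv D11629) F39725 (iv F39706) D11621
def n12641 : Q := act 1 n11623
theorem D12641 : act 1 n11623 = n12641 := rfl
theorem F49738 : act 0 n12641 = n11818 := d0_1 D12641 F46508 F40535 (iv F45039) (iv F45704)
theorem F49739 : act 4 n12641 = n11674 := d10_2 F45708 D12641 F45972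
theorem F49740 : act 5 n12641 = n11670 := d11_2 (iv F45705) D12641 F45954
theorem F49741 : act 6 n12641 = n11626 := d12_2 (iv F45706) D12641 (iv D11626)
theorem F49742 : act 7 n12641 = n11630 := d13_2 (iv F45707) D12641 (iv D11630)
def n12642 : Q := act 8 n11623
theorem D12642 : act 8 n11623 = n12642 := rfl
theorem F49743 : act 0 n12642 = n11635 := d7_1 D12642 (iv D11635) (iv F45704)
theorem F49744 : act 2 n12642 = n11625 := d20_1 D12642 (iv D11625) D11623
theorem F49745 : act 4 n12642 = n11685 := d29_1 D12642 (iv D11685) F45708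
theorem F49746 : act 5 n12642 = n11684 := d32_1 D12642 (iv D11684) (iv F45705)
theorem F49747 : act 6 n12642 = n11628 := d34_1 D12642 (iv D11628) (iv F45706)
theorem F49748 : act 7 n12642 = n11896 := d35_1 D12642 (iv D11896) (iv D10431) (iv F39733) (iv F45707)
def n12643 : Q := act 8 n11624
theorem D12643 : act 8 n11624 = n12643 := rfl
theorem F49749 : act 0 n12643 = n11636 := d7_1 D12643 (iv D11636) (iv F45709)
theorem F49750 : act 2 n12643 = n11685 := d20_1 D12643 (iv D11685) (iv F45710)
theorem F49751 : act 3 n12643 = n12643 := d25_1 D12643 (iv D12643) F45711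
theorem F49752 : act 4 n12643 = n11625 := d29_1 D12643 (iv D11625) D11624
theorem F49753 : act 5 n12643 = n11646 := d32_1 D12643 (iv D11646) (iv F45712)
theorem F49754 : act 6 n12643 = n11629 := d34_1 D12643 (iv D11629) (iv F45713)
theorem F49755 : act 7 n12643 = n11965 := d35_1 D12643 (iv D11965) F40920 (iv F39738) (iv F45714)
def n12644 : Q := act 0 n11626
theorem D12644 : act 0 n11626 = n12644 := rfl
theorem F49756 : act 1 n12644 = n11637 := d0_2 D11626 D12644 (iv D11637) (iv D10173) (iv F39719)
theorem F49757 : act 5 n12644 = n11974 := d4_2 (iv F45720) D12644 (iv D11974)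
theorem F49758 : act 6 n12644 = n11818 := d5_2 F49741 D12644 (iv F49738)
theorem F49759 : act 7 n12644 = n11631 := d6_2 (iv F45721) D12644 (iv D11631)
theorem F49760 : act 4 n11825 = n12644 := d28_3 F49759 (iv F45745) (iv F46537)
def n12645 : Q := act 4 n11626
theorem D12645 : act 4 n11626 = n12645 := rfl
theorem F49761 : act 0 n12645 = n11825 := d3_1 D12645 F49760 (iv D12644)
theorem F49762 : act 1 n12645 = n11627 := d10_1 D12645 (iv D11627) D11626
theorem F49763 : act 5 n12645 = n12645 := d26_2 (iv F45720) D12645 (iv D12645) F45720 F40954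
theorem F49764 : act 6 n12645 = n11674 := d27_2 F49741 D12645 (iv F49739)
theorem F49765 : act 7 n12645 = n11632 := d28_2 (iv F45721) D12645 (iv D11632)
theorem F49766 : act 3 n12224 = n12645 := d23_3 F49764 F45973 D12224
def n12646 : Q := act 8 n11626
theorem D12646 : act 8 n11626 = n12646 := rfl
theorem F49767 : act 1 n12646 = n11628 := d14_1 D12646 (iv D11628) D11626
theorem F49768 : act 5 n12646 = n11975 := d32_1 D12646 (iv D11975) (iv F45720)
def n12647 : Q := act 8 n11627
theorem D12647 : act 8 n11627 = n12647 := rfl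
theorem F49769 : act 0 n12647 = n11639 := d7_1 D12647 (iv D11639) (iv F45722)
theorem F49770 : act 2 n12647 = n11629 := d20_1 D12647 (iv D11629) (iv F45723)
theorem F49771 : act 3 n12647 = n12239 := d25_1 D12647 (iv D12239) F45727
theorem F49772 : act 4 n12647 = n11628 := d29_1 D12647 (iv D11628) D11627
theorem F49773 : act 5 n12647 = n12647 := d32_1 D12647 (iv D12647) F45724
theorem F49774 : act 6 n12647 = n11685 := d34_1 D12647 (iv D11685) (iv F45725)
def n12648 : Q := act 8 n11637
theorem D12648 : act 8 n11637 = n12648 := rfl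
theorem F49775 : act 0 n12648 = n11638 := d7_1 D12648 (iv D11638) D11637
theorem F49776 : act 2 n12648 = n12648 := d20_1 D12648 (iv D12648) F45777
theorem F49777 : act 4 n12648 = n11838 := d29_1 D12648 (iv D11838) (iv F45778)
theorem F49778 : act 5 n12648 = n11976 := d32_1 D12648 (iv D11976) (iv F45779)
theorem F49779 : act 6 n12648 = n11837 := d34_1 D12648 (iv D11837) (iv F45780)
def n12649 : Q := act 8 n11640
theorem D12649 : act 8 n11640 = n12649 := rfl
theorem F49780 : act 0 n12649 = n12649 := d7_1 D12649 (iv D12649) F45793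
theorem F49781 : act 1 n12649 = n11645 := d14_1 D12649 (iv D11645) (iv F45794)
theorem F49782 : act 2 n12649 = n12350 := d20_1 D12649 (iv D12350) (iv F45795)
theorem F49783 : act 4 n12649 = n11641 := d29_1 D12649 (iv D11641) (iv F45796)
theorem F49784 : act 5 n12649 = n12649 := d32_1 D12649 (iv D12649) F45797
theorem F49785 : act 6 n12649 = n12161 := d34_1 D12649 (iv D12161) (iv F45798)
theorem F49786 : act 7 n12649 = n12649 := d35_1 D12649 (iv D12649) (iv D11640) F39814 D11640
def n12650 : Q := act 4 n11642
theorem D12650 : act 4 n11642 = n12650 := rfl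
theorem F49787 : act 0 n12650 = n12650 := d3_1 D12650 (iv D12650) F45806
theorem F49788 : act 1 n12650 = n11672 := d10_1 D12650 (iv D11672) (iv F45807)
theorem F49789 : act 2 n12650 = n11643 := d16_1 D12650 (iv D11643) D11642
theorem F49790 : act 6 n12650 = n12650 := d27_2 F45810 D12650 (iv D12650)
theorem F49791 : act 7 n12650 = n12050 := d28_2 (iv F45811) D12650 (iv D12050)
def n12651 : Q := act 8 n11642
theorem D12651 : act 8 n11642 = n12651 := rfl
theorem F49792 : act 0 n12651 = n12651 := d7_1 D12651 (iv D12651) F45806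
theorem F49793 : act 1 n12651 = n11673 := d14_1 D12651 (iv D11673) (iv F45807)
theorem F49794 : act 2 n12651 = n11644 := d20_1 D12651 (iv D11644) D11642
theorem F49795 : act 3 n12651 = n12354 := d25_1 D12651 (iv D12354) (iv F45808)
theorem F49796 : act 5 n12651 = n12156 := d32_1 D12651 (iv D12156) (iv F45809)
theorem F49797 : act 6 n12651 = n12651 := d34_1 D12651 (iv D12651) F45810
theorem F49798 : act 7 n12651 = n12163 := d35_1 D12651 (iv D12163) (iv D11151) (iv F45093) (iv F45811)
def n12652 : Q := act 8 n11643
theorem D12652 : act 8 n11643 = n12652 := rfl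
theorem F49799 : act 0 n12652 = n12652 := d7_1 D12652 (iv D12652) F45812
theorem F49800 : act 1 n12652 = n11646 := d14_1 D12652 (iv D11646) (iv F45813)
theorem F49801 : act 3 n12652 = n12652 := d25_1 D12652 (iv D12652) F45814
theorem F49802 : act 4 n12652 = n11644 := d29_1 D12652 (iv D11644) D11643
theorem F49803 : act 6 n12652 = n12652 := d34_1 D12652 (iv D12652) F45815
theorem F49804 : act 7 n12652 = n12169 := d35_1 D12652 (iv D12169) (iv D11156) (iv F45095) (iv F45816)
def n12653 : Q := act 2 n11647
theorem D12653 : act 2 n11647 = n12653 := rfl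
theorem F49805 : act 0 n12653 = n11653 := d1_1 D12653 (iv D11653) (iv F45835)
theorem F49806 : act 3 n12653 = n11895 := d15_2 D11647 D12653 F46750 F40918 (iv F45017)
theorem F49807 : act 4 n12653 = n11687 := d16_2 (iv F45837) D12653 (iv D11687)
theorem F49808 : act 5 n12653 = n12056 := d17_2 F47746 D12653 (iv F47743)
theorem F49809 : act 6 n12653 = n11649 := d18_2 (iv F45838) D12653 (iv D11649)
theorem F49810 : act 7 n12653 = n12653 := d19_2 F45839 D12653 (iv D12653)
def n12654 : Q := act 8 n11647
theorem D12654 : act 8 n11647 = n12654 := rfl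
theorem F49811 : act 0 n12654 = n11654 := d7_1 D12654 (iv D11654) (iv F45835)
theorem F49812 : act 1 n12654 = n12365 := d14_1 D12654 (iv D12365) (iv F45836)
theorem F49813 : act 3 n12654 = n11648 := d25_1 D12654 (iv D11648) D11647
theorem F49814 : act 4 n12654 = n11688 := d29_1 D12654 (iv D11688) (iv F45837)
theorem F49815 : act 6 n12654 = n11650 := d34_1 D12654 (iv D11650) (iv F45838)
def n12655 : Q := act 1 n11649
theorem D12655 : act 1 n11649 = n12655 := rfl
theorem F49816 : act 2 n12655 = n12366 := d8_2 D11649 D12655 (iv D12366) (iv D11382) (iv F39880)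
theorem F49817 : act 4 n12655 = n11689 := d10_2 (iv F45847) D12655 (iv D11689)
theorem F49818 : act 5 n12655 = n12655 := d11_2 F45848 D12655 (iv D12655)
theorem F49819 : act 7 n12655 = n12655 := d13_2 F45849 D12655 (iv D12655)
def n12656 : Q := act 8 n11649
theorem D12656 : act 8 n11649 = n12656 := rfl
theorem F49820 : act 0 n12656 = n11656 := d7_1 D12656 (iv D11656) (iv F45846)
theorem F49821 : act 2 n12656 = n11650 := d20_1 D12656 (iv D11650) D11649
theorem F49822 : act 4 n12656 = n11690 := d29_1 D12656 (iv D11690) (iv F45847)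
theorem F49823 : act 5 n12656 = n12656 := d32_1 D12656 (iv D12656) F45848
def n12657 : Q := act 7 n11650
theorem D12657 : act 7 n11650 = n12657 := rfl
theorem F49824 : act 0 n12657 = n11657 := d6_1 D12657 (iv D11657) (iv F45850)
theorem F49825 : act 1 n12657 = n12368 := d13_1 D12657 (iv D12368) (iv F45851)
theorem F49826 : act 3 n12657 = n12657 := d24_1 D12657 (iv D12657) F45852 F39888 (iv F45852)
theorem F49827 : act 4 n12657 = n11691 := d28_1 D12657 (iv D11691) (iv F45853)
theorem F49828 : act 5 n12657 = n12657 := d31_1 D12657 (iv D12657) F45854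
theorem F49829 : act 8 n12657 = n12657 := d35_2 D11650 D12657 (iv D12657) (iv D11650) F39883
def n12658 : Q := act 8 n11651
theorem D12658 : act 8 n11651 = n12658 := rfl
theorem F49830 : act 1 n12658 = n11658 := d14_1 D12658 (iv D11658) (iv F45855)
theorem F49831 : act 2 n12658 = n11700 := d20_1 D12658 F46082 (iv F45856)
theorem F49832 : act 3 n12658 = n11652 := d25_1 D12658 (iv D11652) D11651
theorem F49833 : act 4 n12658 = n11799 := d29_1 D12658 F46437 F45860
theorem F49834 : act 5 n12658 = n11654 := d32_1 D12658 (iv D11654) (iv F45857)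
theorem F49835 : act 6 n12658 = n12658 := d34_1 D12658 (iv D12658) F45858
theorem F49836 : act 7 n12256 = n12658 := d28_0 F49833 (iv F49068) F49066
def n12659 : Q := act 8 n11653
theorem D12659 : act 8 n11653 = n12659 := rfl
theorem F49837 : act 1 n12659 = n11851 := d14_1 D12659 F46621 (iv F45867)
theorem F49838 : act 2 n12659 = n11654 := d20_1 D12659 (iv D11654) D11653
theorem F49839 : act 3 n12659 = n11699 := d25_1 D12659 F46077 (iv F45868)
theorem F49840 : act 4 n12659 = n11701 := d29_1 D12659 (iv D11701) (iv F45869)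
theorem F49841 : act 5 n12659 = n11700 := d32_1 D12659 F46082 (iv F45870)
theorem F49842 : act 6 n12659 = n11656 := d34_1 D12659 (iv D11656) (iv F45871)
theorem F49843 : act 7 n12255 = n12659 := d31_0 F49841 F46081 (iv F48157)
def n12660 : Q := act 7 n11654
theorem D12660 : act 7 n11654 = n12660 := rfl
theorem F49844 : act 1 n12660 = n11659 := d13_1 D12660 (iv D11659) (iv F45873)
theorem F49845 : act 2 n12660 = n12255 := d19_1 D12660 F49843 F49838
theorem F49846 : act 3 n12660 = n12660 := d24_1 D12660 (iv D12660) F45874 F39962 (iv F45874)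
theorem F49847 : act 4 n12660 = n11702 := d28_1 D12660 (iv D11702) (iv F45875)
theorem F49848 : act 5 n12660 = n12256 := d31_1 D12660 F49836 F49834
theorem F49849 : act 6 n12660 = n11657 := d33_1 D12660 (iv D11657) (iv F45876)
theorem F49850 : act 8 n12660 = n12660 := d35_2 D11654 D12660 (iv D12660) (iv D11654) F39958
def n12661 : Q := act 0 n11655
theorem D12661 : act 0 n11655 = n12661 := rfl
theorem F49851 : act 2 n12661 = n11660 := d1_2 (iv F45877) D12661 (iv D11660)
theorem F49852 : act 3 n12661 = n12107 := d2_2 (iv F45878) D12661 F47583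
theorem F49853 : act 4 n12661 = n11703 := d3_2 (iv F45879) D12661 (iv D11703)
theorem F49854 : act 5 n12661 = n12661 := d4_2 F45880 D12661 (iv D12661)
theorem F49855 : act 6 n12661 = n12108 := d5_2 (iv F45881) D12661 F47587
theorem F49856 : act 7 n12661 = n12661 := d6_2 F45882 D12661 (iv D12661)
def n12662 : Q := act 8 n11655
theorem D12662 : act 8 n11655 = n12662 := rfl
theorem F49857 : act 1 n12662 = n11656 := d14_1 D12662 (iv D11656) D11655
theorem F49858 : act 2 n12662 = n11661 := d20_1 D12662 (iv D11661) (iv F45877)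
theorem F49859 : act 3 n12662 = n11850 := d25_1 D12662 F46618 (iv F45878)
theorem F49860 : act 4 n12662 = n11704 := d29_1 D12662 (iv D11704) (iv F45879)
theorem F49861 : act 5 n12662 = n12662 := d32_1 D12662 (iv D12662) F45880
theorem F49862 : act 6 n12662 = n11851 := d34_1 D12662 F46621 (iv F45881)
theorem F49863 : act 7 n12305 = n12662 := d33_0 F49862 F46620 (iv F48295)
def n12663 : Q := act 7 n11656
theorem D12663 : act 7 n11656 = n12663 := rfl
theorem F49864 : act 1 n12663 = n12305 := d13_1 D12663 F49863 F49857
theorem F49865 : act 2 n12663 = n11657 := d19_1 D12663 (iv D11657) (iv F45883)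
theorem F49866 : act 3 n12663 = n12254 := d24_1 D12663 (iv D12254) (iv F45789) (iv F49470) F49466
theorem F49867 : act 4 n12663 = n11705 := d28_1 D12663 (iv D11705) (iv F45884)
theorem F49868 : act 5 n12663 = n12663 := d31_1 D12663 (iv D12663) F45885
theorem F49869 : act 6 n12663 = n12255 := d33_1 D12663 F49843 F49842
theorem F49870 : act 8 n12663 = n12663 := d35_2 D11656 D12663 (iv D12663) (iv D11656) F39965
def n12664 : Q := act 7 n11658
theorem D12664 : act 7 n11658 = n12664 := rfl
theorem F49871 : act 0 n12664 = n12381 := d6_1 D12664 (iv D12381) (iv F45891)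
theorem F49872 : act 1 n12664 = n12256 := d13_1 D12664 F49836 F49830
theorem F49873 : act 2 n12664 = n12308 := d19_1 D12664 F48639 F48634
theorem F49874 : act 3 n12664 = n12664 := d24_1 D12664 (iv D12664) F45892 F39979 (iv F45892)
theorem F49875 : act 5 n12664 = n11659 := d31_1 D12664 (iv D11659) (iv F45893)
theorem F49876 : act 6 n12664 = n12664 := d33_1 D12664 (iv D12664) F45894
theorem F49877 : act 8 n12664 = n12664 := d35_2 D11658 D12664 (iv D12664) (iv D11658) F39973
def n12665 : Q := act 8 n11660
theorem D12665 : act 8 n11660 = n12665 := rfl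
theorem F49878 : act 0 n12665 = n11661 := d7_1 D12665 (iv D11661) D11660
theorem F49879 : act 1 n12665 = n12385 := d14_1 D12665 (iv D12385) (iv F45900)
theorem F49880 : act 3 n12665 = n12665 := d25_1 D12665 (iv D12665) F45901
theorem F49881 : act 4 n12665 = n11706 := d29_1 D12665 (iv D11706) (iv F45902)
theorem F49882 : act 5 n12665 = n12665 := d32_1 D12665 (iv D12665) F45903
def n12666 : Q := act 7 n11661
theorem D12666 : act 7 n11661 = n12666 := rfl
theorem F49883 : act 1 n12666 = n11662 := d13_1 D12666 (iv D11662) (iv F45905)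
theorem F49884 : act 2 n12666 = n12305 := d19_1 D12666 F49863 F49858
theorem F49885 : act 4 n12666 = n11707 := d28_1 D12666 (iv D11707) (iv F45907)
theorem F49886 : act 5 n12666 = n12666 := d31_1 D12666 (iv D12666) F45908
theorem F49887 : act 6 n12666 = n12306 := d33_1 D12666 F49082 F49081
theorem F49888 : act 8 n12666 = n12666 := d35_2 D11661 D12666 (iv D12666) (iv D11661) F39987
theorem F49889 : act 3 n12345 = n12666 := d23_3 F49887 F48297 (iv F48442)
def n12667 : Q := act 3 n11662
theorem D12667 : act 3 n11662 = n12667 := rfl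
theorem F49890 : act 0 n12667 = n12387 := d2_1 D12667 (iv D12387) (iv F45909)
theorem F49891 : act 1 n12667 = n12345 := d9_1 D12667 F49889 F49883
theorem F49892 : act 2 n12667 = n12667 := d15_1 D12667 (iv D12667) F45910 F39994 (iv F45910)
theorem F49893 : act 5 n12667 = n12667 := d22_2 F45912 D12667 (iv D12667)
theorem F49894 : act 6 n12667 = n12347 := d23_2 F49123 D12667 F49125
theorem F49895 : act 7 n12667 = n12667 := d24_2 D11662 D12667 (iv D12667) (iv D11662) F39990
theorem F49896 : act 8 n12667 = n12667 := d25_2 F45913 D12667 (iv D12667)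
def n12668 : Q := act 7 n11663
theorem D12668 : act 7 n11663 = n12668 := rfl
theorem F49897 : act 0 n12668 = n11806 := d6_1 D12668 (iv D11806) (iv F45914)
theorem F49898 : act 1 n12668 = n12668 := d13_1 D12668 (iv D12668) F45915
theorem F49899 : act 2 n12668 = n11664 := d19_1 D12668 (iv D11664) D11663
theorem F49900 : act 4 n12668 = n11814 := d28_1 D12668 F46494 (iv F45917)
theorem F49901 : act 5 n12668 = n12209 := d31_1 D12668 (iv D12209) (iv F45918)
theorem F49902 : act 6 n12668 = n11816 := d33_1 D12668 F46503 (iv F45919)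
def n12669 : Q := act 3 n11664
theorem D12669 : act 3 n11664 = n12669 := rfl
theorem F49903 : act 0 n12669 = n11807 := d2_1 D12669 (iv D11807) (iv F45921)
theorem F49904 : act 1 n12669 = n11677 := d9_1 D12669 (iv D11677) (iv F45922)
theorem F49905 : act 4 n12669 = n11809 := d21_2 (iv F45923) D12669 (iv D11809) F40453 D10355
theorem F49906 : act 5 n12669 = n12210 := d22_2 (iv F45924) D12669 (iv D12210)
theorem F49907 : act 6 n12669 = n11812 := d23_2 (iv F45925) D12669 F46485
theorem F49908 : act 7 n12669 = n11666 := d24_2 D11664 D12669 (iv D11666) (iv D10226) D10224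
def n12670 : Q := act 8 n11664
theorem D12670 : act 8 n11664 = n12670 := rfl
theorem F49909 : act 0 n12670 = n11808 := d7_1 D12670 (iv D11808) (iv F45921)
theorem F49910 : act 1 n12670 = n11678 := d14_1 D12670 (iv D11678) (iv F45922)
theorem F49911 : act 4 n12670 = n11815 := d29_1 D12670 (iv D11815) (iv F45923)
theorem F49912 : act 5 n12670 = n12211 := d32_1 D12670 (iv D12211) (iv F45924)
theorem F49913 : act 6 n12670 = n11819 := d34_1 D12670 (iv D11819) (iv F45925)
theorem F49914 : act 7 n12670 = n11713 := d35_1 D12670 (iv D11713) (iv D10276) (iv F40002) D11664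
def n12671 : Q := act 3 n11665
theorem D12671 : act 3 n11665 = n12671 := rfl
theorem F49915 : act 0 n12671 = n11809 := d2_1 D12671 (iv D11809) (iv F45926)
theorem F49916 : act 1 n12671 = n11679 := d9_1 D12671 (iv D11679) (iv F45927)
theorem F49917 : act 4 n12671 = n11807 := d21_2 (iv F45929) D12671 (iv D11807) F40449 (iv F44888)
theorem F49918 : act 6 n12671 = n11666 := d23_2 (iv F45930) D12671 (iv D11666)
theorem F49919 : act 7 n12671 = n11812 := d24_2 D11665 D12671 F46485 F40476 (iv F44887)
def n12672 : Q := act 8 n11665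
theorem D12672 : act 8 n11665 = n12672 := rfl
theorem F49920 : act 0 n12672 = n11810 := d7_1 D12672 (iv D11810) (iv F45926)
theorem F49921 : act 1 n12672 = n11680 := d14_1 D12672 (iv D11680) (iv F45927)
theorem F49922 : act 2 n12672 = n12395 := d20_1 D12672 (iv D12395) (iv F45928)
theorem F49923 : act 4 n12672 = n11668 := d29_1 D12672 (iv D11668) (iv F45929)
theorem F49924 : act 6 n12672 = n11667 := d34_1 D12672 (iv D11667) (iv F45930)
theorem F49925 : act 7 n12672 = n11716 := d35_1 D12672 (iv D11716) (iv D10278) (iv F40007) D11665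
def n12673 : Q := act 2 n11666
theorem D12673 : act 2 n11666 = n12673 := rfl
theorem F49926 : act 0 n12673 = n11811 := d1_1 D12673 (iv D11811) (iv F45931)
theorem F49927 : act 3 n12673 = n12396 := d15_2 D11666 D12673 (iv D12396) (iv D11423) (iv F40010)
theorem F49928 : act 5 n12673 = n12212 := d17_2 (iv F45933) D12673 (iv D12212)
def n12674 : Q := act 4 n11666
theorem D12674 : act 4 n11666 = n12674 := rfl
theorem F49929 : act 0 n12674 = n11812 := d3_1 D12674 (iv D11812) (iv F45931)
theorem F49930 : act 1 n12674 = n11682 := d10_1 D12674 (iv D11682) (iv F45932)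
theorem F49931 : act 3 n12674 = n11670 := d21_1 D12674 (iv D11670) (iv D10228) (iv F40011) D11666
theorem F49932 : act 6 n12674 = n11807 := d27_2 F49918 D12674 (iv F49917)
theorem F49933 : act 7 n12674 = n11809 := d28_2 F49908 D12674 (iv F49905)
def n12675 : Q := act 8 n11666
theorem D12675 : act 8 n11666 = n12675 := rfl
theorem F49934 : act 0 n12675 = n11813 := d7_1 D12675 (iv D11813) (iv F45931)
theorem F49935 : act 1 n12675 = n11683 := d14_1 D12675 (iv D11683) (iv F45932)
theorem F49936 : act 3 n12675 = n11667 := d25_1 D12675 (iv D11667) D11666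
theorem F49937 : act 5 n12675 = n12214 := d32_1 D12675 (iv D12214) (iv F45933)
def n12676 : Q := act 4 n11669
theorem D12676 : act 4 n11669 = n12676 := rfl
theorem F49938 : act 0 n12676 = n11816 := d3_1 D12676 (iv D11816) (iv F45947)
theorem F49939 : act 1 n12676 = n11957 := d10_1 D12676 F46953 (iv F45948)
theorem F49940 : act 2 n12676 = n11670 := d16_1 D12676 (iv D11670) D11669
theorem F49941 : act 6 n12676 = n11806 := d27_2 (iv F45951) D12676 F46466
theorem F49942 : act 7 n12676 = n11805 := d28_2 (iv F45952) D12676 F46462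
def n12677 : Q := act 8 n11669
theorem D12677 : act 8 n11669 = n12677 := rfl
theorem F49943 : act 0 n12677 = n11817 := d7_1 D12677 (iv D11817) (iv F45947)
theorem F49944 : act 1 n12677 = n12156 := d14_1 D12677 (iv D12156) (iv F45948)
theorem F49945 : act 2 n12677 = n11671 := d20_1 D12677 (iv D11671) D11669
theorem F49946 : act 3 n12677 = n12402 := d25_1 D12677 (iv D12402) (iv F45949)
theorem F49947 : act 5 n12677 = n11673 := d32_1 D12677 (iv D11673) (iv F45950)
theorem F49948 : act 6 n12677 = n12094 := d34_1 D12677 (iv D12094) (iv F45951)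
theorem F49949 : act 7 n12677 = n12111 := d35_1 D12677 (iv D12111) (iv D10989) (iv F44992) (iv F45952)
def n12678 : Q := act 8 n11670
theorem D12678 : act 8 n11670 = n12678 := rfl
theorem F49950 : act 0 n12678 = n11819 := d7_1 D12678 (iv D11819) (iv F45953)
theorem F49951 : act 1 n12678 = n11684 := d14_1 D12678 (iv D11684) (iv F45954)
theorem F49952 : act 4 n12678 = n11671 := d29_1 D12678 (iv D11671) D11670
theorem F49953 : act 6 n12678 = n11808 := d34_1 D12678 (iv D11808) (iv F45955)
theorem F49954 : act 7 n12678 = n11860 := d35_1 D12678 (iv D11860) (iv D10407) (iv F40447) (iv F45956)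
def n12679 : Q := act 3 n11672
theorem D12679 : act 3 n11672 = n12679 := rfl
theorem F49955 : act 0 n12679 = n11821 := d2_1 D12679 (iv D11821) (iv F45963)
theorem F49956 : act 2 n12679 = n12220 := d15_1 D12679 (iv D12220) F43713 (iv F40033) (iv F45964)
theorem F49957 : act 4 n12679 = n12406 := d21_2 D11672 D12679 (iv D12406) (iv D11430) (iv F40028)
theorem F49958 : act 6 n12679 = n12679 := d23_2 F45965 D12679 (iv D12679)
def n12680 : Q := act 5 n11672
theorem D12680 : act 5 n11672 = n12680 := rfl
theorem F49959 : act 0 n12680 = n11822 := d4_1 D12680 (iv D11822) (iv F45963)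
theorem F49960 : act 2 n12680 = n11674 := d17_1 D12680 (iv D11674) (iv F45964)
theorem F49961 : act 7 n12680 = n12052 := d31_2 (iv F45966) D12680 (iv D12052)
def n12681 : Q := act 8 n11672
theorem D12681 : act 8 n11672 = n12681 := rfl
theorem F49962 : act 0 n12681 = n11823 := d7_1 D12681 (iv D11823) (iv F45963)
theorem F49963 : act 2 n12681 = n11675 := d20_1 D12681 (iv D11675) (iv F45964)
theorem F49964 : act 4 n12681 = n11673 := d29_1 D12681 (iv D11673) D11672
theorem F49965 : act 6 n12681 = n12681 := d34_1 D12681 (iv D12681) F45965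
def n12682 : Q := act 7 n11673
theorem D12682 : act 7 n11673 = n12682 := rfl
theorem F49966 : act 0 n12682 = n11824 := d6_1 D12682 (iv D11824) (iv F45967)
theorem F49967 : act 1 n12682 = n12163 := d13_1 D12682 (iv F49798) F49793
theorem F49968 : act 2 n12682 = n11676 := d19_1 D12682 (iv D11676) (iv F45968)
theorem F49969 : act 5 n12682 = n12111 := d31_1 D12682 (iv F49949) F49947
theorem F49970 : act 6 n12682 = n12682 := d33_1 D12682 (iv D12682) F45970
theorem F49971 : act 8 n12682 = n12054 := d35_2 D11673 D12682 (iv D12054) (iv D10697) (iv F40030)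
def n12683 : Q := act 8 n11674
theorem D12683 : act 8 n11674 = n12683 := rfl
theorem F49972 : act 0 n12683 = n11826 := d7_1 D12683 (iv D11826) (iv F45971)
theorem F49973 : act 1 n12683 = n11685 := d14_1 D12683 (iv D11685) (iv F45972)
theorem F49974 : act 3 n12683 = n12225 := d25_1 D12683 (iv D12225) (iv F45973)
theorem F49975 : act 5 n12683 = n11675 := d32_1 D12683 (iv D11675) D11674
def n12684 : Q := act 7 n11675
theorem D12684 : act 7 n11675 = n12684 := rfl
theorem F49976 : act 0 n12684 = n11827 := d6_1 D12684 (iv D11827) (iv F45975)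
theorem F49977 : act 1 n12684 = n11686 := d13_1 D12684 (iv D11686) (iv F45976)
theorem F49978 : act 4 n12684 = n11676 := d28_1 D12684 (iv D11676) (iv F45978)
theorem F49979 : act 6 n12684 = n12684 := d33_1 D12684 (iv D12684) F45979
theorem F49980 : act 8 n12684 = n12055 := d35_2 D11675 D12684 (iv D12055) (iv D10699) (iv F40035)
def n12685 : Q := act 8 n11677
theorem D12685 : act 8 n11677 = n12685 := rfl
theorem F49981 : act 0 n12685 = n11692 := d7_1 D12685 (iv D11692) (iv F45986)
theorem F49982 : act 3 n12685 = n11678 := d25_1 D12685 (iv D11678) D11677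
theorem F49983 : act 4 n12685 = n11830 := d29_1 D12685 (iv D11830) (iv F45987)
theorem F49984 : act 5 n12685 = n12229 := d32_1 D12685 (iv D12229) (iv F45988)
theorem F49985 : act 6 n12685 = n11835 := d34_1 D12685 (iv D11835) (iv F45989)
def n12686 : Q := act 2 n11679
theorem D12686 : act 2 n11679 = n12686 := rfl
theorem F49986 : act 0 n12686 = n11693 := d1_1 D12686 (iv D11693) (iv F45997)
theorem F49987 : act 3 n12686 = n11687 := d15_2 D11679 D12686 (iv D11687) (iv D10245) (iv F40050)
theorem F49988 : act 4 n12686 = n11828 := d16_2 (iv F45998) D12686 (iv D11828)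
theorem F49989 : act 6 n12686 = n11681 := d18_2 (iv F45999) D12686 (iv D11681)
theorem F49990 : act 7 n12686 = n11832 := d19_2 (iv F46000) D12686 F46558
def n12687 : Q := act 8 n11679
theorem D12687 : act 8 n11679 = n12687 := rfl
theorem F49991 : act 0 n12687 = n11694 := d7_1 D12687 (iv D11694) (iv F45997)
theorem F49992 : act 3 n12687 = n11680 := d25_1 D12687 (iv D11680) D11679
theorem F49993 : act 4 n12687 = n11829 := d29_1 D12687 (iv D11829) (iv F45998)
theorem F49994 : act 6 n12687 = n11683 := d34_1 D12687 (iv D11683) (iv F45999)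
def n12688 : Q := act 1 n11681
theorem D12688 : act 1 n11681 = n12688 := rfl
theorem F49995 : act 3 n12688 = n11689 := d9_2 (iv F46007) D12688 (iv D11689)
theorem F49996 : act 5 n12688 = n12230 := d11_2 (iv F46008) D12688 (iv D12230)
def n12689 : Q := act 8 n11681
theorem D12689 : act 8 n11681 = n12689 := rfl
theorem F49997 : act 0 n12689 = n11696 := d7_1 D12689 (iv D11696) (iv F46006)
theorem F49998 : act 2 n12689 = n11683 := d20_1 D12689 (iv D11683) D11681
theorem F49999 : act 3 n12689 = n11690 := d25_1 D12689 (iv D11690) (iv F46007)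
theorem F50000 : act 5 n12689 = n12232 := d32_1 D12689 (iv D12232) (iv F46008)
def n12690 : Q := act 8 n11682
theorem D12690 : act 8 n11682 = n12690 := rfl
theorem F50001 : act 0 n12690 = n11697 := d7_1 D12690 (iv D11697) (iv F46009)
theorem F50002 : act 3 n12690 = n11684 := d25_1 D12690 (iv D11684) (iv F46010)
theorem F50003 : act 4 n12690 = n11683 := d29_1 D12690 (iv D11683) D11682
theorem F50004 : act 6 n12690 = n11829 := d34_1 D12690 (iv D11829) (iv F46011)
def n12691 : Q := act 7 n11683
theorem D12691 : act 7 n11683 = n12691 := rfl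
theorem F50005 : act 0 n12691 = n11698 := d6_1 D12691 (iv D11698) (iv F46013)
theorem F50006 : act 3 n12691 = n11751 := d24_1 D12691 (iv D11751) F40273 (iv F40059) (iv F46014)
theorem F50007 : act 5 n12691 = n12235 := d31_1 D12691 (iv D12235) (iv F46015)
def n12692 : Q := act 7 n11685
theorem D12692 : act 7 n11685 = n12692 := rfl
theorem F50008 : act 0 n12692 = n11699 := d6_1 D12692 (iv D11699) (iv F46021)
theorem F50009 : act 2 n12692 = n11965 := d19_1 D12692 (iv F49755) F49750
theorem F50010 : act 4 n12692 = n11896 := d28_1 D12692 (iv F49748) F49745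
theorem F50011 : act 5 n12692 = n11686 := d31_1 D12692 (iv D11686) (iv F46023)
theorem F50012 : act 8 n12692 = n11895 := d35_2 D11685 D12692 (iv D11895) F45010 (iv F40076)
def n12693 : Q := act 3 n11686
theorem D12693 : act 3 n11686 = n12693 := rfl
theorem F50013 : act 0 n12693 = n11700 := d2_1 D12693 (iv D11700) (iv F46024)
theorem F50014 : act 4 n12693 = n11759 := d21_2 (iv F46026) D12693 (iv D11759) F40303 (iv F40082)
theorem F50015 : act 6 n12693 = n12693 := d23_2 F46027 D12693 (iv D12693)
theorem F50016 : act 7 n12693 = n12241 := d24_2 D11686 D12693 (iv D12241) (iv D11265) (iv F40078)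
theorem F50017 : act 8 n12693 = n12056 := d25_2 (iv F46028) D12693 (iv D12056)
def n12694 : Q := act 1 n11687
theorem D12694 : act 1 n11687 = n12694 := rfl
theorem F50018 : act 2 n12694 = n12441 := d8_2 D11687 D12694 (iv D12441) (iv D11455) (iv F40086)
theorem F50019 : act 6 n12694 = n11689 := d12_2 (iv F46030) D12694 (iv D11689)
theorem F50020 : act 7 n12694 = n12694 := d13_2 F46031 D12694 (iv D12694)
def n12695 : Q := act 8 n11687
theorem D12695 : act 8 n11687 = n12695 := rfl
theorem F50021 : act 0 n12695 = n11701 := d7_1 D12695 (iv D11701) (iv F46029)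
theorem F50022 : act 2 n12695 = n11688 := d20_1 D12695 (iv D11688) D11687
theorem F50023 : act 6 n12695 = n11690 := d34_1 D12695 (iv D11690) (iv F46030)
def n12696 : Q := act 7 n11688
theorem D12696 : act 7 n11688 = n12696 := rfl
theorem F50024 : act 0 n12696 = n11702 := d6_1 D12696 (iv D11702) (iv F46032)
theorem F50025 : act 1 n12696 = n12443 := d13_1 D12696 (iv D12443) (iv F46033)
theorem F50026 : act 3 n12696 = n11762 := d24_1 D12696 (iv D11762) F40315 (iv F40093) (iv F46034)
theorem F50027 : act 6 n12696 = n11691 := d33_1 D12696 (iv D11691) (iv F46035)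
theorem F50028 : act 8 n12696 = n12696 := d35_2 D11688 D12696 (iv D12696) (iv D11688) F40088
def n12697 : Q := act 0 n11689
theorem D12697 : act 0 n11689 = n12697 := rfl
theorem F50029 : act 1 n12697 = n11703 := d0_2 D11689 D12697 (iv D11703) (iv D10267) (iv F40094)
theorem F50030 : act 2 n12697 = n12444 := d1_2 (iv F46036) D12697 (iv D12444)
theorem F50031 : act 5 n12697 = n11760 := d4_2 (iv F46037) D12697 F46297
theorem F50032 : act 7 n12697 = n12697 := d6_2 F46038 D12697 (iv D12697)
def n12698 : Q := act 8 n11689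
theorem D12698 : act 8 n11689 = n12698 := rfl
theorem F50033 : act 1 n12698 = n11690 := d14_1 D12698 (iv D11690) D11689
theorem F50034 : act 2 n12698 = n12445 := d20_1 D12698 (iv D12445) (iv F46036)
theorem F50035 : act 5 n12698 = n12242 := d32_1 D12698 (iv D12242) (iv F46037)
def n12699 : Q := act 7 n11690
theorem D12699 : act 7 n11690 = n12699 := rfl
theorem F50036 : act 0 n12699 = n11705 := d6_1 D12699 (iv D11705) (iv F46039)
theorem F50037 : act 2 n12699 = n11691 := d19_1 D12699 (iv D11691) (iv F46040)
theorem F50038 : act 5 n12699 = n12243 := d31_1 D12699 (iv D12243) (iv F46041)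
theorem F50039 : act 8 n12699 = n12699 := d35_2 D11690 D12699 (iv D12699) (iv D11690) F40096
def n12700 : Q := act 7 n11692
theorem D12700 : act 7 n11692 = n12700 := rfl
theorem F50040 : act 1 n12700 = n11843 := d13_1 D12700 (iv D11843) (iv F46047)
theorem F50041 : act 3 n12700 = n11775 := d24_1 D12700 (iv D11775) F40346 (iv F40112) (iv F46048)
theorem F50042 : act 4 n12700 = n11844 := d28_1 D12700 (iv D11844) (iv F46049)
theorem F50043 : act 5 n12700 = n12246 := d31_1 D12700 (iv D12246) (iv F46050)
theorem F50044 : act 6 n12700 = n11849 := d33_1 D12700 (iv D11849) (iv F46051)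
theorem F50045 : act 8 n12700 = n11698 := d35_2 D11692 D12700 (iv D11698) (iv D10256) (iv F40107)
def n12701 : Q := act 8 n11693
theorem D12701 : act 8 n11693 = n12701 := rfl
theorem F50046 : act 2 n12701 = n11694 := d20_1 D12701 (iv D11694) D11693
theorem F50047 : act 3 n12701 = n11701 := d25_1 D12701 (iv D11701) (iv F46052)
theorem F50048 : act 4 n12701 = n11842 := d29_1 D12701 (iv D11842) (iv F46053)
theorem F50049 : act 6 n12701 = n11696 := d34_1 D12701 (iv D11696) (iv F46054)
def n12702 : Q := act 7 n11694
theorem D12702 : act 7 n11694 = n12702 := rfl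
theorem F50050 : act 1 n12702 = n11844 := d13_1 D12702 (iv D11844) (iv F46056)
theorem F50051 : act 3 n12702 = n11782 := d24_1 D12702 (iv D11782) F40360 (iv F40119) (iv F46057)
theorem F50052 : act 4 n12702 = n11843 := d28_1 D12702 (iv D11843) (iv F46058)
theorem F50053 : act 6 n12702 = n11698 := d33_1 D12702 (iv D11698) (iv F46059)
theorem F50054 : act 8 n12702 = n11849 := d35_2 D11694 D12702 (iv D11849) (iv D10393) (iv F44946)
def n12703 : Q := act 0 n11695
theorem D12703 : act 0 n11695 = n12703 := rfl
theorem F50055 : act 2 n12703 = n11741 := d1_2 (iv F46060) D12703 F46235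
theorem F50056 : act 3 n12703 = n11703 := d2_2 (iv F46061) D12703 (iv D11703)
theorem F50057 : act 5 n12703 = n11743 := d4_2 (iv F46062) D12703 F46241
def n12704 : Q := act 8 n11695
theorem D12704 : act 8 n11695 = n12704 := rfl
theorem F50058 : act 1 n12704 = n11696 := d14_1 D12704 (iv D11696) D11695
theorem F50059 : act 2 n12704 = n11777 := d20_1 D12704 (iv D11777) (iv F46060)
theorem F50060 : act 3 n12704 = n11704 := d25_1 D12704 (iv D11704) (iv F46061)
theorem F50061 : act 5 n12704 = n11779 := d32_1 D12704 (iv D11779) (iv F46062)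
def n12705 : Q := act 7 n11696
theorem D12705 : act 7 n11696 = n12705 := rfl
theorem F50062 : act 2 n12705 = n11698 := d19_1 D12705 (iv D11698) (iv F46063)
theorem F50063 : act 5 n12705 = n12248 := d31_1 D12705 (iv D12248) (iv F46065)
def n12706 : Q := act 7 n11697
theorem D12706 : act 7 n11697 = n12706 := rfl
theorem F50064 : act 1 n12706 = n11849 := d13_1 D12706 (iv D11849) (iv F46066)
theorem F50065 : act 3 n12706 = n11928 := d24_1 D12706 (iv D11928) F40802 (iv F44932) (iv F46067)
theorem F50066 : act 4 n12706 = n11698 := d28_1 D12706 (iv D11698) (iv F46068)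
theorem F50067 : act 6 n12706 = n11843 := d33_1 D12706 (iv D11843) (iv F46069)
theorem F50068 : act 8 n12706 = n11844 := d35_2 D11697 D12706 (iv D11844) (iv D10389) (iv F45043)
def n12707 : Q := act 7 n11701
theorem D12707 : act 7 n11701 = n12707 := rfl
theorem F50069 : act 1 n12707 = n12307 := d13_1 D12707 F49075 F49070
theorem F50070 : act 2 n12707 = n11702 := d19_1 D12707 (iv D11702) (iv F46083)
theorem F50071 : act 4 n12707 = n12255 := d28_1 D12707 F49843 F49840
theorem F50072 : act 6 n12707 = n11705 := d33_1 D12707 (iv D11705) (iv F46084)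
theorem F50073 : act 8 n12707 = n12707 := d35_2 D11701 D12707 (iv D12707) (iv D11701) F40155
def n12708 : Q := act 8 n11703
theorem D12708 : act 8 n11703 = n12708 := rfl
theorem F50074 : act 0 n12708 = n11704 := d7_1 D12708 (iv D11704) D11703
theorem F50075 : act 2 n12708 = n11706 := d20_1 D12708 (iv D11706) (iv F46089)
theorem F50076 : act 5 n12708 = n11761 := d32_1 D12708 (iv D11761) (iv F46090)
def n12709 : Q := act 7 n11704
theorem D12709 : act 7 n11704 = n12709 := rfl
theorem F50077 : act 1 n12709 = n11705 := d13_1 D12709 (iv D11705) (iv F46092)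
theorem F50078 : act 2 n12709 = n11707 := d19_1 D12709 (iv D11707) (iv F46093)
theorem F50079 : act 4 n12709 = n12305 := d28_1 D12709 F49863 F49860
theorem F50080 : act 5 n12709 = n11800 := d31_1 D12709 (iv D11800) (iv F46094)
theorem F50081 : act 6 n12709 = n12307 := d33_1 D12709 F49075 F49074
theorem F50082 : act 8 n12709 = n12709 := d35_2 D11704 D12709 (iv D12709) (iv D11704) F40161
def n12710 : Q := act 3 n11705
theorem D12710 : act 3 n11705 = n12710 := rfl
theorem F50083 : act 2 n12710 = n11803 := d15_1 D12710 (iv D11803) F40427 (iv F40165) (iv F46095)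
theorem F50084 : act 5 n12710 = n12257 := d22_2 (iv F46096) D12710 (iv D12257)
theorem F50085 : act 8 n12710 = n12710 := d25_2 F46097 D12710 (iv D12710)
def n12711 : Q := act 7 n11706
theorem D12711 : act 7 n11706 = n12711 := rfl
theorem F50086 : act 0 n12711 = n11707 := d6_1 D12711 (iv D11707) (iv F46098)
theorem F50087 : act 1 n12711 = n12493 := d13_1 D12711 (iv D12493) (iv F46099)
theorem F50088 : act 5 n12711 = n11762 := d31_1 D12711 (iv D11762) (iv F46101)
theorem F50089 : act 8 n12711 = n12711 := d35_2 D11706 D12711 (iv D12711) (iv D11706) F40175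
def n12712 : Q := act 5 n11708
theorem D12712 : act 5 n11708 = n12712 := rfl
theorem F50090 : act 0 n12712 = n11853 := d4_1 D12712 (iv D11853) (iv F46105)
theorem F50091 : act 1 n12712 = n12712 := d11_1 D12712 (iv D12712) F46106
theorem F50092 : act 2 n12712 = n11710 := d17_1 D12712 (iv D11710) (iv F46107)
theorem F50093 : act 3 n12712 = n12637 := d22_1 D12712 F49719 F47012
theorem F50094 : act 4 n12712 = n12101 := d26_1 D12712 F47559 F42428 (iv F44883) (iv F46108)
theorem F50095 : act 8 n12712 = n12096 := d32_2 (iv F46109) D12712 (iv D12096)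
def n12713 : Q := act 7 n11708
theorem D12713 : act 7 n11708 = n12713 := rfl
theorem F50096 : act 0 n12713 = n11854 := d6_1 D12713 (iv D11854) (iv F46105)
theorem F50097 : act 1 n12713 = n12713 := d13_1 D12713 (iv D12713) F46106
theorem F50098 : act 2 n12713 = n11711 := d19_1 D12713 (iv D11711) (iv F46107)
theorem F50099 : act 4 n12713 = n12057 := d28_1 D12713 (iv D12057) (iv F46108)
theorem F50100 : act 6 n12713 = n11709 := d33_1 D12713 (iv D11709) D11708
def n12714 : Q := act 3 n11709
theorem D12714 : act 3 n11709 = n12714 := rfl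
theorem F50101 : act 0 n12714 = n11855 := d2_1 D12714 (iv D11855) (iv F46110)
theorem F50102 : act 1 n12714 = n12714 := d9_1 D12714 (iv D12714) F46111
def n12715 : Q := act 8 n11709
theorem D12715 : act 8 n11709 = n12715 := rfl
theorem F50103 : act 0 n12715 = n11856 := d7_1 D12715 (iv D11856) (iv F46110)
theorem F50104 : act 1 n12715 = n12715 := d14_1 D12715 (iv D12715) F46111
theorem F50105 : act 2 n12715 = n11713 := d20_1 D12715 (iv D11713) (iv F46112)
theorem F50106 : act 4 n12715 = n12059 := d29_1 D12715 (iv D12059) (iv F46113)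
def n12716 : Q := act 7 n11710
theorem D12716 : act 7 n11710 = n12716 := rfl
theorem F50107 : act 0 n12716 = n11858 := d6_1 D12716 (iv D11858) (iv F46114)
theorem F50108 : act 1 n12716 = n11735 := d13_1 D12716 (iv D11735) (iv F46115)
theorem F50109 : act 4 n12716 = n12105 := d28_1 D12716 (iv D12105) (iv F46117)
theorem F50110 : act 5 n12716 = n11711 := d31_1 D12716 (iv D11711) D11710
def n12717 : Q := act 3 n11711
theorem D12717 : act 3 n11711 = n12717 := rfl
theorem F50111 : act 0 n12717 = n11859 := d2_1 D12717 (iv D11859) (iv F46119)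
theorem F50112 : act 1 n12717 = n11736 := d9_1 D12717 (iv D11736) (iv F46120)
theorem F50113 : act 4 n12717 = n12134 := d21_2 (iv F46121) D12717 (iv D12134) F42827 (iv F44789)
theorem F50114 : act 6 n12717 = n11712 := d23_2 (iv F46122) D12717 (iv D11712)
theorem F50115 : act 7 n12717 = n11715 := d24_2 D11711 D12717 (iv D11715) (iv D10278) (iv F40188)
def n12718 : Q := act 8 n11711
theorem D12718 : act 8 n11711 = n12718 := rfl
theorem F50116 : act 0 n12718 = n11860 := d7_1 D12718 (iv D11860) (iv F46119)
theorem F50117 : act 1 n12718 = n11737 := d14_1 D12718 (iv D11737) (iv F46120)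
theorem F50118 : act 4 n12718 = n11820 := d29_1 D12718 F46518 (iv F46121)
theorem F50119 : act 6 n12718 = n11713 := d34_1 D12718 (iv D11713) (iv F46122)
theorem F50120 : act 7 n12718 = n11819 := d35_1 D12718 (iv D11819) F40476 (iv F44885) D11711
def n12719 : Q := act 2 n11712
theorem D12719 : act 2 n11712 = n12719 := rfl
theorem F50121 : act 0 n12719 = n11861 := d1_1 D12719 (iv D11861) (iv F46123)
theorem F50122 : act 7 n12719 = n11717 := d19_2 (iv F46125) D12719 (iv D11717)
def n12720 : Q := act 4 n11712
theorem D12720 : act 4 n11712 = n12720 := rfl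
theorem F50123 : act 0 n12720 = n11862 := d3_1 D12720 (iv D11862) (iv F46123)
theorem F50124 : act 1 n12720 = n11739 := d10_1 D12720 (iv D11739) (iv F46124)
theorem F50125 : act 3 n12720 = n12061 := d21_1 D12720 (iv D12061) (iv D10776) (iv F40192) D11712
theorem F50126 : act 6 n12720 = n12134 := d27_2 F50114 D12720 (iv F50113)
theorem F50127 : act 7 n12720 = n11718 := d28_2 (iv F46125) D12720 (iv D11718)
def n12721 : Q := act 8 n11712
theorem D12721 : act 8 n11712 = n12721 := rfl
theorem F50128 : act 0 n12721 = n11863 := d7_1 D12721 (iv D11863) (iv F46123)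
theorem F50129 : act 1 n12721 = n11740 := d14_1 D12721 (iv D11740) (iv F46124)
theorem F50130 : act 3 n12721 = n11713 := d25_1 D12721 (iv D11713) D11712
def n12722 : Q := act 3 n11714
theorem D12722 : act 3 n11714 = n12722 := rfl
theorem F50131 : act 0 n12722 = n11831 := d2_1 D12722 F46555 (iv F46129)
theorem F50132 : act 1 n12722 = n11741 := d9_1 D12722 (iv D11741) (iv F46130)
theorem F50133 : act 5 n12722 = n11715 := d22_2 (iv F46133) D12722 (iv D11715)
def n12723 : Q := act 8 n11714
theorem D12723 : act 8 n11714 = n12723 := rfl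
theorem F50134 : act 0 n12723 = n11841 := d7_1 D12723 (iv D11841) (iv F46129)
theorem F50135 : act 1 n12723 = n11742 := d14_1 D12723 (iv D11742) (iv F46130)
theorem F50136 : act 2 n12723 = n12578 := d20_1 D12723 (iv D12578) (iv F46131)
theorem F50137 : act 4 n12723 = n12723 := d29_1 D12723 (iv D12723) F46132
theorem F50138 : act 5 n12723 = n11716 := d32_1 D12723 (iv D11716) (iv F46133)
def n12724 : Q := act 2 n11715
theorem D12724 : act 2 n11715 = n12724 := rfl
theorem F50139 : act 0 n12724 = n11864 := d1_1 D12724 (iv D11864) (iv F46134)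
theorem F50140 : act 6 n12724 = n11717 := d18_2 (iv F46136) D12724 (iv D11717)
def n12725 : Q := act 4 n11715
theorem D12725 : act 4 n11715 = n12725 := rfl
theorem F50141 : act 0 n12725 = n11865 := d3_1 D12725 (iv D11865) (iv F46134)
theorem F50142 : act 1 n12725 = n11744 := d10_1 D12725 (iv D11744) (iv F46135)
theorem F50143 : act 3 n12725 = n11721 := d21_1 D12725 (iv D11721) (iv D10281) (iv F40199) D11715
theorem F50144 : act 6 n12725 = n11718 := d27_2 (iv F46136) D12725 (iv D11718)
theorem F50145 : act 7 n12725 = n12134 := d28_2 F50115 D12725 (iv F50113)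
def n12726 : Q := act 8 n11715
theorem D12726 : act 8 n11715 = n12726 := rfl
theorem F50146 : act 0 n12726 = n11866 := d7_1 D12726 (iv D11866) (iv F46134)
theorem F50147 : act 1 n12726 = n11745 := d14_1 D12726 (iv D11745) (iv F46135)
theorem F50148 : act 3 n12726 = n11716 := d25_1 D12726 (iv D11716) D11715
theorem F50149 : act 6 n12726 = n11719 := d34_1 D12726 (iv D11719) (iv F46136)
def n12727 : Q := act 1 n11717
theorem D12727 : act 1 n11717 = n12727 := rfl
theorem F50150 : act 2 n12727 = n11746 := d8_2 D11717 D12727 (iv D11746) (iv D10298) (iv F40202)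
def n12728 : Q := act 4 n11717
theorem D12728 : act 4 n11717 = n12728 := rfl
theorem F50151 : act 0 n12728 = n11868 := d3_1 D12728 (iv D11868) (iv F46141)
theorem F50152 : act 2 n12728 = n11718 := d16_1 D12728 (iv D11718) D11717
def n12729 : Q := act 8 n11717
theorem D12729 : act 8 n11717 = n12729 := rfl
theorem F50153 : act 0 n12729 = n11869 := d7_1 D12729 (iv D11869) (iv F46141)
theorem F50154 : act 2 n12729 = n11719 := d20_1 D12729 (iv D11719) D11717
def n12730 : Q := act 5 n11718
theorem D12730 : act 5 n11718 = n12730 := rfl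
theorem F50155 : act 0 n12730 = n11870 := d4_1 D12730 (iv D11870) (iv F46142)
theorem F50156 : act 1 n12730 = n11749 := d11_1 D12730 (iv D11749) (iv F46143)
theorem F50157 : act 3 n12730 = n11725 := d22_1 D12730 (iv D11725) (iv F46144)
def n12731 : Q := act 8 n11718
theorem D12731 : act 8 n11718 = n12731 := rfl
theorem F50158 : act 0 n12731 = n11871 := d7_1 D12731 (iv D11871) (iv F46142)
theorem F50159 : act 1 n12731 = n11750 := d14_1 D12731 (iv D11750) (iv F46143)
theorem F50160 : act 3 n12731 = n11726 := d25_1 D12731 (iv D11726) (iv F46144)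
theorem F50161 : act 4 n12731 = n11719 := d29_1 D12731 (iv D11719) D11718
def n12732 : Q := act 7 n11719
theorem D12732 : act 7 n11719 = n12732 := rfl
theorem F50162 : act 0 n12732 = n11872 := d6_1 D12732 (iv D11872) (iv F46145)
theorem F50163 : act 1 n12732 = n11751 := d13_1 D12732 (iv D11751) (iv F46146)
def n12733 : Q := act 4 n11720
theorem D12733 : act 4 n11720 = n12733 := rfl
theorem F50164 : act 0 n12733 = n11873 := d3_1 D12733 (iv D11873) (iv F46148)
theorem F50165 : act 1 n12733 = n12733 := d10_1 D12733 (iv D12733) F46149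
theorem F50166 : act 2 n12733 = n11721 := d16_1 D12733 (iv D11721) D11720
theorem F50167 : act 6 n12733 = n11723 := d27_2 (iv F46151) D12733 (iv D11723)
theorem F50168 : act 7 n12733 = n12064 := d28_2 (iv F46152) D12733 (iv D12064)
def n12734 : Q := act 8 n11720
theorem D12734 : act 8 n11720 = n12734 := rfl
theorem F50169 : act 0 n12734 = n11874 := d7_1 D12734 (iv D11874) (iv F46148)
theorem F50170 : act 1 n12734 = n12734 := d14_1 D12734 (iv D12734) F46149
theorem F50171 : act 2 n12734 = n11722 := d20_1 D12734 (iv D11722) D11720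
theorem F50172 : act 5 n12734 = n12734 := d32_1 D12734 (iv D12734) F46150
theorem F50173 : act 6 n12734 = n11724 := d34_1 D12734 (iv D11724) (iv F46151)
theorem F50174 : act 7 n12734 = n12116 := d35_1 D12734 (iv D12116) F42757 (iv F44698) (iv F46152)
def n12735 : Q := act 5 n11721
theorem D12735 : act 5 n11721 = n12735 := rfl
theorem F50175 : act 0 n12735 = n11875 := d4_1 D12735 (iv D11875) (iv F46153)
theorem F50176 : act 1 n12735 = n11752 := d11_1 D12735 (iv D11752) (iv F46154)
theorem F50177 : act 4 n12735 = n12735 := d26_1 D12735 (iv D12735) (iv D11721) F40208 D11721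
theorem F50178 : act 7 n12735 = n12065 := d31_2 (iv F46156) D12735 (iv D12065)
def n12736 : Q := act 8 n11721
theorem D12736 : act 8 n11721 = n12736 := rfl
theorem F50179 : act 0 n12736 = n11876 := d7_1 D12736 (iv D11876) (iv F46153)
theorem F50180 : act 1 n12736 = n11753 := d14_1 D12736 (iv D11753) (iv F46154)
theorem F50181 : act 4 n12736 = n11722 := d29_1 D12736 (iv D11722) D11721
theorem F50182 : act 6 n12736 = n11726 := d34_1 D12736 (iv D11726) (iv F46155)
theorem F50183 : act 7 n12736 = n12118 := d35_1 D12736 (iv D12118) F42759 (iv F44665) (iv F46156)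
def n12737 : Q := act 3 n11723
theorem D12737 : act 3 n11723 = n12737 := rfl
theorem F50184 : act 0 n12737 = n11878 := d2_1 D12737 (iv D11878) (iv F46163)
theorem F50185 : act 1 n12737 = n12737 := d9_1 D12737 (iv D12737) F46164
def n12738 : Q := act 5 n11723
theorem D12738 : act 5 n11723 = n12738 := rfl
theorem F50186 : act 0 n12738 = n11879 := d4_1 D12738 (iv D11879) (iv F46163)
theorem F50187 : act 1 n12738 = n12738 := d11_1 D12738 (iv D12738) F46164
theorem F50188 : act 2 n12738 = n11725 := d17_1 D12738 (iv D11725) (iv F46165)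
theorem F50189 : act 4 n12738 = n11729 := d26_1 D12738 (iv D11729) (iv D10286) (iv F40217) D11723
theorem F50190 : act 7 n12738 = n12067 := d31_2 (iv F46166) D12738 (iv D12067)
def n12739 : Q := act 8 n11723
theorem D12739 : act 8 n11723 = n12739 := rfl
theorem F50191 : act 0 n12739 = n11880 := d7_1 D12739 (iv D11880) (iv F46163)
theorem F50192 : act 1 n12739 = n12739 := d14_1 D12739 (iv D12739) F46164
theorem F50193 : act 2 n12739 = n11726 := d20_1 D12739 (iv D11726) (iv F46165)
theorem F50194 : act 4 n12739 = n11724 := d29_1 D12739 (iv D11724) D11723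
def n12740 : Q := act 7 n11724
theorem D12740 : act 7 n11724 = n12740 := rfl
theorem F50195 : act 0 n12740 = n11881 := d6_1 D12740 (iv D11881) (iv F46167)
theorem F50196 : act 1 n12740 = n12740 := d13_1 D12740 (iv D12740) F46168
theorem F50197 : act 2 n12740 = n11727 := d19_1 D12740 (iv D11727) (iv F46169)
theorem F50198 : act 5 n12740 = n11731 := d31_1 D12740 (iv D11731) (iv F46170)
theorem F50199 : act 6 n12740 = n12116 := d33_1 D12740 (iv F50174) F50173
theorem F50200 : act 8 n12740 = n12069 := d35_2 D11724 D12740 (iv D12069) (iv D10788) (iv F40218)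
def n12741 : Q := act 6 n11725
theorem D12741 : act 6 n11725 = n12741 := rfl
theorem F50201 : act 0 n12741 = n11882 := d5_1 D12741 (iv D11882) (iv F46171)
theorem F50202 : act 1 n12741 = n11754 := d12_1 D12741 (iv D11754) (iv F46172)
theorem F50203 : act 4 n12741 = n11732 := d27_1 D12741 (iv D11732) (iv F46173)
theorem F50204 : act 7 n12741 = n12070 := d33_2 (iv F46174) D12741 (iv D12070)
def n12742 : Q := act 8 n11725
theorem D12742 : act 8 n11725 = n12742 := rfl
theorem F50205 : act 0 n12742 = n11883 := d7_1 D12742 (iv D11883) (iv F46171)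
theorem F50206 : act 1 n12742 = n11755 := d14_1 D12742 (iv D11755) (iv F46172)
theorem F50207 : act 4 n12742 = n11733 := d29_1 D12742 (iv D11733) (iv F46173)
theorem F50208 : act 5 n12742 = n11726 := d32_1 D12742 (iv D11726) D11725
def n12743 : Q := act 7 n11726
theorem D12743 : act 7 n11726 = n12743 := rfl
theorem F50209 : act 0 n12743 = n11884 := d6_1 D12743 (iv D11884) (iv F46175)
theorem F50210 : act 1 n12743 = n11756 := d13_1 D12743 (iv D11756) (iv F46176)
theorem F50211 : act 4 n12743 = n11727 := d28_1 D12743 (iv D11727) (iv F46177)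
theorem F50212 : act 6 n12743 = n12118 := d33_1 D12743 (iv F50183) F50182
theorem F50213 : act 8 n12743 = n12072 := d35_2 D11726 D12743 (iv D12072) (iv D10790) (iv F40221)
def n12744 : Q := act 5 n11728
theorem D12744 : act 5 n11728 = n12744 := rfl
theorem F50214 : act 0 n12744 = n11885 := d4_1 D12744 (iv D11885) (iv F46184)
theorem F50215 : act 1 n12744 = n12744 := d11_1 D12744 (iv D12744) F46185
theorem F50216 : act 3 n12744 = n11729 := d22_1 D12744 (iv D11729) D11728
def n12745 : Q := act 7 n11728
theorem D12745 : act 7 n11728 = n12745 := rfl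
theorem F50217 : act 0 n12745 = n11886 := d6_1 D12745 (iv D11886) (iv F46184)
theorem F50218 : act 1 n12745 = n12745 := d13_1 D12745 (iv D12745) F46185
theorem F50219 : act 3 n12745 = n12074 := d24_1 D12745 (iv D12074) (iv D10792) (iv F40230) D11728
theorem F50220 : act 6 n12745 = n12745 := d33_1 D12745 (iv D12745) F46186
def n12746 : Q := act 8 n11728
theorem D12746 : act 8 n11728 = n12746 := rfl
theorem F50221 : act 0 n12746 = n11887 := d7_1 D12746 (iv D11887) (iv F46184)
theorem F50222 : act 1 n12746 = n12746 := d14_1 D12746 (iv D12746) F46185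
theorem F50223 : act 3 n12746 = n11730 := d25_1 D12746 (iv D11730) D11728
theorem F50224 : act 6 n12746 = n12746 := d34_1 D12746 (iv D12746) F46186
def n12747 : Q := act 6 n11729
theorem D12747 : act 6 n11729 = n12747 := rfl
theorem F50225 : act 0 n12747 = n11888 := d5_1 D12747 (iv D11888) (iv F46187)
theorem F50226 : act 1 n12747 = n12747 := d12_1 D12747 (iv D12747) F46188
theorem F50227 : act 2 n12747 = n11732 := d18_1 D12747 (iv D11732) (iv F46189)
theorem F50228 : act 5 n12747 = n12747 := d30_1 D12747 (iv D12747) (iv D11729) F40229 D11729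
theorem F50229 : act 7 n12747 = n12076 := d33_2 (iv F46190) D12747 (iv D12076)
def n12748 : Q := act 8 n11729
theorem D12748 : act 8 n11729 = n12748 := rfl
theorem F50230 : act 0 n12748 = n11889 := d7_1 D12748 (iv D11889) (iv F46187)
theorem F50231 : act 1 n12748 = n12748 := d14_1 D12748 (iv D12748) F46188
theorem F50232 : act 2 n12748 = n11733 := d20_1 D12748 (iv D11733) (iv F46189)
theorem F50233 : act 5 n12748 = n11730 := d32_1 D12748 (iv D11730) D11729
def n12749 : Q := act 7 n11730
theorem D12749 : act 7 n11730 = n12749 := rfl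
theorem F50234 : act 0 n12749 = n11890 := d6_1 D12749 (iv D11890) (iv F46191)
theorem F50235 : act 1 n12749 = n12749 := d13_1 D12749 (iv D12749) F46192
theorem F50236 : act 2 n12749 = n11734 := d19_1 D12749 (iv D11734) (iv F46193)
theorem F50237 : act 4 n12749 = n11731 := d28_1 D12749 (iv D11731) (iv F46194)
theorem F50238 : act 6 n12749 = n12749 := d33_1 D12749 (iv D12749) F46195
theorem F50239 : act 8 n12749 = n12078 := d35_2 D11730 D12749 (iv D12078) (iv D10794) (iv F40230)
def n12750 : Q := act 3 n11731
theorem D12750 : act 3 n11731 = n12750 := rfl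
theorem F50240 : act 0 n12750 = n11891 := d2_1 D12750 (iv D11891) (iv F46196)
theorem F50241 : act 1 n12750 = n12750 := d9_1 D12750 (iv D12750) F46197
theorem F50242 : act 6 n12750 = n12750 := d23_2 F46199 D12750 (iv D12750)
theorem F50243 : act 8 n12750 = n12079 := d25_2 (iv F46200) D12750 (iv D12079)
def n12751 : Q := act 8 n11732
theorem D12751 : act 8 n11732 = n12751 := rfl
theorem F50244 : act 0 n12751 = n11892 := d7_1 D12751 (iv D11892) (iv F46201)
theorem F50245 : act 1 n12751 = n11757 := d14_1 D12751 (iv D11757) (iv F46202)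
theorem F50246 : act 5 n12751 = n12751 := d32_1 D12751 (iv D12751) F46203
theorem F50247 : act 6 n12751 = n11733 := d34_1 D12751 (iv D11733) D11732
def n12752 : Q := act 7 n11733
theorem D12752 : act 7 n11733 = n12752 := rfl
theorem F50248 : act 0 n12752 = n11893 := d6_1 D12752 (iv D11893) (iv F46205)
theorem F50249 : act 1 n12752 = n11758 := d13_1 D12752 (iv D11758) (iv F46206)
theorem F50250 : act 5 n12752 = n11734 := d31_1 D12752 (iv D11734) (iv F46207)
theorem F50251 : act 8 n12752 = n12081 := d35_2 D11733 D12752 (iv D12081) (iv D10797) (iv F40237)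
def n12753 : Q := act 3 n11734
theorem D12753 : act 3 n11734 = n12753 := rfl
theorem F50252 : act 0 n12753 = n11894 := d2_1 D12753 (iv D11894) (iv F46208)
theorem F50253 : act 1 n12753 = n11759 := d9_1 D12753 (iv D11759) (iv F46209)
theorem F50254 : act 6 n12753 = n12753 := d23_2 F46211 D12753 (iv D12753)
theorem F50255 : act 8 n12753 = n12082 := d25_2 (iv F46212) D12753 (iv D12082)
def n12754 : Q := act 3 n11735
theorem D12754 : act 3 n11735 = n12754 := rfl
theorem F50256 : act 0 n12754 = n11766 := d2_1 D12754 (iv D11766) (iv F46213)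
theorem F50257 : act 5 n12754 = n11736 := d22_2 (iv F46216) D12754 (iv D11736)
theorem F50258 : act 7 n12754 = n11741 := d24_2 D11735 D12754 (iv D11741) (iv D10295) (iv F40248)
def n12755 : Q := act 8 n11735
theorem D12755 : act 8 n11735 = n12755 := rfl
theorem F50259 : act 0 n12755 = n11767 := d7_1 D12755 (iv D11767) (iv F46213)
theorem F50260 : act 2 n12755 = n12755 := d20_1 D12755 (iv D12755) F46214
theorem F50261 : act 4 n12755 = n11839 := d29_1 D12755 F46585 (iv F46215)
theorem F50262 : act 5 n12755 = n11737 := d32_1 D12755 (iv D11737) (iv F46216)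
theorem F50263 : act 7 n12755 = n11837 := d35_1 D12755 (iv D11837) F40538 (iv F44893) D11735
def n12756 : Q := act 2 n11736
theorem D12756 : act 2 n11736 = n12756 := rfl
theorem F50264 : act 0 n12756 = n11768 := d1_1 D12756 (iv D11768) (iv F46217)
theorem F50265 : act 3 n12756 = n12756 := d15_2 D11736 D12756 (iv D12756) (iv D11736) F40250
theorem F50266 : act 4 n12756 = n12152 := d16_2 (iv F46218) D12756 (iv D12152)
theorem F50267 : act 6 n12756 = n11738 := d18_2 (iv F46219) D12756 (iv D11738)
theorem F50268 : act 7 n12756 = n11743 := d19_2 (iv F46220) D12756 (iv D11743)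
def n12757 : Q := act 8 n11736
theorem D12757 : act 8 n11736 = n12757 := rfl
theorem F50269 : act 0 n12757 = n11769 := d7_1 D12757 (iv D11769) (iv F46217)
theorem F50270 : act 3 n12757 = n11737 := d25_1 D12757 (iv D11737) D11736
theorem F50271 : act 4 n12757 = n11922 := d29_1 D12757 F46847 (iv F46218)
theorem F50272 : act 6 n12757 = n11740 := d34_1 D12757 (iv D11740) (iv F46219)
def n12758 : Q := act 1 n11738
theorem D12758 : act 1 n11738 = n12758 := rfl
theorem F50273 : act 3 n12758 = n12758 := d9_2 F46227 D12758 (iv D12758)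
theorem F50274 : act 7 n12758 = n11746 := d13_2 (iv F46228) D12758 (iv D11746)
def n12759 : Q := act 4 n11738
theorem D12759 : act 4 n11738 = n12759 := rfl
theorem F50275 : act 0 n12759 = n11771 := d3_1 D12759 (iv D11771) (iv F46226)
theorem F50276 : act 2 n12759 = n11739 := d16_1 D12759 (iv D11739) D11738
theorem F50277 : act 6 n12759 = n12152 := d27_2 F50267 D12759 (iv F50266)
theorem F50278 : act 7 n12759 = n11747 := d28_2 (iv F46228) D12759 (iv D11747)
theorem F50279 : act 3 n12205 = n12759 := d23_3 F50277 F47741 (iv F47988)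
def n12760 : Q := act 8 n11738
theorem D12760 : act 8 n11738 = n12760 := rfl
theorem F50280 : act 0 n12760 = n11772 := d7_1 D12760 (iv D11772) (iv F46226)
theorem F50281 : act 2 n12760 = n11740 := d20_1 D12760 (iv D11740) D11738
theorem F50282 : act 3 n12760 = n12760 := d25_1 D12760 (iv D12760) F46227
def n12761 : Q := act 5 n11739
theorem D12761 : act 5 n11739 = n12761 := rfl
theorem F50283 : act 0 n12761 = n11773 := d4_1 D12761 (iv D11773) (iv F46229)
theorem F50284 : act 3 n12761 = n12083 := d22_1 D12761 (iv D12083) (iv F46230)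
theorem F50285 : act 7 n12761 = n11749 := d31_2 (iv F46232) D12761 (iv D11749)
def n12762 : Q := act 8 n11739
theorem D12762 : act 8 n11739 = n12762 := rfl
theorem F50286 : act 0 n12762 = n11774 := d7_1 D12762 (iv D11774) (iv F46229)
theorem F50287 : act 3 n12762 = n11919 := d25_1 D12762 F46836 (iv F46230)
theorem F50288 : act 4 n12762 = n11740 := d29_1 D12762 (iv D11740) D11739
theorem F50289 : act 6 n12762 = n11922 := d34_1 D12762 F46847 (iv F46231)
def n12763 : Q := act 7 n11740
theorem D12763 : act 7 n11740 = n12763 := rfl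
theorem F50290 : act 0 n12763 = n11775 := d6_1 D12763 (iv D11775) (iv F46233)
theorem F50291 : act 8 n12763 = n11751 := d35_2 D11740 D12763 (iv D11751) (iv D10300) (iv F40254)
def n12764 : Q := act 4 n11741
theorem D12764 : act 4 n11741 = n12764 := rfl
theorem F50292 : act 0 n12764 = n11776 := d3_1 D12764 (iv D11776) (iv F46235)
theorem F50293 : act 3 n12764 = n12764 := d21_1 D12764 (iv D12764) (iv D11741) F40260 D11741
def n12765 : Q := act 8 n11741
theorem D12765 : act 8 n11741 = n12765 := rfl
theorem F50294 : act 0 n12765 = n11777 := d7_1 D12765 (iv D11777) (iv F46235)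
theorem F50295 : act 3 n12765 = n11742 := d25_1 D12765 (iv D11742) D11741
theorem F50296 : act 5 n12765 = n11745 := d32_1 D12765 (iv D11745) (iv F46236)
def n12766 : Q := act 1 n11743
theorem D12766 : act 1 n11743 = n12766 := rfl
theorem F50297 : act 0 n12766 = n12230 := d0_1 D12766 (iv D12230) F43737 (iv F40353) (iv F46241)
theorem F50298 : act 3 n12766 = n11760 := d9_2 (iv F46242) D12766 (iv D11760)
theorem F50299 : act 6 n12766 = n11746 := d12_2 (iv F46243) D12766 (iv D11746)
def n12767 : Q := act 4 n11743
theorem D12767 : act 4 n11743 = n12767 := rfl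
theorem F50300 : act 0 n12767 = n11778 := d3_1 D12767 (iv D11778) (iv F46241)
theorem F50301 : act 2 n12767 = n11744 := d16_1 D12767 (iv D11744) D11743
theorem F50302 : act 3 n12767 = n12767 := d21_1 D12767 (iv D12767) F46242 F40311 (iv F46242)
theorem F50303 : act 6 n12767 = n11747 := d27_2 (iv F46243) D12767 (iv D11747)
theorem F50304 : act 7 n12767 = n12152 := d28_2 F50268 D12767 (iv F50266)
def n12768 : Q := act 8 n11743
theorem D12768 : act 8 n11743 = n12768 := rfl
theorem F50305 : act 0 n12768 = n11779 := d7_1 D12768 (iv D11779) (iv F46241)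
theorem F50306 : act 2 n12768 = n11745 := d20_1 D12768 (iv D11745) D11743
theorem F50307 : act 3 n12768 = n11761 := d25_1 D12768 (iv D11761) (iv F46242)
theorem F50308 : act 6 n12768 = n11748 := d34_1 D12768 (iv D11748) (iv F46243)
def n12769 : Q := act 5 n11744
theorem D12769 : act 5 n11744 = n12769 := rfl
theorem F50309 : act 0 n12769 = n11780 := d4_1 D12769 (iv D11780) (iv F46244)
theorem F50310 : act 3 n12769 = n11752 := d22_1 D12769 (iv D11752) (iv F46245)
theorem F50311 : act 7 n12769 = n12151 := d31_2 (iv F46247) D12769 F47739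
def n12770 : Q := act 8 n11744
theorem D12770 : act 8 n11744 = n12770 := rfl
theorem F50312 : act 0 n12770 = n11781 := d7_1 D12770 (iv D11781) (iv F46244)
theorem F50313 : act 3 n12770 = n11753 := d25_1 D12770 (iv D11753) (iv F46245)
theorem F50314 : act 4 n12770 = n11745 := d29_1 D12770 (iv D11745) D11744
theorem F50315 : act 6 n12770 = n11750 := d34_1 D12770 (iv D11750) (iv F46246)
def n12771 : Q := act 7 n11745
theorem D12771 : act 7 n11745 = n12771 := rfl
theorem F50316 : act 0 n12771 = n11782 := d6_1 D12771 (iv D11782) (iv F46248)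
theorem F50317 : act 6 n12771 = n11751 := d33_1 D12771 (iv D11751) (iv F46250)
def n12772 : Q := act 0 n11746
theorem D12772 : act 0 n11746 = n12772 := rfl
theorem F50318 : act 1 n12772 = n11783 := d0_2 D11746 D12772 (iv D11783) (iv D10327) (iv F40268)
theorem F50319 : act 3 n12772 = n11763 := d2_2 (iv F46251) D12772 (iv D11763)
theorem F50320 : act 6 n12772 = n12230 := d5_2 F50299 D12772 (iv F50297)
def n12773 : Q := act 4 n11746
theorem D12773 : act 4 n11746 = n12773 := rfl
theorem F50321 : act 1 n12773 = n11747 := d10_1 D12773 (iv D11747) D11746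
theorem F50322 : act 3 n12773 = n12773 := d21_1 D12773 (iv D12773) F46251 F40318 (iv F46251)
def n12774 : Q := act 8 n11746
theorem D12774 : act 8 n11746 = n12774 := rfl
theorem F50323 : act 1 n12774 = n11748 := d14_1 D12774 (iv D11748) D11746
theorem F50324 : act 3 n12774 = n11764 := d25_1 D12774 (iv D11764) (iv F46251)
def n12775 : Q := act 5 n11747
theorem D12775 : act 5 n11747 = n12775 := rfl
theorem F50325 : act 0 n12775 = n11786 := d4_1 D12775 (iv D11786) (iv F46252)
theorem F50326 : act 2 n12775 = n11749 := d17_1 D12775 (iv D11749) (iv F46253)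
theorem F50327 : act 3 n12775 = n12775 := d22_1 D12775 (iv D12775) F46254
def n12776 : Q := act 8 n11747
theorem D12776 : act 8 n11747 = n12776 := rfl
theorem F50328 : act 0 n12776 = n11787 := d7_1 D12776 (iv D11787) (iv F46252)
theorem F50329 : act 2 n12776 = n11750 := d20_1 D12776 (iv D11750) (iv F46253)
theorem F50330 : act 3 n12776 = n12776 := d25_1 D12776 (iv D12776) F46254
theorem F50331 : act 4 n12776 = n11748 := d29_1 D12776 (iv D11748) D11747
def n12777 : Q := act 7 n11748
theorem D12777 : act 7 n11748 = n12777 := rfl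
theorem F50332 : act 0 n12777 = n11788 := d6_1 D12777 (iv D11788) (iv F46255)
theorem F50333 : act 2 n12777 = n11751 := d19_1 D12777 (iv D11751) (iv F46256)
def n12778 : Q := act 6 n11749
theorem D12778 : act 6 n11749 = n12778 := rfl
theorem F50334 : act 0 n12778 = n11789 := d5_1 D12778 (iv D11789) (iv F46258)
theorem F50335 : act 3 n12778 = n11754 := d23_1 D12778 (iv D11754) (iv F46259)
def n12779 : Q := act 8 n11749
theorem D12779 : act 8 n11749 = n12779 := rfl
theorem F50336 : act 0 n12779 = n11790 := d7_1 D12779 (iv D11790) (iv F46258)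
theorem F50337 : act 3 n12779 = n11755 := d25_1 D12779 (iv D11755) (iv F46259)
theorem F50338 : act 5 n12779 = n11750 := d32_1 D12779 (iv D11750) D11749
def n12780 : Q := act 7 n11750
theorem D12780 : act 7 n11750 = n12780 := rfl
theorem F50339 : act 0 n12780 = n11791 := d6_1 D12780 (iv D11791) (iv F46260)
theorem F50340 : act 4 n12780 = n11751 := d28_1 D12780 (iv D11751) (iv F46262)
def n12781 : Q := act 6 n11752
theorem D12781 : act 6 n11752 = n12781 := rfl
theorem F50341 : act 0 n12781 = n11792 := d5_1 D12781 (iv D11792) (iv F46264)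
theorem F50342 : act 2 n12781 = n12781 := d18_1 D12781 (iv D12781) F46265
theorem F50343 : act 4 n12781 = n12781 := d27_1 D12781 (iv D12781) F46266
theorem F50344 : act 5 n12781 = n11754 := d30_1 D12781 (iv D11754) (iv D10303) (iv F40276) D11752
theorem F50345 : act 7 n12781 = n12085 := d33_2 (iv F46267) D12781 (iv D12085)
def n12782 : Q := act 8 n11752
theorem D12782 : act 8 n11752 = n12782 := rfl
theorem F50346 : act 0 n12782 = n11793 := d7_1 D12782 (iv D11793) (iv F46264)
theorem F50347 : act 2 n12782 = n12782 := d20_1 D12782 (iv D12782) F46265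
theorem F50348 : act 4 n12782 = n12782 := d29_1 D12782 (iv D12782) F46266
theorem F50349 : act 5 n12782 = n11753 := d32_1 D12782 (iv D11753) D11752
theorem F50350 : act 7 n12782 = n12149 := d35_1 D12782 (iv D12149) F42886 (iv F44657) (iv F46267)
def n12783 : Q := act 8 n11754
theorem D12783 : act 8 n11754 = n12783 := rfl
theorem F50351 : act 0 n12783 = n11794 := d7_1 D12783 (iv D11794) (iv F46273)
theorem F50352 : act 2 n12783 = n12783 := d20_1 D12783 (iv D12783) F46274
theorem F50353 : act 4 n12783 = n11757 := d29_1 D12783 (iv D11757) (iv F46275)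
theorem F50354 : act 6 n12783 = n11755 := d34_1 D12783 (iv D11755) D11754
def n12784 : Q := act 7 n11755
theorem D12784 : act 7 n11755 = n12784 := rfl
theorem F50355 : act 0 n12784 = n11795 := d6_1 D12784 (iv D11795) (iv F46277)
theorem F50356 : act 2 n12784 = n12784 := d19_1 D12784 (iv D12784) F46278
theorem F50357 : act 4 n12784 = n11758 := d28_1 D12784 (iv D11758) (iv F46279)
theorem F50358 : act 5 n12784 = n11756 := d31_1 D12784 (iv D11756) (iv F46280)
theorem F50359 : act 8 n12784 = n12087 := d35_2 D11755 D12784 (iv D12087) (iv D10821) (iv F40286)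
def n12785 : Q := act 3 n11756
theorem D12785 : act 3 n11756 = n12785 := rfl
theorem F50360 : act 0 n12785 = n11796 := d2_1 D12785 (iv D11796) (iv F46281)
theorem F50361 : act 4 n12785 = n11898 := d21_2 (iv F46283) D12785 F46763 F40712 (iv F44799)
theorem F50362 : act 6 n12785 = n11903 := d23_2 (iv F46284) D12785 F46781
theorem F50363 : act 8 n12785 = n11897 := d25_2 (iv F46285) D12785 F46758
theorem F50364 : act 2 n12286 = n12785 := d20_3 F50363 F46757 D12286
def n12786 : Q := act 7 n11757
theorem D12786 : act 7 n11757 = n12786 := rfl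
theorem F50365 : act 0 n12786 = n11797 := d6_1 D12786 (iv D11797) (iv F46286)
theorem F50366 : act 2 n12786 = n12786 := d19_1 D12786 (iv D12786) F46287
theorem F50367 : act 5 n12786 = n12786 := d31_1 D12786 (iv D12786) F46288
theorem F50368 : act 6 n12786 = n11758 := d33_1 D12786 (iv D11758) (iv F46289)
theorem F50369 : act 8 n12786 = n12088 := d35_2 D11757 D12786 (iv D12088) (iv D10823) (iv F40297)
def n12787 : Q := act 3 n11758
theorem D12787 : act 3 n11758 = n12787 := rfl
theorem F50370 : act 0 n12787 = n11798 := d2_1 D12787 (iv D11798) (iv F46290)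
theorem F50371 : act 5 n12787 = n11759 := d22_2 (iv F46292) D12787 (iv D11759)
theorem F50372 : act 8 n12787 = n12089 := d25_2 (iv F46293) D12787 (iv D12089)
def n12788 : Q := act 2 n11759
theorem D12788 : act 2 n11759 = n12788 := rfl
theorem F50373 : act 0 n12788 = n11799 := d1_1 D12788 (iv D11799) (iv F46294)
theorem F50374 : act 3 n12788 = n12788 := d15_2 D11759 D12788 (iv D12788) (iv D11759) F40302
theorem F50375 : act 6 n12788 = n12788 := d18_2 F46295 D12788 (iv D12788)
theorem F50376 : act 8 n12788 = n12090 := d20_2 (iv F46296) D12788 (iv D12090)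
def n12789 : Q := act 8 n11760
theorem D12789 : act 8 n11760 = n12789 := rfl
theorem F50377 : act 0 n12789 = n12242 := d7_1 D12789 (iv D12242) (iv F46297)
theorem F50378 : act 1 n12789 = n11761 := d14_1 D12789 (iv D11761) D11760
theorem F50379 : act 4 n12789 = n12789 := d29_1 D12789 (iv D12789) F46298
theorem F50380 : act 6 n12789 = n11764 := d34_1 D12789 (iv D11764) (iv F46299)
def n12790 : Q := act 7 n11761
theorem D12790 : act 7 n11761 = n12790 := rfl
theorem F50381 : act 0 n12790 = n11800 := d6_1 D12790 (iv D11800) (iv F46301)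
theorem F50382 : act 2 n12790 = n11762 := d19_1 D12790 (iv D11762) (iv F46302)
theorem F50383 : act 4 n12790 = n12790 := d28_1 D12790 (iv D12790) F46303
theorem F50384 : act 6 n12790 = n11765 := d33_1 D12790 (iv D11765) (iv F46304)
theorem F50385 : act 8 n12790 = n12790 := d35_2 D11761 D12790 (iv D12790) (iv D11761) F40313
def n12791 : Q := act 8 n11763
theorem D12791 : act 8 n11763 = n12791 := rfl
theorem F50386 : act 0 n12791 = n11764 := d7_1 D12791 (iv D11764) D11763
theorem F50387 : act 1 n12791 = n11801 := d14_1 D12791 (iv D11801) (iv F46309)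
theorem F50388 : act 2 n12791 = n12789 := d20_1 D12791 (iv D12789) (iv F46310)
theorem F50389 : act 4 n12791 = n12791 := d29_1 D12791 (iv D12791) F46311
theorem F50390 : act 6 n12791 = n12242 := d34_1 D12791 (iv D12242) (iv F46312)
def n12792 : Q := act 7 n11764
theorem D12792 : act 7 n11764 = n12792 := rfl
theorem F50391 : act 1 n12792 = n11765 := d13_1 D12792 (iv D11765) (iv F46314)
theorem F50392 : act 4 n12792 = n12792 := d28_1 D12792 (iv D12792) F46315
theorem F50393 : act 8 n12792 = n12792 := d35_2 D11764 D12792 (iv D12792) (iv D11764) F40319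
def n12793 : Q := act 3 n11765
theorem D12793 : act 3 n11765 = n12793 := rfl
theorem F50394 : act 0 n12793 = n11803 := d2_1 D12793 (iv D11803) (iv F46316)
theorem F50395 : act 8 n12793 = n12793 := d25_2 F46319 D12793 (iv D12793)
def n12794 : Q := act 8 n11766
theorem D12794 : act 8 n11766 = n12794 := rfl
theorem F50396 : act 1 n12794 = n11842 := d14_1 D12794 (iv D11842) (iv F46320)
theorem F50397 : act 3 n12794 = n11767 := d25_1 D12794 (iv D11767) D11766
theorem F50398 : act 5 n12794 = n11769 := d32_1 D12794 (iv D11769) (iv F46321)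
def n12795 : Q := act 8 n11768
theorem D12795 : act 8 n11768 = n12795 := rfl
theorem F50399 : act 1 n12795 = n12244 := d14_1 D12795 (iv D12244) (iv F46328)
theorem F50400 : act 2 n12795 = n11769 := d20_1 D12795 (iv D11769) D11768
theorem F50401 : act 3 n12795 = n12795 := d25_1 D12795 (iv D12795) F46329
theorem F50402 : act 4 n12795 = n11956 := d29_1 D12795 F46950 (iv F46330)
theorem F50403 : act 6 n12795 = n11772 := d34_1 D12795 (iv D11772) (iv F46331)
def n12796 : Q := act 7 n11769
theorem D12796 : act 7 n11769 = n12796 := rfl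
theorem F50404 : act 1 n12796 = n11928 := d13_1 D12796 (iv D11928) (iv F46333)
theorem F50405 : act 3 n12796 = n11849 := d24_1 D12796 (iv D11849) F40593 (iv F44827) (iv F46334)
theorem F50406 : act 4 n12796 = n11951 := d28_1 D12796 F46933 (iv F46335)
theorem F50407 : act 6 n12796 = n11775 := d33_1 D12796 (iv D11775) (iv F46336)
theorem F50408 : act 8 n12796 = n11782 := d35_2 D11769 D12796 (iv D11782) (iv D10326) (iv F40335)
def n12797 : Q := act 0 n11770
theorem D12797 : act 0 n11770 = n12797 := rfl
theorem F50409 : act 2 n12797 = n11929 := d1_2 (iv F46337) D12797 (iv D11929)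
theorem F50410 : act 3 n12797 = n12797 := d2_2 F46338 D12797 (iv D12797)
theorem F50411 : act 6 n12797 = n12227 := d5_2 (iv F46339) D12797 F48073
theorem F50412 : act 7 n12797 = n11783 := d6_2 (iv F46340) D12797 (iv D11783)
def n12798 : Q := act 8 n11770
theorem D12798 : act 8 n11770 = n12798 := rfl
theorem F50413 : act 1 n12798 = n11772 := d14_1 D12798 (iv D11772) D11770
theorem F50414 : act 2 n12798 = n11931 := d20_1 D12798 (iv D11931) (iv F46337)
theorem F50415 : act 3 n12798 = n12798 := d25_1 D12798 (iv D12798) F46338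
theorem F50416 : act 6 n12798 = n12244 := d34_1 D12798 (iv D12244) (iv F46339)
def n12799 : Q := act 8 n11771
theorem D12799 : act 8 n11771 = n12799 := rfl
theorem F50417 : act 2 n12799 = n11774 := d20_1 D12799 (iv D11774) (iv F46341)
theorem F50418 : act 3 n12799 = n12049 := d25_1 D12799 F47331 F46344
theorem F50419 : act 4 n12799 = n11772 := d29_1 D12799 (iv D11772) D11771
theorem F50420 : act 6 n12799 = n11956 := d34_1 D12799 F46950 (iv F46342)
def n12800 : Q := act 7 n11772
theorem D12800 : act 7 n11772 = n12800 := rfl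
theorem F50421 : act 2 n12800 = n11775 := d19_1 D12800 (iv D11775) (iv F46345)
theorem F50422 : act 8 n12800 = n11788 := d35_2 D11772 D12800 (iv D11788) (iv D10329) (iv F40341)
def n12801 : Q := act 8 n11773
theorem D12801 : act 8 n11773 = n12801 := rfl
theorem F50423 : act 1 n12801 = n11936 := d14_1 D12801 (iv D11936) (iv F46347)
theorem F50424 : act 3 n12801 = n11953 := d25_1 D12801 F46942 (iv F46348)
theorem F50425 : act 5 n12801 = n11774 := d32_1 D12801 (iv D11774) D11773
def n12802 : Q := act 7 n11774
theorem D12802 : act 7 n11774 = n12802 := rfl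
theorem F50426 : act 1 n12802 = n11937 := d13_1 D12802 (iv D11937) (iv F46350)
theorem F50427 : act 3 n12802 = n11940 := d24_1 D12802 (iv D11940) F40822 D10480 (iv F46351)
theorem F50428 : act 4 n12802 = n11775 := d28_1 D12802 (iv D11775) (iv F46352)
theorem F50429 : act 6 n12802 = n11951 := d33_1 D12802 F46933 (iv F46353)
theorem F50430 : act 8 n12802 = n11791 := d35_2 D11774 D12802 (iv D11791) (iv D10331) (iv F40344)
def n12803 : Q := act 8 n11776
theorem D12803 : act 8 n11776 = n12803 := rfl
theorem F50431 : act 1 n12803 = n11846 := d14_1 D12803 (iv D11846) (iv F46356)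
theorem F50432 : act 3 n12803 = n12803 := d25_1 D12803 (iv D12803) F46357
theorem F50433 : act 4 n12803 = n11777 := d29_1 D12803 (iv D11777) D11776
def n12804 : Q := act 7 n11777
theorem D12804 : act 7 n11777 = n12804 := rfl
theorem F50434 : act 1 n12804 = n11847 := d13_1 D12804 (iv D11847) (iv F46358)
theorem F50435 : act 5 n12804 = n11782 := d31_1 D12804 (iv D11782) (iv F46360)
def n12805 : Q := act 8 n11778
theorem D12805 : act 8 n11778 = n12805 := rfl
theorem F50436 : act 1 n12805 = n12247 := d14_1 D12805 (iv D12247) (iv F46361)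
theorem F50437 : act 2 n12805 = n11781 := d20_1 D12805 (iv D11781) (iv F46362)
theorem F50438 : act 3 n12805 = n12805 := d25_1 D12805 (iv D12805) F46363
theorem F50439 : act 4 n12805 = n11779 := d29_1 D12805 (iv D11779) D11778
theorem F50440 : act 6 n12805 = n11787 := d34_1 D12805 (iv D11787) (iv F46364)
def n12806 : Q := act 7 n11779
theorem D12806 : act 7 n11779 = n12806 := rfl
theorem F50441 : act 1 n12806 = n12248 := d13_1 D12806 (iv D12248) (iv F46366)
theorem F50442 : act 2 n12806 = n11782 := d19_1 D12806 (iv D11782) (iv F46367)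
theorem F50443 : act 6 n12806 = n11788 := d33_1 D12806 (iv D11788) (iv F46369)
def n12807 : Q := act 8 n11780
theorem D12807 : act 8 n11780 = n12807 := rfl
theorem F50444 : act 1 n12807 = n11939 := d14_1 D12807 (iv D11939) (iv F46370)
theorem F50445 : act 3 n12807 = n11793 := d25_1 D12807 (iv D11793) (iv F46371)
theorem F50446 : act 5 n12807 = n11781 := d32_1 D12807 (iv D11781) D11780
def n12808 : Q := act 7 n11781
theorem D12808 : act 7 n11781 = n12808 := rfl
theorem F50447 : act 1 n12808 = n11940 := d13_1 D12808 (iv D11940) (iv F46373)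
theorem F50448 : act 3 n12808 = n11937 := d24_1 D12808 (iv D11937) F40816 (iv F44684) (iv F46374)
theorem F50449 : act 4 n12808 = n11782 := d28_1 D12808 (iv D11782) (iv F46375)
theorem F50450 : act 6 n12808 = n11791 := d33_1 D12808 (iv D11791) (iv F46376)
theorem F50451 : act 8 n12808 = n11951 := d35_2 D11781 D12808 F46933 F40865 (iv F44683)
def n12809 : Q := act 4 n11783
theorem D12809 : act 4 n11783 = n12809 := rfl
theorem F50452 : act 0 n12809 = n11784 := d3_1 D12809 (iv D11784) D11783
theorem F50453 : act 2 n12809 = n11941 := d16_1 D12809 (iv D11941) (iv F46379)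
theorem F50454 : act 3 n12809 = n12809 := d21_1 D12809 (iv D12809) F46380 F40420 (iv F46380)
theorem F50455 : act 6 n12809 = n12231 := d27_2 (iv F46381) D12809 (iv D12231)
def n12810 : Q := act 8 n11783
theorem D12810 : act 8 n11783 = n12810 := rfl
theorem F50456 : act 0 n12810 = n11785 := d7_1 D12810 (iv D11785) D11783
theorem F50457 : act 2 n12810 = n11942 := d20_1 D12810 (iv D11942) (iv F46379)
theorem F50458 : act 3 n12810 = n11801 := d25_1 D12810 (iv D11801) (iv F46380)
theorem F50459 : act 6 n12810 = n12232 := d34_1 D12810 (iv D12232) (iv F46381)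
def n12811 : Q := act 8 n11784
theorem D12811 : act 8 n11784 = n12811 := rfl
theorem F50460 : act 1 n12811 = n11787 := d14_1 D12811 (iv D11787) (iv F46382)
theorem F50461 : act 2 n12811 = n11944 := d20_1 D12811 (iv D11944) (iv F46383)
theorem F50462 : act 3 n12811 = n12811 := d25_1 D12811 (iv D12811) F46384
theorem F50463 : act 4 n12811 = n11785 := d29_1 D12811 (iv D11785) D11784
theorem F50464 : act 6 n12811 = n12247 := d34_1 D12811 (iv D12247) (iv F46385)
def n12812 : Q := act 7 n11785
theorem D12812 : act 7 n11785 = n12812 := rfl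
theorem F50465 : act 1 n12812 = n11788 := d13_1 D12812 (iv D11788) (iv F46386)
theorem F50466 : act 2 n12812 = n11945 := d19_1 D12812 (iv D11945) (iv F46387)
theorem F50467 : act 6 n12812 = n12248 := d33_1 D12812 (iv D12248) (iv F46389)
def n12813 : Q := act 8 n11786
theorem D12813 : act 8 n11786 = n12813 := rfl
theorem F50468 : act 2 n12813 = n11790 := d20_1 D12813 (iv D11790) (iv F46390)
theorem F50469 : act 3 n12813 = n12813 := d25_1 D12813 (iv D12813) F46391
theorem F50470 : act 5 n12813 = n11787 := d32_1 D12813 (iv D11787) D11786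
def n12814 : Q := act 7 n11787
theorem D12814 : act 7 n11787 = n12814 := rfl
theorem F50471 : act 2 n12814 = n11791 := d19_1 D12814 (iv D11791) (iv F46392)
theorem F50472 : act 4 n12814 = n11788 := d28_1 D12814 (iv D11788) (iv F46394)
def n12815 : Q := act 3 n11788
theorem D12815 : act 3 n11788 = n12815 := rfl
theorem F50473 : act 7 n12815 = n11803 := d24_2 D11788 D12815 (iv D11803) (iv D10346) (iv F40368)
def n12816 : Q := act 8 n11789
theorem D12816 : act 8 n11789 = n12816 := rfl
theorem F50474 : act 1 n12816 = n11949 := d14_1 D12816 (iv D11949) (iv F46396)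
theorem F50475 : act 3 n12816 = n11794 := d25_1 D12816 (iv D11794) (iv F46397)
theorem F50476 : act 6 n12816 = n11790 := d34_1 D12816 (iv D11790) D11789
def n12817 : Q := act 7 n11790
theorem D12817 : act 7 n11790 = n12817 := rfl
theorem F50477 : act 1 n12817 = n11950 := d13_1 D12817 (iv D11950) (iv F46398)
theorem F50478 : act 5 n12817 = n11791 := d31_1 D12817 (iv D11791) (iv F46400)
def n12818 : Q := act 3 n11791
theorem D12818 : act 3 n11791 = n12818 := rfl
theorem F50479 : act 1 n12818 = n11951 := d9_1 D12818 (iv D11951) (iv F46401)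
theorem F50480 : act 4 n12818 = n11928 := d21_2 (iv F46402) D12818 (iv F50065) F50066 F46071
theorem F50481 : act 6 n12818 = n11937 := d23_2 F50450 D12818 (iv F50448)
theorem F50482 : act 7 n12818 = n11796 := d24_2 D11791 D12818 (iv D11796) (iv D10338) (iv F40372)
theorem F50483 : act 8 n12818 = n11940 := d25_2 F50430 D12818 (iv F50427)
theorem F50484 : act 2 n12298 = n12818 := d20_3 F50483 F46904 (iv F48281)
def n12819 : Q := act 8 n11792
theorem D12819 : act 8 n11792 = n12819 := rfl
theorem F50485 : act 1 n12819 = n11952 := d14_1 D12819 (iv D11952) (iv F46403)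
theorem F50486 : act 2 n12819 = n12819 := d20_1 D12819 (iv D12819) F46404
theorem F50487 : act 4 n12819 = n12819 := d29_1 D12819 (iv D12819) F46405
theorem F50488 : act 5 n12819 = n11794 := d32_1 D12819 (iv D11794) (iv F46406)
theorem F50489 : act 6 n12819 = n11793 := d34_1 D12819 (iv D11793) D11792
theorem F50490 : act 7 n12819 = n12154 := d35_1 D12819 (iv D12154) F42980 (iv F44655) (iv F46407)
def n12820 : Q := act 7 n11794
theorem D12820 : act 7 n11794 = n12820 := rfl
theorem F50491 : act 1 n12820 = n11954 := d13_1 D12820 (iv D11954) (iv F46413)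
theorem F50492 : act 2 n12820 = n12820 := d19_1 D12820 (iv D12820) F46414
theorem F50493 : act 4 n12820 = n11797 := d28_1 D12820 (iv D11797) (iv F46415)
theorem F50494 : act 5 n12820 = n12154 := d31_1 D12820 (iv F50490) F50488
theorem F50495 : act 6 n12820 = n11795 := d33_1 D12820 (iv D11795) (iv F46416)
theorem F50496 : act 8 n12820 = n12092 := d35_2 D11794 D12820 (iv D12092) (iv D10862) (iv F40391)
def n12821 : Q := act 3 n11795
theorem D12821 : act 3 n11795 = n12821 := rfl
theorem F50497 : act 1 n12821 = n11955 := d9_1 D12821 (iv D11955) (iv F46417)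
theorem F50498 : act 5 n12821 = n11796 := d22_2 (iv F46420) D12821 (iv D11796)
theorem F50499 : act 8 n12821 = n11927 := d25_2 (iv F46421) D12821 F46867
theorem F50500 : act 2 n12297 = n12821 := d36_7 D6297 (iv F32624) (iv F40584) (iv F45521) (iv F49547) F49546 F49544 (iv D12821) F46421 (iv D10863) F44660 (iv D6818) (iv D4977) (iv D3636) (iv F14101) F14102 F10524 (iv F44731) (iv D1949) F5978 F4558 (iv D1062) F3444 F2596 F1964 F1486 (iv F1950) F1949 F1948 (iv D419) (iv D309) (iv D228) (iv F1058) F1059 D274 (iv F1362) F1361 (iv D284) (iv F1356) (iv F1781) D514 F2345 D696 F3094 (iv F3148) (iv F4134) F4131 F4132 D1300 D1768 (iv F9768) D3284 F13067 F10389 D3526 D4822 F44967 (iv F18118) F18117 F13440 F13441 (iv F13274) F13276 D3368 (iv F38319) (iv F13279) F13278 F9914 F9913 (iv F9829) (iv F13096) D4497 F17621 F17619 F13160 F9833 F9149 (iv F12195) (iv F16341) (iv F21990) (iv D5671) F16339 (iv D4155) (iv F16335) (iv F21972) D7745 F29653 F38463 (iv D6296)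
def n12822 : Q := act 3 n11800
theorem D12822 : act 3 n11800 = n12822 := rfl
theorem F50501 : act 1 n12822 = n12257 := d9_1 D12822 (iv D12257) (iv F46438)
theorem F50502 : act 6 n12822 = n11803 := d23_2 (iv F46441) D12822 (iv D11803)
theorem F50503 : act 8 n12822 = n12822 := d25_2 F46442 D12822 (iv D12822)
def n12823 : Q := act 7 n11801
theorem D12823 : act 7 n11801 = n12823 := rfl
theorem F50504 : act 0 n12823 = n11802 := d6_1 D12823 (iv D11802) (iv F46443)
theorem F50505 : act 2 n12823 = n11804 := d19_1 D12823 (iv D11804) (iv F46444)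
theorem F50506 : act 4 n12823 = n12823 := d28_1 D12823 (iv D12823) F46445
theorem F50507 : act 6 n12823 = n12243 := d33_1 D12823 (iv D12243) (iv F46446)
theorem F50508 : act 8 n12823 = n12823 := d35_2 D11801 D12823 (iv D12823) (iv D11801) F40422
def n12824 : Q := act 3 n11802
theorem D12824 : act 3 n11802 = n12824 := rfl
theorem F50509 : act 1 n12824 = n11803 := d9_1 D12824 (iv D11803) (iv F46447)
theorem F50510 : act 6 n12824 = n12257 := d23_2 (iv F46450) D12824 (iv D12257)
theorem F50511 : act 8 n12824 = n12824 := d25_2 F46451 D12824 (iv D12824)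
def n12825 : Q := act 4 n11803
theorem D12825 : act 4 n11803 = n12825 := rfl
theorem F50512 : act 3 n12825 = n12825 := d21_1 D12825 (iv D12825) (iv D11803) F40428 D11803
theorem F50513 : act 8 n12825 = n12825 := d29_2 F46452 D12825 (iv D12825)
def n12826 : Q := act 3 n11806
theorem D12826 : act 3 n11806 = n12826 := rfl
theorem F50514 : act 1 n12826 = n11958 := d9_1 D12826 (iv D11958) (iv F46464)
theorem F50515 : act 5 n12826 = n12258 := d22_2 (iv F46467) D12826 (iv D12258)
theorem F50516 : act 7 n12826 = n12496 := d24_2 D11806 D12826 (iv D12496) (iv D11504) (iv F40440)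
def n12827 : Q := act 8 n11806
theorem D12827 : act 8 n11806 = n12827 := rfl
theorem F50517 : act 1 n12827 = n11959 := d14_1 D12827 (iv D11959) (iv F46464)
theorem F50518 : act 2 n12827 = n11808 := d20_1 D12827 (iv D11808) (iv F46465)
theorem F50519 : act 4 n12827 = n12094 := d29_1 D12827 (iv D12094) (iv F46466)
theorem F50520 : act 5 n12827 = n12259 := d32_1 D12827 (iv D12259) (iv F46467)
theorem F50521 : act 7 n12827 = n11856 := d35_1 D12827 (iv D11856) (iv D10405) (iv F40443) D11806
def n12828 : Q := act 2 n11807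
theorem D12828 : act 2 n11807 = n12828 := rfl
theorem F50522 : act 5 n12828 = n12260 := d17_2 (iv F46469) D12828 (iv D12260)
theorem F50523 : act 7 n12828 = n11811 := d19_2 (iv F46470) D12828 (iv D11811)
def n12829 : Q := act 8 n11807
theorem D12829 : act 8 n11807 = n12829 := rfl
theorem F50524 : act 1 n12829 = n11829 := d14_1 D12829 (iv D11829) (iv F46468)
theorem F50525 : act 3 n12829 = n11808 := d25_1 D12829 (iv D11808) D11807
theorem F50526 : act 5 n12829 = n12262 := d32_1 D12829 (iv D12262) (iv F46469)
def n12830 : Q := act 2 n11809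
theorem D12830 : act 2 n11809 = n12830 := rfl
theorem F50527 : act 3 n12830 = n12507 := d15_2 D11809 D12830 (iv D12507) (iv D11510) (iv F40452)
theorem F50528 : act 6 n12830 = n11811 := d18_2 (iv F46476) D12830 (iv D11811)
def n12831 : Q := act 8 n11809
theorem D12831 : act 8 n11809 = n12831 := rfl
theorem F50529 : act 1 n12831 = n11830 := d14_1 D12831 (iv D11830) (iv F46475)
theorem F50530 : act 3 n12831 = n11810 := d25_1 D12831 (iv D11810) D11809
theorem F50531 : act 6 n12831 = n11813 := d34_1 D12831 (iv D11813) (iv F46476)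
def n12832 : Q := act 1 n11811
theorem D12832 : act 1 n11811 = n12832 := rfl
theorem F50532 : act 2 n12832 = n11831 := d8_2 D11811 D12832 (iv D11831) (iv D10370) (iv F40455)
theorem F50533 : act 3 n12832 = n12510 := d9_2 (iv F46482) D12832 (iv D12510)
theorem F50534 : act 5 n12832 = n11864 := d11_2 (iv F46483) D12832 F46657
def n12833 : Q := act 4 n11811
theorem D12833 : act 4 n11811 = n12833 := rfl
theorem F50535 : act 2 n12833 = n11812 := d16_1 D12833 (iv D11812) D11811
def n12834 : Q := act 8 n11811
theorem D12834 : act 8 n11811 = n12834 := rfl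
theorem F50536 : act 2 n12834 = n11813 := d20_1 D12834 (iv D11813) D11811
theorem F50537 : act 3 n12834 = n12512 := d25_1 D12834 (iv D12512) (iv F46482)
theorem F50538 : act 5 n12834 = n12264 := d32_1 D12834 (iv D12264) (iv F46483)
def n12835 : Q := act 5 n11812
theorem D12835 : act 5 n11812 = n12835 := rfl
theorem F50539 : act 1 n12835 = n11834 := d11_1 D12835 (iv D11834) (iv F46484)
theorem F50540 : act 3 n12835 = n11818 := d22_1 D12835 (iv D11818) (iv F46485)
theorem F50541 : act 4 n12835 = n12265 := d26_1 D12835 (iv D12265) (iv D11288) (iv F40456) D11812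
def n12836 : Q := act 8 n11812
theorem D12836 : act 8 n11812 = n12836 := rfl
theorem F50542 : act 1 n12836 = n11835 := d14_1 D12836 (iv D11835) (iv F46484)
theorem F50543 : act 3 n12836 = n11819 := d25_1 D12836 (iv D11819) (iv F46485)
theorem F50544 : act 4 n12836 = n11813 := d29_1 D12836 (iv D11813) D11812
def n12837 : Q := act 7 n11813
theorem D12837 : act 7 n11813 = n12837 := rfl
theorem F50545 : act 1 n12837 = n11836 := d13_1 D12837 (iv D11836) (iv F46486)
theorem F50546 : act 3 n12837 = n11872 := d24_1 D12837 (iv D11872) F40651 (iv F40461) (iv F46487)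
theorem F50547 : act 5 n12837 = n12267 := d31_1 D12837 (iv D12267) (iv F46488)
def n12838 : Q := act 8 n11814
theorem D12838 : act 8 n11814 = n12838 := rfl
theorem F50548 : act 0 n12838 = n12094 := d7_1 D12838 (iv D12094) (iv F46489)
theorem F50549 : act 1 n12838 = n12838 := d14_1 D12838 (iv D12838) F46490
theorem F50550 : act 2 n12838 = n11815 := d20_1 D12838 (iv D11815) D11814
theorem F50551 : act 3 n12838 = n12517 := d25_1 D12838 (iv D12517) (iv F46491)
theorem F50552 : act 5 n12838 = n12838 := d32_1 D12838 (iv D12838) F46492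
theorem F50553 : act 6 n12838 = n11817 := d34_1 D12838 (iv D11817) (iv F46493)
theorem F50554 : act 7 n12838 = n12059 := d35_1 D12838 (iv D12059) (iv D10773) (iv F41672) (iv F46494)
def n12839 : Q := act 3 n11816
theorem D12839 : act 3 n11816 = n12839 := rfl
theorem F50555 : act 1 n12839 = n12839 := d9_1 D12839 (iv D12839) F46501
theorem F50556 : act 4 n12839 = n12521 := d21_2 D11816 D12839 (iv D12521) (iv D11518) (iv F40472)
def n12840 : Q := act 5 n11816
theorem D12840 : act 5 n11816 = n12840 := rfl
theorem F50557 : act 1 n12840 = n12840 := d11_1 D12840 (iv D12840) F46501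
theorem F50558 : act 2 n12840 = n11818 := d17_1 D12840 (iv D11818) (iv F46502)
theorem F50559 : act 4 n12840 = n11822 := d26_1 D12840 (iv D11822) (iv D10360) (iv F40473) D11816
theorem F50560 : act 7 n12840 = n12096 := d31_2 (iv F46503) D12840 (iv D12096)
def n12841 : Q := act 8 n11816
theorem D12841 : act 8 n11816 = n12841 := rfl
theorem F50561 : act 1 n12841 = n12841 := d14_1 D12841 (iv D12841) F46501
theorem F50562 : act 2 n12841 = n11819 := d20_1 D12841 (iv D11819) (iv F46502)
theorem F50563 : act 4 n12841 = n11817 := d29_1 D12841 (iv D11817) D11816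
def n12842 : Q := act 7 n11817
theorem D12842 : act 7 n11817 = n12842 := rfl
theorem F50564 : act 0 n12842 = n12111 := d6_1 D12842 (iv F49949) F49943
theorem F50565 : act 1 n12842 = n12842 := d13_1 D12842 (iv D12842) F46504
theorem F50566 : act 2 n12842 = n11820 := d19_1 D12842 (iv D11820) (iv F46505)
theorem F50567 : act 5 n12842 = n11824 := d31_1 D12842 (iv D11824) (iv F46507)
theorem F50568 : act 6 n12842 = n12059 := d33_1 D12842 (iv F50554) F50553
theorem F50569 : act 8 n12842 = n12057 := d35_2 D11817 D12842 (iv D12057) F44884 (iv F40474)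
def n12843 : Q := act 8 n11818
theorem D12843 : act 8 n11818 = n12843 := rfl
theorem F50570 : act 1 n12843 = n11837 := d14_1 D12843 (iv D11837) (iv F46508)
theorem F50571 : act 4 n12843 = n11826 := d29_1 D12843 (iv D11826) (iv F46509)
theorem F50572 : act 5 n12843 = n11819 := d32_1 D12843 (iv D11819) D11818
def n12844 : Q := act 5 n11821
theorem D12844 : act 5 n11821 = n12844 := rfl
theorem F50573 : act 1 n12844 = n12844 := d11_1 D12844 (iv D12844) F46519
theorem F50574 : act 2 n12844 = n12275 := d17_1 D12844 (iv D12275) (iv F46520)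
theorem F50575 : act 3 n12844 = n11822 := d22_1 D12844 (iv D11822) D11821
def n12845 : Q := act 7 n11821
theorem D12845 : act 7 n11821 = n12845 := rfl
theorem F50576 : act 1 n12845 = n12845 := d13_1 D12845 (iv D12845) F46519
theorem F50577 : act 2 n12845 = n12276 := d19_1 D12845 (iv D12276) (iv F46520)
theorem F50578 : act 3 n12845 = n12098 := d24_1 D12845 (iv D12098) (iv D10895) (iv F40483) D11821
theorem F50579 : act 4 n12845 = n12529 := d28_1 D12845 (iv D12529) (iv F46521)
theorem F50580 : act 6 n12845 = n12845 := d33_1 D12845 (iv D12845) F46522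
theorem F50581 : act 8 n12745 = n12845 := d25_0 F50578 F47566 (iv F50219)
def n12846 : Q := act 8 n11821
theorem D12846 : act 8 n11821 = n12846 := rfl
theorem F50582 : act 1 n12846 = n12846 := d14_1 D12846 (iv D12846) F46519
theorem F50583 : act 2 n12846 = n12277 := d20_1 D12846 (iv D12277) (iv F46520)
theorem F50584 : act 3 n12846 = n11823 := d25_1 D12846 (iv D11823) D11821
theorem F50585 : act 4 n12846 = n12530 := d29_1 D12846 (iv D12530) (iv F46521)
theorem F50586 : act 6 n12846 = n12846 := d34_1 D12846 (iv D12846) F46522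
theorem F50587 : act 7 n12846 = n12746 := d35_1 D12846 (iv D12746) D12745 F50581 (iv D12845)
def n12847 : Q := act 6 n11822
theorem D12847 : act 6 n11822 = n12847 := rfl
theorem F50588 : act 1 n12847 = n12847 := d12_1 D12847 (iv D12847) F46523
theorem F50589 : act 2 n12847 = n11825 := d18_1 D12847 (iv D11825) (iv F46524)
theorem F50590 : act 5 n12847 = n12847 := d30_1 D12847 (iv D12847) (iv D11822) F40482 D11822
theorem F50591 : act 7 n12847 = n12100 := d33_2 (iv F46525) D12847 (iv D12100)
def n12848 : Q := act 8 n11822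
theorem D12848 : act 8 n11822 = n12848 := rfl
theorem F50592 : act 1 n12848 = n12848 := d14_1 D12848 (iv D12848) F46523
theorem F50593 : act 2 n12848 = n11826 := d20_1 D12848 (iv D11826) (iv F46524)
theorem F50594 : act 5 n12848 = n11823 := d32_1 D12848 (iv D11823) D11822
def n12849 : Q := act 7 n11823
theorem D12849 : act 7 n11823 = n12849 := rfl
theorem F50595 : act 1 n12849 = n12849 := d13_1 D12849 (iv D12849) F46526
theorem F50596 : act 2 n12849 = n11827 := d19_1 D12849 (iv D11827) (iv F46527)
theorem F50597 : act 3 n12849 = n12749 := d24_1 D12849 (iv D12749) (iv F50223) (iv F50587) F50584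
theorem F50598 : act 4 n12849 = n11824 := d28_1 D12849 (iv D11824) (iv F46528)
theorem F50599 : act 6 n12849 = n12849 := d33_1 D12849 (iv D12849) F46529
theorem F50600 : act 8 n12849 = n12102 := d35_2 D11823 D12849 (iv D12102) (iv D10897) (iv F40483)
def n12850 : Q := act 3 n11824
theorem D12850 : act 3 n11824 = n12850 := rfl
theorem F50601 : act 1 n12850 = n12850 := d9_1 D12850 (iv D12850) F46530
theorem F50602 : act 2 n12850 = n11891 := d15_1 D12850 (iv D11891) F40687 (iv F40496) (iv F46531)
theorem F50603 : act 4 n12850 = n12750 := d21_2 F50598 D12850 (iv D12750) (iv F50237) (iv F50597)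
theorem F50604 : act 6 n12850 = n12850 := d23_2 F46532 D12850 (iv D12850)
theorem F50605 : act 7 n12850 = n12534 := d24_2 D11824 D12850 (iv D12534) (iv D11526) (iv F40486)
theorem F50606 : act 8 n12850 = n12103 := d25_2 (iv F46533) D12850 (iv D12103)
def n12851 : Q := act 8 n11825
theorem D12851 : act 8 n11825 = n12851 := rfl
theorem F50607 : act 1 n12851 = n11838 := d14_1 D12851 (iv D11838) (iv F46534)
theorem F50608 : act 3 n12851 = n12282 := d25_1 D12851 (iv D12282) (iv F46535)
theorem F50609 : act 5 n12851 = n12851 := d32_1 D12851 (iv D12851) F46536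
theorem F50610 : act 6 n12851 = n11826 := d34_1 D12851 (iv D11826) D11825
def n12852 : Q := act 7 n11826
theorem D12852 : act 7 n11826 = n12852 := rfl
theorem F50611 : act 1 n12852 = n11839 := d13_1 D12852 (iv D11839) (iv F46538)
theorem F50612 : act 5 n12852 = n11827 := d31_1 D12852 (iv D11827) (iv F46540)
theorem F50613 : act 8 n12852 = n12105 := d35_2 D11826 D12852 (iv D12105) (iv D10900) (iv F40490)
def n12853 : Q := act 3 n11827
theorem D12853 : act 3 n11827 = n12853 := rfl
theorem F50614 : act 1 n12853 = n11840 := d9_1 D12853 (iv D11840) (iv F46541)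
theorem F50615 : act 2 n12853 = n12753 := d15_1 D12853 (iv D12753) (iv F50236) (iv F50597) F50596
theorem F50616 : act 4 n12853 = n11894 := d21_2 (iv F46542) D12853 (iv D11894) F40696 (iv F40496)
theorem F50617 : act 6 n12853 = n12853 := d23_2 F46543 D12853 (iv D12853)
theorem F50618 : act 7 n12853 = n12284 := d24_2 D11827 D12853 (iv D12284) (iv D11301) (iv F40492)
theorem F50619 : act 8 n12853 = n12106 := d25_2 (iv F46544) D12853 (iv D12106)
def n12854 : Q := act 1 n11828
theorem D12854 : act 1 n11828 = n12854 := rfl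
theorem F50620 : act 3 n12854 = n11858 := d9_2 (iv F46546) D12854 F46643
theorem F50621 : act 5 n12854 = n11859 := d11_2 (iv F46547) D12854 F46645
theorem F50622 : act 7 n12854 = n11831 := d13_2 (iv F46548) D12854 (iv D11831)
def n12855 : Q := act 8 n11828
theorem D12855 : act 8 n11828 = n12855 := rfl
theorem F50623 : act 0 n12855 = n11842 := d7_1 D12855 (iv D11842) (iv F46545)
theorem F50624 : act 2 n12855 = n11829 := d20_1 D12855 (iv D11829) D11828
theorem F50625 : act 3 n12855 = n11896 := d25_1 D12855 (iv D11896) (iv F46546)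
theorem F50626 : act 5 n12855 = n11898 := d32_1 D12855 (iv D11898) (iv F46547)
def n12856 : Q := act 7 n11829
theorem D12856 : act 7 n11829 = n12856 := rfl
theorem F50627 : act 0 n12856 = n11843 := d6_1 D12856 (iv D11843) (iv F46549)
theorem F50628 : act 3 n12856 = n11904 := d24_1 D12856 (iv D11904) F40722 (iv F40510) (iv F46550)
theorem F50629 : act 5 n12856 = n12287 := d31_1 D12856 (iv D12287) (iv F46551)
theorem F50630 : act 8 n12856 = n11836 := d35_2 D11829 D12856 (iv D11836) (iv D10372) (iv F40505)
def n12857 : Q := act 7 n11830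
theorem D12857 : act 7 n11830 = n12857 := rfl
theorem F50631 : act 0 n12857 = n11844 := d6_1 D12857 (iv D11844) (iv F46552)
theorem F50632 : act 3 n12857 = n11907 := d24_1 D12857 (iv D11907) F40729 (iv F40517) (iv F46553)
theorem F50633 : act 6 n12857 = n11836 := d33_1 D12857 (iv D11836) (iv F46554)
def n12858 : Q := act 4 n11831
theorem D12858 : act 4 n11831 = n12858 := rfl
theorem F50634 : act 1 n12858 = n11832 := d10_1 D12858 (iv D11832) D11831
theorem F50635 : act 3 n12858 = n12858 := d21_1 D12858 (iv D12858) F46555 F40562 (iv F46555)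
def n12859 : Q := act 8 n11831
theorem D12859 : act 8 n11831 = n12859 := rfl
theorem F50636 : act 1 n12859 = n11833 := d14_1 D12859 (iv D11833) D11831
theorem F50637 : act 3 n12859 = n11841 := d25_1 D12859 (iv D11841) (iv F46555)
theorem F50638 : act 5 n12859 = n11866 := d32_1 D12859 (iv D11866) (iv F46556)
def n12860 : Q := act 5 n11832
theorem D12860 : act 5 n11832 = n12860 := rfl
theorem F50639 : act 0 n12860 = n11845 := d4_1 D12860 (iv D11845) (iv F46557)
theorem F50640 : act 2 n12860 = n11834 := d17_1 D12860 (iv D11834) (iv F46558)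
theorem F50641 : act 3 n12860 = n12860 := d22_1 D12860 (iv D12860) F46559
theorem F50642 : act 4 n12860 = n11905 := d26_1 D12860 (iv D11905) (iv D10437) (iv F40520) D11832
def n12861 : Q := act 8 n11832
theorem D12861 : act 8 n11832 = n12861 := rfl
theorem F50643 : act 0 n12861 = n11846 := d7_1 D12861 (iv D11846) (iv F46557)
theorem F50644 : act 2 n12861 = n11835 := d20_1 D12861 (iv D11835) (iv F46558)
theorem F50645 : act 3 n12861 = n12861 := d25_1 D12861 (iv D12861) F46559
theorem F50646 : act 4 n12861 = n11833 := d29_1 D12861 (iv D11833) D11832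
def n12862 : Q := act 7 n11833
theorem D12862 : act 7 n11833 = n12862 := rfl
theorem F50647 : act 0 n12862 = n11847 := d6_1 D12862 (iv D11847) (iv F46560)
theorem F50648 : act 2 n12862 = n11836 := d19_1 D12862 (iv D11836) (iv F46561)
theorem F50649 : act 5 n12862 = n11907 := d31_1 D12862 (iv D11907) (iv F46563)
def n12863 : Q := act 8 n11834
theorem D12863 : act 8 n11834 = n12863 := rfl
theorem F50650 : act 0 n12863 = n11848 := d7_1 D12863 (iv D11848) (iv F46564)
theorem F50651 : act 3 n12863 = n11837 := d25_1 D12863 (iv D11837) (iv F46565)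
theorem F50652 : act 4 n12863 = n12289 := d29_1 D12863 (iv D12289) (iv F46566)
theorem F50653 : act 5 n12863 = n11835 := d32_1 D12863 (iv D11835) D11834
def n12864 : Q := act 7 n11835
theorem D12864 : act 7 n11835 = n12864 := rfl
theorem F50654 : act 0 n12864 = n11849 := d6_1 D12864 (iv D11849) (iv F46567)
theorem F50655 : act 4 n12864 = n11836 := d28_1 D12864 (iv D11836) (iv F46569)
def n12865 : Q := act 7 n11838
theorem D12865 : act 7 n11838 = n12865 := rfl
theorem F50656 : act 0 n12865 = n11850 := d6_1 D12865 (iv D11850) (iv F46577)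
theorem F50657 : act 2 n12865 = n12865 := d19_1 D12865 (iv D12865) F46578
theorem F50658 : act 5 n12865 = n12865 := d31_1 D12865 (iv D12865) F46580
theorem F50659 : act 6 n12865 = n11839 := d33_1 D12865 (iv D11839) (iv F46581)
theorem F50660 : act 8 n12865 = n12107 := d35_2 D11838 D12865 (iv D12107) (iv D10926) (iv F40551)
def n12866 : Q := act 3 n11839
theorem D12866 : act 3 n11839 = n12866 := rfl
theorem F50661 : act 0 n12866 = n11851 := d2_1 D12866 (iv D11851) (iv F46582)
theorem F50662 : act 5 n12866 = n11840 := d22_2 (iv F46584) D12866 (iv D11840)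
theorem F50663 : act 7 n12866 = n12295 := d24_2 D11839 D12866 (iv D12295) (iv D11311) (iv F40554)
theorem F50664 : act 8 n12866 = n12108 := d25_2 (iv F46585) D12866 (iv D12108)
def n12867 : Q := act 2 n11840
theorem D12867 : act 2 n11840 = n12867 := rfl
theorem F50665 : act 0 n12867 = n11852 := d1_1 D12867 (iv D11852) (iv F46586)
theorem F50666 : act 1 n12867 = n12788 := d8_1 D12867 (iv D12788) (iv F50253) (iv F50615) F50614
theorem F50667 : act 3 n12867 = n12867 := d15_2 D11840 D12867 (iv D12867) (iv D11840) F40557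
theorem F50668 : act 4 n12867 = n11925 := d16_2 (iv F46587) D12867 (iv D11925)
theorem F50669 : act 6 n12867 = n12867 := d18_2 F46588 D12867 (iv D12867)
theorem F50670 : act 7 n12867 = n12296 := d19_2 (iv F46589) D12867 (iv D12296)
theorem F50671 : act 8 n12867 = n12109 := d20_2 (iv F46590) D12867 (iv D12109)
def n12868 : Q := act 7 n11842
theorem D12868 : act 7 n11842 = n12868 := rfl
theorem F50672 : act 2 n12868 = n11843 := d19_1 D12868 (iv D11843) (iv F46595)
theorem F50673 : act 5 n12868 = n11928 := d31_1 D12868 (iv D11928) (iv F46597)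
theorem F50674 : act 8 n12868 = n11847 := d35_2 D11842 D12868 (iv D11847) (iv D10391) (iv F40577)
def n12869 : Q := act 8 n11845
theorem D12869 : act 8 n11845 = n12869 := rfl
theorem F50675 : act 2 n12869 = n11848 := d20_1 D12869 (iv D11848) (iv F46603)
theorem F50676 : act 3 n12869 = n12869 := d25_1 D12869 (iv D12869) F46604
theorem F50677 : act 4 n12869 = n11939 := d29_1 D12869 (iv D11939) (iv F46605)
theorem F50678 : act 5 n12869 = n11846 := d32_1 D12869 (iv D11846) D11845
def n12870 : Q := act 7 n11846
theorem D12870 : act 7 n11846 = n12870 := rfl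
theorem F50679 : act 2 n12870 = n11849 := d19_1 D12870 (iv D11849) (iv F46606)
theorem F50680 : act 4 n12870 = n11847 := d28_1 D12870 (iv D11847) (iv F46608)
def n12871 : Q := act 7 n11848
theorem D12871 : act 7 n11848 = n12871 := rfl
theorem F50681 : act 4 n12871 = n12300 := d28_1 D12871 (iv D12300) (iv F46612)
theorem F50682 : act 5 n12871 = n11849 := d31_1 D12871 (iv D11849) (iv F46613)
def n12872 : Q := act 4 n11853
theorem D12872 : act 4 n11853 = n12872 := rfl
theorem F50683 : act 0 n12872 = n12101 := d3_1 D12872 (iv F50094) F50090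
theorem F50684 : act 1 n12872 = n11964 := d10_1 D12872 (iv D11964) (iv F46627)
theorem F50685 : act 2 n12872 = n11857 := d16_1 D12872 (iv D11857) (iv F46628)
theorem F50686 : act 5 n12872 = n12053 := d26_2 D11853 D12872 F47346 F44989 (iv F40630)
theorem F50687 : act 8 n12872 = n12052 := d29_2 F49708 D12872 F49710
def n12873 : Q := act 7 n11853
theorem D12873 : act 7 n11853 = n12873 := rfl
theorem F50688 : act 1 n12873 = n11961 := d13_1 D12873 F46970 (iv F46627)
theorem F50689 : act 2 n12873 = n11858 := d19_1 D12873 (iv D11858) (iv F46628)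
theorem F50690 : act 5 n12873 = n11854 := d31_1 D12873 (iv D11854) D11853
def n12874 : Q := act 3 n11854
theorem D12874 : act 3 n11854 = n12874 := rfl
theorem F50691 : act 1 n12874 = n11966 := d9_1 D12874 (iv D11966) (iv F46630)
theorem F50692 : act 6 n12874 = n11855 := d23_2 (iv F46633) D12874 (iv D11855)
def n12875 : Q := act 8 n11854
theorem D12875 : act 8 n11854 = n12875 := rfl
theorem F50693 : act 1 n12875 = n11967 := d14_1 D12875 (iv D11967) (iv F46630)
theorem F50694 : act 2 n12875 = n11860 := d20_1 D12875 (iv D11860) (iv F46631)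
theorem F50695 : act 4 n12875 = n12111 := d29_1 D12875 (iv D12111) (iv F46632)
theorem F50696 : act 6 n12875 = n11856 := d34_1 D12875 (iv D11856) (iv F46633)
def n12876 : Q := act 2 n11855
theorem D12876 : act 2 n11855 = n12876 := rfl
theorem F50697 : act 3 n12876 = n11861 := d15_2 D11855 D12876 (iv D11861) (iv D10408) (iv F40632)
def n12877 : Q := act 4 n11855
theorem D12877 : act 4 n11855 = n12877 := rfl
theorem F50698 : act 1 n12877 = n11969 := d10_1 D12877 (iv D11969) (iv F46634)
theorem F50699 : act 3 n12877 = n12113 := d21_1 D12877 (iv D12113) (iv D10990) (iv F40633) D11855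
def n12878 : Q := act 8 n11855
theorem D12878 : act 8 n11855 = n12878 := rfl
theorem F50700 : act 1 n12878 = n11970 := d14_1 D12878 (iv D11970) (iv F46634)
theorem F50701 : act 3 n12878 = n11856 := d25_1 D12878 (iv D11856) D11855
def n12879 : Q := act 7 n11857
theorem D12879 : act 7 n11857 = n12879 := rfl
theorem F50702 : act 0 n12879 = n12105 := d6_1 D12879 (iv D12105) (iv F46638)
theorem F50703 : act 1 n12879 = n11895 := d13_1 D12879 (iv D11895) (iv F46639)
theorem F50704 : act 4 n12879 = n11858 := d28_1 D12879 (iv D11858) D11857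
theorem F50705 : act 5 n12879 = n12055 := d31_1 D12879 (iv D12055) (iv F46641)
def n12880 : Q := act 8 n11858
theorem D12880 : act 8 n11858 = n12880 := rfl
theorem F50706 : act 1 n12880 = n11896 := d14_1 D12880 (iv D11896) (iv F46643)
theorem F50707 : act 5 n12880 = n11860 := d32_1 D12880 (iv D11860) (iv F46644)
def n12881 : Q := act 2 n11859
theorem D12881 : act 2 n11859 = n12881 := rfl
theorem F50708 : act 1 n12881 = n12260 := d8_1 D12881 (iv D12260) F43822 (iv F40707) (iv F46645)
theorem F50709 : act 6 n12881 = n11861 := d18_2 (iv F46646) D12881 (iv D11861)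
theorem F50710 : act 7 n12881 = n11864 := d19_2 (iv F46647) D12881 (iv D11864)
def n12882 : Q := act 4 n11859
theorem D12882 : act 4 n11859 = n12882 := rfl
theorem F50711 : act 0 n12882 = n12134 := d3_1 D12882 (iv F50113) F50111
theorem F50712 : act 1 n12882 = n11897 := d10_1 D12882 (iv D11897) (iv F46645)
theorem F50713 : act 3 n12882 = n12072 := d21_1 D12882 F47430 F44778 (iv F40637) D11859
theorem F50714 : act 6 n12882 = n11862 := d27_2 (iv F46646) D12882 (iv D11862)
theorem F50715 : act 7 n12882 = n11865 := d28_2 (iv F46647) D12882 (iv D11865)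
def n12883 : Q := act 8 n11859
theorem D12883 : act 8 n11859 = n12883 := rfl
theorem F50716 : act 1 n12883 = n11898 := d14_1 D12883 (iv D11898) (iv F46645)
theorem F50717 : act 3 n12883 = n11860 := d25_1 D12883 (iv D11860) D11859
theorem F50718 : act 6 n12883 = n11863 := d34_1 D12883 (iv D11863) (iv F46646)
def n12884 : Q := act 1 n11861
theorem D12884 : act 1 n11861 = n12884 := rfl
theorem F50719 : act 2 n12884 = n11899 := d8_2 D11861 D12884 (iv D11899) (iv D10434) (iv F40639)
theorem F50720 : act 6 n12884 = n12260 := d12_2 F50709 D12884 (iv F50708)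
theorem F50721 : act 7 n12884 = n11867 := d13_2 (iv F46651) D12884 (iv D11867)
def n12885 : Q := act 4 n11861
theorem D12885 : act 4 n11861 = n12885 := rfl
theorem F50722 : act 2 n12885 = n11862 := d16_1 D12885 (iv D11862) D11861
theorem F50723 : act 7 n12885 = n11868 := d28_2 (iv F46651) D12885 (iv D11868)
def n12886 : Q := act 8 n11861
theorem D12886 : act 8 n11861 = n12886 := rfl
theorem F50724 : act 2 n12886 = n11863 := d20_1 D12886 (iv D11863) D11861
def n12887 : Q := act 5 n11862
theorem D12887 : act 5 n11862 = n12887 := rfl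
theorem F50725 : act 1 n12887 = n11902 := d11_1 D12887 (iv D11902) (iv F46652)
theorem F50726 : act 3 n12887 = n12117 := d22_1 D12887 (iv D12117) (iv F46653)
theorem F50727 : act 7 n12887 = n11870 := d31_2 (iv F46654) D12887 (iv D11870)
def n12888 : Q := act 8 n11862
theorem D12888 : act 8 n11862 = n12888 := rfl
theorem F50728 : act 1 n12888 = n11903 := d14_1 D12888 (iv D11903) (iv F46652)
theorem F50729 : act 3 n12888 = n12118 := d25_1 D12888 (iv D12118) (iv F46653)
theorem F50730 : act 4 n12888 = n11863 := d29_1 D12888 (iv D11863) D11862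
def n12889 : Q := act 7 n11863
theorem D12889 : act 7 n11863 = n12889 := rfl
theorem F50731 : act 1 n12889 = n11904 := d13_1 D12889 (iv D11904) (iv F46655)
theorem F50732 : act 8 n12889 = n11872 := d35_2 D11863 D12889 (iv D11872) (iv D10414) (iv F40640)
def n12890 : Q := act 4 n11864
theorem D12890 : act 4 n11864 = n12890 := rfl
theorem F50733 : act 1 n12890 = n12263 := d10_1 D12890 (iv D12263) (iv F46657)
theorem F50734 : act 2 n12890 = n11865 := d16_1 D12890 (iv D11865) D11864
theorem F50735 : act 6 n12890 = n11868 := d27_2 (iv F46658) D12890 (iv D11868)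
def n12891 : Q := act 8 n11864
theorem D12891 : act 8 n11864 = n12891 := rfl
theorem F50736 : act 1 n12891 = n12264 := d14_1 D12891 (iv D12264) (iv F46657)
theorem F50737 : act 2 n12891 = n11866 := d20_1 D12891 (iv D11866) D11864
theorem F50738 : act 6 n12891 = n11869 := d34_1 D12891 (iv D11869) (iv F46658)
def n12892 : Q := act 5 n11865
theorem D12892 : act 5 n11865 = n12892 := rfl
theorem F50739 : act 1 n12892 = n11905 := d11_1 D12892 (iv D11905) (iv F46659)
theorem F50740 : act 3 n12892 = n11875 := d22_1 D12892 (iv D11875) (iv F46660)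
def n12893 : Q := act 8 n11865
theorem D12893 : act 8 n11865 = n12893 := rfl
theorem F50741 : act 1 n12893 = n11906 := d14_1 D12893 (iv D11906) (iv F46659)
theorem F50742 : act 3 n12893 = n11876 := d25_1 D12893 (iv D11876) (iv F46660)
theorem F50743 : act 4 n12893 = n11866 := d29_1 D12893 (iv D11866) D11865
theorem F50744 : act 6 n12893 = n11871 := d34_1 D12893 (iv D11871) (iv F46661)
def n12894 : Q := act 7 n11866
theorem D12894 : act 7 n11866 = n12894 := rfl
theorem F50745 : act 1 n12894 = n11907 := d13_1 D12894 (iv D11907) (iv F46662)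
theorem F50746 : act 6 n12894 = n11872 := d33_1 D12894 (iv D11872) (iv F46664)
def n12895 : Q := act 0 n11867
theorem D12895 : act 0 n11867 = n12895 := rfl
theorem F50747 : act 2 n12895 = n11908 := d1_2 (iv F46665) D12895 (iv D11908)
theorem F50748 : act 3 n12895 = n12724 := d2_2 (iv F46666) D12895 F50139
theorem F50749 : act 6 n12895 = n12212 := d5_2 (iv F46667) D12895 F48015
def n12896 : Q := act 4 n11867
theorem D12896 : act 4 n11867 = n12896 := rfl
theorem F50750 : act 1 n12896 = n11868 := d10_1 D12896 (iv D11868) D11867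
theorem F50751 : act 2 n12896 = n11909 := d16_1 D12896 (iv D11909) (iv F46665)
theorem F50752 : act 6 n12896 = n12263 := d27_2 (iv F46667) D12896 (iv D12263)
def n12897 : Q := act 8 n11867
theorem D12897 : act 8 n11867 = n12897 := rfl
theorem F50753 : act 1 n12897 = n11869 := d14_1 D12897 (iv D11869) D11867
theorem F50754 : act 2 n12897 = n11910 := d20_1 D12897 (iv D11910) (iv F46665)
theorem F50755 : act 3 n12897 = n12891 := d25_1 D12897 (iv D12891) (iv F46666)
theorem F50756 : act 6 n12897 = n12264 := d34_1 D12897 (iv D12264) (iv F46667)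
def n12898 : Q := act 3 n11868
theorem D12898 : act 3 n11868 = n12898 := rfl
theorem F50757 : act 2 n12898 = n11878 := d15_1 D12898 (iv D11878) F40664 (iv F40649) (iv F46668)
def n12899 : Q := act 5 n11868
theorem D12899 : act 5 n11868 = n12899 := rfl
theorem F50758 : act 2 n12899 = n11870 := d17_1 D12899 (iv D11870) (iv F46668)
def n12900 : Q := act 8 n11868
theorem D12900 : act 8 n11868 = n12900 := rfl
theorem F50759 : act 2 n12900 = n11871 := d20_1 D12900 (iv D11871) (iv F46668)
theorem F50760 : act 4 n12900 = n11869 := d29_1 D12900 (iv D11869) D11868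
def n12901 : Q := act 7 n11869
theorem D12901 : act 7 n11869 = n12901 := rfl
theorem F50761 : act 2 n12901 = n11872 := d19_1 D12901 (iv D11872) (iv F46669)
def n12902 : Q := act 6 n11870
theorem D12902 : act 6 n11870 = n12902 := rfl
theorem F50762 : act 1 n12902 = n11914 := d12_1 D12902 (iv D11914) (iv F46670)
theorem F50763 : act 3 n12902 = n11882 := d23_1 D12902 (iv D11882) (iv F46671)
def n12903 : Q := act 8 n11870
theorem D12903 : act 8 n11870 = n12903 := rfl
theorem F50764 : act 1 n12903 = n11915 := d14_1 D12903 (iv D11915) (iv F46670)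
theorem F50765 : act 3 n12903 = n11883 := d25_1 D12903 (iv D11883) (iv F46671)
theorem F50766 : act 5 n12903 = n11871 := d32_1 D12903 (iv D11871) D11870
def n12904 : Q := act 7 n11871
theorem D12904 : act 7 n11871 = n12904 := rfl
theorem F50767 : act 1 n12904 = n11916 := d13_1 D12904 (iv D11916) (iv F46672)
theorem F50768 : act 4 n12904 = n11872 := d28_1 D12904 (iv D11872) (iv F46674)
def n12905 : Q := act 3 n11873
theorem D12905 : act 3 n11873 = n12905 := rfl
theorem F50769 : act 1 n12905 = n11987 := d9_1 D12905 (iv D11987) (iv F46676)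
theorem F50770 : act 6 n12905 = n11878 := d23_2 (iv F46678) D12905 (iv D11878)
def n12906 : Q := act 5 n11873
theorem D12906 : act 5 n11873 = n12906 := rfl
theorem F50771 : act 1 n12906 = n11988 := d11_1 D12906 (iv D11988) (iv F46676)
theorem F50772 : act 2 n12906 = n11875 := d17_1 D12906 (iv D11875) (iv F46677)
theorem F50773 : act 4 n12906 = n12906 := d26_1 D12906 (iv D12906) (iv D11873) F40653 D11873
theorem F50774 : act 7 n12906 = n12123 := d31_2 (iv F46679) D12906 (iv D12123)
def n12907 : Q := act 8 n11873
theorem D12907 : act 8 n11873 = n12907 := rfl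
theorem F50775 : act 1 n12907 = n11989 := d14_1 D12907 (iv D11989) (iv F46676)
theorem F50776 : act 2 n12907 = n11876 := d20_1 D12907 (iv D11876) (iv F46677)
theorem F50777 : act 4 n12907 = n11874 := d29_1 D12907 (iv D11874) D11873
theorem F50778 : act 6 n12907 = n11880 := d34_1 D12907 (iv D11880) (iv F46678)
def n12908 : Q := act 7 n11874
theorem D12908 : act 7 n11874 = n12908 := rfl
theorem F50779 : act 0 n12908 = n12116 := d6_1 D12908 (iv F50174) F50169
theorem F50780 : act 1 n12908 = n11990 := d13_1 D12908 (iv D11990) (iv F46680)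
theorem F50781 : act 2 n12908 = n11877 := d19_1 D12908 (iv D11877) (iv F46681)
theorem F50782 : act 5 n12908 = n12908 := d31_1 D12908 (iv D12908) F46682
theorem F50783 : act 6 n12908 = n11881 := d33_1 D12908 (iv D11881) (iv F46683)
theorem F50784 : act 8 n12908 = n12060 := d35_2 D11874 D12908 F47378 F44774 (iv F40655)
def n12909 : Q := act 6 n11875
theorem D12909 : act 6 n11875 = n12909 := rfl
theorem F50785 : act 1 n12909 = n11917 := d12_1 D12909 (iv D11917) (iv F46684)
theorem F50786 : act 4 n12909 = n12909 := d27_1 D12909 (iv D12909) F46685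
theorem F50787 : act 5 n12909 = n11882 := d30_1 D12909 (iv D11882) (iv D10420) (iv F40657) D11875
theorem F50788 : act 7 n12909 = n12124 := d33_2 (iv F46686) D12909 (iv D12124)
def n12910 : Q := act 8 n11875
theorem D12910 : act 8 n11875 = n12910 := rfl
theorem F50789 : act 1 n12910 = n11918 := d14_1 D12910 (iv D11918) (iv F46684)
theorem F50790 : act 4 n12910 = n12910 := d29_1 D12910 (iv D12910) F46685
theorem F50791 : act 5 n12910 = n11876 := d32_1 D12910 (iv D11876) D11875
def n12911 : Q := act 7 n11876
theorem D12911 : act 7 n11876 = n12911 := rfl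
theorem F50792 : act 0 n12911 = n12118 := d6_1 D12911 (iv F50183) F50179
theorem F50793 : act 1 n12911 = n11919 := d13_1 D12911 (iv D11919) (iv F46687)
theorem F50794 : act 4 n12911 = n11877 := d28_1 D12911 (iv D11877) (iv F46688)
theorem F50795 : act 6 n12911 = n11884 := d33_1 D12911 (iv D11884) (iv F46689)
theorem F50796 : act 8 n12911 = n12061 := d35_2 D11876 D12911 F47382 F44704 (iv F40658)
def n12912 : Q := act 5 n11878
theorem D12912 : act 5 n11878 = n12912 := rfl
theorem F50797 : act 1 n12912 = n11994 := d11_1 D12912 (iv D11994) (iv F46696)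
theorem F50798 : act 3 n12912 = n11879 := d22_1 D12912 (iv D11879) D11878
def n12913 : Q := act 7 n11878
theorem D12913 : act 7 n11878 = n12913 := rfl
theorem F50799 : act 1 n12913 = n11995 := d13_1 D12913 (iv D11995) (iv F46696)
theorem F50800 : act 3 n12913 = n12126 := d24_1 D12913 (iv D12126) (iv D11014) (iv F40665) D11878
def n12914 : Q := act 8 n11878
theorem D12914 : act 8 n11878 = n12914 := rfl
theorem F50801 : act 1 n12914 = n11996 := d14_1 D12914 (iv D11996) (iv F46696)
theorem F50802 : act 3 n12914 = n11880 := d25_1 D12914 (iv D11880) D11878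
def n12915 : Q := act 6 n11879
theorem D12915 : act 6 n11879 = n12915 := rfl
theorem F50803 : act 1 n12915 = n11997 := d12_1 D12915 (iv D11997) (iv F46697)
theorem F50804 : act 2 n12915 = n11882 := d18_1 D12915 (iv D11882) (iv F46698)
theorem F50805 : act 4 n12915 = n11888 := d27_1 D12915 (iv D11888) (iv F46699)
theorem F50806 : act 7 n12915 = n12128 := d33_2 (iv F46700) D12915 (iv D12128)
def n12916 : Q := act 8 n11879
theorem D12916 : act 8 n11879 = n12916 := rfl
theorem F50807 : act 1 n12916 = n11998 := d14_1 D12916 (iv D11998) (iv F46697)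
theorem F50808 : act 2 n12916 = n11883 := d20_1 D12916 (iv D11883) (iv F46698)
theorem F50809 : act 4 n12916 = n11889 := d29_1 D12916 (iv D11889) (iv F46699)
theorem F50810 : act 5 n12916 = n11880 := d32_1 D12916 (iv D11880) D11879
def n12917 : Q := act 7 n11880
theorem D12917 : act 7 n11880 = n12917 := rfl
theorem F50811 : act 1 n12917 = n11999 := d13_1 D12917 (iv D11999) (iv F46701)
theorem F50812 : act 2 n12917 = n11884 := d19_1 D12917 (iv D11884) (iv F46702)
theorem F50813 : act 4 n12917 = n11881 := d28_1 D12917 (iv D11881) (iv F46703)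
theorem F50814 : act 8 n12917 = n12130 := d35_2 D11880 D12917 (iv D12130) (iv D11016) (iv F40665)
def n12918 : Q := act 3 n11881
theorem D12918 : act 3 n11881 = n12918 := rfl
theorem F50815 : act 1 n12918 = n12000 := d9_1 D12918 (iv D12000) (iv F46704)
theorem F50816 : act 5 n12918 = n11891 := d22_2 (iv F46706) D12918 (iv D11891)
theorem F50817 : act 8 n12918 = n12131 := d25_2 (iv F46707) D12918 (iv D12131)
def n12919 : Q := act 8 n11882
theorem D12919 : act 8 n11882 = n12919 := rfl
theorem F50818 : act 1 n12919 = n11920 := d14_1 D12919 (iv D11920) (iv F46708)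
theorem F50819 : act 4 n12919 = n11892 := d29_1 D12919 (iv D11892) (iv F46709)
theorem F50820 : act 6 n12919 = n11883 := d34_1 D12919 (iv D11883) D11882
def n12920 : Q := act 7 n11883
theorem D12920 : act 7 n11883 = n12920 := rfl
theorem F50821 : act 1 n12920 = n11921 := d13_1 D12920 (iv D11921) (iv F46711)
theorem F50822 : act 4 n12920 = n11893 := d28_1 D12920 (iv D11893) (iv F46712)
theorem F50823 : act 5 n12920 = n11884 := d31_1 D12920 (iv D11884) (iv F46713)
theorem F50824 : act 8 n12920 = n12133 := d35_2 D11883 D12920 (iv D12133) (iv D11019) (iv F40671)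
def n12921 : Q := act 3 n11884
theorem D12921 : act 3 n11884 = n12921 := rfl
theorem F50825 : act 1 n12921 = n11922 := d9_1 D12921 (iv D11922) (iv F46714)
theorem F50826 : act 8 n12921 = n12134 := d25_2 (iv F46716) D12921 (iv D12134)
def n12922 : Q := act 4 n11885
theorem D12922 : act 4 n11885 = n12922 := rfl
theorem F50827 : act 1 n12922 = n12004 := d10_1 D12922 (iv D12004) (iv F46717)
def n12923 : Q := act 6 n11885
theorem D12923 : act 6 n11885 = n12923 := rfl
theorem F50828 : act 1 n12923 = n12005 := d12_1 D12923 (iv D12005) (iv F46717)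
theorem F50829 : act 3 n12923 = n11888 := d23_1 D12923 (iv D11888) (iv F46718)
theorem F50830 : act 5 n12923 = n12923 := d30_1 D12923 (iv D12923) (iv D11885) F40678 D11885
def n12924 : Q := act 7 n11885
theorem D12924 : act 7 n11885 = n12924 := rfl
theorem F50831 : act 1 n12924 = n12006 := d13_1 D12924 (iv D12006) (iv F46717)
theorem F50832 : act 3 n12924 = n12137 := d24_1 D12924 (iv D12137) F42830 (iv F40681) (iv F46718)
theorem F50833 : act 5 n12924 = n11886 := d31_1 D12924 (iv D11886) D11885
def n12925 : Q := act 8 n11885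
theorem D12925 : act 8 n11885 = n12925 := rfl
theorem F50834 : act 1 n12925 = n12007 := d14_1 D12925 (iv D12007) (iv F46717)
theorem F50835 : act 3 n12925 = n11889 := d25_1 D12925 (iv D11889) (iv F46718)
theorem F50836 : act 5 n12925 = n11887 := d32_1 D12925 (iv D11887) D11885
def n12926 : Q := act 8 n11886
theorem D12926 : act 8 n11886 = n12926 := rfl
theorem F50837 : act 0 n12926 = n12845 := d7_1 D12926 (iv F50581) F50217
theorem F50838 : act 1 n12926 = n12008 := d14_1 D12926 (iv D12008) (iv F46719)
theorem F50839 : act 3 n12926 = n12139 := d25_1 D12926 (iv D12139) (iv F46720)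
theorem F50840 : act 6 n12926 = n12926 := d34_1 D12926 (iv D12926) F46721
theorem F50841 : act 7 n12679 = n12926 := d24_0 F50839 (iv F47686) (iv D12051) (iv F45966) D12679
def n12927 : Q := act 7 n11887
theorem D12927 : act 7 n11887 = n12927 := rfl
theorem F50842 : act 0 n12927 = n12846 := d6_1 D12927 F50587 F50221
theorem F50843 : act 1 n12927 = n12009 := d13_1 D12927 (iv D12009) (iv F46722)
theorem F50844 : act 6 n12927 = n12927 := d33_1 D12927 (iv D12927) F46724
theorem F50845 : act 8 n12927 = n12679 := d35_2 D11887 D12927 F50841 (iv D12926) (iv D11886)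
theorem F50846 : act 3 n12681 = n12927 := d25_3 F50845 (iv D12679) D12681
def n12928 : Q := act 8 n11888
theorem D12928 : act 8 n11888 = n12928 := rfl
theorem F50847 : act 1 n12928 = n12010 := d14_1 D12928 (iv D12010) (iv F46725)
theorem F50848 : act 2 n12928 = n11892 := d20_1 D12928 (iv D11892) (iv F46726)
theorem F50849 : act 5 n12928 = n12928 := d32_1 D12928 (iv D12928) F46727
theorem F50850 : act 6 n12928 = n11889 := d34_1 D12928 (iv D11889) D11888
def n12929 : Q := act 7 n11889
theorem D12929 : act 7 n11889 = n12929 := rfl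
theorem F50851 : act 1 n12929 = n12011 := d13_1 D12929 (iv D12011) (iv F46729)
theorem F50852 : act 2 n12929 = n11893 := d19_1 D12929 (iv D11893) (iv F46730)
theorem F50853 : act 5 n12929 = n11890 := d31_1 D12929 (iv D11890) (iv F46731)
theorem F50854 : act 8 n12929 = n12142 := d35_2 D11889 D12929 (iv D12142) (iv D11025) (iv F40681)
def n12930 : Q := act 3 n11890
theorem D12930 : act 3 n11890 = n12930 := rfl
theorem F50855 : act 0 n12930 = n12849 := d2_1 D12930 F50597 F50234
theorem F50856 : act 1 n12930 = n12012 := d9_1 D12930 (iv D12012) (iv F46732)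
theorem F50857 : act 6 n12930 = n12930 := d23_2 F46735 D12930 (iv D12930)
theorem F50858 : act 7 n12930 = n12681 := d24_2 D11890 D12930 F50846 (iv D12927) F46723
theorem F50859 : act 8 n12930 = n12143 := d25_2 (iv F46736) D12930 (iv D12143)
theorem F50860 : act 2 n12684 = n12930 := d20_3 F50859 F47705 (iv F49980)
theorem F50861 : act 4 n12682 = n12930 := d29_3 F50859 (iv F47706) (iv F49971)
def n12931 : Q := act 4 n11891
theorem D12931 : act 4 n11891 = n12931 := rfl
theorem F50862 : act 0 n12931 = n12850 := d3_1 D12931 F50603 F50240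
theorem F50863 : act 1 n12931 = n12013 := d10_1 D12931 (iv D12013) (iv F46737)
theorem F50864 : act 2 n12931 = n12750 := d16_1 D12931 (iv F50603) F50602
theorem F50865 : act 3 n12931 = n12682 := d21_1 D12931 F50861 (iv D12930) F46734 D11891
theorem F50866 : act 6 n12931 = n12931 := d27_2 F46738 D12931 (iv D12931)
theorem F50867 : act 8 n12931 = n12144 := d29_2 (iv F46739) D12931 (iv D12144)
def n12932 : Q := act 7 n11892
theorem D12932 : act 7 n11892 = n12932 := rfl
theorem F50868 : act 1 n12932 = n11923 := d13_1 D12932 (iv D11923) (iv F46740)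
theorem F50869 : act 5 n12932 = n12932 := d31_1 D12932 (iv D12932) F46741
theorem F50870 : act 6 n12932 = n11893 := d33_1 D12932 (iv D11893) (iv F46742)
theorem F50871 : act 8 n12932 = n12145 := d35_2 D11892 D12932 (iv D12145) (iv D11028) (iv F40692)
def n12933 : Q := act 3 n11893
theorem D12933 : act 3 n11893 = n12933 := rfl
theorem F50872 : act 1 n12933 = n11924 := d9_1 D12933 (iv D11924) (iv F46743)
theorem F50873 : act 5 n12933 = n11894 := d22_2 (iv F46744) D12933 (iv D11894)
theorem F50874 : act 8 n12933 = n12146 := d25_2 (iv F46745) D12933 (iv D12146)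
def n12934 : Q := act 2 n11894
theorem D12934 : act 2 n11894 = n12934 := rfl
theorem F50875 : act 0 n12934 = n12853 := d1_1 D12934 F50615 F50252
theorem F50876 : act 3 n12934 = n12684 := d15_2 D11894 D12934 F50860 (iv D12930) F46733
theorem F50877 : act 4 n12934 = n12753 := d16_2 F50616 D12934 (iv F50615)
theorem F50878 : act 6 n12934 = n12934 := d18_2 F46747 D12934 (iv D12934)
theorem F50879 : act 8 n12934 = n12147 := d20_2 (iv F46748) D12934 (iv D12147)
theorem F50880 : act 1 n12693 = n12934 := d14_3 F50879 (iv F47725) (iv F50017)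
def n12935 : Q := act 5 n11897
theorem D12935 : act 5 n11897 = n12935 := rfl
theorem F50881 : act 0 n12935 = n11927 := d4_1 D12935 (iv D11927) (iv F46756)
theorem F50882 : act 2 n12935 = n12285 := d17_1 D12935 (iv D12285) (iv F46757)
theorem F50883 : act 3 n12935 = n12087 := d22_1 D12935 F47501 (iv F46758)
theorem F50884 : act 7 n12935 = n11905 := d31_2 (iv F46760) D12935 (iv D11905)
def n12936 : Q := act 7 n11898
theorem D12936 : act 7 n11898 = n12936 := rfl
theorem F50885 : act 0 n12936 = n11928 := d6_1 D12936 (iv D11928) (iv F46761)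
theorem F50886 : act 2 n12936 = n12287 := d19_1 D12936 (iv D12287) (iv F46762)
theorem F50887 : act 6 n12936 = n11904 := d33_1 D12936 (iv D11904) (iv F46764)
theorem F50888 : act 8 n12936 = n11907 := d35_2 D11898 D12936 (iv D11907) (iv D10438) (iv F40709)
def n12937 : Q := act 0 n11899
theorem D12937 : act 0 n11899 = n12937 := rfl
theorem F50889 : act 1 n12937 = n11929 := d0_2 D11899 D12937 (iv D11929) (iv D10460) (iv F40714)
theorem F50890 : act 3 n12937 = n11974 := d2_2 (iv F46765) D12937 (iv D11974)
theorem F50891 : act 6 n12937 = n12210 := d5_2 (iv F46766) D12937 F48009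
theorem F50892 : act 7 n12937 = n11908 := d6_2 (iv F46767) D12937 (iv D11908)
def n12938 : Q := act 4 n11899
theorem D12938 : act 4 n11899 = n12938 := rfl
theorem F50893 : act 1 n12938 = n11900 := d10_1 D12938 (iv D11900) D11899
theorem F50894 : act 3 n12938 = n12938 := d21_1 D12938 (iv D12938) F46765 F40954 (iv F46765)
theorem F50895 : act 6 n12938 = n12261 := d27_2 (iv F46766) D12938 (iv D12261)
theorem F50896 : act 7 n12938 = n11909 := d28_2 (iv F46767) D12938 (iv D11909)
def n12939 : Q := act 8 n11899
theorem D12939 : act 8 n11899 = n12939 := rfl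
theorem F50897 : act 1 n12939 = n11901 := d14_1 D12939 (iv D11901) D11899
theorem F50898 : act 3 n12939 = n11975 := d25_1 D12939 (iv D11975) (iv F46765)
theorem F50899 : act 6 n12939 = n12262 := d34_1 D12939 (iv D12262) (iv F46766)
def n12940 : Q := act 5 n11900
theorem D12940 : act 5 n11900 = n12940 := rfl
theorem F50900 : act 0 n12940 = n11932 := d4_1 D12940 (iv D11932) (iv F46768)
theorem F50901 : act 2 n12940 = n11902 := d17_1 D12940 (iv D11902) (iv F46769)
theorem F50902 : act 3 n12940 = n12940 := d22_1 D12940 (iv D12940) F46770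
theorem F50903 : act 7 n12940 = n11911 := d31_2 (iv F46772) D12940 (iv D11911)
def n12941 : Q := act 8 n11900
theorem D12941 : act 8 n11900 = n12941 := rfl
theorem F50904 : act 0 n12941 = n11933 := d7_1 D12941 (iv D11933) (iv F46768)
theorem F50905 : act 2 n12941 = n11903 := d20_1 D12941 (iv D11903) (iv F46769)
theorem F50906 : act 3 n12941 = n12941 := d25_1 D12941 (iv D12941) F46770
theorem F50907 : act 4 n12941 = n11901 := d29_1 D12941 (iv D11901) D11900
theorem F50908 : act 6 n12941 = n12286 := d34_1 D12941 (iv D12286) (iv F46771)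
def n12942 : Q := act 7 n11901
theorem D12942 : act 7 n11901 = n12942 := rfl
theorem F50909 : act 0 n12942 = n11934 := d6_1 D12942 (iv D11934) (iv F46773)
theorem F50910 : act 2 n12942 = n11904 := d19_1 D12942 (iv D11904) (iv F46774)
theorem F50911 : act 6 n12942 = n12287 := d33_1 D12942 (iv D12287) (iv F46776)
theorem F50912 : act 8 n12942 = n11913 := d35_2 D11901 D12942 (iv D11913) (iv D10441) (iv F40717)
def n12943 : Q := act 6 n11902
theorem D12943 : act 6 n11902 = n12943 := rfl
theorem F50913 : act 0 n12943 = n11935 := d5_1 D12943 (iv D11935) (iv F46777)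
theorem F50914 : act 3 n12943 = n12148 := d23_1 D12943 (iv D12148) (iv F46778)
theorem F50915 : act 7 n12943 = n11914 := d33_2 (iv F46779) D12943 (iv D11914)
def n12944 : Q := act 8 n11902
theorem D12944 : act 8 n11902 = n12944 := rfl
theorem F50916 : act 0 n12944 = n11936 := d7_1 D12944 (iv D11936) (iv F46777)
theorem F50917 : act 3 n12944 = n12149 := d25_1 D12944 (iv D12149) (iv F46778)
theorem F50918 : act 5 n12944 = n11903 := d32_1 D12944 (iv D11903) D11902
def n12945 : Q := act 7 n11903
theorem D12945 : act 7 n11903 = n12945 := rfl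
theorem F50919 : act 0 n12945 = n11937 := d6_1 D12945 (iv D11937) (iv F46780)
theorem F50920 : act 4 n12945 = n11904 := d28_1 D12945 (iv D11904) (iv F46782)
theorem F50921 : act 8 n12945 = n11916 := d35_2 D11903 D12945 (iv D11916) (iv D10443) (iv F40720)
def n12946 : Q := act 6 n11905
theorem D12946 : act 6 n11905 = n12946 := rfl
theorem F50922 : act 0 n12946 = n11938 := d5_1 D12946 (iv D11938) (iv F46785)
theorem F50923 : act 2 n12946 = n12288 := d18_1 D12946 (iv D12288) (iv F46786)
theorem F50924 : act 3 n12946 = n11917 := d23_1 D12946 (iv D11917) (iv F46787)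
theorem F50925 : act 5 n12946 = n11914 := d30_1 D12946 (iv D11914) (iv D10442) (iv F40726) D11905
def n12947 : Q := act 8 n11905
theorem D12947 : act 8 n11905 = n12947 := rfl
theorem F50926 : act 0 n12947 = n11939 := d7_1 D12947 (iv D11939) (iv F46785)
theorem F50927 : act 2 n12947 = n12289 := d20_1 D12947 (iv D12289) (iv F46786)
theorem F50928 : act 3 n12947 = n11918 := d25_1 D12947 (iv D11918) (iv F46787)
theorem F50929 : act 5 n12947 = n11906 := d32_1 D12947 (iv D11906) D11905
def n12948 : Q := act 7 n11906
theorem D12948 : act 7 n11906 = n12948 := rfl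
theorem F50930 : act 0 n12948 = n11940 := d6_1 D12948 (iv D11940) (iv F46788)
theorem F50931 : act 2 n12948 = n12290 := d19_1 D12948 (iv D12290) (iv F46789)
theorem F50932 : act 4 n12948 = n11907 := d28_1 D12948 (iv D11907) (iv F46791)
theorem F50933 : act 6 n12948 = n11916 := d33_1 D12948 (iv D11916) (iv F46792)
def n12949 : Q := act 4 n11908
theorem D12949 : act 4 n11908 = n12949 := rfl
theorem F50934 : act 0 n12949 = n11909 := d3_1 D12949 (iv D11909) D11908
theorem F50935 : act 1 n12949 = n11941 := d10_1 D12949 (iv D11941) (iv F46796)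
theorem F50936 : act 3 n12949 = n12017 := d21_1 D12949 (iv D12017) F41094 (iv F40785) (iv F46797)
theorem F50937 : act 6 n12949 = n12213 := d27_2 (iv F46798) D12949 (iv D12213)
def n12950 : Q := act 8 n11908
theorem D12950 : act 8 n11908 = n12950 := rfl
theorem F50938 : act 0 n12950 = n11910 := d7_1 D12950 (iv D11910) D11908
theorem F50939 : act 1 n12950 = n11942 := d14_1 D12950 (iv D11942) (iv F46796)
theorem F50940 : act 3 n12950 = n11926 := d25_1 D12950 (iv D11926) (iv F46797)
theorem F50941 : act 6 n12950 = n12214 := d34_1 D12950 (iv D12214) (iv F46798)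
def n12951 : Q := act 5 n11909
theorem D12951 : act 5 n11909 = n12951 := rfl
theorem F50942 : act 1 n12951 = n11911 := d11_1 D12951 (iv D11911) (iv F46799)
theorem F50943 : act 3 n12951 = n12019 := d22_1 D12951 (iv D12019) (iv F46800)
def n12952 : Q := act 8 n11909
theorem D12952 : act 8 n11909 = n12952 := rfl
theorem F50944 : act 1 n12952 = n11912 := d14_1 D12952 (iv D11912) (iv F46799)
theorem F50945 : act 3 n12952 = n12020 := d25_1 D12952 (iv D12020) (iv F46800)
theorem F50946 : act 4 n12952 = n11910 := d29_1 D12952 (iv D11910) D11909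
theorem F50947 : act 6 n12952 = n12266 := d34_1 D12952 (iv D12266) (iv F46801)
def n12953 : Q := act 7 n11910
theorem D12953 : act 7 n11910 = n12953 := rfl
theorem F50948 : act 1 n12953 = n11913 := d13_1 D12953 (iv D11913) (iv F46802)
theorem F50949 : act 6 n12953 = n12267 := d33_1 D12953 (iv D12267) (iv F46804)
def n12954 : Q := act 6 n11911
theorem D12954 : act 6 n11911 = n12954 := rfl
theorem F50950 : act 0 n12954 = n11946 := d5_1 D12954 (iv D11946) (iv F46805)
theorem F50951 : act 2 n12954 = n11914 := d18_1 D12954 (iv D11914) (iv F46806)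
theorem F50952 : act 3 n12954 = n12022 := d23_1 D12954 (iv D12022) (iv F46807)
theorem F50953 : act 5 n12954 = n12288 := d30_1 D12954 (iv D12288) (iv D11304) (iv F40736) D11911
def n12955 : Q := act 8 n11911
theorem D12955 : act 8 n11911 = n12955 := rfl
theorem F50954 : act 0 n12955 = n11947 := d7_1 D12955 (iv D11947) (iv F46805)
theorem F50955 : act 2 n12955 = n11915 := d20_1 D12955 (iv D11915) (iv F46806)
theorem F50956 : act 3 n12955 = n12023 := d25_1 D12955 (iv D12023) (iv F46807)
theorem F50957 : act 5 n12955 = n11912 := d32_1 D12955 (iv D11912) D11911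
def n12956 : Q := act 7 n11912
theorem D12956 : act 7 n11912 = n12956 := rfl
theorem F50958 : act 0 n12956 = n11948 := d6_1 D12956 (iv D11948) (iv F46808)
theorem F50959 : act 2 n12956 = n11916 := d19_1 D12956 (iv D11916) (iv F46809)
theorem F50960 : act 4 n12956 = n11913 := d28_1 D12956 (iv D11913) (iv F46811)
theorem F50961 : act 6 n12956 = n12290 := d33_1 D12956 (iv D12290) (iv F46812)
def n12957 : Q := act 8 n11914
theorem D12957 : act 8 n11914 = n12957 := rfl
theorem F50962 : act 0 n12957 = n11949 := d7_1 D12957 (iv D11949) (iv F46816)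
theorem F50963 : act 3 n12957 = n11920 := d25_1 D12957 (iv D11920) (iv F46817)
theorem F50964 : act 6 n12957 = n11915 := d34_1 D12957 (iv D11915) D11914
def n12958 : Q := act 7 n11915
theorem D12958 : act 7 n11915 = n12958 := rfl
theorem F50965 : act 0 n12958 = n11950 := d6_1 D12958 (iv D11950) (iv F46818)
theorem F50966 : act 5 n12958 = n11916 := d31_1 D12958 (iv D11916) (iv F46820)
def n12959 : Q := act 3 n11916
theorem D12959 : act 3 n11916 = n12959 := rfl
theorem F50967 : act 0 n12959 = n11951 := d2_1 D12959 (iv D11951) (iv F46821)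
theorem F50968 : act 7 n12959 = n11922 := d24_2 D11916 D12959 (iv D11922) (iv D10450) (iv F40744)
def n12960 : Q := act 8 n11917
theorem D12960 : act 8 n11917 = n12960 := rfl
theorem F50969 : act 0 n12960 = n11952 := d7_1 D12960 (iv D11952) (iv F46823)
theorem F50970 : act 2 n12960 = n12028 := d20_1 D12960 (iv D12028) (iv F46824)
theorem F50971 : act 4 n12960 = n12960 := d29_1 D12960 (iv D12960) F46825
theorem F50972 : act 5 n12960 = n11920 := d32_1 D12960 (iv D11920) (iv F46826)
theorem F50973 : act 6 n12960 = n11918 := d34_1 D12960 (iv D11918) D11917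
def n12961 : Q := act 7 n11918
theorem D12961 : act 7 n11918 = n12961 := rfl
theorem F50974 : act 0 n12961 = n11953 := d6_1 D12961 (iv D11953) (iv F46828)
theorem F50975 : act 2 n12961 = n12029 := d19_1 D12961 (iv D12029) (iv F46829)
theorem F50976 : act 4 n12961 = n12961 := d28_1 D12961 (iv D12961) F46830
theorem F50977 : act 5 n12961 = n11919 := d31_1 D12961 (iv D11919) (iv F46831)
theorem F50978 : act 8 n12961 = n12083 := d35_2 D11918 D12961 F47479 F44676 (iv F40750)
def n12962 : Q := act 7 n11920
theorem D12962 : act 7 n11920 = n12962 := rfl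
theorem F50979 : act 0 n12962 = n11954 := d6_1 D12962 (iv D11954) (iv F46837)
theorem F50980 : act 2 n12962 = n12031 := d19_1 D12962 (iv D12031) (iv F46838)
theorem F50981 : act 4 n12962 = n11923 := d28_1 D12962 (iv D11923) (iv F46839)
theorem F50982 : act 6 n12962 = n11921 := d33_1 D12962 (iv D11921) (iv F46840)
theorem F50983 : act 8 n12962 = n12150 := d35_2 D11920 D12962 (iv D12150) (iv D11050) (iv F40763)
def n12963 : Q := act 3 n11921
theorem D12963 : act 3 n11921 = n12963 := rfl
theorem F50984 : act 0 n12963 = n11955 := d2_1 D12963 (iv D11955) (iv F46841)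
theorem F50985 : act 5 n12963 = n11922 := d22_2 (iv F46844) D12963 (iv D11922)
theorem F50986 : act 8 n12963 = n12151 := d25_2 (iv F46845) D12963 (iv D12151)
def n12964 : Q := act 2 n11922
theorem D12964 : act 2 n11922 = n12964 := rfl
theorem F50987 : act 0 n12964 = n11956 := d1_1 D12964 (iv D11956) (iv F46846)
theorem F50988 : act 3 n12964 = n12033 := d15_2 D11922 D12964 (iv D12033) (iv D10554) (iv F40769)
theorem F50989 : act 8 n12964 = n12152 := d20_2 (iv F46847) D12964 (iv D12152)
def n12965 : Q := act 1 n11925
theorem D12965 : act 1 n11925 = n12965 := rfl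
theorem F50990 : act 0 n12965 = n12658 := d0_1 D12965 F49830 F45891 (iv F45178) (iv F46856)
theorem F50991 : act 2 n12965 = n12693 := d8_2 D11925 D12965 F50880 (iv D12934) F46746
theorem F50992 : act 3 n12965 = n12034 := d9_2 (iv F46857) D12965 (iv D12034)
theorem F50993 : act 4 n12965 = n12788 := d10_2 F50668 D12965 (iv F50666)
theorem F50994 : act 5 n12965 = n12654 := d11_2 F48542 D12965 F49812
theorem F50995 : act 6 n12965 = n12965 := d12_2 F46858 D12965 (iv D12965)
theorem F50996 : act 8 n12965 = n12153 := d14_2 (iv F46859) D12965 (iv D12153)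
def n12966 : Q := act 4 n11929
theorem D12966 : act 4 n11929 = n12966 := rfl
theorem F50997 : act 0 n12966 = n11930 := d3_1 D12966 (iv D11930) D11929
theorem F50998 : act 3 n12966 = n12966 := d21_1 D12966 (iv D12966) F46872 F40966 (iv F46872)
theorem F50999 : act 6 n12966 = n12228 := d27_2 (iv F46873) D12966 (iv D12228)
theorem F51000 : act 7 n12966 = n11941 := d28_2 (iv F46874) D12966 (iv D11941)
def n12967 : Q := act 8 n11929
theorem D12967 : act 8 n11929 = n12967 := rfl
theorem F51001 : act 0 n12967 = n11931 := d7_1 D12967 (iv D11931) D11929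
theorem F51002 : act 3 n12967 = n11976 := d25_1 D12967 (iv D11976) (iv F46872)
theorem F51003 : act 6 n12967 = n12229 := d34_1 D12967 (iv D12229) (iv F46873)
def n12968 : Q := act 8 n11930
theorem D12968 : act 8 n11930 = n12968 := rfl
theorem F51004 : act 1 n12968 = n11933 := d14_1 D12968 (iv D11933) (iv F46875)
theorem F51005 : act 3 n12968 = n12968 := d25_1 D12968 (iv D12968) F46876
theorem F51006 : act 4 n12968 = n11931 := d29_1 D12968 (iv D11931) D11930
theorem F51007 : act 6 n12968 = n12245 := d34_1 D12968 (iv D12245) (iv F46877)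
def n12969 : Q := act 7 n11931
theorem D12969 : act 7 n11931 = n12969 := rfl
theorem F51008 : act 1 n12969 = n11934 := d13_1 D12969 (iv D11934) (iv F46879)
theorem F51009 : act 6 n12969 = n12246 := d33_1 D12969 (iv D12246) (iv F46881)
theorem F51010 : act 8 n12969 = n11945 := d35_2 D11931 D12969 (iv D11945) (iv D10471) (iv F40806)
def n12970 : Q := act 8 n11932
theorem D12970 : act 8 n11932 = n12970 := rfl
theorem F51011 : act 2 n12970 = n11936 := d20_1 D12970 (iv D11936) (iv F46882)
theorem F51012 : act 3 n12970 = n12970 := d25_1 D12970 (iv D12970) F46883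
theorem F51013 : act 5 n12970 = n11933 := d32_1 D12970 (iv D11933) D11932
def n12971 : Q := act 7 n11933
theorem D12971 : act 7 n11933 = n12971 := rfl
theorem F51014 : act 2 n12971 = n11937 := d19_1 D12971 (iv D11937) (iv F46885)
theorem F51015 : act 4 n12971 = n11934 := d28_1 D12971 (iv D11934) (iv F46887)
theorem F51016 : act 6 n12971 = n12298 := d33_1 D12971 (iv D12298) (iv F46888)
theorem F51017 : act 8 n12971 = n11948 := d35_2 D11933 D12971 (iv D11948) (iv D10473) (iv F40810)
def n12972 : Q := act 8 n11935
theorem D12972 : act 8 n11935 = n12972 := rfl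
theorem F51018 : act 3 n12972 = n12154 := d25_1 D12972 (iv D12154) (iv F46892)
theorem F51019 : act 6 n12972 = n11936 := d34_1 D12972 (iv D11936) D11935
def n12973 : Q := act 7 n11936
theorem D12973 : act 7 n11936 = n12973 := rfl
theorem F51020 : act 5 n12973 = n11937 := d31_1 D12973 (iv D11937) (iv F46895)
theorem F51021 : act 8 n12973 = n11950 := d35_2 D11936 D12973 (iv D11950) (iv D10476) (iv F40815)
def n12974 : Q := act 8 n11938
theorem D12974 : act 8 n11938 = n12974 := rfl
theorem F51022 : act 2 n12974 = n12299 := d20_1 D12974 (iv D12299) (iv F46898)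
theorem F51023 : act 3 n12974 = n11952 := d25_1 D12974 (iv D11952) (iv F46899)
theorem F51024 : act 5 n12974 = n11949 := d32_1 D12974 (iv D11949) (iv F46900)
theorem F51025 : act 6 n12974 = n11939 := d34_1 D12974 (iv D11939) D11938
def n12975 : Q := act 7 n11939
theorem D12975 : act 7 n11939 = n12975 := rfl
theorem F51026 : act 2 n12975 = n12300 := d19_1 D12975 (iv D12300) (iv F46901)
theorem F51027 : act 5 n12975 = n11940 := d31_1 D12975 (iv D11940) (iv F46903)
def n12976 : Q := act 5 n11941
theorem D12976 : act 5 n11941 = n12976 := rfl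
theorem F51028 : act 0 n12976 = n11943 := d4_1 D12976 (iv D11943) (iv F46907)
theorem F51029 : act 3 n12976 = n12035 := d22_1 D12976 (iv D12035) (iv F46908)
def n12977 : Q := act 8 n11941
theorem D12977 : act 8 n11941 = n12977 := rfl
theorem F51030 : act 0 n12977 = n11944 := d7_1 D12977 (iv D11944) (iv F46907)
theorem F51031 : act 3 n12977 = n12036 := d25_1 D12977 (iv D12036) (iv F46908)
theorem F51032 : act 4 n12977 = n11942 := d29_1 D12977 (iv D11942) D11941
theorem F51033 : act 6 n12977 = n12234 := d34_1 D12977 (iv D12234) (iv F46909)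
def n12978 : Q := act 7 n11942
theorem D12978 : act 7 n11942 = n12978 := rfl
theorem F51034 : act 0 n12978 = n11945 := d6_1 D12978 (iv D11945) (iv F46910)
theorem F51035 : act 6 n12978 = n12235 := d33_1 D12978 (iv D12235) (iv F46912)
def n12979 : Q := act 8 n11943
theorem D12979 : act 8 n11943 = n12979 := rfl
theorem F51036 : act 1 n12979 = n11947 := d14_1 D12979 (iv D11947) (iv F46913)
theorem F51037 : act 3 n12979 = n12039 := d25_1 D12979 (iv D12039) (iv F46914)
theorem F51038 : act 5 n12979 = n11944 := d32_1 D12979 (iv D11944) D11943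
def n12980 : Q := act 7 n11944
theorem D12980 : act 7 n11944 = n12980 := rfl
theorem F51039 : act 1 n12980 = n11948 := d13_1 D12980 (iv D11948) (iv F46915)
theorem F51040 : act 4 n12980 = n11945 := d28_1 D12980 (iv D11945) (iv F46917)
theorem F51041 : act 6 n12980 = n12250 := d33_1 D12980 (iv D12250) (iv F46918)
def n12981 : Q := act 8 n11946
theorem D12981 : act 8 n11946 = n12981 := rfl
theorem F51042 : act 2 n12981 = n11949 := d20_1 D12981 (iv D11949) (iv F46921)
theorem F51043 : act 3 n12981 = n12041 := d25_1 D12981 (iv D12041) (iv F46922)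
theorem F51044 : act 5 n12981 = n12299 := d32_1 D12981 (iv D12299) (iv F46923)
theorem F51045 : act 6 n12981 = n11947 := d34_1 D12981 (iv D11947) D11946
def n12982 : Q := act 7 n11947
theorem D12982 : act 7 n11947 = n12982 := rfl
theorem F51046 : act 2 n12982 = n11950 := d19_1 D12982 (iv D11950) (iv F46924)
theorem F51047 : act 5 n12982 = n11948 := d31_1 D12982 (iv D11948) (iv F46926)
def n12983 : Q := act 3 n11948
theorem D12983 : act 3 n11948 = n12983 := rfl
theorem F51048 : act 6 n12983 = n12301 := d23_2 (iv F46929) D12983 (iv D12301)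
theorem F51049 : act 7 n12983 = n12043 := d24_2 D11948 D12983 (iv D12043) (iv D10566) (iv F40838)
def n12984 : Q := act 7 n11949
theorem D12984 : act 7 n11949 = n12984 := rfl
theorem F51050 : act 6 n12984 = n11950 := d33_1 D12984 (iv D11950) (iv F46931)
def n12985 : Q := act 3 n11950
theorem D12985 : act 3 n11950 = n12985 := rfl
theorem F51051 : act 5 n12985 = n11951 := d22_2 (iv F46932) D12985 (iv D11951)
theorem F51052 : act 7 n12985 = n11955 := d24_2 D11950 D12985 (iv D11955) (iv D10482) (iv F40844)
def n12986 : Q := act 2 n11951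
theorem D12986 : act 2 n11951 = n12986 := rfl
theorem F51053 : act 7 n12986 = n11956 := d19_2 (iv F46933) D12986 (iv D11956)
def n12987 : Q := act 7 n11952
theorem D12987 : act 7 n11952 = n12987 := rfl
theorem F51054 : act 1 n12987 = n12154 := d13_1 D12987 (iv F50490) F50485
theorem F51055 : act 2 n12987 = n12047 := d19_1 D12987 (iv D12047) (iv F46934)
theorem F51056 : act 4 n12987 = n12987 := d28_1 D12987 (iv D12987) F46935
theorem F51057 : act 5 n12987 = n11954 := d31_1 D12987 (iv D11954) (iv F46936)
theorem F51058 : act 6 n12987 = n11953 := d33_1 D12987 (iv D11953) (iv F46937)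
theorem F51059 : act 8 n12987 = n12091 := d35_2 D11952 D12987 F47517 F44680 (iv F40850)
def n12988 : Q := act 3 n11957
theorem D12988 : act 3 n11957 = n12988 := rfl
theorem F51060 : act 0 n12988 = n12988 := d2_1 D12988 (iv D12988) F46951
theorem F51061 : act 6 n12988 = n11958 := d23_2 (iv F46954) D12988 (iv D11958)
theorem F51062 : act 7 n12988 = n12621 := d24_2 D11957 D12988 (iv D12621) (iv D11604) (iv F40881)
def n12989 : Q := act 8 n11957
theorem D12989 : act 8 n11957 = n12989 := rfl
theorem F51063 : act 0 n12989 = n12989 := d7_1 D12989 (iv D12989) F46951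
theorem F51064 : act 2 n12989 = n11960 := d20_1 D12989 (iv D11960) (iv F46952)
theorem F51065 : act 4 n12989 = n12156 := d29_1 D12989 (iv D12156) (iv F46953)
theorem F51066 : act 6 n12989 = n11959 := d34_1 D12989 (iv D11959) (iv F46954)
theorem F51067 : act 7 n12989 = n11967 := d35_1 D12989 (iv D11967) (iv D10500) (iv F40883) D11957
def n12990 : Q := act 2 n11958
theorem D12990 : act 2 n11958 = n12990 := rfl
theorem F51068 : act 0 n12990 = n12990 := d1_1 D12990 (iv D12990) F46955
theorem F51069 : act 3 n12990 = n11961 := d15_2 D11958 D12990 (iv D11961) (iv D10491) (iv F40885)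
theorem F51070 : act 5 n12990 = n11966 := d17_2 (iv F46956) D12990 F46988
theorem F51071 : act 7 n12990 = n12623 := d19_2 (iv F46957) D12990 (iv D12623)
def n12991 : Q := act 4 n11958
theorem D12991 : act 4 n11958 = n12991 := rfl
theorem F51072 : act 0 n12991 = n12991 := d3_1 D12991 (iv D12991) F46955
theorem F51073 : act 3 n12991 = n12158 := d21_1 D12991 (iv D12158) (iv D11087) (iv F40886) D11958
theorem F51074 : act 7 n12991 = n12624 := d28_2 (iv F46957) D12991 (iv D12624)
def n12992 : Q := act 8 n11958
theorem D12992 : act 8 n11958 = n12992 := rfl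
theorem F51075 : act 0 n12992 = n12992 := d7_1 D12992 (iv D12992) F46955
theorem F51076 : act 3 n12992 = n11959 := d25_1 D12992 (iv D11959) D11958
theorem F51077 : act 5 n12992 = n12310 := d32_1 D12992 (iv D12310) (iv F46956)
def n12993 : Q := act 8 n11961
theorem D12993 : act 8 n11961 = n12993 := rfl
theorem F51078 : act 0 n12993 = n12993 := d7_1 D12993 (iv D12993) F46968
theorem F51079 : act 2 n12993 = n11963 := d20_1 D12993 (iv D11963) D11961
theorem F51080 : act 5 n12993 = n11967 := d32_1 D12993 (iv D11967) (iv F46969)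
def n12994 : Q := act 8 n11962
theorem D12994 : act 8 n11962 = n12994 := rfl
theorem F51081 : act 0 n12994 = n12994 := d7_1 D12994 (iv D12994) F46971
theorem F51082 : act 1 n12994 = n11965 := d14_1 D12994 (iv D11965) (iv F46972)
theorem F51083 : act 3 n12994 = n12161 := d25_1 D12994 (iv D12161) (iv F46973)
theorem F51084 : act 4 n12994 = n11963 := d29_1 D12994 (iv D11963) D11962
theorem F51085 : act 5 n12994 = n12169 := d32_1 D12994 (iv D12169) (iv F46974)
def n12995 : Q := act 4 n11966
theorem D12995 : act 4 n11966 = n12995 := rfl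
theorem F51086 : act 0 n12995 = n12995 := d3_1 D12995 (iv D12995) F46987
theorem F51087 : act 2 n12995 = n12309 := d16_1 D12995 (iv D12309) (iv F46988)
theorem F51088 : act 3 n12995 = n12164 := d21_1 D12995 (iv D12164) (iv D11152) (iv F40930) D11966
theorem F51089 : act 6 n12995 = n11969 := d27_2 (iv F46989) D12995 (iv D11969)
def n12996 : Q := act 8 n11966
theorem D12996 : act 8 n11966 = n12996 := rfl
theorem F51090 : act 0 n12996 = n12996 := d7_1 D12996 (iv D12996) F46987
theorem F51091 : act 2 n12996 = n12310 := d20_1 D12996 (iv D12310) (iv F46988)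
theorem F51092 : act 3 n12996 = n11967 := d25_1 D12996 (iv D11967) D11966
theorem F51093 : act 6 n12996 = n11970 := d34_1 D12996 (iv D11970) (iv F46989)
def n12997 : Q := act 1 n11968
theorem D12997 : act 1 n11968 = n12997 := rfl
theorem F51094 : act 3 n12997 = n11971 := d9_2 (iv F46995) D12997 (iv D11971)
theorem F51095 : act 6 n12997 = n12258 := d12_2 (iv F46996) D12997 F48163
theorem F51096 : act 7 n12997 = n12874 := d13_2 (iv F46997) D12997 F50691
def n12998 : Q := act 4 n11968
theorem D12998 : act 4 n11968 = n12998 := rfl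
theorem F51097 : act 0 n12998 = n12998 := d3_1 D12998 (iv D12998) F46994
theorem F51098 : act 2 n12998 = n11969 := d16_1 D12998 (iv D11969) D11968
theorem F51099 : act 3 n12998 = n12998 := d21_1 D12998 (iv D12998) F46995 F40942 (iv F46995)
theorem F51100 : act 6 n12998 = n12309 := d27_2 (iv F46996) D12998 (iv D12309)
theorem F51101 : act 7 n12998 = n12995 := d28_2 (iv F46997) D12998 (iv D12995)
def n12999 : Q := act 8 n11968
theorem D12999 : act 8 n11968 = n12999 := rfl
theorem F51102 : act 0 n12999 = n12999 := d7_1 D12999 (iv D12999) F46994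
theorem F51103 : act 2 n12999 = n11970 := d20_1 D12999 (iv D11970) D11968
theorem F51104 : act 3 n12999 = n11972 := d25_1 D12999 (iv D11972) (iv F46995)
theorem F51105 : act 6 n12999 = n12310 := d34_1 D12999 (iv D12310) (iv F46996)
def n13000 : Q := act 5 n11969
theorem D13000 : act 5 n11969 = n13000 := rfl
theorem F51106 : act 0 n13000 = n13000 := d4_1 D13000 (iv D13000) F46998
theorem F51107 : act 3 n13000 = n12166 := d22_1 D13000 (iv D12166) (iv F46999)
def n13001 : Q := act 8 n11969
theorem D13001 : act 8 n11969 = n13001 := rfl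
theorem F51108 : act 0 n13001 = n13001 := d7_1 D13001 (iv D13001) F46998
theorem F51109 : act 3 n13001 = n12167 := d25_1 D13001 (iv D12167) (iv F46999)
theorem F51110 : act 4 n13001 = n11970 := d29_1 D13001 (iv D11970) D11969
def n13002 : Q := act 7 n11970
theorem D13002 : act 7 n11970 = n13002 := rfl
theorem F51111 : act 0 n13002 = n13002 := d6_1 D13002 (iv D13002) F47000
def n13003 : Q := act 0 n11971
theorem D13003 : act 0 n11971 = n13003 := rfl
theorem F51112 : act 1 n13003 = n13003 := d0_2 D11971 D13003 (iv D13003) (iv D11971) F40941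
theorem F51113 : act 2 n13003 = n11974 := d1_2 (iv F47002) D13003 (iv D11974)
theorem F51114 : act 4 n13003 = n13003 := d3_2 F47003 D13003 (iv D13003)
theorem F51115 : act 6 n13003 = n12209 := d5_2 (iv F47004) D13003 F48005
theorem F51116 : act 7 n13003 = n11973 := d6_2 (iv F47005) D13003 (iv D11973)
def n13004 : Q := act 8 n11971
theorem D13004 : act 8 n11971 = n13004 := rfl
theorem F51117 : act 1 n13004 = n11972 := d14_1 D13004 (iv D11972) D11971
theorem F51118 : act 2 n13004 = n11975 := d20_1 D13004 (iv D11975) (iv F47002)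
theorem F51119 : act 4 n13004 = n13004 := d29_1 D13004 (iv D13004) F47003
theorem F51120 : act 6 n13004 = n12259 := d34_1 D13004 (iv D12259) (iv F47004)
def n13005 : Q := act 8 n11974
theorem D13005 : act 8 n11974 = n13005 := rfl
theorem F51121 : act 0 n13005 = n11975 := d7_1 D13005 (iv D11975) D11974
theorem F51122 : act 1 n13005 = n11976 := d14_1 D13005 (iv D11976) (iv F47015)
theorem F51123 : act 4 n13005 = n13005 := d29_1 D13005 (iv D13005) F47016
theorem F51124 : act 6 n13005 = n12211 := d34_1 D13005 (iv D12211) (iv F47017)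
def n13006 : Q := act 4 n11977
theorem D13006 : act 4 n11977 = n13006 := rfl
theorem F51125 : act 0 n13006 = n11978 := d3_1 D13006 (iv D11978) D11977
theorem F51126 : act 1 n13006 = n13006 := d10_1 D13006 (iv D13006) F47026
theorem F51127 : act 2 n13006 = n12017 := d16_1 D13006 (iv D12017) (iv F47027)
theorem F51128 : act 6 n13006 = n12215 := d27_2 (iv F47030) D13006 (iv D12215)
theorem F51129 : act 7 n13006 = n13006 := d28_2 F47031 D13006 (iv D13006)
def n13007 : Q := act 8 n11977
theorem D13007 : act 8 n11977 = n13007 := rfl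
theorem F51130 : act 0 n13007 = n11979 := d7_1 D13007 (iv D11979) D11977
theorem F51131 : act 1 n13007 = n13007 := d14_1 D13007 (iv D13007) F47026
theorem F51132 : act 2 n13007 = n12018 := d20_1 D13007 (iv D12018) (iv F47027)
theorem F51133 : act 3 n13007 = n12734 := d25_1 D13007 (iv D12734) (iv F47028)
theorem F51134 : act 5 n13007 = n13007 := d32_1 D13007 (iv D13007) F47029
theorem F51135 : act 6 n13007 = n12216 := d34_1 D13007 (iv D12216) (iv F47030)
def n13008 : Q := act 3 n11978
theorem D13008 : act 3 n11978 = n13008 := rfl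
theorem F51136 : act 1 n13008 = n11980 := d9_1 D13008 (iv D11980) (iv F47032)
theorem F51137 : act 4 n13008 = n12905 := d21_2 D11978 D13008 (iv D12905) (iv D11873) (iv F40974)
theorem F51138 : act 6 n13008 = n12268 := d23_2 (iv F47034) D13008 (iv D12268)
def n13009 : Q := act 5 n11978
theorem D13009 : act 5 n11978 = n13009 := rfl
theorem F51139 : act 1 n13009 = n11981 := d11_1 D13009 (iv D11981) (iv F47032)
theorem F51140 : act 2 n13009 = n12019 := d17_1 D13009 (iv D12019) (iv F47033)
theorem F51141 : act 4 n13009 = n13009 := d26_1 D13009 (iv D13009) (iv D11978) F40975 D11978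
theorem F51142 : act 7 n13009 = n13009 := d31_2 F47035 D13009 (iv D13009)
def n13010 : Q := act 8 n11978
theorem D13010 : act 8 n11978 = n13010 := rfl
theorem F51143 : act 1 n13010 = n11982 := d14_1 D13010 (iv D11982) (iv F47032)
theorem F51144 : act 2 n13010 = n12020 := d20_1 D13010 (iv D12020) (iv F47033)
theorem F51145 : act 4 n13010 = n11979 := d29_1 D13010 (iv D11979) D11978
theorem F51146 : act 6 n13010 = n12270 := d34_1 D13010 (iv D12270) (iv F47034)
def n13011 : Q := act 7 n11979
theorem D13011 : act 7 n11979 = n13011 := rfl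
theorem F51147 : act 1 n13011 = n11983 := d13_1 D13011 (iv D11983) (iv F47036)
theorem F51148 : act 2 n13011 = n12021 := d19_1 D13011 (iv D12021) (iv F47037)
theorem F51149 : act 5 n13011 = n13011 := d31_1 D13011 (iv D13011) F47039
theorem F51150 : act 6 n13011 = n12271 := d33_1 D13011 (iv D12271) (iv F47040)
theorem F51151 : act 8 n13011 = n13011 := d35_2 D11979 D13011 (iv D13011) (iv D11979) F40977
def n13012 : Q := act 5 n11980
theorem D13012 : act 5 n11980 = n13012 := rfl
theorem F51152 : act 0 n13012 = n13012 := d4_1 D13012 (iv D13012) F47041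
theorem F51153 : act 2 n13012 = n11994 := d17_1 D13012 (iv D11994) (iv F47042)
theorem F51154 : act 3 n13012 = n11981 := d22_1 D13012 (iv D11981) D11980
def n13013 : Q := act 7 n11980
theorem D13013 : act 7 n11980 = n13013 := rfl
theorem F51155 : act 0 n13013 = n13013 := d6_1 D13013 (iv D13013) F47041
theorem F51156 : act 2 n13013 = n11995 := d19_1 D13013 (iv D11995) (iv F47042)
theorem F51157 : act 3 n13013 = n13013 := d24_1 D13013 (iv D13013) (iv D11980) F40981 D11980
theorem F51158 : act 6 n13013 = n12312 := d33_1 D13013 (iv D12312) (iv F47043)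
def n13014 : Q := act 8 n11980
theorem D13014 : act 8 n11980 = n13014 := rfl
theorem F51159 : act 0 n13014 = n13014 := d7_1 D13014 (iv D13014) F47041
theorem F51160 : act 2 n13014 = n11996 := d20_1 D13014 (iv D11996) (iv F47042)
theorem F51161 : act 3 n13014 = n11982 := d25_1 D13014 (iv D11982) D11980
theorem F51162 : act 6 n13014 = n12313 := d34_1 D13014 (iv D12313) (iv F47043)
def n13015 : Q := act 6 n11981
theorem D13015 : act 6 n11981 = n13015 := rfl
theorem F51163 : act 0 n13015 = n13015 := d5_1 D13015 (iv D13015) F47044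
theorem F51164 : act 2 n13015 = n11984 := d18_1 D13015 (iv D11984) (iv F47045)
theorem F51165 : act 4 n13015 = n13015 := d27_1 D13015 (iv D13015) F47046
theorem F51166 : act 5 n13015 = n12314 := d30_1 D13015 (iv D12314) (iv D11328) (iv F40980) D11981
theorem F51167 : act 7 n13015 = n13015 := d33_2 F47047 D13015 (iv D13015)
def n13016 : Q := act 8 n11981
theorem D13016 : act 8 n11981 = n13016 := rfl
theorem F51168 : act 0 n13016 = n13016 := d7_1 D13016 (iv D13016) F47044
theorem F51169 : act 2 n13016 = n11985 := d20_1 D13016 (iv D11985) (iv F47045)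
theorem F51170 : act 4 n13016 = n13016 := d29_1 D13016 (iv D13016) F47046
theorem F51171 : act 5 n13016 = n11982 := d32_1 D13016 (iv D11982) D11981
def n13017 : Q := act 7 n11982
theorem D13017 : act 7 n11982 = n13017 := rfl
theorem F51172 : act 0 n13017 = n13017 := d6_1 D13017 (iv D13017) F47048
theorem F51173 : act 2 n13017 = n11986 := d19_1 D13017 (iv D11986) (iv F47049)
theorem F51174 : act 4 n13017 = n11983 := d28_1 D13017 (iv D11983) (iv F47050)
theorem F51175 : act 6 n13017 = n12316 := d33_1 D13017 (iv D12316) (iv F47051)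
theorem F51176 : act 8 n13017 = n13017 := d35_2 D11982 D13017 (iv D13017) (iv D11982) F40981
def n13018 : Q := act 3 n11983
theorem D13018 : act 3 n11983 = n13018 := rfl
theorem F51177 : act 0 n13018 = n13018 := d2_1 D13018 (iv D13018) F47052
theorem F51178 : act 2 n13018 = n13018 := d15_1 D13018 (iv D13018) F47053 F40998 (iv F47053)
theorem F51179 : act 5 n13018 = n13018 := d22_2 F47054 D13018 (iv D13018)
theorem F51180 : act 6 n13018 = n12317 := d23_2 (iv F47055) D13018 (iv D12317)
theorem F51181 : act 8 n13018 = n13018 := d25_2 F47056 D13018 (iv D13018)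
def n13019 : Q := act 8 n11984
theorem D13019 : act 8 n11984 = n13019 := rfl
theorem F51182 : act 0 n13019 = n13019 := d7_1 D13019 (iv D13019) F47057
theorem F51183 : act 1 n13019 = n12025 := d14_1 D13019 (iv D12025) (iv F47058)
theorem F51184 : act 3 n13019 = n12001 := d25_1 D13019 (iv D12001) (iv F47059)
theorem F51185 : act 4 n13019 = n13019 := d29_1 D13019 (iv D13019) F47060
theorem F51186 : act 5 n13019 = n12318 := d32_1 D13019 (iv D12318) (iv F47061)
theorem F51187 : act 6 n13019 = n11985 := d34_1 D13019 (iv D11985) D11984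
def n13020 : Q := act 7 n11985
theorem D13020 : act 7 n11985 = n13020 := rfl
theorem F51188 : act 0 n13020 = n13020 := d6_1 D13020 (iv D13020) F47063
theorem F51189 : act 1 n13020 = n12026 := d13_1 D13020 (iv D12026) (iv F47064)
theorem F51190 : act 4 n13020 = n13020 := d28_1 D13020 (iv D13020) F47066
theorem F51191 : act 5 n13020 = n11986 := d31_1 D13020 (iv D11986) (iv F47067)
theorem F51192 : act 8 n13020 = n13020 := d35_2 D11985 D13020 (iv D13020) (iv D11985) F40990
def n13021 : Q := act 3 n11986
theorem D13021 : act 3 n11986 = n13021 := rfl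
theorem F51193 : act 0 n13021 = n13021 := d2_1 D13021 (iv D13021) F47068
theorem F51194 : act 1 n13021 = n12027 := d9_1 D13021 (iv D12027) (iv F47069)
theorem F51195 : act 4 n13021 = n13021 := d21_2 (iv F47070) D13021 (iv D13021) F47070 F40998
theorem F51196 : act 6 n13021 = n12320 := d23_2 (iv F47071) D13021 (iv D12320)
theorem F51197 : act 7 n13021 = n12003 := d24_2 D11986 D13021 (iv D12003) (iv D10529) (iv F40993)
theorem F51198 : act 8 n13021 = n13021 := d25_2 F47072 D13021 (iv D13021)
def n13022 : Q := act 5 n11987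
theorem D13022 : act 5 n11987 = n13022 := rfl
theorem F51199 : act 0 n13022 = n13022 := d4_1 D13022 (iv D13022) F47073
theorem F51200 : act 2 n13022 = n12311 := d17_1 D13022 (iv D12311) (iv F47074)
theorem F51201 : act 3 n13022 = n11988 := d22_1 D13022 (iv D11988) D11987
def n13023 : Q := act 7 n11987
theorem D13023 : act 7 n11987 = n13023 := rfl
theorem F51202 : act 0 n13023 = n13023 := d6_1 D13023 (iv D13023) F47073
theorem F51203 : act 2 n13023 = n12312 := d19_1 D13023 (iv D12312) (iv F47074)
theorem F51204 : act 3 n13023 = n12171 := d24_1 D13023 (iv D12171) (iv D11159) (iv F41005) D11987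
theorem F51205 : act 4 n13023 = n13013 := d28_1 D13023 (iv D13013) (iv F47075)
theorem F51206 : act 6 n13023 = n11995 := d33_1 D13023 (iv D11995) (iv F47076)
def n13024 : Q := act 8 n11987
theorem D13024 : act 8 n11987 = n13024 := rfl
theorem F51207 : act 0 n13024 = n13024 := d7_1 D13024 (iv D13024) F47073
theorem F51208 : act 2 n13024 = n12313 := d20_1 D13024 (iv D12313) (iv F47074)
theorem F51209 : act 3 n13024 = n11989 := d25_1 D13024 (iv D11989) D11987
theorem F51210 : act 4 n13024 = n13014 := d29_1 D13024 (iv D13014) (iv F47075)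
theorem F51211 : act 6 n13024 = n11996 := d34_1 D13024 (iv D11996) (iv F47076)
def n13025 : Q := act 6 n11988
theorem D13025 : act 6 n11988 = n13025 := rfl
theorem F51212 : act 0 n13025 = n13025 := d5_1 D13025 (iv D13025) F47077
theorem F51213 : act 2 n13025 = n11991 := d18_1 D13025 (iv D11991) (iv F47078)
theorem F51214 : act 4 n13025 = n13025 := d27_1 D13025 (iv D13025) F47079
theorem F51215 : act 5 n13025 = n11997 := d30_1 D13025 (iv D11997) (iv D10524) (iv F41004) D11988
theorem F51216 : act 7 n13025 = n12173 := d33_2 (iv F47080) D13025 (iv D12173)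
def n13026 : Q := act 8 n11988
theorem D13026 : act 8 n11988 = n13026 := rfl
theorem F51217 : act 0 n13026 = n13026 := d7_1 D13026 (iv D13026) F47077
theorem F51218 : act 2 n13026 = n11992 := d20_1 D13026 (iv D11992) (iv F47078)
theorem F51219 : act 4 n13026 = n13026 := d29_1 D13026 (iv D13026) F47079
theorem F51220 : act 5 n13026 = n11989 := d32_1 D13026 (iv D11989) D11988
def n13027 : Q := act 7 n11989
theorem D13027 : act 7 n11989 = n13027 := rfl
theorem F51221 : act 0 n13027 = n13027 := d6_1 D13027 (iv D13027) F47081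
theorem F51222 : act 2 n13027 = n11993 := d19_1 D13027 (iv D11993) (iv F47082)
theorem F51223 : act 4 n13027 = n11990 := d28_1 D13027 (iv D11990) (iv F47083)
theorem F51224 : act 6 n13027 = n11999 := d33_1 D13027 (iv D11999) (iv F47084)
theorem F51225 : act 8 n13027 = n12175 := d35_2 D11989 D13027 (iv D12175) (iv D11161) (iv F41005)
def n13028 : Q := act 3 n11990
theorem D13028 : act 3 n11990 = n13028 := rfl
theorem F51226 : act 0 n13028 = n13028 := d2_1 D13028 (iv D13028) F47085
theorem F51227 : act 2 n13028 = n13028 := d15_1 D13028 (iv D13028) F47086 F41023 (iv F47086)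
theorem F51228 : act 5 n13028 = n13028 := d22_2 F47087 D13028 (iv D13028)
theorem F51229 : act 6 n13028 = n12000 := d23_2 (iv F47088) D13028 (iv D12000)
theorem F51230 : act 7 n13028 = n13018 := d24_2 D11990 D13028 (iv D13018) (iv D11983) (iv F41008)
theorem F51231 : act 8 n13028 = n12176 := d25_2 (iv F47089) D13028 (iv D12176)
def n13029 : Q := act 8 n11991
theorem D13029 : act 8 n11991 = n13029 := rfl
theorem F51232 : act 0 n13029 = n13029 := d7_1 D13029 (iv D13029) F47090
theorem F51233 : act 1 n13029 = n12028 := d14_1 D13029 (iv D12028) (iv F47091)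
theorem F51234 : act 3 n13029 = n12318 := d25_1 D13029 (iv D12318) (iv F47092)
theorem F51235 : act 4 n13029 = n13029 := d29_1 D13029 (iv D13029) F47093
theorem F51236 : act 5 n13029 = n12001 := d32_1 D13029 (iv D12001) (iv F47094)
theorem F51237 : act 6 n13029 = n11992 := d34_1 D13029 (iv D11992) D11991
def n13030 : Q := act 7 n11992
theorem D13030 : act 7 n11992 = n13030 := rfl
theorem F51238 : act 0 n13030 = n13030 := d6_1 D13030 (iv D13030) F47096
theorem F51239 : act 1 n13030 = n12029 := d13_1 D13030 (iv D12029) (iv F47097)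
theorem F51240 : act 4 n13030 = n13030 := d28_1 D13030 (iv D13030) F47099
theorem F51241 : act 5 n13030 = n11993 := d31_1 D13030 (iv D11993) (iv F47100)
theorem F51242 : act 8 n13030 = n12178 := d35_2 D11992 D13030 (iv D12178) (iv D11164) (iv F41015)
def n13031 : Q := act 3 n11993
theorem D13031 : act 3 n11993 = n13031 := rfl
theorem F51243 : act 0 n13031 = n13031 := d2_1 D13031 (iv D13031) F47101
theorem F51244 : act 1 n13031 = n12030 := d9_1 D13031 (iv D12030) (iv F47102)
theorem F51245 : act 4 n13031 = n13031 := d21_2 (iv F47103) D13031 (iv D13031) F47103 F41023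
theorem F51246 : act 6 n13031 = n12003 := d23_2 (iv F47104) D13031 (iv D12003)
theorem F51247 : act 7 n13031 = n12320 := d24_2 D11993 D13031 (iv D12320) (iv D11333) (iv F41018)
theorem F51248 : act 8 n13031 = n12179 := d25_2 (iv F47105) D13031 (iv D12179)
def n13032 : Q := act 4 n11994
theorem D13032 : act 4 n11994 = n13032 := rfl
theorem F51249 : act 0 n13032 = n13032 := d3_1 D13032 (iv D13032) F47106
theorem F51250 : act 3 n13032 = n12004 := d21_1 D13032 (iv D12004) F41053 (iv F41030) (iv F47107)
def n13033 : Q := act 6 n11994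
theorem D13033 : act 6 n11994 = n13033 := rfl
theorem F51251 : act 0 n13033 = n13033 := d5_1 D13033 (iv D13033) F47106
theorem F51252 : act 3 n13033 = n11997 := d23_1 D13033 (iv D11997) (iv F47107)
theorem F51253 : act 7 n13032 = n13033 := d24_0 F51252 F47115 (iv F47876) F47965 (iv F51250)
def n13034 : Q := act 7 n11994
theorem D13034 : act 7 n11994 = n13034 := rfl
theorem F51254 : act 0 n13034 = n13034 := d6_1 D13034 (iv D13034) F47106
theorem F51255 : act 3 n13034 = n12182 := d24_1 D13034 (iv D12182) F43387 (iv F41031) (iv F47107)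
theorem F51256 : act 4 n13034 = n13033 := d28_1 D13034 (iv F51253) (iv D13032)
theorem F51257 : act 5 n13034 = n11995 := d31_1 D13034 (iv D11995) D11994
theorem F51258 : act 6 n13034 = n13032 := d33_1 D13034 F51253 (iv D13033)
def n13035 : Q := act 8 n11994
theorem D13035 : act 8 n11994 = n13035 := rfl
theorem F51259 : act 0 n13035 = n13035 := d7_1 D13035 (iv D13035) F47106
theorem F51260 : act 3 n13035 = n11998 := d25_1 D13035 (iv D11998) (iv F47107)
theorem F51261 : act 5 n13035 = n11996 := d32_1 D13035 (iv D11996) D11994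
def n13036 : Q := act 8 n11995
theorem D13036 : act 8 n11995 = n13036 := rfl
theorem F51262 : act 0 n13036 = n13036 := d7_1 D13036 (iv D13036) F47108
theorem F51263 : act 3 n13036 = n12184 := d25_1 D13036 (iv D12184) (iv F47109)
def n13037 : Q := act 7 n11996
theorem D13037 : act 7 n11996 = n13037 := rfl
theorem F51264 : act 0 n13037 = n13037 := d6_1 D13037 (iv D13037) F47110
def n13038 : Q := act 8 n11997
theorem D13038 : act 8 n11997 = n13038 := rfl
theorem F51265 : act 0 n13038 = n13038 := d7_1 D13038 (iv D13038) F47112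
theorem F51266 : act 2 n13038 = n12001 := d20_1 D13038 (iv D12001) (iv F47113)
theorem F51267 : act 4 n13038 = n12010 := d29_1 D13038 (iv D12010) (iv F47114)
theorem F51268 : act 6 n13038 = n11998 := d34_1 D13038 (iv D11998) D11997
def n13039 : Q := act 7 n11998
theorem D13039 : act 7 n11998 = n13039 := rfl
theorem F51269 : act 0 n13039 = n13039 := d6_1 D13039 (iv D13039) F47116
theorem F51270 : act 2 n13039 = n12002 := d19_1 D13039 (iv D12002) (iv F47117)
theorem F51271 : act 4 n13039 = n12011 := d28_1 D13039 (iv D12011) (iv F47118)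
theorem F51272 : act 5 n13039 = n11999 := d31_1 D13039 (iv D11999) (iv F47119)
theorem F51273 : act 8 n13039 = n12187 := d35_2 D11998 D13039 (iv D12187) (iv D11170) (iv F41031)
def n13040 : Q := act 3 n11999
theorem D13040 : act 3 n11999 = n13040 := rfl
theorem F51274 : act 0 n13040 = n13040 := d2_1 D13040 (iv D13040) F47120
theorem F51275 : act 8 n13040 = n12188 := d25_2 (iv F47123) D13040 (iv D12188)
def n13041 : Q := act 4 n12000
theorem D13041 : act 4 n12000 = n13041 := rfl
theorem F51276 : act 0 n13041 = n13041 := d3_1 D13041 (iv D13041) F47124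
theorem F51277 : act 2 n13041 = n13041 := d16_1 D13041 (iv D13041) F47125
theorem F51278 : act 8 n13041 = n12189 := d29_2 (iv F47127) D13041 (iv D12189)
def n13042 : Q := act 7 n12001
theorem D13042 : act 7 n12001 = n13042 := rfl
theorem F51279 : act 0 n13042 = n13042 := d6_1 D13042 (iv D13042) F47128
theorem F51280 : act 1 n13042 = n12031 := d13_1 D13042 (iv D12031) (iv F47129)
theorem F51281 : act 4 n13042 = n12014 := d28_1 D13042 (iv D12014) (iv F47130)
theorem F51282 : act 6 n13042 = n12002 := d33_1 D13042 (iv D12002) (iv F47131)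
theorem F51283 : act 8 n13042 = n12190 := d35_2 D12001 D13042 (iv D12190) (iv D11173) (iv F41042)
def n13043 : Q := act 3 n12002
theorem D13043 : act 3 n12002 = n13043 := rfl
theorem F51284 : act 0 n13043 = n13043 := d2_1 D13043 (iv D13043) F47132
theorem F51285 : act 1 n13043 = n12032 := d9_1 D13043 (iv D12032) (iv F47133)
theorem F51286 : act 5 n13043 = n12003 := d22_2 (iv F47135) D13043 (iv D12003)
theorem F51287 : act 8 n13043 = n12191 := d25_2 (iv F47136) D13043 (iv D12191)
def n13044 : Q := act 2 n12003
theorem D13044 : act 2 n12003 = n13044 := rfl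
theorem F51288 : act 0 n13044 = n13044 := d1_1 D13044 (iv D13044) F47137
theorem F51289 : act 4 n13044 = n13044 := d16_2 F47139 D13044 (iv D13044)
theorem F51290 : act 8 n13044 = n12192 := d20_2 (iv F47140) D13044 (iv D12192)
def n13045 : Q := act 8 n12004
theorem D13045 : act 8 n12004 = n13045 := rfl
theorem F51291 : act 0 n13045 = n13045 := d7_1 D13045 (iv D13045) F47141
theorem F51292 : act 2 n13045 = n13045 := d20_1 D13045 (iv D13045) F47142
theorem F51293 : act 4 n13045 = n12007 := d29_1 D13045 (iv D12007) D12004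
def n13046 : Q := act 8 n12005
theorem D13046 : act 8 n12005 = n13046 := rfl
theorem F51294 : act 0 n13046 = n13046 := d7_1 D13046 (iv D13046) F47143
theorem F51295 : act 2 n13046 = n13046 := d20_1 D13046 (iv D13046) F47144
theorem F51296 : act 3 n13046 = n12010 := d25_1 D13046 (iv D12010) (iv F47145)
theorem F51297 : act 5 n13046 = n13046 := d32_1 D13046 (iv D13046) F47146
theorem F51298 : act 6 n13046 = n12007 := d34_1 D13046 (iv D12007) D12005
def n13047 : Q := act 8 n12006
theorem D13047 : act 8 n12006 = n13047 := rfl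
theorem F51299 : act 0 n13047 = n13047 := d7_1 D13047 (iv D13047) F47147
theorem F51300 : act 2 n13047 = n13047 := d20_1 D13047 (iv D13047) F47148
theorem F51301 : act 3 n13047 = n12198 := d25_1 D13047 (iv D12198) (iv F47149)
theorem F51302 : act 5 n13047 = n12008 := d32_1 D13047 (iv D12008) (iv F47150)
def n13048 : Q := act 7 n12007
theorem D13048 : act 7 n12007 = n13048 := rfl
theorem F51303 : act 0 n13048 = n13048 := d6_1 D13048 (iv D13048) F47151
theorem F51304 : act 2 n13048 = n13048 := d19_1 D13048 (iv D13048) F47152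
theorem F51305 : act 5 n13048 = n12009 := d31_1 D13048 (iv D12009) (iv F47154)
def n13049 : Q := act 7 n12008
theorem D13049 : act 7 n12008 = n13049 := rfl
theorem F51306 : act 0 n13049 = n13049 := d6_1 D13049 (iv D13049) F47155
theorem F51307 : act 1 n13049 = n12679 := d13_1 D13049 F50841 F50838
theorem F51308 : act 2 n13049 = n13049 := d19_1 D13049 (iv D13049) F47156
theorem F51309 : act 3 n13049 = n12650 := d24_1 D13049 F49791 F47969 (iv D12200) (iv F47157)
theorem F51310 : act 6 n13049 = n13049 := d33_1 D13049 (iv D13049) F47158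
theorem F51311 : act 8 n13049 = n12009 := d35_2 D12008 D13049 (iv D12009) (iv D10532) D10531
def n13050 : Q := act 3 n12009
theorem D13050 : act 3 n12009 = n13050 := rfl
theorem F51312 : act 0 n13050 = n13050 := d2_1 D13050 (iv D13050) F47159
theorem F51313 : act 1 n13050 = n12681 := d9_1 D13050 F50846 F50843
theorem F51314 : act 6 n13050 = n13050 := d23_2 F47161 D13050 (iv D13050)
theorem F51315 : act 7 n13050 = n12012 := d24_2 D12009 D13050 (iv D12012) (iv D10535) (iv F41060)
theorem F51316 : act 8 n13050 = n12650 := d25_2 F51311 D13050 (iv F51309)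
theorem F51317 : act 2 n12652 = n13050 := d20_3 F51316 F49789 D12652
theorem F51318 : act 4 n12651 = n13050 := d29_3 F51316 (iv D12650) D12651
def n13051 : Q := act 7 n12010
theorem D13051 : act 7 n12010 = n13051 := rfl
theorem F51319 : act 0 n13051 = n13051 := d6_1 D13051 (iv D13051) F47162
theorem F51320 : act 2 n13051 = n12014 := d19_1 D13051 (iv D12014) (iv F47163)
theorem F51321 : act 5 n13051 = n13051 := d31_1 D13051 (iv D13051) F47164
theorem F51322 : act 6 n13051 = n12011 := d33_1 D13051 (iv D12011) (iv F47165)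
theorem F51323 : act 8 n13051 = n12201 := d35_2 D12010 D13051 (iv D12201) (iv D11182) (iv F41065)
def n13052 : Q := act 3 n12011
theorem D13052 : act 3 n12011 = n13052 := rfl
theorem F51324 : act 0 n13052 = n13052 := d2_1 D13052 (iv D13052) F47166
theorem F51325 : act 2 n13052 = n12994 := d15_1 D13052 F51083 F47782 (iv D12015) (iv F47167)
theorem F51326 : act 5 n13052 = n12012 := d22_2 (iv F47168) D13052 (iv D12012)
theorem F51327 : act 8 n13052 = n12202 := d25_2 (iv F47169) D13052 (iv D12202)
theorem F51328 : act 4 n12993 = n13052 := d29_3 F51327 (iv F47978) D12993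
def n13053 : Q := act 5 n12017
theorem D13053 : act 5 n12017 = n13053 := rfl
theorem F51329 : act 0 n13053 = n12019 := d4_1 D13053 (iv D12019) (iv F47192)
theorem F51330 : act 1 n13053 = n12035 := d11_1 D13053 (iv D12035) (iv F47193)
theorem F51331 : act 4 n13053 = n13053 := d26_1 D13053 (iv D13053) (iv D12017) F41095 D12017
theorem F51332 : act 7 n13053 = n13053 := d31_2 F47195 D13053 (iv D13053)
def n13054 : Q := act 8 n12017
theorem D13054 : act 8 n12017 = n13054 := rfl
theorem F51333 : act 0 n13054 = n12020 := d7_1 D13054 (iv D12020) (iv F47192)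
theorem F51334 : act 1 n13054 = n12036 := d14_1 D13054 (iv D12036) (iv F47193)
theorem F51335 : act 4 n13054 = n12018 := d29_1 D13054 (iv D12018) D12017
theorem F51336 : act 6 n13054 = n12218 := d34_1 D13054 (iv D12218) (iv F47194)
def n13055 : Q := act 7 n12018
theorem D13055 : act 7 n12018 = n13055 := rfl
theorem F51337 : act 0 n13055 = n12021 := d6_1 D13055 (iv D12021) (iv F47196)
theorem F51338 : act 1 n13055 = n12037 := d13_1 D13055 (iv D12037) (iv F47197)
theorem F51339 : act 5 n13055 = n13055 := d31_1 D13055 (iv D13055) F47199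
theorem F51340 : act 6 n13055 = n12219 := d33_1 D13055 (iv D12219) (iv F47200)
theorem F51341 : act 8 n13055 = n13055 := d35_2 D12018 D13055 (iv D13055) (iv D12018) F41097
def n13056 : Q := act 6 n12019
theorem D13056 : act 6 n12019 = n13056 := rfl
theorem F51342 : act 1 n13056 = n12022 := d12_1 D13056 (iv D12022) (iv F47201)
theorem F51343 : act 4 n13056 = n13056 := d27_1 D13056 (iv D13056) F47202
theorem F51344 : act 5 n13056 = n12272 := d30_1 D13056 (iv D12272) (iv D11292) (iv F41099) D12019
theorem F51345 : act 7 n13056 = n13056 := d33_2 F47203 D13056 (iv D13056)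
def n13057 : Q := act 8 n12019
theorem D13057 : act 8 n12019 = n13057 := rfl
theorem F51346 : act 1 n13057 = n12023 := d14_1 D13057 (iv D12023) (iv F47201)
theorem F51347 : act 4 n13057 = n13057 := d29_1 D13057 (iv D13057) F47202
theorem F51348 : act 5 n13057 = n12020 := d32_1 D13057 (iv D12020) D12019
def n13058 : Q := act 7 n12020
theorem D13058 : act 7 n12020 = n13058 := rfl
theorem F51349 : act 1 n13058 = n12024 := d13_1 D13058 (iv D12024) (iv F47204)
theorem F51350 : act 4 n13058 = n12021 := d28_1 D13058 (iv D12021) (iv F47205)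
theorem F51351 : act 6 n13058 = n12274 := d33_1 D13058 (iv D12274) (iv F47206)
theorem F51352 : act 8 n13058 = n13058 := d35_2 D12020 D13058 (iv D13058) (iv D12020) F41100
def n13059 : Q := act 8 n12022
theorem D13059 : act 8 n12022 = n13059 := rfl
theorem F51353 : act 0 n13059 = n12041 := d7_1 D13059 (iv D12041) (iv F47211)
theorem F51354 : act 2 n13059 = n12025 := d20_1 D13059 (iv D12025) (iv F47212)
theorem F51355 : act 4 n13059 = n13059 := d29_1 D13059 (iv D13059) F47213
theorem F51356 : act 5 n13059 = n12291 := d32_1 D13059 (iv D12291) (iv F47214)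
theorem F51357 : act 6 n13059 = n12023 := d34_1 D13059 (iv D12023) D12022
def n13060 : Q := act 7 n12023
theorem D13060 : act 7 n12023 = n13060 := rfl
theorem F51358 : act 0 n13060 = n12042 := d6_1 D13060 (iv D12042) (iv F47216)
theorem F51359 : act 2 n13060 = n12026 := d19_1 D13060 (iv D12026) (iv F47217)
theorem F51360 : act 4 n13060 = n13060 := d28_1 D13060 (iv D13060) F47218
theorem F51361 : act 5 n13060 = n12024 := d31_1 D13060 (iv D12024) (iv F47219)
theorem F51362 : act 8 n13060 = n13060 := d35_2 D12023 D13060 (iv D13060) (iv D12023) F41108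
def n13061 : Q := act 3 n12024
theorem D13061 : act 3 n12024 = n13061 := rfl
theorem F51363 : act 0 n13061 = n12043 := d2_1 D13061 (iv D12043) (iv F47220)
theorem F51364 : act 6 n13061 = n12293 := d23_2 (iv F47223) D13061 (iv D12293)
theorem F51365 : act 8 n13061 = n13061 := d25_2 F47224 D13061 (iv D13061)
def n13062 : Q := act 7 n12025
theorem D13062 : act 7 n12025 = n13062 := rfl
theorem F51366 : act 0 n13062 = n12044 := d6_1 D13062 (iv D12044) (iv F47225)
theorem F51367 : act 4 n13062 = n13062 := d28_1 D13062 (iv D13062) F47227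
theorem F51368 : act 5 n13062 = n12334 := d31_1 D13062 (iv D12334) (iv F47228)
theorem F51369 : act 6 n13062 = n12026 := d33_1 D13062 (iv D12026) (iv F47229)
theorem F51370 : act 8 n13062 = n13062 := d35_2 D12025 D13062 (iv D13062) (iv D12025) F41122
def n13063 : Q := act 3 n12026
theorem D13063 : act 3 n12026 = n13063 := rfl
theorem F51371 : act 0 n13063 = n12045 := d2_1 D13063 (iv D12045) (iv F47230)
theorem F51372 : act 5 n13063 = n12027 := d22_2 (iv F47232) D13063 (iv D12027)
theorem F51373 : act 7 n13063 = n12032 := d24_2 D12026 D13063 (iv D12032) (iv D10553) (iv F41124)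
theorem F51374 : act 8 n13063 = n13063 := d25_2 F47233 D13063 (iv D13063)
def n13064 : Q := act 2 n12027
theorem D13064 : act 2 n12027 = n13064 := rfl
theorem F51375 : act 0 n13064 = n12046 := d1_1 D13064 (iv D12046) (iv F47234)
theorem F51376 : act 4 n13064 = n13064 := d16_2 F47235 D13064 (iv D13064)
theorem F51377 : act 6 n13064 = n12336 := d18_2 (iv F47236) D13064 (iv D12336)
theorem F51378 : act 7 n13064 = n12033 := d19_2 (iv F47237) D13064 (iv D12033)
theorem F51379 : act 8 n13064 = n13064 := d20_2 F47238 D13064 (iv D13064)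
def n13065 : Q := act 7 n12028
theorem D13065 : act 7 n12028 = n13065 := rfl
theorem F51380 : act 0 n13065 = n12047 := d6_1 D13065 (iv D12047) (iv F47239)
theorem F51381 : act 4 n13065 = n13065 := d28_1 D13065 (iv D13065) F47241
theorem F51382 : act 5 n13065 = n12031 := d31_1 D13065 (iv D12031) (iv F47242)
theorem F51383 : act 6 n13065 = n12029 := d33_1 D13065 (iv D12029) (iv F47243)
theorem F51384 : act 8 n13065 = n12203 := d35_2 D12028 D13065 (iv D12203) (iv D11189) (iv F41135)
def n13066 : Q := act 3 n12029
theorem D13066 : act 3 n12029 = n13066 := rfl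
theorem F51385 : act 0 n13066 = n12048 := d2_1 D13066 (iv D12048) (iv F47244)
theorem F51386 : act 5 n13066 = n12030 := d22_2 (iv F47246) D13066 (iv D12030)
theorem F51387 : act 7 n13066 = n12335 := d24_2 D12029 D13066 (iv D12335) (iv D11345) (iv F41137)
theorem F51388 : act 8 n13066 = n12204 := d25_2 (iv F47247) D13066 (iv D12204)
def n13067 : Q := act 2 n12030
theorem D13067 : act 2 n12030 = n13067 := rfl
theorem F51389 : act 0 n13067 = n12049 := d1_1 D13067 (iv D12049) (iv F47248)
theorem F51390 : act 4 n13067 = n13067 := d16_2 F47249 D13067 (iv D13067)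
theorem F51391 : act 6 n13067 = n12033 := d18_2 (iv F47250) D13067 (iv D12033)
theorem F51392 : act 7 n13067 = n12336 := d19_2 (iv F47251) D13067 (iv D12336)
theorem F51393 : act 8 n13067 = n12205 := d20_2 (iv F47252) D13067 (iv D12205)
def n13068 : Q := act 1 n12033
theorem D13068 : act 1 n12033 = n13068 := rfl
theorem F51394 : act 4 n13068 = n13068 := d10_2 F47261 D13068 (iv D13068)
theorem F51395 : act 8 n13068 = n12206 := d14_2 (iv F47262) D13068 (iv D12206)
def n13069 : Q := act 6 n12035
theorem D13069 : act 6 n12035 = n13069 := rfl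
theorem F51396 : act 0 n13069 = n12038 := d5_1 D13069 (iv D12038) (iv F47269)
theorem F51397 : act 2 n13069 = n13069 := d18_1 D13069 (iv D13069) F47270
theorem F51398 : act 4 n13069 = n13069 := d27_1 D13069 (iv D13069) F47271
theorem F51399 : act 5 n13069 = n12236 := d30_1 D13069 (iv D12236) (iv D11260) (iv F41174) D12035
theorem F51400 : act 7 n13069 = n13069 := d33_2 F47272 D13069 (iv D13069)
def n13070 : Q := act 8 n12035
theorem D13070 : act 8 n12035 = n13070 := rfl
theorem F51401 : act 0 n13070 = n12039 := d7_1 D13070 (iv D12039) (iv F47269)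
theorem F51402 : act 2 n13070 = n13070 := d20_1 D13070 (iv D13070) F47270
theorem F51403 : act 4 n13070 = n13070 := d29_1 D13070 (iv D13070) F47271
theorem F51404 : act 5 n13070 = n12036 := d32_1 D13070 (iv D12036) D12035
def n13071 : Q := act 7 n12036
theorem D13071 : act 7 n12036 = n13071 := rfl
theorem F51405 : act 0 n13071 = n12040 := d6_1 D13071 (iv D12040) (iv F47273)
theorem F51406 : act 2 n13071 = n13071 := d19_1 D13071 (iv D13071) F47274
theorem F51407 : act 4 n13071 = n12037 := d28_1 D13071 (iv D12037) (iv F47275)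
theorem F51408 : act 6 n13071 = n12238 := d33_1 D13071 (iv D12238) (iv F47276)
theorem F51409 : act 8 n13071 = n13071 := d35_2 D12036 D13071 (iv D13071) (iv D12036) F41175
def n13072 : Q := act 8 n12038
theorem D13072 : act 8 n12038 = n13072 := rfl
theorem F51410 : act 1 n13072 = n12041 := d14_1 D13072 (iv D12041) (iv F47282)
theorem F51411 : act 2 n13072 = n13072 := d20_1 D13072 (iv D13072) F47283
theorem F51412 : act 4 n13072 = n13072 := d29_1 D13072 (iv D13072) F47284
theorem F51413 : act 5 n13072 = n12251 := d32_1 D13072 (iv D12251) (iv F47285)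
theorem F51414 : act 6 n13072 = n12039 := d34_1 D13072 (iv D12039) D12038
def n13073 : Q := act 7 n12039
theorem D13073 : act 7 n12039 = n13073 := rfl
theorem F51415 : act 1 n13073 = n12042 := d13_1 D13073 (iv D12042) (iv F47287)
theorem F51416 : act 2 n13073 = n13073 := d19_1 D13073 (iv D13073) F47288
theorem F51417 : act 4 n13073 = n13073 := d28_1 D13073 (iv D13073) F47289
theorem F51418 : act 5 n13073 = n12040 := d31_1 D13073 (iv D12040) (iv F47290)
theorem F51419 : act 8 n13073 = n13073 := d35_2 D12039 D13073 (iv D13073) (iv D12039) F41184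
def n13074 : Q := act 3 n12040
theorem D13074 : act 3 n12040 = n13074 := rfl
theorem F51420 : act 1 n13074 = n12043 := d9_1 D13074 (iv D12043) (iv F47291)
theorem F51421 : act 6 n13074 = n12253 := d23_2 (iv F47294) D13074 (iv D12253)
theorem F51422 : act 8 n13074 = n13074 := d25_2 F47295 D13074 (iv D13074)
def n13075 : Q := act 7 n12041
theorem D13075 : act 7 n12041 = n13075 := rfl
theorem F51423 : act 2 n13075 = n12044 := d19_1 D13075 (iv D12044) (iv F47296)
theorem F51424 : act 4 n13075 = n13075 := d28_1 D13075 (iv D13075) F47297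
theorem F51425 : act 5 n13075 = n12302 := d31_1 D13075 (iv D12302) (iv F47298)
theorem F51426 : act 6 n13075 = n12042 := d33_1 D13075 (iv D12042) (iv F47299)
theorem F51427 : act 8 n13075 = n13075 := d35_2 D12041 D13075 (iv D13075) (iv D12041) F41197
def n13076 : Q := act 3 n12042
theorem D13076 : act 3 n12042 = n13076 := rfl
theorem F51428 : act 5 n13076 = n12043 := d22_2 (iv F47302) D13076 (iv D12043)
theorem F51429 : act 8 n13076 = n13076 := d25_2 F47303 D13076 (iv D13076)
def n13077 : Q := act 2 n12043
theorem D13077 : act 2 n12043 = n13077 := rfl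
theorem F51430 : act 3 n13077 = n12046 := d15_2 D12043 D13077 (iv D12046) (iv D10569) (iv F41201)
theorem F51431 : act 6 n13077 = n12304 := d18_2 (iv F47304) D13077 (iv D12304)
theorem F51432 : act 8 n13077 = n13077 := d20_2 F47305 D13077 (iv D13077)
def n13078 : Q := act 5 n12051
theorem D13078 : act 5 n12051 = n13078 := rfl
theorem F51433 : act 0 n13078 = n12097 := d4_1 D13078 (iv D12097) (iv F47337)
theorem F51434 : act 2 n13078 = n13078 := d17_1 D13078 (iv D13078) F47338
theorem F51435 : act 3 n13078 = n12052 := d22_1 D13078 (iv D12052) D12051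
def n13079 : Q := act 3 n12057
theorem D13079 : act 3 n12057 = n13079 := rfl
theorem F51436 : act 0 n13079 = n12110 := d2_1 D13079 (iv D12110) (iv F47361)
theorem F51437 : act 1 n13079 = n13079 := d9_1 D13079 (iv D13079) F47362
theorem F51438 : act 2 n13079 = n12131 := d15_1 D13079 (iv D12131) F42819 (iv F44789) (iv F47363)
theorem F51439 : act 5 n13079 = n12103 := d22_2 (iv F47364) D13079 (iv D12103)
theorem F51440 : act 6 n13079 = n12058 := d23_2 (iv F47365) D13079 (iv D12058)
theorem F51441 : act 7 n13079 = n13079 := d24_2 D12057 D13079 (iv D13079) (iv D12057) F41981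
def n13080 : Q := act 2 n12058
theorem D13080 : act 2 n12058 = n13080 := rfl
theorem F51442 : act 0 n13080 = n12112 := d1_1 D13080 (iv D12112) (iv F47366)
theorem F51443 : act 3 n13080 = n12060 := d15_2 D12058 D13080 (iv D12060) (iv D10776) (iv F41984)
theorem F51444 : act 5 n13080 = n13080 := d17_2 F47368 D13080 (iv D13080)
theorem F51445 : act 6 n13080 = n12131 := d18_2 F51440 D13080 (iv F51438)
theorem F51446 : act 7 n13080 = n13080 := d19_2 F47369 D13080 (iv D13080)
theorem F51447 : act 1 n12176 = n13080 := d12_3 F51445 F47657 (iv F47853)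
def n13081 : Q := act 4 n12058
theorem D13081 : act 4 n12058 = n13081 := rfl
theorem F51448 : act 0 n13081 = n12113 := d3_1 D13081 (iv D12113) (iv F47366)
theorem F51449 : act 1 n13081 = n13081 := d10_1 D13081 (iv D13081) F47367
theorem F51450 : act 7 n13081 = n13081 := d28_2 F47369 D13081 (iv D13081)
def n13082 : Q := act 8 n12058
theorem D13082 : act 8 n12058 = n13082 := rfl
theorem F51451 : act 0 n13082 = n12114 := d7_1 D13082 (iv D12114) (iv F47366)
theorem F51452 : act 1 n13082 = n13082 := d14_1 D13082 (iv D13082) F47367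
theorem F51453 : act 3 n13082 = n12059 := d25_1 D13082 (iv D12059) D12058
theorem F51454 : act 5 n13082 = n13082 := d32_1 D13082 (iv D13082) F47368
def n13083 : Q := act 4 n12060
theorem D13083 : act 4 n12060 = n13083 := rfl
theorem F51455 : act 0 n13083 = n12115 := d3_1 D13083 (iv D12115) (iv F47374)
theorem F51456 : act 1 n13083 = n12175 := d10_1 D13083 F47848 (iv F47375)
theorem F51457 : act 2 n13083 = n12061 := d16_1 D13083 (iv D12061) D12060
theorem F51458 : act 6 n13083 = n12130 := d27_2 (iv F47377) D13083 F47656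
theorem F51459 : act 7 n13083 = n12062 := d28_2 (iv F47378) D13083 (iv D12062)
def n13084 : Q := act 5 n12061
theorem D13084 : act 5 n12061 = n13084 := rfl
theorem F51460 : act 0 n13084 = n12117 := d4_1 D13084 (iv D12117) (iv F47379)
theorem F51461 : act 1 n13084 = n12083 := d11_1 D13084 (iv D12083) (iv F47380)
theorem F51462 : act 4 n13084 = n13084 := d26_1 D13084 (iv D13084) (iv D12061) F41995 D12061
theorem F51463 : act 7 n13084 = n12063 := d31_2 (iv F47382) D13084 (iv D12063)
def n13085 : Q := act 3 n12062
theorem D13085 : act 3 n12062 = n13085 := rfl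
theorem F51464 : act 0 n13085 = n12119 := d2_1 D13085 (iv D12119) (iv F47383)
theorem F51465 : act 1 n13085 = n12172 := d9_1 D13085 F47835 (iv F47384)
theorem F51466 : act 2 n13085 = n12066 := d15_1 D13085 (iv D12066) F42039 (iv F42019) (iv F47385)
theorem F51467 : act 4 n13085 = n13085 := d21_2 D12062 D13085 (iv D13085) (iv D12062) F42015
theorem F51468 : act 6 n13085 = n12127 := d23_2 (iv F47386) D13085 F47645
theorem F51469 : act 8 n13085 = n12122 := d25_2 (iv F47387) D13085 (iv D12122)
def n13086 : Q := act 5 n12062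
theorem D13086 : act 5 n12062 = n13086 := rfl
theorem F51470 : act 0 n13086 = n12120 := d4_1 D13086 (iv D12120) (iv F47383)
theorem F51471 : act 1 n13086 = n12174 := d11_1 D13086 F47845 (iv F47384)
theorem F51472 : act 2 n13086 = n12063 := d17_1 D13086 (iv D12063) (iv F47385)
theorem F51473 : act 4 n13086 = n13086 := d26_1 D13086 (iv D13086) (iv D12062) F42016 D12062
theorem F51474 : act 8 n13086 = n12123 := d32_2 (iv F47387) D13086 (iv D12123)
def n13087 : Q := act 6 n12063
theorem D13087 : act 6 n12063 = n13087 := rfl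
theorem F51475 : act 0 n13087 = n12121 := d5_1 D13087 (iv D12121) (iv F47388)
theorem F51476 : act 1 n13087 = n12084 := d12_1 D13087 (iv D12084) (iv F47389)
theorem F51477 : act 3 n13087 = n12070 := d23_1 D13087 (iv D12070) (iv F47390)
theorem F51478 : act 4 n13087 = n13087 := d27_1 D13087 (iv D13087) F47391
theorem F51479 : act 5 n13087 = n12132 := d30_1 D13087 F47662 F42825 (iv F44703) D12063
theorem F51480 : act 8 n13087 = n12124 := d34_2 (iv F47392) D13087 (iv D12124)
def n13088 : Q := act 3 n12064
theorem D13088 : act 3 n12064 = n13088 := rfl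
theorem F51481 : act 0 n13088 = n12122 := d2_1 D13088 (iv D12122) (iv F47393)
theorem F51482 : act 1 n13088 = n13088 := d9_1 D13088 (iv D13088) F47394
theorem F51483 : act 2 n13088 = n12127 := d15_1 D13088 F47645 F42816 (iv F44664) (iv F47395)
theorem F51484 : act 4 n13088 = n13088 := d21_2 D12064 D13088 (iv D13088) (iv D12064) F42026
theorem F51485 : act 6 n13088 = n12066 := d23_2 (iv F47396) D13088 (iv D12066)
theorem F51486 : act 8 n13088 = n12119 := d25_2 (iv F47397) D13088 (iv D12119)
def n13089 : Q := act 5 n12064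
theorem D13089 : act 5 n12064 = n13089 := rfl
theorem F51487 : act 0 n13089 = n12123 := d4_1 D13089 (iv D12123) (iv F47393)
theorem F51488 : act 1 n13089 = n13089 := d11_1 D13089 (iv D13089) F47394
theorem F51489 : act 2 n13089 = n12065 := d17_1 D13089 (iv D12065) (iv F47395)
theorem F51490 : act 4 n13089 = n13089 := d26_1 D13089 (iv D13089) (iv D12064) F42027 D12064
theorem F51491 : act 8 n13089 = n12120 := d32_2 (iv F47397) D13089 (iv D12120)
def n13090 : Q := act 6 n12065
theorem D13090 : act 6 n12065 = n13090 := rfl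
theorem F51492 : act 0 n13090 = n12124 := d5_1 D13090 (iv D12124) (iv F47398)
theorem F51493 : act 1 n13090 = n12085 := d12_1 D13090 (iv D12085) (iv F47399)
theorem F51494 : act 3 n13090 = n12132 := d23_1 D13090 F47662 (iv F47400)
theorem F51495 : act 4 n13090 = n13090 := d27_1 D13090 (iv D13090) F47401
theorem F51496 : act 5 n13090 = n12070 := d30_1 D13090 (iv D12070) (iv D10789) (iv F42031) D12065
theorem F51497 : act 8 n13090 = n12121 := d34_2 (iv F47402) D13090 (iv D12121)
def n13091 : Q := act 5 n12066
theorem D13091 : act 5 n12066 = n13091 := rfl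
theorem F51498 : act 0 n13091 = n12125 := d4_1 D13091 (iv D12125) (iv F47403)
theorem F51499 : act 1 n13091 = n13091 := d11_1 D13091 (iv D13091) F47404
theorem F51500 : act 3 n13091 = n12067 := d22_1 D13091 (iv D12067) D12066
def n13092 : Q := act 7 n12066
theorem D13092 : act 7 n12066 = n13092 := rfl
theorem F51501 : act 0 n13092 = n12126 := d6_1 D13092 (iv D12126) (iv F47403)
theorem F51502 : act 1 n13092 = n13092 := d13_1 D13092 (iv D13092) F47404
theorem F51503 : act 4 n13092 = n13092 := d28_1 D13092 (iv D13092) F47405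
def n13093 : Q := act 8 n12066
theorem D13093 : act 8 n12066 = n13093 := rfl
theorem F51504 : act 0 n13093 = n12127 := d7_1 D13093 (iv D12127) (iv F47403)
theorem F51505 : act 1 n13093 = n13093 := d14_1 D13093 (iv D13093) F47404
theorem F51506 : act 2 n13093 = n12122 := d20_1 D13093 (iv F51469) F51466
theorem F51507 : act 3 n13093 = n12068 := d25_1 D13093 (iv D12068) D12066
theorem F51508 : act 4 n13093 = n13093 := d29_1 D13093 (iv D13093) F47405
theorem F51509 : act 6 n13093 = n12119 := d34_1 D13093 (iv F51486) F51485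
def n13094 : Q := act 6 n12067
theorem D13094 : act 6 n12067 = n13094 := rfl
theorem F51510 : act 0 n13094 = n12128 := d5_1 D13094 (iv D12128) (iv F47406)
theorem F51511 : act 1 n13094 = n13094 := d12_1 D13094 (iv D13094) F47407
theorem F51512 : act 2 n13094 = n12070 := d18_1 D13094 (iv D12070) (iv F47408)
theorem F51513 : act 4 n13094 = n12076 := d27_1 D13094 (iv D12076) (iv F47409)
def n13095 : Q := act 8 n12067
theorem D13095 : act 8 n12067 = n13095 := rfl
theorem F51514 : act 0 n13095 = n12129 := d7_1 D13095 (iv D12129) (iv F47406)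
theorem F51515 : act 1 n13095 = n13095 := d14_1 D13095 (iv D13095) F47407
theorem F51516 : act 2 n13095 = n12071 := d20_1 D13095 (iv D12071) (iv F47408)
theorem F51517 : act 4 n13095 = n12077 := d29_1 D13095 (iv D12077) (iv F47409)
theorem F51518 : act 5 n13095 = n12068 := d32_1 D13095 (iv D12068) D12067
def n13096 : Q := act 7 n12068
theorem D13096 : act 7 n12068 = n13096 := rfl
theorem F51519 : act 0 n13096 = n12130 := d6_1 D13096 (iv D12130) (iv F47410)
theorem F51520 : act 1 n13096 = n13096 := d13_1 D13096 (iv D13096) F47411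
theorem F51521 : act 2 n13096 = n12072 := d19_1 D13096 (iv D12072) (iv F47412)
theorem F51522 : act 4 n13096 = n12069 := d28_1 D13096 (iv D12069) (iv F47413)
theorem F51523 : act 6 n13096 = n12115 := d33_1 D13096 F47613 (iv F47414)
def n13097 : Q := act 3 n12069
theorem D13097 : act 3 n12069 = n13097 := rfl
theorem F51524 : act 0 n13097 = n12131 := d2_1 D13097 (iv D12131) (iv F47415)
theorem F51525 : act 1 n13097 = n13097 := d9_1 D13097 (iv D13097) F47416
theorem F51526 : act 2 n13097 = n12110 := d15_1 D13097 (iv D12110) F42736 (iv F44778) (iv F47417)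
theorem F51527 : act 5 n13097 = n12079 := d22_2 (iv F47418) D13097 (iv D12079)
theorem F51528 : act 6 n13097 = n12112 := d23_2 (iv F47419) D13097 F47603
theorem F51529 : act 7 n13097 = n13097 := d24_2 D12069 D13097 (iv D13097) (iv D12069) F42043
def n13098 : Q := act 8 n12070
theorem D13098 : act 8 n12070 = n13098 := rfl
theorem F51530 : act 0 n13098 = n12132 := d7_1 D13098 (iv D12132) (iv F47420)
theorem F51531 : act 1 n13098 = n12086 := d14_1 D13098 (iv D12086) (iv F47421)
theorem F51532 : act 3 n13098 = n12124 := d25_1 D13098 (iv F51480) F51477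
theorem F51533 : act 4 n13098 = n12080 := d29_1 D13098 (iv D12080) (iv F47422)
theorem F51534 : act 5 n13098 = n12121 := d32_1 D13098 (iv F51497) F51496
theorem F51535 : act 6 n13098 = n12071 := d34_1 D13098 (iv D12071) D12070
def n13099 : Q := act 7 n12071
theorem D13099 : act 7 n12071 = n13099 := rfl
theorem F51536 : act 0 n13099 = n12133 := d6_1 D13099 (iv D12133) (iv F47423)
theorem F51537 : act 1 n13099 = n12087 := d13_1 D13099 (iv D12087) (iv F47424)
theorem F51538 : act 4 n13099 = n12081 := d28_1 D13099 (iv D12081) (iv F47426)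
theorem F51539 : act 5 n13099 = n12072 := d31_1 D13099 (iv D12072) (iv F47427)
def n13100 : Q := act 4 n12073
theorem D13100 : act 4 n12073 = n13100 := rfl
theorem F51540 : act 0 n13100 = n12135 := d3_1 D13100 (iv D12135) (iv F47432)
theorem F51541 : act 1 n13100 = n13100 := d10_1 D13100 (iv D13100) F47433
theorem F51542 : act 2 n13100 = n13100 := d16_1 D13100 (iv D13100) F47434
theorem F51543 : act 5 n13100 = n13100 := d26_2 D12073 D13100 (iv D13100) (iv D12073) F42057
def n13101 : Q := act 6 n12073
theorem D13101 : act 6 n12073 = n13101 := rfl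
theorem F51544 : act 0 n13101 = n12136 := d5_1 D13101 (iv D12136) (iv F47432)
theorem F51545 : act 1 n13101 = n13101 := d12_1 D13101 (iv D13101) F47433
theorem F51546 : act 2 n13101 = n13101 := d18_1 D13101 (iv D13101) F47434
theorem F51547 : act 3 n13101 = n12076 := d23_1 D13101 (iv D12076) (iv F47435)
theorem F51548 : act 5 n13101 = n13101 := d30_1 D13101 (iv D13101) (iv D12073) F42058 D12073
theorem F51549 : act 7 n13100 = n13101 := d6_0 F51544 F47960 (iv F51540)
def n13102 : Q := act 7 n12073
theorem D13102 : act 7 n12073 = n13102 := rfl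
theorem F51550 : act 0 n13102 = n12137 := d6_1 D13102 (iv D12137) (iv F47432)
theorem F51551 : act 1 n13102 = n13102 := d13_1 D13102 (iv D13102) F47433
theorem F51552 : act 2 n13102 = n13102 := d19_1 D13102 (iv D13102) F47434
theorem F51553 : act 4 n13102 = n13101 := d28_1 D13102 (iv F51549) (iv D13100)
theorem F51554 : act 5 n13102 = n12074 := d31_1 D13102 (iv D12074) D12073
theorem F51555 : act 6 n13102 = n13100 := d33_1 D13102 F51549 (iv D13101)
def n13103 : Q := act 8 n12073
theorem D13103 : act 8 n12073 = n13103 := rfl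
theorem F51556 : act 0 n13103 = n12138 := d7_1 D13103 (iv D12138) (iv F47432)
theorem F51557 : act 1 n13103 = n13103 := d14_1 D13103 (iv D13103) F47433
theorem F51558 : act 2 n13103 = n13103 := d20_1 D13103 (iv D13103) F47434
theorem F51559 : act 3 n13103 = n12077 := d25_1 D13103 (iv D12077) (iv F47435)
theorem F51560 : act 5 n13103 = n12075 := d32_1 D13103 (iv D12075) D12073
def n13104 : Q := act 8 n12076
theorem D13104 : act 8 n12076 = n13104 := rfl
theorem F51561 : act 0 n13104 = n12141 := d7_1 D13104 (iv D12141) (iv F47447)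
theorem F51562 : act 1 n13104 = n13104 := d14_1 D13104 (iv D13104) F47448
theorem F51563 : act 2 n13104 = n12080 := d20_1 D13104 (iv D12080) (iv F47449)
theorem F51564 : act 5 n13104 = n13104 := d32_1 D13104 (iv D13104) F47450
theorem F51565 : act 6 n13104 = n12077 := d34_1 D13104 (iv D12077) D12076
def n13105 : Q := act 7 n12077
theorem D13105 : act 7 n12077 = n13105 := rfl
theorem F51566 : act 0 n13105 = n12142 := d6_1 D13105 (iv D12142) (iv F47451)
theorem F51567 : act 1 n13105 = n13105 := d13_1 D13105 (iv D13105) F47452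
theorem F51568 : act 2 n13105 = n12081 := d19_1 D13105 (iv D12081) (iv F47453)
theorem F51569 : act 5 n13105 = n12078 := d31_1 D13105 (iv D12078) (iv F47454)
def n13106 : Q := act 7 n12080
theorem D13106 : act 7 n12080 = n13106 := rfl
theorem F51570 : act 0 n13106 = n12145 := d6_1 D13106 (iv D12145) (iv F47464)
theorem F51571 : act 1 n13106 = n12088 := d13_1 D13106 (iv D12088) (iv F47465)
theorem F51572 : act 5 n13106 = n13106 := d31_1 D13106 (iv D13106) F47467
theorem F51573 : act 6 n13106 = n12081 := d33_1 D13106 (iv D12081) (iv F47468)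
def n13107 : Q := act 3 n12081
theorem D13107 : act 3 n12081 = n13107 := rfl
theorem F51574 : act 0 n13107 = n12146 := d2_1 D13107 (iv D12146) (iv F47469)
theorem F51575 : act 1 n13107 = n12089 := d9_1 D13107 (iv D12089) (iv F47470)
theorem F51576 : act 5 n13107 = n12082 := d22_2 (iv F47471) D13107 (iv D12082)
theorem F51577 : act 7 n13107 = n13107 := d24_2 D12081 D13107 (iv D13107) (iv D12081) F42077
def n13108 : Q := act 6 n12083
theorem D13108 : act 6 n12083 = n13108 := rfl
theorem F51578 : act 0 n13108 = n12091 := d5_1 D13108 (iv D12091) (iv F47476)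
theorem F51579 : act 2 n13108 = n12203 := d18_1 D13108 F47982 (iv F47477)
theorem F51580 : act 4 n13108 = n13108 := d27_1 D13108 (iv D13108) F47478
theorem F51581 : act 5 n13108 = n12150 := d30_1 D13108 F47737 F42945 (iv F44707) D12083
theorem F51582 : act 7 n13108 = n12084 := d33_2 (iv F47479) D13108 (iv D12084)
def n13109 : Q := act 7 n12086
theorem D13109 : act 7 n12086 = n13109 := rfl
theorem F51583 : act 0 n13109 = n12092 := d6_1 D13109 (iv D12092) (iv F47492)
theorem F51584 : act 2 n13109 = n13109 := d19_1 D13109 (iv D13109) F47493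
theorem F51585 : act 4 n13109 = n12088 := d28_1 D13109 (iv D12088) (iv F47495)
theorem F51586 : act 5 n13109 = n12148 := d31_1 D13109 F47729 (iv F47496)
theorem F51587 : act 6 n13109 = n12087 := d33_1 D13109 (iv D12087) (iv F47497)
def n13110 : Q := act 4 n12093
theorem D13110 : act 4 n12093 = n13110 := rfl
theorem F51588 : act 0 n13110 = n12516 := d3_1 D13110 (iv D12516) (iv F47523)
theorem F51589 : act 1 n13110 = n12158 := d10_1 D13110 (iv D12158) (iv F47524)
theorem F51590 : act 2 n13110 = n12399 := d16_1 D13110 (iv D12399) (iv F47525)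
theorem F51591 : act 6 n13110 = n12401 := d27_2 (iv F47527) D13110 (iv D12401)
theorem F51592 : act 7 n13110 = n13110 := d28_2 F47528 D13110 (iv D13110)
def n13111 : Q := act 8 n12093
theorem D13111 : act 8 n12093 = n13111 := rfl
theorem F51593 : act 0 n13111 = n12517 := d7_1 D13111 (iv D12517) (iv F47523)
theorem F51594 : act 1 n13111 = n12159 := d14_1 D13111 (iv D12159) (iv F47524)
theorem F51595 : act 2 n13111 = n12400 := d20_1 D13111 (iv D12400) (iv F47525)
theorem F51596 : act 3 n13111 = n12094 := d25_1 D13111 (iv D12094) D12093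
theorem F51597 : act 5 n13111 = n13111 := d32_1 D13111 (iv D13111) F47526
theorem F51598 : act 6 n13111 = n12402 := d34_1 D13111 (iv D12402) (iv F47527)
def n13112 : Q := act 5 n12095
theorem D13112 : act 5 n12095 = n13112 := rfl
theorem F51599 : act 0 n13112 = n12494 := d4_1 D13112 (iv D12494) (iv F47533)
theorem F51600 : act 1 n13112 = n13112 := d11_1 D13112 (iv D13112) F47534
theorem F51601 : act 2 n13112 = n12389 := d17_1 D13112 (iv D12389) (iv F47535)
theorem F51602 : act 3 n13112 = n12096 := d22_1 D13112 (iv D12096) D12095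
theorem F51603 : act 6 n13112 = n12712 := d30_2 (iv F47537) D13112 (iv D12712) (iv D11708) (iv F44307)
theorem F51604 : act 8 n13112 = n12637 := d32_2 (iv F47538) D13112 F49719
def n13113 : Q := act 7 n12095
theorem D13113 : act 7 n12095 = n13113 := rfl
theorem F51605 : act 0 n13113 = n12495 := d6_1 D13113 (iv D12495) (iv F47533)
theorem F51606 : act 1 n13113 = n13113 := d13_1 D13113 (iv D13113) F47534
theorem F51607 : act 2 n13113 = n12390 := d19_1 D13113 (iv D12390) (iv F47535)
theorem F51608 : act 4 n13113 = n13113 := d28_1 D13113 (iv D13113) F47536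
theorem F51609 : act 6 n13113 = n12388 := d33_1 D13113 (iv D12388) (iv F47537)
def n13114 : Q := act 4 n12097
theorem D13114 : act 4 n12097 = n13114 := rfl
theorem F51610 : act 1 n13114 = n13114 := d10_1 D13114 (iv D13114) F47542
theorem F51611 : act 2 n13114 = n13114 := d16_1 D13114 (iv D13114) F47543
theorem F51612 : act 5 n13114 = n13114 := d26_2 D12097 D13114 (iv D13114) (iv D12097) F42422
def n13115 : Q := act 6 n12097
theorem D13115 : act 6 n12097 = n13115 := rfl
theorem F51613 : act 1 n13115 = n13115 := d12_1 D13115 (iv D13115) F47542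
theorem F51614 : act 2 n13115 = n13115 := d18_1 D13115 (iv D13115) F47543
theorem F51615 : act 3 n13115 = n12100 := d23_1 D13115 (iv D12100) (iv F47544)
theorem F51616 : act 5 n13115 = n13115 := d30_1 D13115 (iv D13115) (iv D12097) F42423 D12097
def n13116 : Q := act 7 n12097
theorem D13116 : act 7 n12097 = n13116 := rfl
theorem F51617 : act 1 n13116 = n13116 := d13_1 D13116 (iv D13116) F47542
theorem F51618 : act 2 n13116 = n13116 := d19_1 D13116 (iv D13116) F47543
theorem F51619 : act 5 n13116 = n12098 := d31_1 D13116 (iv D12098) D12097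
theorem F51620 : act 8 n13102 = n13116 := d32_0 F51619 F47566 (iv F51554)
def n13117 : Q := act 8 n12097
theorem D13117 : act 8 n12097 = n13117 := rfl
theorem F51621 : act 1 n13117 = n13117 := d14_1 D13117 (iv D13117) F47542
theorem F51622 : act 2 n13117 = n13117 := d20_1 D13117 (iv D13117) F47543
theorem F51623 : act 3 n13117 = n12101 := d25_1 D13117 (iv D12101) (iv F47544)
theorem F51624 : act 5 n13117 = n12099 := d32_1 D13117 (iv D12099) D12097
theorem F51625 : act 7 n13117 = n13103 := d35_1 D13117 (iv D13103) D13102 F51620 (iv D13116)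
theorem F51626 : act 4 n13115 = n13117 := d21_0 F51623 (iv F50094) F50093 (iv F49721) (iv F51615)
theorem F51627 : act 6 n13117 = n13114 := d27_2 D13115 F51626 (iv D13114)
theorem F51628 : act 8 n13114 = n13115 := d29_0 F51626 (iv D13117) D13114
def n13118 : Q := act 8 n12100
theorem D13118 : act 8 n12100 = n13118 := rfl
theorem F51629 : act 1 n13118 = n13118 := d14_1 D13118 (iv D13118) F47554
theorem F51630 : act 2 n13118 = n12104 := d20_1 D13118 (iv D12104) (iv F47555)
theorem F51631 : act 3 n13118 = n13114 := d25_1 D13118 F51628 F51615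
theorem F51632 : act 4 n13118 = n13112 := d29_1 D13118 F51604 (iv F49721)
theorem F51633 : act 5 n13118 = n13118 := d32_1 D13118 (iv D13118) F47556
theorem F51634 : act 6 n13118 = n12101 := d34_1 D13118 (iv D12101) D12100
def n13119 : Q := act 7 n12101
theorem D13119 : act 7 n12101 = n13119 := rfl
theorem F51635 : act 1 n13119 = n13119 := d13_1 D13119 (iv D13119) F47557
theorem F51636 : act 2 n13119 = n12105 := d19_1 D13119 (iv D12105) (iv F47558)
theorem F51637 : act 3 n13119 = n13105 := d24_1 D13119 (iv D13105) (iv F51559) (iv F51625) F51623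
theorem F51638 : act 5 n13119 = n12102 := d31_1 D13119 (iv D12102) (iv F47559)
def n13120 : Q := act 7 n12104
theorem D13120 : act 7 n12104 = n13120 := rfl
theorem F51639 : act 1 n13120 = n12107 := d13_1 D13120 (iv D12107) (iv F47572)
theorem F51640 : act 5 n13120 = n13120 := d31_1 D13120 (iv D13120) F47574
theorem F51641 : act 6 n13120 = n12105 := d33_1 D13120 (iv D12105) (iv F47575)
def n13121 : Q := act 3 n12105
theorem D13121 : act 3 n12105 = n13121 := rfl
theorem F51642 : act 1 n13121 = n12108 := d9_1 D13121 (iv D12108) (iv F47576)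
theorem F51643 : act 2 n13121 = n13107 := d15_1 D13121 (iv D13107) (iv F51568) (iv F51637) F51636
theorem F51644 : act 5 n13121 = n12106 := d22_2 (iv F47577) D13121 (iv D12106)
theorem F51645 : act 7 n13121 = n13121 := d24_2 D12105 D13121 (iv D13121) (iv D12105) F42437
def n13122 : Q := act 4 n12110
theorem D13122 : act 4 n12110 = n13122 := rfl
theorem F51646 : act 1 n13122 = n12164 := d10_1 D13122 (iv D12164) (iv F47596)
theorem F51647 : act 6 n13122 = n12113 := d27_2 (iv F47597) D13122 (iv D12113)
theorem F51648 : act 7 n13122 = n13122 := d28_2 F47598 D13122 (iv D13122)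
def n13123 : Q := act 8 n12110
theorem D13123 : act 8 n12110 = n13123 := rfl
theorem F51649 : act 1 n13123 = n12165 := d14_1 D13123 (iv D12165) (iv F47596)
theorem F51650 : act 3 n13123 = n12111 := d25_1 D13123 (iv D12111) D12110
theorem F51651 : act 5 n13123 = n12931 := d32_1 D13123 F50867 (iv F47713)
theorem F51652 : act 6 n13123 = n12114 := d34_1 D13123 (iv D12114) (iv F47597)
def n13124 : Q := act 4 n12112
theorem D13124 : act 4 n12112 = n13124 := rfl
theorem F51653 : act 1 n13124 = n13124 := d10_1 D13124 (iv D13124) F47602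
theorem F51654 : act 2 n13124 = n12113 := d16_1 D13124 (iv D12113) D12112
theorem F51655 : act 7 n13124 = n13124 := d28_2 F47605 D13124 (iv D13124)
def n13125 : Q := act 8 n12112
theorem D13125 : act 8 n12112 = n13125 := rfl
theorem F51656 : act 1 n13125 = n13125 := d14_1 D13125 (iv D13125) F47602
theorem F51657 : act 2 n13125 = n12114 := d20_1 D13125 (iv D12114) D12112
theorem F51658 : act 3 n13125 = n12116 := d25_1 D13125 (iv D12116) (iv F47603)
theorem F51659 : act 5 n13125 = n13125 := d32_1 D13125 (iv D13125) F47604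
def n13126 : Q := act 5 n12113
theorem D13126 : act 5 n12113 = n13126 := rfl
theorem F51660 : act 1 n13126 = n12166 := d11_1 D13126 (iv D12166) (iv F47606)
theorem F51661 : act 4 n13126 = n13126 := d26_1 D13126 (iv D13126) (iv D12113) F42739 D12113
theorem F51662 : act 7 n13126 = n13126 := d31_2 F47607 D13126 (iv D13126)
def n13127 : Q := act 8 n12113
theorem D13127 : act 8 n12113 = n13127 := rfl
theorem F51663 : act 1 n13127 = n12167 := d14_1 D13127 (iv D12167) (iv F47606)
theorem F51664 : act 4 n13127 = n12114 := d29_1 D13127 (iv D12114) D12113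
def n13128 : Q := act 7 n12114
theorem D13128 : act 7 n12114 = n13128 := rfl
theorem F51665 : act 1 n13128 = n12168 := d13_1 D13128 (iv D12168) (iv F47608)
theorem F51666 : act 5 n13128 = n13128 := d31_1 D13128 (iv D13128) F47610
theorem F51667 : act 8 n13128 = n13128 := d35_2 D12114 D13128 (iv D13128) (iv D12114) F42740
def n13129 : Q := act 3 n12115
theorem D13129 : act 3 n12115 = n13129 := rfl
theorem F51668 : act 1 n13129 = n13129 := d9_1 D13129 (iv D13129) F47611
def n13130 : Q := act 5 n12115
theorem D13130 : act 5 n12115 = n13130 := rfl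
theorem F51669 : act 1 n13130 = n13130 := d11_1 D13130 (iv D13130) F47611
theorem F51670 : act 2 n13130 = n12117 := d17_1 D13130 (iv D12117) (iv F47612)
theorem F51671 : act 4 n13130 = n13130 := d26_1 D13130 (iv D13130) (iv D12115) F42756 D12115
theorem F51672 : act 7 n13130 = n12120 := d31_2 (iv F47613) D13130 (iv D12120)
def n13131 : Q := act 8 n12115
theorem D13131 : act 8 n12115 = n13131 := rfl
theorem F51673 : act 1 n13131 = n13131 := d14_1 D13131 (iv D13131) F47611
theorem F51674 : act 2 n13131 = n12118 := d20_1 D13131 (iv D12118) (iv F47612)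
theorem F51675 : act 4 n13131 = n12116 := d29_1 D13131 (iv D12116) D12115
def n13132 : Q := act 6 n12117
theorem D13132 : act 6 n12117 = n13132 := rfl
theorem F51676 : act 1 n13132 = n12148 := d12_1 D13132 (iv D12148) (iv F47617)
theorem F51677 : act 4 n13132 = n13132 := d27_1 D13132 (iv D13132) F47618
theorem F51678 : act 7 n13132 = n12121 := d33_2 (iv F47619) D13132 (iv D12121)
def n13133 : Q := act 8 n12117
theorem D13133 : act 8 n12117 = n13133 := rfl
theorem F51679 : act 1 n13133 = n12149 := d14_1 D13133 (iv D12149) (iv F47617)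
theorem F51680 : act 4 n13133 = n13133 := d29_1 D13133 (iv D13133) F47618
theorem F51681 : act 5 n13133 = n12118 := d32_1 D13133 (iv D12118) D12117
def n13134 : Q := act 5 n12119
theorem D13134 : act 5 n12119 = n13134 := rfl
theorem F51682 : act 1 n13134 = n13134 := d11_1 D13134 (iv D13134) F47622
theorem F51683 : act 2 n13134 = n12125 := d17_1 D13134 (iv D12125) (iv F47623)
theorem F51684 : act 3 n13134 = n12120 := d22_1 D13134 (iv D12120) D12119
def n13135 : Q := act 7 n12119
theorem D13135 : act 7 n12119 = n13135 := rfl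
theorem F51685 : act 1 n13135 = n13135 := d13_1 D13135 (iv D13135) F47622
theorem F51686 : act 2 n13135 = n12126 := d19_1 D13135 (iv D12126) (iv F47623)
theorem F51687 : act 4 n13135 = n13135 := d28_1 D13135 (iv D13135) F47624
def n13136 : Q := act 6 n12120
theorem D13136 : act 6 n12120 = n13136 := rfl
theorem F51688 : act 1 n13136 = n13136 := d12_1 D13136 (iv D13136) F47625
theorem F51689 : act 2 n13136 = n12121 := d18_1 D13136 (iv D12121) (iv F47626)
theorem F51690 : act 4 n13136 = n13136 := d27_1 D13136 (iv D13136) F47627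
def n13137 : Q := act 5 n12122
theorem D13137 : act 5 n12122 = n13137 := rfl
theorem F51691 : act 1 n13137 = n12170 := d11_1 D13137 (iv D12170) (iv F47631)
theorem F51692 : act 3 n13137 = n12123 := d22_1 D13137 (iv D12123) D12122
def n13138 : Q := act 7 n12122
theorem D13138 : act 7 n12122 = n13138 := rfl
theorem F51693 : act 1 n13138 = n12171 := d13_1 D13138 (iv D12171) (iv F47631)
theorem F51694 : act 4 n13138 = n13138 := d28_1 D13138 (iv D13138) F47632
theorem F51695 : act 6 n13138 = n12126 := d33_1 D13138 (iv D12126) (iv F47633)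
def n13139 : Q := act 6 n12123
theorem D13139 : act 6 n12123 = n13139 := rfl
theorem F51696 : act 1 n13139 = n12173 := d12_1 D13139 (iv D12173) (iv F47634)
theorem F51697 : act 2 n13139 = n12124 := d18_1 D13139 (iv D12124) (iv F47635)
theorem F51698 : act 4 n13139 = n13139 := d27_1 D13139 (iv D13139) F47636
theorem F51699 : act 5 n13139 = n12128 := d30_1 D13139 (iv D12128) (iv D11015) (iv F42796) D12123
def n13140 : Q := act 4 n12125
theorem D13140 : act 4 n12125 = n13140 := rfl
theorem F51700 : act 1 n13140 = n12180 := d10_1 D13140 (iv D12180) (iv F47640)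
theorem F51701 : act 3 n13140 = n12135 := d21_1 D13140 (iv D12135) F42830 (iv F42814) (iv F47641)
theorem F51702 : act 5 n13140 = n13140 := d26_2 D12125 D13140 (iv D13140) (iv D12125) F42811
theorem F51703 : act 6 n12924 = n13140 := d23_0 F51701 F47968 (iv F50832)
theorem F51704 : act 7 n12923 = n13140 := d24_0 F51701 (iv F47960) F47672 (iv F46728) (iv F50829)
def n13141 : Q := act 6 n12125
theorem D13141 : act 6 n12125 = n13141 := rfl
theorem F51705 : act 1 n13141 = n12181 := d12_1 D13141 (iv D12181) (iv F47640)
theorem F51706 : act 3 n13141 = n12128 := d23_1 D13141 (iv D12128) (iv F47641)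
theorem F51707 : act 4 n13141 = n12924 := d27_1 D13141 F51703 (iv D13140)
theorem F51708 : act 7 n12922 = n13141 := d28_0 F51707 (iv D12924) D12922
def n13142 : Q := act 7 n12125
theorem D13142 : act 7 n12125 = n13142 := rfl
theorem F51709 : act 1 n13142 = n12182 := d13_1 D13142 (iv D12182) (iv F47640)
theorem F51710 : act 4 n13142 = n12923 := d28_1 D13142 F51704 (iv D13140)
theorem F51711 : act 5 n13142 = n12126 := d31_1 D13142 (iv D12126) D12125
theorem F51712 : act 6 n13142 = n12922 := d33_1 D13142 F51708 (iv D13141)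
def n13143 : Q := act 8 n12125
theorem D13143 : act 8 n12125 = n13143 := rfl
theorem F51713 : act 1 n13143 = n12183 := d14_1 D13143 (iv D12183) (iv F47640)
theorem F51714 : act 3 n13143 = n12129 := d25_1 D13143 (iv D12129) (iv F47641)
theorem F51715 : act 5 n13143 = n12127 := d32_1 D13143 (iv D12127) D12125
def n13144 : Q := act 8 n12126
theorem D13144 : act 8 n12126 = n13144 := rfl
theorem F51716 : act 1 n13144 = n12184 := d14_1 D13144 (iv D12184) (iv F47642)
theorem F51717 : act 4 n13144 = n13144 := d29_1 D13144 (iv D13144) F47643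
def n13145 : Q := act 7 n12127
theorem D13145 : act 7 n12127 = n13145 := rfl
theorem F51718 : act 1 n13145 = n12185 := d13_1 D13145 (iv D12185) (iv F47644)
theorem F51719 : act 4 n13145 = n13145 := d28_1 D13145 (iv D13145) F47646
def n13146 : Q := act 8 n12128
theorem D13146 : act 8 n12128 = n13146 := rfl
theorem F51720 : act 1 n13146 = n12186 := d14_1 D13146 (iv D12186) (iv F47647)
theorem F51721 : act 2 n13146 = n12132 := d20_1 D13146 (iv D12132) (iv F47648)
theorem F51722 : act 4 n13146 = n12141 := d29_1 D13146 (iv D12141) (iv F47649)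
theorem F51723 : act 6 n13146 = n12129 := d34_1 D13146 (iv D12129) D12128
def n13147 : Q := act 7 n12129
theorem D13147 : act 7 n12129 = n13147 := rfl
theorem F51724 : act 1 n13147 = n12187 := d13_1 D13147 (iv D12187) (iv F47650)
theorem F51725 : act 2 n13147 = n12133 := d19_1 D13147 (iv D12133) (iv F47651)
theorem F51726 : act 4 n13147 = n12142 := d28_1 D13147 (iv D12142) (iv F47652)
theorem F51727 : act 5 n13147 = n12130 := d31_1 D13147 (iv D12130) (iv F47653)
def n13148 : Q := act 3 n12130
theorem D13148 : act 3 n12130 = n13148 := rfl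
theorem F51728 : act 1 n13148 = n12188 := d9_1 D13148 (iv D12188) (iv F47654)
def n13149 : Q := act 4 n12131
theorem D13149 : act 4 n12131 = n13149 := rfl
theorem F51729 : act 1 n13149 = n12189 := d10_1 D13149 (iv D12189) (iv F47657)
theorem F51730 : act 5 n13149 = n13122 := d26_2 (iv F47658) D13149 (iv D13122) F47713 (iv D12144)
theorem F51731 : act 7 n13149 = n13149 := d28_2 F47659 D13149 (iv D13149)
def n13150 : Q := act 7 n12132
theorem D13150 : act 7 n12132 = n13150 := rfl
theorem F51732 : act 1 n13150 = n12150 := d13_1 D13150 (iv D12150) (iv F47660)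
theorem F51733 : act 4 n13150 = n12145 := d28_1 D13150 (iv D12145) (iv F47661)
theorem F51734 : act 6 n13150 = n12133 := d33_1 D13150 (iv D12133) (iv F47662)
def n13151 : Q := act 3 n12133
theorem D13151 : act 3 n12133 = n13151 := rfl
theorem F51735 : act 1 n13151 = n12151 := d9_1 D13151 (iv D12151) (iv F47663)
theorem F51736 : act 5 n13151 = n12134 := d22_2 (iv F47665) D13151 (iv D12134)
def n13152 : Q := act 2 n12134
theorem D13152 : act 2 n12134 = n13152 := rfl
def n13153 : Q := act 8 n12135
theorem D13153 : act 8 n12135 = n13153 := rfl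
theorem F51737 : act 1 n13153 = n12195 := d14_1 D13153 (iv D12195) (iv F47667)
theorem F51738 : act 2 n13153 = n13153 := d20_1 D13153 (iv D13153) F47668
theorem F51739 : act 4 n13153 = n12138 := d29_1 D13153 (iv D12138) D12135
theorem F51740 : act 5 n13153 = n13153 := d32_1 D13153 (iv D13153) F47669
def n13154 : Q := act 8 n12136
theorem D13154 : act 8 n12136 = n13154 := rfl
theorem F51741 : act 1 n13154 = n12197 := d14_1 D13154 (iv D12197) (iv F47670)
theorem F51742 : act 2 n13154 = n13154 := d20_1 D13154 (iv D13154) F47671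
theorem F51743 : act 3 n13154 = n12141 := d25_1 D13154 (iv D12141) (iv F47672)
theorem F51744 : act 5 n13154 = n13154 := d32_1 D13154 (iv D13154) F47673
theorem F51745 : act 6 n13154 = n12138 := d34_1 D13154 (iv D12138) D12136
def n13155 : Q := act 8 n12137
theorem D13155 : act 8 n12137 = n13155 := rfl
theorem F51746 : act 0 n13155 = n13116 := d7_1 D13155 (iv F51620) F51550
theorem F51747 : act 1 n13155 = n12198 := d14_1 D13155 (iv D12198) (iv F47674)
theorem F51748 : act 2 n13155 = n13155 := d20_1 D13155 (iv D13155) F47675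
theorem F51749 : act 4 n13155 = n13154 := d29_1 D13155 (iv D13154) (iv F47967)
theorem F51750 : act 5 n13155 = n12139 := d32_1 D13155 (iv D12139) (iv F47676)
theorem F51751 : act 6 n13155 = n13153 := d34_1 D13155 (iv D13153) F47968
theorem F51752 : act 7 n13078 = n13155 := d31_0 F51750 (iv F47686) D13078
def n13156 : Q := act 7 n12138
theorem D13156 : act 7 n12138 = n13156 := rfl
theorem F51753 : act 0 n13156 = n13117 := d6_1 D13156 F51625 F51556
theorem F51754 : act 1 n13156 = n12199 := d13_1 D13156 (iv D12199) (iv F47677)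
theorem F51755 : act 2 n13156 = n13156 := d19_1 D13156 (iv D13156) F47678
theorem F51756 : act 5 n13156 = n12140 := d31_1 D13156 (iv D12140) (iv F47680)
theorem F51757 : act 8 n13156 = n13078 := d35_2 D12138 D13156 F51752 (iv D13155) (iv D12137)
theorem F51758 : act 3 n12872 = n13156 := d25_3 F51757 F51435 (iv F50687)
def n13157 : Q := act 7 n12141
theorem D13157 : act 7 n12141 = n13157 := rfl
theorem F51759 : act 1 n13157 = n12201 := d13_1 D13157 (iv D12201) (iv F47694)
theorem F51760 : act 2 n13157 = n12145 := d19_1 D13157 (iv D12145) (iv F47695)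
theorem F51761 : act 5 n13157 = n13157 := d31_1 D13157 (iv D13157) F47696
theorem F51762 : act 6 n13157 = n12142 := d33_1 D13157 (iv D12142) (iv F47697)
def n13158 : Q := act 3 n12142
theorem D13158 : act 3 n12142 = n13158 := rfl
theorem F51763 : act 0 n13158 = n13119 := d2_1 D13158 F51637 F51566
theorem F51764 : act 1 n13158 = n12202 := d9_1 D13158 (iv D12202) (iv F47698)
theorem F51765 : act 5 n13158 = n12143 := d22_2 (iv F47700) D13158 (iv D12143)
theorem F51766 : act 7 n13158 = n12872 := d24_2 D12142 D13158 F51758 (iv D13156) F47679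
theorem F51767 : act 2 n13158 = n12879 := d37_4 D12130 (iv F51727) F51726 D13158 F50703 F46749 (iv D10456) F44970 F25502 F18874 F14010 F10453 F7834 F7838 (iv F7890) F44803 F5998 F4607 (iv F6134) (iv F8134) (iv D1985) F6107 F6106 F6105 (iv F5706) (iv F38243) F5745 D1372 F5769 F5768 (iv F5678) (iv F7556) F7555 (iv F10092) (iv D2499) (iv D1826) (iv F7251) F7250 (iv D1752) (iv F5609) F5608 D1333 (iv F7505) (iv F10046) (iv F38142) (iv F17975) (iv F23928) (iv F32327) D10295 F40261 F32332 D8481 F32339 (iv F40207) F40206 F32740 F25985 D9301 (iv F44711) (iv F47412) F47411 F47410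
theorem F51768 : act 4 n12873 = n13158 := d37_2 D11854 (iv F50690) (iv D13158) F47699 F42857 F35317 (iv D6825) F19353 F14358 F10692 F7980 F5986 F4499 (iv F5956) F44869 F7877 F5905 F4440 (iv F4169) (iv F38420) F4363 F4362 F4361 (iv D1014) (iv F4343) (iv F5766) (iv F7669) (iv D1867) F5747 (iv D1367) F4313 F3268 F2632 F2631 (iv F2597) (iv D574) (iv D421) F1478 (iv F1840) (iv D393) (iv F1722) F1724 (iv F1732) D501 D678 F3014 (iv F3956) (iv F5233) D1681 (iv F9288) F38429 (iv F13335) (iv F17937) (iv F24178) (iv F32297) (iv D8469) F23867 (iv F32293) (iv F40188) (iv F46107) F46106 F46105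
def n13159 : Q := act 2 n12146
theorem D13159 : act 2 n12146 = n13159 := rfl
theorem F51769 : act 0 n13159 = n13121 := d1_1 D13159 F51643 F51574
theorem F51770 : act 1 n13159 = n12653 := d8_1 D13159 (iv D12653) F45836 (iv F45181) (iv F47717)
theorem F51771 : act 3 n13159 = n12879 := d15_2 D12146 D13159 (iv F51767) (iv D13158) F47699
theorem F51772 : act 4 n13159 = n12694 := d16_2 F48888 D13159 F50018
theorem F51773 : act 5 n13159 = n12147 := d17_2 (iv F47718) D13159 (iv D12147)
theorem F51774 : act 6 n13159 = n12655 := d18_2 F48547 D13159 F49816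
theorem F51775 : act 7 n13159 = n13159 := d19_2 F47719 D13159 (iv D13159)
def n13160 : Q := act 8 n12148
theorem D13160 : act 8 n12148 = n13160 := rfl
theorem F51776 : act 0 n13160 = n12154 := d7_1 D13160 (iv D12154) (iv F47726)
theorem F51777 : act 2 n13160 = n13160 := d20_1 D13160 (iv D13160) F47727
theorem F51778 : act 4 n13160 = n13160 := d29_1 D13160 (iv D13160) F47728
theorem F51779 : act 6 n13160 = n12149 := d34_1 D13160 (iv D12149) D12148
def n13161 : Q := act 1 n12152
theorem D13161 : act 1 n12152 = n13161 := rfl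
theorem F51780 : act 3 n13161 = n12206 := d9_2 (iv F47741) D13161 (iv D12206)
def n13162 : Q := act 4 n12155
theorem D13162 : act 4 n12155 = n13162 := rfl
theorem F51781 : act 0 n13162 = n13162 := d3_1 D13162 (iv D13162) F47752
theorem F51782 : act 1 n13162 = n12401 := d10_1 D13162 (iv D12401) (iv F47753)
theorem F51783 : act 2 n13162 = n12351 := d16_1 D13162 (iv D12351) (iv F47754)
theorem F51784 : act 6 n13162 = n12158 := d27_2 (iv F47756) D13162 (iv D12158)
theorem F51785 : act 7 n13162 = n13162 := d28_2 F47757 D13162 (iv D13162)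
def n13163 : Q := act 8 n12155
theorem D13163 : act 8 n12155 = n13163 := rfl
theorem F51786 : act 0 n13163 = n13163 := d7_1 D13163 (iv D13163) F47752
theorem F51787 : act 1 n13163 = n12402 := d14_1 D13163 (iv D12402) (iv F47753)
theorem F51788 : act 2 n13163 = n12352 := d20_1 D13163 (iv D12352) (iv F47754)
theorem F51789 : act 3 n13163 = n12156 := d25_1 D13163 (iv D12156) D12155
theorem F51790 : act 5 n13163 = n12354 := d32_1 D13163 (iv D12354) (iv F47755)
theorem F51791 : act 6 n13163 = n12159 := d34_1 D13163 (iv D12159) (iv F47756)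
def n13164 : Q := act 8 n12157
theorem D13164 : act 8 n12157 = n13164 := rfl
theorem F51792 : act 0 n13164 = n13164 := d7_1 D13164 (iv D13164) F47762
theorem F51793 : act 1 n13164 = n12358 := d14_1 D13164 (iv D12358) (iv F47763)
theorem F51794 : act 2 n13164 = n12159 := d20_1 D13164 (iv D12159) D12157
theorem F51795 : act 3 n13164 = n12160 := d25_1 D13164 (iv D12160) (iv F47764)
theorem F51796 : act 4 n13164 = n13043 := d29_1 D13164 F51287 F47909
theorem F51797 : act 5 n13164 = n13164 := d32_1 D13164 (iv D13164) F47765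
theorem F51798 : act 6 n13164 = n12352 := d34_1 D13164 (iv D12352) (iv F47766)
def n13165 : Q := act 8 n12158
theorem D13165 : act 8 n12158 = n13165 := rfl
theorem F51799 : act 0 n13165 = n13165 := d7_1 D13165 (iv D13165) F47768
theorem F51800 : act 2 n13165 = n13043 := d20_1 D13165 F51287 (iv F47912)
theorem F51801 : act 4 n13165 = n12159 := d29_1 D13165 (iv D12159) D12158
theorem F51802 : act 5 n13165 = n13044 := d32_1 D13165 F51290 F47915
def n13166 : Q := act 7 n12159
theorem D13166 : act 7 n12159 = n13166 := rfl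
theorem F51803 : act 0 n13166 = n13166 := d6_1 D13166 (iv D13166) F47770
theorem F51804 : act 3 n13166 = n12168 := d24_1 D13166 (iv D12168) F43342 (iv F43051) (iv F47771)
theorem F51805 : act 5 n13166 = n13166 := d31_1 D13166 (iv D13166) F47772
theorem F51806 : act 8 n13166 = n13166 := d35_2 D12159 D13166 (iv D13166) (iv D12159) F43047
def n13167 : Q := act 8 n12164
theorem D13167 : act 8 n12164 = n13167 := rfl
theorem F51807 : act 0 n13167 = n13167 := d7_1 D13167 (iv D13167) F47800
theorem F51808 : act 2 n13167 = n13167 := d20_1 D13167 (iv D13167) F47801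
theorem F51809 : act 4 n13167 = n12165 := d29_1 D13167 (iv D12165) D12164
theorem F51810 : act 5 n13167 = n13041 := d32_1 D13167 F51278 F47901
theorem F51811 : act 6 n13167 = n12167 := d34_1 D13167 (iv D12167) (iv F47802)
def n13168 : Q := act 7 n12165
theorem D13168 : act 7 n12165 = n13168 := rfl
theorem F51812 : act 0 n13168 = n13168 := d6_1 D13168 (iv D13168) F47804
theorem F51813 : act 2 n13168 = n13168 := d19_1 D13168 (iv D13168) F47805
theorem F51814 : act 5 n13168 = n12330 := d31_1 D13168 F48385 (iv F47807)
theorem F51815 : act 6 n13168 = n12168 := d33_1 D13168 (iv D12168) (iv F47808)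
theorem F51816 : act 8 n13168 = n13168 := d35_2 D12165 D13168 (iv D13168) (iv D12165) F43333
def n13169 : Q := act 6 n12166
theorem D13169 : act 6 n12166 = n13169 := rfl
theorem F51817 : act 0 n13169 = n13169 := d5_1 D13169 (iv D13169) F47809
theorem F51818 : act 2 n13169 = n13169 := d18_1 D13169 (iv D13169) F47810
theorem F51819 : act 4 n13169 = n13169 := d27_1 D13169 (iv D13169) F47811
theorem F51820 : act 7 n13169 = n13169 := d33_2 F47812 D13169 (iv D13169)
def n13170 : Q := act 8 n12166
theorem D13170 : act 8 n12166 = n13170 := rfl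
theorem F51821 : act 0 n13170 = n13170 := d7_1 D13170 (iv D13170) F47809
theorem F51822 : act 2 n13170 = n13170 := d20_1 D13170 (iv D13170) F47810
theorem F51823 : act 4 n13170 = n13170 := d29_1 D13170 (iv D13170) F47811
theorem F51824 : act 5 n13170 = n12167 := d32_1 D13170 (iv D12167) D12166
def n13171 : Q := act 7 n12167
theorem D13171 : act 7 n12167 = n13171 := rfl
theorem F51825 : act 0 n13171 = n13171 := d6_1 D13171 (iv D13171) F47813
theorem F51826 : act 2 n13171 = n13171 := d19_1 D13171 (iv D13171) F47814
theorem F51827 : act 4 n13171 = n12168 := d28_1 D13171 (iv D12168) (iv F47815)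
theorem F51828 : act 8 n13171 = n13171 := d35_2 D12167 D13171 (iv D13171) (iv D12167) F43339
def n13172 : Q := act 4 n12170
theorem D13172 : act 4 n12170 = n13172 := rfl
theorem F51829 : act 0 n13172 = n13172 := d3_1 D13172 (iv D13172) F47826
theorem F51830 : act 2 n13172 = n13172 := d16_1 D13172 (iv D13172) F47827
theorem F51831 : act 3 n13172 = n13172 := d21_1 D13172 (iv D13172) F47828 F43362 (iv F47828)
theorem F51832 : act 5 n13172 = n13172 := d26_2 D12170 D13172 (iv D13172) (iv D12170) F43358
def n13173 : Q := act 6 n12170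
theorem D13173 : act 6 n12170 = n13173 := rfl
theorem F51833 : act 0 n13173 = n13173 := d5_1 D13173 (iv D13173) F47826
theorem F51834 : act 2 n13173 = n13173 := d18_1 D13173 (iv D13173) F47827
theorem F51835 : act 3 n13173 = n12173 := d23_1 D13173 (iv D12173) (iv F47828)
theorem F51836 : act 5 n13173 = n12181 := d30_1 D13173 (iv D12181) (iv D11166) (iv F43359) D12170
theorem F51837 : act 4 n12323 = n13173 := d26_5 F51836 (iv F47964) F47150 (iv F43965) (iv F48357)
theorem F51838 : act 7 n12321 = n13173 := d31_0 F51836 F47965 (iv F48349)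
theorem F51839 : act 6 n13172 = n12323 := d27_0 F51837 (iv D13173) D13172
theorem F51840 : act 7 n12322 = n13172 := d33_0 F51839 (iv D12323) D12322
def n13174 : Q := act 7 n12170
theorem D13174 : act 7 n12170 = n13174 := rfl
theorem F51841 : act 0 n13174 = n13174 := d6_1 D13174 (iv D13174) F47826
theorem F51842 : act 2 n13174 = n13174 := d19_1 D13174 (iv D13174) F47827
theorem F51843 : act 4 n13174 = n12322 := d28_1 D13174 F51840 (iv D13172)
theorem F51844 : act 5 n13174 = n12171 := d31_1 D13174 (iv D12171) D12170
theorem F51845 : act 6 n13174 = n12321 := d33_1 D13174 F51838 (iv D13173)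
def n13175 : Q := act 8 n12170
theorem D13175 : act 8 n12170 = n13175 := rfl
theorem F51846 : act 0 n13175 = n13175 := d7_1 D13175 (iv D13175) F47826
theorem F51847 : act 2 n13175 = n13175 := d20_1 D13175 (iv D13175) F47827
theorem F51848 : act 3 n13175 = n12174 := d25_1 D13175 (iv D12174) (iv F47828)
theorem F51849 : act 5 n13175 = n12172 := d32_1 D13175 (iv D12172) D12170
def n13176 : Q := act 8 n12171
theorem D13176 : act 8 n12171 = n13176 := rfl
theorem F51850 : act 0 n13176 = n13176 := d7_1 D13176 (iv D13176) F47829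
theorem F51851 : act 2 n13176 = n13176 := d20_1 D13176 (iv D13176) F47830
theorem F51852 : act 4 n13176 = n13176 := d29_1 D13176 (iv D13176) F47831
theorem F51853 : act 6 n13176 = n12184 := d34_1 D13176 (iv D12184) (iv F47832)
def n13177 : Q := act 7 n12172
theorem D13177 : act 7 n12172 = n13177 := rfl
theorem F51854 : act 0 n13177 = n13177 := d6_1 D13177 (iv D13177) F47833
theorem F51855 : act 2 n13177 = n13177 := d19_1 D13177 (iv D13177) F47834
theorem F51856 : act 4 n13177 = n13177 := d28_1 D13177 (iv D13177) F47836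
theorem F51857 : act 6 n13177 = n12185 := d33_1 D13177 (iv D12185) (iv F47837)
def n13178 : Q := act 8 n12173
theorem D13178 : act 8 n12173 = n13178 := rfl
theorem F51858 : act 0 n13178 = n13178 := d7_1 D13178 (iv D13178) F47838
theorem F51859 : act 2 n13178 = n12177 := d20_1 D13178 (iv D12177) (iv F47839)
theorem F51860 : act 4 n13178 = n13178 := d29_1 D13178 (iv D13178) F47840
theorem F51861 : act 5 n13178 = n12186 := d32_1 D13178 (iv D12186) (iv F47841)
theorem F51862 : act 6 n13178 = n12174 := d34_1 D13178 (iv D12174) D12173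
def n13179 : Q := act 7 n12174
theorem D13179 : act 7 n12174 = n13179 := rfl
theorem F51863 : act 0 n13179 = n13179 := d6_1 D13179 (iv D13179) F47842
theorem F51864 : act 2 n13179 = n12178 := d19_1 D13179 (iv D12178) (iv F47843)
theorem F51865 : act 4 n13179 = n13179 := d28_1 D13179 (iv D13179) F47844
theorem F51866 : act 5 n13179 = n12175 := d31_1 D13179 (iv D12175) (iv F47845)
def n13180 : Q := act 3 n12175
theorem D13180 : act 3 n12175 = n13180 := rfl
theorem F51867 : act 0 n13180 = n13180 := d2_1 D13180 (iv D13180) F47846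
theorem F51868 : act 6 n13180 = n12188 := d23_2 (iv F47849) D13180 (iv D12188)
def n13181 : Q := act 4 n12176
theorem D13181 : act 4 n12176 = n13181 := rfl
theorem F51869 : act 0 n13181 = n13181 := d3_1 D13181 (iv D13181) F47850
theorem F51870 : act 2 n13181 = n13181 := d16_1 D13181 (iv D13181) F47851
theorem F51871 : act 6 n13181 = n12189 := d27_2 (iv F47853) D13181 (iv D12189)
theorem F51872 : act 7 n13181 = n13181 := d28_2 F47854 D13181 (iv D13181)
theorem F51873 : act 5 n13169 = n13181 := d30_5 F51871 F47901 F47802 D12166 D13169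
def n13182 : Q := act 7 n12177
theorem D13182 : act 7 n12177 = n13182 := rfl
theorem F51874 : act 0 n13182 = n13182 := d6_1 D13182 (iv D13182) F47855
theorem F51875 : act 1 n13182 = n12203 := d13_1 D13182 (iv D12203) (iv F47856)
theorem F51876 : act 4 n13182 = n13182 := d28_1 D13182 (iv D13182) F47858
theorem F51877 : act 5 n13182 = n12190 := d31_1 D13182 (iv D12190) (iv F47859)
theorem F51878 : act 6 n13182 = n12178 := d33_1 D13182 (iv D12178) (iv F47860)
def n13183 : Q := act 3 n12178
theorem D13183 : act 3 n12178 = n13183 := rfl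
theorem F51879 : act 0 n13183 = n13183 := d2_1 D13183 (iv D13183) F47861
theorem F51880 : act 1 n13183 = n12204 := d9_1 D13183 (iv D12204) (iv F47862)
theorem F51881 : act 5 n13183 = n12179 := d22_2 (iv F47864) D13183 (iv D12179)
theorem F51882 : act 7 n13183 = n13183 := d24_2 D12178 D13183 (iv D13183) (iv D12178) F43378
def n13184 : Q := act 2 n12179
theorem D13184 : act 2 n12179 = n13184 := rfl
theorem F51883 : act 0 n13184 = n13184 := d1_1 D13184 (iv D13184) F47865
theorem F51884 : act 4 n13184 = n13184 := d16_2 F47867 D13184 (iv D13184)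
theorem F51885 : act 6 n13184 = n12192 := d18_2 (iv F47868) D13184 (iv D12192)
theorem F51886 : act 7 n13184 = n13184 := d19_2 F47869 D13184 (iv D13184)
def n13185 : Q := act 8 n12180
theorem D13185 : act 8 n12180 = n13185 := rfl
theorem F51887 : act 0 n13185 = n13185 := d7_1 D13185 (iv D13185) F47870
theorem F51888 : act 2 n13185 = n13185 := d20_1 D13185 (iv D13185) F47871
theorem F51889 : act 3 n13185 = n12195 := d25_1 D13185 (iv D12195) (iv F47872)
theorem F51890 : act 4 n13185 = n12183 := d29_1 D13185 (iv D12183) D12180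
theorem F51891 : act 5 n13185 = n13185 := d32_1 D13185 (iv D13185) F47873
theorem F51892 : act 6 n13185 = n13047 := d34_1 D13185 (iv D13047) (iv F47963)
def n13186 : Q := act 8 n12181
theorem D13186 : act 8 n12181 = n13186 := rfl
theorem F51893 : act 0 n13186 = n13186 := d7_1 D13186 (iv D13186) F47874
theorem F51894 : act 2 n13186 = n13186 := d20_1 D13186 (iv D13186) F47875
theorem F51895 : act 3 n13186 = n12186 := d25_1 D13186 (iv D12186) (iv F47876)
theorem F51896 : act 4 n13186 = n13047 := d29_1 D13186 (iv D13047) F47964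
theorem F51897 : act 6 n13186 = n12183 := d34_1 D13186 (iv D12183) D12181
def n13187 : Q := act 8 n12182
theorem D13187 : act 8 n12182 = n13187 := rfl
theorem F51898 : act 0 n13187 = n13187 := d7_1 D13187 (iv D13187) F47877
theorem F51899 : act 2 n13187 = n13187 := d20_1 D13187 (iv D13187) F47878
theorem F51900 : act 4 n13187 = n13046 := d29_1 D13187 (iv D13046) (iv F47962)
theorem F51901 : act 5 n13187 = n12184 := d32_1 D13187 (iv D12184) (iv F47879)
theorem F51902 : act 6 n13187 = n13045 := d34_1 D13187 (iv D13045) F47966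
def n13188 : Q := act 7 n12183
theorem D13188 : act 7 n12183 = n13188 := rfl
theorem F51903 : act 0 n13188 = n13188 := d6_1 D13188 (iv D13188) F47880
theorem F51904 : act 2 n13188 = n13188 := d19_1 D13188 (iv D13188) F47881
theorem F51905 : act 5 n13188 = n12185 := d31_1 D13188 (iv D12185) (iv F47883)
def n13189 : Q := act 7 n12184
theorem D13189 : act 7 n12184 = n13189 := rfl
theorem F51906 : act 0 n13189 = n13189 := d6_1 D13189 (iv D13189) F47884
theorem F51907 : act 2 n13189 = n13189 := d19_1 D13189 (iv D13189) F47885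
theorem F51908 : act 4 n13189 = n13189 := d28_1 D13189 (iv D13189) F47886
theorem F51909 : act 8 n13189 = n12185 := d35_2 D12184 D13189 (iv D12185) (iv D11168) D11167
def n13190 : Q := act 3 n12185
theorem D13190 : act 3 n12185 = n13190 := rfl
theorem F51910 : act 0 n13190 = n13190 := d2_1 D13190 (iv D13190) F47887
theorem F51911 : act 7 n13190 = n12188 := d24_2 D12185 D13190 (iv D12188) (iv D11171) (iv F43393)
def n13191 : Q := act 7 n12186
theorem D13191 : act 7 n12186 = n13191 := rfl
theorem F51912 : act 0 n13191 = n13191 := d6_1 D13191 (iv D13191) F47890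
theorem F51913 : act 2 n13191 = n12190 := d19_1 D13191 (iv D12190) (iv F47891)
theorem F51914 : act 4 n13191 = n12201 := d28_1 D13191 (iv D12201) (iv F47892)
theorem F51915 : act 6 n13191 = n12187 := d33_1 D13191 (iv D12187) (iv F47893)
def n13192 : Q := act 3 n12187
theorem D13192 : act 3 n12187 = n13192 := rfl
theorem F51916 : act 0 n13192 = n13192 := d2_1 D13192 (iv D13192) F47894
theorem F51917 : act 2 n13192 = n12991 := d15_1 D13192 F51073 F47912 (iv D12191) (iv F47895)
theorem F51918 : act 4 n13192 = n12990 := d21_2 (iv F47896) D13192 F51069 F47978 (iv D12202)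
theorem F51919 : act 5 n13192 = n12188 := d22_2 (iv F47897) D13192 (iv D12188)
def n13193 : Q := act 2 n12188
theorem D13193 : act 2 n12188 = n13193 := rfl
theorem F51920 : act 0 n13193 = n13193 := d1_1 D13193 (iv D13193) F47898
theorem F51921 : act 3 n13193 = n12192 := d15_2 D12188 D13193 (iv D12192) (iv D11175) (iv F43403)
theorem F51922 : act 5 n13193 = n12991 := d17_2 F51919 D13193 (iv F51917)
def n13194 : Q := act 4 n12188
theorem D13194 : act 4 n12188 = n13194 := rfl
theorem F51923 : act 0 n13194 = n13194 := d3_1 D13194 (iv D13194) F47898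
theorem F51924 : act 3 n13194 = n12189 := d21_1 D13194 (iv D12189) (iv D11172) (iv F43404) D12188
theorem F51925 : act 5 n13194 = n12995 := d26_2 F51919 D13194 (iv D12995) (iv F51070) (iv F51918)
def n13195 : Q := act 1 n12192
theorem D13195 : act 1 n12192 = n13195 := rfl
theorem F51926 : act 2 n13195 = n12206 := d8_2 D12192 D13195 (iv D12206) (iv D11194) (iv F43419)
theorem F51927 : act 4 n13195 = n13195 := d10_2 F47914 D13195 (iv D13195)
theorem F51928 : act 5 n13195 = n13110 := d11_2 (iv F47915) D13195 F51589
theorem F51929 : act 7 n13195 = n13195 := d13_2 F47916 D13195 (iv D13195)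
def n13196 : Q := act 7 n12197
theorem D13196 : act 7 n12197 = n13196 := rfl
theorem F51930 : act 0 n13196 = n13196 := d6_1 D13196 (iv D13196) F47932
theorem F51931 : act 2 n13196 = n12207 := d19_1 D13196 (iv D12207) (iv F47933)
theorem F51932 : act 5 n13196 = n13196 := d31_1 D13196 (iv D13196) F47935
theorem F51933 : act 6 n13196 = n12199 := d33_1 D13196 (iv D12199) (iv F47936)
theorem F51934 : act 8 n13196 = n12639 := d35_2 D12197 D13196 (iv F49731) (iv D12195) F47955
theorem F51935 : act 3 n12619 = n13196 := d25_3 F51934 (iv D12639) (iv F49641)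
def n13197 : Q := act 7 n12198
theorem D13197 : act 7 n12198 = n13197 := rfl
theorem F51936 : act 0 n13197 = n13197 := d6_1 D13197 (iv D13197) F47937
theorem F51937 : act 1 n13197 = n13078 := d13_1 D13197 F51752 F51747
theorem F51938 : act 2 n13197 = n12208 := d19_1 D13197 (iv D12208) (iv F47938)
theorem F51939 : act 4 n13197 = n13196 := d28_1 D13197 (iv D13196) (iv F47950)
theorem F51940 : act 5 n13197 = n12200 := d31_1 D13197 (iv D12200) (iv F47939)
theorem F51941 : act 6 n13197 = n12639 := d33_1 D13197 (iv F49731) F47952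
theorem F51942 : act 8 n13197 = n12199 := d35_2 D12198 D13197 (iv D12199) (iv D11179) D11178
theorem F51943 : act 3 n12636 = n13197 := d25_3 F51942 (iv F47943) (iv F49716)
def n13198 : Q := act 3 n12201
theorem D13198 : act 3 n12201 = n13198 := rfl
theorem F51944 : act 0 n13198 = n13198 := d2_1 D13198 (iv D13198) F47970
theorem F51945 : act 2 n13198 = n12626 := d15_1 D13198 F49663 F45795 F44637 (iv F47971)
theorem F51946 : act 5 n13198 = n13198 := d22_2 F47972 D13198 (iv D13198)
theorem F51947 : act 6 n13198 = n12202 := d23_2 (iv F47973) D13198 (iv D12202)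
theorem F51948 : act 7 n13198 = n12619 := d24_2 D12201 D13198 F51935 (iv D13196) F47934
theorem F51949 : act 4 n12620 = n13198 := d28_3 F51948 (iv D12619) D12620
def n13199 : Q := act 1 n12205
theorem D13199 : act 1 n12205 = n13199 := rfl
theorem F51950 : act 4 n13199 = n13199 := d10_2 F47987 D13199 (iv D13199)
theorem F51951 : act 6 n13199 = n12206 := d12_2 (iv F47988) D13199 (iv D12206)
theorem F51952 : act 7 n13199 = n13199 := d13_2 F47989 D13199 (iv D13199)
def n13200 : Q := act 3 n12209
theorem D13200 : act 3 n12209 = n13200 := rfl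
theorem F51953 : act 0 n13200 = n12258 := d2_1 D13200 (iv D12258) (iv F48005)
theorem F51954 : act 1 n13200 = n13200 := d9_1 D13200 (iv D13200) F48006
theorem F51955 : act 7 n13200 = n12714 := d24_2 D12209 D13200 (iv D12714) (iv D11709) (iv F43688)
def n13201 : Q := act 8 n12209
theorem D13201 : act 8 n12209 = n13201 := rfl
theorem F51956 : act 0 n13201 = n12259 := d7_1 D13201 (iv D12259) (iv F48005)
theorem F51957 : act 1 n13201 = n13201 := d14_1 D13201 (iv D13201) F48006
theorem F51958 : act 2 n13201 = n12211 := d20_1 D13201 (iv D12211) (iv F48007)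
theorem F51959 : act 4 n13201 = n13201 := d29_1 D13201 (iv D13201) F48008
def n13202 : Q := act 2 n12210
theorem D13202 : act 2 n12210 = n13202 := rfl
theorem F51960 : act 0 n13202 = n12260 := d1_1 D13202 (iv D12260) (iv F48009)
theorem F51961 : act 7 n13202 = n12212 := d19_2 (iv F48011) D13202 (iv D12212)
def n13203 : Q := act 4 n12210
theorem D13203 : act 4 n12210 = n13203 := rfl
theorem F51962 : act 0 n13203 = n12261 := d3_1 D13203 (iv D12261) (iv F48009)
theorem F51963 : act 1 n13203 = n12228 := d10_1 D13203 (iv D12228) (iv F48010)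
theorem F51964 : act 3 n13203 = n13203 := d21_1 D13203 (iv D13203) (iv D12210) F43692 D12210
theorem F51965 : act 7 n13203 = n12213 := d28_2 (iv F48011) D13203 (iv D12213)
def n13204 : Q := act 8 n12210
theorem D13204 : act 8 n12210 = n13204 := rfl
theorem F51966 : act 0 n13204 = n12262 := d7_1 D13204 (iv D12262) (iv F48009)
theorem F51967 : act 1 n13204 = n12229 := d14_1 D13204 (iv D12229) (iv F48010)
theorem F51968 : act 3 n13204 = n12211 := d25_1 D13204 (iv D12211) D12210
def n13205 : Q := act 1 n12212
theorem D13205 : act 1 n12212 = n13205 := rfl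
theorem F51969 : act 2 n13205 = n12230 := d8_2 D12212 D13205 (iv D12230) (iv D11257) (iv F43694)
theorem F51970 : act 3 n13205 = n12727 := d9_2 (iv F48016) D13205 (iv D12727)
def n13206 : Q := act 4 n12212
theorem D13206 : act 4 n12212 = n13206 := rfl
theorem F51971 : act 0 n13206 = n12263 := d3_1 D13206 (iv D12263) (iv F48015)
theorem F51972 : act 2 n13206 = n12213 := d16_1 D13206 (iv D12213) D12212
def n13207 : Q := act 8 n12212
theorem D13207 : act 8 n12212 = n13207 := rfl
theorem F51973 : act 0 n13207 = n12264 := d7_1 D13207 (iv D12264) (iv F48015)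
theorem F51974 : act 2 n13207 = n12214 := d20_1 D13207 (iv D12214) D12212
theorem F51975 : act 3 n13207 = n12729 := d25_1 D13207 (iv D12729) (iv F48016)
def n13208 : Q := act 5 n12213
theorem D13208 : act 5 n12213 = n13208 := rfl
theorem F51976 : act 0 n13208 = n12265 := d4_1 D13208 (iv D12265) (iv F48017)
theorem F51977 : act 1 n13208 = n12233 := d11_1 D13208 (iv D12233) (iv F48018)
theorem F51978 : act 3 n13208 = n12217 := d22_1 D13208 (iv D12217) (iv F48019)
def n13209 : Q := act 8 n12213
theorem D13209 : act 8 n12213 = n13209 := rfl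
theorem F51979 : act 0 n13209 = n12266 := d7_1 D13209 (iv D12266) (iv F48017)
theorem F51980 : act 1 n13209 = n12234 := d14_1 D13209 (iv D12234) (iv F48018)
theorem F51981 : act 3 n13209 = n12218 := d25_1 D13209 (iv D12218) (iv F48019)
theorem F51982 : act 4 n13209 = n12214 := d29_1 D13209 (iv D12214) D12213
def n13210 : Q := act 7 n12214
theorem D13210 : act 7 n12214 = n13210 := rfl
theorem F51983 : act 0 n13210 = n12267 := d6_1 D13210 (iv D12267) (iv F48020)
theorem F51984 : act 1 n13210 = n12235 := d13_1 D13210 (iv D12235) (iv F48021)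
def n13211 : Q := act 3 n12215
theorem D13211 : act 3 n12215 = n13211 := rfl
theorem F51985 : act 0 n13211 = n12268 := d2_1 D13211 (iv D12268) (iv F48023)
theorem F51986 : act 1 n13211 = n13211 := d9_1 D13211 (iv D13211) F48024
theorem F51987 : act 4 n13211 = n12737 := d21_2 D12215 D13211 (iv D12737) (iv D11723) (iv F43701)
def n13212 : Q := act 5 n12215
theorem D13212 : act 5 n12215 = n13212 := rfl
theorem F51988 : act 0 n13212 = n12269 := d4_1 D13212 (iv D12269) (iv F48023)
theorem F51989 : act 1 n13212 = n13212 := d11_1 D13212 (iv D13212) F48024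
theorem F51990 : act 2 n13212 = n12217 := d17_1 D13212 (iv D12217) (iv F48025)
theorem F51991 : act 4 n13212 = n12221 := d26_1 D13212 (iv D12221) (iv D11250) (iv F43702) D12215
theorem F51992 : act 7 n13212 = n13212 := d31_2 F48026 D13212 (iv D13212)
def n13213 : Q := act 8 n12215
theorem D13213 : act 8 n12215 = n13213 := rfl
theorem F51993 : act 0 n13213 = n12270 := d7_1 D13213 (iv D12270) (iv F48023)
theorem F51994 : act 1 n13213 = n13213 := d14_1 D13213 (iv D13213) F48024
theorem F51995 : act 2 n13213 = n12218 := d20_1 D13213 (iv D12218) (iv F48025)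
theorem F51996 : act 4 n13213 = n12216 := d29_1 D13213 (iv D12216) D12215
def n13214 : Q := act 7 n12216
theorem D13214 : act 7 n12216 = n13214 := rfl
theorem F51997 : act 0 n13214 = n12271 := d6_1 D13214 (iv D12271) (iv F48027)
theorem F51998 : act 1 n13214 = n13214 := d13_1 D13214 (iv D13214) F48028
theorem F51999 : act 2 n13214 = n12219 := d19_1 D13214 (iv D12219) (iv F48029)
theorem F52000 : act 5 n13214 = n12223 := d31_1 D13214 (iv D12223) (iv F48031)
theorem F52001 : act 8 n13214 = n13214 := d35_2 D12216 D13214 (iv D13214) (iv D12216) F43703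
def n13215 : Q := act 6 n12217
theorem D13215 : act 6 n12217 = n13215 := rfl
theorem F52002 : act 0 n13215 = n12272 := d5_1 D13215 (iv D12272) (iv F48032)
theorem F52003 : act 1 n13215 = n12236 := d12_1 D13215 (iv D12236) (iv F48033)
theorem F52004 : act 4 n13215 = n12224 := d27_1 D13215 (iv D12224) (iv F48034)
theorem F52005 : act 7 n13215 = n13215 := d33_2 F48035 D13215 (iv D13215)
def n13216 : Q := act 8 n12217
theorem D13216 : act 8 n12217 = n13216 := rfl
theorem F52006 : act 0 n13216 = n12273 := d7_1 D13216 (iv D12273) (iv F48032)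
theorem F52007 : act 1 n13216 = n12237 := d14_1 D13216 (iv D12237) (iv F48033)
theorem F52008 : act 4 n13216 = n12225 := d29_1 D13216 (iv D12225) (iv F48034)
theorem F52009 : act 5 n13216 = n12218 := d32_1 D13216 (iv D12218) D12217
def n13217 : Q := act 7 n12218
theorem D13217 : act 7 n12218 = n13217 := rfl
theorem F52010 : act 0 n13217 = n12274 := d6_1 D13217 (iv D12274) (iv F48036)
theorem F52011 : act 1 n13217 = n12238 := d13_1 D13217 (iv D12238) (iv F48037)
theorem F52012 : act 4 n13217 = n12219 := d28_1 D13217 (iv D12219) (iv F48038)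
theorem F52013 : act 8 n13217 = n13217 := d35_2 D12218 D13217 (iv D13217) (iv D12218) F43706
def n13218 : Q := act 5 n12220
theorem D13218 : act 5 n12220 = n13218 := rfl
theorem F52014 : act 0 n13218 = n12275 := d4_1 D13218 (iv D12275) (iv F48043)
theorem F52015 : act 1 n13218 = n13218 := d11_1 D13218 (iv D13218) F48044
theorem F52016 : act 3 n13218 = n12221 := d22_1 D13218 (iv D12221) D12220
def n13219 : Q := act 7 n12220
theorem D13219 : act 7 n12220 = n13219 := rfl
theorem F52017 : act 0 n13219 = n12276 := d6_1 D13219 (iv D12276) (iv F48043)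
theorem F52018 : act 1 n13219 = n13219 := d13_1 D13219 (iv D13219) F48044
theorem F52019 : act 2 n13219 = n12926 := d19_1 D13219 (iv F50841) F49956
theorem F52020 : act 3 n13219 = n13219 := d24_1 D13219 (iv D13219) (iv D12220) F43715 D12220
theorem F52021 : act 4 n13219 = n12745 := d28_1 D13219 (iv D12745) (iv F48045)
theorem F52022 : act 6 n13219 = n13219 := d33_1 D13219 (iv D13219) F48046
theorem F52023 : act 8 n12529 = n13219 := d29_0 F52021 F50581 F50579
def n13220 : Q := act 8 n12220
theorem D13220 : act 8 n12220 = n13220 := rfl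
theorem F52024 : act 0 n13220 = n12277 := d7_1 D13220 (iv D12277) (iv F48043)
theorem F52025 : act 1 n13220 = n13220 := d14_1 D13220 (iv D13220) F48044
theorem F52026 : act 2 n13220 = n12927 := d20_1 D13220 F50845 F49956
theorem F52027 : act 3 n13220 = n12222 := d25_1 D13220 (iv D12222) D12220
theorem F52028 : act 4 n13220 = n12746 := d29_1 D13220 (iv D12746) (iv F48045)
theorem F52029 : act 6 n13220 = n13220 := d34_1 D13220 (iv D13220) F48046
theorem F52030 : act 7 n13220 = n12530 := d35_1 D13220 (iv D12530) D12529 F52023 (iv D13219)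
def n13221 : Q := act 6 n12221
theorem D13221 : act 6 n12221 = n13221 := rfl
theorem F52031 : act 0 n13221 = n12278 := d5_1 D13221 (iv D12278) (iv F48047)
theorem F52032 : act 1 n13221 = n13221 := d12_1 D13221 (iv D13221) F48048
theorem F52033 : act 2 n13221 = n12224 := d18_1 D13221 (iv D12224) (iv F48049)
theorem F52034 : act 5 n13221 = n13221 := d30_1 D13221 (iv D13221) (iv D12221) F43714 D12221
theorem F52035 : act 7 n13221 = n13221 := d33_2 F48050 D13221 (iv D13221)
def n13222 : Q := act 8 n12221
theorem D13222 : act 8 n12221 = n13222 := rfl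
theorem F52036 : act 0 n13222 = n12279 := d7_1 D13222 (iv D12279) (iv F48047)
theorem F52037 : act 1 n13222 = n13222 := d14_1 D13222 (iv D13222) F48048
theorem F52038 : act 2 n13222 = n12225 := d20_1 D13222 (iv D12225) (iv F48049)
theorem F52039 : act 5 n13222 = n12222 := d32_1 D13222 (iv D12222) D12221
def n13223 : Q := act 7 n12222
theorem D13223 : act 7 n12222 = n13223 := rfl
theorem F52040 : act 0 n13223 = n12280 := d6_1 D13223 (iv D12280) (iv F48051)
theorem F52041 : act 1 n13223 = n13223 := d13_1 D13223 (iv D13223) F48052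
theorem F52042 : act 2 n13223 = n12226 := d19_1 D13223 (iv D12226) (iv F48053)
theorem F52043 : act 3 n13223 = n12533 := d24_1 D13223 (iv D12533) (iv F49257) (iv F52030) F52027
theorem F52044 : act 4 n13223 = n12223 := d28_1 D13223 (iv D12223) (iv F48054)
theorem F52045 : act 6 n13223 = n13223 := d33_1 D13223 (iv D13223) F48055
theorem F52046 : act 8 n13223 = n13223 := d35_2 D12222 D13223 (iv D13223) (iv D12222) F43715
def n13224 : Q := act 3 n12223
theorem D13224 : act 3 n12223 = n13224 := rfl
theorem F52047 : act 0 n13224 = n12281 := d2_1 D13224 (iv D12281) (iv F48056)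
theorem F52048 : act 1 n13224 = n13224 := d9_1 D13224 (iv D13224) F48057
theorem F52049 : act 4 n13224 = n12534 := d21_2 F52044 D13224 (iv D12534) (iv F49268) (iv F52043)
theorem F52050 : act 6 n13224 = n13224 := d23_2 F48059 D13224 (iv D13224)
theorem F52051 : act 7 n13224 = n12750 := d24_2 D12223 D13224 (iv D12750) (iv D11731) (iv F43719)
theorem F52052 : act 8 n13224 = n13224 := d25_2 F48060 D13224 (iv D13224)
def n13225 : Q := act 8 n12224
theorem D13225 : act 8 n12224 = n13225 := rfl
theorem F52053 : act 0 n13225 = n12282 := d7_1 D13225 (iv D12282) (iv F48061)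
theorem F52054 : act 1 n13225 = n12239 := d14_1 D13225 (iv D12239) (iv F48062)
theorem F52055 : act 5 n13225 = n13225 := d32_1 D13225 (iv D13225) F48063
theorem F52056 : act 6 n13225 = n12225 := d34_1 D13225 (iv D12225) D12224
def n13226 : Q := act 7 n12225
theorem D13226 : act 7 n12225 = n13226 := rfl
theorem F52057 : act 0 n13226 = n12283 := d6_1 D13226 (iv D12283) (iv F48065)
theorem F52058 : act 1 n13226 = n12240 := d13_1 D13226 (iv D12240) (iv F48066)
theorem F52059 : act 5 n13226 = n12226 := d31_1 D13226 (iv D12226) (iv F48067)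
theorem F52060 : act 8 n13226 = n13226 := d35_2 D12225 D13226 (iv D13226) (iv D12225) F43723
def n13227 : Q := act 3 n12226
theorem D13227 : act 3 n12226 = n13227 := rfl
theorem F52061 : act 0 n13227 = n12284 := d2_1 D13227 (iv D12284) (iv F48068)
theorem F52062 : act 1 n13227 = n12241 := d9_1 D13227 (iv D12241) (iv F48069)
theorem F52063 : act 2 n13227 = n12537 := d15_1 D13227 (iv D12537) (iv F49267) (iv F52043) F52042
theorem F52064 : act 6 n13227 = n13227 := d23_2 F48071 D13227 (iv D13227)
theorem F52065 : act 7 n13227 = n12934 := d24_2 D12226 D13227 F50876 (iv D12684) F45977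
theorem F52066 : act 8 n13227 = n13227 := d25_2 F48072 D13227 (iv D13227)
def n13228 : Q := act 1 n12227
theorem D13228 : act 1 n12227 = n13228 := rfl
theorem F52067 : act 3 n13228 = n13228 := d9_2 F48074 D13228 (iv D13228)
theorem F52068 : act 7 n13228 = n12230 := d13_2 (iv F48075) D13228 (iv D12230)
def n13229 : Q := act 8 n12227
theorem D13229 : act 8 n12227 = n13229 := rfl
theorem F52069 : act 0 n13229 = n12244 := d7_1 D13229 (iv D12244) (iv F48073)
theorem F52070 : act 2 n13229 = n12229 := d20_1 D13229 (iv D12229) D12227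
theorem F52071 : act 3 n13229 = n13229 := d25_1 D13229 (iv D13229) F48074
def n13230 : Q := act 8 n12228
theorem D13230 : act 8 n12228 = n13230 := rfl
theorem F52072 : act 0 n13230 = n12245 := d7_1 D13230 (iv D12245) (iv F48076)
theorem F52073 : act 3 n13230 = n13230 := d25_1 D13230 (iv D13230) F48077
theorem F52074 : act 4 n13230 = n12229 := d29_1 D13230 (iv D12229) D12228
def n13231 : Q := act 7 n12229
theorem D13231 : act 7 n12229 = n13231 := rfl
theorem F52075 : act 0 n13231 = n12246 := d6_1 D13231 (iv D12246) (iv F48079)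
theorem F52076 : act 8 n13231 = n12235 := d35_2 D12229 D13231 (iv D12235) (iv D11259) (iv F43733)
def n13232 : Q := act 4 n12230
theorem D13232 : act 4 n12230 = n13232 := rfl
theorem F52077 : act 1 n13232 = n12231 := d10_1 D13232 (iv D12231) D12230
theorem F52078 : act 3 n13232 = n13232 := d21_1 D13232 (iv D13232) F48081 F43767 (iv F48081)
def n13233 : Q := act 8 n12230
theorem D13233 : act 8 n12230 = n13233 := rfl
theorem F52079 : act 1 n13233 = n12232 := d14_1 D13233 (iv D12232) D12230
theorem F52080 : act 3 n13233 = n12242 := d25_1 D13233 (iv D12242) (iv F48081)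
def n13234 : Q := act 8 n12231
theorem D13234 : act 8 n12231 = n13234 := rfl
theorem F52081 : act 0 n13234 = n12247 := d7_1 D13234 (iv D12247) (iv F48082)
theorem F52082 : act 2 n13234 = n12234 := d20_1 D13234 (iv D12234) (iv F48083)
theorem F52083 : act 3 n13234 = n13234 := d25_1 D13234 (iv D13234) F48084
theorem F52084 : act 4 n13234 = n12232 := d29_1 D13234 (iv D12232) D12231
def n13235 : Q := act 7 n12232
theorem D13235 : act 7 n12232 = n13235 := rfl
theorem F52085 : act 0 n13235 = n12248 := d6_1 D13235 (iv D12248) (iv F48085)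
theorem F52086 : act 2 n13235 = n12235 := d19_1 D13235 (iv D12235) (iv F48086)
def n13236 : Q := act 8 n12233
theorem D13236 : act 8 n12233 = n13236 := rfl
theorem F52087 : act 0 n13236 = n12249 := d7_1 D13236 (iv D12249) (iv F48088)
theorem F52088 : act 3 n13236 = n12237 := d25_1 D13236 (iv D12237) (iv F48089)
theorem F52089 : act 5 n13236 = n12234 := d32_1 D13236 (iv D12234) D12233
def n13237 : Q := act 7 n12234
theorem D13237 : act 7 n12234 = n13237 := rfl
theorem F52090 : act 0 n13237 = n12250 := d6_1 D13237 (iv D12250) (iv F48090)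
theorem F52091 : act 4 n13237 = n12235 := d28_1 D13237 (iv D12235) (iv F48092)
def n13238 : Q := act 8 n12236
theorem D13238 : act 8 n12236 = n13238 := rfl
theorem F52092 : act 0 n13238 = n12251 := d7_1 D13238 (iv D12251) (iv F48094)
theorem F52093 : act 2 n13238 = n13238 := d20_1 D13238 (iv D13238) F48095
theorem F52094 : act 4 n13238 = n12239 := d29_1 D13238 (iv D12239) (iv F48096)
theorem F52095 : act 6 n13238 = n12237 := d34_1 D13238 (iv D12237) D12236
def n13239 : Q := act 7 n12237
theorem D13239 : act 7 n12237 = n13239 := rfl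
theorem F52096 : act 0 n13239 = n12252 := d6_1 D13239 (iv D12252) (iv F48098)
theorem F52097 : act 2 n13239 = n13239 := d19_1 D13239 (iv D13239) F48099
theorem F52098 : act 4 n13239 = n12240 := d28_1 D13239 (iv D12240) (iv F48100)
theorem F52099 : act 5 n13239 = n12238 := d31_1 D13239 (iv D12238) (iv F48101)
theorem F52100 : act 8 n13239 = n13239 := d35_2 D12237 D13239 (iv D13239) (iv D12237) F43746
def n13240 : Q := act 3 n12238
theorem D13240 : act 3 n12238 = n13240 := rfl
theorem F52101 : act 0 n13240 = n12253 := d2_1 D13240 (iv D12253) (iv F48102)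
theorem F52102 : act 8 n13240 = n13240 := d25_2 F48105 D13240 (iv D13240)
def n13241 : Q := act 7 n12239
theorem D13241 : act 7 n12239 = n13241 := rfl
theorem F52103 : act 0 n13241 = n12254 := d6_1 D13241 (iv D12254) (iv F48106)
theorem F52104 : act 2 n13241 = n13241 := d19_1 D13241 (iv D13241) F48107
theorem F52105 : act 5 n13241 = n13241 := d31_1 D13241 (iv D13241) F48108
theorem F52106 : act 6 n13241 = n12240 := d33_1 D13241 (iv D12240) (iv F48109)
theorem F52107 : act 8 n13241 = n13241 := d35_2 D12239 D13241 (iv D13241) (iv D12239) F43757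
def n13242 : Q := act 3 n12240
theorem D13242 : act 3 n12240 = n13242 := rfl
theorem F52108 : act 0 n13242 = n12255 := d2_1 D13242 (iv D12255) (iv F48110)
theorem F52109 : act 5 n13242 = n12241 := d22_2 (iv F48112) D13242 (iv D12241)
theorem F52110 : act 8 n13242 = n13242 := d25_2 F48113 D13242 (iv D13242)
def n13243 : Q := act 2 n12241
theorem D13243 : act 2 n12241 = n13243 := rfl
theorem F52111 : act 0 n13243 = n12256 := d1_1 D13243 (iv D12256) (iv F48114)
theorem F52112 : act 1 n13243 = n12575 := d8_1 D13243 (iv D12575) (iv F49282) (iv F52063) F52062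
theorem F52113 : act 3 n13243 = n13243 := d15_2 D12241 D13243 (iv D13243) (iv D12241) F43762
theorem F52114 : act 6 n13243 = n13243 := d18_2 F48115 D13243 (iv D13243)
theorem F52115 : act 7 n13243 = n12965 := d19_2 F50016 D13243 F50991
theorem F52116 : act 8 n13243 = n13243 := d20_2 F48116 D13243 (iv D13243)
def n13244 : Q := act 7 n12242
theorem D13244 : act 7 n12242 = n13244 := rfl
theorem F52117 : act 1 n13244 = n12243 := d13_1 D13244 (iv D12243) (iv F48117)
theorem F52118 : act 2 n13244 = n12792 := d19_1 D13244 (iv D12792) (iv F48118)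
theorem F52119 : act 4 n13244 = n13244 := d28_1 D13244 (iv D13244) F48119
theorem F52120 : act 8 n13244 = n13244 := d35_2 D12242 D13244 (iv D13244) (iv D12242) F43768
def n13245 : Q := act 3 n12243
theorem D13245 : act 3 n12243 = n13245 := rfl
theorem F52121 : act 0 n13245 = n12257 := d2_1 D13245 (iv D12257) (iv F48120)
theorem F52122 : act 8 n13245 = n13245 := d25_2 F48123 D13245 (iv D13245)
def n13246 : Q := act 7 n12244
theorem D13246 : act 7 n12244 = n13246 := rfl
theorem F52123 : act 2 n13246 = n12246 := d19_1 D13246 (iv D12246) (iv F48124)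
theorem F52124 : act 8 n13246 = n12248 := d35_2 D12244 D13246 (iv D12248) (iv D11273) (iv F43777)
def n13247 : Q := act 7 n12245
theorem D13247 : act 7 n12245 = n13247 := rfl
theorem F52125 : act 1 n13247 = n12298 := d13_1 D13247 (iv D12298) (iv F48126)
theorem F52126 : act 4 n13247 = n12246 := d28_1 D13247 (iv D12246) (iv F48128)
theorem F52127 : act 8 n13247 = n12250 := d35_2 D12245 D13247 (iv D12250) (iv D11275) (iv F43780)
def n13248 : Q := act 7 n12247
theorem D13248 : act 7 n12247 = n13248 := rfl
theorem F52128 : act 2 n13248 = n12250 := d19_1 D13248 (iv D12250) (iv F48131)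
theorem F52129 : act 4 n13248 = n12248 := d28_1 D13248 (iv D12248) (iv F48133)
def n13249 : Q := act 3 n12248
theorem D13249 : act 3 n12248 = n13249 := rfl
theorem F52130 : act 7 n13249 = n12257 := d24_2 D12248 D13249 (iv D12257) (iv D11283) (iv F43786)
def n13250 : Q := act 7 n12249
theorem D13250 : act 7 n12249 = n13250 := rfl
theorem F52131 : act 1 n13250 = n12300 := d13_1 D13250 (iv D12300) (iv F48135)
theorem F52132 : act 5 n13250 = n12250 := d31_1 D13250 (iv D12250) (iv F48137)
def n13251 : Q := act 3 n12250
theorem D13251 : act 3 n12250 = n13251 := rfl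
theorem F52133 : act 1 n13251 = n12301 := d9_1 D13251 (iv D12301) (iv F48138)
theorem F52134 : act 7 n13251 = n12253 := d24_2 D12250 D13251 (iv D12253) (iv D11279) (iv F43790)
def n13252 : Q := act 7 n12251
theorem D13252 : act 7 n12251 = n13252 := rfl
theorem F52135 : act 1 n13252 = n12302 := d13_1 D13252 (iv D12302) (iv F48140)
theorem F52136 : act 2 n13252 = n13252 := d19_1 D13252 (iv D13252) F48141
theorem F52137 : act 4 n13252 = n12254 := d28_1 D13252 (iv D12254) (iv F48142)
theorem F52138 : act 6 n13252 = n12252 := d33_1 D13252 (iv D12252) (iv F48143)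
theorem F52139 : act 8 n13252 = n13252 := d35_2 D12251 D13252 (iv D13252) (iv D12251) F43796
def n13253 : Q := act 3 n12252
theorem D13253 : act 3 n12252 = n13253 := rfl
theorem F52140 : act 1 n13253 = n12303 := d9_1 D13253 (iv D12303) (iv F48144)
theorem F52141 : act 5 n13253 = n12253 := d22_2 (iv F48147) D13253 (iv D12253)
theorem F52142 : act 8 n13253 = n13253 := d25_2 F48148 D13253 (iv D13253)
def n13254 : Q := act 2 n12253
theorem D13254 : act 2 n12253 = n13254 := rfl
theorem F52143 : act 3 n13254 = n13254 := d15_2 D12253 D13254 (iv D13254) (iv D12253) F43802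
theorem F52144 : act 8 n13254 = n13254 := d20_2 F48150 D13254 (iv D13254)
def n13255 : Q := act 4 n12257
theorem D13255 : act 4 n12257 = n13255 := rfl
theorem F52145 : act 3 n13255 = n13255 := d21_1 D13255 (iv D13255) (iv D12257) F43817 D12257
theorem F52146 : act 8 n13255 = n13255 := d29_2 F48162 D13255 (iv D13255)
def n13256 : Q := act 2 n12258
theorem D13256 : act 2 n12258 = n13256 := rfl
theorem F52147 : act 3 n13256 = n12260 := d15_2 D12258 D13256 (iv D12260) (iv D11285) (iv F43820)
theorem F52148 : act 7 n13256 = n12876 := d19_2 (iv F48164) D13256 (iv D12876)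
def n13257 : Q := act 4 n12258
theorem D13257 : act 4 n12258 = n13257 := rfl
theorem F52149 : act 1 n13257 = n12309 := d10_1 D13257 (iv D12309) (iv F48163)
theorem F52150 : act 3 n13257 = n13257 := d21_1 D13257 (iv D13257) (iv D12258) F43821 D12258
theorem F52151 : act 7 n13257 = n12877 := d28_2 (iv F48164) D13257 (iv D12877)
def n13258 : Q := act 8 n12258
theorem D13258 : act 8 n12258 = n13258 := rfl
theorem F52152 : act 1 n13258 = n12310 := d14_1 D13258 (iv D12310) (iv F48163)
theorem F52153 : act 3 n13258 = n12259 := d25_1 D13258 (iv D12259) D12258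
def n13259 : Q := act 4 n12260
theorem D13259 : act 4 n12260 = n13259 := rfl
theorem F52154 : act 2 n13259 = n12261 := d16_1 D13259 (iv D12261) D12260
theorem F52155 : act 7 n13259 = n12263 := d28_2 (iv F48168) D13259 (iv D12263)
def n13260 : Q := act 8 n12260
theorem D13260 : act 8 n12260 = n13260 := rfl
theorem F52156 : act 2 n13260 = n12262 := d20_1 D13260 (iv D12262) D12260
def n13261 : Q := act 5 n12261
theorem D13261 : act 5 n12261 = n13261 := rfl
theorem F52157 : act 1 n13261 = n12285 := d11_1 D13261 (iv D12285) (iv F48169)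
theorem F52158 : act 3 n13261 = n13261 := d22_1 D13261 (iv D13261) F48170
theorem F52159 : act 7 n13261 = n12265 := d31_2 (iv F48171) D13261 (iv D12265)
def n13262 : Q := act 8 n12261
theorem D13262 : act 8 n12261 = n13262 := rfl
theorem F52160 : act 1 n13262 = n12286 := d14_1 D13262 (iv D12286) (iv F48169)
theorem F52161 : act 3 n13262 = n13262 := d25_1 D13262 (iv D13262) F48170
theorem F52162 : act 4 n13262 = n12262 := d29_1 D13262 (iv D12262) D12261
def n13263 : Q := act 7 n12262
theorem D13263 : act 7 n12262 = n13263 := rfl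
theorem F52163 : act 1 n13263 = n12287 := d13_1 D13263 (iv D12287) (iv F48172)
theorem F52164 : act 8 n13263 = n12267 := d35_2 D12262 D13263 (iv D12267) (iv D11289) (iv F43823)
def n13264 : Q := act 3 n12263
theorem D13264 : act 3 n12263 = n13264 := rfl
theorem F52165 : act 2 n13264 = n12268 := d15_1 D13264 (iv D12268) F43832 (iv F43828) (iv F48174)
theorem F52166 : act 4 n13264 = n12898 := d21_2 D12263 D13264 (iv D12898) (iv D11868) (iv F43826)
def n13265 : Q := act 5 n12263
theorem D13265 : act 5 n12263 = n13265 := rfl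
theorem F52167 : act 2 n13265 = n12265 := d17_1 D13265 (iv D12265) (iv F48174)
def n13266 : Q := act 8 n12263
theorem D13266 : act 8 n12263 = n13266 := rfl
theorem F52168 : act 2 n13266 = n12266 := d20_1 D13266 (iv D12266) (iv F48174)
theorem F52169 : act 4 n13266 = n12264 := d29_1 D13266 (iv D12264) D12263
def n13267 : Q := act 7 n12264
theorem D13267 : act 7 n12264 = n13267 := rfl
theorem F52170 : act 2 n13267 = n12267 := d19_1 D13267 (iv D12267) (iv F48175)
def n13268 : Q := act 6 n12265
theorem D13268 : act 6 n12265 = n13268 := rfl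
theorem F52171 : act 1 n13268 = n12288 := d12_1 D13268 (iv D12288) (iv F48177)
theorem F52172 : act 3 n13268 = n12272 := d23_1 D13268 (iv D12272) (iv F48178)
def n13269 : Q := act 8 n12265
theorem D13269 : act 8 n12265 = n13269 := rfl
theorem F52173 : act 1 n13269 = n12289 := d14_1 D13269 (iv D12289) (iv F48177)
theorem F52174 : act 3 n13269 = n12273 := d25_1 D13269 (iv D12273) (iv F48178)
theorem F52175 : act 5 n13269 = n12266 := d32_1 D13269 (iv D12266) D12265
def n13270 : Q := act 7 n12266
theorem D13270 : act 7 n12266 = n13270 := rfl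
theorem F52176 : act 1 n13270 = n12290 := d13_1 D13270 (iv D12290) (iv F48179)
theorem F52177 : act 4 n13270 = n12267 := d28_1 D13270 (iv D12267) (iv F48181)
def n13271 : Q := act 5 n12268
theorem D13271 : act 5 n12268 = n13271 := rfl
theorem F52178 : act 1 n13271 = n12311 := d11_1 D13271 (iv D12311) (iv F48183)
theorem F52179 : act 3 n13271 = n12269 := d22_1 D13271 (iv D12269) D12268
def n13272 : Q := act 7 n12268
theorem D13272 : act 7 n12268 = n13272 := rfl
theorem F52180 : act 1 n13272 = n12312 := d13_1 D13272 (iv D12312) (iv F48183)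
theorem F52181 : act 3 n13272 = n13272 := d24_1 D13272 (iv D13272) (iv D12268) F43833 D12268
theorem F52182 : act 4 n13272 = n12913 := d28_1 D13272 (iv D12913) (iv F48184)
def n13273 : Q := act 8 n12268
theorem D13273 : act 8 n12268 = n13273 := rfl
theorem F52183 : act 1 n13273 = n12313 := d14_1 D13273 (iv D12313) (iv F48183)
theorem F52184 : act 3 n13273 = n12270 := d25_1 D13273 (iv D12270) D12268
theorem F52185 : act 4 n13273 = n12914 := d29_1 D13273 (iv D12914) (iv F48184)
def n13274 : Q := act 6 n12269
theorem D13274 : act 6 n12269 = n13274 := rfl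
theorem F52186 : act 1 n13274 = n12314 := d12_1 D13274 (iv D12314) (iv F48185)
theorem F52187 : act 2 n13274 = n12272 := d18_1 D13274 (iv D12272) (iv F48186)
theorem F52188 : act 4 n13274 = n12278 := d27_1 D13274 (iv D12278) (iv F48187)
theorem F52189 : act 7 n13274 = n13274 := d33_2 F48188 D13274 (iv D13274)
def n13275 : Q := act 8 n12269
theorem D13275 : act 8 n12269 = n13275 := rfl
theorem F52190 : act 1 n13275 = n12315 := d14_1 D13275 (iv D12315) (iv F48185)
theorem F52191 : act 2 n13275 = n12273 := d20_1 D13275 (iv D12273) (iv F48186)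
theorem F52192 : act 4 n13275 = n12279 := d29_1 D13275 (iv D12279) (iv F48187)
theorem F52193 : act 5 n13275 = n12270 := d32_1 D13275 (iv D12270) D12269
def n13276 : Q := act 7 n12270
theorem D13276 : act 7 n12270 = n13276 := rfl
theorem F52194 : act 1 n13276 = n12316 := d13_1 D13276 (iv D12316) (iv F48189)
theorem F52195 : act 2 n13276 = n12274 := d19_1 D13276 (iv D12274) (iv F48190)
theorem F52196 : act 4 n13276 = n12271 := d28_1 D13276 (iv D12271) (iv F48191)
theorem F52197 : act 8 n13276 = n13276 := d35_2 D12270 D13276 (iv D13276) (iv D12270) F43833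
def n13277 : Q := act 3 n12271
theorem D13277 : act 3 n12271 = n13277 := rfl
theorem F52198 : act 1 n13277 = n12317 := d9_1 D13277 (iv D12317) (iv F48192)
theorem F52199 : act 5 n13277 = n12281 := d22_2 (iv F48194) D13277 (iv D12281)
theorem F52200 : act 7 n13277 = n12918 := d24_2 D12271 D13277 (iv D12918) (iv D11881) (iv F43836)
theorem F52201 : act 8 n13277 = n13277 := d25_2 F48195 D13277 (iv D13277)
def n13278 : Q := act 8 n12272
theorem D13278 : act 8 n12272 = n13278 := rfl
theorem F52202 : act 1 n13278 = n12291 := d14_1 D13278 (iv D12291) (iv F48196)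
theorem F52203 : act 4 n13278 = n12282 := d29_1 D13278 (iv D12282) (iv F48197)
theorem F52204 : act 6 n13278 = n12273 := d34_1 D13278 (iv D12273) D12272
def n13279 : Q := act 7 n12273
theorem D13279 : act 7 n12273 = n13279 := rfl
theorem F52205 : act 1 n13279 = n12292 := d13_1 D13279 (iv D12292) (iv F48199)
theorem F52206 : act 4 n13279 = n12283 := d28_1 D13279 (iv D12283) (iv F48200)
theorem F52207 : act 5 n13279 = n12274 := d31_1 D13279 (iv D12274) (iv F48201)
theorem F52208 : act 8 n13279 = n13279 := d35_2 D12273 D13279 (iv D13279) (iv D12273) F43840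
def n13280 : Q := act 3 n12274
theorem D13280 : act 3 n12274 = n13280 := rfl
theorem F52209 : act 1 n13280 = n12293 := d9_1 D13280 (iv D12293) (iv F48202)
theorem F52210 : act 8 n13280 = n13280 := d25_2 F48204 D13280 (iv D13280)
def n13281 : Q := act 4 n12275
theorem D13281 : act 4 n12275 = n13281 := rfl
theorem F52211 : act 1 n13281 = n12321 := d10_1 D13281 (iv D12321) (iv F48205)
theorem F52212 : act 5 n13281 = n12922 := d26_2 D12275 D13281 (iv D12922) (iv D11885) (iv F43847)
def n13282 : Q := act 6 n12275
theorem D13282 : act 6 n12275 = n13282 := rfl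
theorem F52213 : act 1 n13282 = n12322 := d12_1 D13282 (iv D12322) (iv F48205)
theorem F52214 : act 3 n13282 = n12278 := d23_1 D13282 (iv D12278) (iv F48206)
theorem F52215 : act 5 n13282 = n13282 := d30_1 D13282 (iv D13282) (iv D12275) F43848 D12275
def n13283 : Q := act 7 n12275
theorem D13283 : act 7 n12275 = n13283 := rfl
theorem F52216 : act 1 n13283 = n12323 := d13_1 D13283 (iv D12323) (iv F48205)
theorem F52217 : act 3 n13283 = n13283 := d24_1 D13283 (iv D13283) F48206 F43851 (iv F48206)
theorem F52218 : act 5 n13283 = n12276 := d31_1 D13283 (iv D12276) D12275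
def n13284 : Q := act 8 n12275
theorem D13284 : act 8 n12275 = n13284 := rfl
theorem F52219 : act 1 n13284 = n12324 := d14_1 D13284 (iv D12324) (iv F48205)
theorem F52220 : act 3 n13284 = n12279 := d25_1 D13284 (iv D12279) (iv F48206)
theorem F52221 : act 5 n13284 = n12277 := d32_1 D13284 (iv D12277) D12275
def n13285 : Q := act 8 n12276
theorem D13285 : act 8 n12276 = n13285 := rfl
theorem F52222 : act 0 n13285 = n12529 := d7_1 D13285 F52023 F52017
theorem F52223 : act 1 n13285 = n12325 := d14_1 D13285 (iv D12325) (iv F48207)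
theorem F52224 : act 2 n13285 = n12745 := d20_1 D13285 F50581 F50577
theorem F52225 : act 3 n13285 = n13285 := d25_1 D13285 (iv D13285) F48208
theorem F52226 : act 4 n13285 = n12926 := d29_1 D13285 (iv D12926) (iv F48209)
theorem F52227 : act 6 n13285 = n13285 := d34_1 D13285 (iv D13285) F48210
theorem F52228 : act 7 n12406 = n13285 := d28_0 F52226 (iv F50841) F49957
def n13286 : Q := act 7 n12277
theorem D13286 : act 7 n12277 = n13286 := rfl
theorem F52229 : act 0 n13286 = n12530 := d6_1 D13286 (iv F52030) F52024
theorem F52230 : act 1 n13286 = n12326 := d13_1 D13286 (iv D12326) (iv F48211)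
theorem F52231 : act 2 n13286 = n12746 := d19_1 D13286 (iv F50587) F50583
theorem F52232 : act 4 n13286 = n12927 := d28_1 D13286 (iv D12927) (iv F48213)
theorem F52233 : act 6 n13286 = n13286 := d33_1 D13286 (iv D13286) F48214
theorem F52234 : act 8 n13286 = n12406 := d35_2 D12277 D13286 F52228 (iv D13285) (iv D12276)
theorem F52235 : act 3 n12408 = n13286 := d25_3 F52234 (iv D12406) D12408
def n13287 : Q := act 8 n12278
theorem D13287 : act 8 n12278 = n13287 := rfl
theorem F52236 : act 1 n13287 = n12327 := d14_1 D13287 (iv D12327) (iv F48215)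
theorem F52237 : act 2 n13287 = n12282 := d20_1 D13287 (iv D12282) (iv F48216)
theorem F52238 : act 5 n13287 = n13287 := d32_1 D13287 (iv D13287) F48217
theorem F52239 : act 6 n13287 = n12279 := d34_1 D13287 (iv D12279) D12278
def n13288 : Q := act 7 n12279
theorem D13288 : act 7 n12279 = n13288 := rfl
theorem F52240 : act 1 n13288 = n12328 := d13_1 D13288 (iv D12328) (iv F48219)
theorem F52241 : act 2 n13288 = n12283 := d19_1 D13288 (iv D12283) (iv F48220)
theorem F52242 : act 5 n13288 = n12280 := d31_1 D13288 (iv D12280) (iv F48221)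
theorem F52243 : act 8 n13288 = n13288 := d35_2 D12279 D13288 (iv D13288) (iv D12279) F43851
def n13289 : Q := act 3 n12280
theorem D13289 : act 3 n12280 = n13289 := rfl
theorem F52244 : act 0 n13289 = n12533 := d2_1 D13289 (iv F52043) F52040
theorem F52245 : act 1 n13289 = n12329 := d9_1 D13289 (iv D12329) (iv F48222)
theorem F52246 : act 6 n13289 = n13289 := d23_2 F48225 D13289 (iv D13289)
theorem F52247 : act 7 n13289 = n12408 := d24_2 D12280 D13289 F52235 (iv D13286) F48212
theorem F52248 : act 8 n13289 = n13289 := d25_2 F48226 D13289 (iv D13289)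
theorem F52249 : act 2 n12412 = n13289 := d19_3 F52247 F48755 D12412
theorem F52250 : act 4 n12409 = n13289 := d28_3 F52247 F48756 D12409
def n13290 : Q := act 4 n12281
theorem D13290 : act 4 n12281 = n13290 := rfl
theorem F52251 : act 0 n13290 = n12534 := d3_1 D13290 (iv F52049) F52047
theorem F52252 : act 1 n13290 = n12330 := d10_1 D13290 (iv D12330) (iv F48227)
theorem F52253 : act 2 n13290 = n13224 := d16_1 D13290 F52049 F49272
theorem F52254 : act 3 n13290 = n12409 := d21_1 D13290 F52250 (iv D13289) F48224 D12281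
theorem F52255 : act 6 n13290 = n13290 := d27_2 F48228 D13290 (iv D13290)
theorem F52256 : act 7 n13290 = n12931 := d28_2 (iv F48229) D13290 (iv D12931)
theorem F52257 : act 8 n13290 = n13290 := d29_2 F48230 D13290 (iv D13290)
def n13291 : Q := act 7 n12282
theorem D13291 : act 7 n12282 = n13291 := rfl
theorem F52258 : act 1 n13291 = n12294 := d13_1 D13291 (iv D12294) (iv F48231)
theorem F52259 : act 5 n13291 = n13291 := d31_1 D13291 (iv D13291) F48232
theorem F52260 : act 6 n13291 = n12283 := d33_1 D13291 (iv D12283) (iv F48233)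
theorem F52261 : act 8 n13291 = n13291 := d35_2 D12282 D13291 (iv D13291) (iv D12282) F43862
def n13292 : Q := act 3 n12283
theorem D13292 : act 3 n12283 = n13292 := rfl
theorem F52262 : act 1 n13292 = n12295 := d9_1 D13292 (iv D12295) (iv F48234)
theorem F52263 : act 5 n13292 = n12284 := d22_2 (iv F48235) D13292 (iv D12284)
theorem F52264 : act 8 n13292 = n13292 := d25_2 F48236 D13292 (iv D13292)
def n13293 : Q := act 2 n12284
theorem D13293 : act 2 n12284 = n13293 := rfl
theorem F52265 : act 0 n13293 = n12537 := d1_1 D13293 (iv F52063) F52061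
theorem F52266 : act 3 n13293 = n12412 := d15_2 D12284 D13293 F52249 (iv D13289) F48223
theorem F52267 : act 4 n13293 = n13227 := d16_2 F49283 D13293 F52063
theorem F52268 : act 6 n13293 = n13293 := d18_2 F48238 D13293 (iv D13293)
theorem F52269 : act 7 n13293 = n12753 := d19_2 F50618 D13293 (iv F50615)
theorem F52270 : act 8 n13293 = n13293 := d20_2 F48239 D13293 (iv D13293)
theorem F52271 : act 1 n12437 = n13293 := d13_3 F52269 F50253 (iv F48870)
def n13294 : Q := act 8 n12285
theorem D13294 : act 8 n12285 = n13294 := rfl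
theorem F52272 : act 0 n13294 = n12297 := d7_1 D13294 (iv D12297) (iv F48240)
theorem F52273 : act 3 n13294 = n13294 := d25_1 D13294 (iv D13294) F48241
theorem F52274 : act 5 n13294 = n12286 := d32_1 D13294 (iv D12286) D12285
def n13295 : Q := act 7 n12286
theorem D13295 : act 7 n12286 = n13295 := rfl
theorem F52275 : act 0 n13295 = n12298 := d6_1 D13295 (iv D12298) (iv F48243)
theorem F52276 : act 4 n13295 = n12287 := d28_1 D13295 (iv D12287) (iv F48245)
theorem F52277 : act 8 n13295 = n12290 := d35_2 D12286 D13295 (iv D12290) (iv D11305) (iv F43871)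
def n13296 : Q := act 8 n12288
theorem D13296 : act 8 n12288 = n13296 := rfl
theorem F52278 : act 0 n13296 = n12299 := d7_1 D13296 (iv D12299) (iv F48248)
theorem F52279 : act 3 n13296 = n12291 := d25_1 D13296 (iv D12291) (iv F48249)
theorem F52280 : act 6 n13296 = n12289 := d34_1 D13296 (iv D12289) D12288
def n13297 : Q := act 7 n12289
theorem D13297 : act 7 n12289 = n13297 := rfl
theorem F52281 : act 0 n13297 = n12300 := d6_1 D13297 (iv D12300) (iv F48250)
theorem F52282 : act 5 n13297 = n12290 := d31_1 D13297 (iv D12290) (iv F48252)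
def n13298 : Q := act 3 n12290
theorem D13298 : act 3 n12290 = n13298 := rfl
theorem F52283 : act 0 n13298 = n12301 := d2_1 D13298 (iv D12301) (iv F48253)
theorem F52284 : act 7 n13298 = n12293 := d24_2 D12290 D13298 (iv D12293) (iv D11309) (iv F43877)
def n13299 : Q := act 7 n12291
theorem D13299 : act 7 n12291 = n13299 := rfl
theorem F52285 : act 0 n13299 = n12302 := d6_1 D13299 (iv D12302) (iv F48255)
theorem F52286 : act 2 n13299 = n12334 := d19_1 D13299 (iv D12334) (iv F48256)
theorem F52287 : act 4 n13299 = n12294 := d28_1 D13299 (iv D12294) (iv F48257)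
theorem F52288 : act 6 n13299 = n12292 := d33_1 D13299 (iv D12292) (iv F48258)
theorem F52289 : act 8 n13299 = n13299 := d35_2 D12291 D13299 (iv D13299) (iv D12291) F43883
def n13300 : Q := act 3 n12292
theorem D13300 : act 3 n12292 = n13300 := rfl
theorem F52290 : act 0 n13300 = n12303 := d2_1 D13300 (iv D12303) (iv F48259)
theorem F52291 : act 5 n13300 = n12293 := d22_2 (iv F48262) D13300 (iv D12293)
theorem F52292 : act 8 n13300 = n13300 := d25_2 F48263 D13300 (iv D13300)
def n13301 : Q := act 2 n12293
theorem D13301 : act 2 n12293 = n13301 := rfl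
theorem F52293 : act 0 n13301 = n12304 := d1_1 D13301 (iv D12304) (iv F48264)
theorem F52294 : act 3 n13301 = n12336 := d15_2 D12293 D13301 (iv D12336) (iv D11346) (iv F43889)
theorem F52295 : act 8 n13301 = n13301 := d20_2 F48265 D13301 (iv D13301)
def n13302 : Q := act 3 n12294
theorem D13302 : act 3 n12294 = n13302 := rfl
theorem F52296 : act 0 n13302 = n12305 := d2_1 D13302 (iv D12305) (iv F48266)
theorem F52297 : act 5 n13302 = n13302 := d22_2 F48268 D13302 (iv D13302)
theorem F52298 : act 6 n13302 = n12295 := d23_2 (iv F48269) D13302 (iv D12295)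
theorem F52299 : act 8 n13302 = n13302 := d25_2 F48270 D13302 (iv D13302)
def n13303 : Q := act 2 n12295
theorem D13303 : act 2 n12295 = n13303 := rfl
theorem F52300 : act 0 n13303 = n12306 := d1_1 D13303 (iv D12306) (iv F48271)
theorem F52301 : act 3 n13303 = n12338 := d15_2 D12295 D13303 (iv D12338) (iv D11348) (iv F43897)
theorem F52302 : act 5 n13303 = n12296 := d17_2 (iv F48272) D13303 (iv D12296)
theorem F52303 : act 8 n13303 = n13303 := d20_2 F48273 D13303 (iv D13303)
def n13304 : Q := act 4 n12295
theorem D13304 : act 4 n12295 = n13304 := rfl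
theorem F52304 : act 0 n13304 = n12307 := d3_1 D13304 (iv D12307) (iv F48271)
theorem F52305 : act 8 n13304 = n13304 := d29_2 F48273 D13304 (iv D13304)
def n13305 : Q := act 1 n12296
theorem D13305 : act 1 n12296 = n13305 := rfl
theorem F52306 : act 2 n13305 = n12437 := d8_2 D12296 D13305 F52271 (iv D13293) F48237
theorem F52307 : act 3 n13305 = n12340 := d9_2 (iv F48275) D13305 (iv D12340)
theorem F52308 : act 4 n13305 = n13243 := d10_2 F49444 D13305 F52112
theorem F52309 : act 6 n13305 = n13305 := d12_2 F48276 D13305 (iv D13305)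
theorem F52310 : act 7 n13305 = n12788 := d13_2 F50670 D13305 (iv F50666)
theorem F52311 : act 8 n13305 = n13305 := d14_2 F48277 D13305 (iv D13305)
theorem F52312 : act 0 n12480 = n13305 := d6_3 F52310 F50373 (iv F49068)
def n13306 : Q := act 7 n12297
theorem D13306 : act 7 n12297 = n13306 := rfl
theorem F52313 : act 5 n13306 = n12298 := d31_1 D13306 (iv D12298) (iv F48279)
theorem F52314 : act 8 n13306 = n12300 := d35_2 D12297 D13306 (iv D12300) (iv D11317) (iv F43904)
def n13307 : Q := act 3 n12298
theorem D13307 : act 3 n12298 = n13307 := rfl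
theorem F52315 : act 7 n13307 = n13307 := d24_2 D12298 D13307 (iv D13307) (iv D12298) F43905
theorem F52316 : act 8 n13307 = n12301 := d25_2 (iv F48281) D13307 (iv D12301)
def n13308 : Q := act 7 n12299
theorem D13308 : act 7 n12299 = n13308 := rfl
theorem F52317 : act 6 n13308 = n12300 := d33_1 D13308 (iv D12300) (iv F48283)
def n13309 : Q := act 3 n12300
theorem D13309 : act 3 n12300 = n13309 := rfl
theorem F52318 : act 5 n13309 = n12301 := d22_2 (iv F48284) D13309 (iv D12301)
theorem F52319 : act 7 n13309 = n12303 := d24_2 D12300 D13309 (iv D12303) (iv D11320) (iv F43909)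
def n13310 : Q := act 2 n12301
theorem D13310 : act 2 n12301 = n13310 := rfl
theorem F52320 : act 7 n13310 = n12304 := d19_2 (iv F48285) D13310 (iv D12304)
def n13311 : Q := act 3 n12302
theorem D13311 : act 3 n12302 = n13311 := rfl
theorem F52321 : act 6 n13311 = n12303 := d23_2 (iv F48288) D13311 (iv D12303)
theorem F52322 : act 8 n13311 = n13311 := d25_2 F48289 D13311 (iv D13311)
def n13312 : Q := act 2 n12303
theorem D13312 : act 2 n12303 = n13312 := rfl
theorem F52323 : act 3 n13312 = n12342 := d15_2 D12303 D13312 (iv D12342) (iv D11351) (iv F43915)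
theorem F52324 : act 5 n13312 = n12304 := d17_2 (iv F48290) D13312 (iv D12304)
theorem F52325 : act 8 n13312 = n13312 := d20_2 F48291 D13312 (iv D13312)
def n13313 : Q := act 4 n12303
theorem D13313 : act 4 n12303 = n13313 := rfl
theorem F52326 : act 3 n13313 = n12307 := d21_1 D13313 (iv D12307) (iv D11323) (iv F43916) D12303
theorem F52327 : act 8 n13313 = n13313 := d29_2 F48291 D13313 (iv D13313)
def n13314 : Q := act 1 n12304
theorem D13314 : act 1 n12304 = n13314 := rfl
theorem F52328 : act 3 n13314 = n12344 := d9_2 (iv F48292) D13314 (iv D12344)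
theorem F52329 : act 8 n13314 = n13314 := d14_2 F48293 D13314 (iv D13314)
def n13315 : Q := act 0 n12308
theorem D13315 : act 0 n12308 = n13315 := rfl
theorem F52330 : act 1 n13315 = n12480 := d0_2 D12308 D13315 F52312 (iv D13305) F48274
theorem F52331 : act 2 n13315 = n12381 := d1_2 F49873 D13315 (iv F49871)
theorem F52332 : act 3 n13315 = n12349 := d2_2 (iv F48301) D13315 (iv D12349)
theorem F52333 : act 4 n13315 = n12664 := d3_2 F48642 D13315 F49871
theorem F52334 : act 5 n13315 = n12384 := d4_2 F49122 D13315 (iv F49118)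
theorem F52335 : act 6 n13315 = n13315 := d5_2 F48302 D13315 (iv D13315)
theorem F52336 : act 7 n13315 = n12379 := d6_2 (iv F48639) D13315 (iv F48632)
theorem F52337 : act 8 n13315 = n13315 := d7_2 F48303 D13315 (iv D13315)
def n13316 : Q := act 5 n12309
theorem D13316 : act 5 n12309 = n13316 := rfl
theorem F52338 : act 0 n13316 = n13316 := d4_1 D13316 (iv D13316) F48304
theorem F52339 : act 2 n13316 = n13194 := d17_1 D13316 F51925 F51087
theorem F52340 : act 3 n13316 = n13316 := d22_1 D13316 (iv D13316) F48305
theorem F52341 : act 4 n13316 = n13193 := d26_1 D13316 F51922 (iv D12991) F46956 D12309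
theorem F52342 : act 7 n13316 = n13000 := d31_2 (iv F48306) D13316 (iv D13000)
def n13317 : Q := act 8 n12309
theorem D13317 : act 8 n12309 = n13317 := rfl
theorem F52343 : act 0 n13317 = n13317 := d7_1 D13317 (iv D13317) F48304
theorem F52344 : act 3 n13317 = n13317 := d25_1 D13317 (iv D13317) F48305
theorem F52345 : act 4 n13317 = n12310 := d29_1 D13317 (iv D12310) D12309
def n13318 : Q := act 7 n12310
theorem D13318 : act 7 n12310 = n13318 := rfl
theorem F52346 : act 0 n13318 = n13318 := d6_1 D13318 (iv D13318) F48307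
theorem F52347 : act 8 n13318 = n13002 := d35_2 D12310 D13318 (iv D13002) (iv D11970) (iv F43930)
def n13319 : Q := act 4 n12311
theorem D13319 : act 4 n12311 = n13319 := rfl
theorem F52348 : act 0 n13319 = n13319 := d3_1 D13319 (iv D13319) F48309
theorem F52349 : act 3 n13319 = n12321 := d21_1 D13319 (iv D12321) F43961 (iv F43938) (iv F48310)
theorem F52350 : act 5 n13319 = n13032 := d26_2 D12311 D13319 (iv D13032) (iv D11994) (iv F43935)
def n13320 : Q := act 6 n12311
theorem D13320 : act 6 n12311 = n13320 := rfl
theorem F52351 : act 0 n13320 = n13320 := d5_1 D13320 (iv D13320) F48309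
theorem F52352 : act 3 n13320 = n12314 := d23_1 D13320 (iv D12314) (iv F48310)
def n13321 : Q := act 7 n12311
theorem D13321 : act 7 n12311 = n13321 := rfl
theorem F52353 : act 0 n13321 = n13321 := d6_1 D13321 (iv D13321) F48309
theorem F52354 : act 3 n13321 = n13321 := d24_1 D13321 (iv D13321) F48310 F43939 (iv F48310)
theorem F52355 : act 5 n13321 = n12312 := d31_1 D13321 (iv D12312) D12311
def n13322 : Q := act 8 n12311
theorem D13322 : act 8 n12311 = n13322 := rfl
theorem F52356 : act 0 n13322 = n13322 := d7_1 D13322 (iv D13322) F48309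
theorem F52357 : act 3 n13322 = n12315 := d25_1 D13322 (iv D12315) (iv F48310)
theorem F52358 : act 5 n13322 = n12313 := d32_1 D13322 (iv D12313) D12311
def n13323 : Q := act 8 n12312
theorem D13323 : act 8 n12312 = n13323 := rfl
theorem F52359 : act 0 n13323 = n13323 := d7_1 D13323 (iv D13323) F48311
theorem F52360 : act 3 n13323 = n13323 := d25_1 D13323 (iv D13323) F48312
theorem F52361 : act 4 n13323 = n13036 := d29_1 D13323 (iv D13036) (iv F48313)
def n13324 : Q := act 7 n12313
theorem D13324 : act 7 n12313 = n13324 := rfl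
theorem F52362 : act 0 n13324 = n13324 := d6_1 D13324 (iv D13324) F48314
theorem F52363 : act 4 n13324 = n13037 := d28_1 D13324 (iv D13037) (iv F48316)
def n13325 : Q := act 8 n12314
theorem D13325 : act 8 n12314 = n13325 := rfl
theorem F52364 : act 0 n13325 = n13325 := d7_1 D13325 (iv D13325) F48317
theorem F52365 : act 2 n13325 = n12318 := d20_1 D13325 (iv D12318) (iv F48318)
theorem F52366 : act 4 n13325 = n12327 := d29_1 D13325 (iv D12327) (iv F48319)
theorem F52367 : act 6 n13325 = n12315 := d34_1 D13325 (iv D12315) D12314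
def n13326 : Q := act 7 n12315
theorem D13326 : act 7 n12315 = n13326 := rfl
theorem F52368 : act 0 n13326 = n13326 := d6_1 D13326 (iv D13326) F48321
theorem F52369 : act 2 n13326 = n12319 := d19_1 D13326 (iv D12319) (iv F48322)
theorem F52370 : act 4 n13326 = n12328 := d28_1 D13326 (iv D12328) (iv F48323)
theorem F52371 : act 5 n13326 = n12316 := d31_1 D13326 (iv D12316) (iv F48324)
theorem F52372 : act 8 n13326 = n13326 := d35_2 D12315 D13326 (iv D13326) (iv D12315) F43939
def n13327 : Q := act 3 n12316
theorem D13327 : act 3 n12316 = n13327 := rfl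
theorem F52373 : act 0 n13327 = n13327 := d2_1 D13327 (iv D13327) F48325
theorem F52374 : act 8 n13327 = n13327 := d25_2 F48328 D13327 (iv D13327)
def n13328 : Q := act 4 n12317
theorem D13328 : act 4 n12317 = n13328 := rfl
theorem F52375 : act 0 n13328 = n13328 := d3_1 D13328 (iv D13328) F48329
theorem F52376 : act 2 n13328 = n13328 := d16_1 D13328 (iv D13328) F48330
theorem F52377 : act 7 n13328 = n13041 := d28_2 (iv F48332) D13328 (iv D13041)
theorem F52378 : act 8 n13328 = n13328 := d29_2 F48333 D13328 (iv D13328)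
def n13329 : Q := act 7 n12318
theorem D13329 : act 7 n12318 = n13329 := rfl
theorem F52379 : act 0 n13329 = n13329 := d6_1 D13329 (iv D13329) F48334
theorem F52380 : act 1 n13329 = n12334 := d13_1 D13329 (iv D12334) (iv F48335)
theorem F52381 : act 4 n13329 = n12331 := d28_1 D13329 (iv D12331) (iv F48336)
theorem F52382 : act 6 n13329 = n12319 := d33_1 D13329 (iv D12319) (iv F48337)
theorem F52383 : act 8 n13329 = n13329 := d35_2 D12318 D13329 (iv D13329) (iv D12318) F43950
def n13330 : Q := act 3 n12319
theorem D13330 : act 3 n12319 = n13330 := rfl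
theorem F52384 : act 0 n13330 = n13330 := d2_1 D13330 (iv D13330) F48338
theorem F52385 : act 1 n13330 = n12335 := d9_1 D13330 (iv D12335) (iv F48339)
theorem F52386 : act 5 n13330 = n12320 := d22_2 (iv F48341) D13330 (iv D12320)
theorem F52387 : act 8 n13330 = n13330 := d25_2 F48342 D13330 (iv D13330)
def n13331 : Q := act 2 n12320
theorem D13331 : act 2 n12320 = n13331 := rfl
theorem F52388 : act 0 n13331 = n13331 := d1_1 D13331 (iv D13331) F48343
theorem F52389 : act 4 n13331 = n13331 := d16_2 F48345 D13331 (iv D13331)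
theorem F52390 : act 8 n13331 = n13331 := d20_2 F48346 D13331 (iv D13331)
def n13332 : Q := act 8 n12321
theorem D13332 : act 8 n12321 = n13332 := rfl
theorem F52391 : act 0 n13332 = n13332 := d7_1 D13332 (iv D13332) F48347
theorem F52392 : act 2 n13332 = n13332 := d20_1 D13332 (iv D13332) F48348
theorem F52393 : act 4 n13332 = n12324 := d29_1 D13332 (iv D12324) D12321
theorem F52394 : act 5 n13332 = n13045 := d32_1 D13332 (iv D13045) (iv F48349)
def n13333 : Q := act 8 n12322
theorem D13333 : act 8 n12322 = n13333 := rfl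
theorem F52395 : act 0 n13333 = n13333 := d7_1 D13333 (iv D13333) F48350
theorem F52396 : act 2 n13333 = n13333 := d20_1 D13333 (iv D13333) F48351
theorem F52397 : act 3 n13333 = n12327 := d25_1 D13333 (iv D12327) (iv F48352)
theorem F52398 : act 5 n13333 = n13333 := d32_1 D13333 (iv D13333) F48353
theorem F52399 : act 6 n13333 = n12324 := d34_1 D13333 (iv D12324) D12322
def n13334 : Q := act 8 n12323
theorem D13334 : act 8 n12323 = n13334 := rfl
theorem F52400 : act 0 n13334 = n13334 := d7_1 D13334 (iv D13334) F48354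
theorem F52401 : act 2 n13334 = n13334 := d20_1 D13334 (iv D13334) F48355
theorem F52402 : act 3 n13334 = n13334 := d25_1 D13334 (iv D13334) F48356
theorem F52403 : act 5 n13334 = n12325 := d32_1 D13334 (iv D12325) (iv F48357)
def n13335 : Q := act 7 n12324
theorem D13335 : act 7 n12324 = n13335 := rfl
theorem F52404 : act 0 n13335 = n13335 := d6_1 D13335 (iv D13335) F48358
theorem F52405 : act 2 n13335 = n13335 := d19_1 D13335 (iv D13335) F48359
theorem F52406 : act 5 n13335 = n12326 := d31_1 D13335 (iv D12326) (iv F48361)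
def n13336 : Q := act 7 n12325
theorem D13336 : act 7 n12325 = n13336 := rfl
theorem F52407 : act 0 n13336 = n13336 := d6_1 D13336 (iv D13336) F48362
theorem F52408 : act 1 n13336 = n12406 := d13_1 D13336 F52228 F52223
theorem F52409 : act 2 n13336 = n13336 := d19_1 D13336 (iv D13336) F48363
theorem F52410 : act 4 n13336 = n13049 := d28_1 D13336 (iv D13049) (iv F48365)
theorem F52411 : act 6 n13336 = n13336 := d33_1 D13336 (iv D13336) F48366
theorem F52412 : act 8 n13336 = n12326 := d35_2 D12325 D13336 (iv D12326) (iv D11336) D11335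
theorem F52413 : act 3 n12353 = n13336 := d21_5 F52410 F51309 (iv D12650) F45808 D12353
def n13337 : Q := act 3 n12326
theorem D13337 : act 3 n12326 = n13337 := rfl
theorem F52414 : act 0 n13337 = n13337 := d2_1 D13337 (iv D13337) F48367
theorem F52415 : act 1 n13337 = n12408 := d9_1 D13337 F52235 F52230
theorem F52416 : act 4 n13337 = n12354 := d21_2 (iv F48369) D13337 (iv F49795) F51318 (iv D13050)
theorem F52417 : act 6 n13337 = n13337 := d23_2 F48370 D13337 (iv D13337)
theorem F52418 : act 7 n13337 = n12329 := d24_2 D12326 D13337 (iv D12329) (iv D11339) (iv F43969)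
theorem F52419 : act 8 n13337 = n12353 := d25_2 F52412 D13337 F52413
theorem F52420 : act 2 n12356 = n13337 := d20_3 F52419 F48480 D12356
def n13338 : Q := act 7 n12327
theorem D13338 : act 7 n12327 = n13338 := rfl
theorem F52421 : act 0 n13338 = n13338 := d6_1 D13338 (iv D13338) F48371
theorem F52422 : act 2 n13338 = n12331 := d19_1 D13338 (iv D12331) (iv F48372)
theorem F52423 : act 5 n13338 = n13338 := d31_1 D13338 (iv D13338) F48373
theorem F52424 : act 6 n13338 = n12328 := d33_1 D13338 (iv D12328) (iv F48374)
theorem F52425 : act 8 n13338 = n13338 := d35_2 D12327 D13338 (iv D13338) (iv D12327) F43975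
def n13339 : Q := act 3 n12328
theorem D13339 : act 3 n12328 = n13339 := rfl
theorem F52426 : act 0 n13339 = n13339 := d2_1 D13339 (iv D13339) F48375
theorem F52427 : act 5 n13339 = n12329 := d22_2 (iv F48377) D13339 (iv D12329)
theorem F52428 : act 8 n13339 = n13339 := d25_2 F48378 D13339 (iv D13339)
def n13340 : Q := act 2 n12329
theorem D13340 : act 2 n12329 = n13340 := rfl
theorem F52429 : act 0 n13340 = n13340 := d1_1 D13340 (iv D13340) F48379
theorem F52430 : act 1 n13340 = n12364 := d8_1 D13340 F48534 (iv F48772) F52249 F52245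
theorem F52431 : act 3 n13340 = n12333 := d15_2 D12329 D13340 (iv D12333) (iv D11343) (iv F43980)
theorem F52432 : act 6 n13340 = n13340 := d18_2 F48380 D13340 (iv D13340)
theorem F52433 : act 7 n13340 = n12356 := d19_2 F52418 D13340 F52420
theorem F52434 : act 8 n13340 = n13340 := d20_2 F48381 D13340 (iv D13340)
theorem F52435 : act 4 n12357 = n13340 := d28_3 F52433 F48494 D12357
def n13341 : Q := act 4 n12329
theorem D13341 : act 4 n12329 = n13341 := rfl
theorem F52436 : act 0 n13341 = n13341 := d3_1 D13341 (iv D13341) F48379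
theorem F52437 : act 1 n13341 = n12409 := d10_1 D13341 F52250 F52245
theorem F52438 : act 2 n13341 = n12357 := d16_1 D13341 F52435 (iv D13340)
theorem F52439 : act 3 n13341 = n12330 := d21_1 D13341 (iv D12330) (iv D11340) (iv F43981) D12329
theorem F52440 : act 6 n13341 = n13341 := d27_2 F48380 D13341 (iv D13341)
theorem F52441 : act 7 n13341 = n12354 := d28_2 F52418 D13341 (iv F52416)
theorem F52442 : act 8 n13341 = n13341 := d29_2 F48381 D13341 (iv D13341)
def n13342 : Q := act 3 n12331
theorem D13342 : act 3 n12331 = n13342 := rfl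
theorem F52443 : act 0 n13342 = n13342 := d2_1 D13342 (iv D13342) F48387
theorem F52444 : act 1 n13342 = n12337 := d9_1 D13342 (iv D12337) (iv F48388)
theorem F52445 : act 5 n13342 = n13342 := d22_2 F48389 D13342 (iv D13342)
theorem F52446 : act 6 n13342 = n12332 := d23_2 (iv F48390) D13342 (iv D12332)
theorem F52447 : act 7 n13342 = n13342 := d24_2 D12331 D13342 (iv D13342) (iv D12331) F43991
theorem F52448 : act 8 n13342 = n13342 := d25_2 F48391 D13342 (iv D13342)
def n13343 : Q := act 2 n12332
theorem D13343 : act 2 n12332 = n13343 := rfl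
theorem F52449 : act 0 n13343 = n13343 := d1_1 D13343 (iv D13343) F48392
theorem F52450 : act 5 n13343 = n12333 := d17_2 (iv F48394) D13343 (iv D12333)
theorem F52451 : act 7 n13343 = n13343 := d19_2 F48395 D13343 (iv D13343)
theorem F52452 : act 8 n13343 = n13343 := d20_2 F48396 D13343 (iv D13343)
def n13344 : Q := act 4 n12332
theorem D13344 : act 4 n12332 = n13344 := rfl
theorem F52453 : act 0 n13344 = n13344 := d3_1 D13344 (iv D13344) F48392
theorem F52454 : act 1 n13344 = n12339 := d10_1 D13344 (iv D12339) (iv F48393)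
theorem F52455 : act 5 n13344 = n13344 := d26_2 (iv F48394) D13344 (iv D13344) F48394 F44000
theorem F52456 : act 7 n13344 = n13344 := d28_2 F48395 D13344 (iv D13344)
theorem F52457 : act 8 n13344 = n13344 := d29_2 F48396 D13344 (iv D13344)
def n13345 : Q := act 1 n12333
theorem D13345 : act 1 n12333 = n13345 := rfl
theorem F52458 : act 2 n13345 = n12340 := d8_2 D12333 D13345 (iv D12340) (iv D11349) (iv F43999)
theorem F52459 : act 3 n13345 = n12364 := d9_2 F52431 D13345 (iv F52430)
theorem F52460 : act 4 n13345 = n13345 := d10_2 F48398 D13345 (iv D13345)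
theorem F52461 : act 6 n13345 = n13345 := d12_2 F48399 D13345 (iv D13345)
theorem F52462 : act 7 n13345 = n13345 := d13_2 F48400 D13345 (iv D13345)
theorem F52463 : act 8 n13345 = n13345 := d14_2 F48401 D13345 (iv D13345)
theorem F52464 : act 0 n12374 = n13345 := d2_3 F52459 F48533 D12374
def n13346 : Q := act 3 n12334
theorem D13346 : act 3 n12334 = n13346 := rfl
theorem F52465 : act 0 n13346 = n12341 := d2_1 D13346 (iv D12341) (iv F48402)
theorem F52466 : act 6 n13346 = n12335 := d23_2 (iv F48404) D13346 (iv D12335)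
theorem F52467 : act 8 n13346 = n13346 := d25_2 F48405 D13346 (iv D13346)
def n13347 : Q := act 2 n12335
theorem D13347 : act 2 n12335 = n13347 := rfl
theorem F52468 : act 0 n13347 = n12342 := d1_1 D13347 (iv D12342) (iv F48406)
theorem F52469 : act 5 n13347 = n12336 := d17_2 (iv F48407) D13347 (iv D12336)
theorem F52470 : act 8 n13347 = n13347 := d20_2 F48408 D13347 (iv D13347)
def n13348 : Q := act 4 n12335
theorem D13348 : act 4 n12335 = n13348 := rfl
theorem F52471 : act 0 n13348 = n12343 := d3_1 D13348 (iv D12343) (iv F48406)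
theorem F52472 : act 3 n13348 = n12339 := d21_1 D13348 (iv D12339) (iv D11348) (iv F44008) D12335
theorem F52473 : act 5 n13348 = n13348 := d26_2 (iv F48407) D13348 (iv D13348) F48407 F44012
theorem F52474 : act 8 n13348 = n13348 := d29_2 F48408 D13348 (iv D13348)
def n13349 : Q := act 1 n12336
theorem D13349 : act 1 n12336 = n13349 := rfl
theorem F52475 : act 4 n13349 = n13349 := d10_2 F48410 D13349 (iv D13349)
theorem F52476 : act 8 n13349 = n13349 := d14_2 F48411 D13349 (iv D13349)
def n13350 : Q := act 2 n12337
theorem D13350 : act 2 n12337 = n13350 := rfl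
theorem F52477 : act 0 n13350 = n12345 := d1_1 D13350 (iv D12345) (iv F48412)
theorem F52478 : act 5 n13350 = n13350 := d17_2 F48413 D13350 (iv D13350)
theorem F52479 : act 6 n13350 = n12338 := d18_2 (iv F48414) D13350 (iv D12338)
theorem F52480 : act 7 n13350 = n13350 := d19_2 F48415 D13350 (iv D13350)
theorem F52481 : act 8 n13350 = n13350 := d20_2 F48416 D13350 (iv D13350)
def n13351 : Q := act 4 n12337
theorem D13351 : act 4 n12337 = n13351 := rfl
theorem F52482 : act 0 n13351 = n12346 := d3_1 D13351 (iv D12346) (iv F48412)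
theorem F52483 : act 6 n13351 = n12339 := d27_2 (iv F48414) D13351 (iv D12339)
theorem F52484 : act 7 n13351 = n13351 := d28_2 F48415 D13351 (iv D13351)
theorem F52485 : act 8 n13351 = n13351 := d29_2 F48416 D13351 (iv D13351)
theorem F52486 : act 5 n13345 = n13351 := d4_0 F52482 (iv F48597) F52464
theorem F52487 : act 1 n13351 = n13343 := d11_1 F52486 F52450 D13345
theorem F52488 : act 4 n13343 = n13342 := d10_2 D13351 F52487 F52444
theorem F52489 : act 6 n13343 = n13344 := d12_2 (iv F52483) F52487 F52454
theorem F52490 : act 2 n13344 = n13342 := d18_1 F52489 F52446 D13343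
def n13352 : Q := act 1 n12338
theorem D13352 : act 1 n12338 = n13352 := rfl
theorem F52491 : act 2 n13352 = n13351 := d8_2 D12338 D13352 F52487 (iv D13343) F48393
theorem F52492 : act 5 n13352 = n12340 := d11_2 (iv F48418) D13352 (iv D12340)
theorem F52493 : act 7 n13352 = n13352 := d13_2 F48419 D13352 (iv D13352)
theorem F52494 : act 8 n13352 = n13352 := d14_2 F48420 D13352 (iv D13352)
theorem F52495 : act 4 n13350 = n13352 := d16_0 F52491 (iv D13351) D13350
def n13353 : Q := act 4 n12338
theorem D13353 : act 4 n12338 = n13353 := rfl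
theorem F52496 : act 0 n13353 = n12348 := d3_1 D13353 (iv D12348) (iv F48417)
theorem F52497 : act 1 n13353 = n13350 := d10_1 D13353 F52495 (iv D13352)
theorem F52498 : act 2 n13353 = n12339 := d16_1 D13353 (iv D12339) D12338
theorem F52499 : act 5 n13353 = n13353 := d26_2 (iv F48418) D13353 (iv D13353) F48418 F44023
theorem F52500 : act 6 n13353 = n13352 := d27_2 F52479 D13353 (iv F52495)
theorem F52501 : act 7 n13353 = n13353 := d28_2 F48419 D13353 (iv D13353)
theorem F52502 : act 8 n13353 = n13353 := d29_2 F48420 D13353 (iv D13353)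
def n13354 : Q := act 0 n12340
theorem D13354 : act 0 n12340 = n13354 := rfl
theorem F52503 : act 1 n13354 = n12349 := d0_2 D12340 D13354 (iv D12349) (iv D11356) (iv F44022)
theorem F52504 : act 2 n13354 = n12374 := d1_2 F52458 D13354 F52464
theorem F52505 : act 3 n13354 = n12480 := d2_2 F52307 D13354 F52312
theorem F52506 : act 4 n13354 = n13354 := d3_2 F48425 D13354 (iv D13354)
theorem F52507 : act 6 n13354 = n13354 := d5_2 F48426 D13354 (iv D13354)
theorem F52508 : act 7 n13354 = n13354 := d6_2 F48427 D13354 (iv D13354)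
theorem F52509 : act 8 n13354 = n13354 := d7_2 F48428 D13354 (iv D13354)
def n13355 : Q := act 0 n12344
theorem D13355 : act 0 n12344 = n13355 := rfl
theorem F52510 : act 2 n13355 = n13355 := d1_2 F48438 D13355 (iv D13355)
theorem F52511 : act 4 n13355 = n13355 := d3_2 F48439 D13355 (iv D13355)
theorem F52512 : act 8 n13355 = n13355 := d7_2 F48440 D13355 (iv D13355)
def n13356 : Q := act 4 n12345
theorem D13356 : act 4 n12345 = n13356 := rfl
theorem F52513 : act 0 n13356 = n13352 := d3_1 D13356 (iv F52495) F52477
theorem F52514 : act 2 n13356 = n12346 := d16_1 D13356 (iv D12346) D12345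
theorem F52515 : act 6 n13356 = n12348 := d27_2 (iv F48442) D13356 (iv D12348)
theorem F52516 : act 7 n13356 = n13356 := d28_2 F48443 D13356 (iv D13356)
theorem F52517 : act 8 n13356 = n13356 := d29_2 F48444 D13356 (iv D13356)
theorem F52518 : act 5 n13354 = n13356 := d36_3 (iv F46437) (iv F49068) (iv F52505) (iv D13356) F49889 F49883 F45910 F39994 F39997 (iv D10223) F32111 F23737 F23736 F17619 (iv F17684) (iv F23813) (iv F32231) (iv D8450) F23811 (iv D4848) F14006 F10441 D3545 F14007 F10592 (iv D2635) D2636 F10597 (iv F10692) (iv F14353) (iv F19345) F44662 F25687 F19336 F14568 D5051 D6910 D9469 (iv F43508) (iv F44630) F44226 F44224 F44225 F39306 D10339 D11797 (iv F48616) F48618 F48617 (iv F49009) F49007 F44512 F39287 (iv D8237) (iv D6015) D6013 F23227 F17746 (iv D3567) F10501 F7972 F5978 (iv F6033) D1967 F44944 F10398 F10397 (iv F44944) F8059 F6047 F44986 F7797 F7796 (iv F7828) F7829 (iv F44870) F5950 (iv F7923) (iv F10590) D3599 F44823 D6686 F44730 F19347 (iv F19355) D6826 (iv F34840) D10867 F42324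
def n13357 : Q := act 0 n12347
theorem D13357 : act 0 n12347 = n13357 := rfl
theorem F52519 : act 1 n13357 = n13356 := d0_2 D12347 D13357 F52513 (iv D13352) F48417
theorem F52520 : act 2 n13357 = n13357 := d1_2 F48449 D13357 (iv D13357)
theorem F52521 : act 3 n13357 = n12384 := d2_2 (iv F49125) D13357 (iv F49118)
theorem F52522 : act 4 n13357 = n12667 := d3_2 (iv F49092) D13357 F49890
theorem F52523 : act 5 n13357 = n12349 := d4_2 (iv F48450) D13357 (iv D12349)
theorem F52524 : act 6 n13357 = n12387 := d5_2 F49894 D13357 (iv F49890)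
theorem F52525 : act 7 n13357 = n13357 := d6_2 F48451 D13357 (iv D13357)
theorem F52526 : act 8 n13357 = n13357 := d7_2 F48452 D13357 (iv D13357)
def n13358 : Q := act 5 n12351
theorem D13358 : act 5 n12351 = n13358 := rfl
theorem F52527 : act 0 n13358 = n13358 := d4_1 D13358 (iv D13358) F48469
theorem F52528 : act 1 n13358 = n12359 := d11_1 D13358 (iv D12359) (iv F48470)
theorem F52529 : act 3 n13358 = n13182 := d22_1 D13358 F51877 (iv F48471)
theorem F52530 : act 4 n13358 = n12355 := d26_1 D13358 (iv D12355) (iv D11364) (iv F44072) D12351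
theorem F52531 : act 6 n13358 = n13183 := d30_2 (iv F48472) D13358 F51881 F47868 (iv F47910)
theorem F52532 : act 7 n13358 = n13358 := d31_2 F48473 D13358 (iv D13358)
def n13359 : Q := act 8 n12351
theorem D13359 : act 8 n12351 = n13359 := rfl
theorem F52533 : act 0 n13359 = n13359 := d7_1 D13359 (iv D13359) F48469
theorem F52534 : act 1 n13359 = n12360 := d14_1 D13359 (iv D12360) (iv F48470)
theorem F52535 : act 3 n13359 = n13042 := d25_1 D13359 F51283 (iv F48471)
theorem F52536 : act 4 n13359 = n12352 := d29_1 D13359 (iv D12352) D12351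
theorem F52537 : act 6 n13359 = n13043 := d34_1 D13359 F51287 (iv F48472)
def n13360 : Q := act 7 n12352
theorem D13360 : act 7 n12352 = n13360 := rfl
theorem F52538 : act 0 n13360 = n13360 := d6_1 D13360 (iv D13360) F48474
theorem F52539 : act 1 n13360 = n12361 := d13_1 D13360 (iv D12361) (iv F48475)
theorem F52540 : act 3 n13360 = n13360 := d24_1 D13360 (iv D13360) F48476 F44077 (iv F48476)
theorem F52541 : act 5 n13360 = n12357 := d31_1 D13360 (iv D12357) (iv F48477)
theorem F52542 : act 8 n13360 = n13360 := d35_2 D12352 D13360 (iv D13360) (iv D12352) F44073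
def n13361 : Q := act 5 n12353
theorem D13361 : act 5 n12353 = n13361 := rfl
theorem F52543 : act 0 n13361 = n13361 := d4_1 D13361 (iv D13361) F48478
theorem F52544 : act 1 n13361 = n12407 := d11_1 D13361 (iv D12407) (iv F48479)
theorem F52545 : act 2 n13361 = n12355 := d17_1 D13361 (iv D12355) (iv F48480)
theorem F52546 : act 7 n13361 = n13361 := d31_2 F48482 D13361 (iv D13361)
def n13362 : Q := act 6 n12355
theorem D13362 : act 6 n12355 = n13362 := rfl
theorem F52547 : act 0 n13362 = n13362 := d5_1 D13362 (iv D13362) F48487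
theorem F52548 : act 1 n13362 = n12362 := d12_1 D13362 (iv D12362) (iv F48488)
theorem F52549 : act 3 n13362 = n13362 := d23_1 D13362 (iv D13362) F48489
theorem F52550 : act 4 n13362 = n13183 := d27_1 D13362 (iv F52531) F52530
theorem F52551 : act 5 n13362 = n13362 := d30_1 D13362 (iv D13362) (iv D12355) F44085 D12355
theorem F52552 : act 7 n13362 = n13362 := d33_2 F48490 D13362 (iv D13362)
def n13363 : Q := act 8 n12355
theorem D13363 : act 8 n12355 = n13363 := rfl
theorem F52553 : act 0 n13363 = n13363 := d7_1 D13363 (iv D13363) F48487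
theorem F52554 : act 1 n13363 = n12363 := d14_1 D13363 (iv D12363) (iv F48488)
theorem F52555 : act 3 n13363 = n13363 := d25_1 D13363 (iv D13363) F48489
theorem F52556 : act 5 n13363 = n12356 := d32_1 D13363 (iv D12356) D12355
def n13364 : Q := act 7 n12358
theorem D13364 : act 7 n12358 = n13364 := rfl
theorem F52557 : act 0 n13364 = n12369 := d6_1 D13364 (iv D12369) (iv F48501)
theorem F52558 : act 2 n13364 = n12431 := d19_1 D13364 (iv D12431) (iv F48502)
theorem F52559 : act 3 n13364 = n13364 := d24_1 D13364 (iv D13364) F48503 F44125 (iv F48503)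
theorem F52560 : act 4 n13364 = n13063 := d28_1 D13364 F51373 (iv F48504)
theorem F52561 : act 5 n13364 = n13364 := d31_1 D13364 (iv D13364) F48505
theorem F52562 : act 6 n13364 = n12361 := d33_1 D13364 (iv D12361) (iv F48506)
theorem F52563 : act 8 n13364 = n13364 := d35_2 D12358 D13364 (iv D13364) (iv D12358) F44120
def n13365 : Q := act 8 n12359
theorem D13365 : act 8 n12359 = n13365 := rfl
theorem F52564 : act 0 n13365 = n12370 := d7_1 D13365 (iv D12370) (iv F48507)
theorem F52565 : act 2 n13365 = n12433 := d20_1 D13365 (iv D12433) (iv F48508)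
theorem F52566 : act 3 n13365 = n13065 := d25_1 D13365 F51384 (iv F48509)
theorem F52567 : act 4 n13365 = n12363 := d29_1 D13365 (iv D12363) (iv F48510)
theorem F52568 : act 5 n13365 = n12360 := d32_1 D13365 (iv D12360) D12359
theorem F52569 : act 6 n13365 = n13066 := d34_1 D13365 F51388 (iv F48511)
theorem F52570 : act 7 n13346 = n13365 := d33_0 F52569 F51387 (iv F52466)
def n13366 : Q := act 7 n12360
theorem D13366 : act 7 n12360 = n13366 := rfl
theorem F52571 : act 0 n13366 = n12371 := d6_1 D13366 (iv D12371) (iv F48513)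
theorem F52572 : act 2 n13366 = n12434 := d19_1 D13366 (iv D12434) (iv F48514)
theorem F52573 : act 3 n13366 = n13062 := d24_1 D13366 (iv D13062) F47226 D12031 (iv F48515)
theorem F52574 : act 4 n13366 = n12361 := d28_1 D13366 (iv D12361) (iv F48516)
theorem F52575 : act 5 n13366 = n13346 := d31_1 D13366 F52570 F52568
theorem F52576 : act 6 n13366 = n13063 := d33_1 D13366 F51373 (iv F48517)
theorem F52577 : act 8 n13366 = n13366 := d35_2 D12360 D13366 (iv D13366) (iv D12360) F44128
def n13367 : Q := act 8 n12362
theorem D13367 : act 8 n12362 = n13367 := rfl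
theorem F52578 : act 0 n13367 = n12372 := d7_1 D13367 (iv D12372) (iv F48523)
theorem F52579 : act 2 n13367 = n12435 := d20_1 D13367 (iv D12435) (iv F48524)
theorem F52580 : act 3 n13367 = n13367 := d25_1 D13367 (iv D13367) F48525
theorem F52581 : act 4 n13367 = n13066 := d29_1 D13367 F51388 (iv F48526)
theorem F52582 : act 5 n13367 = n13367 := d32_1 D13367 (iv D13367) F48527
theorem F52583 : act 6 n13367 = n12363 := d34_1 D13367 (iv D12363) D12362
theorem F52584 : act 7 n13348 = n13367 := d28_0 F52581 F51387 D13348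
def n13368 : Q := act 7 n12363
theorem D13368 : act 7 n12363 = n13368 := rfl
theorem F52585 : act 0 n13368 = n12373 := d6_1 D13368 (iv D12373) (iv F48529)
theorem F52586 : act 2 n13368 = n12436 := d19_1 D13368 (iv D12436) (iv F48530)
theorem F52587 : act 4 n13368 = n13346 := d28_1 D13368 F52570 F52567
theorem F52588 : act 5 n13368 = n12364 := d31_1 D13368 (iv D12364) (iv F48532)
theorem F52589 : act 6 n13368 = n13348 := d33_1 D13368 F52584 F52583
theorem F52590 : act 8 n13368 = n13368 := d35_2 D12363 D13368 (iv D13368) (iv D12363) F44136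
theorem F52591 : act 3 n13351 = n13368 := d23_3 F52589 F52472 (iv F52483)
def n13369 : Q := act 7 n12365
theorem D13369 : act 7 n12365 = n13369 := rfl
theorem F52592 : act 0 n13369 = n12375 := d6_1 D13369 (iv D12375) (iv F48538)
theorem F52593 : act 2 n13369 = n12574 := d19_1 D13369 F49440 (iv F48539)
theorem F52594 : act 3 n13369 = n13369 := d24_1 D13369 (iv D13369) F48540 F44158 (iv F48540)
theorem F52595 : act 4 n13369 = n12443 := d28_1 D13369 (iv D12443) (iv F48541)
theorem F52596 : act 5 n13369 = n12575 := d31_1 D13369 F49446 (iv F48542)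
theorem F52597 : act 6 n13369 = n12368 := d33_1 D13369 (iv D12368) (iv F48543)
theorem F52598 : act 8 n13369 = n13369 := d35_2 D12365 D13369 (iv D13369) (iv D12365) F44154
def n13370 : Q := act 0 n12366
theorem D13370 : act 0 n12366 = n13370 := rfl
theorem F52599 : act 1 n13370 = n12376 := d0_2 D12366 D13370 (iv D12376) (iv D11406) (iv F44159)
theorem F52600 : act 3 n13370 = n13106 := d2_2 (iv F48544) D13370 F51570
theorem F52601 : act 4 n13370 = n12444 := d3_2 (iv F48545) D13370 (iv D12444)
theorem F52602 : act 5 n13370 = n13370 := d4_2 F48546 D13370 (iv D13370)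
theorem F52603 : act 6 n13370 = n13107 := d5_2 (iv F48547) D13370 F51574
theorem F52604 : act 7 n13370 = n13370 := d6_2 F48548 D13370 (iv D13370)
def n13371 : Q := act 8 n12366
theorem D13371 : act 8 n12366 = n13371 := rfl
theorem F52605 : act 1 n13371 = n12367 := d14_1 D13371 (iv D12367) D12366
theorem F52606 : act 3 n13371 = n12932 := d25_1 D13371 F50871 (iv F48544)
theorem F52607 : act 4 n13371 = n12445 := d29_1 D13371 (iv D12445) (iv F48545)
theorem F52608 : act 5 n13371 = n13371 := d32_1 D13371 (iv D13371) F48546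
theorem F52609 : act 6 n13371 = n12933 := d34_1 D13371 F50874 (iv F48547)
def n13372 : Q := act 7 n12367
theorem D13372 : act 7 n12367 = n13372 := rfl
theorem F52610 : act 0 n13372 = n12378 := d6_1 D13372 (iv D12378) (iv F48549)
theorem F52611 : act 2 n13372 = n12368 := d19_1 D13372 (iv D12368) (iv F48550)
theorem F52612 : act 3 n13372 = n12573 := d24_1 D13372 (iv D12573) F45420 D11923 (iv F48551)
theorem F52613 : act 4 n13372 = n12446 := d28_1 D13372 (iv D12446) (iv F48552)
theorem F52614 : act 5 n13372 = n13372 := d31_1 D13372 (iv D13372) F48553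
theorem F52615 : act 6 n13372 = n12574 := d33_1 D13372 F49440 (iv F48554)
theorem F52616 : act 8 n13372 = n13372 := d35_2 D12367 D13372 (iv D13372) (iv D12367) F44162
def n13373 : Q := act 8 n12376
theorem D13373 : act 8 n12376 = n13373 := rfl
theorem F52617 : act 0 n13373 = n12377 := d7_1 D13373 (iv D12377) D12376
theorem F52618 : act 2 n13373 = n12385 := d20_1 D13373 (iv D12385) (iv F48608)
theorem F52619 : act 3 n13373 = n12786 := d25_1 D13373 F50369 (iv F48609)
theorem F52620 : act 4 n13373 = n12487 := d29_1 D13373 (iv D12487) (iv F48610)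
theorem F52621 : act 5 n13373 = n13373 := d32_1 D13373 (iv D13373) F48611
theorem F52622 : act 6 n13373 = n12787 := d34_1 D13373 F50372 (iv F48612)
def n13374 : Q := act 7 n12377
theorem D13374 : act 7 n12377 = n13374 := rfl
theorem F52623 : act 1 n13374 = n12378 := d13_1 D13374 (iv D12378) (iv F48614)
theorem F52624 : act 2 n13374 = n12386 := d19_1 D13374 (iv D12386) (iv F48615)
theorem F52625 : act 3 n13374 = n12478 := d24_1 D13374 (iv D12478) F44545 D11797 (iv F48616)
theorem F52626 : act 4 n13374 = n12488 := d28_1 D13374 (iv D12488) (iv F48617)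
theorem F52627 : act 5 n13374 = n13374 := d31_1 D13374 (iv D13374) F48618
theorem F52628 : act 6 n13374 = n12479 := d33_1 D13374 F49064 (iv F48619)
theorem F52629 : act 8 n13374 = n13374 := d35_2 D12377 D13374 (iv D13374) (iv D12377) F44257
def n13375 : Q := act 8 n12382
theorem D13375 : act 8 n12382 = n13375 := rfl
theorem F52630 : act 0 n13375 = n12383 := d7_1 D13375 (iv D12383) D12382
theorem F52631 : act 2 n13375 = n12787 := d20_1 D13375 F50372 (iv F48646)
theorem F52632 : act 3 n13375 = n13375 := d25_1 D13375 (iv D13375) F48647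
theorem F52633 : act 4 n13375 = n12491 := d29_1 D13375 (iv D12491) (iv F48648)
theorem F52634 : act 5 n13375 = n12788 := d32_1 D13375 F50376 (iv F48649)
theorem F52635 : act 6 n13375 = n12385 := d34_1 D13375 (iv D12385) (iv F48650)
def n13376 : Q := act 7 n12383
theorem D13376 : act 7 n12383 = n13376 := rfl
theorem F52636 : act 1 n13376 = n12384 := d13_1 D13376 (iv D12384) (iv F48652)
theorem F52637 : act 2 n13376 = n12479 := d19_1 D13376 F49064 (iv F48653)
theorem F52638 : act 4 n13376 = n12492 := d28_1 D13376 (iv D12492) (iv F48655)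
theorem F52639 : act 5 n13376 = n12480 := d31_1 D13376 F49068 (iv F48656)
theorem F52640 : act 6 n13376 = n12386 := d33_1 D13376 (iv D12386) (iv F48657)
theorem F52641 : act 8 n13376 = n13376 := d35_2 D12383 D13376 (iv D13376) (iv D12383) F44283
theorem F52642 : act 3 n13356 = n13376 := d23_3 F52640 (iv F49090) (iv F52515)
def n13377 : Q := act 7 n12385
theorem D13377 : act 7 n12385 = n13377 := rfl
theorem F52643 : act 0 n13377 = n12386 := d6_1 D13377 (iv D12386) (iv F48662)
theorem F52644 : act 4 n13377 = n12493 := d28_1 D13377 (iv D12493) (iv F48664)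
theorem F52645 : act 5 n13377 = n13377 := d31_1 D13377 (iv D13377) F48665
theorem F52646 : act 8 n13377 = n13377 := d35_2 D12385 D13377 (iv D13377) (iv D12385) F44295
theorem F52647 : act 3 n13353 = n13377 := d2_0 F52643 (iv F49090) (iv F52496)
def n13378 : Q := act 3 n12388
theorem D13378 : act 3 n12388 = n13378 := rfl
theorem F52648 : act 0 n13378 = n12496 := d2_1 D13378 (iv D12496) (iv F48674)
theorem F52649 : act 1 n13378 = n13378 := d9_1 D13378 (iv D13378) F48675
theorem F52650 : act 5 n13378 = n12714 := d22_2 (iv F48678) D13378 (iv D12714)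
def n13379 : Q := act 8 n12388
theorem D13379 : act 8 n12388 = n13379 := rfl
theorem F52651 : act 0 n13379 = n12497 := d7_1 D13379 (iv D12497) (iv F48674)
theorem F52652 : act 1 n13379 = n13379 := d14_1 D13379 (iv D13379) F48675
theorem F52653 : act 2 n13379 = n12392 := d20_1 D13379 (iv D12392) (iv F48676)
theorem F52654 : act 4 n13379 = n13379 := d29_1 D13379 (iv D13379) F48677
theorem F52655 : act 5 n13379 = n12715 := d32_1 D13379 (iv D12715) (iv F48678)
theorem F52656 : act 7 n13379 = n13201 := d35_1 D13379 (iv D13201) (iv D12209) (iv F44308) D12388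
def n13380 : Q := act 7 n12389
theorem D13380 : act 7 n12389 = n13380 := rfl
theorem F52657 : act 0 n13380 = n12499 := d6_1 D13380 (iv D12499) (iv F48679)
theorem F52658 : act 1 n13380 = n12413 := d13_1 D13380 (iv D12413) (iv F48680)
theorem F52659 : act 4 n13380 = n13120 := d28_1 D13380 (iv D13120) F48684
theorem F52660 : act 5 n13380 = n12390 := d31_1 D13380 (iv D12390) D12389
theorem F52661 : act 6 n13380 = n12716 := d33_1 D13380 (iv D12716) (iv F48682)
def n13381 : Q := act 3 n12390
theorem D13381 : act 3 n12390 = n13381 := rfl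
theorem F52662 : act 0 n13381 = n12500 := d2_1 D13381 (iv D12500) (iv F48685)
theorem F52663 : act 1 n13381 = n12414 := d9_1 D13381 (iv D12414) (iv F48686)
theorem F52664 : act 6 n13381 = n12391 := d23_2 (iv F48688) D13381 (iv D12391)
theorem F52665 : act 7 n13381 = n12394 := d24_2 D12390 D13381 (iv D12394) (iv D11422) (iv F44311)
def n13382 : Q := act 8 n12390
theorem D13382 : act 8 n12390 = n13382 := rfl
theorem F52666 : act 0 n13382 = n12501 := d7_1 D13382 (iv D12501) (iv F48685)
theorem F52667 : act 1 n13382 = n12415 := d14_1 D13382 (iv D12415) (iv F48686)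
theorem F52668 : act 4 n13382 = n13382 := d29_1 D13382 (iv D13382) F48687
theorem F52669 : act 6 n13382 = n12392 := d34_1 D13382 (iv D12392) (iv F48688)
theorem F52670 : act 7 n13382 = n13005 := d35_1 D13382 (iv D13005) F47018 (iv F44313) D12390
def n13383 : Q := act 2 n12391
theorem D13383 : act 2 n12391 = n13383 := rfl
theorem F52671 : act 0 n13383 = n12502 := d1_1 D13383 (iv D12502) (iv F48689)
theorem F52672 : act 5 n13383 = n12719 := d17_2 (iv F48691) D13383 (iv D12719)
theorem F52673 : act 7 n13383 = n12396 := d19_2 (iv F48692) D13383 (iv D12396)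
def n13384 : Q := act 4 n12391
theorem D13384 : act 4 n12391 = n13384 := rfl
theorem F52674 : act 0 n13384 = n12503 := d3_1 D13384 (iv D12503) (iv F48689)
theorem F52675 : act 1 n13384 = n12417 := d10_1 D13384 (iv D12417) (iv F48690)
theorem F52676 : act 3 n13384 = n13384 := d21_1 D13384 (iv D13384) (iv D12391) F44316 D12391
theorem F52677 : act 7 n13384 = n12397 := d28_2 (iv F48692) D13384 (iv D12397)
def n13385 : Q := act 8 n12391
theorem D13385 : act 8 n12391 = n13385 := rfl
theorem F52678 : act 0 n13385 = n12504 := d7_1 D13385 (iv D12504) (iv F48689)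
theorem F52679 : act 1 n13385 = n12418 := d14_1 D13385 (iv D12418) (iv F48690)
theorem F52680 : act 3 n13385 = n12392 := d25_1 D13385 (iv D12392) D12391
theorem F52681 : act 5 n13385 = n12721 := d32_1 D13385 (iv D12721) (iv F48691)
def n13386 : Q := act 3 n12393
theorem D13386 : act 3 n12393 = n13386 := rfl
theorem F52682 : act 0 n13386 = n12505 := d2_1 D13386 (iv D12505) (iv F48698)
theorem F52683 : act 1 n13386 = n12419 := d9_1 D13386 (iv D12419) (iv F48699)
theorem F52684 : act 5 n13386 = n12394 := d22_2 (iv F48701) D13386 (iv D12394)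
theorem F52685 : act 6 n13386 = n12722 := d23_2 (iv F48702) D13386 (iv D12722)
def n13387 : Q := act 8 n12393
theorem D13387 : act 8 n12393 = n13387 := rfl
theorem F52686 : act 0 n13387 = n12506 := d7_1 D13387 (iv D12506) (iv F48698)
theorem F52687 : act 1 n13387 = n12420 := d14_1 D13387 (iv D12420) (iv F48699)
theorem F52688 : act 4 n13387 = n13387 := d29_1 D13387 (iv D13387) F48700
theorem F52689 : act 5 n13387 = n12395 := d32_1 D13387 (iv D12395) (iv F48701)
theorem F52690 : act 6 n13387 = n12723 := d34_1 D13387 (iv D12723) (iv F48702)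
theorem F52691 : act 7 n13387 = n12578 := d35_1 D13387 (iv D12578) F45446 (iv F44322) D12393
def n13388 : Q := act 2 n12394
theorem D13388 : act 2 n12394 = n13388 := rfl
theorem F52692 : act 0 n13388 = n12507 := d1_1 D13388 (iv D12507) (iv F48703)
theorem F52693 : act 6 n13388 = n12396 := d18_2 (iv F48705) D13388 (iv D12396)
def n13389 : Q := act 4 n12394
theorem D13389 : act 4 n12394 = n13389 := rfl
theorem F52694 : act 0 n13389 = n12508 := d3_1 D13389 (iv D12508) (iv F48703)
theorem F52695 : act 1 n13389 = n12422 := d10_1 D13389 (iv D12422) (iv F48704)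
theorem F52696 : act 3 n13389 = n12399 := d21_1 D13389 (iv D12399) (iv D11425) (iv F44325) D12394
theorem F52697 : act 6 n13389 = n12397 := d27_2 (iv F48705) D13389 (iv D12397)
theorem F52698 : act 5 n13161 = n13389 := d22_0 F52696 (iv F48724) (iv F51780)
def n13390 : Q := act 8 n12394
theorem D13390 : act 8 n12394 = n13390 := rfl
theorem F52699 : act 0 n13390 = n12509 := d7_1 D13390 (iv D12509) (iv F48703)
theorem F52700 : act 1 n13390 = n12423 := d14_1 D13390 (iv D12423) (iv F48704)
theorem F52701 : act 3 n13390 = n12395 := d25_1 D13390 (iv D12395) D12394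
theorem F52702 : act 6 n13390 = n12398 := d34_1 D13390 (iv D12398) (iv F48705)
def n13391 : Q := act 1 n12396
theorem D13391 : act 1 n12396 = n13391 := rfl
theorem F52703 : act 2 n13391 = n12424 := d8_2 D12396 D13391 (iv D12424) (iv D11442) (iv F44328)
theorem F52704 : act 5 n13391 = n12727 := d11_2 (iv F48712) D13391 (iv D12727)
def n13392 : Q := act 4 n12396
theorem D13392 : act 4 n12396 = n13392 := rfl
theorem F52705 : act 0 n13392 = n12511 := d3_1 D13392 (iv D12511) (iv F48711)
theorem F52706 : act 2 n13392 = n12397 := d16_1 D13392 (iv D12397) D12396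
def n13393 : Q := act 8 n12396
theorem D13393 : act 8 n12396 = n13393 := rfl
theorem F52707 : act 0 n13393 = n12512 := d7_1 D13393 (iv D12512) (iv F48711)
theorem F52708 : act 2 n13393 = n12398 := d20_1 D13393 (iv D12398) D12396
theorem F52709 : act 5 n13393 = n12729 := d32_1 D13393 (iv D12729) (iv F48712)
def n13394 : Q := act 5 n12397
theorem D13394 : act 5 n12397 = n13394 := rfl
theorem F52710 : act 0 n13394 = n12513 := d4_1 D13394 (iv D12513) (iv F48713)
theorem F52711 : act 1 n13394 = n12427 := d11_1 D13394 (iv D12427) (iv F48714)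
theorem F52712 : act 3 n13394 = n12403 := d22_1 D13394 (iv D12403) (iv F48715)
theorem F52713 : act 4 n13394 = n12730 := d26_1 D13394 (iv D12730) (iv D11718) (iv F44329) D12397
def n13395 : Q := act 8 n12397
theorem D13395 : act 8 n12397 = n13395 := rfl
theorem F52714 : act 0 n13395 = n12514 := d7_1 D13395 (iv D12514) (iv F48713)
theorem F52715 : act 1 n13395 = n12428 := d14_1 D13395 (iv D12428) (iv F48714)
theorem F52716 : act 3 n13395 = n12404 := d25_1 D13395 (iv D12404) (iv F48715)
theorem F52717 : act 4 n13395 = n12398 := d29_1 D13395 (iv D12398) D12397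
def n13396 : Q := act 7 n12398
theorem D13396 : act 7 n12398 = n13396 := rfl
theorem F52718 : act 0 n13396 = n12515 := d6_1 D13396 (iv D12515) (iv F48716)
theorem F52719 : act 1 n13396 = n12429 := d13_1 D13396 (iv D12429) (iv F48717)
theorem F52720 : act 3 n13396 = n13210 := d24_1 D13396 (iv D13210) F48022 (iv F44334) (iv F48718)
theorem F52721 : act 5 n13396 = n12732 := d31_1 D13396 (iv D12732) (iv F48719)
def n13397 : Q := act 8 n12399
theorem D13397 : act 8 n12399 = n13397 := rfl
theorem F52722 : act 0 n13397 = n12519 := d7_1 D13397 (iv D12519) (iv F48720)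
theorem F52723 : act 1 n13397 = n12430 := d14_1 D13397 (iv D12430) (iv F48721)
theorem F52724 : act 4 n13397 = n12400 := d29_1 D13397 (iv D12400) D12399
theorem F52725 : act 5 n13397 = n13068 := d32_1 D13397 F51395 F48724
theorem F52726 : act 6 n13397 = n12404 := d34_1 D13397 (iv D12404) (iv F48722)
def n13398 : Q := act 7 n12400
theorem D13398 : act 7 n12400 = n13398 := rfl
theorem F52727 : act 0 n13398 = n12520 := d6_1 D13398 (iv D12520) (iv F48725)
theorem F52728 : act 1 n13398 = n12431 := d13_1 D13398 (iv D12431) (iv F48726)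
theorem F52729 : act 3 n13398 = n13055 := d24_1 D13398 (iv D13055) F47198 (iv F44344) (iv F48727)
theorem F52730 : act 5 n13398 = n13398 := d31_1 D13398 (iv D13398) F48728
theorem F52731 : act 6 n13398 = n12405 := d33_1 D13398 (iv D12405) (iv F48729)
theorem F52732 : act 8 n13398 = n13398 := d35_2 D12400 D13398 (iv D13398) (iv D12400) F44339
def n13399 : Q := act 3 n12401
theorem D13399 : act 3 n12401 = n13399 := rfl
theorem F52733 : act 0 n13399 = n12521 := d2_1 D13399 (iv D12521) (iv F48730)
def n13400 : Q := act 5 n12401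
theorem D13400 : act 5 n12401 = n13400 := rfl
theorem F52734 : act 0 n13400 = n12522 := d4_1 D13400 (iv D12522) (iv F48730)
theorem F52735 : act 2 n13400 = n12403 := d17_1 D13400 (iv D12403) (iv F48731)
theorem F52736 : act 4 n13400 = n12407 := d26_1 D13400 (iv D12407) (iv D11430) (iv F44346) D12401
theorem F52737 : act 7 n13400 = n13400 := d31_2 F48732 D13400 (iv D13400)
def n13401 : Q := act 8 n12401
theorem D13401 : act 8 n12401 = n13401 := rfl
theorem F52738 : act 0 n13401 = n12523 := d7_1 D13401 (iv D12523) (iv F48730)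
theorem F52739 : act 2 n13401 = n12404 := d20_1 D13401 (iv D12404) (iv F48731)
theorem F52740 : act 4 n13401 = n12402 := d29_1 D13401 (iv D12402) D12401
def n13402 : Q := act 7 n12402
theorem D13402 : act 7 n12402 = n13402 := rfl
theorem F52741 : act 0 n13402 = n12524 := d6_1 D13402 (iv D12524) (iv F48733)
theorem F52742 : act 2 n13402 = n12405 := d19_1 D13402 (iv D12405) (iv F48734)
theorem F52743 : act 5 n13402 = n12409 := d31_1 D13402 (iv D12409) (iv F48735)
theorem F52744 : act 8 n13402 = n13402 := d35_2 D12402 D13402 (iv D13402) (iv D12402) F44347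
def n13403 : Q := act 6 n12403
theorem D13403 : act 6 n12403 = n13403 := rfl
theorem F52745 : act 0 n13403 = n12525 := d5_1 D13403 (iv D12525) (iv F48736)
theorem F52746 : act 1 n13403 = n12432 := d12_1 D13403 (iv D12432) (iv F48737)
theorem F52747 : act 4 n13403 = n12410 := d27_1 D13403 (iv D12410) (iv F48738)
theorem F52748 : act 5 n13403 = n13199 := d30_1 D13403 F51951 F48724 F48722 D12403
theorem F52749 : act 7 n13403 = n13403 := d33_2 F48739 D13403 (iv D13403)
def n13404 : Q := act 8 n12403
theorem D13404 : act 8 n12403 = n13404 := rfl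
theorem F52750 : act 0 n13404 = n12526 := d7_1 D13404 (iv D12526) (iv F48736)
theorem F52751 : act 1 n13404 = n12433 := d14_1 D13404 (iv D12433) (iv F48737)
theorem F52752 : act 4 n13404 = n12411 := d29_1 D13404 (iv D12411) (iv F48738)
theorem F52753 : act 5 n13404 = n12404 := d32_1 D13404 (iv D12404) D12403
def n13405 : Q := act 7 n12404
theorem D13405 : act 7 n12404 = n13405 := rfl
theorem F52754 : act 0 n13405 = n12527 := d6_1 D13405 (iv D12527) (iv F48740)
theorem F52755 : act 1 n13405 = n12434 := d13_1 D13405 (iv D12434) (iv F48741)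
theorem F52756 : act 4 n13405 = n12405 := d28_1 D13405 (iv D12405) (iv F48742)
theorem F52757 : act 8 n13405 = n13405 := d35_2 D12404 D13405 (iv D13405) (iv D12404) F44350
def n13406 : Q := act 5 n12406
theorem D13406 : act 5 n12406 = n13406 := rfl
theorem F52758 : act 0 n13406 = n12528 := d4_1 D13406 (iv D12528) (iv F48748)
theorem F52759 : act 2 n13406 = n12744 := d17_1 D13406 (iv D12744) (iv F48749)
theorem F52760 : act 3 n13406 = n12407 := d22_1 D13406 (iv D12407) D12406
def n13407 : Q := act 6 n12407
theorem D13407 : act 6 n12407 = n13407 := rfl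
theorem F52761 : act 0 n13407 = n12531 := d5_1 D13407 (iv D12531) (iv F48751)
theorem F52762 : act 2 n13407 = n12410 := d18_1 D13407 (iv D12410) (iv F48752)
theorem F52763 : act 5 n13407 = n13407 := d30_1 D13407 (iv D13407) (iv D12407) F44357 D12407
theorem F52764 : act 7 n13407 = n13407 := d33_2 F48753 D13407 (iv D13407)
def n13408 : Q := act 8 n12407
theorem D13408 : act 8 n12407 = n13408 := rfl
theorem F52765 : act 0 n13408 = n12532 := d7_1 D13408 (iv D12532) (iv F48751)
theorem F52766 : act 2 n13408 = n12411 := d20_1 D13408 (iv D12411) (iv F48752)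
theorem F52767 : act 5 n13408 = n12408 := d32_1 D13408 (iv D12408) D12407
def n13409 : Q := act 8 n12410
theorem D13409 : act 8 n12410 = n13409 := rfl
theorem F52768 : act 0 n13409 = n12535 := d7_1 D13409 (iv D12535) (iv F48762)
theorem F52769 : act 1 n13409 = n12435 := d14_1 D13409 (iv D12435) (iv F48763)
theorem F52770 : act 3 n13409 = n12751 := d25_1 D13409 (iv D12751) (iv F48764)
theorem F52771 : act 5 n13409 = n13409 := d32_1 D13409 (iv D13409) F48765
theorem F52772 : act 6 n13409 = n12411 := d34_1 D13409 (iv D12411) D12410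
def n13410 : Q := act 7 n12411
theorem D13410 : act 7 n12411 = n13410 := rfl
theorem F52773 : act 0 n13410 = n12536 := d6_1 D13410 (iv D12536) (iv F48767)
theorem F52774 : act 1 n13410 = n12436 := d13_1 D13410 (iv D12436) (iv F48768)
theorem F52775 : act 5 n13410 = n12412 := d31_1 D13410 (iv D12412) (iv F48770)
theorem F52776 : act 8 n13410 = n13410 := d35_2 D12411 D13410 (iv D13410) (iv D12411) F44365
def n13411 : Q := act 3 n12413
theorem D13411 : act 3 n12413 = n13411 := rfl
theorem F52777 : act 0 n13411 = n12447 := d2_1 D13411 (iv D12447) (iv F48776)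
theorem F52778 : act 4 n13411 = n12703 := d21_2 (iv F48778) D13411 F50056 (iv F49853) F49852
theorem F52779 : act 5 n13411 = n12414 := d22_2 (iv F48779) D13411 (iv D12414)
theorem F52780 : act 6 n13411 = n12754 := d23_2 (iv F48780) D13411 (iv D12754)
theorem F52781 : act 7 n13411 = n12419 := d24_2 D12413 D13411 (iv D12419) (iv D11439) (iv F44378)
theorem F52782 : act 2 n12764 = n13411 := d16_3 F52778 F50055 D12764
def n13412 : Q := act 8 n12413
theorem D13412 : act 8 n12413 = n13412 := rfl
theorem F52783 : act 0 n13412 = n12448 := d7_1 D13412 (iv D12448) (iv F48776)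
theorem F52784 : act 2 n13412 = n13412 := d20_1 D13412 (iv D13412) F48777
theorem F52785 : act 4 n13412 = n12865 := d29_1 D13412 F50660 (iv F48778)
theorem F52786 : act 5 n13412 = n12415 := d32_1 D13412 (iv D12415) (iv F48779)
theorem F52787 : act 6 n13412 = n12755 := d34_1 D13412 (iv D12755) (iv F48780)
theorem F52788 : act 7 n13412 = n12648 := d35_1 D13412 (iv D12648) F45781 (iv F44380) D12413
def n13413 : Q := act 2 n12414
theorem D13413 : act 2 n12414 = n13413 := rfl
theorem F52789 : act 0 n13413 = n12449 := d1_1 D13413 (iv D12449) (iv F48781)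
theorem F52790 : act 3 n13413 = n13413 := d15_2 D12414 D13413 (iv D13413) (iv D12414) F44382
theorem F52791 : act 5 n13413 = n12764 := d17_2 F52779 D13413 F52782
theorem F52792 : act 6 n13413 = n12416 := d18_2 (iv F48782) D13413 (iv D12416)
theorem F52793 : act 7 n13413 = n12421 := d19_2 (iv F48783) D13413 (iv D12421)
theorem F52794 : act 4 n12769 = n13413 := d28_3 F52793 (iv F48811) (iv F50311)
def n13414 : Q := act 4 n12414
theorem D13414 : act 4 n12414 = n13414 := rfl
theorem F52795 : act 0 n13414 = n12450 := d3_1 D13414 (iv D12450) (iv F48781)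
theorem F52796 : act 2 n13414 = n12769 := d16_1 D13414 F52794 (iv D13413)
theorem F52797 : act 3 n13414 = n13414 := d21_1 D13414 (iv D13414) (iv D12414) F44383 D12414
theorem F52798 : act 5 n13414 = n12767 := d26_2 F52779 D13414 (iv D12767) (iv F50057) (iv F52778)
theorem F52799 : act 6 n13414 = n12417 := d27_2 (iv F48782) D13414 (iv D12417)
theorem F52800 : act 7 n13414 = n12422 := d28_2 (iv F48783) D13414 (iv D12422)
def n13415 : Q := act 8 n12414
theorem D13415 : act 8 n12414 = n13415 := rfl
theorem F52801 : act 0 n13415 = n12451 := d7_1 D13415 (iv D12451) (iv F48781)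
theorem F52802 : act 3 n13415 = n12415 := d25_1 D13415 (iv D12415) D12414
theorem F52803 : act 6 n13415 = n12418 := d34_1 D13415 (iv D12418) (iv F48782)
def n13416 : Q := act 1 n12416
theorem D13416 : act 1 n12416 = n13416 := rfl
theorem F52804 : act 3 n13416 = n13416 := d9_2 F48790 D13416 (iv D13416)
theorem F52805 : act 5 n13416 = n12758 := d11_2 (iv F48791) D13416 (iv D12758)
theorem F52806 : act 7 n13416 = n12424 := d13_2 (iv F48792) D13416 (iv D12424)
def n13417 : Q := act 4 n12416
theorem D13417 : act 4 n12416 = n13417 := rfl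
theorem F52807 : act 0 n13417 = n12453 := d3_1 D13417 (iv D12453) (iv F48789)
theorem F52808 : act 2 n13417 = n12417 := d16_1 D13417 (iv D12417) D12416
theorem F52809 : act 6 n13417 = n12769 := d27_2 F52792 D13417 F52794
theorem F52810 : act 7 n13417 = n12425 := d28_2 (iv F48792) D13417 (iv D12425)
theorem F52811 : act 3 n12781 = n13417 := d24_5 F52810 F48824 (iv D12150) (iv F47488) (iv F50345)
theorem F52812 : act 5 n13417 = n12778 := d22_2 (iv F50344) F52811 F50335
def n13418 : Q := act 8 n12416
theorem D13418 : act 8 n12416 = n13418 := rfl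
theorem F52813 : act 0 n13418 = n12454 := d7_1 D13418 (iv D12454) (iv F48789)
theorem F52814 : act 2 n13418 = n12418 := d20_1 D13418 (iv D12418) D12416
theorem F52815 : act 3 n13418 = n13418 := d25_1 D13418 (iv D13418) F48790
theorem F52816 : act 5 n13418 = n12760 := d32_1 D13418 (iv D12760) (iv F48791)
def n13419 : Q := act 5 n12417
theorem D13419 : act 5 n12417 = n13419 := rfl
theorem F52817 : act 0 n13419 = n12455 := d4_1 D13419 (iv D12455) (iv F48793)
theorem F52818 : act 2 n13419 = n12778 := d17_1 D13419 (iv F52812) F52808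
theorem F52819 : act 3 n13419 = n13419 := d22_1 D13419 (iv D13419) F48794
theorem F52820 : act 4 n13419 = n12761 := d26_1 D13419 (iv D12761) (iv D11739) (iv F44386) D12417
theorem F52821 : act 6 n13419 = n12775 := d30_2 F52799 D13419 (iv D12775) (iv F50303) (iv F52798)
theorem F52822 : act 7 n13419 = n12427 := d31_2 (iv F48795) D13419 (iv D12427)
def n13420 : Q := act 8 n12417
theorem D13420 : act 8 n12417 = n13420 := rfl
theorem F52823 : act 0 n13420 = n12456 := d7_1 D13420 (iv D12456) (iv F48793)
theorem F52824 : act 3 n13420 = n13420 := d25_1 D13420 (iv D13420) F48794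
theorem F52825 : act 4 n13420 = n12418 := d29_1 D13420 (iv D12418) D12417
def n13421 : Q := act 7 n12418
theorem D13421 : act 7 n12418 = n13421 := rfl
theorem F52826 : act 0 n13421 = n12457 := d6_1 D13421 (iv D12457) (iv F48796)
theorem F52827 : act 3 n13421 = n13231 := d24_1 D13421 (iv D13231) F48080 (iv F44392) (iv F48797)
theorem F52828 : act 5 n13421 = n12763 := d31_1 D13421 (iv D12763) (iv F48798)
theorem F52829 : act 8 n13421 = n12429 := d35_2 D12418 D13421 (iv D12429) (iv D11444) (iv F44387)
def n13422 : Q := act 2 n12419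
theorem D13422 : act 2 n12419 = n13422 := rfl
theorem F52830 : act 0 n13422 = n12458 := d1_1 D13422 (iv D12458) (iv F48799)
theorem F52831 : act 3 n13422 = n12438 := d15_2 D12419 D13422 (iv D12438) (iv D11453) (iv F44394)
theorem F52832 : act 5 n13422 = n12421 := d17_2 (iv F48800) D13422 (iv D12421)
theorem F52833 : act 6 n13422 = n12703 := d18_2 (iv F48801) D13422 F50055
theorem F52834 : act 7 n13422 = n12764 := d19_2 F52781 D13422 F52782
theorem F52835 : act 4 n12754 = n13422 := d28_3 F52834 (iv D12764) (iv F50258)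
def n13423 : Q := act 4 n12419
theorem D13423 : act 4 n12419 = n13423 := rfl
theorem F52836 : act 0 n13423 = n12459 := d3_1 D13423 (iv D12459) (iv F48799)
theorem F52837 : act 2 n13423 = n12754 := d16_1 D13423 F52835 (iv D13422)
theorem F52838 : act 3 n13423 = n13423 := d21_1 D13423 (iv D13423) (iv D12419) F44395 D12419
theorem F52839 : act 5 n13423 = n12756 := d26_2 (iv F48800) D13423 F50266 F48816 (iv D12422)
theorem F52840 : act 6 n13423 = n12764 := d27_2 (iv F48801) D13423 (iv D12764)
theorem F52841 : act 7 n13423 = n12703 := d28_2 F52781 D13423 (iv F52778)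
def n13424 : Q := act 8 n12419
theorem D13424 : act 8 n12419 = n13424 := rfl
theorem F52842 : act 0 n13424 = n12460 := d7_1 D13424 (iv D12460) (iv F48799)
theorem F52843 : act 3 n13424 = n12420 := d25_1 D13424 (iv D12420) D12419
theorem F52844 : act 5 n13424 = n12423 := d32_1 D13424 (iv D12423) (iv F48800)
theorem F52845 : act 6 n13424 = n12765 := d34_1 D13424 (iv D12765) (iv F48801)
def n13425 : Q := act 1 n12421
theorem D13425 : act 1 n12421 = n13425 := rfl
theorem F52846 : act 3 n13425 = n12441 := d9_2 (iv F48809) D13425 (iv D12441)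
theorem F52847 : act 4 n13425 = n13151 := d10_2 F48811 D13425 F51735
theorem F52848 : act 6 n13425 = n12424 := d12_2 (iv F48810) D13425 (iv D12424)
def n13426 : Q := act 8 n12421
theorem D13426 : act 8 n12421 = n13426 := rfl
theorem F52849 : act 0 n13426 = n12462 := d7_1 D13426 (iv D12462) (iv F48808)
theorem F52850 : act 2 n13426 = n12423 := d20_1 D13426 (iv D12423) D12421
theorem F52851 : act 3 n13426 = n12442 := d25_1 D13426 (iv D12442) (iv F48809)
theorem F52852 : act 4 n13426 = n12963 := d29_1 D13426 F50986 F48811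
theorem F52853 : act 6 n13426 = n12426 := d34_1 D13426 (iv D12426) (iv F48810)
def n13427 : Q := act 8 n12422
theorem D13427 : act 8 n12422 = n13427 := rfl
theorem F52854 : act 0 n13427 = n12463 := d7_1 D13427 (iv D12463) (iv F48812)
theorem F52855 : act 2 n13427 = n12963 := d20_1 D13427 F50986 (iv F48813)
theorem F52856 : act 3 n13427 = n12430 := d25_1 D13427 (iv D12430) (iv F48814)
theorem F52857 : act 4 n13427 = n12423 := d29_1 D13427 (iv D12423) D12422
theorem F52858 : act 5 n13427 = n12964 := d32_1 D13427 F50989 F48816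
theorem F52859 : act 6 n13427 = n12428 := d34_1 D13427 (iv D12428) (iv F48815)
def n13428 : Q := act 7 n12423
theorem D13428 : act 7 n12423 = n13428 := rfl
theorem F52860 : act 0 n13428 = n12464 := d6_1 D13428 (iv D12464) (iv F48817)
theorem F52861 : act 3 n13428 = n12978 := d24_1 D13428 (iv D12978) F46911 (iv F44404) (iv F48818)
theorem F52862 : act 6 n13428 = n12429 := d33_1 D13428 (iv D12429) (iv F48819)
def n13429 : Q := act 0 n12424
theorem D13429 : act 0 n12424 = n13429 := rfl
theorem F52863 : act 1 n13429 = n12465 := d0_2 D12424 D13429 (iv D12465) (iv D11472) (iv F44405)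
theorem F52864 : act 3 n13429 = n12444 := d2_2 (iv F48820) D13429 (iv D12444)
theorem F52865 : act 5 n13429 = n12772 := d4_2 (iv F48821) D13429 (iv D12772)
def n13430 : Q := act 4 n12424
theorem D13430 : act 4 n12424 = n13430 := rfl
theorem F52866 : act 1 n13430 = n12425 := d10_1 D13430 (iv D12425) D12424
theorem F52867 : act 3 n13430 = n13150 := d21_1 D13430 F51733 (iv F48544) F48545 (iv F48820)
theorem F52868 : act 6 n13430 = n13151 := d27_2 F52848 D13430 (iv F52847)
def n13431 : Q := act 8 n12424
theorem D13431 : act 8 n12424 = n13431 := rfl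
theorem F52869 : act 1 n13431 = n12426 := d14_1 D13431 (iv D12426) D12424
theorem F52870 : act 3 n13431 = n12445 := d25_1 D13431 (iv D12445) (iv F48820)
theorem F52871 : act 5 n13431 = n12774 := d32_1 D13431 (iv D12774) (iv F48821)
def n13432 : Q := act 5 n12425
theorem D13432 : act 5 n12425 = n13432 := rfl
theorem F52872 : act 0 n13432 = n12468 := d4_1 D13432 (iv D12468) (iv F48822)
theorem F52873 : act 2 n13432 = n12427 := d17_1 D13432 (iv D12427) (iv F48823)
theorem F52874 : act 3 n13432 = n13108 := d22_1 D13432 F51581 (iv F48824)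
theorem F52875 : act 4 n13432 = n12775 := d26_1 D13432 (iv D12775) (iv D11747) (iv F44407) D12425
theorem F52876 : act 6 n13432 = n12761 := d30_2 (iv F48825) D13432 (iv D12761) F46231 (iv F47739)
theorem F52877 : act 7 n13432 = n12778 := d31_2 F52810 D13432 (iv F52812)
def n13433 : Q := act 8 n12425
theorem D13433 : act 8 n12425 = n13433 := rfl
theorem F52878 : act 0 n13433 = n12469 := d7_1 D13433 (iv D12469) (iv F48822)
theorem F52879 : act 2 n13433 = n12428 := d20_1 D13433 (iv D12428) (iv F48823)
theorem F52880 : act 3 n13433 = n12962 := d25_1 D13433 F50983 (iv F48824)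
theorem F52881 : act 4 n13433 = n12426 := d29_1 D13433 (iv D12426) D12425
theorem F52882 : act 6 n13433 = n12963 := d34_1 D13433 F50986 (iv F48825)
def n13434 : Q := act 7 n12426
theorem D13434 : act 7 n12426 = n13434 := rfl
theorem F52883 : act 0 n13434 = n12470 := d6_1 D13434 (iv D12470) (iv F48826)
theorem F52884 : act 2 n13434 = n12429 := d19_1 D13434 (iv D12429) (iv F48827)
theorem F52885 : act 5 n13434 = n12777 := d31_1 D13434 (iv D12777) (iv F48829)
def n13435 : Q := act 6 n12427
theorem D13435 : act 6 n12427 = n13435 := rfl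
theorem F52886 : act 0 n13435 = n12471 := d5_1 D13435 (iv D12471) (iv F48830)
theorem F52887 : act 2 n13435 = n12761 := d18_1 D13435 (iv F52876) F52873
theorem F52888 : act 3 n13435 = n12432 := d23_1 D13435 (iv D12432) (iv F48831)
theorem F52889 : act 4 n13435 = n12778 := d27_1 D13435 (iv D12778) (iv F48832)
theorem F52890 : act 5 n13435 = n12759 := d30_1 D13435 F50277 F48816 F48815 D12427
theorem F52891 : act 7 n13435 = n12775 := d33_2 F52822 D13435 (iv F52821)
def n13436 : Q := act 8 n12427
theorem D13436 : act 8 n12427 = n13436 := rfl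
theorem F52892 : act 0 n13436 = n12472 := d7_1 D13436 (iv D12472) (iv F48830)
theorem F52893 : act 3 n13436 = n12433 := d25_1 D13436 (iv D12433) (iv F48831)
theorem F52894 : act 4 n13436 = n12779 := d29_1 D13436 (iv D12779) (iv F48832)
theorem F52895 : act 5 n13436 = n12428 := d32_1 D13436 (iv D12428) D12427
def n13437 : Q := act 7 n12428
theorem D13437 : act 7 n12428 = n13437 := rfl
theorem F52896 : act 0 n13437 = n12473 := d6_1 D13437 (iv D12473) (iv F48833)
theorem F52897 : act 4 n13437 = n12429 := d28_1 D13437 (iv D12429) (iv F48835)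
def n13438 : Q := act 7 n12430
theorem D13438 : act 7 n12430 = n13438 := rfl
theorem F52898 : act 0 n13438 = n12474 := d6_1 D13438 (iv D12474) (iv F48839)
theorem F52899 : act 2 n13438 = n13063 := d19_1 D13438 F51373 (iv F48840)
theorem F52900 : act 4 n13438 = n12431 := d28_1 D13438 (iv D12431) (iv F48841)
theorem F52901 : act 5 n13438 = n13064 := d31_1 D13438 F51378 (iv F48842)
theorem F52902 : act 6 n13438 = n12434 := d33_1 D13438 (iv D12434) (iv F48843)
theorem F52903 : act 8 n13438 = n13438 := d35_2 D12430 D13438 (iv D13438) (iv D12430) F44415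
def n13439 : Q := act 8 n12432
theorem D13439 : act 8 n12432 = n13439 := rfl
theorem F52904 : act 0 n13439 = n12475 := d7_1 D13439 (iv D12475) (iv F48849)
theorem F52905 : act 2 n13439 = n13066 := d20_1 D13439 F51388 (iv F48850)
theorem F52906 : act 4 n13439 = n12435 := d29_1 D13439 (iv D12435) (iv F48851)
theorem F52907 : act 5 n13439 = n13067 := d32_1 D13439 F51393 (iv F48852)
theorem F52908 : act 6 n13439 = n12433 := d34_1 D13439 (iv D12433) D12432
theorem F52909 : act 7 n13347 = n13439 := d31_0 F52907 F51392 (iv F52469)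
def n13440 : Q := act 7 n12433
theorem D13440 : act 7 n12433 = n13440 := rfl
theorem F52910 : act 0 n13440 = n12476 := d6_1 D13440 (iv D12476) (iv F48854)
theorem F52911 : act 2 n13440 = n13346 := d19_1 D13440 F52570 F52565
theorem F52912 : act 4 n13440 = n12436 := d28_1 D13440 (iv D12436) (iv F48855)
theorem F52913 : act 5 n13440 = n12434 := d31_1 D13440 (iv D12434) (iv F48856)
theorem F52914 : act 6 n13440 = n13347 := d33_1 D13440 F52909 F52908
theorem F52915 : act 8 n13440 = n13440 := d35_2 D12433 D13440 (iv D13440) (iv D12433) F44422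
def n13441 : Q := act 3 n12434
theorem D13441 : act 3 n12434 = n13441 := rfl
theorem F52916 : act 0 n13441 = n12477 := d2_1 D13441 (iv D12477) (iv F48857)
theorem F52917 : act 4 n13441 = n13240 := d21_2 (iv F48858) D13441 (iv D13240) F48104 (iv F44426)
theorem F52918 : act 8 n13441 = n13441 := d25_2 F48859 D13441 (iv D13441)
def n13442 : Q := act 7 n12435
theorem D13442 : act 7 n12435 = n13442 := rfl
theorem F52919 : act 0 n13442 = n12478 := d6_1 D13442 (iv D12478) (iv F48860)
theorem F52920 : act 2 n13442 = n13348 := d19_1 D13442 F52584 F52579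
theorem F52921 : act 4 n13442 = n13347 := d28_1 D13442 F52909 F52906
theorem F52922 : act 5 n13442 = n13442 := d31_1 D13442 (iv D13442) F48862
theorem F52923 : act 6 n13442 = n12436 := d33_1 D13442 (iv D12436) (iv F48863)
theorem F52924 : act 8 n13442 = n13442 := d35_2 D12435 D13442 (iv D13442) (iv D12435) F44432
def n13443 : Q := act 3 n12436
theorem D13443 : act 3 n12436 = n13443 := rfl
theorem F52925 : act 0 n13443 = n12479 := d2_1 D13443 (iv D12479) (iv F48864)
theorem F52926 : act 5 n13443 = n12437 := d22_2 (iv F48865) D13443 (iv D12437)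
theorem F52927 : act 7 n13443 = n12787 := d24_2 D12436 D13443 (iv D12787) (iv D11758) (iv F44434)
theorem F52928 : act 8 n13443 = n13443 := d25_2 F48866 D13443 (iv D13443)
def n13444 : Q := act 1 n12438
theorem D13444 : act 1 n12438 = n13444 := rfl
theorem F52929 : act 0 n13444 = n12694 := d0_1 D13444 (iv D12694) F46029 (iv F44556) (iv F48872)
theorem F52930 : act 4 n13444 = n13121 := d10_2 F48876 D13444 F51642
theorem F52931 : act 5 n13444 = n12441 := d11_2 (iv F48873) D13444 (iv D12441)
theorem F52932 : act 6 n13444 = n12697 := d12_2 (iv F48874) D13444 F50029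
theorem F52933 : act 7 n13444 = n13444 := d13_2 F48875 D13444 (iv D13444)
def n13445 : Q := act 8 n12438
theorem D13445 : act 8 n12438 = n13445 := rfl
theorem F52934 : act 0 n13445 = n12481 := d7_1 D13445 (iv D12481) (iv F48872)
theorem F52935 : act 2 n13445 = n12440 := d20_1 D13445 (iv D12440) D12438
theorem F52936 : act 4 n13445 = n12866 := d29_1 D13445 F50664 F48876
theorem F52937 : act 5 n13445 = n12442 := d32_1 D13445 (iv D12442) (iv F48873)
theorem F52938 : act 6 n13445 = n12708 := d34_1 D13445 (iv D12708) (iv F48874)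
theorem F52939 : act 7 n13304 = n13445 := d28_0 F52936 F50663 D13304
def n13446 : Q := act 8 n12439
theorem D13446 : act 8 n12439 = n13446 := rfl
theorem F52940 : act 0 n13446 = n12482 := d7_1 D13446 (iv D12482) (iv F48877)
theorem F52941 : act 1 n13446 = n13375 := d14_1 D13446 (iv D13375) (iv F48878)
theorem F52942 : act 2 n13446 = n12866 := d20_1 D13446 F50664 (iv F48879)
theorem F52943 : act 3 n13446 = n13446 := d25_1 D13446 (iv D13446) F48880
theorem F52944 : act 4 n13446 = n12440 := d29_1 D13446 (iv D12440) D12439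
theorem F52945 : act 5 n13446 = n12867 := d32_1 D13446 F50671 (iv F48881)
theorem F52946 : act 6 n13446 = n12665 := d34_1 D13446 (iv D12665) (iv F48882)
theorem F52947 : act 7 n13303 = n13446 := d31_0 F52945 F50670 (iv F52302)
def n13447 : Q := act 7 n12440
theorem D13447 : act 7 n12440 = n13447 := rfl
theorem F52948 : act 0 n13447 = n12483 := d6_1 D13447 (iv D12483) (iv F48884)
theorem F52949 : act 2 n13447 = n13304 := d19_1 D13447 F52939 F52935
theorem F52950 : act 3 n13447 = n12493 := d24_1 D13447 (iv D12493) F45232 (iv F44448) (iv F48885)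
theorem F52951 : act 4 n13447 = n13303 := d28_1 D13447 F52947 F52944
theorem F52952 : act 5 n13447 = n12443 := d31_1 D13447 (iv D12443) (iv F48886)
theorem F52953 : act 6 n13447 = n12711 := d33_1 D13447 (iv D12711) (iv F48887)
theorem F52954 : act 8 n13447 = n13447 := d35_2 D12440 D13447 (iv D13447) (iv D12440) F44443
def n13448 : Q := act 0 n12441
theorem D13448 : act 0 n12441 = n13448 := rfl
theorem F52955 : act 1 n13448 = n12484 := d0_2 D12441 D13448 (iv D12484) (iv D11490) (iv F44449)
theorem F52956 : act 2 n13448 = n13444 := d1_2 F50018 D13448 F52929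
theorem F52957 : act 4 n13448 = n13107 := d3_2 (iv F48888) D13448 F51574
theorem F52958 : act 5 n13448 = n12694 := d4_2 F52931 D13448 (iv F52929)
theorem F52959 : act 6 n13448 = n12444 := d5_2 (iv F48889) D13448 (iv D12444)
theorem F52960 : act 7 n13448 = n13448 := d6_2 F48890 D13448 (iv D13448)
def n13449 : Q := act 8 n12441
theorem D13449 : act 8 n12441 = n13449 := rfl
theorem F52961 : act 1 n13449 = n12442 := d14_1 D13449 (iv D12442) D12441
theorem F52962 : act 4 n13449 = n12933 := d29_1 D13449 F50874 (iv F48888)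
theorem F52963 : act 6 n13449 = n12445 := d34_1 D13449 (iv D12445) (iv F48889)
def n13450 : Q := act 7 n12442
theorem D13450 : act 7 n12442 = n13450 := rfl
theorem F52964 : act 0 n13450 = n12486 := d6_1 D13450 (iv D12486) (iv F48891)
theorem F52965 : act 2 n13450 = n12443 := d19_1 D13450 (iv D12443) (iv F48892)
theorem F52966 : act 4 n13450 = n12574 := d28_1 D13450 F49440 (iv F48893)
theorem F52967 : act 5 n13450 = n13304 := d31_1 D13450 F52939 F52937
theorem F52968 : act 6 n13450 = n12446 := d33_1 D13450 (iv D12446) (iv F48894)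
theorem F52969 : act 8 n13450 = n13450 := d35_2 D12442 D13450 (iv D13450) (iv D12442) F44451
def n13451 : Q := act 8 n12444
theorem D13451 : act 8 n12444 = n13451 := rfl
theorem F52970 : act 0 n13451 = n12445 := d7_1 D13451 (iv D12445) D12444
theorem F52971 : act 1 n13451 = n12487 := d14_1 D13451 (iv D12487) (iv F48899)
theorem F52972 : act 5 n13451 = n12791 := d32_1 D13451 (iv D12791) (iv F48900)
def n13452 : Q := act 7 n12445
theorem D13452 : act 7 n12445 = n13452 := rfl
theorem F52973 : act 1 n13452 = n12446 := d13_1 D13452 (iv D12446) (iv F48902)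
theorem F52974 : act 5 n13452 = n12792 := d31_1 D13452 (iv D12792) (iv F48903)
theorem F52975 : act 8 n13452 = n13452 := d35_2 D12445 D13452 (iv D13452) (iv D12445) F44456
def n13453 : Q := act 3 n12446
theorem D13453 : act 3 n12446 = n13453 := rfl
theorem F52976 : act 0 n13453 = n12489 := d2_1 D13453 (iv D12489) (iv F48904)
theorem F52977 : act 2 n13453 = n13245 := d15_1 D13453 (iv D13245) F48121 (iv F44461) (iv F48905)
theorem F52978 : act 5 n13453 = n12793 := d22_2 (iv F48906) D13453 (iv D12793)
theorem F52979 : act 8 n13453 = n13453 := d25_2 F48907 D13453 (iv D13453)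
def n13454 : Q := act 8 n12447
theorem D13454 : act 8 n12447 = n13454 := rfl
theorem F52980 : act 1 n13454 = n12580 := d14_1 D13454 (iv D12580) (iv F48908)
theorem F52981 : act 2 n13454 = n12803 := d20_1 D13454 (iv D12803) F48913
theorem F52982 : act 3 n13454 = n12448 := d25_1 D13454 (iv D12448) D12447
theorem F52983 : act 4 n13454 = n12704 := d29_1 D13454 (iv D12704) (iv F48909)
theorem F52984 : act 5 n13454 = n12451 := d32_1 D13454 (iv D12451) (iv F48910)
theorem F52985 : act 6 n13454 = n12794 := d34_1 D13454 (iv D12794) (iv F48911)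
def n13455 : Q := act 8 n12449
theorem D13455 : act 8 n12449 = n13455 := rfl
theorem F52986 : act 1 n13455 = n12869 := d14_1 D13455 (iv D12869) (iv F48920)
theorem F52987 : act 2 n13455 = n12451 := d20_1 D13455 (iv D12451) D12449
theorem F52988 : act 3 n13455 = n13455 := d25_1 D13455 (iv D13455) F48921
theorem F52989 : act 4 n13455 = n12807 := d29_1 D13455 (iv D12807) F48925
theorem F52990 : act 5 n13455 = n12803 := d32_1 D13455 (iv D12803) (iv F48922)
theorem F52991 : act 6 n13455 = n12454 := d34_1 D13455 (iv D12454) (iv F48923)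
def n13456 : Q := act 8 n12450
theorem D13456 : act 8 n12450 = n13456 := rfl
theorem F52992 : act 1 n13456 = n12582 := d14_1 D13456 (iv D12582) (iv F48926)
theorem F52993 : act 2 n13456 = n12807 := d20_1 D13456 (iv D12807) (iv F48927)
theorem F52994 : act 3 n13456 = n13456 := d25_1 D13456 (iv D13456) F48928
theorem F52995 : act 4 n13456 = n12451 := d29_1 D13456 (iv D12451) D12450
theorem F52996 : act 5 n13456 = n12805 := d32_1 D13456 (iv D12805) (iv F48929)
theorem F52997 : act 6 n13456 = n12456 := d34_1 D13456 (iv D12456) (iv F48930)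
def n13457 : Q := act 7 n12451
theorem D13457 : act 7 n12451 = n13457 := rfl
theorem F52998 : act 1 n13457 = n12583 := d13_1 D13457 (iv D12583) (iv F48932)
theorem F52999 : act 3 n13457 = n12969 := d24_1 D13457 (iv D12969) F46880 (iv F44481) (iv F48933)
theorem F53000 : act 6 n13457 = n12457 := d33_1 D13457 (iv D12457) (iv F48934)
theorem F53001 : act 8 n13457 = n12464 := d35_2 D12451 D13457 (iv D12464) (iv D11471) (iv F44476)
def n13458 : Q := act 0 n12452
theorem D13458 : act 0 n12452 = n13458 := rfl
theorem F53002 : act 2 n13458 = n12584 := d1_2 (iv F48935) D13458 (iv D12584)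
theorem F53003 : act 3 n13458 = n13458 := d2_2 F48936 D13458 (iv D13458)
theorem F53004 : act 4 n13458 = n12946 := d3_2 F48940 D13458 F50922
theorem F53005 : act 5 n13458 = n12797 := d4_2 (iv F48937) D13458 (iv D12797)
theorem F53006 : act 6 n13458 = n12860 := d5_2 (iv F48938) D13458 F50639
theorem F53007 : act 7 n13458 = n12465 := d6_2 (iv F48939) D13458 (iv D12465)
def n13459 : Q := act 8 n12452
theorem D13459 : act 8 n12452 = n13459 := rfl
theorem F53008 : act 1 n13459 = n12454 := d14_1 D13459 (iv D12454) D12452
theorem F53009 : act 2 n13459 = n12585 := d20_1 D13459 (iv D12585) (iv F48935)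
theorem F53010 : act 3 n13459 = n13459 := d25_1 D13459 (iv D13459) F48936
theorem F53011 : act 4 n13459 = n12974 := d29_1 D13459 (iv D12974) F48940
theorem F53012 : act 5 n13459 = n12798 := d32_1 D13459 (iv D12798) (iv F48937)
theorem F53013 : act 6 n13459 = n12869 := d34_1 D13459 (iv D12869) (iv F48938)
def n13460 : Q := act 8 n12453
theorem D13460 : act 8 n12453 = n13460 := rfl
theorem F53014 : act 1 n13460 = n12974 := d14_1 D13460 (iv D12974) (iv F48941)
theorem F53015 : act 2 n13460 = n12456 := d20_1 D13460 (iv D12456) (iv F48942)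
theorem F53016 : act 3 n13460 = n12819 := d25_1 D13460 (iv D12819) (iv F48945)
theorem F53017 : act 4 n13460 = n12454 := d29_1 D13460 (iv D12454) D12453
theorem F53018 : act 5 n13460 = n12816 := d32_1 D13460 (iv D12816) F48946
theorem F53019 : act 6 n13460 = n12807 := d34_1 D13460 (iv D12807) (iv F48943)
def n13461 : Q := act 7 n12454
theorem D13461 : act 7 n12454 = n13461 := rfl
theorem F53020 : act 2 n13461 = n12457 := d19_1 D13461 (iv D12457) (iv F48947)
theorem F53021 : act 5 n13461 = n12800 := d31_1 D13461 (iv D12800) (iv F48949)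
theorem F53022 : act 8 n13461 = n12470 := d35_2 D12454 D13461 (iv D12470) (iv D11474) (iv F44484)
def n13462 : Q := act 8 n12455
theorem D13462 : act 8 n12455 = n13462 := rfl
theorem F53023 : act 1 n13462 = n12590 := d14_1 D13462 (iv D12590) (iv F48950)
theorem F53024 : act 2 n13462 = n12816 := d20_1 D13462 (iv D12816) (iv F48951)
theorem F53025 : act 3 n13462 = n13462 := d25_1 D13462 (iv D13462) F48952
theorem F53026 : act 4 n13462 = n12801 := d29_1 D13462 (iv D12801) (iv F48953)
theorem F53027 : act 5 n13462 = n12456 := d32_1 D13462 (iv D12456) D12455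
theorem F53028 : act 6 n13462 = n12813 := d34_1 D13462 (iv D12813) (iv F48954)
def n13463 : Q := act 7 n12456
theorem D13463 : act 7 n12456 = n13463 := rfl
theorem F53029 : act 1 n13463 = n12591 := d13_1 D13463 (iv D12591) (iv F48956)
theorem F53030 : act 4 n13463 = n12457 := d28_1 D13463 (iv D12457) (iv F48958)
theorem F53031 : act 8 n13463 = n12473 := d35_2 D12456 D13463 (iv D12473) (iv D11476) (iv F44487)
def n13464 : Q := act 8 n12458
theorem D13464 : act 8 n12458 = n13464 := rfl
theorem F53032 : act 1 n13464 = n12701 := d14_1 D13464 (iv D12701) (iv F48963)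
theorem F53033 : act 2 n13464 = n12460 := d20_1 D13464 (iv D12460) D12458
theorem F53034 : act 3 n13464 = n12481 := d25_1 D13464 (iv D12481) (iv F48964)
theorem F53035 : act 4 n13464 = n12794 := d29_1 D13464 (iv D12794) F48968
theorem F53036 : act 5 n13464 = n12462 := d32_1 D13464 (iv D12462) (iv F48965)
theorem F53037 : act 6 n13464 = n12704 := d34_1 D13464 (iv D12704) (iv F48966)
def n13465 : Q := act 8 n12459
theorem D13465 : act 8 n12459 = n13465 := rfl
theorem F53038 : act 1 n13465 = n12592 := d14_1 D13465 (iv D12592) (iv F48969)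
theorem F53039 : act 2 n13465 = n12794 := d20_1 D13465 (iv D12794) (iv F48970)
theorem F53040 : act 3 n13465 = n13465 := d25_1 D13465 (iv D13465) F48971
theorem F53041 : act 4 n13465 = n12460 := d29_1 D13465 (iv D12460) D12459
theorem F53042 : act 5 n13465 = n12795 := d32_1 D13465 (iv D12795) (iv F48972)
theorem F53043 : act 6 n13465 = n12803 := d34_1 D13465 (iv D12803) (iv F48973)
def n13466 : Q := act 7 n12460
theorem D13466 : act 7 n12460 = n13466 := rfl
theorem F53044 : act 1 n13466 = n12593 := d13_1 D13466 (iv D12593) (iv F48975)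
theorem F53045 : act 3 n13466 = n12605 := d24_1 D13466 (iv D12605) F45540 (iv F44499) (iv F48976)
theorem F53046 : act 5 n13466 = n12464 := d31_1 D13466 (iv D12464) (iv F48977)
theorem F53047 : act 6 n13466 = n12804 := d33_1 D13466 (iv D12804) (iv F48978)
def n13467 : Q := act 0 n12461
theorem D13467 : act 0 n12461 = n13467 := rfl
theorem F53048 : act 2 n13467 = n12594 := d1_2 (iv F48979) D13467 (iv D12594)
theorem F53049 : act 3 n13467 = n12484 := d2_2 (iv F48980) D13467 (iv D12484)
theorem F53050 : act 4 n13467 = n12935 := d3_2 (iv F48981) D13467 F50881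
theorem F53051 : act 5 n13467 = n12686 := d4_2 (iv F48982) D13467 F49986
theorem F53052 : act 6 n13467 = n12465 := d5_2 (iv F48983) D13467 (iv D12465)
theorem F53053 : act 7 n13467 = n12860 := d6_2 (iv F48984) D13467 F50639
def n13468 : Q := act 8 n12461
theorem D13468 : act 8 n12461 = n13468 := rfl
theorem F53054 : act 1 n13468 = n12462 := d14_1 D13468 (iv D12462) D12461
theorem F53055 : act 2 n13468 = n12595 := d20_1 D13468 (iv D12595) (iv F48979)
theorem F53056 : act 3 n13468 = n12485 := d25_1 D13468 (iv D12485) (iv F48980)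
theorem F53057 : act 4 n13468 = n12821 := d29_1 D13468 F50499 (iv F48981)
theorem F53058 : act 5 n13468 = n12701 := d32_1 D13468 (iv D12701) (iv F48982)
theorem F53059 : act 6 n13468 = n12467 := d34_1 D13468 (iv D12467) (iv F48983)
def n13469 : Q := act 7 n12462
theorem D13469 : act 7 n12462 = n13469 := rfl
theorem F53060 : act 2 n13469 = n12464 := d19_1 D13469 (iv D12464) (iv F48985)
theorem F53061 : act 4 n13469 = n12985 := d28_1 D13469 F51052 (iv F48987)
theorem F53062 : act 6 n13469 = n12470 := d33_1 D13469 (iv D12470) (iv F48988)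
def n13470 : Q := act 7 n12463
theorem D13470 : act 7 n12463 = n13470 := rfl
theorem F53063 : act 1 n13470 = n12600 := d13_1 D13470 (iv D12600) (iv F48989)
theorem F53064 : act 2 n13470 = n12985 := d19_1 D13470 F51052 (iv F48990)
theorem F53065 : act 4 n13470 = n12464 := d28_1 D13470 (iv D12464) (iv F48992)
theorem F53066 : act 5 n13470 = n12986 := d31_1 D13470 F51053 (iv F48993)
theorem F53067 : act 6 n13470 = n12473 := d33_1 D13470 (iv D12473) (iv F48994)
def n13471 : Q := act 4 n12465
theorem D13471 : act 4 n12465 = n13471 := rfl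
theorem F53068 : act 0 n13471 = n12466 := d3_1 D13471 (iv D12466) D12465
theorem F53069 : act 2 n13471 = n12601 := d16_1 D13471 (iv D12601) (iv F48998)
theorem F53070 : act 3 n13471 = n13109 := d21_1 D13471 F51585 (iv F48609) F48610 (iv F48999)
theorem F53071 : act 6 n13471 = n12935 := d27_2 F53052 D13471 (iv F53050)
theorem F53072 : act 7 n13471 = n12946 := d28_2 F53007 D13471 (iv F53004)
theorem F53073 : act 5 n12943 = n13471 := d31_3 F53072 F50925 (iv F50915)
def n13472 : Q := act 8 n12465
theorem D13472 : act 8 n12465 = n13472 := rfl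
theorem F53074 : act 0 n13472 = n12467 := d7_1 D13472 (iv D12467) D12465
theorem F53075 : act 2 n13472 = n12602 := d20_1 D13472 (iv D12602) (iv F48998)
theorem F53076 : act 3 n13472 = n12487 := d25_1 D13472 (iv D12487) (iv F48999)
theorem F53077 : act 5 n13472 = n12810 := d32_1 D13472 (iv D12810) (iv F49000)
def n13473 : Q := act 8 n12466
theorem D13473 : act 8 n12466 = n13473 := rfl
theorem F53078 : act 1 n13473 = n12469 := d14_1 D13473 (iv D12469) (iv F49001)
theorem F53079 : act 2 n13473 = n12604 := d20_1 D13473 (iv D12604) (iv F49002)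
theorem F53080 : act 3 n13473 = n12820 := d25_1 D13473 F50496 (iv F49003)
theorem F53081 : act 4 n13473 = n12467 := d29_1 D13473 (iv D12467) D12466
theorem F53082 : act 5 n13473 = n12972 := d32_1 D13473 (iv D12972) F49006
theorem F53083 : act 6 n13473 = n12821 := d34_1 D13473 F50499 (iv F49004)
def n13474 : Q := act 7 n12467
theorem D13474 : act 7 n12467 = n13474 := rfl
theorem F53084 : act 1 n13474 = n12470 := d13_1 D13474 (iv D12470) (iv F49007)
theorem F53085 : act 2 n13474 = n12605 := d19_1 D13474 (iv D12605) (iv F49008)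
theorem F53086 : act 5 n13474 = n12812 := d31_1 D13474 (iv D12812) (iv F49010)
def n13475 : Q := act 8 n12468
theorem D13475 : act 8 n12468 = n13475 := rfl
theorem F53087 : act 1 n13475 = n12972 := d14_1 D13475 (iv D12972) (iv F49011)
theorem F53088 : act 2 n13475 = n12472 := d20_1 D13475 (iv D12472) (iv F49012)
theorem F53089 : act 3 n13475 = n12987 := d25_1 D13475 F51059 (iv F49013)
theorem F53090 : act 4 n13475 = n12813 := d29_1 D13475 (iv D12813) (iv F49014)
theorem F53091 : act 5 n13475 = n12469 := d32_1 D13475 (iv D12469) D12468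
theorem F53092 : act 6 n13475 = n12801 := d34_1 D13475 (iv D12801) (iv F49015)
def n13476 : Q := act 7 n12469
theorem D13476 : act 7 n12469 = n13476 := rfl
theorem F53093 : act 2 n13476 = n12473 := d19_1 D13476 (iv D12473) (iv F49017)
theorem F53094 : act 3 n13476 = n12984 := d24_1 D13476 (iv D12984) F46930 D11954 (iv F49018)
theorem F53095 : act 4 n13476 = n12470 := d28_1 D13476 (iv D12470) (iv F49019)
theorem F53096 : act 6 n13476 = n12985 := d33_1 D13476 F51052 (iv F49020)
def n13477 : Q := act 3 n12470
theorem D13477 : act 3 n12470 = n13477 := rfl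
theorem F53097 : act 2 n13477 = n13249 := d15_1 D13477 (iv D13249) F48134 (iv F44522) (iv F49021)
theorem F53098 : act 5 n13477 = n12815 := d22_2 (iv F49022) D13477 (iv D12815)
theorem F53099 : act 7 n13477 = n12489 := d24_2 D12470 D13477 (iv D12489) (iv D11495) (iv F44513)
def n13478 : Q := act 8 n12471
theorem D13478 : act 8 n12471 = n13478 := rfl
theorem F53100 : act 1 n13478 = n12609 := d14_1 D13478 (iv D12609) (iv F49023)
theorem F53101 : act 2 n13478 = n12801 := d20_1 D13478 (iv D12801) (iv F49024)
theorem F53102 : act 3 n13478 = n12475 := d25_1 D13478 (iv D12475) (iv F49025)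
theorem F53103 : act 4 n13478 = n12816 := d29_1 D13478 (iv D12816) (iv F49026)
theorem F53104 : act 5 n13478 = n12799 := d32_1 D13478 (iv D12799) (iv F49027)
theorem F53105 : act 6 n13478 = n12472 := d34_1 D13478 (iv D12472) D12471
def n13479 : Q := act 7 n12472
theorem D13479 : act 7 n12472 = n13479 := rfl
theorem F53106 : act 1 n13479 = n12610 := d13_1 D13479 (iv D12610) (iv F49029)
theorem F53107 : act 4 n13479 = n12817 := d28_1 D13479 (iv D12817) (iv F49031)
theorem F53108 : act 5 n13479 = n12473 := d31_1 D13479 (iv D12473) (iv F49032)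
def n13480 : Q := act 3 n12473
theorem D13480 : act 3 n12473 = n13480 := rfl
theorem F53109 : act 1 n13480 = n12611 := d9_1 D13480 (iv D12611) (iv F49033)
theorem F53110 : act 4 n13480 = n13251 := d21_2 (iv F49034) D13480 (iv D13251) F48139 (iv F44522)
theorem F53111 : act 7 n13480 = n12477 := d24_2 D12473 D13480 (iv D12477) (iv D11483) (iv F44519)
def n13481 : Q := act 3 n12474
theorem D13481 : act 3 n12474 = n13481 := rfl
theorem F53112 : act 1 n13481 = n12614 := d9_1 D13481 (iv D12614) (iv F49035)
theorem F53113 : act 2 n13481 = n13076 := d15_1 D13481 (iv D13076) F47300 D12045 (iv F49036)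
theorem F53114 : act 4 n13481 = n13074 := d21_2 (iv F49037) D13481 (iv D13074) F47293 (iv F44531)
theorem F53115 : act 5 n13481 = n13077 := d22_2 (iv F49038) D13481 F51430
theorem F53116 : act 6 n13481 = n12477 := d23_2 (iv F49039) D13481 (iv D12477)
theorem F53117 : act 8 n13481 = n13481 := d25_2 F49040 D13481 (iv D13481)
def n13482 : Q := act 3 n12476
theorem D13482 : act 3 n12476 = n13482 := rfl
theorem F53118 : act 1 n13482 = n12616 := d9_1 D13482 (iv D12616) (iv F49047)
theorem F53119 : act 2 n13482 = n13311 := d15_1 D13482 (iv D13311) F48286 D12341 (iv F49048)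
theorem F53120 : act 5 n13482 = n12477 := d22_2 (iv F49050) D13482 (iv D12477)
theorem F53121 : act 6 n13482 = n13312 := d23_2 (iv F49051) D13482 F52323
theorem F53122 : act 8 n13482 = n13482 := d25_2 F49052 D13482 (iv D13482)
def n13483 : Q := act 2 n12477
theorem D13483 : act 2 n12477 = n13483 := rfl
theorem F53123 : act 3 n13483 = n13075 := d15_2 D12477 D13483 F51423 (iv F48576) F48575
theorem F53124 : act 4 n13483 = n13254 := d16_2 (iv F49054) D13483 (iv D13254)
theorem F53125 : act 5 n13483 = n13311 := d17_2 F53120 D13483 (iv F53119)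
theorem F53126 : act 6 n13483 = n13076 := d18_2 F53116 D13483 (iv F53113)
theorem F53127 : act 8 n13483 = n13483 := d20_2 F49055 D13483 (iv D13483)
def n13484 : Q := act 4 n12479
theorem D13484 : act 4 n12479 = n13484 := rfl
theorem F53128 : act 1 n13484 = n12486 := d10_1 D13484 F49104 (iv F49062)
theorem F53129 : act 2 n13484 = n12492 := d16_1 D13484 (iv F52638) F52637
theorem F53130 : act 5 n13484 = n12707 := d26_2 (iv F49063) D13484 F50071 F48157 (iv F44552)
theorem F53131 : act 6 n13484 = n12488 := d27_2 F52628 D13484 (iv F52626)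
theorem F53132 : act 7 n13484 = n12485 := d28_2 (iv F49064) D13484 F49100
theorem F53133 : act 8 n13484 = n13484 := d29_2 F49065 D13484 (iv D13484)
def n13485 : Q := act 8 n12484
theorem D13485 : act 8 n12484 = n13485 := rfl
theorem F53134 : act 0 n13485 = n12485 := d7_1 D13485 (iv D12485) D12484
theorem F53135 : act 2 n13485 = n12491 := d20_1 D13485 (iv D12491) (iv F49093)
theorem F53136 : act 4 n13485 = n12787 := d29_1 D13485 F50372 (iv F49094)
theorem F53137 : act 5 n13485 = n12695 := d32_1 D13485 (iv D12695) (iv F49095)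
theorem F53138 : act 6 n13485 = n12487 := d34_1 D13485 (iv D12487) (iv F49096)
def n13486 : Q := act 3 n12486
theorem D13486 : act 3 n12486 = n13486 := rfl
theorem F53139 : act 2 n13486 = n12824 := d15_1 D13486 (iv D12824) F46448 (iv F45194) (iv F49103)
theorem F53140 : act 4 n13486 = n12616 := d21_2 (iv F49104) D13486 (iv D12616) F45573 D11597
theorem F53141 : act 5 n13486 = n13313 := d22_2 (iv F49105) D13486 F52326
theorem F53142 : act 6 n13486 = n12489 := d23_2 (iv F49106) D13486 (iv D12489)
theorem F53143 : act 8 n13486 = n13486 := d25_2 F49107 D13486 (iv D13486)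
def n13487 : Q := act 7 n12487
theorem D13487 : act 7 n12487 = n13487 := rfl
theorem F53144 : act 0 n13487 = n12488 := d6_1 D13487 (iv D12488) (iv F49108)
theorem F53145 : act 2 n13487 = n12493 := d19_1 D13487 (iv D12493) (iv F49109)
theorem F53146 : act 5 n13487 = n12823 := d31_1 D13487 (iv D12823) (iv F49110)
theorem F53147 : act 8 n13487 = n13487 := d35_2 D12487 D13487 (iv D13487) (iv D12487) F45199
def n13488 : Q := act 3 n12488
theorem D13488 : act 3 n12488 = n13488 := rfl
theorem F53148 : act 1 n13488 = n12489 := d9_1 D13488 (iv D12489) (iv F49111)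
theorem F53149 : act 2 n13488 = n13313 := d15_1 D13488 F52326 (iv F49084) F49085 (iv F49112)
theorem F53150 : act 4 n13488 = n13312 := d21_2 F52626 D13488 F52323 (iv F49058) (iv F52625)
theorem F53151 : act 5 n13488 = n12824 := d22_2 (iv F49113) D13488 (iv D12824)
theorem F53152 : act 8 n13488 = n13488 := d25_2 F49114 D13488 (iv D13488)
def n13489 : Q := act 4 n12489
theorem D13489 : act 4 n12489 = n13489 := rfl
theorem F53153 : act 1 n13489 = n13312 := d10_1 D13489 (iv F53150) F53148
theorem F53154 : act 2 n13489 = n13255 := d16_1 D13489 (iv D13255) (iv F49115)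
theorem F53155 : act 3 n13489 = n12615 := d21_1 D13489 F49622 (iv F48621) F48622 D12489
theorem F53156 : act 6 n13489 = n12616 := d27_2 F53142 D13489 (iv F53140)
theorem F53157 : act 8 n13489 = n13489 := d29_2 F49117 D13489 (iv D13489)
theorem F53158 : act 5 n13314 = n13489 := d36_3 D12612 (iv F49610) (iv F52328) (iv D13489) (iv D12489) (iv F49111) F49112 (iv F49085) F49089 (iv D12483) F44565 F39322 F31454 (iv F31303) F31302 F23178 F23179 (iv D4414) (iv D3231) F9620 F7209 F7208 (iv F9620) (iv F12849) (iv F17251) F17252 (iv F38417) (iv F18490) (iv F24895) F24896 D8893 (iv F40830) F40829 F32875 F24272 D6304 D8653 D10483 (iv F46947) (iv F48987) F48986 (iv F49098) F49099 F45222 (iv D10139) F31683 F23630 F38334 F17676 F13136 F9813 F7354 F5532 F4200 F3196 F2458 F2460 F2459 F1876 F1428 F1143 (iv F1513) F1515 (iv F1969) F1967 F1968 F1654 F1653 (iv F2112) (iv F2789) (iv F3683) (iv F4849) F38086 F5490 (iv F7301) (iv F38148) (iv F12931) (iv F17365) (iv F23367) (iv F31590) (iv F38154) (iv F31858) (iv F39538) F39539 D10461 F40808 (iv F46875)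 (iv F49555) F49556
def n13490 : Q := act 7 n12491
theorem D13490 : act 7 n12491 = n13490 := rfl
theorem F53159 : act 0 n13490 = n12492 := d6_1 D13490 (iv D12492) (iv F49126)
theorem F53160 : act 1 n13490 = n13447 := d13_1 D13490 (iv D13447) (iv F49127)
theorem F53161 : act 3 n13490 = n12711 := d24_1 D13490 (iv D12711) F46100 (iv F45610) (iv F49128)
theorem F53162 : act 5 n13490 = n12696 := d31_1 D13490 (iv D12696) (iv F49129)
theorem F53163 : act 6 n13490 = n12493 := d33_1 D13490 (iv D12493) (iv F49130)
theorem F53164 : act 8 n13490 = n13490 := d35_2 D12491 D13490 (iv D13490) (iv D12491) F45220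
def n13491 : Q := act 4 n12494
theorem D13491 : act 4 n12494 = n13491 := rfl
theorem F53165 : act 0 n13491 = n13118 := d3_1 D13491 F51632 F51599
theorem F53166 : act 1 n13491 = n12619 := d10_1 D13491 (iv D12619) (iv F49139)
theorem F53167 : act 2 n13491 = n12498 := d16_1 D13491 (iv D12498) (iv F49140)
theorem F53168 : act 5 n13491 = n13491 := d26_2 D12494 D13491 (iv D13491) (iv D12494) F45239
theorem F53169 : act 6 n13491 = n12872 := d27_2 (iv F49141) D13491 (iv D12872)
theorem F53170 : act 8 n13491 = n12638 := d29_2 (iv F49142) D13491 (iv D12638)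
def n13492 : Q := act 7 n12494
theorem D13492 : act 7 n12494 = n13492 := rfl
theorem F53171 : act 1 n13492 = n12620 := d13_1 D13492 (iv D12620) (iv F49139)
theorem F53172 : act 2 n13492 = n12499 := d19_1 D13492 (iv D12499) (iv F49140)
theorem F53173 : act 5 n13492 = n12495 := d31_1 D13492 (iv D12495) D12494
theorem F53174 : act 6 n13492 = n12873 := d33_1 D13492 (iv D12873) (iv F49141)
def n13493 : Q := act 3 n12495
theorem D13493 : act 3 n12495 = n13493 := rfl
theorem F53175 : act 1 n13493 = n12621 := d9_1 D13493 (iv D12621) (iv F49143)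
theorem F53176 : act 6 n13493 = n12496 := d23_2 (iv F49146) D13493 (iv D12496)
def n13494 : Q := act 8 n12495
theorem D13494 : act 8 n12495 = n13494 := rfl
theorem F53177 : act 1 n13494 = n12622 := d14_1 D13494 (iv D12622) (iv F49143)
theorem F53178 : act 2 n13494 = n12501 := d20_1 D13494 (iv D12501) (iv F49144)
theorem F53179 : act 4 n13494 = n13494 := d29_1 D13494 (iv D13494) F49145
theorem F53180 : act 6 n13494 = n12497 := d34_1 D13494 (iv D12497) (iv F49146)
theorem F53181 : act 7 n13494 = n13004 := d35_1 D13494 (iv D13004) F47005 (iv F45240) D12495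
def n13495 : Q := act 2 n12496
theorem D13495 : act 2 n12496 = n13495 := rfl
theorem F53182 : act 3 n13495 = n12502 := d15_2 D12496 D13495 (iv D12502) (iv D11507) (iv F45242)
theorem F53183 : act 5 n13495 = n12876 := d17_2 (iv F49148) D13495 (iv D12876)
def n13496 : Q := act 4 n12496
theorem D13496 : act 4 n12496 = n13496 := rfl
theorem F53184 : act 1 n13496 = n12624 := d10_1 D13496 (iv D12624) (iv F49147)
theorem F53185 : act 3 n13496 = n13496 := d21_1 D13496 (iv D13496) (iv D12496) F45243 D12496
def n13497 : Q := act 8 n12496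
theorem D13497 : act 8 n12496 = n13497 := rfl
theorem F53186 : act 1 n13497 = n12625 := d14_1 D13497 (iv D12625) (iv F49147)
theorem F53187 : act 3 n13497 = n12497 := d25_1 D13497 (iv D12497) D12496
theorem F53188 : act 5 n13497 = n12878 := d32_1 D13497 (iv D12878) (iv F49148)
def n13498 : Q := act 7 n12498
theorem D13498 : act 7 n12498 = n13498 := rfl
theorem F53189 : act 0 n13498 = n13120 := d6_1 D13498 (iv D13120) (iv F49154)
theorem F53190 : act 1 n13498 = n12538 := d13_1 D13498 (iv D12538) (iv F49155)
theorem F53191 : act 4 n13498 = n12499 := d28_1 D13498 (iv D12499) D12498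
theorem F53192 : act 5 n13498 = n13498 := d31_1 D13498 (iv D13498) F49157
theorem F53193 : act 6 n13498 = n12879 := d33_1 D13498 (iv D12879) (iv F49158)
theorem F53194 : act 3 n12655 = n13498 := d23_3 F53193 (iv F51771) F51774
def n13499 : Q := act 3 n12499
theorem D13499 : act 3 n12499 = n13499 := rfl
theorem F53195 : act 1 n13499 = n12539 := d9_1 D13499 (iv D12539) (iv F49160)
theorem F53196 : act 4 n13499 = n12688 := d21_2 F53191 D13499 F49995 (iv F49817) F53194
theorem F53197 : act 5 n13499 = n12500 := d22_2 (iv F49161) D13499 (iv D12500)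
theorem F53198 : act 6 n13499 = n12854 := d23_2 (iv F49162) D13499 F50620
theorem F53199 : act 7 n13499 = n12505 := d24_2 D12499 D13499 (iv D12505) (iv D11509) (iv F45246)
def n13500 : Q := act 8 n12499
theorem D13500 : act 8 n12499 = n13500 := rfl
theorem F53200 : act 1 n13500 = n12540 := d14_1 D13500 (iv D12540) (iv F49160)
theorem F53201 : act 5 n13500 = n12501 := d32_1 D13500 (iv D12501) (iv F49161)
theorem F53202 : act 6 n13500 = n12880 := d34_1 D13500 (iv D12880) (iv F49162)
theorem F53203 : act 7 n13500 = n12646 := d35_1 D13500 (iv D12646) F45721 (iv F45248) D12499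
def n13501 : Q := act 2 n12500
theorem D13501 : act 2 n12500 = n13501 := rfl
theorem F53204 : act 6 n13501 = n12502 := d18_2 (iv F49164) D13501 (iv D12502)
theorem F53205 : act 7 n13501 = n12507 := d19_2 (iv F49165) D13501 (iv D12507)
def n13502 : Q := act 4 n12500
theorem D13502 : act 4 n12500 = n13502 := rfl
theorem F53206 : act 1 n13502 = n12542 := d10_1 D13502 (iv D12542) (iv F49163)
theorem F53207 : act 3 n13502 = n13502 := d21_1 D13502 (iv D13502) (iv D12500) F45250 D12500
theorem F53208 : act 5 n13502 = n13232 := d26_2 F53197 D13502 (iv D13232) (iv F49996) (iv F53196)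
theorem F53209 : act 6 n13502 = n12503 := d27_2 (iv F49164) D13502 (iv D12503)
theorem F53210 : act 7 n13502 = n12508 := d28_2 (iv F49165) D13502 (iv D12508)
def n13503 : Q := act 8 n12500
theorem D13503 : act 8 n12500 = n13503 := rfl
theorem F53211 : act 1 n13503 = n12543 := d14_1 D13503 (iv D12543) (iv F49163)
theorem F53212 : act 3 n13503 = n12501 := d25_1 D13503 (iv D12501) D12500
theorem F53213 : act 6 n13503 = n12504 := d34_1 D13503 (iv D12504) (iv F49164)
def n13504 : Q := act 1 n12502
theorem D13504 : act 1 n12502 = n13504 := rfl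
theorem F53214 : act 2 n13504 = n12544 := d8_2 D12502 D13504 (iv D12544) (iv D11534) (iv F45252)
theorem F53215 : act 5 n13504 = n12884 := d11_2 (iv F49170) D13504 (iv D12884)
theorem F53216 : act 7 n13504 = n12510 := d13_2 (iv F49171) D13504 (iv D12510)
def n13505 : Q := act 4 n12502
theorem D13505 : act 4 n12502 = n13505 := rfl
theorem F53217 : act 2 n13505 = n12503 := d16_1 D13505 (iv D12503) D12502
theorem F53218 : act 7 n13505 = n12511 := d28_2 (iv F49171) D13505 (iv D12511)
def n13506 : Q := act 8 n12502
theorem D13506 : act 8 n12502 = n13506 := rfl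
theorem F53219 : act 2 n13506 = n12504 := d20_1 D13506 (iv D12504) D12502
theorem F53220 : act 5 n13506 = n12886 := d32_1 D13506 (iv D12886) (iv F49170)
def n13507 : Q := act 5 n12503
theorem D13507 : act 5 n12503 = n13507 := rfl
theorem F53221 : act 1 n13507 = n12547 := d11_1 D13507 (iv D12547) (iv F49172)
theorem F53222 : act 3 n13507 = n13507 := d22_1 D13507 (iv D13507) F49173
theorem F53223 : act 4 n13507 = n12887 := d26_1 D13507 (iv D12887) (iv D11862) (iv F45253) D12503
theorem F53224 : act 7 n13507 = n12513 := d31_2 (iv F49174) D13507 (iv D12513)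
def n13508 : Q := act 8 n12503
theorem D13508 : act 8 n12503 = n13508 := rfl
theorem F53225 : act 1 n13508 = n12548 := d14_1 D13508 (iv D12548) (iv F49172)
theorem F53226 : act 3 n13508 = n13508 := d25_1 D13508 (iv D13508) F49173
theorem F53227 : act 4 n13508 = n12504 := d29_1 D13508 (iv D12504) D12503
def n13509 : Q := act 7 n12504
theorem D13509 : act 7 n12504 = n13509 := rfl
theorem F53228 : act 1 n13509 = n12549 := d13_1 D13509 (iv D12549) (iv F49175)
theorem F53229 : act 3 n13509 = n13263 := d24_1 D13509 (iv D13263) F48173 (iv F45258) (iv F49176)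
theorem F53230 : act 5 n13509 = n12889 := d31_1 D13509 (iv D12889) (iv F49177)
theorem F53231 : act 8 n13509 = n12515 := d35_2 D12504 D13509 (iv D12515) (iv D11514) (iv F45254)
def n13510 : Q := act 2 n12505
theorem D13510 : act 2 n12505 = n13510 := rfl
theorem F53232 : act 1 n13510 = n12830 := d8_1 D13510 (iv D12830) F46475 (iv F45355) (iv F49178)
theorem F53233 : act 5 n13510 = n12507 := d17_2 (iv F49179) D13510 (iv D12507)
theorem F53234 : act 6 n13510 = n12832 := d18_2 (iv F49180) D13510 F50532
def n13511 : Q := act 4 n12505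
theorem D13511 : act 4 n12505 = n13511 := rfl
theorem F53235 : act 1 n13511 = n12550 := d10_1 D13511 (iv D12550) (iv F49178)
theorem F53236 : act 3 n13511 = n13511 := d21_1 D13511 (iv D13511) (iv D12505) F45260 D12505
theorem F53237 : act 6 n13511 = n12858 := d27_2 (iv F49180) D13511 (iv D12858)
theorem F53238 : act 7 n13511 = n12688 := d28_2 F53199 D13511 (iv F53196)
theorem F53239 : act 5 n13228 = n13511 := d37_1 (iv F52068) (iv D13511) (iv D12505) (iv F45432) (iv D11557) F39505 F31654 F38239 F17854 F13261 F10587 F7919 F5945 (iv F44934) F7824 (iv D1904) F5867 F4413 (iv F4152) F4151 (iv F5407) (iv D1277) (iv D939) (iv D695) F2340 F2339 (iv F2371) (iv D520) F1804 F1803 F1802 F1372 F1299 F1298 D287 F1378 F1377 D289 D389 D526 D715 F3184 F2443 D542 D737 F3263 F38119 F3696 (iv F3679) (iv F4261) (iv F5598) (iv F7452) (iv F9956) (iv F13184) (iv F17718) D6186 F23889 (iv F32332) D10296 D11743 D12766 F50297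
def n13512 : Q := act 8 n12505
theorem D13512 : act 8 n12505 = n13512 := rfl
theorem F53240 : act 1 n13512 = n12551 := d14_1 D13512 (iv D12551) (iv F49178)
theorem F53241 : act 3 n13512 = n12506 := d25_1 D13512 (iv D12506) D12505
theorem F53242 : act 5 n13512 = n12509 := d32_1 D13512 (iv D12509) (iv F49179)
theorem F53243 : act 6 n13512 = n12859 := d34_1 D13512 (iv D12859) (iv F49180)
def n13513 : Q := act 1 n12507
theorem D13513 : act 1 n12507 = n13513 := rfl
theorem F53244 : act 2 n13513 = n12552 := d8_2 D12507 D13513 (iv D12552) (iv D11539) (iv F45263)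
theorem F53245 : act 3 n13513 = n13510 := d9_2 F50527 D13513 F53232
theorem F53246 : act 5 n13513 = n12830 := d11_2 F53233 D13513 (iv F53232)
theorem F53247 : act 6 n13513 = n12510 := d12_2 (iv F49186) D13513 (iv D12510)
def n13514 : Q := act 4 n12507
theorem D13514 : act 4 n12507 = n13514 := rfl
theorem F53248 : act 2 n13514 = n12508 := d16_1 D13514 (iv D12508) D12507
theorem F53249 : act 6 n13514 = n12511 := d27_2 (iv F49186) D13514 (iv D12511)
def n13515 : Q := act 8 n12507
theorem D13515 : act 8 n12507 = n13515 := rfl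
theorem F53250 : act 2 n13515 = n12509 := d20_1 D13515 (iv D12509) D12507
theorem F53251 : act 6 n13515 = n12512 := d34_1 D13515 (iv D12512) (iv F49186)
def n13516 : Q := act 5 n12508
theorem D13516 : act 5 n12508 = n13516 := rfl
theorem F53252 : act 0 n13516 = n13161 := d4_1 D13516 F52698 F52694
theorem F53253 : act 1 n13516 = n12555 := d11_1 D13516 (iv D12555) (iv F49187)
theorem F53254 : act 3 n13516 = n12518 := d22_1 D13516 (iv D12518) (iv F49188)
theorem F53255 : act 4 n13516 = n13228 := d26_1 D13516 F53239 (iv D13511) F49179 D12508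
theorem F53256 : act 7 n13516 = n13232 := d31_2 F53210 D13516 (iv F53208)
def n13517 : Q := act 8 n12508
theorem D13517 : act 8 n12508 = n13517 := rfl
theorem F53257 : act 1 n13517 = n12556 := d14_1 D13517 (iv D12556) (iv F49187)
theorem F53258 : act 3 n13517 = n12519 := d25_1 D13517 (iv D12519) (iv F49188)
theorem F53259 : act 4 n13517 = n12509 := d29_1 D13517 (iv D12509) D12508
theorem F53260 : act 6 n13517 = n12514 := d34_1 D13517 (iv D12514) (iv F49189)
def n13518 : Q := act 7 n12509
theorem D13518 : act 7 n12509 = n13518 := rfl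
theorem F53261 : act 1 n13518 = n12557 := d13_1 D13518 (iv D12557) (iv F49190)
theorem F53262 : act 3 n13518 = n12953 := d24_1 D13518 (iv D12953) F46803 (iv F45268) (iv F49191)
theorem F53263 : act 6 n13518 = n12515 := d33_1 D13518 (iv D12515) (iv F49192)
def n13519 : Q := act 0 n12510
theorem D13519 : act 0 n12510 = n13519 := rfl
theorem F53264 : act 2 n13519 = n12558 := d1_2 (iv F49193) D13519 (iv D12558)
theorem F53265 : act 5 n13519 = n12895 := d4_2 (iv F49194) D13519 (iv D12895)
def n13520 : Q := act 4 n12510
theorem D13520 : act 4 n12510 = n13520 := rfl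
theorem F53266 : act 1 n13520 = n12511 := d10_1 D13520 (iv D12511) D12510
theorem F53267 : act 2 n13520 = n12559 := d16_1 D13520 (iv D12559) (iv F49193)
def n13521 : Q := act 8 n12510
theorem D13521 : act 8 n12510 = n13521 := rfl
theorem F53268 : act 1 n13521 = n12512 := d14_1 D13521 (iv D12512) D12510
theorem F53269 : act 2 n13521 = n12560 := d20_1 D13521 (iv D12560) (iv F49193)
theorem F53270 : act 5 n13521 = n12897 := d32_1 D13521 (iv D12897) (iv F49194)
def n13522 : Q := act 3 n12511
theorem D13522 : act 3 n12511 = n13522 := rfl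
theorem F53271 : act 2 n13522 = n12521 := d15_1 D13522 (iv D12521) F45287 (iv F45271) (iv F49195)
def n13523 : Q := act 5 n12511
theorem D13523 : act 5 n12511 = n13523 := rfl
theorem F53272 : act 2 n13523 = n12513 := d17_1 D13523 (iv D12513) (iv F49195)
theorem F53273 : act 4 n13523 = n12899 := d26_1 D13523 (iv D12899) (iv D11868) (iv F45269) D12511
def n13524 : Q := act 8 n12511
theorem D13524 : act 8 n12511 = n13524 := rfl
theorem F53274 : act 2 n13524 = n12514 := d20_1 D13524 (iv D12514) (iv F49195)
theorem F53275 : act 4 n13524 = n12512 := d29_1 D13524 (iv D12512) D12511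
def n13525 : Q := act 7 n12512
theorem D13525 : act 7 n12512 = n13525 := rfl
theorem F53276 : act 2 n13525 = n12515 := d19_1 D13525 (iv D12515) (iv F49196)
theorem F53277 : act 5 n13525 = n12901 := d31_1 D13525 (iv D12901) (iv F49197)
def n13526 : Q := act 6 n12513
theorem D13526 : act 6 n12513 = n13526 := rfl
theorem F53278 : act 1 n13526 = n12564 := d12_1 D13526 (iv D12564) (iv F49198)
theorem F53279 : act 3 n13526 = n12525 := d23_1 D13526 (iv D12525) (iv F49199)
theorem F53280 : act 4 n13526 = n12902 := d27_1 D13526 (iv D12902) (iv F49200)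
def n13527 : Q := act 8 n12513
theorem D13527 : act 8 n12513 = n13527 := rfl
theorem F53281 : act 1 n13527 = n12565 := d14_1 D13527 (iv D12565) (iv F49198)
theorem F53282 : act 3 n13527 = n12526 := d25_1 D13527 (iv D12526) (iv F49199)
theorem F53283 : act 4 n13527 = n12903 := d29_1 D13527 (iv D12903) (iv F49200)
theorem F53284 : act 5 n13527 = n12514 := d32_1 D13527 (iv D12514) D12513
def n13528 : Q := act 7 n12514
theorem D13528 : act 7 n12514 = n13528 := rfl
theorem F53285 : act 1 n13528 = n12566 := d13_1 D13528 (iv D12566) (iv F49201)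
theorem F53286 : act 4 n13528 = n12515 := d28_1 D13528 (iv D12515) (iv F49203)
def n13529 : Q := act 3 n12516
theorem D13529 : act 3 n12516 = n13529 := rfl
theorem F53287 : act 1 n13529 = n13529 := d9_1 D13529 (iv D13529) F49207
theorem F53288 : act 6 n13529 = n12521 := d23_2 (iv F49209) D13529 (iv D12521)
def n13530 : Q := act 5 n12516
theorem D13530 : act 5 n12516 = n13530 := rfl
theorem F53289 : act 0 n13530 = n13195 := d4_1 D13530 F51928 F51588
theorem F53290 : act 1 n13530 = n13530 := d11_1 D13530 (iv D13530) F49207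
theorem F53291 : act 2 n13530 = n12518 := d17_1 D13530 (iv D12518) (iv F49208)
theorem F53292 : act 4 n13530 = n13530 := d26_1 D13530 (iv D13530) (iv D12516) F45276 D12516
theorem F53293 : act 7 n13530 = n13530 := d31_2 F49210 D13530 (iv D13530)
def n13531 : Q := act 8 n12516
theorem D13531 : act 8 n12516 = n13531 := rfl
theorem F53294 : act 1 n13531 = n13531 := d14_1 D13531 (iv D13531) F49207
theorem F53295 : act 2 n13531 = n12519 := d20_1 D13531 (iv D12519) (iv F49208)
theorem F53296 : act 4 n13531 = n12517 := d29_1 D13531 (iv D12517) D12516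
theorem F53297 : act 6 n13531 = n12523 := d34_1 D13531 (iv D12523) (iv F49209)
def n13532 : Q := act 7 n12517
theorem D13532 : act 7 n12517 = n13532 := rfl
theorem F53298 : act 1 n13532 = n13532 := d13_1 D13532 (iv D13532) F49211
theorem F53299 : act 2 n13532 = n12520 := d19_1 D13532 (iv D12520) (iv F49212)
theorem F53300 : act 5 n13532 = n13532 := d31_1 D13532 (iv D13532) F49213
theorem F53301 : act 6 n13532 = n12524 := d33_1 D13532 (iv D12524) (iv F49214)
theorem F53302 : act 8 n13532 = n13532 := d35_2 D12517 D13532 (iv D13532) (iv D12517) F45278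
def n13533 : Q := act 6 n12518
theorem D13533 : act 6 n12518 = n13533 := rfl
theorem F53303 : act 0 n13533 = n13199 := d5_1 D13533 F51951 (iv F49215)
theorem F53304 : act 1 n13533 = n12567 := d12_1 D13533 (iv D12567) (iv F49216)
theorem F53305 : act 4 n13533 = n13533 := d27_1 D13533 (iv D13533) F49217
theorem F53306 : act 5 n13533 = n12525 := d30_1 D13533 (iv D12525) (iv D11520) (iv F45280) D12518
theorem F53307 : act 7 n13533 = n13533 := d33_2 F49218 D13533 (iv D13533)
def n13534 : Q := act 8 n12518
theorem D13534 : act 8 n12518 = n13534 := rfl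
theorem F53308 : act 0 n13534 = n13068 := d7_1 D13534 F51395 (iv F49215)
theorem F53309 : act 1 n13534 = n12568 := d14_1 D13534 (iv D12568) (iv F49216)
theorem F53310 : act 4 n13534 = n13534 := d29_1 D13534 (iv D13534) F49217
theorem F53311 : act 5 n13534 = n12519 := d32_1 D13534 (iv D12519) D12518
def n13535 : Q := act 7 n12519
theorem D13535 : act 7 n12519 = n13535 := rfl
theorem F53312 : act 1 n13535 = n12569 := d13_1 D13535 (iv D12569) (iv F49219)
theorem F53313 : act 4 n13535 = n12520 := d28_1 D13535 (iv D12520) (iv F49220)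
theorem F53314 : act 6 n13535 = n12527 := d33_1 D13535 (iv D12527) (iv F49221)
theorem F53315 : act 8 n13535 = n13535 := d35_2 D12519 D13535 (iv D13535) (iv D12519) F45281
def n13536 : Q := act 5 n12521
theorem D13536 : act 5 n12521 = n13536 := rfl
theorem F53316 : act 1 n13536 = n13536 := d11_1 D13536 (iv D13536) F49227
theorem F53317 : act 3 n13536 = n12522 := d22_1 D13536 (iv D12522) D12521
def n13537 : Q := act 7 n12521
theorem D13537 : act 7 n12521 = n13537 := rfl
theorem F53318 : act 1 n13537 = n13537 := d13_1 D13537 (iv D13537) F49227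
theorem F53319 : act 3 n13537 = n13537 := d24_1 D13537 (iv D13537) (iv D12521) F45288 D12521
def n13538 : Q := act 8 n12521
theorem D13538 : act 8 n12521 = n13538 := rfl
theorem F53320 : act 1 n13538 = n13538 := d14_1 D13538 (iv D13538) F49227
theorem F53321 : act 3 n13538 = n12523 := d25_1 D13538 (iv D12523) D12521
def n13539 : Q := act 6 n12522
theorem D13539 : act 6 n12522 = n13539 := rfl
theorem F53322 : act 1 n13539 = n13539 := d12_1 D13539 (iv D13539) F49228
theorem F53323 : act 2 n13539 = n12525 := d18_1 D13539 (iv D12525) (iv F49229)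
theorem F53324 : act 4 n13539 = n12531 := d27_1 D13539 (iv D12531) (iv F49230)
theorem F53325 : act 7 n13539 = n13539 := d33_2 F49231 D13539 (iv D13539)
def n13540 : Q := act 8 n12522
theorem D13540 : act 8 n12522 = n13540 := rfl
theorem F53326 : act 1 n13540 = n13540 := d14_1 D13540 (iv D13540) F49228
theorem F53327 : act 2 n13540 = n12526 := d20_1 D13540 (iv D12526) (iv F49229)
theorem F53328 : act 4 n13540 = n12532 := d29_1 D13540 (iv D12532) (iv F49230)
theorem F53329 : act 5 n13540 = n12523 := d32_1 D13540 (iv D12523) D12522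
def n13541 : Q := act 7 n12523
theorem D13541 : act 7 n12523 = n13541 := rfl
theorem F53330 : act 1 n13541 = n13541 := d13_1 D13541 (iv D13541) F49232
theorem F53331 : act 2 n13541 = n12527 := d19_1 D13541 (iv D12527) (iv F49233)
theorem F53332 : act 4 n13541 = n12524 := d28_1 D13541 (iv D12524) (iv F49234)
theorem F53333 : act 8 n13541 = n13541 := d35_2 D12523 D13541 (iv D13541) (iv D12523) F45288
def n13542 : Q := act 3 n12524
theorem D13542 : act 3 n12524 = n13542 := rfl
theorem F53334 : act 1 n13542 = n13542 := d9_1 D13542 (iv D13542) F49235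
theorem F53335 : act 2 n13542 = n13277 := d15_1 D13542 (iv D13277) F48193 (iv F45298) (iv F49236)
theorem F53336 : act 5 n13542 = n12534 := d22_2 (iv F49237) D13542 (iv D12534)
theorem F53337 : act 8 n13542 = n13542 := d25_2 F49238 D13542 (iv D13542)
def n13543 : Q := act 8 n12525
theorem D13543 : act 8 n12525 = n13543 := rfl
theorem F53338 : act 1 n13543 = n12570 := d14_1 D13543 (iv D12570) (iv F49239)
theorem F53339 : act 4 n13543 = n12535 := d29_1 D13543 (iv D12535) (iv F49240)
theorem F53340 : act 6 n13543 = n12526 := d34_1 D13543 (iv D12526) D12525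
def n13544 : Q := act 7 n12526
theorem D13544 : act 7 n12526 = n13544 := rfl
theorem F53341 : act 1 n13544 = n12571 := d13_1 D13544 (iv D12571) (iv F49242)
theorem F53342 : act 4 n13544 = n12536 := d28_1 D13544 (iv D12536) (iv F49243)
theorem F53343 : act 5 n13544 = n12527 := d31_1 D13544 (iv D12527) (iv F49244)
theorem F53344 : act 8 n13544 = n13544 := d35_2 D12526 D13544 (iv D13544) (iv D12526) F45294
def n13545 : Q := act 3 n12527
theorem D13545 : act 3 n12527 = n13545 := rfl
theorem F53345 : act 1 n13545 = n12572 := d9_1 D13545 (iv D12572) (iv F49245)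
theorem F53346 : act 4 n13545 = n13280 := d21_2 (iv F49246) D13545 (iv D13280) F48203 (iv F45298)
theorem F53347 : act 8 n13545 = n13545 := d25_2 F49247 D13545 (iv D13545)
def n13546 : Q := act 4 n12528
theorem D13546 : act 4 n12528 = n13546 := rfl
theorem F53348 : act 1 n13546 = n13546 := d10_1 D13546 (iv D13546) F49248
theorem F53349 : act 2 n13546 = n12922 := d16_1 D13546 (iv D12922) (iv F49249)
def n13547 : Q := act 6 n12528
theorem D13547 : act 6 n12528 = n13547 := rfl
theorem F53350 : act 1 n13547 = n13547 := d12_1 D13547 (iv D13547) F49248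
theorem F53351 : act 2 n13547 = n12923 := d18_1 D13547 (iv D12923) (iv F49249)
theorem F53352 : act 3 n13547 = n12531 := d23_1 D13547 (iv D12531) (iv F49250)
theorem F53353 : act 5 n13547 = n13547 := d30_1 D13547 (iv D13547) (iv D12528) F45303 D12528
def n13548 : Q := act 7 n12528
theorem D13548 : act 7 n12528 = n13548 := rfl
theorem F53354 : act 1 n13548 = n13548 := d13_1 D13548 (iv D13548) F49248
theorem F53355 : act 2 n13548 = n12924 := d19_1 D13548 (iv D12924) (iv F49249)
theorem F53356 : act 3 n13548 = n13548 := d24_1 D13548 (iv D13548) F49250 F45306 (iv F49250)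
theorem F53357 : act 5 n13548 = n12529 := d31_1 D13548 (iv D12529) D12528
def n13549 : Q := act 8 n12528
theorem D13549 : act 8 n12528 = n13549 := rfl
theorem F53358 : act 1 n13549 = n13549 := d14_1 D13549 (iv D13549) F49248
theorem F53359 : act 2 n13549 = n12925 := d20_1 D13549 (iv D12925) (iv F49249)
theorem F53360 : act 3 n13549 = n12532 := d25_1 D13549 (iv D12532) (iv F49250)
theorem F53361 : act 5 n13549 = n12530 := d32_1 D13549 (iv D12530) D12528
def n13550 : Q := act 8 n12531
theorem D13550 : act 8 n12531 = n13550 := rfl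
theorem F53362 : act 1 n13550 = n13550 := d14_1 D13550 (iv D13550) F49259
theorem F53363 : act 2 n13550 = n12535 := d20_1 D13550 (iv D12535) (iv F49260)
theorem F53364 : act 5 n13550 = n13550 := d32_1 D13550 (iv D13550) F49261
theorem F53365 : act 6 n13550 = n12532 := d34_1 D13550 (iv D12532) D12531
def n13551 : Q := act 7 n12532
theorem D13551 : act 7 n12532 = n13551 := rfl
theorem F53366 : act 1 n13551 = n13551 := d13_1 D13551 (iv D13551) F49263
theorem F53367 : act 2 n13551 = n12536 := d19_1 D13551 (iv D12536) (iv F49264)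
theorem F53368 : act 5 n13551 = n12533 := d31_1 D13551 (iv D12533) (iv F49265)
theorem F53369 : act 8 n13551 = n13551 := d35_2 D12532 D13551 (iv D13551) (iv D12532) F45306
def n13552 : Q := act 7 n12535
theorem D13552 : act 7 n12535 = n13552 := rfl
theorem F53370 : act 1 n13552 = n12573 := d13_1 D13552 (iv D12573) (iv F49275)
theorem F53371 : act 5 n13552 = n13552 := d31_1 D13552 (iv D13552) F49277
theorem F53372 : act 6 n13552 = n12536 := d33_1 D13552 (iv D12536) (iv F49278)
theorem F53373 : act 8 n13552 = n13552 := d35_2 D12535 D13552 (iv D13552) (iv D12535) F45318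
def n13553 : Q := act 3 n12536
theorem D13553 : act 3 n12536 = n13553 := rfl
theorem F53374 : act 1 n13553 = n12574 := d9_1 D13553 (iv D12574) (iv F49279)
theorem F53375 : act 5 n13553 = n12537 := d22_2 (iv F49280) D13553 (iv D12537)
theorem F53376 : act 7 n13553 = n12933 := d24_2 D12536 D13553 (iv D12933) (iv D11893) (iv F45320)
theorem F53377 : act 8 n13553 = n13553 := d25_2 F49281 D13553 (iv D13553)
def n13554 : Q := act 8 n12538
theorem D13554 : act 8 n12538 = n13554 := rfl
theorem F53378 : act 0 n13554 = n12579 := d7_1 D13554 (iv D12579) (iv F49287)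
theorem F53379 : act 2 n13554 = n12640 := d20_1 D13554 (iv D12640) (iv F49288)
theorem F53380 : act 3 n13554 = n12656 := d25_1 D13554 (iv D12656) (iv F49292)
theorem F53381 : act 4 n13554 = n12540 := d29_1 D13554 (iv D12540) (iv F49289)
theorem F53382 : act 5 n13554 = n13554 := d32_1 D13554 (iv D13554) F49290
theorem F53383 : act 6 n13554 = n12692 := d34_1 D13554 F50012 (iv F49291)
theorem F53384 : act 7 n13554 = n12647 := d35_1 D13554 (iv D12647) F45726 (iv F45331) D12538
def n13555 : Q := act 8 n12539
theorem D13555 : act 8 n12539 = n13555 := rfl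
theorem F53385 : act 0 n13555 = n12580 := d7_1 D13555 (iv D12580) (iv F49293)
theorem F53386 : act 2 n13555 = n12690 := d20_1 D13555 (iv D12690) (iv F49294)
theorem F53387 : act 3 n13555 = n12540 := d25_1 D13555 (iv D12540) D12539
theorem F53388 : act 4 n13555 = n12689 := d29_1 D13555 (iv D12689) (iv F49295)
theorem F53389 : act 5 n13555 = n12543 := d32_1 D13555 (iv D12543) (iv F49296)
theorem F53390 : act 6 n13555 = n12855 := d34_1 D13555 (iv D12855) (iv F49297)
def n13556 : Q := act 1 n12541
theorem D13556 : act 1 n12541 = n13556 := rfl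
theorem F53391 : act 0 n13556 = n12835 := d0_1 D13556 F50539 F46564 F45469 (iv F49304)
theorem F53392 : act 3 n13556 = n12641 := d9_2 (iv F49305) D13556 (iv D12641)
theorem F53393 : act 4 n13556 = n13208 := d10_2 F49309 D13556 F51977
theorem F53394 : act 5 n13556 = n12674 := d11_2 (iv F49306) D13556 F49930
theorem F53395 : act 6 n13556 = n12544 := d12_2 (iv F49307) D13556 (iv D12544)
theorem F53396 : act 7 n13556 = n12552 := d13_2 (iv F49308) D13556 (iv D12552)
def n13557 : Q := act 8 n12541
theorem D13557 : act 8 n12541 = n13557 := rfl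
theorem F53397 : act 0 n13557 = n12581 := d7_1 D13557 (iv D12581) (iv F49304)
theorem F53398 : act 2 n13557 = n12543 := d20_1 D13557 (iv D12543) D12541
theorem F53399 : act 3 n13557 = n12642 := d25_1 D13557 (iv D12642) (iv F49305)
theorem F53400 : act 4 n13557 = n13236 := d29_1 D13557 (iv D13236) F49309
theorem F53401 : act 5 n13557 = n12690 := d32_1 D13557 (iv D12690) (iv F49306)
theorem F53402 : act 6 n13557 = n12546 := d34_1 D13557 (iv D12546) (iv F49307)
def n13558 : Q := act 8 n12542
theorem D13558 : act 8 n12542 = n13558 := rfl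
theorem F53403 : act 0 n13558 = n12582 := d7_1 D13558 (iv D12582) (iv F49310)
theorem F53404 : act 2 n13558 = n13236 := d20_1 D13558 (iv D13236) (iv F49311)
theorem F53405 : act 3 n13558 = n13558 := d25_1 D13558 (iv D13558) F49312
theorem F53406 : act 4 n13558 = n12543 := d29_1 D13558 (iv D12543) D12542
theorem F53407 : act 5 n13558 = n13234 := d32_1 D13558 (iv D13234) (iv F49313)
theorem F53408 : act 6 n13558 = n12548 := d34_1 D13558 (iv D12548) (iv F49314)
def n13559 : Q := act 7 n12543
theorem D13559 : act 7 n12543 = n13559 := rfl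
theorem F53409 : act 0 n13559 = n12583 := d6_1 D13559 (iv D12583) (iv F49316)
theorem F53410 : act 3 n13559 = n12942 := d24_1 D13559 (iv D12942) F46775 (iv F45343) (iv F49317)
theorem F53411 : act 6 n13559 = n12549 := d33_1 D13559 (iv D12549) (iv F49318)
theorem F53412 : act 8 n13559 = n12557 := d35_2 D12543 D13559 (iv D12557) (iv D11541) (iv F45338)
def n13560 : Q := act 0 n12544
theorem D13560 : act 0 n12544 = n13560 := rfl
theorem F53413 : act 1 n13560 = n12584 := d0_2 D12544 D13560 (iv D12584) (iv D11567) (iv F45344)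
theorem F53414 : act 3 n13560 = n12644 := d2_2 (iv F49319) D13560 (iv D12644)
theorem F53415 : act 5 n13560 = n12937 := d4_2 (iv F49320) D13560 (iv D12937)
theorem F53416 : act 6 n13560 = n12835 := d5_2 F53395 D13560 (iv F53391)
theorem F53417 : act 7 n13560 = n12558 := d6_2 (iv F49321) D13560 (iv D12558)
theorem F53418 : act 4 n13268 = n13560 := d27_3 F53416 F50541 D13268
def n13561 : Q := act 4 n12544
theorem D13561 : act 4 n12544 = n13561 := rfl
theorem F53419 : act 0 n13561 = n13268 := d3_1 D13561 F53418 (iv D13560)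
theorem F53420 : act 1 n13561 = n12545 := d10_1 D13561 (iv D12545) D12544
theorem F53421 : act 3 n13561 = n13215 := d21_1 D13561 F52004 F49766 (iv D12645) (iv F49319)
theorem F53422 : act 6 n13561 = n13208 := d27_2 F53395 D13561 (iv F53393)
theorem F53423 : act 7 n13561 = n12559 := d28_2 (iv F49321) D13561 (iv D12559)
def n13562 : Q := act 8 n12544
theorem D13562 : act 8 n12544 = n13562 := rfl
theorem F53424 : act 1 n13562 = n12546 := d14_1 D13562 (iv D12546) D12544
theorem F53425 : act 3 n13562 = n12646 := d25_1 D13562 (iv D12646) (iv F49319)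
theorem F53426 : act 5 n13562 = n12939 := d32_1 D13562 (iv D12939) (iv F49320)
def n13563 : Q := act 5 n12545
theorem D13563 : act 5 n12545 = n13563 := rfl
theorem F53427 : act 0 n13563 = n12586 := d4_1 D13563 (iv D12586) (iv F49322)
theorem F53428 : act 2 n13563 = n12547 := d17_1 D13563 (iv D12547) (iv F49323)
theorem F53429 : act 3 n13563 = n13069 := d22_1 D13563 F51399 (iv F49324)
theorem F53430 : act 4 n13563 = n12940 := d26_1 D13563 (iv D12940) (iv D11900) (iv F45346) D12545
theorem F53431 : act 6 n13563 = n12976 := d30_2 (iv F49325) D13563 (iv D12976) F46909 D12233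
theorem F53432 : act 7 n13563 = n12561 := d31_2 (iv F49326) D13563 (iv D12561)
def n13564 : Q := act 8 n12545
theorem D13564 : act 8 n12545 = n13564 := rfl
theorem F53433 : act 0 n13564 = n12587 := d7_1 D13564 (iv D12587) (iv F49322)
theorem F53434 : act 2 n13564 = n12548 := d20_1 D13564 (iv D12548) (iv F49323)
theorem F53435 : act 3 n13564 = n13238 := d25_1 D13564 (iv D13238) (iv F49324)
theorem F53436 : act 4 n13564 = n12546 := d29_1 D13564 (iv D12546) D12545
theorem F53437 : act 6 n13564 = n13236 := d34_1 D13564 (iv D13236) (iv F49325)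
def n13565 : Q := act 7 n12546
theorem D13565 : act 7 n12546 = n13565 := rfl
theorem F53438 : act 0 n13565 = n12588 := d6_1 D13565 (iv D12588) (iv F49327)
theorem F53439 : act 2 n13565 = n12549 := d19_1 D13565 (iv D12549) (iv F49328)
theorem F53440 : act 5 n13565 = n12942 := d31_1 D13565 (iv D12942) (iv F49330)
theorem F53441 : act 8 n13565 = n12563 := d35_2 D12546 D13565 (iv D12563) (iv D11544) (iv F45347)
def n13566 : Q := act 6 n12547
theorem D13566 : act 6 n12547 = n13566 := rfl
theorem F53442 : act 0 n13566 = n12589 := d5_1 D13566 (iv D12589) (iv F49331)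
theorem F53443 : act 2 n13566 = n12976 := d18_1 D13566 (iv F53431) F53428
theorem F53444 : act 3 n13566 = n13566 := d23_1 D13566 (iv D13566) F49332
theorem F53445 : act 4 n13566 = n12943 := d27_1 D13566 (iv D12943) (iv F49333)
theorem F53446 : act 5 n13566 = n12809 := d30_1 D13566 F50455 (iv F49313) F49314 D12547
theorem F53447 : act 7 n13566 = n12564 := d33_2 (iv F49334) D13566 (iv D12564)
def n13567 : Q := act 8 n12547
theorem D13567 : act 8 n12547 = n13567 := rfl
theorem F53448 : act 0 n13567 = n12590 := d7_1 D13567 (iv D12590) (iv F49331)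
theorem F53449 : act 3 n13567 = n13567 := d25_1 D13567 (iv D13567) F49332
theorem F53450 : act 4 n13567 = n12944 := d29_1 D13567 (iv D12944) (iv F49333)
theorem F53451 : act 5 n13567 = n12548 := d32_1 D13567 (iv D12548) D12547
def n13568 : Q := act 7 n12548
theorem D13568 : act 7 n12548 = n13568 := rfl
theorem F53452 : act 0 n13568 = n12591 := d6_1 D13568 (iv D12591) (iv F49335)
theorem F53453 : act 4 n13568 = n12549 := d28_1 D13568 (iv D12549) (iv F49337)
theorem F53454 : act 8 n13568 = n12566 := d35_2 D12548 D13568 (iv D12566) (iv D11546) (iv F45350)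
def n13569 : Q := act 8 n12550
theorem D13569 : act 8 n12550 = n13569 := rfl
theorem F53455 : act 0 n13569 = n12592 := d7_1 D13569 (iv D12592) (iv F49342)
theorem F53456 : act 2 n13569 = n12685 := d20_1 D13569 (iv D12685) (iv F49343)
theorem F53457 : act 3 n13569 = n13569 := d25_1 D13569 (iv D13569) F49344
theorem F53458 : act 4 n13569 = n12551 := d29_1 D13569 (iv D12551) D12550
theorem F53459 : act 5 n13569 = n13229 := d32_1 D13569 (iv D13229) F49347
theorem F53460 : act 6 n13569 = n12861 := d34_1 D13569 (iv D12861) (iv F49345)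
def n13570 : Q := act 7 n12551
theorem D13570 : act 7 n12551 = n13570 := rfl
theorem F53461 : act 0 n13570 = n12593 := d6_1 D13570 (iv D12593) (iv F49348)
theorem F53462 : act 2 n13570 = n12857 := d19_1 D13570 (iv D12857) (iv F49349)
theorem F53463 : act 3 n13570 = n12563 := d24_1 D13570 (iv D12563) F45381 (iv F45363) (iv F49350)
theorem F53464 : act 5 n13570 = n12557 := d31_1 D13570 (iv D12557) (iv F49351)
theorem F53465 : act 6 n13570 = n12862 := d33_1 D13570 (iv D12862) (iv F49352)
def n13571 : Q := act 0 n12552
theorem D13571 : act 0 n12552 = n13571 := rfl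
theorem F53466 : act 1 n13571 = n12594 := d0_2 D12552 D13571 (iv D12594) (iv D11575) (iv F45364)
theorem F53467 : act 3 n13571 = n12576 := d2_2 (iv F49353) D13571 (iv D12576)
theorem F53468 : act 5 n13571 = n12671 := d4_2 (iv F49354) D13571 F49915
theorem F53469 : act 6 n13571 = n12558 := d5_2 (iv F49355) D13571 (iv D12558)
theorem F53470 : act 7 n13571 = n12835 := d6_2 F53396 D13571 (iv F53391)
theorem F53471 : act 4 n13261 = n13571 := d28_3 F53470 F50541 (iv F52159)
def n13572 : Q := act 4 n12552
theorem D13572 : act 4 n12552 = n13572 := rfl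
theorem F53472 : act 0 n13572 = n13261 := d3_1 D13572 F53471 (iv D13571)
theorem F53473 : act 1 n13572 = n12553 := d10_1 D13572 (iv D12553) D12552
theorem F53474 : act 3 n13572 = n13572 := d21_1 D13572 (iv D13572) F49353 F45433 (iv F49353)
theorem F53475 : act 5 n13572 = n13203 := d26_2 (iv F49354) D13572 (iv D13203) (iv F49906) F49905
theorem F53476 : act 6 n13572 = n12559 := d27_2 (iv F49355) D13572 (iv D12559)
theorem F53477 : act 7 n13572 = n13208 := d28_2 F53396 D13572 (iv F53393)
def n13573 : Q := act 8 n12552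
theorem D13573 : act 8 n12552 = n13573 := rfl
theorem F53478 : act 1 n13573 = n12554 := d14_1 D13573 (iv D12554) D12552
theorem F53479 : act 3 n13573 = n12577 := d25_1 D13573 (iv D12577) (iv F49353)
theorem F53480 : act 5 n13573 = n12831 := d32_1 D13573 (iv D12831) (iv F49354)
theorem F53481 : act 6 n13573 = n12560 := d34_1 D13573 (iv D12560) (iv F49355)
def n13574 : Q := act 8 n12553
theorem D13574 : act 8 n12553 = n13574 := rfl
theorem F53482 : act 0 n13574 = n12596 := d7_1 D13574 (iv D12596) (iv F49356)
theorem F53483 : act 2 n13574 = n12556 := d20_1 D13574 (iv D12556) (iv F49357)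
theorem F53484 : act 3 n13574 = n13574 := d25_1 D13574 (iv D13574) F49358
theorem F53485 : act 4 n13574 = n12554 := d29_1 D13574 (iv D12554) D12553
theorem F53486 : act 5 n13574 = n13230 := d32_1 D13574 (iv D13230) (iv F49359)
theorem F53487 : act 6 n13574 = n12562 := d34_1 D13574 (iv D12562) (iv F49360)
def n13575 : Q := act 7 n12554
theorem D13575 : act 7 n12554 = n13575 := rfl
theorem F53488 : act 0 n13575 = n12597 := d6_1 D13575 (iv D12597) (iv F49362)
theorem F53489 : act 2 n13575 = n12557 := d19_1 D13575 (iv D12557) (iv F49363)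
theorem F53490 : act 3 n13575 = n12862 := d24_1 D13575 (iv D12862) F46562 (iv F45442) (iv F49364)
theorem F53491 : act 5 n13575 = n12857 := d31_1 D13575 (iv D12857) (iv F49365)
theorem F53492 : act 6 n13575 = n12563 := d33_1 D13575 (iv D12563) (iv F49366)
def n13576 : Q := act 6 n12555
theorem D13576 : act 6 n12555 = n13576 := rfl
theorem F53493 : act 0 n13576 = n12598 := d5_1 D13576 (iv D12598) (iv F49367)
theorem F53494 : act 2 n13576 = n12966 := d18_1 D13576 F50999 (iv F49368)
theorem F53495 : act 3 n13576 = n12567 := d23_1 D13576 (iv D12567) (iv F49369)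
theorem F53496 : act 4 n13576 = n12797 := d27_1 D13576 F50411 (iv F49370)
theorem F53497 : act 5 n13576 = n12564 := d30_1 D13576 (iv D12564) (iv D11545) (iv F45370) D12555
theorem F53498 : act 7 n13576 = n12809 := d33_2 (iv F49371) D13576 F50455
def n13577 : Q := act 8 n12555
theorem D13577 : act 8 n12555 = n13577 := rfl
theorem F53499 : act 0 n13577 = n12599 := d7_1 D13577 (iv D12599) (iv F49367)
theorem F53500 : act 2 n13577 = n13230 := d20_1 D13577 (iv D13230) (iv F49368)
theorem F53501 : act 3 n13577 = n12568 := d25_1 D13577 (iv D12568) (iv F49369)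
theorem F53502 : act 4 n13577 = n13229 := d29_1 D13577 (iv D13229) (iv F49370)
theorem F53503 : act 5 n13577 = n12556 := d32_1 D13577 (iv D12556) D12555
def n13578 : Q := act 7 n12556
theorem D13578 : act 7 n12556 = n13578 := rfl
theorem F53504 : act 0 n13578 = n12600 := d6_1 D13578 (iv D12600) (iv F49372)
theorem F53505 : act 4 n13578 = n12557 := d28_1 D13578 (iv D12557) (iv F49374)
theorem F53506 : act 6 n13578 = n12566 := d33_1 D13578 (iv D12566) (iv F49375)
def n13579 : Q := act 4 n12558
theorem D13579 : act 4 n12558 = n13579 := rfl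
theorem F53507 : act 0 n13579 = n12559 := d3_1 D13579 (iv D12559) D12558
theorem F53508 : act 1 n13579 = n12601 := d10_1 D13579 (iv D12601) (iv F49379)
theorem F53509 : act 3 n13579 = n13579 := d21_1 D13579 (iv D13579) F49380 F45444 (iv F49380)
theorem F53510 : act 6 n13579 = n13261 := d27_2 F53469 D13579 F53471
theorem F53511 : act 7 n13579 = n13268 := d28_2 F53417 D13579 F53418
def n13580 : Q := act 8 n12558
theorem D13580 : act 8 n12558 = n13580 := rfl
theorem F53512 : act 0 n13580 = n12560 := d7_1 D13580 (iv D12560) D12558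
theorem F53513 : act 1 n13580 = n12602 := d14_1 D13580 (iv D12602) (iv F49379)
theorem F53514 : act 3 n13580 = n12578 := d25_1 D13580 (iv D12578) (iv F49380)
theorem F53515 : act 5 n13580 = n12950 := d32_1 D13580 (iv D12950) (iv F49381)
def n13581 : Q := act 5 n12559
theorem D13581 : act 5 n12559 = n13581 := rfl
theorem F53516 : act 1 n13581 = n12561 := d11_1 D13581 (iv D12561) (iv F49382)
theorem F53517 : act 3 n13581 = n13581 := d22_1 D13581 (iv D13581) F49383
theorem F53518 : act 4 n13581 = n12951 := d26_1 D13581 (iv D12951) (iv D11909) (iv F45375) D12559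
def n13582 : Q := act 8 n12559
theorem D13582 : act 8 n12559 = n13582 := rfl
theorem F53519 : act 1 n13582 = n12562 := d14_1 D13582 (iv D12562) (iv F49382)
theorem F53520 : act 3 n13582 = n13582 := d25_1 D13582 (iv D13582) F49383
theorem F53521 : act 4 n13582 = n12560 := d29_1 D13582 (iv D12560) D12559
def n13583 : Q := act 7 n12560
theorem D13583 : act 7 n12560 = n13583 := rfl
theorem F53522 : act 1 n13583 = n12563 := d13_1 D13583 (iv D12563) (iv F49384)
theorem F53523 : act 5 n13583 = n12953 := d31_1 D13583 (iv D12953) (iv F49386)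
def n13584 : Q := act 6 n12561
theorem D13584 : act 6 n12561 = n13584 := rfl
theorem F53524 : act 0 n13584 = n12606 := d5_1 D13584 (iv D12606) (iv F49387)
theorem F53525 : act 2 n13584 = n12564 := d18_1 D13584 (iv D12564) (iv F49388)
theorem F53526 : act 3 n13584 = n13584 := d23_1 D13584 (iv D13584) F49389
theorem F53527 : act 4 n13584 = n12954 := d27_1 D13584 (iv D12954) (iv F49390)
theorem F53528 : act 5 n13584 = n12966 := d30_1 D13584 F50999 (iv F49359) F49360 D12561
theorem F53529 : act 7 n13584 = n12976 := d33_2 F53432 D13584 (iv F53431)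
def n13585 : Q := act 8 n12561
theorem D13585 : act 8 n12561 = n13585 := rfl
theorem F53530 : act 0 n13585 = n12607 := d7_1 D13585 (iv D12607) (iv F49387)
theorem F53531 : act 2 n13585 = n12565 := d20_1 D13585 (iv D12565) (iv F49388)
theorem F53532 : act 3 n13585 = n13585 := d25_1 D13585 (iv D13585) F49389
theorem F53533 : act 4 n13585 = n12955 := d29_1 D13585 (iv D12955) (iv F49390)
theorem F53534 : act 5 n13585 = n12562 := d32_1 D13585 (iv D12562) D12561
def n13586 : Q := act 7 n12562
theorem D13586 : act 7 n12562 = n13586 := rfl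
theorem F53535 : act 0 n13586 = n12608 := d6_1 D13586 (iv D12608) (iv F49391)
theorem F53536 : act 2 n13586 = n12566 := d19_1 D13586 (iv D12566) (iv F49392)
theorem F53537 : act 4 n13586 = n12563 := d28_1 D13586 (iv D12563) (iv F49394)
def n13587 : Q := act 8 n12564
theorem D13587 : act 8 n12564 = n13587 := rfl
theorem F53538 : act 0 n13587 = n12609 := d7_1 D13587 (iv D12609) (iv F49398)
theorem F53539 : act 3 n13587 = n12570 := d25_1 D13587 (iv D12570) (iv F49399)
theorem F53540 : act 4 n13587 = n12957 := d29_1 D13587 (iv D12957) (iv F49400)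
theorem F53541 : act 6 n13587 = n12565 := d34_1 D13587 (iv D12565) D12564
def n13588 : Q := act 7 n12565
theorem D13588 : act 7 n12565 = n13588 := rfl
theorem F53542 : act 0 n13588 = n12610 := d6_1 D13588 (iv D12610) (iv F49401)
theorem F53543 : act 4 n13588 = n12958 := d28_1 D13588 (iv D12958) (iv F49403)
theorem F53544 : act 5 n13588 = n12566 := d31_1 D13588 (iv D12566) (iv F49404)
def n13589 : Q := act 3 n12566
theorem D13589 : act 3 n12566 = n13589 := rfl
theorem F53545 : act 0 n13589 = n12611 := d2_1 D13589 (iv D12611) (iv F49405)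
theorem F53546 : act 4 n13589 = n13298 := d21_2 (iv F49406) D13589 (iv D13298) F48254 (iv F45390)
theorem F53547 : act 7 n13589 = n12572 := d24_2 D12566 D13589 (iv D12572) (iv D11553) (iv F45387)
def n13590 : Q := act 8 n12567
theorem D13590 : act 8 n12567 = n13590 := rfl
theorem F53548 : act 0 n13590 = n12612 := d7_1 D13590 (iv D12612) (iv F49407)
theorem F53549 : act 2 n13590 = n13590 := d20_1 D13590 (iv D13590) F49408
theorem F53550 : act 4 n13590 = n13590 := d29_1 D13590 (iv D13590) F49409
theorem F53551 : act 5 n13590 = n12570 := d32_1 D13590 (iv D12570) (iv F49410)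
theorem F53552 : act 6 n13590 = n12568 := d34_1 D13590 (iv D12568) D12567
theorem F53553 : act 7 n13355 = n13590 := d6_0 F53548 (iv F49610) D13355
def n13591 : Q := act 7 n12568
theorem D13591 : act 7 n12568 = n13591 := rfl
theorem F53554 : act 0 n13591 = n12613 := d6_1 D13591 (iv D12613) (iv F49412)
theorem F53555 : act 2 n13591 = n13591 := d19_1 D13591 (iv D13591) F49413
theorem F53556 : act 4 n13591 = n13591 := d28_1 D13591 (iv D13591) F49414
theorem F53557 : act 5 n13591 = n12569 := d31_1 D13591 (iv D12569) (iv F49415)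
theorem F53558 : act 6 n13591 = n13355 := d33_1 D13591 F53553 F53552
theorem F53559 : act 8 n13591 = n13591 := d35_2 D12568 D13591 (iv D13591) (iv D12568) F45395
def n13592 : Q := act 3 n12569
theorem D13592 : act 3 n12569 = n13592 := rfl
theorem F53560 : act 0 n13592 = n12614 := d2_1 D13592 (iv D12614) (iv F49416)
theorem F53561 : act 4 n13592 = n13061 := d21_2 (iv F49418) D13592 (iv D13061) F47222 (iv F45402)
theorem F53562 : act 6 n13592 = n12572 := d23_2 (iv F49419) D13592 (iv D12572)
theorem F53563 : act 8 n13592 = n13592 := d25_2 F49420 D13592 (iv D13592)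
def n13593 : Q := act 7 n12570
theorem D13593 : act 7 n12570 = n13593 := rfl
theorem F53564 : act 0 n13593 = n12615 := d6_1 D13593 (iv D12615) (iv F49421)
theorem F53565 : act 2 n13593 = n13593 := d19_1 D13593 (iv D13593) F49422
theorem F53566 : act 4 n13593 = n12573 := d28_1 D13593 (iv D12573) (iv F49423)
theorem F53567 : act 5 n13593 = n13355 := d31_1 D13593 F53553 F53551
theorem F53568 : act 6 n13593 = n12571 := d33_1 D13593 (iv D12571) (iv F49424)
theorem F53569 : act 8 n13593 = n13593 := d35_2 D12570 D13593 (iv D13593) (iv D12570) F45409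
def n13594 : Q := act 3 n12571
theorem D13594 : act 3 n12571 = n13594 := rfl
theorem F53570 : act 0 n13594 = n12616 := d2_1 D13594 (iv D12616) (iv F49425)
theorem F53571 : act 5 n13594 = n12572 := d22_2 (iv F49428) D13594 (iv D12572)
theorem F53572 : act 8 n13594 = n13594 := d25_2 F49429 D13594 (iv D13594)
def n13595 : Q := act 2 n12572
theorem D13595 : act 2 n12572 = n13595 := rfl
theorem F53573 : act 0 n13595 = n12617 := d1_1 D13595 (iv D12617) (iv F49430)
theorem F53574 : act 3 n13595 = n13595 := d15_2 D12572 D13595 (iv D13595) (iv D12572) F45415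
theorem F53575 : act 4 n13595 = n13301 := d16_2 (iv F49431) D13595 (iv D13301)
theorem F53576 : act 8 n13595 = n13595 := d20_2 F49432 D13595 (iv D13595)
def n13596 : Q := act 8 n12576
theorem D13596 : act 8 n12576 = n13596 := rfl
theorem F53577 : act 0 n13596 = n12577 := d7_1 D13596 (iv D12577) D12576
theorem F53578 : act 1 n13596 = n12618 := d14_1 D13596 (iv D12618) (iv F49448)
theorem F53579 : act 2 n13596 = n13387 := d20_1 D13596 (iv D13387) (iv F49449)
theorem F53580 : act 4 n13596 = n13596 := d29_1 D13596 (iv D13596) F49450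
theorem F53581 : act 5 n13596 = n12672 := d32_1 D13596 (iv D12672) (iv F49451)
theorem F53582 : act 6 n13596 = n12578 := d34_1 D13596 (iv D12578) (iv F49452)
theorem F53583 : act 7 n13596 = n12723 := d35_1 D13596 (iv D12723) (iv D11714) (iv F45757) (iv F49453)
def n13597 : Q := act 7 n12580
theorem D13597 : act 7 n12580 = n13597 := rfl
theorem F53584 : act 2 n13597 = n12706 := d19_1 D13597 (iv D12706) (iv F49471)
theorem F53585 : act 3 n13597 = n12588 := d24_1 D13597 (iv D12588) F45489 (iv F45464) (iv F49472)
theorem F53586 : act 4 n13597 = n12705 := d28_1 D13597 (iv D12705) (iv F49473)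
theorem F53587 : act 5 n13597 = n12583 := d31_1 D13597 (iv D12583) (iv F49474)
theorem F53588 : act 6 n13597 = n12868 := d33_1 D13597 (iv D12868) (iv F49475)
theorem F53589 : act 8 n13597 = n12593 := d35_2 D12580 D13597 (iv D12593) (iv D11574) (iv F45460)
def n13598 : Q := act 7 n12581
theorem D13598 : act 7 n12581 = n13598 := rfl
theorem F53590 : act 1 n13598 = n12871 := d13_1 D13598 (iv D12871) (iv F49476)
theorem F53591 : act 2 n13598 = n12583 := d19_1 D13598 (iv D12583) (iv F49477)
theorem F53592 : act 3 n13598 = n12868 := d24_1 D13598 (iv D12868) F46596 (iv F45769) (iv F49478)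
theorem F53593 : act 4 n13598 = n13250 := d28_1 D13598 (iv D13250) (iv F49479)
theorem F53594 : act 5 n13598 = n12706 := d31_1 D13598 (iv D12706) (iv F49480)
theorem F53595 : act 6 n13598 = n12588 := d33_1 D13598 (iv D12588) (iv F49481)
theorem F53596 : act 8 n13598 = n12597 := d35_2 D12581 D13598 (iv D12597) (iv D11577) (iv F45468)
def n13599 : Q := act 7 n12582
theorem D13599 : act 7 n12582 = n13599 := rfl
theorem F53597 : act 2 n13599 = n13250 := d19_1 D13599 (iv D13250) (iv F49482)
theorem F53598 : act 4 n13599 = n12583 := d28_1 D13599 (iv D12583) (iv F49484)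
theorem F53599 : act 5 n13599 = n13248 := d31_1 D13599 (iv D13248) (iv F49485)
theorem F53600 : act 6 n13599 = n12591 := d33_1 D13599 (iv D12591) (iv F49486)
theorem F53601 : act 8 n13599 = n12600 := d35_2 D12582 D13599 (iv D12600) (iv D11579) (iv F45475)
def n13600 : Q := act 8 n12584
theorem D13600 : act 8 n12584 = n13600 := rfl
theorem F53602 : act 0 n13600 = n12585 := d7_1 D13600 (iv D12585) D12584
theorem F53603 : act 3 n13600 = n12648 := d25_1 D13600 (iv D12648) (iv F49490)
theorem F53604 : act 4 n13600 = n13296 := d29_1 D13600 (iv D13296) (iv F49491)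
theorem F53605 : act 5 n13600 = n12967 := d32_1 D13600 (iv D12967) (iv F49492)
theorem F53606 : act 6 n13600 = n12863 := d34_1 D13600 (iv D12863) (iv F49493)
def n13601 : Q := act 7 n12585
theorem D13601 : act 7 n12585 = n13601 := rfl
theorem F53607 : act 1 n13601 = n12588 := d13_1 D13601 (iv D12588) (iv F49495)
theorem F53608 : act 4 n13601 = n13308 := d28_1 D13601 (iv D13308) (iv F49497)
theorem F53609 : act 5 n13601 = n12969 := d31_1 D13601 (iv D12969) (iv F49498)
theorem F53610 : act 6 n13601 = n12871 := d33_1 D13601 (iv D12871) (iv F49499)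
theorem F53611 : act 8 n13601 = n12605 := d35_2 D12585 D13601 (iv D12605) (iv D11583) (iv F45481)
def n13602 : Q := act 8 n12586
theorem D13602 : act 8 n12586 = n13602 := rfl
theorem F53612 : act 1 n13602 = n12981 := d14_1 D13602 (iv D12981) (iv F49500)
theorem F53613 : act 2 n13602 = n12590 := d20_1 D13602 (iv D12590) (iv F49501)
theorem F53614 : act 3 n13602 = n13072 := d25_1 D13602 (iv D13072) (iv F49502)
theorem F53615 : act 4 n13602 = n12970 := d29_1 D13602 (iv D12970) (iv F49503)
theorem F53616 : act 5 n13602 = n12587 := d32_1 D13602 (iv D12587) D12586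
theorem F53617 : act 6 n13602 = n12979 := d34_1 D13602 (iv D12979) (iv F49504)
def n13603 : Q := act 7 n12587
theorem D13603 : act 7 n12587 = n13603 := rfl
theorem F53618 : act 1 n13603 = n13308 := d13_1 D13603 (iv D13308) (iv F49506)
theorem F53619 : act 2 n13603 = n12591 := d19_1 D13603 (iv D12591) (iv F49507)
theorem F53620 : act 4 n13603 = n12588 := d28_1 D13603 (iv D12588) (iv F49509)
theorem F53621 : act 6 n13603 = n13250 := d33_1 D13603 (iv D13250) (iv F49510)
theorem F53622 : act 8 n13603 = n12608 := d35_2 D12587 D13603 (iv D12608) (iv D11585) (iv F45487)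
def n13604 : Q := act 8 n12589
theorem D13604 : act 8 n12589 = n13604 := rfl
theorem F53623 : act 1 n13604 = n12813 := d14_1 D13604 (iv D12813) (iv F49514)
theorem F53624 : act 2 n13604 = n12979 := d20_1 D13604 (iv D12979) (iv F49515)
theorem F53625 : act 3 n13604 = n13604 := d25_1 D13604 (iv D13604) F49516
theorem F53626 : act 4 n13604 = n12972 := d29_1 D13604 (iv D12972) (iv F49517)
theorem F53627 : act 5 n13604 = n12811 := d32_1 D13604 (iv D12811) (iv F49518)
theorem F53628 : act 6 n13604 = n12590 := d34_1 D13604 (iv D12590) D12589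
def n13605 : Q := act 7 n12590
theorem D13605 : act 7 n12590 = n13605 := rfl
theorem F53629 : act 4 n13605 = n12973 := d28_1 D13605 (iv D12973) (iv F49521)
theorem F53630 : act 5 n13605 = n12591 := d31_1 D13605 (iv D12591) (iv F49522)
theorem F53631 : act 8 n13605 = n12610 := d35_2 D12590 D13605 (iv D12610) (iv D11588) (iv F45493)
def n13606 : Q := act 3 n12591
theorem D13606 : act 3 n12591 = n13606 := rfl
theorem F53632 : act 4 n13606 = n13307 := d21_2 (iv F49523) D13606 (iv D13307) F48280 (iv F45496)
theorem F53633 : act 7 n13606 = n13606 := d24_2 D12591 D13606 (iv D13606) (iv D12591) F45494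
theorem F53634 : act 8 n13606 = n12611 := d25_2 (iv F49524) D13606 (iv D12611)
def n13607 : Q := act 7 n12592
theorem D13607 : act 7 n12592 = n13607 := rfl
theorem F53635 : act 2 n13607 = n12700 := d19_1 D13607 (iv D12700) (iv F49525)
theorem F53636 : act 4 n13607 = n12593 := d28_1 D13607 (iv D12593) (iv F49527)
theorem F53637 : act 5 n13607 = n13246 := d31_1 D13607 (iv D13246) (iv F49528)
theorem F53638 : act 6 n13607 = n12870 := d33_1 D13607 (iv D12870) (iv F49529)
theorem F53639 : act 8 n13607 = n12705 := d35_2 D12592 D13607 (iv D12705) (iv D11696) (iv F45502)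
def n13608 : Q := act 8 n12594
theorem D13608 : act 8 n12594 = n13608 := rfl
theorem F53640 : act 0 n13608 = n12595 := d7_1 D13608 (iv D12595) D12594
theorem F53641 : act 3 n13608 = n12618 := d25_1 D13608 (iv D12618) (iv F49534)
theorem F53642 : act 4 n13608 = n13294 := d29_1 D13608 (iv D13294) (iv F49535)
theorem F53643 : act 5 n13608 = n12687 := d32_1 D13608 (iv D12687) (iv F49536)
theorem F53644 : act 6 n13608 = n12602 := d34_1 D13608 (iv D12602) (iv F49537)
def n13609 : Q := act 7 n12595
theorem D13609 : act 7 n12595 = n13609 := rfl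
theorem F53645 : act 1 n13609 = n12597 := d13_1 D13609 (iv D12597) (iv F49539)
theorem F53646 : act 3 n13609 = n12804 := d24_1 D13609 (iv D12804) F46359 (iv F45600) (iv F49540)
theorem F53647 : act 4 n13609 = n13306 := d28_1 D13609 (iv D13306) (iv F49541)
theorem F53648 : act 5 n13609 = n12702 := d31_1 D13609 (iv D12702) (iv F49542)
theorem F53649 : act 6 n13609 = n12605 := d33_1 D13609 (iv D12605) (iv F49543)
theorem F53650 : act 8 n13609 = n12871 := d35_2 D12595 D13609 (iv D12871) (iv D11848) (iv F45511)
def n13610 : Q := act 7 n12596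
theorem D13610 : act 7 n12596 = n13610 := rfl
theorem F53651 : act 1 n13610 = n13306 := d13_1 D13610 (iv D13306) (iv F49544)
theorem F53652 : act 2 n13610 = n12600 := d19_1 D13610 (iv D12600) (iv F49545)
theorem F53653 : act 4 n13610 = n12597 := d28_1 D13610 (iv D12597) (iv F49547)
theorem F53654 : act 5 n13610 = n13247 := d31_1 D13610 (iv D13247) (iv F49548)
theorem F53655 : act 6 n13610 = n12608 := d33_1 D13610 (iv D12608) (iv F49549)
theorem F53656 : act 8 n13610 = n13250 := d35_2 D12596 D13610 (iv D13250) (iv D12249) (iv F45518)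
def n13611 : Q := act 8 n12598
theorem D13611 : act 8 n12598 = n13611 := rfl
theorem F53657 : act 1 n13611 = n12799 := d14_1 D13611 (iv D12799) (iv F49554)
theorem F53658 : act 2 n13611 = n12968 := d20_1 D13611 (iv D12968) (iv F49555)
theorem F53659 : act 3 n13611 = n12612 := d25_1 D13611 (iv D12612) (iv F49556)
theorem F53660 : act 4 n13611 = n12798 := d29_1 D13611 (iv D12798) (iv F49557)
theorem F53661 : act 5 n13611 = n12609 := d32_1 D13611 (iv D12609) (iv F49558)
theorem F53662 : act 6 n13611 = n12599 := d34_1 D13611 (iv D12599) D12598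
def n13612 : Q := act 7 n12599
theorem D13612 : act 7 n12599 = n13612 := rfl
theorem F53663 : act 1 n13612 = n12986 := d13_1 D13612 F51053 (iv F49560)
theorem F53664 : act 2 n13612 = n13247 := d19_1 D13612 (iv D13247) (iv F49561)
theorem F53665 : act 4 n13612 = n13246 := d28_1 D13612 (iv D13246) (iv F49563)
theorem F53666 : act 5 n13612 = n12600 := d31_1 D13612 (iv D12600) (iv F49564)
theorem F53667 : act 8 n13612 = n13248 := d35_2 D12599 D13612 (iv D13248) (iv D12247) (iv F45527)
def n13613 : Q := act 3 n12600
theorem D13613 : act 3 n12600 = n13613 := rfl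
theorem F53668 : act 4 n13613 = n12983 := d21_2 (iv F49565) D13613 (iv D12983) F46928 (iv F45531)
theorem F53669 : act 6 n13613 = n12611 := d23_2 (iv F49566) D13613 (iv D12611)
theorem F53670 : act 7 n13613 = n12614 := d24_2 D12600 D13613 (iv D12614) (iv D11592) (iv F45528)
def n13614 : Q := act 5 n12601
theorem D13614 : act 5 n12601 = n13614 := rfl
theorem F53671 : act 0 n13614 = n12603 := d4_1 D13614 (iv D12603) (iv F49567)
theorem F53672 : act 2 n13614 = n12943 := d17_1 D13614 F53073 F53069
theorem F53673 : act 3 n13614 = n13614 := d22_1 D13614 (iv D13614) F49568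
theorem F53674 : act 4 n13614 = n12976 := d26_1 D13614 (iv D12976) (iv D11941) (iv F45534) D12601
theorem F53675 : act 6 n13614 = n12940 := d30_2 (iv F49569) D13614 (iv D12940) F46771 D12285
theorem F53676 : act 7 n13614 = n12954 := d31_2 (iv F49570) D13614 F50953
def n13615 : Q := act 8 n12601
theorem D13615 : act 8 n12601 = n13615 := rfl
theorem F53677 : act 0 n13615 = n12604 := d7_1 D13615 (iv D12604) (iv F49567)
theorem F53678 : act 3 n13615 = n13615 := d25_1 D13615 (iv D13615) F49568
theorem F53679 : act 4 n13615 = n12602 := d29_1 D13615 (iv D12602) D12601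
theorem F53680 : act 6 n13615 = n13294 := d34_1 D13615 (iv D13294) (iv F49569)
def n13616 : Q := act 7 n12602
theorem D13616 : act 7 n12602 = n13616 := rfl
theorem F53681 : act 0 n13616 = n12605 := d6_1 D13616 (iv D12605) (iv F49571)
theorem F53682 : act 5 n13616 = n12978 := d31_1 D13616 (iv D12978) (iv F49573)
def n13617 : Q := act 8 n12603
theorem D13617 : act 8 n12603 = n13617 := rfl
theorem F53683 : act 1 n13617 = n12607 := d14_1 D13617 (iv D12607) (iv F49574)
theorem F53684 : act 2 n13617 = n12972 := d20_1 D13617 (iv D12972) (iv F49575)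
theorem F53685 : act 3 n13617 = n13617 := d25_1 D13617 (iv D13617) F49576
theorem F53686 : act 4 n13617 = n12979 := d29_1 D13617 (iv D12979) (iv F49577)
theorem F53687 : act 5 n13617 = n12604 := d32_1 D13617 (iv D12604) D12603
theorem F53688 : act 6 n13617 = n12970 := d34_1 D13617 (iv D12970) (iv F49578)
def n13618 : Q := act 7 n12604
theorem D13618 : act 7 n12604 = n13618 := rfl
theorem F53689 : act 1 n13618 = n12608 := d13_1 D13618 (iv D12608) (iv F49580)
theorem F53690 : act 4 n13618 = n12605 := d28_1 D13618 (iv D12605) (iv F49582)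
theorem F53691 : act 6 n13618 = n13306 := d33_1 D13618 (iv D13306) (iv F49583)
theorem F53692 : act 8 n13618 = n13308 := d35_2 D12604 D13618 (iv D13308) (iv D12299) (iv F45538)
def n13619 : Q := act 8 n12606
theorem D13619 : act 8 n12606 = n13619 := rfl
theorem F53693 : act 1 n13619 = n12970 := d14_1 D13619 (iv D12970) (iv F49586)
theorem F53694 : act 2 n13619 = n12609 := d20_1 D13619 (iv D12609) (iv F49587)
theorem F53695 : act 3 n13619 = n13619 := d25_1 D13619 (iv D13619) F49588
theorem F53696 : act 4 n13619 = n12981 := d29_1 D13619 (iv D12981) (iv F49589)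
theorem F53697 : act 5 n13619 = n12968 := d32_1 D13619 (iv D12968) (iv F49590)
theorem F53698 : act 6 n13619 = n12607 := d34_1 D13619 (iv D12607) D12606
def n13620 : Q := act 7 n12607
theorem D13620 : act 7 n12607 = n13620 := rfl
theorem F53699 : act 2 n13620 = n12610 := d19_1 D13620 (iv D12610) (iv F49592)
theorem F53700 : act 4 n13620 = n12982 := d28_1 D13620 (iv D12982) (iv F49594)
theorem F53701 : act 5 n13620 = n12608 := d31_1 D13620 (iv D12608) (iv F49595)
def n13621 : Q := act 3 n12608
theorem D13621 : act 3 n12608 = n13621 := rfl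
theorem F53702 : act 7 n13621 = n13621 := d24_2 D12608 D13621 (iv D13621) (iv D12608) F45546
def n13622 : Q := act 7 n12609
theorem D13622 : act 7 n12609 = n13622 := rfl
theorem F53703 : act 4 n13622 = n12984 := d28_1 D13622 (iv D12984) (iv F49599)
theorem F53704 : act 6 n13622 = n12610 := d33_1 D13622 (iv D12610) (iv F49600)
def n13623 : Q := act 3 n12610
theorem D13623 : act 3 n12610 = n13623 := rfl
theorem F53705 : act 5 n13623 = n12611 := d22_2 (iv F49602) D13623 (iv D12611)
theorem F53706 : act 7 n13623 = n12616 := d24_2 D12610 D13623 (iv D12616) (iv D11594) (iv F45552)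
def n13624 : Q := act 2 n12611
theorem D13624 : act 2 n12611 = n13624 := rfl
theorem F53707 : act 4 n13624 = n13310 := d16_2 (iv F49603) D13624 (iv D13310)
theorem F53708 : act 7 n13624 = n12617 := d19_2 (iv F49604) D13624 (iv D12617)
def n13625 : Q := act 3 n12613
theorem D13625 : act 3 n12613 = n13625 := rfl
theorem F53709 : act 1 n13625 = n13077 := d9_1 D13625 F51430 (iv F49611)
theorem F53710 : act 5 n13625 = n12614 := d22_2 (iv F49614) D13625 (iv D12614)
theorem F53711 : act 6 n13625 = n13314 := d23_2 (iv F49615) D13625 F52328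
theorem F53712 : act 8 n13625 = n13625 := d25_2 F49616 D13625 (iv D13625)
def n13626 : Q := act 2 n12614
theorem D13626 : act 2 n12614 = n13626 := rfl
theorem F53713 : act 3 n13626 = n13626 := d15_2 D12614 D13626 (iv D13626) (iv D12614) F45565
theorem F53714 : act 4 n13626 = n13077 := d16_2 (iv F49617) D13626 (iv D13077)
theorem F53715 : act 6 n13626 = n12617 := d18_2 (iv F49618) D13626 (iv D12617)
theorem F53716 : act 8 n13626 = n13626 := d20_2 F49619 D13626 (iv D13626)
def n13627 : Q := act 2 n12616
theorem D13627 : act 2 n12616 = n13627 := rfl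
theorem F53717 : act 3 n13627 = n13627 := d15_2 D12616 D13627 (iv D13627) (iv D12616) F45572
theorem F53718 : act 4 n13627 = n12824 := d16_2 F53140 D13627 (iv F53139)
theorem F53719 : act 5 n13627 = n12617 := d17_2 (iv F49626) D13627 (iv D12617)
theorem F53720 : act 6 n13627 = n13255 := d18_2 F53156 D13627 (iv F53154)
theorem F53721 : act 8 n13627 = n13627 := d20_2 F49627 D13627 (iv D13627)
theorem F53722 : act 1 n12825 = n13627 := d10_3 F53718 F50509 D12825
def n13628 : Q := act 1 n12617
theorem D13628 : act 1 n12617 = n13628 := rfl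
theorem F53723 : act 3 n13628 = n13628 := d9_2 F49628 D13628 (iv D13628)
theorem F53724 : act 4 n13628 = n13314 := d10_2 (iv F49629) D13628 (iv D13314)
theorem F53725 : act 5 n13628 = n12825 := d11_2 F53719 D13628 F53722
theorem F53726 : act 8 n13628 = n13628 := d14_2 F49630 D13628 (iv D13628)
def n13629 : Q := act 3 n12620
theorem D13629 : act 3 n12620 = n13629 := rfl
theorem F53727 : act 0 n13629 = n13629 := d2_1 D13629 (iv D13629) F49642
theorem F53728 : act 2 n13629 = n12988 := d15_1 D13629 (iv D12988) F46952 (iv F45634) (iv F49643)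
theorem F53729 : act 5 n13629 = n12621 := d22_2 (iv F49644) D13629 (iv D12621)
theorem F53730 : act 6 n13629 = n12990 := d23_2 (iv F49645) D13629 F51069
def n13630 : Q := act 8 n12620
theorem D13630 : act 8 n12620 = n13630 := rfl
theorem F53731 : act 0 n13630 = n13630 := d7_1 D13630 (iv D13630) F49642
theorem F53732 : act 2 n13630 = n12627 := d20_1 D13630 (iv D12627) (iv F49643)
theorem F53733 : act 5 n13630 = n12622 := d32_1 D13630 (iv D12622) (iv F49644)
theorem F53734 : act 6 n13630 = n12993 := d34_1 D13630 (iv D12993) (iv F49645)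
theorem F53735 : act 7 n13630 = n12633 := d35_1 D13630 (iv D12633) F45649 (iv F45614) D12620
def n13631 : Q := act 2 n12621
theorem D13631 : act 2 n12621 = n13631 := rfl
theorem F53736 : act 0 n13631 = n13631 := d1_1 D13631 (iv D13631) F49646
theorem F53737 : act 3 n13631 = n12628 := d15_2 D12621 D13631 (iv D12628) (iv D11609) (iv F45616)
theorem F53738 : act 5 n13631 = n12988 := d17_2 F53729 D13631 (iv F53728)
theorem F53739 : act 6 n13631 = n12623 := d18_2 (iv F49647) D13631 (iv D12623)
theorem F53740 : act 7 n13631 = n13629 := d19_2 F51062 D13631 F53728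
def n13632 : Q := act 4 n12621
theorem D13632 : act 4 n12621 = n13632 := rfl
theorem F53741 : act 0 n13632 = n13632 := d3_1 D13632 (iv D13632) F49646
theorem F53742 : act 3 n13632 = n13632 := d21_1 D13632 (iv D13632) (iv D12621) F45617 D12621
theorem F53743 : act 6 n13632 = n12624 := d27_2 (iv F49647) D13632 (iv D12624)
def n13633 : Q := act 8 n12621
theorem D13633 : act 8 n12621 = n13633 := rfl
theorem F53744 : act 0 n13633 = n13633 := d7_1 D13633 (iv D13633) F49646
theorem F53745 : act 3 n13633 = n12622 := d25_1 D13633 (iv D12622) D12621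
theorem F53746 : act 6 n13633 = n12625 := d34_1 D13633 (iv D12625) (iv F49647)
def n13634 : Q := act 1 n12623
theorem D13634 : act 1 n12623 = n13634 := rfl
theorem F53747 : act 3 n13634 = n12631 := d9_2 (iv F49654) D13634 (iv D12631)
theorem F53748 : act 5 n13634 = n12997 := d11_2 (iv F49655) D13634 (iv D12997)
def n13635 : Q := act 4 n12623
theorem D13635 : act 4 n12623 = n13635 := rfl
theorem F53749 : act 0 n13635 = n13635 := d3_1 D13635 (iv D13635) F49653
theorem F53750 : act 2 n13635 = n12624 := d16_1 D13635 (iv D12624) D12623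
theorem F53751 : act 7 n13635 = n13192 := d28_2 F51071 D13635 F51918
theorem F53752 : act 3 n13188 = n13635 := d24_5 F53751 (iv D13192) (iv D12187) (iv F47882) D13188
theorem F53753 : act 5 n13190 = n13635 := d31_3 F53751 F51919 (iv F51911)
def n13636 : Q := act 8 n12623
theorem D13636 : act 8 n12623 = n13636 := rfl
theorem F53754 : act 0 n13636 = n13636 := d7_1 D13636 (iv D13636) F49653
theorem F53755 : act 2 n13636 = n12625 := d20_1 D13636 (iv D12625) D12623
theorem F53756 : act 3 n13636 = n12633 := d25_1 D13636 (iv D12633) (iv F49654)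
theorem F53757 : act 5 n13636 = n12999 := d32_1 D13636 (iv D12999) (iv F49655)
def n13637 : Q := act 5 n12624
theorem D13637 : act 5 n12624 = n13637 := rfl
theorem F53758 : act 0 n13637 = n13637 := d4_1 D13637 (iv D13637) F49656
theorem F53759 : act 2 n13637 = n13190 := d17_1 D13637 F53753 F53750
theorem F53760 : act 3 n13637 = n13637 := d22_1 D13637 (iv D13637) F49657
theorem F53761 : act 4 n13637 = n13000 := d26_1 D13637 (iv D13000) (iv D11969) (iv F45620) D12624
theorem F53762 : act 7 n13637 = n13193 := d31_2 F51074 D13637 F51922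
def n13638 : Q := act 8 n12624
theorem D13638 : act 8 n12624 = n13638 := rfl
theorem F53763 : act 0 n13638 = n13638 := d7_1 D13638 (iv D13638) F49656
theorem F53764 : act 3 n13638 = n13638 := d25_1 D13638 (iv D13638) F49657
theorem F53765 : act 4 n13638 = n12625 := d29_1 D13638 (iv D12625) D12624
def n13639 : Q := act 7 n12625
theorem D13639 : act 7 n12625 = n13639 := rfl
theorem F53766 : act 0 n13639 = n13639 := d6_1 D13639 (iv D13639) F49658
theorem F53767 : act 3 n13639 = n13318 := d24_1 D13639 (iv D13318) F48308 (iv F45625) (iv F49659)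
theorem F53768 : act 5 n13639 = n13002 := d31_1 D13639 (iv D13002) (iv F49660)
def n13640 : Q := act 8 n12626
theorem D13640 : act 8 n12626 = n13640 := rfl
theorem F53769 : act 0 n13640 = n13640 := d7_1 D13640 (iv D13640) F49661
theorem F53770 : act 1 n13640 = n12640 := d14_1 D13640 (iv D12640) (iv F49662)
theorem F53771 : act 3 n13640 = n12649 := d25_1 D13640 (iv D12649) (iv F49663)
theorem F53772 : act 4 n13640 = n12627 := d29_1 D13640 (iv D12627) (iv F49664)
theorem F53773 : act 5 n13640 = n13640 := d32_1 D13640 (iv D13640) F49665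
theorem F53774 : act 6 n13640 = n12994 := d34_1 D13640 (iv D12994) (iv F49666)
theorem F53775 : act 7 n13640 = n12634 := d35_1 D13640 (iv D12634) F45654 (iv F45631) D12626
def n13641 : Q := act 1 n12628
theorem D13641 : act 1 n12628 = n13641 := rfl
theorem F53776 : act 2 n13641 = n12641 := d8_2 D12628 D13641 (iv D12641) (iv D11623) (iv F45638)
theorem F53777 : act 5 n13641 = n12676 := d11_2 (iv F49674) D13641 F49939
theorem F53778 : act 6 n13641 = n12631 := d12_2 (iv F49675) D13641 (iv D12631)
theorem F53779 : act 7 n13641 = n12635 := d13_2 (iv F49676) D13641 (iv D12635)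
theorem F53780 : act 0 n13641 = n12840 := d37_6 D11608 F45635 F39650 D11609 D12628 D13641 F50560 (iv D12096) (iv D10890) F34914 (iv D9215) F25771 F19104 (iv F17864) F17863 D4565 F17869 F16426 F12443 (iv F16656) F16659 D5804 (iv F30306) (iv F38586) (iv F40748) (iv F46684) (iv F50175) F50178 (iv D12065) (iv D10785) (iv D9137) F25565 F25564 F18945 (iv D3570) F10506 (iv F14096) (iv F18988) F18987 F18986 (iv F19255) D6788 (iv F44850) (iv F41793) D12056 (iv F47743) (iv D12153) F42954 F35393 F44577 F39108 (iv D8246) (iv F31411) F31410 (iv F31527) (iv D8269) D8268 F31524 (iv F39429) F39428 (iv F39644) F39643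
theorem F53781 : act 4 n12680 = n13641 := d3_0 F53780 F50559 (iv F49959)
def n13642 : Q := act 4 n12628
theorem D13642 : act 4 n12628 = n13642 := rfl
theorem F53782 : act 0 n13642 = n13642 := d3_1 D13642 (iv D13642) F49673
theorem F53783 : act 1 n13642 = n12680 := d10_1 D13642 F53781 (iv D13641)
theorem F53784 : act 2 n13642 = n12629 := d16_1 D13642 (iv D12629) D12628
theorem F53785 : act 5 n13642 = n12650 := d26_2 (iv F49674) D13642 (iv D12650) F45809 (iv F46953)
theorem F53786 : act 6 n13642 = n12632 := d27_2 (iv F49675) D13642 (iv D12632)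
theorem F53787 : act 7 n13642 = n12636 := d28_2 (iv F49676) D13642 (iv D12636)
def n13643 : Q := act 8 n12628
theorem D13643 : act 8 n12628 = n13643 := rfl
theorem F53788 : act 0 n13643 = n13643 := d7_1 D13643 (iv D13643) F49673
theorem F53789 : act 2 n13643 = n12630 := d20_1 D13643 (iv D12630) D12628
theorem F53790 : act 5 n13643 = n12989 := d32_1 D13643 (iv D12989) (iv F49674)
theorem F53791 : act 6 n13643 = n12633 := d34_1 D13643 (iv D12633) (iv F49675)
theorem F53792 : act 7 n13643 = n12993 := d35_1 D13643 (iv D12993) F46970 (iv F45663) (iv F49676)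
def n13644 : Q := act 8 n12629
theorem D13644 : act 8 n12629 = n13644 := rfl
theorem F53793 : act 0 n13644 = n13644 := d7_1 D13644 (iv D13644) F49677
theorem F53794 : act 1 n13644 = n12643 := d14_1 D13644 (iv D12643) (iv F49678)
theorem F53795 : act 3 n13644 = n13644 := d25_1 D13644 (iv D13644) F49679
theorem F53796 : act 4 n13644 = n12630 := d29_1 D13644 (iv D12630) D12629
theorem F53797 : act 5 n13644 = n12652 := d32_1 D13644 (iv D12652) (iv F49680)
theorem F53798 : act 6 n13644 = n12634 := d34_1 D13644 (iv D12634) (iv F49681)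
theorem F53799 : act 7 n13644 = n12994 := d35_1 D13644 (iv D12994) F46975 (iv F45669) (iv F49682)
def n13645 : Q := act 0 n12631
theorem D13645 : act 0 n12631 = n13645 := rfl
theorem F53800 : act 1 n13645 = n13645 := d0_2 D12631 D13645 (iv D13645) (iv D12631) F45647
theorem F53801 : act 2 n13645 = n12644 := d1_2 (iv F49689) D13645 (iv D12644)
theorem F53802 : act 5 n13645 = n13003 := d4_2 (iv F49690) D13645 (iv D13003)
theorem F53803 : act 6 n13645 = n12840 := d5_2 F53778 D13645 (iv F53780)
theorem F53804 : act 7 n13645 = n12637 := d6_2 (iv F49691) D13645 (iv D12637)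
theorem F53805 : act 4 n12847 = n13645 := d28_3 F53804 (iv F49721) (iv F50591)
def n13646 : Q := act 4 n12631
theorem D13646 : act 4 n12631 = n13646 := rfl
theorem F53806 : act 0 n13646 = n12847 := d3_1 D13646 F53805 (iv D13645)
theorem F53807 : act 1 n13646 = n12632 := d10_1 D13646 (iv D12632) D12631
theorem F53808 : act 2 n13646 = n12645 := d16_1 D13646 (iv D12645) (iv F49689)
theorem F53809 : act 5 n13646 = n13646 := d26_2 (iv F49690) D13646 (iv D13646) F49690 F47003
theorem F53810 : act 6 n13646 = n12680 := d27_2 F53778 D13646 F53781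
theorem F53811 : act 7 n13646 = n12638 := d28_2 (iv F49691) D13646 (iv D12638)
def n13647 : Q := act 8 n12631
theorem D13647 : act 8 n12631 = n13647 := rfl
theorem F53812 : act 1 n13647 = n12633 := d14_1 D13647 (iv D12633) D12631
theorem F53813 : act 2 n13647 = n12646 := d20_1 D13647 (iv D12646) (iv F49689)
theorem F53814 : act 5 n13647 = n13004 := d32_1 D13647 (iv D13004) (iv F49690)
def n13648 : Q := act 3 n12632
theorem D13648 : act 3 n12632 = n13648 := rfl
theorem F53815 : act 0 n13648 = n13648 := d2_1 D13648 (iv D13648) F49692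
theorem F53816 : act 2 n13648 = n13648 := d15_1 D13648 (iv D13648) F49693 F45652 (iv F49693)
theorem F53817 : act 4 n13648 = n13188 := d21_2 D12632 D13648 F53752 (iv D13635) F49654
theorem F53818 : act 5 n13648 = n13648 := d22_2 F49694 D13648 (iv D13648)
theorem F53819 : act 7 n13648 = n13185 := d24_2 (iv F49695) D13648 F51889 F49731 (iv D12639)
def n13649 : Q := act 8 n12632
theorem D13649 : act 8 n12632 = n13649 := rfl
theorem F53820 : act 0 n13649 = n13649 := d7_1 D13649 (iv D13649) F49692
theorem F53821 : act 2 n13649 = n12634 := d20_1 D13649 (iv D12634) (iv F49693)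
theorem F53822 : act 4 n13649 = n12633 := d29_1 D13649 (iv D12633) D12632
theorem F53823 : act 5 n13649 = n13649 := d32_1 D13649 (iv D13649) F49694
def n13650 : Q := act 3 n12638
theorem D13650 : act 3 n12638 = n13650 := rfl
theorem F53824 : act 0 n13650 = n13115 := d2_1 D13650 F51615 (iv F49722)
theorem F53825 : act 1 n13650 = n12639 := d9_1 D13650 (iv D12639) (iv F49723)
theorem F53826 : act 2 n13650 = n13650 := d15_1 D13650 (iv D13650) F49724 F45748 (iv F49724)
theorem F53827 : act 4 n13650 = n13156 := d21_2 D12638 D13650 (iv F51758) (iv D12872) F46629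
theorem F53828 : act 5 n13650 = n13650 := d22_2 F49725 D13650 (iv D13650)
theorem F53829 : act 6 n13650 = n13078 := d23_2 (iv F49726) D13650 F51435
theorem F53830 : act 7 n13153 = n13650 := d33_0 F53829 F51752 F51751
def n13651 : Q := act 8 n12641
theorem D13651 : act 8 n12641 = n13651 := rfl
theorem F53831 : act 0 n13651 = n12843 := d7_1 D13651 (iv D12843) (iv F49738)
theorem F53832 : act 1 n13651 = n12642 := d14_1 D13651 (iv D12642) D12641
theorem F53833 : act 4 n13651 = n12683 := d29_1 D13651 (iv D12683) (iv F49739)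
theorem F53834 : act 5 n13651 = n12678 := d32_1 D13651 (iv D12678) (iv F49740)
theorem F53835 : act 6 n13651 = n12646 := d34_1 D13651 (iv D12646) (iv F49741)
theorem F53836 : act 7 n13651 = n12880 := d35_1 D13651 (iv D12880) (iv D11858) (iv F45740) (iv F49742)
def n13652 : Q := act 8 n12644
theorem D13652 : act 8 n12644 = n13652 := rfl
theorem F53837 : act 0 n13652 = n12646 := d7_1 D13652 (iv D12646) D12644
theorem F53838 : act 1 n13652 = n12648 := d14_1 D13652 (iv D12648) (iv F49756)
theorem F53839 : act 4 n13652 = n12851 := d29_1 D13652 (iv D12851) F49760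
theorem F53840 : act 5 n13652 = n13005 := d32_1 D13652 (iv D13005) (iv F49757)
theorem F53841 : act 6 n13652 = n12843 := d34_1 D13652 (iv D12843) (iv F49758)
def n13653 : Q := act 8 n12645
theorem D13653 : act 8 n12645 = n13653 := rfl
theorem F53842 : act 0 n13653 = n12851 := d7_1 D13653 (iv D12851) (iv F49761)
theorem F53843 : act 1 n13653 = n12647 := d14_1 D13653 (iv D12647) (iv F49762)
theorem F53844 : act 3 n13653 = n13225 := d25_1 D13653 (iv D13225) F49766
theorem F53845 : act 4 n13653 = n12646 := d29_1 D13653 (iv D12646) D12645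
theorem F53846 : act 5 n13653 = n13653 := d32_1 D13653 (iv D13653) F49763
theorem F53847 : act 6 n13653 = n12683 := d34_1 D13653 (iv D12683) (iv F49764)
def n13654 : Q := act 8 n12653
theorem D13654 : act 8 n12653 = n13654 := rfl
theorem F53848 : act 0 n13654 = n12659 := d7_1 D13654 (iv D12659) (iv F49805)
theorem F53849 : act 2 n13654 = n12654 := d20_1 D13654 (iv D12654) D12653
theorem F53850 : act 3 n13654 = n12692 := d25_1 D13654 F50012 (iv F49806)
theorem F53851 : act 4 n13654 = n12695 := d29_1 D13654 (iv D12695) (iv F49807)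
theorem F53852 : act 5 n13654 = n12693 := d32_1 D13654 F50017 (iv F49808)
theorem F53853 : act 6 n13654 = n12656 := d34_1 D13654 (iv D12656) (iv F49809)
theorem F53854 : act 7 n13242 = n13654 := d31_0 F53852 F50016 (iv F52109)
def n13655 : Q := act 7 n12654
theorem D13655 : act 7 n12654 = n13655 := rfl
theorem F53855 : act 0 n13655 = n12660 := d6_1 D13655 (iv D12660) (iv F49811)
theorem F53856 : act 1 n13655 = n13369 := d13_1 D13655 (iv D13369) (iv F49812)
theorem F53857 : act 2 n13655 = n13242 := d19_1 D13655 F53854 F53849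
theorem F53858 : act 3 n13655 = n13655 := d24_1 D13655 (iv D13655) F49813 F45845 (iv F49813)
theorem F53859 : act 4 n13655 = n12696 := d28_1 D13655 (iv D12696) (iv F49814)
theorem F53860 : act 5 n13655 = n13243 := d31_1 D13655 F52115 F50994
theorem F53861 : act 6 n13655 = n12657 := d33_1 D13655 (iv D12657) (iv F49815)
theorem F53862 : act 8 n13655 = n13655 := d35_2 D12654 D13655 (iv D13655) (iv D12654) F45839
def n13656 : Q := act 0 n12655
theorem D13656 : act 0 n12655 = n13656 := rfl
theorem F53863 : act 1 n13656 = n12661 := d0_2 D12655 D13656 (iv D12661) (iv D11655) (iv F45846)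
theorem F53864 : act 2 n13656 = n13370 := d1_2 (iv F49816) D13656 (iv D13370)
theorem F53865 : act 3 n13656 = n13120 := d2_2 (iv F53194) D13656 (iv F53189)
theorem F53866 : act 4 n13656 = n12697 := d3_2 (iv F49817) D13656 (iv D12697)
theorem F53867 : act 5 n13656 = n13656 := d4_2 F49818 D13656 (iv D13656)
theorem F53868 : act 6 n13656 = n13121 := d5_2 F51774 D13656 (iv F51769)
theorem F53869 : act 7 n13656 = n13656 := d6_2 F49819 D13656 (iv D13656)
def n13657 : Q := act 8 n12655
theorem D13657 : act 8 n12655 = n13657 := rfl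
theorem F53870 : act 1 n13657 = n12656 := d14_1 D13657 (iv D12656) D12655
theorem F53871 : act 2 n13657 = n13371 := d20_1 D13657 (iv D13371) (iv F49816)
theorem F53872 : act 4 n13657 = n12698 := d29_1 D13657 (iv D12698) (iv F49817)
theorem F53873 : act 5 n13657 = n13657 := d32_1 D13657 (iv D13657) F49818
def n13658 : Q := act 7 n12656
theorem D13658 : act 7 n12656 = n13658 := rfl
theorem F53874 : act 0 n13658 = n12663 := d6_1 D13658 (iv D12663) (iv F49820)
theorem F53875 : act 2 n13658 = n12657 := d19_1 D13658 (iv D12657) (iv F49821)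
theorem F53876 : act 3 n13658 = n13241 := d24_1 D13658 (iv D13241) (iv F49771) (iv F53384) F53380
theorem F53877 : act 4 n13658 = n12699 := d28_1 D13658 (iv D12699) (iv F49822)
theorem F53878 : act 5 n13658 = n13658 := d31_1 D13658 (iv D13658) F49823
theorem F53879 : act 6 n13658 = n13242 := d33_1 D13658 F53854 F53853
theorem F53880 : act 8 n13658 = n13658 := d35_2 D12656 D13658 (iv D13658) (iv D12656) F45849
def n13659 : Q := act 8 n12661
theorem D13659 : act 8 n12661 = n13659 := rfl
theorem F53881 : act 0 n13659 = n12662 := d7_1 D13659 (iv D12662) D12661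
theorem F53882 : act 2 n13659 = n12665 := d20_1 D13659 (iv D12665) (iv F49851)
theorem F53883 : act 3 n13659 = n12865 := d25_1 D13659 F50660 (iv F49852)
theorem F53884 : act 4 n13659 = n12708 := d29_1 D13659 (iv D12708) (iv F49853)
theorem F53885 : act 5 n13659 = n13659 := d32_1 D13659 (iv D13659) F49854
theorem F53886 : act 6 n13659 = n12866 := d34_1 D13659 F50664 (iv F49855)
theorem F53887 : act 7 n13302 = n13659 := d33_0 F53886 F50663 (iv F52298)
def n13660 : Q := act 7 n12665
theorem D13660 : act 7 n12665 = n13660 := rfl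
theorem F53888 : act 0 n13660 = n12666 := d6_1 D13660 (iv D12666) (iv F49878)
theorem F53889 : act 1 n13660 = n13377 := d13_1 D13660 (iv D13377) (iv F49879)
theorem F53890 : act 2 n13660 = n13302 := d19_1 D13660 F53887 F53882
theorem F53891 : act 4 n13660 = n12711 := d28_1 D13660 (iv D12711) (iv F49881)
theorem F53892 : act 5 n13660 = n13660 := d31_1 D13660 (iv D13660) F49882
theorem F53893 : act 6 n13660 = n13303 := d33_1 D13660 F52947 F52946
theorem F53894 : act 8 n13660 = n13660 := d35_2 D12665 D13660 (iv D13660) (iv D12665) F45904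
theorem F53895 : act 3 n13350 = n13660 := d23_3 F53893 F52301 (iv F52479)
def n13661 : Q := act 3 n12668
theorem D13661 : act 3 n12668 = n13661 := rfl
theorem F53896 : act 0 n13661 = n12826 := d2_1 D13661 (iv D12826) (iv F49897)
theorem F53897 : act 1 n13661 = n13661 := d9_1 D13661 (iv D13661) F49898
theorem F53898 : act 4 n13661 = n13529 := d21_2 (iv F49900) D13661 (iv D13529) (iv D12516) (iv F46491)
theorem F53899 : act 5 n13661 = n13200 := d22_2 (iv F49901) D13661 (iv D13200)
theorem F53900 : act 6 n13661 = n12839 := d23_2 (iv F49902) D13661 (iv D12839)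
theorem F53901 : act 7 n13661 = n13378 := d24_2 D12668 D13661 (iv D13378) (iv D12388) (iv F45916)
def n13662 : Q := act 8 n12668
theorem D13662 : act 8 n12668 = n13662 := rfl
theorem F53902 : act 0 n13662 = n12827 := d7_1 D13662 (iv D12827) (iv F49897)
theorem F53903 : act 1 n13662 = n13662 := d14_1 D13662 (iv D13662) F49898
theorem F53904 : act 2 n13662 = n12670 := d20_1 D13662 (iv D12670) (iv F49899)
theorem F53905 : act 4 n13662 = n12838 := d29_1 D13662 (iv D12838) (iv F49900)
theorem F53906 : act 5 n13662 = n13201 := d32_1 D13662 (iv D13201) (iv F49901)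
theorem F53907 : act 6 n13662 = n12841 := d34_1 D13662 (iv D12841) (iv F49902)
theorem F53908 : act 7 n13662 = n12715 := d35_1 D13662 (iv D12715) (iv D11709) (iv F45920) D12668
def n13663 : Q := act 2 n12669
theorem D13663 : act 2 n12669 = n13663 := rfl
theorem F53909 : act 0 n13663 = n12828 := d1_1 D13663 (iv D12828) (iv F49903)
theorem F53910 : act 4 n13663 = n12830 := d16_2 (iv F49905) D13663 (iv D12830)
theorem F53911 : act 5 n13663 = n13202 := d17_2 (iv F49906) D13663 (iv D13202)
theorem F53912 : act 6 n13663 = n12833 := d18_2 (iv F49907) D13663 F50535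
theorem F53913 : act 7 n13663 = n12673 := d19_2 (iv F49908) D13663 (iv D12673)
def n13664 : Q := act 8 n12669
theorem D13664 : act 8 n12669 = n13664 := rfl
theorem F53914 : act 0 n13664 = n12829 := d7_1 D13664 (iv D12829) (iv F49903)
theorem F53915 : act 1 n13664 = n12685 := d14_1 D13664 (iv D12685) (iv F49904)
theorem F53916 : act 3 n13664 = n12670 := d25_1 D13664 (iv D12670) D12669
theorem F53917 : act 4 n13664 = n12831 := d29_1 D13664 (iv D12831) (iv F49905)
theorem F53918 : act 5 n13664 = n13204 := d32_1 D13664 (iv D13204) (iv F49906)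
theorem F53919 : act 6 n13664 = n12836 := d34_1 D13664 (iv D12836) (iv F49907)
def n13665 : Q := act 2 n12671
theorem D13665 : act 2 n12671 = n13665 := rfl
theorem F53920 : act 0 n13665 = n12830 := d1_1 D13665 (iv D12830) (iv F49915)
theorem F53921 : act 3 n13665 = n13388 := d15_2 D12671 D13665 (iv D13388) (iv D12394) (iv F45928)
theorem F53922 : act 4 n13665 = n12828 := d16_2 (iv F49917) D13665 (iv D12828)
theorem F53923 : act 6 n13665 = n12673 := d18_2 (iv F49918) D13665 (iv D12673)
theorem F53924 : act 7 n13665 = n12833 := d19_2 (iv F49919) D13665 F50535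
def n13666 : Q := act 8 n12671
theorem D13666 : act 8 n12671 = n13666 := rfl
theorem F53925 : act 0 n13666 = n12831 := d7_1 D13666 (iv D12831) (iv F49915)
theorem F53926 : act 1 n13666 = n12687 := d14_1 D13666 (iv D12687) (iv F49916)
theorem F53927 : act 3 n13666 = n12672 := d25_1 D13666 (iv D12672) D12671
theorem F53928 : act 4 n13666 = n12829 := d29_1 D13666 (iv D12829) (iv F49917)
theorem F53929 : act 6 n13666 = n12675 := d34_1 D13666 (iv D12675) (iv F49918)
def n13667 : Q := act 1 n12673
theorem D13667 : act 1 n12673 = n13667 := rfl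
theorem F53930 : act 2 n13667 = n12688 := d8_2 D12673 D13667 (iv D12688) (iv D11681) (iv F45932)
theorem F53931 : act 3 n13667 = n13391 := d9_2 (iv F49927) D13667 (iv D13391)
theorem F53932 : act 5 n13667 = n13205 := d11_2 (iv F49928) D13667 (iv D13205)
def n13668 : Q := act 4 n12673
theorem D13668 : act 4 n12673 = n13668 := rfl
theorem F53933 : act 0 n13668 = n12833 := d3_1 D13668 (iv D12833) (iv F49926)
theorem F53934 : act 2 n13668 = n12674 := d16_1 D13668 (iv D12674) D12673
theorem F53935 : act 6 n13668 = n12828 := d27_2 F53923 D13668 (iv F53922)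
theorem F53936 : act 7 n13668 = n12830 := d28_2 F53913 D13668 (iv F53910)
def n13669 : Q := act 8 n12673
theorem D13669 : act 8 n12673 = n13669 := rfl
theorem F53937 : act 0 n13669 = n12834 := d7_1 D13669 (iv D12834) (iv F49926)
theorem F53938 : act 2 n13669 = n12675 := d20_1 D13669 (iv D12675) D12673
theorem F53939 : act 3 n13669 = n13393 := d25_1 D13669 (iv D13393) (iv F49927)
theorem F53940 : act 5 n13669 = n13207 := d32_1 D13669 (iv D13207) (iv F49928)
def n13670 : Q := act 8 n12674
theorem D13670 : act 8 n12674 = n13670 := rfl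
theorem F53941 : act 0 n13670 = n12836 := d7_1 D13670 (iv D12836) (iv F49929)
theorem F53942 : act 1 n13670 = n12690 := d14_1 D13670 (iv D12690) (iv F49930)
theorem F53943 : act 3 n13670 = n12678 := d25_1 D13670 (iv D12678) (iv F49931)
theorem F53944 : act 4 n13670 = n12675 := d29_1 D13670 (iv D12675) D12674
theorem F53945 : act 6 n13670 = n12829 := d34_1 D13670 (iv D12829) (iv F49932)
def n13671 : Q := act 7 n12675
theorem D13671 : act 7 n12675 = n13671 := rfl
theorem F53946 : act 0 n13671 = n12837 := d6_1 D13671 (iv D12837) (iv F49934)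
theorem F53947 : act 1 n13671 = n12691 := d13_1 D13671 (iv D12691) (iv F49935)
theorem F53948 : act 3 n13671 = n12732 := d24_1 D13671 (iv D12732) F46147 (iv F45939) (iv F49936)
theorem F53949 : act 5 n13671 = n13210 := d31_1 D13671 (iv D13210) (iv F49937)
def n13672 : Q := act 3 n12676
theorem D13672 : act 3 n12676 = n13672 := rfl
theorem F53950 : act 0 n13672 = n12839 := d2_1 D13672 (iv D12839) (iv F49938)
theorem F53951 : act 1 n13672 = n12988 := d9_1 D13672 (iv D12988) (iv F49939)
theorem F53952 : act 4 n13672 = n13399 := d21_2 D12676 D13672 (iv D13399) (iv D12401) (iv F45949)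
theorem F53953 : act 6 n13672 = n12826 := d23_2 (iv F49941) D13672 (iv D12826)
theorem F53954 : act 7 n13672 = n13493 := d24_2 (iv F49942) D13672 (iv D13493) (iv D12495) (iv F46461)
def n13673 : Q := act 8 n12676
theorem D13673 : act 8 n12676 = n13673 := rfl
theorem F53955 : act 0 n13673 = n12841 := d7_1 D13673 (iv D12841) (iv F49938)
theorem F53956 : act 1 n13673 = n12989 := d14_1 D13673 (iv D12989) (iv F49939)
theorem F53957 : act 2 n13673 = n12678 := d20_1 D13673 (iv D12678) (iv F49940)
theorem F53958 : act 4 n13673 = n12677 := d29_1 D13673 (iv D12677) D12676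
theorem F53959 : act 6 n13673 = n12827 := d34_1 D13673 (iv D12827) (iv F49941)
theorem F53960 : act 7 n13673 = n12875 := d35_1 D13673 (iv D12875) (iv D11854) (iv F46463) (iv F49942)
def n13674 : Q := act 5 n12679
theorem D13674 : act 5 n12679 = n13674 := rfl
theorem F53961 : act 0 n13674 = n12844 := d4_1 D13674 (iv D12844) (iv F49955)
theorem F53962 : act 2 n13674 = n13218 := d17_1 D13674 (iv D13218) (iv F49956)
theorem F53963 : act 3 n13674 = n12680 := d22_1 D13674 (iv D12680) D12679
def n13675 : Q := act 8 n12680
theorem D13675 : act 8 n12680 = n13675 := rfl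
theorem F53964 : act 0 n13675 = n12848 := d7_1 D13675 (iv D12848) (iv F49959)
theorem F53965 : act 2 n13675 = n12683 := d20_1 D13675 (iv D12683) (iv F49960)
theorem F53966 : act 5 n13675 = n12681 := d32_1 D13675 (iv D12681) D12680
def n13676 : Q := act 7 n12683
theorem D13676 : act 7 n12683 = n13676 := rfl
theorem F53967 : act 0 n13676 = n12852 := d6_1 D13676 (iv D12852) (iv F49972)
theorem F53968 : act 1 n13676 = n12692 := d13_1 D13676 (iv D12692) (iv F49973)
theorem F53969 : act 4 n13676 = n12880 := d28_1 D13676 (iv F53836) F53833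
theorem F53970 : act 5 n13676 = n12684 := d31_1 D13676 (iv D12684) (iv F49975)
theorem F53971 : act 8 n13676 = n12879 := d35_2 D12683 D13676 (iv D12879) F46642 (iv F45974)
def n13677 : Q := act 7 n12685
theorem D13677 : act 7 n12685 = n13677 := rfl
theorem F53972 : act 0 n13677 = n12700 := d6_1 D13677 (iv D12700) (iv F49981)
theorem F53973 : act 3 n13677 = n12763 := d24_1 D13677 (iv D12763) F46234 (iv F45996) (iv F49982)
theorem F53974 : act 4 n13677 = n12857 := d28_1 D13677 (iv D12857) (iv F49983)
theorem F53975 : act 5 n13677 = n13231 := d31_1 D13677 (iv D13231) (iv F49984)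
theorem F53976 : act 6 n13677 = n12864 := d33_1 D13677 (iv D12864) (iv F49985)
theorem F53977 : act 8 n13677 = n12691 := d35_2 D12685 D13677 (iv D12691) (iv D11683) (iv F45990)
def n13678 : Q := act 1 n12686
theorem D13678 : act 1 n12686 = n13678 := rfl
theorem F53978 : act 3 n13678 = n12694 := d9_2 (iv F49987) D13678 (iv D12694)
theorem F53979 : act 4 n13678 = n12854 := d10_2 (iv F49988) D13678 (iv D12854)
theorem F53980 : act 6 n13678 = n12688 := d12_2 (iv F49989) D13678 (iv D12688)
theorem F53981 : act 7 n13678 = n12858 := d13_2 (iv F49990) D13678 F50634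
def n13679 : Q := act 8 n12686
theorem D13679 : act 8 n12686 = n13679 := rfl
theorem F53982 : act 0 n13679 = n12701 := d7_1 D13679 (iv D12701) (iv F49986)
theorem F53983 : act 2 n13679 = n12687 := d20_1 D13679 (iv D12687) D12686
theorem F53984 : act 3 n13679 = n12695 := d25_1 D13679 (iv D12695) (iv F49987)
theorem F53985 : act 4 n13679 = n12855 := d29_1 D13679 (iv D12855) (iv F49988)
theorem F53986 : act 6 n13679 = n12689 := d34_1 D13679 (iv D12689) (iv F49989)
def n13680 : Q := act 7 n12687
theorem D13680 : act 7 n12687 = n13680 := rfl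
theorem F53987 : act 0 n13680 = n12702 := d6_1 D13680 (iv D12702) (iv F49991)
theorem F53988 : act 3 n13680 = n12771 := d24_1 D13680 (iv D12771) F46249 (iv F46005) (iv F49992)
theorem F53989 : act 4 n13680 = n12856 := d28_1 D13680 (iv D12856) (iv F49993)
theorem F53990 : act 6 n13680 = n12691 := d33_1 D13680 (iv D12691) (iv F49994)
theorem F53991 : act 8 n13680 = n12864 := d35_2 D12687 D13680 (iv D12864) (iv D11835) (iv F46000)
def n13681 : Q := act 0 n12688
theorem D13681 : act 0 n12688 = n13681 := rfl
theorem F53992 : act 1 n13681 = n12703 := d0_2 D12688 D13681 (iv D12703) (iv D11695) (iv F46006)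
theorem F53993 : act 3 n13681 = n12697 := d2_2 (iv F49995) D13681 (iv D12697)
theorem F53994 : act 5 n13681 = n12766 := d4_2 (iv F49996) D13681 F50297
def n13682 : Q := act 8 n12688
theorem D13682 : act 8 n12688 = n13682 := rfl
theorem F53995 : act 1 n13682 = n12689 := d14_1 D13682 (iv D12689) D12688
theorem F53996 : act 3 n13682 = n12698 := d25_1 D13682 (iv D12698) (iv F49995)
theorem F53997 : act 5 n13682 = n13233 := d32_1 D13682 (iv D13233) (iv F49996)
def n13683 : Q := act 7 n12689
theorem D13683 : act 7 n12689 = n13683 := rfl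
theorem F53998 : act 0 n13683 = n12705 := d6_1 D13683 (iv D12705) (iv F49997)
theorem F53999 : act 2 n13683 = n12691 := d19_1 D13683 (iv D12691) (iv F49998)
theorem F54000 : act 5 n13683 = n13235 := d31_1 D13683 (iv D13235) (iv F50000)
def n13684 : Q := act 7 n12690
theorem D13684 : act 7 n12690 = n13684 := rfl
theorem F54001 : act 0 n13684 = n12706 := d6_1 D13684 (iv D12706) (iv F50001)
theorem F54002 : act 3 n13684 = n12936 := d24_1 D13684 (iv D12936) F46763 (iv F46020) (iv F50002)
theorem F54003 : act 4 n13684 = n12691 := d28_1 D13684 (iv D12691) (iv F50003)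
theorem F54004 : act 6 n13684 = n12856 := d33_1 D13684 (iv D12856) (iv F50004)
theorem F54005 : act 8 n13684 = n12857 := d35_2 D12690 D13684 (iv D12857) (iv D11830) (iv F46012)
def n13685 : Q := act 8 n12694
theorem D13685 : act 8 n12694 = n13685 := rfl
theorem F54006 : act 1 n13685 = n12695 := d14_1 D13685 (iv D12695) D12694
theorem F54007 : act 2 n13685 = n13449 := d20_1 D13685 (iv D13449) (iv F50018)
theorem F54008 : act 6 n13685 = n12698 := d34_1 D13685 (iv D12698) (iv F50019)
def n13686 : Q := act 7 n12695
theorem D13686 : act 7 n12695 = n13686 := rfl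
theorem F54009 : act 0 n13686 = n12707 := d6_1 D13686 (iv D12707) (iv F50021)
theorem F54010 : act 2 n13686 = n12696 := d19_1 D13686 (iv D12696) (iv F50022)
theorem F54011 : act 4 n13686 = n13242 := d28_1 D13686 F53854 F53851
theorem F54012 : act 6 n13686 = n12699 := d33_1 D13686 (iv D12699) (iv F50023)
theorem F54013 : act 8 n13686 = n13686 := d35_2 D12695 D13686 (iv D13686) (iv D12695) F46031
def n13687 : Q := act 8 n12697
theorem D13687 : act 8 n12697 = n13687 := rfl
theorem F54014 : act 0 n13687 = n12698 := d7_1 D13687 (iv D12698) D12697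
theorem F54015 : act 1 n13687 = n12708 := d14_1 D13687 (iv D12708) (iv F50029)
theorem F54016 : act 2 n13687 = n13451 := d20_1 D13687 (iv D13451) (iv F50030)
theorem F54017 : act 5 n13687 = n12789 := d32_1 D13687 (iv D12789) (iv F50031)
def n13688 : Q := act 7 n12698
theorem D13688 : act 7 n12698 = n13688 := rfl
theorem F54018 : act 1 n13688 = n12699 := d13_1 D13688 (iv D12699) (iv F50033)
theorem F54019 : act 2 n13688 = n13452 := d19_1 D13688 (iv D13452) (iv F50034)
theorem F54020 : act 5 n13688 = n13244 := d31_1 D13688 (iv D13244) (iv F50035)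
theorem F54021 : act 8 n13688 = n13688 := d35_2 D12698 D13688 (iv D13688) (iv D12698) F46038
def n13689 : Q := act 3 n12699
theorem D13689 : act 3 n12699 = n13689 := rfl
theorem F54022 : act 0 n13689 = n12710 := d2_1 D13689 (iv D12710) (iv F50036)
theorem F54023 : act 2 n13689 = n12793 := d15_1 D13689 (iv D12793) F46317 (iv F46044) (iv F50037)
theorem F54024 : act 5 n13689 = n13245 := d22_2 (iv F50038) D13689 (iv D13245)
theorem F54025 : act 8 n13689 = n13689 := d25_2 F50039 D13689 (iv D13689)
def n13690 : Q := act 7 n12701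
theorem D13690 : act 7 n12701 = n13690 := rfl
theorem F54026 : act 2 n13690 = n12702 := d19_1 D13690 (iv D12702) (iv F50046)
theorem F54027 : act 4 n13690 = n12868 := d28_1 D13690 (iv D12868) (iv F50048)
theorem F54028 : act 6 n13690 = n12705 := d33_1 D13690 (iv D12705) (iv F50049)
theorem F54029 : act 8 n13690 = n12870 := d35_2 D12701 D13690 (iv D12870) (iv D11846) (iv F46055)
def n13691 : Q := act 8 n12703
theorem D13691 : act 8 n12703 = n13691 := rfl
theorem F54030 : act 0 n13691 = n12704 := d7_1 D13691 (iv D12704) D12703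
theorem F54031 : act 2 n13691 = n12765 := d20_1 D13691 (iv D12765) (iv F50055)
theorem F54032 : act 3 n13691 = n12708 := d25_1 D13691 (iv D12708) (iv F50056)
theorem F54033 : act 5 n13691 = n12768 := d32_1 D13691 (iv D12768) (iv F50057)
def n13692 : Q := act 7 n12704
theorem D13692 : act 7 n12704 = n13692 := rfl
theorem F54034 : act 1 n13692 = n12705 := d13_1 D13692 (iv D12705) (iv F50058)
theorem F54035 : act 2 n13692 = n12804 := d19_1 D13692 (iv D12804) (iv F50059)
theorem F54036 : act 5 n13692 = n12806 := d31_1 D13692 (iv D12806) (iv F50061)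
def n13693 : Q := act 3 n12705
theorem D13693 : act 3 n12705 = n13693 := rfl
theorem F54037 : act 2 n13693 = n12815 := d15_1 D13693 (iv D12815) F46395 (iv F46071) (iv F50062)
theorem F54038 : act 5 n13693 = n13249 := d22_2 (iv F50063) D13693 (iv D13249)
theorem F54039 : act 7 n13693 = n12710 := d24_2 D12705 D13693 (iv D12710) (iv D11705) (iv F46064)
def n13694 : Q := act 3 n12707
theorem D13694 : act 3 n12707 = n13694 := rfl
theorem F54040 : act 1 n13694 = n13313 := d9_1 D13694 F52326 (iv F50069)
theorem F54041 : act 2 n13694 = n12822 := d15_1 D13694 (iv D12822) F46439 (iv F46086) (iv F50070)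
theorem F54042 : act 4 n13694 = n13253 := d21_2 (iv F50071) D13694 (iv D13253) F48146 D12255
theorem F54043 : act 6 n13694 = n12710 := d23_2 (iv F50072) D13694 (iv D12710)
theorem F54044 : act 8 n13694 = n13694 := d25_2 F50073 D13694 (iv D13694)
def n13695 : Q := act 7 n12708
theorem D13695 : act 7 n12708 = n13695 := rfl
theorem F54045 : act 0 n13695 = n12709 := d6_1 D13695 (iv D12709) (iv F50074)
theorem F54046 : act 2 n13695 = n12711 := d19_1 D13695 (iv D12711) (iv F50075)
theorem F54047 : act 4 n13695 = n13302 := d28_1 D13695 F53887 F53884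
theorem F54048 : act 5 n13695 = n12790 := d31_1 D13695 (iv D12790) (iv F50076)
theorem F54049 : act 6 n13695 = n13304 := d33_1 D13695 F52939 F52938
theorem F54050 : act 8 n13695 = n13695 := d35_2 D12708 D13695 (iv D13695) (iv D12708) F46091
def n13696 : Q := act 3 n12709
theorem D13696 : act 3 n12709 = n13696 := rfl
theorem F54051 : act 1 n13696 = n12710 := d9_1 D13696 (iv D12710) (iv F50077)
theorem F54052 : act 4 n13696 = n13311 := d21_2 (iv F50079) D13696 (iv D13311) F48287 D12305
theorem F54053 : act 5 n13696 = n12822 := d22_2 (iv F50080) D13696 (iv D12822)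
theorem F54054 : act 6 n13696 = n13313 := d23_2 (iv F50081) D13696 F52326
theorem F54055 : act 8 n13696 = n13696 := d25_2 F50082 D13696 (iv D13696)
def n13697 : Q := act 4 n12710
theorem D13697 : act 4 n12710 = n13697 := rfl
theorem F54056 : act 1 n13697 = n13311 := d10_1 D13697 (iv F54052) F54051
theorem F54057 : act 2 n13697 = n12825 := d16_1 D13697 (iv D12825) (iv F50083)
theorem F54058 : act 3 n13697 = n13252 := d21_1 D13697 F52137 (iv F49866) F49867 D12710
theorem F54059 : act 6 n13697 = n13253 := d27_2 F54043 D13697 (iv F54042)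
theorem F54060 : act 8 n13697 = n13697 := d29_2 F50085 D13697 (iv D13697)
def n13698 : Q := act 7 n12712
theorem D13698 : act 7 n12712 = n13698 := rfl
theorem F54061 : act 0 n13698 = n12873 := d6_1 D13698 (iv D12873) (iv F50090)
theorem F54062 : act 1 n13698 = n13698 := d13_1 D13698 (iv D13698) F50091
theorem F54063 : act 2 n13698 = n12716 := d19_1 D13698 (iv D12716) (iv F50092)
theorem F54064 : act 4 n13698 = n13119 := d28_1 D13698 (iv D13119) (iv F50094)
theorem F54065 : act 5 n13698 = n12713 := d31_1 D13698 (iv D12713) D12712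
def n13699 : Q := act 3 n12713
theorem D13699 : act 3 n12713 = n13699 := rfl
theorem F54066 : act 0 n13699 = n12874 := d2_1 D13699 (iv D12874) (iv F50096)
theorem F54067 : act 1 n13699 = n13699 := d9_1 D13699 (iv D13699) F50097
theorem F54068 : act 6 n13699 = n12714 := d23_2 (iv F50100) D13699 (iv D12714)
def n13700 : Q := act 8 n12713
theorem D13700 : act 8 n12713 = n13700 := rfl
theorem F54069 : act 0 n13700 = n12875 := d7_1 D13700 (iv D12875) (iv F50096)
theorem F54070 : act 1 n13700 = n13700 := d14_1 D13700 (iv D13700) F50097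
theorem F54071 : act 2 n13700 = n12718 := d20_1 D13700 (iv D12718) (iv F50098)
theorem F54072 : act 4 n13700 = n12842 := d29_1 D13700 F50569 (iv F50099)
theorem F54073 : act 6 n13700 = n12715 := d34_1 D13700 (iv D12715) (iv F50100)
theorem F54074 : act 7 n13700 = n12841 := d35_1 D13700 (iv D12841) F46503 (iv F46109) D12713
def n13701 : Q := act 2 n12714
theorem D13701 : act 2 n12714 = n13701 := rfl
theorem F54075 : act 0 n13701 = n12876 := d1_1 D13701 (iv D12876) (iv F50101)
theorem F54076 : act 3 n13701 = n12719 := d15_2 D12714 D13701 (iv D12719) (iv D11712) (iv F46112)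
def n13702 : Q := act 4 n12714
theorem D13702 : act 4 n12714 = n13702 := rfl
theorem F54077 : act 0 n13702 = n12877 := d3_1 D13702 (iv D12877) (iv F50101)
theorem F54078 : act 1 n13702 = n13702 := d10_1 D13702 (iv D13702) F50102
theorem F54079 : act 3 n13702 = n13081 := d21_1 D13702 (iv D13081) (iv D12058) (iv F46113) D12714
def n13703 : Q := act 8 n12714
theorem D13703 : act 8 n12714 = n13703 := rfl
theorem F54080 : act 0 n13703 = n12878 := d7_1 D13703 (iv D12878) (iv F50101)
theorem F54081 : act 1 n13703 = n13703 := d14_1 D13703 (iv D13703) F50102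
theorem F54082 : act 3 n13703 = n12715 := d25_1 D13703 (iv D12715) D12714
def n13704 : Q := act 3 n12716
theorem D13704 : act 3 n12716 = n13704 := rfl
theorem F54083 : act 0 n13704 = n12854 := d2_1 D13704 F50620 (iv F50107)
theorem F54084 : act 1 n13704 = n12754 := d9_1 D13704 (iv D12754) (iv F50108)
theorem F54085 : act 5 n13704 = n12717 := d22_2 (iv F50110) D13704 (iv D12717)
theorem F54086 : act 7 n13704 = n12722 := d24_2 D12716 D13704 (iv D12722) (iv D11714) (iv F46116)
def n13705 : Q := act 8 n12716
theorem D13705 : act 8 n12716 = n13705 := rfl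
theorem F54087 : act 0 n13705 = n12880 := d7_1 D13705 (iv D12880) (iv F50107)
theorem F54088 : act 1 n13705 = n12755 := d14_1 D13705 (iv D12755) (iv F50108)
theorem F54089 : act 4 n13705 = n12852 := d29_1 D13705 F50613 (iv F50109)
theorem F54090 : act 5 n13705 = n12718 := d32_1 D13705 (iv D12718) (iv F50110)
theorem F54091 : act 7 n13705 = n12843 := d35_1 D13705 (iv D12843) F46510 (iv F46118) D12716
def n13706 : Q := act 2 n12717
theorem D13706 : act 2 n12717 = n13706 := rfl
theorem F54092 : act 0 n13706 = n12881 := d1_1 D13706 (iv D12881) (iv F50111)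
theorem F54093 : act 4 n13706 = n13152 := d16_2 (iv F50113) D13706 (iv D13152)
theorem F54094 : act 6 n13706 = n12719 := d18_2 (iv F50114) D13706 (iv D12719)
theorem F54095 : act 7 n13706 = n12724 := d19_2 (iv F50115) D13706 (iv D12724)
def n13707 : Q := act 8 n12717
theorem D13707 : act 8 n12717 = n13707 := rfl
theorem F54096 : act 0 n13707 = n12883 := d7_1 D13707 (iv D12883) (iv F50111)
theorem F54097 : act 1 n13707 = n12757 := d14_1 D13707 (iv D12757) (iv F50112)
theorem F54098 : act 3 n13707 = n12718 := d25_1 D13707 (iv D12718) D12717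
theorem F54099 : act 4 n13707 = n12921 := d29_1 D13707 F50826 (iv F50113)
theorem F54100 : act 6 n13707 = n12721 := d34_1 D13707 (iv D12721) (iv F50114)
def n13708 : Q := act 1 n12719
theorem D13708 : act 1 n12719 = n13708 := rfl
theorem F54101 : act 2 n13708 = n12758 := d8_2 D12719 D13708 (iv D12758) (iv D11738) (iv F46124)
theorem F54102 : act 7 n13708 = n12727 := d13_2 (iv F50122) D13708 (iv D12727)
def n13709 : Q := act 4 n12719
theorem D13709 : act 4 n12719 = n13709 := rfl
theorem F54103 : act 0 n13709 = n12885 := d3_1 D13709 (iv D12885) (iv F50121)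
theorem F54104 : act 2 n13709 = n12720 := d16_1 D13709 (iv D12720) D12719
theorem F54105 : act 6 n13709 = n13152 := d27_2 F54094 D13709 (iv F54093)
theorem F54106 : act 7 n13709 = n12728 := d28_2 (iv F50122) D13709 (iv D12728)
def n13710 : Q := act 8 n12719
theorem D13710 : act 8 n12719 = n13710 := rfl
theorem F54107 : act 0 n13710 = n12886 := d7_1 D13710 (iv D12886) (iv F50121)
theorem F54108 : act 2 n13710 = n12721 := d20_1 D13710 (iv D12721) D12719
def n13711 : Q := act 5 n12720
theorem D13711 : act 5 n12720 = n13711 := rfl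
theorem F54109 : act 0 n13711 = n12887 := d4_1 D13711 (iv D12887) (iv F50123)
theorem F54110 : act 1 n13711 = n12761 := d11_1 D13711 (iv D12761) (iv F50124)
theorem F54111 : act 3 n13711 = n13084 := d22_1 D13711 (iv D13084) (iv F50125)
theorem F54112 : act 7 n13711 = n12730 := d31_2 (iv F50127) D13711 (iv D12730)
def n13712 : Q := act 8 n12720
theorem D13712 : act 8 n12720 = n13712 := rfl
theorem F54113 : act 0 n13712 = n12888 := d7_1 D13712 (iv D12888) (iv F50123)
theorem F54114 : act 1 n13712 = n12762 := d14_1 D13712 (iv D12762) (iv F50124)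
theorem F54115 : act 3 n13712 = n12911 := d25_1 D13712 F50796 (iv F50125)
theorem F54116 : act 4 n13712 = n12721 := d29_1 D13712 (iv D12721) D12720
theorem F54117 : act 6 n13712 = n12921 := d34_1 D13712 F50826 (iv F50126)
def n13713 : Q := act 7 n12721
theorem D13713 : act 7 n12721 = n13713 := rfl
theorem F54118 : act 0 n13713 = n12889 := d6_1 D13713 (iv D12889) (iv F50128)
theorem F54119 : act 1 n13713 = n12763 := d13_1 D13713 (iv D12763) (iv F50129)
theorem F54120 : act 8 n13713 = n12732 := d35_2 D12721 D13713 (iv D12732) (iv D11719) (iv F46125)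
def n13714 : Q := act 2 n12722
theorem D13714 : act 2 n12722 = n13714 := rfl
theorem F54121 : act 0 n13714 = n12832 := d1_1 D13714 F50532 (iv F50131)
theorem F54122 : act 3 n13714 = n13519 := d15_2 D12722 D13714 F53264 F49380 (iv F46131)
theorem F54123 : act 5 n13714 = n12724 := d17_2 (iv F50133) D13714 (iv D12724)
def n13715 : Q := act 4 n12722
theorem D13715 : act 4 n12722 = n13715 := rfl
theorem F54124 : act 0 n13715 = n12858 := d3_1 D13715 (iv D12858) (iv F50131)
theorem F54125 : act 1 n13715 = n12764 := d10_1 D13715 (iv D12764) (iv F50132)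
theorem F54126 : act 3 n13715 = n13715 := d21_1 D13715 (iv D13715) (iv D12722) F46132 D12722
def n13716 : Q := act 8 n12722
theorem D13716 : act 8 n12722 = n13716 := rfl
theorem F54127 : act 0 n13716 = n12859 := d7_1 D13716 (iv D12859) (iv F50131)
theorem F54128 : act 1 n13716 = n12765 := d14_1 D13716 (iv D12765) (iv F50132)
theorem F54129 : act 3 n13716 = n12723 := d25_1 D13716 (iv D12723) D12722
theorem F54130 : act 5 n13716 = n12726 := d32_1 D13716 (iv D12726) (iv F50133)
def n13717 : Q := act 1 n12724
theorem D13717 : act 1 n12724 = n13717 := rfl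
theorem F54131 : act 0 n13717 = n13205 := d0_1 D13717 (iv D13205) F48015 (iv F46657) (iv F50139)
theorem F54132 : act 2 n13717 = n12766 := d8_2 D12724 D13717 (iv D12766) (iv D11743) (iv F46135)
theorem F54133 : act 6 n13717 = n12727 := d12_2 (iv F50140) D13717 (iv D12727)
def n13718 : Q := act 4 n12724
theorem D13718 : act 4 n12724 = n13718 := rfl
theorem F54134 : act 0 n13718 = n12890 := d3_1 D13718 (iv D12890) (iv F50139)
theorem F54135 : act 2 n13718 = n12725 := d16_1 D13718 (iv D12725) D12724
theorem F54136 : act 6 n13718 = n12728 := d27_2 (iv F50140) D13718 (iv D12728)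
theorem F54137 : act 7 n13718 = n13152 := d28_2 F54095 D13718 (iv F54093)
def n13719 : Q := act 8 n12724
theorem D13719 : act 8 n12724 = n13719 := rfl
theorem F54138 : act 0 n13719 = n12891 := d7_1 D13719 (iv D12891) (iv F50139)
theorem F54139 : act 2 n13719 = n12726 := d20_1 D13719 (iv D12726) D12724
theorem F54140 : act 6 n13719 = n12729 := d34_1 D13719 (iv D12729) (iv F50140)
def n13720 : Q := act 5 n12725
theorem D13720 : act 5 n12725 = n13720 := rfl
theorem F54141 : act 0 n13720 = n12892 := d4_1 D13720 (iv D12892) (iv F50141)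
theorem F54142 : act 1 n13720 = n12769 := d11_1 D13720 (iv D12769) (iv F50142)
theorem F54143 : act 3 n13720 = n12735 := d22_1 D13720 (iv D12735) (iv F50143)
theorem F54144 : act 7 n13720 = n13151 := d31_2 (iv F50145) D13720 F51736
def n13721 : Q := act 8 n12725
theorem D13721 : act 8 n12725 = n13721 := rfl
theorem F54145 : act 0 n13721 = n12893 := d7_1 D13721 (iv D12893) (iv F50141)
theorem F54146 : act 1 n13721 = n12770 := d14_1 D13721 (iv D12770) (iv F50142)
theorem F54147 : act 3 n13721 = n12736 := d25_1 D13721 (iv D12736) (iv F50143)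
theorem F54148 : act 4 n13721 = n12726 := d29_1 D13721 (iv D12726) D12725
theorem F54149 : act 6 n13721 = n12731 := d34_1 D13721 (iv D12731) (iv F50144)
def n13722 : Q := act 7 n12726
theorem D13722 : act 7 n12726 = n13722 := rfl
theorem F54150 : act 0 n13722 = n12894 := d6_1 D13722 (iv D12894) (iv F50146)
theorem F54151 : act 1 n13722 = n12771 := d13_1 D13722 (iv D12771) (iv F50147)
theorem F54152 : act 6 n13722 = n12732 := d33_1 D13722 (iv D12732) (iv F50149)
def n13723 : Q := act 0 n12727
theorem D13723 : act 0 n12727 = n13723 := rfl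
theorem F54153 : act 1 n13723 = n12895 := d0_2 D12727 D13723 (iv D12895) (iv D11867) (iv F46141)
theorem F54154 : act 2 n13723 = n12772 := d1_2 (iv F50150) D13723 (iv D12772)
theorem F54155 : act 3 n13723 = n13717 := d2_2 F51970 D13723 F54131
theorem F54156 : act 6 n13723 = n13205 := d5_2 F54133 D13723 (iv F54131)
def n13724 : Q := act 4 n12727
theorem D13724 : act 4 n12727 = n13724 := rfl
theorem F54157 : act 1 n13724 = n12728 := d10_1 D13724 (iv D12728) D12727
theorem F54158 : act 2 n13724 = n12773 := d16_1 D13724 (iv D12773) (iv F50150)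
def n13725 : Q := act 8 n12727
theorem D13725 : act 8 n12727 = n13725 := rfl
theorem F54159 : act 1 n13725 = n12729 := d14_1 D13725 (iv D12729) D12727
theorem F54160 : act 2 n13725 = n12774 := d20_1 D13725 (iv D12774) (iv F50150)
def n13726 : Q := act 3 n12728
theorem D13726 : act 3 n12728 = n13726 := rfl
theorem F54161 : act 0 n13726 = n12898 := d2_1 D13726 (iv D12898) (iv F50151)
theorem F54162 : act 2 n13726 = n12737 := d15_1 D13726 (iv D12737) F46165 (iv F46144) (iv F50152)
def n13727 : Q := act 5 n12728
theorem D13727 : act 5 n12728 = n13727 := rfl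
theorem F54163 : act 0 n13727 = n12899 := d4_1 D13727 (iv D12899) (iv F50151)
theorem F54164 : act 2 n13727 = n12730 := d17_1 D13727 (iv D12730) (iv F50152)
def n13728 : Q := act 8 n12728
theorem D13728 : act 8 n12728 = n13728 := rfl
theorem F54165 : act 0 n13728 = n12900 := d7_1 D13728 (iv D12900) (iv F50151)
theorem F54166 : act 2 n13728 = n12731 := d20_1 D13728 (iv D12731) (iv F50152)
theorem F54167 : act 4 n13728 = n12729 := d29_1 D13728 (iv D12729) D12728
def n13729 : Q := act 7 n12729
theorem D13729 : act 7 n12729 = n13729 := rfl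
theorem F54168 : act 0 n13729 = n12901 := d6_1 D13729 (iv D12901) (iv F50153)
theorem F54169 : act 2 n13729 = n12732 := d19_1 D13729 (iv D12732) (iv F50154)
def n13730 : Q := act 6 n12730
theorem D13730 : act 6 n12730 = n13730 := rfl
theorem F54170 : act 0 n13730 = n12902 := d5_1 D13730 (iv D12902) (iv F50155)
theorem F54171 : act 1 n13730 = n12778 := d12_1 D13730 (iv D12778) (iv F50156)
theorem F54172 : act 3 n13730 = n12741 := d23_1 D13730 (iv D12741) (iv F50157)
def n13731 : Q := act 8 n12730
theorem D13731 : act 8 n12730 = n13731 := rfl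
theorem F54173 : act 0 n13731 = n12903 := d7_1 D13731 (iv D12903) (iv F50155)
theorem F54174 : act 1 n13731 = n12779 := d14_1 D13731 (iv D12779) (iv F50156)
theorem F54175 : act 3 n13731 = n12742 := d25_1 D13731 (iv D12742) (iv F50157)
theorem F54176 : act 5 n13731 = n12731 := d32_1 D13731 (iv D12731) D12730
def n13732 : Q := act 7 n12731
theorem D13732 : act 7 n12731 = n13732 := rfl
theorem F54177 : act 0 n13732 = n12904 := d6_1 D13732 (iv D12904) (iv F50158)
theorem F54178 : act 1 n13732 = n12780 := d13_1 D13732 (iv D12780) (iv F50159)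
theorem F54179 : act 4 n13732 = n12732 := d28_1 D13732 (iv D12732) (iv F50161)
def n13733 : Q := act 3 n12733
theorem D13733 : act 3 n12733 = n13733 := rfl
theorem F54180 : act 0 n13733 = n12905 := d2_1 D13733 (iv D12905) (iv F50164)
theorem F54181 : act 1 n13733 = n13733 := d9_1 D13733 (iv D13733) F50165
theorem F54182 : act 6 n13733 = n12737 := d23_2 (iv F50167) D13733 (iv D12737)
def n13734 : Q := act 5 n12733
theorem D13734 : act 5 n12733 = n13734 := rfl
theorem F54183 : act 0 n13734 = n12906 := d4_1 D13734 (iv D12906) (iv F50164)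
theorem F54184 : act 1 n13734 = n13734 := d11_1 D13734 (iv D13734) F50165
theorem F54185 : act 2 n13734 = n12735 := d17_1 D13734 (iv D12735) (iv F50166)
theorem F54186 : act 4 n13734 = n13734 := d26_1 D13734 (iv D13734) (iv D12733) F46150 D12733
theorem F54187 : act 7 n13734 = n13089 := d31_2 (iv F50168) D13734 (iv D13089)
def n13735 : Q := act 8 n12733
theorem D13735 : act 8 n12733 = n13735 := rfl
theorem F54188 : act 0 n13735 = n12907 := d7_1 D13735 (iv D12907) (iv F50164)
theorem F54189 : act 1 n13735 = n13735 := d14_1 D13735 (iv D13735) F50165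
theorem F54190 : act 2 n13735 = n12736 := d20_1 D13735 (iv D12736) (iv F50166)
theorem F54191 : act 4 n13735 = n12734 := d29_1 D13735 (iv D12734) D12733
theorem F54192 : act 6 n13735 = n12739 := d34_1 D13735 (iv D12739) (iv F50167)
theorem F54193 : act 7 n13735 = n13131 := d35_1 D13735 (iv D13131) F47613 (iv F47397) (iv F50168)
def n13736 : Q := act 6 n12735
theorem D13736 : act 6 n12735 = n13736 := rfl
theorem F54194 : act 0 n13736 = n12909 := d5_1 D13736 (iv D12909) (iv F50175)
theorem F54195 : act 1 n13736 = n12781 := d12_1 D13736 (iv D12781) (iv F50176)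
theorem F54196 : act 4 n13736 = n13736 := d27_1 D13736 (iv D13736) F50177
theorem F54197 : act 5 n13736 = n12741 := d30_1 D13736 (iv D12741) (iv D11725) (iv F46155) D12735
theorem F54198 : act 7 n13736 = n13090 := d33_2 (iv F50178) D13736 (iv D13090)
def n13737 : Q := act 8 n12735
theorem D13737 : act 8 n12735 = n13737 := rfl
theorem F54199 : act 0 n13737 = n12910 := d7_1 D13737 (iv D12910) (iv F50175)
theorem F54200 : act 1 n13737 = n12782 := d14_1 D13737 (iv D12782) (iv F50176)
theorem F54201 : act 4 n13737 = n13737 := d29_1 D13737 (iv D13737) F50177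
theorem F54202 : act 5 n13737 = n12736 := d32_1 D13737 (iv D12736) D12735
theorem F54203 : act 7 n13737 = n13133 := d35_1 D13737 (iv D13133) F47619 (iv F47402) (iv F50178)
def n13738 : Q := act 5 n12737
theorem D13738 : act 5 n12737 = n13738 := rfl
theorem F54204 : act 0 n13738 = n12912 := d4_1 D13738 (iv D12912) (iv F50184)
theorem F54205 : act 1 n13738 = n13738 := d11_1 D13738 (iv D13738) F50185
theorem F54206 : act 3 n13738 = n12738 := d22_1 D13738 (iv D12738) D12737
def n13739 : Q := act 7 n12737
theorem D13739 : act 7 n12737 = n13739 := rfl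
theorem F54207 : act 0 n13739 = n12913 := d6_1 D13739 (iv D12913) (iv F50184)
theorem F54208 : act 1 n13739 = n13739 := d13_1 D13739 (iv D13739) F50185
theorem F54209 : act 3 n13739 = n13092 := d24_1 D13739 (iv D13092) (iv D12066) (iv F46166) D12737
def n13740 : Q := act 8 n12737
theorem D13740 : act 8 n12737 = n13740 := rfl
theorem F54210 : act 0 n13740 = n12914 := d7_1 D13740 (iv D12914) (iv F50184)
theorem F54211 : act 1 n13740 = n13740 := d14_1 D13740 (iv D13740) F50185
theorem F54212 : act 3 n13740 = n12739 := d25_1 D13740 (iv D12739) D12737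
def n13741 : Q := act 6 n12738
theorem D13741 : act 6 n12738 = n13741 := rfl
theorem F54213 : act 0 n13741 = n12915 := d5_1 D13741 (iv D12915) (iv F50186)
theorem F54214 : act 1 n13741 = n13741 := d12_1 D13741 (iv D13741) F50187
theorem F54215 : act 2 n13741 = n12741 := d18_1 D13741 (iv D12741) (iv F50188)
theorem F54216 : act 4 n13741 = n12747 := d27_1 D13741 (iv D12747) (iv F50189)
theorem F54217 : act 7 n13741 = n13094 := d33_2 (iv F50190) D13741 (iv D13094)
def n13742 : Q := act 8 n12738
theorem D13742 : act 8 n12738 = n13742 := rfl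
theorem F54218 : act 0 n13742 = n12916 := d7_1 D13742 (iv D12916) (iv F50186)
theorem F54219 : act 1 n13742 = n13742 := d14_1 D13742 (iv D13742) F50187
theorem F54220 : act 2 n13742 = n12742 := d20_1 D13742 (iv D12742) (iv F50188)
theorem F54221 : act 4 n13742 = n12748 := d29_1 D13742 (iv D12748) (iv F50189)
theorem F54222 : act 5 n13742 = n12739 := d32_1 D13742 (iv D12739) D12738
def n13743 : Q := act 7 n12739
theorem D13743 : act 7 n12739 = n13743 := rfl
theorem F54223 : act 0 n13743 = n12917 := d6_1 D13743 (iv D12917) (iv F50191)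
theorem F54224 : act 1 n13743 = n13743 := d13_1 D13743 (iv D13743) F50192
theorem F54225 : act 2 n13743 = n12743 := d19_1 D13743 (iv D12743) (iv F50193)
theorem F54226 : act 4 n13743 = n12740 := d28_1 D13743 (iv D12740) (iv F50194)
theorem F54227 : act 6 n13743 = n13131 := d33_1 D13743 (iv F54193) F54192
theorem F54228 : act 8 n13743 = n13096 := d35_2 D12739 D13743 (iv D13096) (iv D12068) (iv F46166)
def n13744 : Q := act 3 n12740
theorem D13744 : act 3 n12740 = n13744 := rfl
theorem F54229 : act 0 n13744 = n12918 := d2_1 D13744 (iv D12918) (iv F50195)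
theorem F54230 : act 1 n13744 = n13744 := d9_1 D13744 (iv D13744) F50196
theorem F54231 : act 2 n13744 = n13123 := d15_1 D13744 F51650 F47600 (iv F46180) (iv F50197)
theorem F54232 : act 5 n13744 = n12750 := d22_2 (iv F50198) D13744 (iv D12750)
theorem F54233 : act 6 n13744 = n13125 := d23_2 (iv F50199) D13744 F51658
theorem F54234 : act 8 n13744 = n13097 := d25_2 (iv F50200) D13744 (iv D13097)
def n13745 : Q := act 8 n12741
theorem D13745 : act 8 n12741 = n13745 := rfl
theorem F54235 : act 0 n13745 = n12919 := d7_1 D13745 (iv D12919) (iv F50201)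
theorem F54236 : act 1 n13745 = n12783 := d14_1 D13745 (iv D12783) (iv F50202)
theorem F54237 : act 4 n13745 = n12751 := d29_1 D13745 (iv D12751) (iv F50203)
theorem F54238 : act 6 n13745 = n12742 := d34_1 D13745 (iv D12742) D12741
def n13746 : Q := act 7 n12742
theorem D13746 : act 7 n12742 = n13746 := rfl
theorem F54239 : act 0 n13746 = n12920 := d6_1 D13746 (iv D12920) (iv F50205)
theorem F54240 : act 1 n13746 = n12784 := d13_1 D13746 (iv D12784) (iv F50206)
theorem F54241 : act 4 n13746 = n12752 := d28_1 D13746 (iv D12752) (iv F50207)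
theorem F54242 : act 5 n13746 = n12743 := d31_1 D13746 (iv D12743) (iv F50208)
theorem F54243 : act 8 n13746 = n13099 := d35_2 D12742 D13746 (iv D13099) (iv D12071) (iv F46174)
def n13747 : Q := act 3 n12743
theorem D13747 : act 3 n12743 = n13747 := rfl
theorem F54244 : act 0 n13747 = n12921 := d2_1 D13747 (iv D12921) (iv F50209)
theorem F54245 : act 1 n13747 = n12785 := d9_1 D13747 (iv D12785) (iv F50210)
theorem F54246 : act 4 n13747 = n12883 := d21_2 (iv F50211) D13747 F50717 F46649 (iv F46180)
theorem F54247 : act 6 n13747 = n12888 := d23_2 (iv F50212) D13747 F50729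
theorem F54248 : act 8 n13747 = n12882 := d25_2 (iv F50213) D13747 F50713
def n13748 : Q := act 4 n12744
theorem D13748 : act 4 n12744 = n13748 := rfl
theorem F54249 : act 0 n13748 = n12922 := d3_1 D13748 (iv D12922) (iv F50214)
theorem F54250 : act 1 n13748 = n13748 := d10_1 D13748 (iv D13748) F50215
def n13749 : Q := act 6 n12744
theorem D13749 : act 6 n12744 = n13749 := rfl
theorem F54251 : act 0 n13749 = n12923 := d5_1 D13749 (iv D12923) (iv F50214)
theorem F54252 : act 1 n13749 = n13749 := d12_1 D13749 (iv D13749) F50215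
theorem F54253 : act 3 n13749 = n12747 := d23_1 D13749 (iv D12747) (iv F50216)
theorem F54254 : act 5 n13749 = n13749 := d30_1 D13749 (iv D13749) (iv D12744) F46186 D12744
def n13750 : Q := act 7 n12744
theorem D13750 : act 7 n12744 = n13750 := rfl
theorem F54255 : act 0 n13750 = n12924 := d6_1 D13750 (iv D12924) (iv F50214)
theorem F54256 : act 1 n13750 = n13750 := d13_1 D13750 (iv D13750) F50215
theorem F54257 : act 3 n13750 = n13102 := d24_1 D13750 (iv D13102) F47435 (iv F46190) (iv F50216)
theorem F54258 : act 5 n13750 = n12745 := d31_1 D13750 (iv D12745) D12744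
def n13751 : Q := act 8 n12744
theorem D13751 : act 8 n12744 = n13751 := rfl
theorem F54259 : act 0 n13751 = n12925 := d7_1 D13751 (iv D12925) (iv F50214)
theorem F54260 : act 1 n13751 = n13751 := d14_1 D13751 (iv D13751) F50215
theorem F54261 : act 3 n13751 = n12748 := d25_1 D13751 (iv D12748) (iv F50216)
theorem F54262 : act 5 n13751 = n12746 := d32_1 D13751 (iv D12746) D12744
def n13752 : Q := act 8 n12747
theorem D13752 : act 8 n12747 = n13752 := rfl
theorem F54263 : act 0 n13752 = n12928 := d7_1 D13752 (iv D12928) (iv F50225)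
theorem F54264 : act 1 n13752 = n13752 := d14_1 D13752 (iv D13752) F50226
theorem F54265 : act 2 n13752 = n12751 := d20_1 D13752 (iv D12751) (iv F50227)
theorem F54266 : act 5 n13752 = n13752 := d32_1 D13752 (iv D13752) F50228
theorem F54267 : act 6 n13752 = n12748 := d34_1 D13752 (iv D12748) D12747
def n13753 : Q := act 7 n12748
theorem D13753 : act 7 n12748 = n13753 := rfl
theorem F54268 : act 0 n13753 = n12929 := d6_1 D13753 (iv D12929) (iv F50230)
theorem F54269 : act 1 n13753 = n13753 := d13_1 D13753 (iv D13753) F50231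
theorem F54270 : act 2 n13753 = n12752 := d19_1 D13753 (iv D12752) (iv F50232)
theorem F54271 : act 5 n13753 = n12749 := d31_1 D13753 (iv D12749) (iv F50233)
theorem F54272 : act 8 n13753 = n13105 := d35_2 D12748 D13753 (iv D13105) (iv D12077) (iv F46190)
def n13754 : Q := act 7 n12751
theorem D13754 : act 7 n12751 = n13754 := rfl
theorem F54273 : act 0 n13754 = n12932 := d6_1 D13754 (iv D12932) (iv F50244)
theorem F54274 : act 1 n13754 = n12786 := d13_1 D13754 (iv D12786) (iv F50245)
theorem F54275 : act 5 n13754 = n13754 := d31_1 D13754 (iv D13754) F50246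
theorem F54276 : act 6 n13754 = n12752 := d33_1 D13754 (iv D12752) (iv F50247)
theorem F54277 : act 8 n13754 = n13106 := d35_2 D12751 D13754 (iv D13106) (iv D12080) (iv F46204)
def n13755 : Q := act 3 n12752
theorem D13755 : act 3 n12752 = n13755 := rfl
theorem F54278 : act 0 n13755 = n12933 := d2_1 D13755 (iv D12933) (iv F50248)
theorem F54279 : act 1 n13755 = n12787 := d9_1 D13755 (iv D12787) (iv F50249)
theorem F54280 : act 5 n13755 = n12753 := d22_2 (iv F50250) D13755 (iv D12753)
theorem F54281 : act 8 n13755 = n13107 := d25_2 (iv F50251) D13755 (iv D13107)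
def n13756 : Q := act 8 n12754
theorem D13756 : act 8 n12754 = n13756 := rfl
theorem F54282 : act 0 n13756 = n12794 := d7_1 D13756 (iv D12794) (iv F50256)
theorem F54283 : act 3 n13756 = n12755 := d25_1 D13756 (iv D12755) D12754
theorem F54284 : act 5 n13756 = n12757 := d32_1 D13756 (iv D12757) (iv F50257)
def n13757 : Q := act 1 n12756
theorem D13757 : act 1 n12756 = n13757 := rfl
theorem F54285 : act 0 n13757 = n13228 := d0_1 D13757 (iv D13228) F48073 (iv F46328) (iv F50264)
theorem F54286 : act 3 n13757 = n13757 := d9_2 F50265 D13757 (iv D13757)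
theorem F54287 : act 4 n13757 = n13161 := d10_2 (iv F50266) D13757 (iv D13161)
theorem F54288 : act 6 n13757 = n12758 := d12_2 (iv F50267) D13757 (iv D12758)
theorem F54289 : act 7 n13757 = n12766 := d13_2 (iv F50268) D13757 (iv D12766)
def n13758 : Q := act 8 n12756
theorem D13758 : act 8 n12756 = n13758 := rfl
theorem F54290 : act 0 n13758 = n12795 := d7_1 D13758 (iv D12795) (iv F50264)
theorem F54291 : act 2 n13758 = n12757 := d20_1 D13758 (iv D12757) D12756
theorem F54292 : act 3 n13758 = n13758 := d25_1 D13758 (iv D13758) F50265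
theorem F54293 : act 4 n13758 = n12964 := d29_1 D13758 F50989 (iv F50266)
theorem F54294 : act 6 n13758 = n12760 := d34_1 D13758 (iv D12760) (iv F50267)
def n13759 : Q := act 7 n12757
theorem D13759 : act 7 n12757 = n13759 := rfl
theorem F54295 : act 0 n13759 = n12796 := d6_1 D13759 (iv D12796) (iv F50269)
theorem F54296 : act 3 n13759 = n12864 := d24_1 D13759 (iv D12864) F46568 (iv F46225) (iv F50270)
theorem F54297 : act 4 n13759 = n12959 := d28_1 D13759 F50968 (iv F50271)
theorem F54298 : act 6 n13759 = n12763 := d33_1 D13759 (iv D12763) (iv F50272)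
theorem F54299 : act 8 n13759 = n12771 := d35_2 D12757 D13759 (iv D12771) (iv D11745) (iv F46220)
def n13760 : Q := act 0 n12758
theorem D13760 : act 0 n12758 = n13760 := rfl
theorem F54300 : act 1 n13760 = n12797 := d0_2 D12758 D13760 (iv D12797) (iv D11770) (iv F46226)
theorem F54301 : act 3 n13760 = n13760 := d2_2 F50273 D13760 (iv D13760)
theorem F54302 : act 6 n13760 = n13228 := d5_2 F54288 D13760 (iv F54285)
theorem F54303 : act 7 n13760 = n12772 := d6_2 (iv F50274) D13760 (iv D12772)
def n13761 : Q := act 4 n12758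
theorem D13761 : act 4 n12758 = n13761 := rfl
theorem F54304 : act 1 n13761 = n12759 := d10_1 D13761 (iv D12759) D12758
theorem F54305 : act 6 n13761 = n13161 := d27_2 F54288 D13761 (iv F54287)
theorem F54306 : act 7 n13761 = n12773 := d28_2 (iv F50274) D13761 (iv D12773)
theorem F54307 : act 3 n13199 = n13761 := d23_3 F54305 F51780 (iv F51951)
def n13762 : Q := act 8 n12758
theorem D13762 : act 8 n12758 = n13762 := rfl
theorem F54308 : act 1 n13762 = n12760 := d14_1 D13762 (iv D12760) D12758
theorem F54309 : act 3 n13762 = n13762 := d25_1 D13762 (iv D13762) F50273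
def n13763 : Q := act 8 n12759
theorem D13763 : act 8 n12759 = n13763 := rfl
theorem F54310 : act 0 n13763 = n12799 := d7_1 D13763 (iv D12799) (iv F50275)
theorem F54311 : act 2 n13763 = n12762 := d20_1 D13763 (iv D12762) (iv F50276)
theorem F54312 : act 3 n13763 = n13067 := d25_1 D13763 F51393 F50279
theorem F54313 : act 4 n13763 = n12760 := d29_1 D13763 (iv D12760) D12759
theorem F54314 : act 6 n13763 = n12964 := d34_1 D13763 F50989 (iv F50277)
def n13764 : Q := act 7 n12760
theorem D13764 : act 7 n12760 = n13764 := rfl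
theorem F54315 : act 0 n13764 = n12800 := d6_1 D13764 (iv D12800) (iv F50280)
theorem F54316 : act 2 n13764 = n12763 := d19_1 D13764 (iv D12763) (iv F50281)
theorem F54317 : act 8 n13764 = n12777 := d35_2 D12760 D13764 (iv D12777) (iv D11748) (iv F46228)
def n13765 : Q := act 8 n12761
theorem D13765 : act 8 n12761 = n13765 := rfl
theorem F54318 : act 0 n13765 = n12801 := d7_1 D13765 (iv D12801) (iv F50283)
theorem F54319 : act 3 n13765 = n12961 := d25_1 D13765 F50978 (iv F50284)
theorem F54320 : act 5 n13765 = n12762 := d32_1 D13765 (iv D12762) D12761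
def n13766 : Q := act 7 n12762
theorem D13766 : act 7 n12762 = n13766 := rfl
theorem F54321 : act 0 n13766 = n12802 := d6_1 D13766 (iv D12802) (iv F50286)
theorem F54322 : act 3 n13766 = n12948 := d24_1 D13766 (iv D12948) F46790 D11919 (iv F50287)
theorem F54323 : act 4 n13766 = n12763 := d28_1 D13766 (iv D12763) (iv F50288)
theorem F54324 : act 6 n13766 = n12959 := d33_1 D13766 F50968 (iv F50289)
theorem F54325 : act 8 n13766 = n12780 := d35_2 D12762 D13766 (iv D12780) (iv D11750) (iv F46232)
def n13767 : Q := act 8 n12764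
theorem D13767 : act 8 n12764 = n13767 := rfl
theorem F54326 : act 0 n13767 = n12803 := d7_1 D13767 (iv D12803) (iv F50292)
theorem F54327 : act 3 n13767 = n13767 := d25_1 D13767 (iv D13767) F50293
theorem F54328 : act 4 n13767 = n12765 := d29_1 D13767 (iv D12765) D12764
def n13768 : Q := act 7 n12765
theorem D13768 : act 7 n12765 = n13768 := rfl
theorem F54329 : act 0 n13768 = n12804 := d6_1 D13768 (iv D12804) (iv F50294)
theorem F54330 : act 5 n13768 = n12771 := d31_1 D13768 (iv D12771) (iv F50296)
def n13769 : Q := act 4 n12766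
theorem D13769 : act 4 n12766 = n13769 := rfl
theorem F54331 : act 0 n13769 = n13232 := d3_1 D13769 (iv D13232) (iv F50297)
theorem F54332 : act 1 n13769 = n12767 := d10_1 D13769 (iv D12767) D12766
theorem F54333 : act 3 n13769 = n13769 := d21_1 D13769 (iv D13769) F50298 F46298 (iv F50298)
theorem F54334 : act 6 n13769 = n12773 := d27_2 (iv F50299) D13769 (iv D12773)
theorem F54335 : act 7 n13769 = n13161 := d28_2 F54289 D13769 (iv F54287)
def n13770 : Q := act 8 n12766
theorem D13770 : act 8 n12766 = n13770 := rfl
theorem F54336 : act 0 n13770 = n13233 := d7_1 D13770 (iv D13233) (iv F50297)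
theorem F54337 : act 1 n13770 = n12768 := d14_1 D13770 (iv D12768) D12766
theorem F54338 : act 3 n13770 = n12789 := d25_1 D13770 (iv D12789) (iv F50298)
theorem F54339 : act 6 n13770 = n12774 := d34_1 D13770 (iv D12774) (iv F50299)
def n13771 : Q := act 8 n12767
theorem D13771 : act 8 n12767 = n13771 := rfl
theorem F54340 : act 0 n13771 = n12805 := d7_1 D13771 (iv D12805) (iv F50300)
theorem F54341 : act 2 n13771 = n12770 := d20_1 D13771 (iv D12770) (iv F50301)
theorem F54342 : act 3 n13771 = n13771 := d25_1 D13771 (iv D13771) F50302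
theorem F54343 : act 4 n13771 = n12768 := d29_1 D13771 (iv D12768) D12767
theorem F54344 : act 6 n13771 = n12776 := d34_1 D13771 (iv D12776) (iv F50303)
def n13772 : Q := act 7 n12768
theorem D13772 : act 7 n12768 = n13772 := rfl
theorem F54345 : act 0 n13772 = n12806 := d6_1 D13772 (iv D12806) (iv F50305)
theorem F54346 : act 2 n13772 = n12771 := d19_1 D13772 (iv D12771) (iv F50306)
theorem F54347 : act 6 n13772 = n12777 := d33_1 D13772 (iv D12777) (iv F50308)
def n13773 : Q := act 8 n12769
theorem D13773 : act 8 n12769 = n13773 := rfl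
theorem F54348 : act 0 n13773 = n12807 := d7_1 D13773 (iv D12807) (iv F50309)
theorem F54349 : act 3 n13773 = n12782 := d25_1 D13773 (iv D12782) (iv F50310)
theorem F54350 : act 5 n13773 = n12770 := d32_1 D13773 (iv D12770) D12769
def n13774 : Q := act 7 n12770
theorem D13774 : act 7 n12770 = n13774 := rfl
theorem F54351 : act 0 n13774 = n12808 := d6_1 D13774 (iv D12808) (iv F50312)
theorem F54352 : act 3 n13774 = n12945 := d24_1 D13774 (iv D12945) F46781 (iv F46272) (iv F50313)
theorem F54353 : act 4 n13774 = n12771 := d28_1 D13774 (iv D12771) (iv F50314)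
theorem F54354 : act 6 n13774 = n12780 := d33_1 D13774 (iv D12780) (iv F50315)
theorem F54355 : act 8 n13774 = n12959 := d35_2 D12770 D13774 F50968 F46847 (iv F46247)
def n13775 : Q := act 4 n12772
theorem D13775 : act 4 n12772 = n13775 := rfl
theorem F54356 : act 0 n13775 = n12773 := d3_1 D13775 (iv D12773) D12772
theorem F54357 : act 1 n13775 = n12809 := d10_1 D13775 (iv D12809) (iv F50318)
theorem F54358 : act 3 n13775 = n13775 := d21_1 D13775 (iv D13775) F50319 F46311 (iv F50319)
theorem F54359 : act 6 n13775 = n13232 := d27_2 (iv F50320) D13775 (iv D13232)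
def n13776 : Q := act 8 n12772
theorem D13776 : act 8 n12772 = n13776 := rfl
theorem F54360 : act 0 n13776 = n12774 := d7_1 D13776 (iv D12774) D12772
theorem F54361 : act 1 n13776 = n12810 := d14_1 D13776 (iv D12810) (iv F50318)
theorem F54362 : act 3 n13776 = n12791 := d25_1 D13776 (iv D12791) (iv F50319)
theorem F54363 : act 6 n13776 = n13233 := d34_1 D13776 (iv D13233) (iv F50320)
def n13777 : Q := act 5 n12773
theorem D13777 : act 5 n12773 = n13777 := rfl
theorem F54364 : act 1 n13777 = n12775 := d11_1 D13777 (iv D12775) (iv F50321)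
theorem F54365 : act 3 n13777 = n13777 := d22_1 D13777 (iv D13777) F50322
def n13778 : Q := act 8 n12773
theorem D13778 : act 8 n12773 = n13778 := rfl
theorem F54366 : act 1 n13778 = n12776 := d14_1 D13778 (iv D12776) (iv F50321)
theorem F54367 : act 3 n13778 = n13778 := d25_1 D13778 (iv D13778) F50322
theorem F54368 : act 4 n13778 = n12774 := d29_1 D13778 (iv D12774) D12773
def n13779 : Q := act 7 n12774
theorem D13779 : act 7 n12774 = n13779 := rfl
theorem F54369 : act 1 n13779 = n12777 := d13_1 D13779 (iv D12777) (iv F50323)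
def n13780 : Q := act 8 n12775
theorem D13780 : act 8 n12775 = n13780 := rfl
theorem F54370 : act 0 n13780 = n12813 := d7_1 D13780 (iv D12813) (iv F50325)
theorem F54371 : act 2 n13780 = n12779 := d20_1 D13780 (iv D12779) (iv F50326)
theorem F54372 : act 3 n13780 = n13780 := d25_1 D13780 (iv D13780) F50327
theorem F54373 : act 5 n13780 = n12776 := d32_1 D13780 (iv D12776) D12775
def n13781 : Q := act 7 n12776
theorem D13781 : act 7 n12776 = n13781 := rfl
theorem F54374 : act 0 n13781 = n12814 := d6_1 D13781 (iv D12814) (iv F50328)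
theorem F54375 : act 2 n13781 = n12780 := d19_1 D13781 (iv D12780) (iv F50329)
theorem F54376 : act 4 n13781 = n12777 := d28_1 D13781 (iv D12777) (iv F50331)
def n13782 : Q := act 3 n12777
theorem D13782 : act 3 n12777 = n13782 := rfl
theorem F54377 : act 0 n13782 = n12815 := d2_1 D13782 (iv D12815) (iv F50332)
theorem F54378 : act 7 n13782 = n12793 := d24_2 D12777 D13782 (iv D12793) (iv D11765) (iv F46257)
def n13783 : Q := act 8 n12778
theorem D13783 : act 8 n12778 = n13783 := rfl
theorem F54379 : act 0 n13783 = n12816 := d7_1 D13783 (iv D12816) (iv F50334)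
theorem F54380 : act 3 n13783 = n12783 := d25_1 D13783 (iv D12783) (iv F50335)
theorem F54381 : act 6 n13783 = n12779 := d34_1 D13783 (iv D12779) D12778
def n13784 : Q := act 7 n12779
theorem D13784 : act 7 n12779 = n13784 := rfl
theorem F54382 : act 0 n13784 = n12817 := d6_1 D13784 (iv D12817) (iv F50336)
theorem F54383 : act 5 n13784 = n12780 := d31_1 D13784 (iv D12780) (iv F50338)
def n13785 : Q := act 3 n12780
theorem D13785 : act 3 n12780 = n13785 := rfl
theorem F54384 : act 0 n13785 = n12818 := d2_1 D13785 (iv D12818) (iv F50339)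
theorem F54385 : act 4 n13785 = n12936 := d21_2 (iv F50340) D13785 (iv F54002) F54003 F50006
theorem F54386 : act 6 n13785 = n12945 := d23_2 F54354 D13785 (iv F54352)
theorem F54387 : act 7 n13785 = n12785 := d24_2 D12780 D13785 (iv D12785) (iv D11756) (iv F46261)
theorem F54388 : act 8 n13785 = n12948 := d25_2 F54325 D13785 (iv F54322)
theorem F54389 : act 2 n13295 = n13785 := d20_3 F54388 F50931 (iv F52277)
def n13786 : Q := act 8 n12781
theorem D13786 : act 8 n12781 = n13786 := rfl
theorem F54390 : act 0 n13786 = n12819 := d7_1 D13786 (iv D12819) (iv F50341)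
theorem F54391 : act 2 n13786 = n13786 := d20_1 D13786 (iv D13786) F50342
theorem F54392 : act 4 n13786 = n13786 := d29_1 D13786 (iv D13786) F50343
theorem F54393 : act 5 n13786 = n12783 := d32_1 D13786 (iv D12783) (iv F50344)
theorem F54394 : act 6 n13786 = n12782 := d34_1 D13786 (iv D12782) D12781
theorem F54395 : act 7 n13786 = n13160 := d35_1 D13786 (iv D13160) F47729 (iv F47491) (iv F50345)
def n13787 : Q := act 7 n12783
theorem D13787 : act 7 n12783 = n13787 := rfl
theorem F54396 : act 0 n13787 = n12820 := d6_1 D13787 (iv D12820) (iv F50351)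
theorem F54397 : act 2 n13787 = n13787 := d19_1 D13787 (iv D13787) F50352
theorem F54398 : act 4 n13787 = n12786 := d28_1 D13787 (iv D12786) (iv F50353)
theorem F54399 : act 5 n13787 = n13160 := d31_1 D13787 (iv F54395) F54393
theorem F54400 : act 6 n13787 = n12784 := d33_1 D13787 (iv D12784) (iv F50354)
theorem F54401 : act 8 n13787 = n13109 := d35_2 D12783 D13787 (iv D13109) (iv D12086) (iv F46276)
def n13788 : Q := act 3 n12784
theorem D13788 : act 3 n12784 = n13788 := rfl
theorem F54402 : act 0 n13788 = n12821 := d2_1 D13788 (iv D12821) (iv F50355)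
theorem F54403 : act 5 n13788 = n12785 := d22_2 (iv F50358) D13788 (iv D12785)
theorem F54404 : act 8 n13788 = n12935 := d25_2 (iv F50359) D13788 F50883
theorem F54405 : act 2 n13294 = n13788 := d20_3 F54404 F50882 D13294
def n13789 : Q := act 7 n12789
theorem D13789 : act 7 n12789 = n13789 := rfl
theorem F54406 : act 0 n13789 = n13244 := d6_1 D13789 (iv D13244) (iv F50377)
theorem F54407 : act 1 n13789 = n12790 := d13_1 D13789 (iv D12790) (iv F50378)
theorem F54408 : act 4 n13789 = n13789 := d28_1 D13789 (iv D13789) F50379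
theorem F54409 : act 6 n13789 = n12792 := d33_1 D13789 (iv D12792) (iv F50380)
theorem F54410 : act 8 n13789 = n13789 := d35_2 D12789 D13789 (iv D13789) (iv D12789) F46300
def n13790 : Q := act 3 n12790
theorem D13790 : act 3 n12790 = n13790 := rfl
theorem F54411 : act 0 n13790 = n12822 := d2_1 D13790 (iv D12822) (iv F50381)
theorem F54412 : act 6 n13790 = n12793 := d23_2 (iv F50384) D13790 (iv D12793)
theorem F54413 : act 8 n13790 = n13790 := d25_2 F50385 D13790 (iv D13790)
def n13791 : Q := act 7 n12791
theorem D13791 : act 7 n12791 = n13791 := rfl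
theorem F54414 : act 0 n13791 = n12792 := d6_1 D13791 (iv D12792) (iv F50386)
theorem F54415 : act 1 n13791 = n12823 := d13_1 D13791 (iv D12823) (iv F50387)
theorem F54416 : act 2 n13791 = n13789 := d19_1 D13791 (iv D13789) (iv F50388)
theorem F54417 : act 4 n13791 = n13791 := d28_1 D13791 (iv D13791) F50389
theorem F54418 : act 6 n13791 = n13244 := d33_1 D13791 (iv D13244) (iv F50390)
theorem F54419 : act 8 n13791 = n13791 := d35_2 D12791 D13791 (iv D13791) (iv D12791) F46313
def n13792 : Q := act 3 n12792
theorem D13792 : act 3 n12792 = n13792 := rfl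
theorem F54420 : act 1 n13792 = n12793 := d9_1 D13792 (iv D12793) (iv F50391)
theorem F54421 : act 8 n13792 = n13792 := d25_2 F50393 D13792 (iv D13792)
def n13793 : Q := act 4 n12793
theorem D13793 : act 4 n12793 = n13793 := rfl
theorem F54422 : act 0 n13793 = n12825 := d3_1 D13793 (iv D12825) (iv F50394)
theorem F54423 : act 3 n13793 = n13793 := d21_1 D13793 (iv D13793) (iv D12793) F46318 D12793
theorem F54424 : act 8 n13793 = n13793 := d29_2 F50395 D13793 (iv D13793)
def n13794 : Q := act 7 n12794
theorem D13794 : act 7 n12794 = n13794 := rfl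
theorem F54425 : act 1 n13794 = n12868 := d13_1 D13794 (iv D12868) (iv F50396)
theorem F54426 : act 3 n13794 = n12871 := d24_1 D13794 (iv D12871) F46611 (iv F46327) (iv F50397)
theorem F54427 : act 5 n13794 = n12796 := d31_1 D13794 (iv D12796) (iv F50398)
theorem F54428 : act 8 n13794 = n12804 := d35_2 D12794 D13794 (iv D12804) (iv D11777) (iv F46322)
def n13795 : Q := act 7 n12795
theorem D13795 : act 7 n12795 = n13795 := rfl
theorem F54429 : act 1 n13795 = n13246 := d13_1 D13795 (iv D13246) (iv F50399)
theorem F54430 : act 2 n13795 = n12796 := d19_1 D13795 (iv D12796) (iv F50400)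
theorem F54431 : act 4 n13795 = n12986 := d28_1 D13795 F51053 (iv F50402)
theorem F54432 : act 6 n13795 = n12800 := d33_1 D13795 (iv D12800) (iv F50403)
theorem F54433 : act 8 n13795 = n12806 := d35_2 D12795 D13795 (iv D12806) (iv D11779) (iv F46332)
def n13796 : Q := act 8 n12797
theorem D13796 : act 8 n12797 = n13796 := rfl
theorem F54434 : act 0 n13796 = n12798 := d7_1 D13796 (iv D12798) D12797
theorem F54435 : act 2 n13796 = n12967 := d20_1 D13796 (iv D12967) (iv F50409)
theorem F54436 : act 3 n13796 = n13796 := d25_1 D13796 (iv D13796) F50410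
theorem F54437 : act 6 n13796 = n13229 := d34_1 D13796 (iv D13229) (iv F50411)
def n13797 : Q := act 7 n12798
theorem D13797 : act 7 n12798 = n13797 := rfl
theorem F54438 : act 1 n13797 = n12800 := d13_1 D13797 (iv D12800) (iv F50413)
theorem F54439 : act 2 n13797 = n12969 := d19_1 D13797 (iv D12969) (iv F50414)
theorem F54440 : act 6 n13797 = n13246 := d33_1 D13797 (iv D13246) (iv F50416)
theorem F54441 : act 8 n13797 = n12812 := d35_2 D12798 D13797 (iv D12812) (iv D11785) (iv F46340)
def n13798 : Q := act 7 n12799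
theorem D13798 : act 7 n12799 = n13798 := rfl
theorem F54442 : act 2 n13798 = n12802 := d19_1 D13798 (iv D12802) (iv F50417)
theorem F54443 : act 3 n13798 = n13310 := d24_1 D13798 F52320 F48292 (iv F47330) (iv F50418)
theorem F54444 : act 4 n13798 = n12800 := d28_1 D13798 (iv D12800) (iv F50419)
theorem F54445 : act 6 n13798 = n12986 := d33_1 D13798 F51053 (iv F50420)
theorem F54446 : act 8 n13798 = n12814 := d35_2 D12799 D13798 (iv D12814) (iv D11787) (iv F46343)
def n13799 : Q := act 3 n12800
theorem D13799 : act 3 n12800 = n13799 := rfl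
theorem F54447 : act 7 n13799 = n13799 := d24_2 D12800 D13799 (iv D13799) (iv D12800) F46346
theorem F54448 : act 8 n13799 = n12815 := d25_2 (iv F50422) D13799 (iv D12815)
def n13800 : Q := act 7 n12801
theorem D13800 : act 7 n12801 = n13800 := rfl
theorem F54449 : act 1 n13800 = n12973 := d13_1 D13800 (iv D12973) (iv F50423)
theorem F54450 : act 3 n13800 = n12975 := d24_1 D13800 (iv D12975) F46902 D11953 (iv F50424)
theorem F54451 : act 5 n13800 = n12802 := d31_1 D13800 (iv D12802) (iv F50425)
theorem F54452 : act 8 n13800 = n12817 := d35_2 D12801 D13800 (iv D12817) (iv D11790) (iv F46349)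
def n13801 : Q := act 7 n12803
theorem D13801 : act 7 n12803 = n13801 := rfl
theorem F54453 : act 1 n13801 = n12870 := d13_1 D13801 (iv D12870) (iv F50431)
theorem F54454 : act 4 n13801 = n12804 := d28_1 D13801 (iv D12804) (iv F50433)
def n13802 : Q := act 7 n12805
theorem D13802 : act 7 n12805 = n13802 := rfl
theorem F54455 : act 1 n13802 = n13248 := d13_1 D13802 (iv D13248) (iv F50436)
theorem F54456 : act 2 n13802 = n12808 := d19_1 D13802 (iv D12808) (iv F50437)
theorem F54457 : act 4 n13802 = n12806 := d28_1 D13802 (iv D12806) (iv F50439)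
theorem F54458 : act 6 n13802 = n12814 := d33_1 D13802 (iv D12814) (iv F50440)
theorem F54459 : act 8 n13802 = n12986 := d35_2 D12805 D13802 F51053 F46950 (iv F46365)
def n13803 : Q := act 3 n12806
theorem D13803 : act 3 n12806 = n13803 := rfl
theorem F54460 : act 1 n13803 = n13249 := d9_1 D13803 (iv D13249) (iv F50441)
theorem F54461 : act 6 n13803 = n12815 := d23_2 (iv F50443) D13803 (iv D12815)
theorem F54462 : act 7 n13803 = n12822 := d24_2 D12806 D13803 (iv D12822) (iv D11800) (iv F46368)
def n13804 : Q := act 7 n12807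
theorem D13804 : act 7 n12807 = n13804 := rfl
theorem F54463 : act 1 n13804 = n12975 := d13_1 D13804 (iv D12975) (iv F50444)
theorem F54464 : act 3 n13804 = n12973 := d24_1 D13804 (iv D12973) F46894 (iv F46412) (iv F50445)
theorem F54465 : act 5 n13804 = n12808 := d31_1 D13804 (iv D12808) (iv F50446)
theorem F54466 : act 8 n13804 = n12985 := d35_2 D12807 D13804 F51052 F46948 (iv F46372)
def n13805 : Q := act 8 n12809
theorem D13805 : act 8 n12809 = n13805 := rfl
theorem F54467 : act 0 n13805 = n12811 := d7_1 D13805 (iv D12811) (iv F50452)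
theorem F54468 : act 2 n13805 = n12977 := d20_1 D13805 (iv D12977) (iv F50453)
theorem F54469 : act 3 n13805 = n13805 := d25_1 D13805 (iv D13805) F50454
theorem F54470 : act 4 n13805 = n12810 := d29_1 D13805 (iv D12810) D12809
theorem F54471 : act 6 n13805 = n13234 := d34_1 D13805 (iv D13234) (iv F50455)
def n13806 : Q := act 7 n12810
theorem D13806 : act 7 n12810 = n13806 := rfl
theorem F54472 : act 0 n13806 = n12812 := d6_1 D13806 (iv D12812) (iv F50456)
theorem F54473 : act 2 n13806 = n12978 := d19_1 D13806 (iv D12978) (iv F50457)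
theorem F54474 : act 6 n13806 = n13235 := d33_1 D13806 (iv D13235) (iv F50459)
def n13807 : Q := act 7 n12811
theorem D13807 : act 7 n12811 = n13807 := rfl
theorem F54475 : act 1 n13807 = n12814 := d13_1 D13807 (iv D12814) (iv F50460)
theorem F54476 : act 2 n13807 = n12980 := d19_1 D13807 (iv D12980) (iv F50461)
theorem F54477 : act 4 n13807 = n12812 := d28_1 D13807 (iv D12812) (iv F50463)
theorem F54478 : act 6 n13807 = n13248 := d33_1 D13807 (iv D13248) (iv F50464)
def n13808 : Q := act 3 n12812
theorem D13808 : act 3 n12812 = n13808 := rfl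
theorem F54479 : act 1 n13808 = n12815 := d9_1 D13808 (iv D12815) (iv F50465)
theorem F54480 : act 6 n13808 = n13249 := d23_2 (iv F50467) D13808 (iv D13249)
theorem F54481 : act 7 n13808 = n12824 := d24_2 D12812 D13808 (iv D12824) (iv D11802) (iv F46388)
def n13809 : Q := act 7 n12813
theorem D13809 : act 7 n12813 = n13809 := rfl
theorem F54482 : act 2 n13809 = n12817 := d19_1 D13809 (iv D12817) (iv F50468)
theorem F54483 : act 5 n13809 = n12814 := d31_1 D13809 (iv D12814) (iv F50470)
def n13810 : Q := act 3 n12814
theorem D13810 : act 3 n12814 = n13810 := rfl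
theorem F54484 : act 2 n13810 = n13307 := d15_1 D13810 (iv D13307) F50484 (iv D12818) (iv F50471)
theorem F54485 : act 7 n13810 = n13810 := d24_2 D12814 D13810 (iv D13810) (iv D12814) F46393
theorem F54486 : act 8 n13810 = n13310 := d25_2 F54446 D13810 (iv F54443)
def n13811 : Q := act 4 n12815
theorem D13811 : act 4 n12815 = n13811 := rfl
theorem F54487 : act 7 n13811 = n12825 := d28_2 (iv F50473) D13811 (iv D12825)
def n13812 : Q := act 7 n12816
theorem D13812 : act 7 n12816 = n13812 := rfl
theorem F54488 : act 1 n13812 = n12984 := d13_1 D13812 (iv D12984) (iv F50474)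
theorem F54489 : act 6 n13812 = n12817 := d33_1 D13812 (iv D12817) (iv F50476)
def n13813 : Q := act 3 n12817
theorem D13813 : act 3 n12817 = n13813 := rfl
theorem F54490 : act 1 n13813 = n12985 := d9_1 D13813 (iv D12985) (iv F50477)
theorem F54491 : act 5 n13813 = n12818 := d22_2 (iv F50478) D13813 (iv D12818)
theorem F54492 : act 7 n13813 = n12821 := d24_2 D12817 D13813 (iv D12821) (iv D11795) (iv F46399)
theorem F54493 : act 8 n13813 = n12975 := d25_2 F54452 D13813 (iv F54450)
theorem F54494 : act 2 n13306 = n13813 := d20_3 F54493 F51026 (iv F52314)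
def n13814 : Q := act 4 n12822
theorem D13814 : act 4 n12822 = n13814 := rfl
theorem F54495 : act 1 n13814 = n13255 := d10_1 D13814 (iv D13255) (iv F50501)
theorem F54496 : act 2 n13814 = n13253 := d16_1 D13814 (iv F54042) F54041
theorem F54497 : act 3 n13814 = n13814 := d21_1 D13814 (iv D13814) (iv D12822) F46440 D12822
theorem F54498 : act 5 n13814 = n13254 := d26_2 F54053 D13814 (iv F53124) F53125 (iv F54052)
theorem F54499 : act 6 n13814 = n12825 := d27_2 (iv F50502) D13814 (iv D12825)
theorem F54500 : act 8 n13814 = n13814 := d29_2 F50503 D13814 (iv D13814)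
def n13815 : Q := act 3 n12823
theorem D13815 : act 3 n12823 = n13815 := rfl
theorem F54501 : act 0 n13815 = n12824 := d2_1 D13815 (iv D12824) (iv F50504)
theorem F54502 : act 6 n13815 = n13245 := d23_2 (iv F50507) D13815 (iv D13245)
theorem F54503 : act 8 n13815 = n13815 := d25_2 F50508 D13815 (iv D13815)
def n13816 : Q := act 2 n12826
theorem D13816 : act 2 n12826 = n13816 := rfl
theorem F54504 : act 3 n13816 = n12828 := d15_2 D12826 D13816 (iv D12828) (iv D11807) (iv F46465)
theorem F54505 : act 5 n13816 = n13256 := d17_2 (iv F50515) D13816 (iv D13256)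
theorem F54506 : act 7 n13816 = n13495 := d19_2 (iv F50516) D13816 (iv D13495)
def n13817 : Q := act 4 n12826
theorem D13817 : act 4 n12826 = n13817 := rfl
theorem F54507 : act 0 n13817 = n13529 := d3_1 D13817 (iv F53898) F53896
theorem F54508 : act 1 n13817 = n12991 := d10_1 D13817 (iv D12991) (iv F50514)
theorem F54509 : act 3 n13817 = n13110 := d21_1 D13817 (iv D13110) (iv D12093) (iv F46466) D12826
theorem F54510 : act 6 n13817 = n13399 := d27_2 F53953 D13817 (iv F53952)
theorem F54511 : act 7 n13817 = n13496 := d28_2 (iv F50516) D13817 (iv D13496)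
def n13818 : Q := act 8 n12826
theorem D13818 : act 8 n12826 = n13818 := rfl
theorem F54512 : act 1 n13818 = n12992 := d14_1 D13818 (iv D12992) (iv F50514)
theorem F54513 : act 3 n13818 = n12827 := d25_1 D13818 (iv D12827) D12826
theorem F54514 : act 5 n13818 = n13258 := d32_1 D13818 (iv D13258) (iv F50515)
def n13819 : Q := act 1 n12828
theorem D13819 : act 1 n12828 = n13819 := rfl
theorem F54515 : act 2 n13819 = n12854 := d8_2 D12828 D13819 (iv D12854) (iv D11828) (iv F46468)
theorem F54516 : act 5 n13819 = n12881 := d11_2 (iv F50522) D13819 F50708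
theorem F54517 : act 7 n13819 = n12832 := d13_2 (iv F50523) D13819 (iv D12832)
def n13820 : Q := act 8 n12828
theorem D13820 : act 8 n12828 = n13820 := rfl
theorem F54518 : act 2 n13820 = n12829 := d20_1 D13820 (iv D12829) D12828
theorem F54519 : act 5 n13820 = n13260 := d32_1 D13820 (iv D13260) (iv F50522)
def n13821 : Q := act 7 n12829
theorem D13821 : act 7 n12829 = n13821 := rfl
theorem F54520 : act 1 n13821 = n12856 := d13_1 D13821 (iv D12856) (iv F50524)
theorem F54521 : act 3 n13821 = n12889 := d24_1 D13821 (iv D12889) F46656 (iv F46474) (iv F50525)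
theorem F54522 : act 5 n13821 = n13263 := d31_1 D13821 (iv D13263) (iv F50526)
theorem F54523 : act 8 n13821 = n12837 := d35_2 D12829 D13821 (iv D12837) (iv D11813) (iv F46470)
def n13822 : Q := act 8 n12830
theorem D13822 : act 8 n12830 = n13822 := rfl
theorem F54524 : act 2 n13822 = n12831 := d20_1 D13822 (iv D12831) D12830
theorem F54525 : act 3 n13822 = n13515 := d25_1 D13822 (iv D13515) (iv F50527)
theorem F54526 : act 6 n13822 = n12834 := d34_1 D13822 (iv D12834) (iv F50528)
def n13823 : Q := act 7 n12831
theorem D13823 : act 7 n12831 = n13823 := rfl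
theorem F54527 : act 1 n13823 = n12857 := d13_1 D13823 (iv D12857) (iv F50529)
theorem F54528 : act 3 n13823 = n12894 := d24_1 D13823 (iv D12894) F46663 (iv F46481) (iv F50530)
theorem F54529 : act 6 n13823 = n12837 := d33_1 D13823 (iv D12837) (iv F50531)
def n13824 : Q := act 4 n12832
theorem D13824 : act 4 n12832 = n13824 := rfl
theorem F54530 : act 1 n13824 = n12833 := d10_1 D13824 (iv D12833) D12832
theorem F54531 : act 2 n13824 = n12858 := d16_1 D13824 (iv D12858) (iv F50532)
def n13825 : Q := act 8 n12832
theorem D13825 : act 8 n12832 = n13825 := rfl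
theorem F54532 : act 1 n13825 = n12834 := d14_1 D13825 (iv D12834) D12832
theorem F54533 : act 2 n13825 = n12859 := d20_1 D13825 (iv D12859) (iv F50532)
theorem F54534 : act 3 n13825 = n13521 := d25_1 D13825 (iv D13521) (iv F50533)
theorem F54535 : act 5 n13825 = n12891 := d32_1 D13825 (iv D12891) (iv F50534)
def n13826 : Q := act 3 n12833
theorem D13826 : act 3 n12833 = n13826 := rfl
theorem F54536 : act 2 n13826 = n12839 := d15_1 D13826 (iv D12839) F46502 (iv F46485) (iv F50535)
theorem F54537 : act 4 n13826 = n13522 := d21_2 D12833 D13826 (iv D13522) (iv D12511) (iv F46482)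
def n13827 : Q := act 5 n12833
theorem D13827 : act 5 n12833 = n13827 := rfl
theorem F54538 : act 2 n13827 = n12835 := d17_1 D13827 (iv D12835) (iv F50535)
theorem F54539 : act 4 n13827 = n13265 := d26_1 D13827 (iv D13265) (iv D12263) (iv F46483) D12833
def n13828 : Q := act 8 n12833
theorem D13828 : act 8 n12833 = n13828 := rfl
theorem F54540 : act 2 n13828 = n12836 := d20_1 D13828 (iv D12836) (iv F50535)
theorem F54541 : act 4 n13828 = n12834 := d29_1 D13828 (iv D12834) D12833
def n13829 : Q := act 7 n12834
theorem D13829 : act 7 n12834 = n13829 := rfl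
theorem F54542 : act 2 n13829 = n12837 := d19_1 D13829 (iv D12837) (iv F50536)
theorem F54543 : act 5 n13829 = n13267 := d31_1 D13829 (iv D13267) (iv F50538)
def n13830 : Q := act 8 n12835
theorem D13830 : act 8 n12835 = n13830 := rfl
theorem F54544 : act 1 n13830 = n12863 := d14_1 D13830 (iv D12863) (iv F50539)
theorem F54545 : act 3 n13830 = n12843 := d25_1 D13830 (iv D12843) (iv F50540)
theorem F54546 : act 4 n13830 = n13269 := d29_1 D13830 (iv D13269) (iv F50541)
theorem F54547 : act 5 n13830 = n12836 := d32_1 D13830 (iv D12836) D12835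
def n13831 : Q := act 7 n12836
theorem D13831 : act 7 n12836 = n13831 := rfl
theorem F54548 : act 1 n13831 = n12864 := d13_1 D13831 (iv D12864) (iv F50542)
theorem F54549 : act 4 n13831 = n12837 := d28_1 D13831 (iv D12837) (iv F50544)
def n13832 : Q := act 5 n12839
theorem D13832 : act 5 n12839 = n13832 := rfl
theorem F54550 : act 1 n13832 = n13832 := d11_1 D13832 (iv D13832) F50555
theorem F54551 : act 3 n13832 = n12840 := d22_1 D13832 (iv D12840) D12839
def n13833 : Q := act 7 n12839
theorem D13833 : act 7 n12839 = n13833 := rfl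
theorem F54552 : act 0 n13833 = n13493 := d6_1 D13833 (iv F53954) F53950
theorem F54553 : act 1 n13833 = n13833 := d13_1 D13833 (iv D13833) F50555
theorem F54554 : act 3 n13833 = n13113 := d24_1 D13833 (iv D13113) (iv D12095) (iv F46503) D12839
theorem F54555 : act 4 n13833 = n13537 := d28_1 D13833 (iv D13537) (iv F50556)
theorem F54556 : act 6 n13833 = n13378 := d33_1 D13833 (iv F53901) F53900
def n13834 : Q := act 8 n12839
theorem D13834 : act 8 n12839 = n13834 := rfl
theorem F54557 : act 1 n13834 = n13834 := d14_1 D13834 (iv D13834) F50555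
theorem F54558 : act 3 n13834 = n12841 := d25_1 D13834 (iv D12841) D12839
theorem F54559 : act 4 n13834 = n13538 := d29_1 D13834 (iv D13538) (iv F50556)
def n13835 : Q := act 8 n12840
theorem D13835 : act 8 n12840 = n13835 := rfl
theorem F54560 : act 1 n13835 = n13835 := d14_1 D13835 (iv D13835) F50557
theorem F54561 : act 2 n13835 = n12843 := d20_1 D13835 (iv D12843) (iv F50558)
theorem F54562 : act 4 n13835 = n12848 := d29_1 D13835 (iv D12848) (iv F50559)
theorem F54563 : act 5 n13835 = n12841 := d32_1 D13835 (iv D12841) D12840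
def n13836 : Q := act 3 n12842
theorem D13836 : act 3 n12842 = n13836 := rfl
theorem F54564 : act 0 n13836 = n13123 := d2_1 D13836 F51650 (iv F50564)
theorem F54565 : act 1 n13836 = n13836 := d9_1 D13836 (iv D13836) F50565
theorem F54566 : act 2 n13836 = n12918 := d15_1 D13836 (iv D12918) F46705 (iv F46515) (iv F50566)
theorem F54567 : act 5 n13836 = n12850 := d22_2 (iv F50567) D13836 (iv D12850)
theorem F54568 : act 6 n13836 = n13082 := d23_2 (iv F50568) D13836 F51453
theorem F54569 : act 7 n13836 = n13542 := d24_2 D12842 D13836 (iv D13542) (iv D12524) (iv F46506)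
theorem F54570 : act 8 n13836 = n13079 := d25_2 (iv F50569) D13836 (iv D13079)
def n13837 : Q := act 4 n12844
theorem D13837 : act 4 n12844 = n13837 := rfl
theorem F54571 : act 1 n13837 = n13837 := d10_1 D13837 (iv D13837) F50573
theorem F54572 : act 2 n13837 = n13281 := d16_1 D13837 (iv D13281) (iv F50574)
theorem F54573 : act 5 n13837 = n13546 := d26_2 D12844 D13837 (iv D13546) (iv D12528) (iv F46521)
def n13838 : Q := act 6 n12844
theorem D13838 : act 6 n12844 = n13838 := rfl
theorem F54574 : act 1 n13838 = n13838 := d12_1 D13838 (iv D13838) F50573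
theorem F54575 : act 2 n13838 = n13282 := d18_1 D13838 (iv D13282) (iv F50574)
theorem F54576 : act 3 n13838 = n12847 := d23_1 D13838 (iv D12847) (iv F50575)
theorem F54577 : act 5 n13838 = n13838 := d30_1 D13838 (iv D13838) (iv D12844) F46522 D12844
def n13839 : Q := act 7 n12844
theorem D13839 : act 7 n12844 = n13839 := rfl
theorem F54578 : act 1 n13839 = n13839 := d13_1 D13839 (iv D13839) F50573
theorem F54579 : act 2 n13839 = n13283 := d19_1 D13839 (iv D13283) (iv F50574)
theorem F54580 : act 3 n13839 = n13116 := d24_1 D13839 (iv D13116) F47544 (iv F46525) (iv F50575)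
theorem F54581 : act 5 n13839 = n12845 := d31_1 D13839 (iv D12845) D12844
theorem F54582 : act 8 n13750 = n13839 := d32_0 F54581 (iv F50581) (iv F54258)
def n13840 : Q := act 8 n12844
theorem D13840 : act 8 n12844 = n13840 := rfl
theorem F54583 : act 1 n13840 = n13840 := d14_1 D13840 (iv D13840) F50573
theorem F54584 : act 2 n13840 = n13284 := d20_1 D13840 (iv D13284) (iv F50574)
theorem F54585 : act 3 n13840 = n12848 := d25_1 D13840 (iv D12848) (iv F50575)
theorem F54586 : act 5 n13840 = n12846 := d32_1 D13840 (iv D12846) D12844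
theorem F54587 : act 7 n13840 = n13751 := d35_1 D13840 (iv D13751) D13750 F54582 (iv D13839)
def n13841 : Q := act 8 n12847
theorem D13841 : act 8 n12847 = n13841 := rfl
theorem F54588 : act 1 n13841 = n13841 := d14_1 D13841 (iv D13841) F50588
theorem F54589 : act 2 n13841 = n12851 := d20_1 D13841 (iv D12851) (iv F50589)
theorem F54590 : act 5 n13841 = n13841 := d32_1 D13841 (iv D13841) F50590
theorem F54591 : act 6 n13841 = n12848 := d34_1 D13841 (iv D12848) D12847
def n13842 : Q := act 7 n12848
theorem D13842 : act 7 n12848 = n13842 := rfl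
theorem F54592 : act 1 n13842 = n13842 := d13_1 D13842 (iv D13842) F50592
theorem F54593 : act 2 n13842 = n12852 := d19_1 D13842 (iv D12852) (iv F50593)
theorem F54594 : act 3 n13842 = n13753 := d24_1 D13842 (iv D13753) (iv F54261) (iv F54587) F54585
theorem F54595 : act 5 n13842 = n12849 := d31_1 D13842 (iv D12849) (iv F50594)
theorem F54596 : act 8 n13842 = n13119 := d35_2 D12848 D13842 (iv D13119) (iv D12101) (iv F46525)
def n13843 : Q := act 7 n12851
theorem D13843 : act 7 n12851 = n13843 := rfl
theorem F54597 : act 1 n13843 = n12865 := d13_1 D13843 (iv D12865) (iv F50607)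
theorem F54598 : act 5 n13843 = n13843 := d31_1 D13843 (iv D13843) F50609
theorem F54599 : act 6 n13843 = n12852 := d33_1 D13843 (iv D12852) (iv F50610)
theorem F54600 : act 8 n13843 = n13120 := d35_2 D12851 D13843 (iv D13120) (iv D12104) (iv F46537)
def n13844 : Q := act 3 n12852
theorem D13844 : act 3 n12852 = n13844 := rfl
theorem F54601 : act 1 n13844 = n12866 := d9_1 D13844 (iv D12866) (iv F50611)
theorem F54602 : act 2 n13844 = n13755 := d15_1 D13844 (iv D13755) (iv F54270) (iv F54594) F54593
theorem F54603 : act 5 n13844 = n12853 := d22_2 (iv F50612) D13844 (iv D12853)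
theorem F54604 : act 7 n13844 = n13292 := d24_2 D12852 D13844 (iv D13292) (iv D12283) (iv F46539)
theorem F54605 : act 8 n13844 = n13121 := d25_2 (iv F50613) D13844 (iv D13121)
def n13845 : Q := act 8 n12854
theorem D13845 : act 8 n12854 = n13845 := rfl
theorem F54606 : act 1 n13845 = n12855 := d14_1 D13845 (iv D12855) D12854
theorem F54607 : act 3 n13845 = n12880 := d25_1 D13845 (iv D12880) (iv F50620)
theorem F54608 : act 5 n13845 = n12883 := d32_1 D13845 (iv D12883) (iv F50621)
def n13846 : Q := act 7 n12855
theorem D13846 : act 7 n12855 = n13846 := rfl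
theorem F54609 : act 0 n13846 = n12868 := d6_1 D13846 (iv D12868) (iv F50623)
theorem F54610 : act 2 n13846 = n12856 := d19_1 D13846 (iv D12856) (iv F50624)
theorem F54611 : act 5 n13846 = n12936 := d31_1 D13846 (iv D12936) (iv F50626)
theorem F54612 : act 8 n13846 = n12862 := d35_2 D12855 D13846 (iv D12862) (iv D11833) (iv F46548)
def n13847 : Q := act 5 n12858
theorem D13847 : act 5 n12858 = n13847 := rfl
theorem F54613 : act 1 n13847 = n12860 := d11_1 D13847 (iv D12860) (iv F50634)
theorem F54614 : act 3 n13847 = n13847 := d22_1 D13847 (iv D13847) F50635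
theorem F54615 : act 4 n13847 = n12892 := d26_1 D13847 (iv D12892) (iv D11865) (iv F46556) D12858
def n13848 : Q := act 8 n12858
theorem D13848 : act 8 n12858 = n13848 := rfl
theorem F54616 : act 1 n13848 = n12861 := d14_1 D13848 (iv D12861) (iv F50634)
theorem F54617 : act 3 n13848 = n13848 := d25_1 D13848 (iv D13848) F50635
theorem F54618 : act 4 n13848 = n12859 := d29_1 D13848 (iv D12859) D12858
def n13849 : Q := act 7 n12859
theorem D13849 : act 7 n12859 = n13849 := rfl
theorem F54619 : act 1 n13849 = n12862 := d13_1 D13849 (iv D12862) (iv F50636)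
theorem F54620 : act 5 n13849 = n12894 := d31_1 D13849 (iv D12894) (iv F50638)
def n13850 : Q := act 8 n12860
theorem D13850 : act 8 n12860 = n13850 := rfl
theorem F54621 : act 0 n13850 = n12869 := d7_1 D13850 (iv D12869) (iv F50639)
theorem F54622 : act 2 n13850 = n12863 := d20_1 D13850 (iv D12863) (iv F50640)
theorem F54623 : act 3 n13850 = n13850 := d25_1 D13850 (iv D13850) F50641
theorem F54624 : act 4 n13850 = n12947 := d29_1 D13850 (iv D12947) (iv F50642)
theorem F54625 : act 5 n13850 = n12861 := d32_1 D13850 (iv D12861) D12860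
def n13851 : Q := act 7 n12861
theorem D13851 : act 7 n12861 = n13851 := rfl
theorem F54626 : act 0 n13851 = n12870 := d6_1 D13851 (iv D12870) (iv F50643)
theorem F54627 : act 2 n13851 = n12864 := d19_1 D13851 (iv D12864) (iv F50644)
theorem F54628 : act 4 n13851 = n12862 := d28_1 D13851 (iv D12862) (iv F50646)
def n13852 : Q := act 7 n12863
theorem D13852 : act 7 n12863 = n13852 := rfl
theorem F54629 : act 0 n13852 = n12871 := d6_1 D13852 (iv D12871) (iv F50650)
theorem F54630 : act 4 n13852 = n13297 := d28_1 D13852 (iv D13297) (iv F50652)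
theorem F54631 : act 5 n13852 = n12864 := d31_1 D13852 (iv D12864) (iv F50653)
def n13853 : Q := act 7 n12869
theorem D13853 : act 7 n12869 = n13853 := rfl
theorem F54632 : act 2 n13853 = n12871 := d19_1 D13853 (iv D12871) (iv F50675)
theorem F54633 : act 4 n13853 = n12975 := d28_1 D13853 (iv D12975) (iv F50677)
theorem F54634 : act 5 n13853 = n12870 := d31_1 D13853 (iv D12870) (iv F50678)
def n13854 : Q := act 3 n12870
theorem D13854 : act 3 n12870 = n13854 := rfl
theorem F54635 : act 7 n13854 = n13854 := d24_2 D12870 D13854 (iv D13854) (iv D12870) F46607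
def n13855 : Q := act 3 n12873
theorem D13855 : act 3 n12873 = n13855 := rfl
theorem F54636 : act 1 n13855 = n12990 := d9_1 D13855 F51069 (iv F50688)
theorem F54637 : act 5 n13855 = n12874 := d22_2 (iv F50690) D13855 (iv D12874)
theorem F54638 : act 7 n13855 = n13634 := d24_2 D12873 D13855 F53747 F49691 (iv F46629)
def n13856 : Q := act 8 n12873
theorem D13856 : act 8 n12873 = n13856 := rfl
theorem F54639 : act 1 n13856 = n12993 := d14_1 D13856 (iv D12993) (iv F50688)
theorem F54640 : act 2 n13856 = n12880 := d20_1 D13856 (iv D12880) (iv F50689)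
theorem F54641 : act 5 n13856 = n12875 := d32_1 D13856 (iv D12875) (iv F50690)
def n13857 : Q := act 2 n12874
theorem D13857 : act 2 n12874 = n13857 := rfl
theorem F54642 : act 1 n13857 = n13256 := d8_1 D13857 (iv D13256) F48163 (iv F46988) (iv F50691)
theorem F54643 : act 3 n13857 = n12881 := d15_2 D12874 D13857 (iv D12881) (iv D11859) (iv F46631)
theorem F54644 : act 6 n13857 = n12876 := d18_2 (iv F50692) D13857 (iv D12876)
def n13858 : Q := act 4 n12874
theorem D13858 : act 4 n12874 = n13858 := rfl
theorem F54645 : act 1 n13858 = n12995 := d10_1 D13858 (iv D12995) (iv F50691)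
theorem F54646 : act 3 n13858 = n13122 := d21_1 D13858 (iv D13122) (iv D12110) (iv F46632) D12874
theorem F54647 : act 6 n13858 = n12877 := d27_2 (iv F50692) D13858 (iv D12877)
def n13859 : Q := act 8 n12874
theorem D13859 : act 8 n12874 = n13859 := rfl
theorem F54648 : act 1 n13859 = n12996 := d14_1 D13859 (iv D12996) (iv F50691)
theorem F54649 : act 3 n13859 = n12875 := d25_1 D13859 (iv D12875) D12874
theorem F54650 : act 6 n13859 = n12878 := d34_1 D13859 (iv D12878) (iv F50692)
def n13860 : Q := act 1 n12876
theorem D13860 : act 1 n12876 = n13860 := rfl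
theorem F54651 : act 2 n13860 = n12997 := d8_2 D12876 D13860 (iv D12997) (iv D11968) (iv F46634)
theorem F54652 : act 3 n13860 = n12884 := d9_2 (iv F50697) D13860 (iv D12884)
theorem F54653 : act 6 n13860 = n13256 := d12_2 F54644 D13860 (iv F54642)
theorem F54654 : act 7 n13860 = n13857 := d13_2 F52148 D13860 F54642
def n13861 : Q := act 4 n12876
theorem D13861 : act 4 n12876 = n13861 := rfl
theorem F54655 : act 2 n13861 = n12877 := d16_1 D13861 (iv D12877) D12876
def n13862 : Q := act 8 n12876
theorem D13862 : act 8 n12876 = n13862 := rfl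
theorem F54656 : act 2 n13862 = n12878 := d20_1 D13862 (iv D12878) D12876
theorem F54657 : act 3 n13862 = n12886 := d25_1 D13862 (iv D12886) (iv F50697)
def n13863 : Q := act 5 n12877
theorem D13863 : act 5 n12877 = n13863 := rfl
theorem F54658 : act 1 n13863 = n13000 := d11_1 D13863 (iv D13000) (iv F50698)
theorem F54659 : act 3 n13863 = n13126 := d22_1 D13863 (iv D13126) (iv F50699)
def n13864 : Q := act 8 n12877
theorem D13864 : act 8 n12877 = n13864 := rfl
theorem F54660 : act 1 n13864 = n13001 := d14_1 D13864 (iv D13001) (iv F50698)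
theorem F54661 : act 3 n13864 = n13127 := d25_1 D13864 (iv D13127) (iv F50699)
theorem F54662 : act 4 n13864 = n12878 := d29_1 D13864 (iv D12878) D12877
def n13865 : Q := act 7 n12878
theorem D13865 : act 7 n12878 = n13865 := rfl
theorem F54663 : act 1 n13865 = n13002 := d13_1 D13865 (iv D13002) (iv F50700)
def n13866 : Q := act 4 n12881
theorem D13866 : act 4 n12881 = n13866 := rfl
theorem F54664 : act 0 n13866 = n13152 := d3_1 D13866 (iv F54093) F54092
theorem F54665 : act 1 n13866 = n13259 := d10_1 D13866 (iv D13259) (iv F50708)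
theorem F54666 : act 2 n13866 = n12882 := d16_1 D13866 (iv D12882) D12881
theorem F54667 : act 6 n13866 = n12885 := d27_2 (iv F50709) D13866 (iv D12885)
theorem F54668 : act 7 n13866 = n12890 := d28_2 (iv F50710) D13866 (iv D12890)
def n13867 : Q := act 8 n12881
theorem D13867 : act 8 n12881 = n13867 := rfl
theorem F54669 : act 1 n13867 = n13260 := d14_1 D13867 (iv D13260) (iv F50708)
theorem F54670 : act 2 n13867 = n12883 := d20_1 D13867 (iv D12883) D12881
theorem F54671 : act 6 n13867 = n12886 := d34_1 D13867 (iv D12886) (iv F50709)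
def n13868 : Q := act 5 n12882
theorem D13868 : act 5 n12882 = n13868 := rfl
theorem F54672 : act 0 n13868 = n13151 := d4_1 D13868 F51736 (iv F50711)
theorem F54673 : act 1 n13868 = n12935 := d11_1 D13868 (iv D12935) (iv F50712)
theorem F54674 : act 3 n13868 = n13099 := d22_1 D13868 F51539 (iv F50713)
theorem F54675 : act 7 n13868 = n12892 := d31_2 (iv F50715) D13868 (iv D12892)
def n13869 : Q := act 7 n12883
theorem D13869 : act 7 n12883 = n13869 := rfl
theorem F54676 : act 1 n13869 = n12936 := d13_1 D13869 (iv D12936) (iv F50716)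
theorem F54677 : act 6 n13869 = n12889 := d33_1 D13869 (iv D12889) (iv F50718)
theorem F54678 : act 8 n13869 = n12894 := d35_2 D12883 D13869 (iv D12894) (iv D11866) (iv F46647)
def n13870 : Q := act 0 n12884
theorem D13870 : act 0 n12884 = n13870 := rfl
theorem F54679 : act 2 n13870 = n12937 := d1_2 (iv F50719) D13870 (iv D12937)
theorem F54680 : act 6 n13870 = n13202 := d5_2 (iv F50720) D13870 F51960
theorem F54681 : act 7 n13870 = n12895 := d6_2 (iv F50721) D13870 (iv D12895)
def n13871 : Q := act 4 n12884
theorem D13871 : act 4 n12884 = n13871 := rfl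
theorem F54682 : act 1 n13871 = n12885 := d10_1 D13871 (iv D12885) D12884
theorem F54683 : act 2 n13871 = n12938 := d16_1 D13871 (iv D12938) (iv F50719)
theorem F54684 : act 6 n13871 = n13259 := d27_2 (iv F50720) D13871 (iv D13259)
theorem F54685 : act 7 n13871 = n12896 := d28_2 (iv F50721) D13871 (iv D12896)
def n13872 : Q := act 8 n12884
theorem D13872 : act 8 n12884 = n13872 := rfl
theorem F54686 : act 1 n13872 = n12886 := d14_1 D13872 (iv D12886) D12884
theorem F54687 : act 2 n13872 = n12939 := d20_1 D13872 (iv D12939) (iv F50719)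
theorem F54688 : act 6 n13872 = n13260 := d34_1 D13872 (iv D13260) (iv F50720)
def n13873 : Q := act 3 n12885
theorem D13873 : act 3 n12885 = n13873 := rfl
theorem F54689 : act 2 n13873 = n13129 := d15_1 D13873 (iv D13129) F47612 (iv F46653) (iv F50722)
def n13874 : Q := act 5 n12885
theorem D13874 : act 5 n12885 = n13874 := rfl
theorem F54690 : act 2 n13874 = n12887 := d17_1 D13874 (iv D12887) (iv F50722)
theorem F54691 : act 7 n13874 = n12899 := d31_2 (iv F50723) D13874 (iv D12899)
def n13875 : Q := act 8 n12885
theorem D13875 : act 8 n12885 = n13875 := rfl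
theorem F54692 : act 2 n13875 = n12888 := d20_1 D13875 (iv D12888) (iv F50722)
theorem F54693 : act 4 n13875 = n12886 := d29_1 D13875 (iv D12886) D12885
def n13876 : Q := act 7 n12886
theorem D13876 : act 7 n12886 = n13876 := rfl
theorem F54694 : act 2 n13876 = n12889 := d19_1 D13876 (iv D12889) (iv F50724)
theorem F54695 : act 8 n13876 = n12901 := d35_2 D12886 D13876 (iv D12901) (iv D11869) (iv F46651)
def n13877 : Q := act 6 n12887
theorem D13877 : act 6 n12887 = n13877 := rfl
theorem F54696 : act 1 n13877 = n12943 := d12_1 D13877 (iv D12943) (iv F50725)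
theorem F54697 : act 3 n13877 = n13132 := d23_1 D13877 (iv D13132) (iv F50726)
theorem F54698 : act 7 n13877 = n12902 := d33_2 (iv F50727) D13877 (iv D12902)
def n13878 : Q := act 8 n12887
theorem D13878 : act 8 n12887 = n13878 := rfl
theorem F54699 : act 1 n13878 = n12944 := d14_1 D13878 (iv D12944) (iv F50725)
theorem F54700 : act 3 n13878 = n13133 := d25_1 D13878 (iv D13133) (iv F50726)
theorem F54701 : act 5 n13878 = n12888 := d32_1 D13878 (iv D12888) D12887
def n13879 : Q := act 7 n12888
theorem D13879 : act 7 n12888 = n13879 := rfl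
theorem F54702 : act 1 n13879 = n12945 := d13_1 D13879 (iv D12945) (iv F50728)
theorem F54703 : act 4 n13879 = n12889 := d28_1 D13879 (iv D12889) (iv F50730)
theorem F54704 : act 8 n13879 = n12904 := d35_2 D12888 D13879 (iv D12904) (iv D11871) (iv F46654)
def n13880 : Q := act 3 n12890
theorem D13880 : act 3 n12890 = n13880 := rfl
theorem F54705 : act 1 n13880 = n13264 := d9_1 D13880 (iv D13264) (iv F50733)
theorem F54706 : act 2 n13880 = n12905 := d15_1 D13880 (iv D12905) F46677 (iv F46660) (iv F50734)
theorem F54707 : act 6 n13880 = n12898 := d23_2 (iv F50735) D13880 (iv D12898)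
def n13881 : Q := act 5 n12890
theorem D13881 : act 5 n12890 = n13881 := rfl
theorem F54708 : act 1 n13881 = n13265 := d11_1 D13881 (iv D13265) (iv F50733)
theorem F54709 : act 2 n13881 = n12892 := d17_1 D13881 (iv D12892) (iv F50734)
def n13882 : Q := act 8 n12890
theorem D13882 : act 8 n12890 = n13882 := rfl
theorem F54710 : act 1 n13882 = n13266 := d14_1 D13882 (iv D13266) (iv F50733)
theorem F54711 : act 2 n13882 = n12893 := d20_1 D13882 (iv D12893) (iv F50734)
theorem F54712 : act 4 n13882 = n12891 := d29_1 D13882 (iv D12891) D12890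
theorem F54713 : act 6 n13882 = n12900 := d34_1 D13882 (iv D12900) (iv F50735)
def n13883 : Q := act 7 n12891
theorem D13883 : act 7 n12891 = n13883 := rfl
theorem F54714 : act 1 n13883 = n13267 := d13_1 D13883 (iv D13267) (iv F50736)
theorem F54715 : act 2 n13883 = n12894 := d19_1 D13883 (iv D12894) (iv F50737)
theorem F54716 : act 6 n13883 = n12901 := d33_1 D13883 (iv D12901) (iv F50738)
def n13884 : Q := act 6 n12892
theorem D13884 : act 6 n12892 = n13884 := rfl
theorem F54717 : act 1 n13884 = n12946 := d12_1 D13884 (iv D12946) (iv F50739)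
theorem F54718 : act 3 n13884 = n12909 := d23_1 D13884 (iv D12909) (iv F50740)
theorem F54719 : act 5 n13884 = n12902 := d30_1 D13884 (iv D12902) (iv D11870) (iv F46661) D12892
def n13885 : Q := act 8 n12892
theorem D13885 : act 8 n12892 = n13885 := rfl
theorem F54720 : act 1 n13885 = n12947 := d14_1 D13885 (iv D12947) (iv F50739)
theorem F54721 : act 3 n13885 = n12910 := d25_1 D13885 (iv D12910) (iv F50740)
theorem F54722 : act 5 n13885 = n12893 := d32_1 D13885 (iv D12893) D12892
def n13886 : Q := act 7 n12893
theorem D13886 : act 7 n12893 = n13886 := rfl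
theorem F54723 : act 1 n13886 = n12948 := d13_1 D13886 (iv D12948) (iv F50741)
theorem F54724 : act 4 n13886 = n12894 := d28_1 D13886 (iv D12894) (iv F50743)
theorem F54725 : act 6 n13886 = n12904 := d33_1 D13886 (iv D12904) (iv F50744)
def n13887 : Q := act 4 n12895
theorem D13887 : act 4 n12895 = n13887 := rfl
theorem F54726 : act 0 n13887 = n12896 := d3_1 D13887 (iv D12896) D12895
theorem F54727 : act 2 n13887 = n12949 := d16_1 D13887 (iv D12949) (iv F50747)
theorem F54728 : act 6 n13887 = n13206 := d27_2 (iv F50749) D13887 (iv D13206)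
def n13888 : Q := act 8 n12895
theorem D13888 : act 8 n12895 = n13888 := rfl
theorem F54729 : act 0 n13888 = n12897 := d7_1 D13888 (iv D12897) D12895
theorem F54730 : act 2 n13888 = n12950 := d20_1 D13888 (iv D12950) (iv F50747)
theorem F54731 : act 3 n13888 = n13719 := d25_1 D13888 (iv D13719) (iv F50748)
theorem F54732 : act 6 n13888 = n13207 := d34_1 D13888 (iv D13207) (iv F50749)
def n13889 : Q := act 3 n12896
theorem D13889 : act 3 n12896 = n13889 := rfl
theorem F54733 : act 1 n13889 = n12898 := d9_1 D13889 (iv D12898) (iv F50750)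
theorem F54734 : act 2 n13889 = n13008 := d15_1 D13889 (iv D13008) F47033 (iv F46800) (iv F50751)
theorem F54735 : act 4 n13889 = n13880 := d21_2 D12896 D13889 (iv D13880) (iv D12890) (iv F46666)
theorem F54736 : act 6 n13889 = n13264 := d23_2 (iv F50752) D13889 (iv D13264)
def n13890 : Q := act 5 n12896
theorem D13890 : act 5 n12896 = n13890 := rfl
theorem F54737 : act 1 n13890 = n12899 := d11_1 D13890 (iv D12899) (iv F50750)
theorem F54738 : act 2 n13890 = n12951 := d17_1 D13890 (iv D12951) (iv F50751)
def n13891 : Q := act 8 n12896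
theorem D13891 : act 8 n12896 = n13891 := rfl
theorem F54739 : act 1 n13891 = n12900 := d14_1 D13891 (iv D12900) (iv F50750)
theorem F54740 : act 2 n13891 = n12952 := d20_1 D13891 (iv D12952) (iv F50751)
theorem F54741 : act 4 n13891 = n12897 := d29_1 D13891 (iv D12897) D12896
theorem F54742 : act 6 n13891 = n13266 := d34_1 D13891 (iv D13266) (iv F50752)
def n13892 : Q := act 7 n12897
theorem D13892 : act 7 n12897 = n13892 := rfl
theorem F54743 : act 1 n13892 = n12901 := d13_1 D13892 (iv D12901) (iv F50753)
theorem F54744 : act 2 n13892 = n12953 := d19_1 D13892 (iv D12953) (iv F50754)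
theorem F54745 : act 6 n13892 = n13267 := d33_1 D13892 (iv D13267) (iv F50756)
def n13893 : Q := act 5 n12898
theorem D13893 : act 5 n12898 = n13893 := rfl
theorem F54746 : act 2 n13893 = n12912 := d17_1 D13893 (iv D12912) (iv F50757)
theorem F54747 : act 3 n13893 = n12899 := d22_1 D13893 (iv D12899) D12898
def n13894 : Q := act 7 n12898
theorem D13894 : act 7 n12898 = n13894 := rfl
theorem F54748 : act 2 n13894 = n12913 := d19_1 D13894 (iv D12913) (iv F50757)
def n13895 : Q := act 8 n12898
theorem D13895 : act 8 n12898 = n13895 := rfl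
theorem F54749 : act 2 n13895 = n12914 := d20_1 D13895 (iv D12914) (iv F50757)
theorem F54750 : act 3 n13895 = n12900 := d25_1 D13895 (iv D12900) D12898
def n13896 : Q := act 6 n12899
theorem D13896 : act 6 n12899 = n13896 := rfl
theorem F54751 : act 2 n13896 = n12902 := d18_1 D13896 (iv D12902) (iv F50758)
def n13897 : Q := act 8 n12899
theorem D13897 : act 8 n12899 = n13897 := rfl
theorem F54752 : act 2 n13897 = n12903 := d20_1 D13897 (iv D12903) (iv F50758)
theorem F54753 : act 5 n13897 = n12900 := d32_1 D13897 (iv D12900) D12899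
def n13898 : Q := act 7 n12900
theorem D13898 : act 7 n12900 = n13898 := rfl
theorem F54754 : act 2 n13898 = n12904 := d19_1 D13898 (iv D12904) (iv F50759)
theorem F54755 : act 4 n13898 = n12901 := d28_1 D13898 (iv D12901) (iv F50760)
def n13899 : Q := act 3 n12901
theorem D13899 : act 3 n12901 = n13899 := rfl
def n13900 : Q := act 8 n12902
theorem D13900 : act 8 n12902 = n13900 := rfl
theorem F54756 : act 1 n13900 = n12957 := d14_1 D13900 (iv D12957) (iv F50762)
theorem F54757 : act 3 n13900 = n12919 := d25_1 D13900 (iv D12919) (iv F50763)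
theorem F54758 : act 6 n13900 = n12903 := d34_1 D13900 (iv D12903) D12902
def n13901 : Q := act 7 n12903
theorem D13901 : act 7 n12903 = n13901 := rfl
theorem F54759 : act 1 n13901 = n12958 := d13_1 D13901 (iv D12958) (iv F50764)
theorem F54760 : act 5 n13901 = n12904 := d31_1 D13901 (iv D12904) (iv F50766)
def n13902 : Q := act 3 n12904
theorem D13902 : act 3 n12904 = n13902 := rfl
theorem F54761 : act 1 n13902 = n12959 := d9_1 D13902 (iv D12959) (iv F50767)
theorem F54762 : act 7 n13902 = n12921 := d24_2 D12904 D13902 (iv D12921) (iv D11884) (iv F46673)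
def n13903 : Q := act 5 n12905
theorem D13903 : act 5 n12905 = n13903 := rfl
theorem F54763 : act 1 n13903 = n13022 := d11_1 D13903 (iv D13022) (iv F50769)
theorem F54764 : act 3 n13903 = n12906 := d22_1 D13903 (iv D12906) D12905
def n13904 : Q := act 7 n12905
theorem D13904 : act 7 n12905 = n13904 := rfl
theorem F54765 : act 1 n13904 = n13023 := d13_1 D13904 (iv D13023) (iv F50769)
theorem F54766 : act 3 n13904 = n13138 := d24_1 D13904 (iv D13138) (iv D12122) (iv F46679) D12905
theorem F54767 : act 6 n13904 = n12913 := d33_1 D13904 (iv D12913) (iv F50770)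
def n13905 : Q := act 8 n12905
theorem D13905 : act 8 n12905 = n13905 := rfl
theorem F54768 : act 1 n13905 = n13024 := d14_1 D13905 (iv D13024) (iv F50769)
theorem F54769 : act 3 n13905 = n12907 := d25_1 D13905 (iv D12907) D12905
theorem F54770 : act 6 n13905 = n12914 := d34_1 D13905 (iv D12914) (iv F50770)
def n13906 : Q := act 6 n12906
theorem D13906 : act 6 n12906 = n13906 := rfl
theorem F54771 : act 1 n13906 = n13025 := d12_1 D13906 (iv D13025) (iv F50771)
theorem F54772 : act 2 n13906 = n12909 := d18_1 D13906 (iv D12909) (iv F50772)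
theorem F54773 : act 4 n13906 = n13906 := d27_1 D13906 (iv D13906) F50773
theorem F54774 : act 5 n13906 = n12915 := d30_1 D13906 (iv D12915) (iv D11879) (iv F46678) D12906
theorem F54775 : act 7 n13906 = n13139 := d33_2 (iv F50774) D13906 (iv D13139)
def n13907 : Q := act 8 n12906
theorem D13907 : act 8 n12906 = n13907 := rfl
theorem F54776 : act 1 n13907 = n13026 := d14_1 D13907 (iv D13026) (iv F50771)
theorem F54777 : act 2 n13907 = n12910 := d20_1 D13907 (iv D12910) (iv F50772)
theorem F54778 : act 4 n13907 = n13907 := d29_1 D13907 (iv D13907) F50773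
theorem F54779 : act 5 n13907 = n12907 := d32_1 D13907 (iv D12907) D12906
def n13908 : Q := act 7 n12907
theorem D13908 : act 7 n12907 = n13908 := rfl
theorem F54780 : act 0 n13908 = n13131 := d6_1 D13908 (iv F54193) F54188
theorem F54781 : act 1 n13908 = n13027 := d13_1 D13908 (iv D13027) (iv F50775)
theorem F54782 : act 2 n13908 = n12911 := d19_1 D13908 (iv D12911) (iv F50776)
theorem F54783 : act 4 n13908 = n12908 := d28_1 D13908 (iv D12908) (iv F50777)
theorem F54784 : act 6 n13908 = n12917 := d33_1 D13908 (iv D12917) (iv F50778)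
theorem F54785 : act 8 n13908 = n13083 := d35_2 D12907 D13908 F51459 F47387 (iv F46679)
def n13909 : Q := act 3 n12908
theorem D13909 : act 3 n12908 = n13909 := rfl
theorem F54786 : act 0 n13909 = n13125 := d2_1 D13909 F51658 (iv F50779)
theorem F54787 : act 1 n13909 = n13028 := d9_1 D13909 (iv D13028) (iv F50780)
theorem F54788 : act 2 n13909 = n13082 := d15_1 D13909 F51453 F47372 (iv F46692) (iv F50781)
theorem F54789 : act 5 n13909 = n13909 := d22_2 F50782 D13909 (iv D13909)
theorem F54790 : act 6 n13909 = n12918 := d23_2 (iv F50783) D13909 (iv D12918)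
theorem F54791 : act 8 n13909 = n13080 := d25_2 (iv F50784) D13909 F51443
def n13910 : Q := act 8 n12909
theorem D13910 : act 8 n12909 = n13910 := rfl
theorem F54792 : act 1 n13910 = n12960 := d14_1 D13910 (iv D12960) (iv F50785)
theorem F54793 : act 4 n13910 = n13910 := d29_1 D13910 (iv D13910) F50786
theorem F54794 : act 5 n13910 = n12919 := d32_1 D13910 (iv D12919) (iv F50787)
theorem F54795 : act 6 n13910 = n12910 := d34_1 D13910 (iv D12910) D12909
def n13911 : Q := act 7 n12910
theorem D13911 : act 7 n12910 = n13911 := rfl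
theorem F54796 : act 0 n13911 = n13133 := d6_1 D13911 (iv F54203) F54199
theorem F54797 : act 1 n13911 = n12961 := d13_1 D13911 (iv D12961) (iv F50789)
theorem F54798 : act 4 n13911 = n13911 := d28_1 D13911 (iv D13911) F50790
theorem F54799 : act 5 n13911 = n12911 := d31_1 D13911 (iv D12911) (iv F50791)
theorem F54800 : act 8 n13911 = n13084 := d35_2 D12910 D13911 F51463 F47392 (iv F46686)
def n13912 : Q := act 4 n12912
theorem D13912 : act 4 n12912 = n13912 := rfl
theorem F54801 : act 1 n13912 = n13032 := d10_1 D13912 (iv D13032) (iv F50797)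
theorem F54802 : act 3 n13912 = n12922 := d21_1 D13912 (iv D12922) F46718 (iv F46699) (iv F50798)
def n13913 : Q := act 6 n12912
theorem D13913 : act 6 n12912 = n13913 := rfl
theorem F54803 : act 1 n13913 = n13033 := d12_1 D13913 (iv D13033) (iv F50797)
theorem F54804 : act 3 n13913 = n12915 := d23_1 D13913 (iv D12915) (iv F50798)
theorem F54805 : act 7 n13912 = n13913 := d24_0 F54804 F50806 (iv F51706) (iv F51708) (iv F54802)
def n13914 : Q := act 7 n12912
theorem D13914 : act 7 n12912 = n13914 := rfl
theorem F54806 : act 1 n13914 = n13034 := d13_1 D13914 (iv D13034) (iv F50797)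
theorem F54807 : act 3 n13914 = n13142 := d24_1 D13914 (iv D13142) F47641 (iv F46700) (iv F50798)
theorem F54808 : act 4 n13914 = n13913 := d28_1 D13914 (iv F54805) (iv D13912)
theorem F54809 : act 5 n13914 = n12913 := d31_1 D13914 (iv D12913) D12912
theorem F54810 : act 6 n13914 = n13912 := d33_1 D13914 F54805 (iv D13913)
def n13915 : Q := act 8 n12912
theorem D13915 : act 8 n12912 = n13915 := rfl
theorem F54811 : act 1 n13915 = n13035 := d14_1 D13915 (iv D13035) (iv F50797)
theorem F54812 : act 3 n13915 = n12916 := d25_1 D13915 (iv D12916) (iv F50798)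
theorem F54813 : act 5 n13915 = n12914 := d32_1 D13915 (iv D12914) D12912
def n13916 : Q := act 8 n12913
theorem D13916 : act 8 n12913 = n13916 := rfl
theorem F54814 : act 1 n13916 = n13036 := d14_1 D13916 (iv D13036) (iv F50799)
theorem F54815 : act 3 n13916 = n13144 := d25_1 D13916 (iv D13144) (iv F50800)
def n13917 : Q := act 7 n12914
theorem D13917 : act 7 n12914 = n13917 := rfl
theorem F54816 : act 1 n13917 = n13037 := d13_1 D13917 (iv D13037) (iv F50801)
def n13918 : Q := act 8 n12915
theorem D13918 : act 8 n12915 = n13918 := rfl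
theorem F54817 : act 1 n13918 = n13038 := d14_1 D13918 (iv D13038) (iv F50803)
theorem F54818 : act 2 n13918 = n12919 := d20_1 D13918 (iv D12919) (iv F50804)
theorem F54819 : act 4 n13918 = n12928 := d29_1 D13918 (iv D12928) (iv F50805)
theorem F54820 : act 6 n13918 = n12916 := d34_1 D13918 (iv D12916) D12915
def n13919 : Q := act 7 n12916
theorem D13919 : act 7 n12916 = n13919 := rfl
theorem F54821 : act 1 n13919 = n13039 := d13_1 D13919 (iv D13039) (iv F50807)
theorem F54822 : act 2 n13919 = n12920 := d19_1 D13919 (iv D12920) (iv F50808)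
theorem F54823 : act 4 n13919 = n12929 := d28_1 D13919 (iv D12929) (iv F50809)
theorem F54824 : act 5 n13919 = n12917 := d31_1 D13919 (iv D12917) (iv F50810)
theorem F54825 : act 8 n13919 = n13147 := d35_2 D12916 D13919 (iv D13147) (iv D12129) (iv F46700)
def n13920 : Q := act 3 n12917
theorem D13920 : act 3 n12917 = n13920 := rfl
theorem F54826 : act 1 n13920 = n13040 := d9_1 D13920 (iv D13040) (iv F50811)
theorem F54827 : act 8 n13920 = n13148 := d25_2 (iv F50814) D13920 (iv D13148)
def n13921 : Q := act 4 n12918
theorem D13921 : act 4 n12918 = n13921 := rfl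
theorem F54828 : act 1 n13921 = n13041 := d10_1 D13921 (iv D13041) (iv F50815)
theorem F54829 : act 8 n13921 = n13149 := d29_2 (iv F50817) D13921 (iv D13149)
def n13922 : Q := act 7 n12919
theorem D13922 : act 7 n12919 = n13922 := rfl
theorem F54830 : act 1 n13922 = n12962 := d13_1 D13922 (iv D12962) (iv F50818)
theorem F54831 : act 4 n13922 = n12932 := d28_1 D13922 (iv D12932) (iv F50819)
theorem F54832 : act 6 n13922 = n12920 := d33_1 D13922 (iv D12920) (iv F50820)
theorem F54833 : act 8 n13922 = n13150 := d35_2 D12919 D13922 (iv D13150) (iv D12132) (iv F46710)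
def n13923 : Q := act 3 n12920
theorem D13923 : act 3 n12920 = n13923 := rfl
theorem F54834 : act 1 n13923 = n12963 := d9_1 D13923 (iv D12963) (iv F50821)
theorem F54835 : act 5 n13923 = n12921 := d22_2 (iv F50823) D13923 (iv D12921)
theorem F54836 : act 8 n13923 = n13151 := d25_2 (iv F50824) D13923 (iv D13151)
def n13924 : Q := act 2 n12921
theorem D13924 : act 2 n12921 = n13924 := rfl
theorem F54837 : act 8 n13924 = n13152 := d20_2 (iv F50826) D13924 (iv D13152)
def n13925 : Q := act 8 n12922
theorem D13925 : act 8 n12922 = n13925 := rfl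
theorem F54838 : act 1 n13925 = n13045 := d14_1 D13925 (iv D13045) (iv F50827)
theorem F54839 : act 4 n13925 = n12925 := d29_1 D13925 (iv D12925) D12922
def n13926 : Q := act 8 n12923
theorem D13926 : act 8 n12923 = n13926 := rfl
theorem F54840 : act 1 n13926 = n13046 := d14_1 D13926 (iv D13046) (iv F50828)
theorem F54841 : act 3 n13926 = n12928 := d25_1 D13926 (iv D12928) (iv F50829)
theorem F54842 : act 5 n13926 = n13926 := d32_1 D13926 (iv D13926) F50830
theorem F54843 : act 6 n13926 = n12925 := d34_1 D13926 (iv D12925) D12923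
def n13927 : Q := act 8 n12924
theorem D13927 : act 8 n12924 = n13927 := rfl
theorem F54844 : act 0 n13927 = n13839 := d7_1 D13927 (iv F54582) F54255
theorem F54845 : act 1 n13927 = n13047 := d14_1 D13927 (iv D13047) (iv F50831)
theorem F54846 : act 3 n13927 = n13155 := d25_1 D13927 (iv D13155) (iv F50832)
theorem F54847 : act 5 n13927 = n12926 := d32_1 D13927 (iv D12926) (iv F50833)
theorem F54848 : act 7 n13674 = n13927 := d31_0 F54847 (iv F50841) D13674
def n13928 : Q := act 7 n12925
theorem D13928 : act 7 n12925 = n13928 := rfl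
theorem F54849 : act 0 n13928 = n13840 := d6_1 D13928 F54587 F54259
theorem F54850 : act 1 n13928 = n13048 := d13_1 D13928 (iv D13048) (iv F50834)
theorem F54851 : act 5 n13928 = n12927 := d31_1 D13928 (iv D12927) (iv F50836)
theorem F54852 : act 8 n13928 = n13674 := d35_2 D12925 D13928 F54848 (iv D13927) (iv D12924)
theorem F54853 : act 3 n13675 = n13928 := d25_3 F54852 F53963 D13675
def n13929 : Q := act 7 n12928
theorem D13929 : act 7 n12928 = n13929 := rfl
theorem F54854 : act 1 n13929 = n13051 := d13_1 D13929 (iv D13051) (iv F50847)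
theorem F54855 : act 2 n13929 = n12932 := d19_1 D13929 (iv D12932) (iv F50848)
theorem F54856 : act 5 n13929 = n13929 := d31_1 D13929 (iv D13929) F50849
theorem F54857 : act 6 n13929 = n12929 := d33_1 D13929 (iv D12929) (iv F50850)
theorem F54858 : act 8 n13929 = n13157 := d35_2 D12928 D13929 (iv D13157) (iv D12141) (iv F46728)
def n13930 : Q := act 3 n12929
theorem D13930 : act 3 n12929 = n13930 := rfl
theorem F54859 : act 0 n13930 = n13842 := d2_1 D13930 F54594 F54268
theorem F54860 : act 1 n13930 = n13052 := d9_1 D13930 (iv D13052) (iv F50851)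
theorem F54861 : act 5 n13930 = n12930 := d22_2 (iv F50853) D13930 (iv D12930)
theorem F54862 : act 7 n13930 = n13675 := d24_2 D12929 D13930 F54853 (iv D13928) F50835
theorem F54863 : act 8 n13930 = n13158 := d25_2 (iv F50854) D13930 (iv D13158)
theorem F54864 : act 2 n13676 = n13930 := d20_3 F54863 F51767 (iv F53971)
theorem F54865 : act 4 n13856 = n13930 := d29_3 F54863 (iv F51768) D13856
def n13931 : Q := act 2 n12933
theorem D13931 : act 2 n12933 = n13931 := rfl
theorem F54866 : act 0 n13931 = n13844 := d1_1 D13931 F54602 F54278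
theorem F54867 : act 1 n13931 = n13654 := d8_1 D13931 F53849 F49812 F48539 (iv F50872)
theorem F54868 : act 3 n13931 = n13676 := d15_2 D12933 D13931 F54864 (iv D13930) F50852
theorem F54869 : act 4 n13931 = n13685 := d16_2 F52962 D13931 F54007
theorem F54870 : act 5 n13931 = n12934 := d17_2 (iv F50873) D13931 (iv D12934)
theorem F54871 : act 6 n13931 = n13657 := d18_2 F52609 D13931 F53871
theorem F54872 : act 8 n13931 = n13159 := d20_2 (iv F50874) D13931 (iv D13159)
def n13932 : Q := act 4 n12937
theorem D13932 : act 4 n12937 = n13932 := rfl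
theorem F54873 : act 0 n13932 = n12938 := d3_1 D13932 (iv D12938) D12937
theorem F54874 : act 1 n13932 = n12966 := d10_1 D13932 (iv D12966) (iv F50889)
theorem F54875 : act 3 n13932 = n13932 := d21_1 D13932 (iv D13932) F50890 F47016 (iv F50890)
theorem F54876 : act 6 n13932 = n13203 := d27_2 (iv F50891) D13932 (iv D13203)
theorem F54877 : act 7 n13932 = n12949 := d28_2 (iv F50892) D13932 (iv D12949)
def n13933 : Q := act 8 n12937
theorem D13933 : act 8 n12937 = n13933 := rfl
theorem F54878 : act 0 n13933 = n12939 := d7_1 D13933 (iv D12939) D12937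
theorem F54879 : act 1 n13933 = n12967 := d14_1 D13933 (iv D12967) (iv F50889)
theorem F54880 : act 3 n13933 = n13005 := d25_1 D13933 (iv D13005) (iv F50890)
theorem F54881 : act 6 n13933 = n13204 := d34_1 D13933 (iv D13204) (iv F50891)
def n13934 : Q := act 5 n12938
theorem D13934 : act 5 n12938 = n13934 := rfl
theorem F54882 : act 1 n13934 = n12940 := d11_1 D13934 (iv D12940) (iv F50893)
theorem F54883 : act 3 n13934 = n13934 := d22_1 D13934 (iv D13934) F50894
theorem F54884 : act 7 n13934 = n12951 := d31_2 (iv F50896) D13934 (iv D12951)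
def n13935 : Q := act 8 n12938
theorem D13935 : act 8 n12938 = n13935 := rfl
theorem F54885 : act 1 n13935 = n12941 := d14_1 D13935 (iv D12941) (iv F50893)
theorem F54886 : act 3 n13935 = n13935 := d25_1 D13935 (iv D13935) F50894
theorem F54887 : act 4 n13935 = n12939 := d29_1 D13935 (iv D12939) D12938
theorem F54888 : act 6 n13935 = n13262 := d34_1 D13935 (iv D13262) (iv F50895)
def n13936 : Q := act 7 n12939
theorem D13936 : act 7 n12939 = n13936 := rfl
theorem F54889 : act 1 n13936 = n12942 := d13_1 D13936 (iv D12942) (iv F50897)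
theorem F54890 : act 6 n13936 = n13263 := d33_1 D13936 (iv D13263) (iv F50899)
theorem F54891 : act 8 n13936 = n12953 := d35_2 D12939 D13936 (iv D12953) (iv D11910) (iv F46767)
def n13937 : Q := act 8 n12940
theorem D13937 : act 8 n12940 = n13937 := rfl
theorem F54892 : act 0 n13937 = n12970 := d7_1 D13937 (iv D12970) (iv F50900)
theorem F54893 : act 2 n13937 = n12944 := d20_1 D13937 (iv D12944) (iv F50901)
theorem F54894 : act 3 n13937 = n13937 := d25_1 D13937 (iv D13937) F50902
theorem F54895 : act 5 n13937 = n12941 := d32_1 D13937 (iv D12941) D12940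
def n13938 : Q := act 7 n12941
theorem D13938 : act 7 n12941 = n13938 := rfl
theorem F54896 : act 0 n13938 = n12971 := d6_1 D13938 (iv D12971) (iv F50904)
theorem F54897 : act 2 n13938 = n12945 := d19_1 D13938 (iv D12945) (iv F50905)
theorem F54898 : act 4 n13938 = n12942 := d28_1 D13938 (iv D12942) (iv F50907)
theorem F54899 : act 6 n13938 = n13295 := d33_1 D13938 (iv D13295) (iv F50908)
theorem F54900 : act 8 n13938 = n12956 := d35_2 D12941 D13938 (iv D12956) (iv D11912) (iv F46772)
def n13939 : Q := act 8 n12943
theorem D13939 : act 8 n12943 = n13939 := rfl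
theorem F54901 : act 0 n13939 = n12972 := d7_1 D13939 (iv D12972) (iv F50913)
theorem F54902 : act 3 n13939 = n13160 := d25_1 D13939 (iv D13160) (iv F50914)
theorem F54903 : act 6 n13939 = n12944 := d34_1 D13939 (iv D12944) D12943
def n13940 : Q := act 7 n12944
theorem D13940 : act 7 n12944 = n13940 := rfl
theorem F54904 : act 0 n13940 = n12973 := d6_1 D13940 (iv D12973) (iv F50916)
theorem F54905 : act 5 n13940 = n12945 := d31_1 D13940 (iv D12945) (iv F50918)
theorem F54906 : act 8 n13940 = n12958 := d35_2 D12944 D13940 (iv D12958) (iv D11915) (iv F46779)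
def n13941 : Q := act 8 n12946
theorem D13941 : act 8 n12946 = n13941 := rfl
theorem F54907 : act 0 n13941 = n12974 := d7_1 D13941 (iv D12974) (iv F50922)
theorem F54908 : act 2 n13941 = n13296 := d20_1 D13941 (iv D13296) (iv F50923)
theorem F54909 : act 3 n13941 = n12960 := d25_1 D13941 (iv D12960) (iv F50924)
theorem F54910 : act 5 n13941 = n12957 := d32_1 D13941 (iv D12957) (iv F50925)
theorem F54911 : act 6 n13941 = n12947 := d34_1 D13941 (iv D12947) D12946
def n13942 : Q := act 7 n12947
theorem D13942 : act 7 n12947 = n13942 := rfl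
theorem F54912 : act 0 n13942 = n12975 := d6_1 D13942 (iv D12975) (iv F50926)
theorem F54913 : act 2 n13942 = n13297 := d19_1 D13942 (iv D13297) (iv F50927)
theorem F54914 : act 5 n13942 = n12948 := d31_1 D13942 (iv D12948) (iv F50929)
def n13943 : Q := act 5 n12949
theorem D13943 : act 5 n12949 = n13943 := rfl
theorem F54915 : act 0 n13943 = n12951 := d4_1 D13943 (iv D12951) (iv F50934)
theorem F54916 : act 1 n13943 = n12976 := d11_1 D13943 (iv D12976) (iv F50935)
theorem F54917 : act 3 n13943 = n13053 := d22_1 D13943 (iv D13053) (iv F50936)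
def n13944 : Q := act 8 n12949
theorem D13944 : act 8 n12949 = n13944 := rfl
theorem F54918 : act 0 n13944 = n12952 := d7_1 D13944 (iv D12952) (iv F50934)
theorem F54919 : act 1 n13944 = n12977 := d14_1 D13944 (iv D12977) (iv F50935)
theorem F54920 : act 3 n13944 = n13054 := d25_1 D13944 (iv D13054) (iv F50936)
theorem F54921 : act 4 n13944 = n12950 := d29_1 D13944 (iv D12950) D12949
theorem F54922 : act 6 n13944 = n13209 := d34_1 D13944 (iv D13209) (iv F50937)
def n13945 : Q := act 7 n12950
theorem D13945 : act 7 n12950 = n13945 := rfl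
theorem F54923 : act 0 n13945 = n12953 := d6_1 D13945 (iv D12953) (iv F50938)
theorem F54924 : act 1 n13945 = n12978 := d13_1 D13945 (iv D12978) (iv F50939)
theorem F54925 : act 6 n13945 = n13210 := d33_1 D13945 (iv D13210) (iv F50941)
def n13946 : Q := act 6 n12951
theorem D13946 : act 6 n12951 = n13946 := rfl
theorem F54926 : act 1 n13946 = n12954 := d12_1 D13946 (iv D12954) (iv F50942)
theorem F54927 : act 3 n13946 = n13056 := d23_1 D13946 (iv D13056) (iv F50943)
theorem F54928 : act 5 n13946 = n13268 := d30_1 D13946 (iv D13268) (iv D12265) (iv F46801) D12951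
def n13947 : Q := act 8 n12951
theorem D13947 : act 8 n12951 = n13947 := rfl
theorem F54929 : act 1 n13947 = n12955 := d14_1 D13947 (iv D12955) (iv F50942)
theorem F54930 : act 3 n13947 = n13057 := d25_1 D13947 (iv D13057) (iv F50943)
theorem F54931 : act 5 n13947 = n12952 := d32_1 D13947 (iv D12952) D12951
def n13948 : Q := act 7 n12952
theorem D13948 : act 7 n12952 = n13948 := rfl
theorem F54932 : act 1 n13948 = n12956 := d13_1 D13948 (iv D12956) (iv F50944)
theorem F54933 : act 4 n13948 = n12953 := d28_1 D13948 (iv D12953) (iv F50946)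
theorem F54934 : act 6 n13948 = n13270 := d33_1 D13948 (iv D13270) (iv F50947)
def n13949 : Q := act 8 n12954
theorem D13949 : act 8 n12954 = n13949 := rfl
theorem F54935 : act 0 n13949 = n12981 := d7_1 D13949 (iv D12981) (iv F50950)
theorem F54936 : act 2 n13949 = n12957 := d20_1 D13949 (iv D12957) (iv F50951)
theorem F54937 : act 3 n13949 = n13059 := d25_1 D13949 (iv D13059) (iv F50952)
theorem F54938 : act 5 n13949 = n13296 := d32_1 D13949 (iv D13296) (iv F50953)
theorem F54939 : act 6 n13949 = n12955 := d34_1 D13949 (iv D12955) D12954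
def n13950 : Q := act 7 n12955
theorem D13950 : act 7 n12955 = n13950 := rfl
theorem F54940 : act 0 n13950 = n12982 := d6_1 D13950 (iv D12982) (iv F50954)
theorem F54941 : act 2 n13950 = n12958 := d19_1 D13950 (iv D12958) (iv F50955)
theorem F54942 : act 5 n13950 = n12956 := d31_1 D13950 (iv D12956) (iv F50957)
def n13951 : Q := act 3 n12956
theorem D13951 : act 3 n12956 = n13951 := rfl
theorem F54943 : act 0 n13951 = n12983 := d2_1 D13951 (iv D12983) (iv F50958)
theorem F54944 : act 6 n13951 = n13298 := d23_2 (iv F50961) D13951 (iv D13298)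
theorem F54945 : act 7 n13951 = n13061 := d24_2 D12956 D13951 (iv D13061) (iv D12024) (iv F46810)
def n13952 : Q := act 7 n12957
theorem D13952 : act 7 n12957 = n13952 := rfl
theorem F54946 : act 0 n13952 = n12984 := d6_1 D13952 (iv D12984) (iv F50962)
theorem F54947 : act 6 n13952 = n12958 := d33_1 D13952 (iv D12958) (iv F50964)
def n13953 : Q := act 3 n12958
theorem D13953 : act 3 n12958 = n13953 := rfl
theorem F54948 : act 0 n13953 = n12985 := d2_1 D13953 (iv D12985) (iv F50965)
theorem F54949 : act 5 n13953 = n12959 := d22_2 (iv F50966) D13953 (iv D12959)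
theorem F54950 : act 7 n13953 = n12963 := d24_2 D12958 D13953 (iv D12963) (iv D11921) (iv F46819)
def n13954 : Q := act 2 n12959
theorem D13954 : act 2 n12959 = n13954 := rfl
theorem F54951 : act 0 n13954 = n12986 := d1_1 D13954 (iv D12986) (iv F50967)
theorem F54952 : act 7 n13954 = n12964 := d19_2 (iv F50968) D13954 (iv D12964)
def n13955 : Q := act 7 n12960
theorem D13955 : act 7 n12960 = n13955 := rfl
theorem F54953 : act 0 n13955 = n12987 := d6_1 D13955 (iv D12987) (iv F50969)
theorem F54954 : act 2 n13955 = n13065 := d19_1 D13955 (iv D13065) (iv F50970)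
theorem F54955 : act 4 n13955 = n13955 := d28_1 D13955 (iv D13955) F50971
theorem F54956 : act 5 n13955 = n12962 := d31_1 D13955 (iv D12962) (iv F50972)
theorem F54957 : act 6 n13955 = n12961 := d33_1 D13955 (iv D12961) (iv F50973)
theorem F54958 : act 8 n13955 = n13108 := d35_2 D12960 D13955 F51582 F47485 (iv F46827)
def n13956 : Q := act 1 n12964
theorem D13956 : act 1 n12964 = n13956 := rfl
theorem F54959 : act 3 n13956 = n13068 := d9_2 (iv F50988) D13956 (iv D13068)
theorem F54960 : act 8 n13956 = n13161 := d14_2 (iv F50989) D13956 (iv D13161)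
def n13957 : Q := act 8 n12966
theorem D13957 : act 8 n12966 = n13957 := rfl
theorem F54961 : act 0 n13957 = n12968 := d7_1 D13957 (iv D12968) (iv F50997)
theorem F54962 : act 3 n13957 = n13957 := d25_1 D13957 (iv D13957) F50998
theorem F54963 : act 4 n13957 = n12967 := d29_1 D13957 (iv D12967) D12966
theorem F54964 : act 6 n13957 = n13230 := d34_1 D13957 (iv D13230) (iv F50999)
def n13958 : Q := act 7 n12967
theorem D13958 : act 7 n12967 = n13958 := rfl
theorem F54965 : act 0 n13958 = n12969 := d6_1 D13958 (iv D12969) (iv F51001)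
theorem F54966 : act 6 n13958 = n13231 := d33_1 D13958 (iv D13231) (iv F51003)
theorem F54967 : act 8 n13958 = n12978 := d35_2 D12967 D13958 (iv D12978) (iv D11942) (iv F46874)
def n13959 : Q := act 7 n12968
theorem D13959 : act 7 n12968 = n13959 := rfl
theorem F54968 : act 1 n13959 = n12971 := d13_1 D13959 (iv D12971) (iv F51004)
theorem F54969 : act 4 n13959 = n12969 := d28_1 D13959 (iv D12969) (iv F51006)
theorem F54970 : act 6 n13959 = n13247 := d33_1 D13959 (iv D13247) (iv F51007)
theorem F54971 : act 8 n13959 = n12980 := d35_2 D12968 D13959 (iv D12980) (iv D11944) (iv F46878)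
def n13960 : Q := act 7 n12970
theorem D13960 : act 7 n12970 = n13960 := rfl
theorem F54972 : act 2 n13960 = n12973 := d19_1 D13960 (iv D12973) (iv F51011)
theorem F54973 : act 5 n13960 = n12971 := d31_1 D13960 (iv D12971) (iv F51013)
theorem F54974 : act 8 n13960 = n12982 := d35_2 D12970 D13960 (iv D12982) (iv D11947) (iv F46884)
def n13961 : Q := act 3 n12971
theorem D13961 : act 3 n12971 = n13961 := rfl
theorem F54975 : act 6 n13961 = n13307 := d23_2 (iv F51016) D13961 (iv D13307)
theorem F54976 : act 7 n13961 = n13961 := d24_2 D12971 D13961 (iv D13961) (iv D12971) F46886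
theorem F54977 : act 8 n13961 = n12983 := d25_2 (iv F51017) D13961 (iv D12983)
def n13962 : Q := act 7 n12972
theorem D13962 : act 7 n12972 = n13962 := rfl
theorem F54978 : act 6 n13962 = n12973 := d33_1 D13962 (iv D12973) (iv F51019)
theorem F54979 : act 8 n13962 = n12984 := d35_2 D12972 D13962 (iv D12984) (iv D11949) (iv F46893)
def n13963 : Q := act 7 n12974
theorem D13963 : act 7 n12974 = n13963 := rfl
theorem F54980 : act 2 n13963 = n13308 := d19_1 D13963 (iv D13308) (iv F51022)
theorem F54981 : act 5 n13963 = n12984 := d31_1 D13963 (iv D12984) (iv F51024)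
theorem F54982 : act 6 n13963 = n12975 := d33_1 D13963 (iv D12975) (iv F51025)
def n13964 : Q := act 8 n12976
theorem D13964 : act 8 n12976 = n13964 := rfl
theorem F54983 : act 0 n13964 = n12979 := d7_1 D13964 (iv D12979) (iv F51028)
theorem F54984 : act 3 n13964 = n13070 := d25_1 D13964 (iv D13070) (iv F51029)
theorem F54985 : act 5 n13964 = n12977 := d32_1 D13964 (iv D12977) D12976
def n13965 : Q := act 7 n12977
theorem D13965 : act 7 n12977 = n13965 := rfl
theorem F54986 : act 0 n13965 = n12980 := d6_1 D13965 (iv D12980) (iv F51030)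
theorem F54987 : act 4 n13965 = n12978 := d28_1 D13965 (iv D12978) (iv F51032)
theorem F54988 : act 6 n13965 = n13237 := d33_1 D13965 (iv D13237) (iv F51033)
def n13966 : Q := act 7 n12979
theorem D13966 : act 7 n12979 = n13966 := rfl
theorem F54989 : act 1 n13966 = n12982 := d13_1 D13966 (iv D12982) (iv F51036)
theorem F54990 : act 5 n13966 = n12980 := d31_1 D13966 (iv D12980) (iv F51038)
def n13967 : Q := act 3 n12980
theorem D13967 : act 3 n12980 = n13967 := rfl
theorem F54991 : act 1 n13967 = n12983 := d9_1 D13967 (iv D12983) (iv F51039)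
theorem F54992 : act 6 n13967 = n13251 := d23_2 (iv F51041) D13967 (iv D13251)
theorem F54993 : act 7 n13967 = n13074 := d24_2 D12980 D13967 (iv D13074) (iv D12040) (iv F46916)
def n13968 : Q := act 7 n12981
theorem D13968 : act 7 n12981 = n13968 := rfl
theorem F54994 : act 2 n13968 = n12984 := d19_1 D13968 (iv D12984) (iv F51042)
theorem F54995 : act 5 n13968 = n13308 := d31_1 D13968 (iv D13308) (iv F51044)
theorem F54996 : act 6 n13968 = n12982 := d33_1 D13968 (iv D12982) (iv F51045)
def n13969 : Q := act 3 n12982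
theorem D13969 : act 3 n12982 = n13969 := rfl
theorem F54997 : act 5 n13969 = n12983 := d22_2 (iv F51047) D13969 (iv D12983)
theorem F54998 : act 7 n13969 = n13076 := d24_2 D12982 D13969 (iv D13076) (iv D12042) (iv F46925)
def n13970 : Q := act 2 n12983
theorem D13970 : act 2 n12983 = n13970 := rfl
theorem F54999 : act 3 n13970 = n12986 := d15_2 D12983 D13970 (iv D12986) (iv D11951) (iv F46927)
theorem F55000 : act 6 n13970 = n13310 := d18_2 (iv F51048) D13970 (iv D13310)
theorem F55001 : act 7 n13970 = n13077 := d19_2 (iv F51049) D13970 (iv D13077)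
def n13971 : Q := act 4 n12988
theorem D13971 : act 4 n12988 = n13971 := rfl
theorem F55002 : act 0 n13971 = n13971 := d3_1 D13971 (iv D13971) F51060
theorem F55003 : act 1 n13971 = n13399 := d10_1 D13971 (iv F53952) F53951
theorem F55004 : act 3 n13971 = n13162 := d21_1 D13971 (iv D13162) (iv D12155) (iv F46953) D12988
theorem F55005 : act 6 n13971 = n12991 := d27_2 (iv F51061) D13971 (iv D12991)
theorem F55006 : act 7 n13971 = n13632 := d28_2 (iv F51062) D13971 (iv D13632)
def n13972 : Q := act 8 n12988
theorem D13972 : act 8 n12988 = n13972 := rfl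
theorem F55007 : act 0 n13972 = n13972 := d7_1 D13972 (iv D13972) F51060
theorem F55008 : act 3 n13972 = n12989 := d25_1 D13972 (iv D12989) D12988
theorem F55009 : act 6 n13972 = n12992 := d34_1 D13972 (iv D12992) (iv F51061)
def n13973 : Q := act 8 n12990
theorem D13973 : act 8 n12990 = n13973 := rfl
theorem F55010 : act 0 n13973 = n13973 := d7_1 D13973 (iv D13973) F51068
theorem F55011 : act 2 n13973 = n12992 := d20_1 D13973 (iv D12992) D12990
theorem F55012 : act 3 n13973 = n12993 := d25_1 D13973 (iv D12993) (iv F51069)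
theorem F55013 : act 5 n13973 = n12996 := d32_1 D13973 (iv D12996) (iv F51070)
def n13974 : Q := act 8 n12991
theorem D13974 : act 8 n12991 = n13974 := rfl
theorem F55014 : act 0 n13974 = n13974 := d7_1 D13974 (iv D13974) F51072
theorem F55015 : act 3 n13974 = n13165 := d25_1 D13974 (iv D13165) (iv F51073)
theorem F55016 : act 4 n13974 = n12992 := d29_1 D13974 (iv D12992) D12991
def n13975 : Q := act 7 n12992
theorem D13975 : act 7 n12992 = n13975 := rfl
theorem F55017 : act 0 n13975 = n13975 := d6_1 D13975 (iv D13975) F51075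
theorem F55018 : act 3 n13975 = n13002 := d24_1 D13975 (iv D13002) F47001 (iv F46962) (iv F51076)
theorem F55019 : act 5 n13975 = n13318 := d31_1 D13975 (iv D13318) (iv F51077)
theorem F55020 : act 8 n13975 = n13639 := d35_2 D12992 D13975 (iv D13639) (iv D12625) (iv F46957)
def n13976 : Q := act 8 n12995
theorem D13976 : act 8 n12995 = n13976 := rfl
theorem F55021 : act 0 n13976 = n13976 := d7_1 D13976 (iv D13976) F51086
theorem F55022 : act 2 n13976 = n13317 := d20_1 D13976 (iv D13317) (iv F51087)
theorem F55023 : act 3 n13976 = n13167 := d25_1 D13976 (iv D13167) (iv F51088)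
theorem F55024 : act 4 n13976 = n12996 := d29_1 D13976 (iv D12996) D12995
theorem F55025 : act 6 n13976 = n13001 := d34_1 D13976 (iv D13001) (iv F51089)
def n13977 : Q := act 7 n12996
theorem D13977 : act 7 n12996 = n13977 := rfl
theorem F55026 : act 0 n13977 = n13977 := d6_1 D13977 (iv D13977) F51090
theorem F55027 : act 2 n13977 = n13318 := d19_1 D13977 (iv D13318) (iv F51091)
theorem F55028 : act 6 n13977 = n13002 := d33_1 D13977 (iv D13002) (iv F51093)
def n13978 : Q := act 0 n12997
theorem D13978 : act 0 n12997 = n13978 := rfl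
theorem F55029 : act 1 n13978 = n13978 := d0_2 D12997 D13978 (iv D13978) (iv D12997) F46994
theorem F55030 : act 3 n13978 = n13003 := d2_2 (iv F51094) D13978 (iv D13003)
theorem F55031 : act 6 n13978 = n13200 := d5_2 (iv F51095) D13978 F51953
theorem F55032 : act 7 n13978 = n13699 := d6_2 (iv F51096) D13978 F54066
def n13979 : Q := act 4 n12997
theorem D13979 : act 4 n12997 = n13979 := rfl
theorem F55033 : act 1 n13979 = n12998 := d10_1 D13979 (iv D12998) D12997
theorem F55034 : act 3 n13979 = n13979 := d21_1 D13979 (iv D13979) F51094 F47003 (iv F51094)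
theorem F55035 : act 6 n13979 = n13257 := d27_2 (iv F51095) D13979 (iv D13257)
theorem F55036 : act 7 n13979 = n13858 := d28_2 (iv F51096) D13979 (iv D13858)
def n13980 : Q := act 8 n12997
theorem D13980 : act 8 n12997 = n13980 := rfl
theorem F55037 : act 1 n13980 = n12999 := d14_1 D13980 (iv D12999) D12997
theorem F55038 : act 3 n13980 = n13004 := d25_1 D13980 (iv D13004) (iv F51094)
theorem F55039 : act 6 n13980 = n13258 := d34_1 D13980 (iv D13258) (iv F51095)
def n13981 : Q := act 5 n12998
theorem D13981 : act 5 n12998 = n13981 := rfl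
theorem F55040 : act 0 n13981 = n13981 := d4_1 D13981 (iv D13981) F51097
theorem F55041 : act 2 n13981 = n13000 := d17_1 D13981 (iv D13000) (iv F51098)
theorem F55042 : act 3 n13981 = n13981 := d22_1 D13981 (iv D13981) F51099
theorem F55043 : act 4 n13981 = n13190 := d26_1 D13981 F53753 (iv D13635) F49655 D12998
theorem F55044 : act 7 n13981 = n13194 := d31_2 (iv F51101) D13981 F51925
def n13982 : Q := act 8 n12998
theorem D13982 : act 8 n12998 = n13982 := rfl
theorem F55045 : act 0 n13982 = n13982 := d7_1 D13982 (iv D13982) F51097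
theorem F55046 : act 2 n13982 = n13001 := d20_1 D13982 (iv D13001) (iv F51098)
theorem F55047 : act 3 n13982 = n13982 := d25_1 D13982 (iv D13982) F51099
theorem F55048 : act 4 n13982 = n12999 := d29_1 D13982 (iv D12999) D12998
theorem F55049 : act 6 n13982 = n13317 := d34_1 D13982 (iv D13317) (iv F51100)
def n13983 : Q := act 7 n12999
theorem D13983 : act 7 n12999 = n13983 := rfl
theorem F55050 : act 0 n13983 = n13983 := d6_1 D13983 (iv D13983) F51102
theorem F55051 : act 2 n13983 = n13002 := d19_1 D13983 (iv D13002) (iv F51103)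
theorem F55052 : act 6 n13983 = n13318 := d33_1 D13983 (iv D13318) (iv F51105)
theorem F55053 : act 8 n13983 = n13977 := d35_2 D12999 D13983 (iv D13977) (iv D12996) (iv F46997)
def n13984 : Q := act 6 n13000
theorem D13984 : act 6 n13000 = n13984 := rfl
theorem F55054 : act 0 n13984 = n13984 := d5_1 D13984 (iv D13984) F51106
theorem F55055 : act 3 n13984 = n13169 := d23_1 D13984 (iv D13169) (iv F51107)
def n13985 : Q := act 8 n13000
theorem D13985 : act 8 n13000 = n13985 := rfl
theorem F55056 : act 0 n13985 = n13985 := d7_1 D13985 (iv D13985) F51106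
theorem F55057 : act 3 n13985 = n13170 := d25_1 D13985 (iv D13170) (iv F51107)
theorem F55058 : act 5 n13985 = n13001 := d32_1 D13985 (iv D13001) D13000
def n13986 : Q := act 7 n13001
theorem D13986 : act 7 n13001 = n13986 := rfl
theorem F55059 : act 0 n13986 = n13986 := d6_1 D13986 (iv D13986) F51108
theorem F55060 : act 4 n13986 = n13002 := d28_1 D13986 (iv D13002) (iv F51110)
def n13987 : Q := act 8 n13003
theorem D13987 : act 8 n13003 = n13987 := rfl
theorem F55061 : act 0 n13987 = n13004 := d7_1 D13987 (iv D13004) D13003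
theorem F55062 : act 1 n13987 = n13987 := d14_1 D13987 (iv D13987) F51112
theorem F55063 : act 2 n13987 = n13005 := d20_1 D13987 (iv D13005) (iv F51113)
theorem F55064 : act 4 n13987 = n13987 := d29_1 D13987 (iv D13987) F51114
theorem F55065 : act 6 n13987 = n13201 := d34_1 D13987 (iv D13201) (iv F51115)
def n13988 : Q := act 3 n13006
theorem D13988 : act 3 n13006 = n13988 := rfl
theorem F55066 : act 0 n13988 = n13008 := d2_1 D13988 (iv D13008) (iv F51125)
theorem F55067 : act 1 n13988 = n13988 := d9_1 D13988 (iv D13988) F51126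
theorem F55068 : act 4 n13988 = n13733 := d21_2 D13006 D13988 (iv D13733) (iv D12733) (iv F47028)
theorem F55069 : act 6 n13988 = n13211 := d23_2 (iv F51128) D13988 (iv D13211)
def n13989 : Q := act 5 n13006
theorem D13989 : act 5 n13006 = n13989 := rfl
theorem F55070 : act 0 n13989 = n13009 := d4_1 D13989 (iv D13009) (iv F51125)
theorem F55071 : act 1 n13989 = n13989 := d11_1 D13989 (iv D13989) F51126
theorem F55072 : act 2 n13989 = n13053 := d17_1 D13989 (iv D13053) (iv F51127)
theorem F55073 : act 4 n13989 = n13989 := d26_1 D13989 (iv D13989) (iv D13006) F47029 D13006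
theorem F55074 : act 7 n13989 = n13989 := d31_2 F51129 D13989 (iv D13989)
def n13990 : Q := act 8 n13006
theorem D13990 : act 8 n13006 = n13990 := rfl
theorem F55075 : act 0 n13990 = n13010 := d7_1 D13990 (iv D13010) (iv F51125)
theorem F55076 : act 1 n13990 = n13990 := d14_1 D13990 (iv D13990) F51126
theorem F55077 : act 2 n13990 = n13054 := d20_1 D13990 (iv D13054) (iv F51127)
theorem F55078 : act 4 n13990 = n13007 := d29_1 D13990 (iv D13007) D13006
theorem F55079 : act 6 n13990 = n13213 := d34_1 D13990 (iv D13213) (iv F51128)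
def n13991 : Q := act 7 n13007
theorem D13991 : act 7 n13007 = n13991 := rfl
theorem F55080 : act 0 n13991 = n13011 := d6_1 D13991 (iv D13011) (iv F51130)
theorem F55081 : act 1 n13991 = n13991 := d13_1 D13991 (iv D13991) F51131
theorem F55082 : act 2 n13991 = n13055 := d19_1 D13991 (iv D13055) (iv F51132)
theorem F55083 : act 5 n13991 = n13991 := d31_1 D13991 (iv D13991) F51134
theorem F55084 : act 6 n13991 = n13214 := d33_1 D13991 (iv D13214) (iv F51135)
theorem F55085 : act 8 n13991 = n13991 := d35_2 D13007 D13991 (iv D13991) (iv D13007) F47031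
def n13992 : Q := act 5 n13008
theorem D13992 : act 5 n13008 = n13992 := rfl
theorem F55086 : act 1 n13992 = n13012 := d11_1 D13992 (iv D13012) (iv F51136)
theorem F55087 : act 3 n13992 = n13009 := d22_1 D13992 (iv D13009) D13008
def n13993 : Q := act 7 n13008
theorem D13993 : act 7 n13008 = n13993 := rfl
theorem F55088 : act 1 n13993 = n13013 := d13_1 D13993 (iv D13013) (iv F51136)
theorem F55089 : act 3 n13993 = n13993 := d24_1 D13993 (iv D13993) (iv D13008) F47035 D13008
theorem F55090 : act 4 n13993 = n13904 := d28_1 D13993 (iv D13904) (iv F51137)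
theorem F55091 : act 6 n13993 = n13272 := d33_1 D13993 (iv D13272) (iv F51138)
def n13994 : Q := act 8 n13008
theorem D13994 : act 8 n13008 = n13994 := rfl
theorem F55092 : act 1 n13994 = n13014 := d14_1 D13994 (iv D13014) (iv F51136)
theorem F55093 : act 3 n13994 = n13010 := d25_1 D13994 (iv D13010) D13008
theorem F55094 : act 4 n13994 = n13905 := d29_1 D13994 (iv D13905) (iv F51137)
theorem F55095 : act 6 n13994 = n13273 := d34_1 D13994 (iv D13273) (iv F51138)
def n13995 : Q := act 6 n13009
theorem D13995 : act 6 n13009 = n13995 := rfl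
theorem F55096 : act 1 n13995 = n13015 := d12_1 D13995 (iv D13015) (iv F51139)
theorem F55097 : act 2 n13995 = n13056 := d18_1 D13995 (iv D13056) (iv F51140)
theorem F55098 : act 4 n13995 = n13995 := d27_1 D13995 (iv D13995) F51141
theorem F55099 : act 5 n13995 = n13274 := d30_1 D13995 (iv D13274) (iv D12269) (iv F47034) D13009
theorem F55100 : act 7 n13995 = n13995 := d33_2 F51142 D13995 (iv D13995)
def n13996 : Q := act 8 n13009
theorem D13996 : act 8 n13009 = n13996 := rfl
theorem F55101 : act 1 n13996 = n13016 := d14_1 D13996 (iv D13016) (iv F51139)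
theorem F55102 : act 2 n13996 = n13057 := d20_1 D13996 (iv D13057) (iv F51140)
theorem F55103 : act 4 n13996 = n13996 := d29_1 D13996 (iv D13996) F51141
theorem F55104 : act 5 n13996 = n13010 := d32_1 D13996 (iv D13010) D13009
def n13997 : Q := act 7 n13010
theorem D13997 : act 7 n13010 = n13997 := rfl
theorem F55105 : act 1 n13997 = n13017 := d13_1 D13997 (iv D13017) (iv F51143)
theorem F55106 : act 2 n13997 = n13058 := d19_1 D13997 (iv D13058) (iv F51144)
theorem F55107 : act 4 n13997 = n13011 := d28_1 D13997 (iv D13011) (iv F51145)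
theorem F55108 : act 6 n13997 = n13276 := d33_1 D13997 (iv D13276) (iv F51146)
theorem F55109 : act 8 n13997 = n13997 := d35_2 D13010 D13997 (iv D13997) (iv D13010) F47035
def n13998 : Q := act 3 n13011
theorem D13998 : act 3 n13011 = n13998 := rfl
theorem F55110 : act 1 n13998 = n13018 := d9_1 D13998 (iv D13018) (iv F51147)
theorem F55111 : act 5 n13998 = n13998 := d22_2 F51149 D13998 (iv D13998)
theorem F55112 : act 6 n13998 = n13277 := d23_2 (iv F51150) D13998 (iv D13277)
theorem F55113 : act 7 n13998 = n13909 := d24_2 D13011 D13998 (iv D13909) (iv D12908) (iv F47038)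
theorem F55114 : act 8 n13998 = n13998 := d25_2 F51151 D13998 (iv D13998)
def n13999 : Q := act 4 n13012
theorem D13999 : act 4 n13012 = n13999 := rfl
theorem F55115 : act 0 n13999 = n13999 := d3_1 D13999 (iv D13999) F51152
theorem F55116 : act 2 n13999 = n13032 := d16_1 D13999 (iv D13032) (iv F51153)
theorem F55117 : act 3 n13999 = n13999 := d21_1 D13999 (iv D13999) F51154 F47046 (iv F51154)
def n14000 : Q := act 6 n13012
theorem D14000 : act 6 n13012 = n14000 := rfl
theorem F55118 : act 0 n14000 = n14000 := d5_1 D14000 (iv D14000) F51152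
theorem F55119 : act 2 n14000 = n13033 := d18_1 D14000 (iv D13033) (iv F51153)
theorem F55120 : act 3 n14000 = n13015 := d23_1 D14000 (iv D13015) (iv F51154)
theorem F55121 : act 5 n14000 = n13320 := d30_1 D14000 (iv D13320) (iv D12311) (iv F47043) D13012
theorem F55122 : act 7 n13999 = n14000 := d19_0 F55119 (iv F51253) (iv F55116)
def n14001 : Q := act 7 n13012
theorem D14001 : act 7 n13012 = n14001 := rfl
theorem F55123 : act 0 n14001 = n14001 := d6_1 D14001 (iv D14001) F51152
theorem F55124 : act 2 n14001 = n13034 := d19_1 D14001 (iv D13034) (iv F51153)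
theorem F55125 : act 3 n14001 = n14001 := d24_1 D14001 (iv D14001) F51154 F47047 (iv F51154)
theorem F55126 : act 4 n14001 = n14000 := d28_1 D14001 (iv F55122) (iv D13999)
theorem F55127 : act 5 n14001 = n13013 := d31_1 D14001 (iv D13013) D13012
theorem F55128 : act 6 n14001 = n13999 := d33_1 D14001 F55122 (iv D14000)
def n14002 : Q := act 8 n13012
theorem D14002 : act 8 n13012 = n14002 := rfl
theorem F55129 : act 0 n14002 = n14002 := d7_1 D14002 (iv D14002) F51152
theorem F55130 : act 2 n14002 = n13035 := d20_1 D14002 (iv D13035) (iv F51153)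
theorem F55131 : act 3 n14002 = n13016 := d25_1 D14002 (iv D13016) (iv F51154)
theorem F55132 : act 5 n14002 = n13014 := d32_1 D14002 (iv D13014) D13012
def n14003 : Q := act 8 n13013
theorem D14003 : act 8 n13013 = n14003 := rfl
theorem F55133 : act 0 n14003 = n14003 := d7_1 D14003 (iv D14003) F51155
theorem F55134 : act 2 n14003 = n13036 := d20_1 D14003 (iv D13036) (iv F51156)
theorem F55135 : act 3 n14003 = n14003 := d25_1 D14003 (iv D14003) F51157
theorem F55136 : act 6 n14003 = n13323 := d34_1 D14003 (iv D13323) (iv F51158)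
def n14004 : Q := act 7 n13014
theorem D14004 : act 7 n13014 = n14004 := rfl
theorem F55137 : act 0 n14004 = n14004 := d6_1 D14004 (iv D14004) F51159
theorem F55138 : act 2 n14004 = n13037 := d19_1 D14004 (iv D13037) (iv F51160)
theorem F55139 : act 6 n14004 = n13324 := d33_1 D14004 (iv D13324) (iv F51162)
def n14005 : Q := act 8 n13015
theorem D14005 : act 8 n13015 = n14005 := rfl
theorem F55140 : act 0 n14005 = n14005 := d7_1 D14005 (iv D14005) F51163
theorem F55141 : act 2 n14005 = n13019 := d20_1 D14005 (iv D13019) (iv F51164)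
theorem F55142 : act 4 n14005 = n14005 := d29_1 D14005 (iv D14005) F51165
theorem F55143 : act 5 n14005 = n13325 := d32_1 D14005 (iv D13325) (iv F51166)
theorem F55144 : act 6 n14005 = n13016 := d34_1 D14005 (iv D13016) D13015
def n14006 : Q := act 7 n13016
theorem D14006 : act 7 n13016 = n14006 := rfl
theorem F55145 : act 0 n14006 = n14006 := d6_1 D14006 (iv D14006) F51168
theorem F55146 : act 2 n14006 = n13020 := d19_1 D14006 (iv D13020) (iv F51169)
theorem F55147 : act 4 n14006 = n14006 := d28_1 D14006 (iv D14006) F51170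
theorem F55148 : act 5 n14006 = n13017 := d31_1 D14006 (iv D13017) (iv F51171)
theorem F55149 : act 8 n14006 = n14006 := d35_2 D13016 D14006 (iv D14006) (iv D13016) F47047
def n14007 : Q := act 3 n13017
theorem D14007 : act 3 n13017 = n14007 := rfl
theorem F55150 : act 0 n14007 = n14007 := d2_1 D14007 (iv D14007) F51172
theorem F55151 : act 6 n14007 = n13327 := d23_2 (iv F51175) D14007 (iv D13327)
theorem F55152 : act 8 n14007 = n14007 := d25_2 F51176 D14007 (iv D14007)
def n14008 : Q := act 4 n13018
theorem D14008 : act 4 n13018 = n14008 := rfl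
theorem F55153 : act 0 n14008 = n14008 := d3_1 D14008 (iv D14008) F51177
theorem F55154 : act 2 n14008 = n14008 := d16_1 D14008 (iv D14008) F51178
theorem F55155 : act 6 n14008 = n13328 := d27_2 (iv F51180) D14008 (iv D13328)
theorem F55156 : act 8 n14008 = n14008 := d29_2 F51181 D14008 (iv D14008)
def n14009 : Q := act 7 n13019
theorem D14009 : act 7 n13019 = n14009 := rfl
theorem F55157 : act 0 n14009 = n14009 := d6_1 D14009 (iv D14009) F51182
theorem F55158 : act 1 n14009 = n13062 := d13_1 D14009 (iv D13062) (iv F51183)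
theorem F55159 : act 4 n14009 = n14009 := d28_1 D14009 (iv D14009) F51185
theorem F55160 : act 5 n14009 = n13329 := d31_1 D14009 (iv D13329) (iv F51186)
theorem F55161 : act 6 n14009 = n13020 := d33_1 D14009 (iv D13020) (iv F51187)
theorem F55162 : act 8 n14009 = n14009 := d35_2 D13019 D14009 (iv D14009) (iv D13019) F47062
def n14010 : Q := act 3 n13020
theorem D14010 : act 3 n13020 = n14010 := rfl
theorem F55163 : act 0 n14010 = n14010 := d2_1 D14010 (iv D14010) F51188
theorem F55164 : act 1 n14010 = n13063 := d9_1 D14010 (iv D13063) (iv F51189)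
theorem F55165 : act 5 n14010 = n13021 := d22_2 (iv F51191) D14010 (iv D13021)
theorem F55166 : act 7 n14010 = n13043 := d24_2 D13020 D14010 (iv D13043) (iv D12002) (iv F47065)
theorem F55167 : act 8 n14010 = n14010 := d25_2 F51192 D14010 (iv D14010)
def n14011 : Q := act 2 n13021
theorem D14011 : act 2 n13021 = n14011 := rfl
theorem F55168 : act 0 n14011 = n14011 := d1_1 D14011 (iv D14011) F51193
theorem F55169 : act 4 n14011 = n14011 := d16_2 F51195 D14011 (iv D14011)
theorem F55170 : act 6 n14011 = n13331 := d18_2 (iv F51196) D14011 (iv D13331)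
theorem F55171 : act 7 n14011 = n13044 := d19_2 (iv F51197) D14011 (iv D13044)
theorem F55172 : act 8 n14011 = n14011 := d20_2 F51198 D14011 (iv D14011)
def n14012 : Q := act 4 n13022
theorem D14012 : act 4 n13022 = n14012 := rfl
theorem F55173 : act 0 n14012 = n14012 := d3_1 D14012 (iv D14012) F51199
theorem F55174 : act 2 n14012 = n13319 := d16_1 D14012 (iv D13319) (iv F51200)
theorem F55175 : act 3 n14012 = n14012 := d21_1 D14012 (iv D14012) F51201 F47079 (iv F51201)
theorem F55176 : act 5 n14012 = n13999 := d26_2 D13022 D14012 (iv D13999) (iv D13012) (iv F47075)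
theorem F55177 : act 6 n13321 = n14012 := d30_0 F55176 (iv F55128) F55127 F51158 (iv F52355)
theorem F55178 : act 7 n13320 = n14012 := d31_0 F55176 F55122 F55121
def n14013 : Q := act 6 n13022
theorem D14013 : act 6 n13022 = n14013 := rfl
theorem F55179 : act 0 n14013 = n14013 := d5_1 D14013 (iv D14013) F51199
theorem F55180 : act 2 n14013 = n13320 := d18_1 D14013 (iv D13320) (iv F51200)
theorem F55181 : act 3 n14013 = n13025 := d23_1 D14013 (iv D13025) (iv F51201)
theorem F55182 : act 4 n14013 = n13321 := d27_1 D14013 F55177 (iv D14012)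
theorem F55183 : act 5 n14013 = n13033 := d30_1 D14013 (iv D13033) (iv D11994) (iv F47076) D13022
theorem F55184 : act 7 n13319 = n14013 := d31_0 F55183 (iv F51253) (iv F52350)
def n14014 : Q := act 7 n13022
theorem D14014 : act 7 n13022 = n14014 := rfl
theorem F55185 : act 0 n14014 = n14014 := d6_1 D14014 (iv D14014) F51199
theorem F55186 : act 2 n14014 = n13321 := d19_1 D14014 (iv D13321) (iv F51200)
theorem F55187 : act 3 n14014 = n13174 := d24_1 D14014 (iv D13174) F47828 (iv F47080) (iv F51201)
theorem F55188 : act 4 n14014 = n13320 := d28_1 D14014 F55178 (iv D14012)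
theorem F55189 : act 5 n14014 = n13023 := d31_1 D14014 (iv D13023) D13022
theorem F55190 : act 6 n14014 = n13319 := d33_1 D14014 F55184 (iv D14013)
def n14015 : Q := act 8 n13022
theorem D14015 : act 8 n13022 = n14015 := rfl
theorem F55191 : act 0 n14015 = n14015 := d7_1 D14015 (iv D14015) F51199
theorem F55192 : act 2 n14015 = n13322 := d20_1 D14015 (iv D13322) (iv F51200)
theorem F55193 : act 3 n14015 = n13026 := d25_1 D14015 (iv D13026) (iv F51201)
theorem F55194 : act 5 n14015 = n13024 := d32_1 D14015 (iv D13024) D13022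
def n14016 : Q := act 8 n13023
theorem D14016 : act 8 n13023 = n14016 := rfl
theorem F55195 : act 0 n14016 = n14016 := d7_1 D14016 (iv D14016) F51202
theorem F55196 : act 2 n14016 = n13323 := d20_1 D14016 (iv D13323) (iv F51203)
theorem F55197 : act 3 n14016 = n13176 := d25_1 D14016 (iv D13176) (iv F51204)
theorem F55198 : act 4 n14016 = n14003 := d29_1 D14016 (iv D14003) (iv F51205)
theorem F55199 : act 6 n14016 = n13036 := d34_1 D14016 (iv D13036) (iv F51206)
def n14017 : Q := act 7 n13024
theorem D14017 : act 7 n13024 = n14017 := rfl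
theorem F55200 : act 0 n14017 = n14017 := d6_1 D14017 (iv D14017) F51207
theorem F55201 : act 2 n14017 = n13324 := d19_1 D14017 (iv D13324) (iv F51208)
theorem F55202 : act 4 n14017 = n14004 := d28_1 D14017 (iv D14004) (iv F51210)
theorem F55203 : act 6 n14017 = n13037 := d33_1 D14017 (iv D13037) (iv F51211)
def n14018 : Q := act 8 n13025
theorem D14018 : act 8 n13025 = n14018 := rfl
theorem F55204 : act 0 n14018 = n14018 := d7_1 D14018 (iv D14018) F51212
theorem F55205 : act 2 n14018 = n13029 := d20_1 D14018 (iv D13029) (iv F51213)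
theorem F55206 : act 4 n14018 = n14018 := d29_1 D14018 (iv D14018) F51214
theorem F55207 : act 5 n14018 = n13038 := d32_1 D14018 (iv D13038) (iv F51215)
theorem F55208 : act 6 n14018 = n13026 := d34_1 D14018 (iv D13026) D13025
def n14019 : Q := act 7 n13026
theorem D14019 : act 7 n13026 = n14019 := rfl
theorem F55209 : act 0 n14019 = n14019 := d6_1 D14019 (iv D14019) F51217
theorem F55210 : act 2 n14019 = n13030 := d19_1 D14019 (iv D13030) (iv F51218)
theorem F55211 : act 4 n14019 = n14019 := d28_1 D14019 (iv D14019) F51219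
theorem F55212 : act 5 n14019 = n13027 := d31_1 D14019 (iv D13027) (iv F51220)
theorem F55213 : act 8 n14019 = n13179 := d35_2 D13026 D14019 (iv D13179) (iv D12174) (iv F47080)
def n14020 : Q := act 3 n13027
theorem D14020 : act 3 n13027 = n14020 := rfl
theorem F55214 : act 0 n14020 = n14020 := d2_1 D14020 (iv D14020) F51221
theorem F55215 : act 6 n14020 = n13040 := d23_2 (iv F51224) D14020 (iv D13040)
theorem F55216 : act 8 n14020 = n13180 := d25_2 (iv F51225) D14020 (iv D13180)
def n14021 : Q := act 4 n13028
theorem D14021 : act 4 n13028 = n14021 := rfl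
theorem F55217 : act 0 n14021 = n14021 := d3_1 D14021 (iv D14021) F51226
theorem F55218 : act 2 n14021 = n14021 := d16_1 D14021 (iv D14021) F51227
theorem F55219 : act 6 n14021 = n13041 := d27_2 (iv F51229) D14021 (iv D13041)
theorem F55220 : act 7 n14021 = n14008 := d28_2 (iv F51230) D14021 (iv D14008)
theorem F55221 : act 8 n14021 = n13181 := d29_2 (iv F51231) D14021 (iv D13181)
def n14022 : Q := act 7 n13029
theorem D14022 : act 7 n13029 = n14022 := rfl
theorem F55222 : act 0 n14022 = n14022 := d6_1 D14022 (iv D14022) F51232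
theorem F55223 : act 1 n14022 = n13065 := d13_1 D14022 (iv D13065) (iv F51233)
theorem F55224 : act 4 n14022 = n14022 := d28_1 D14022 (iv D14022) F51235
theorem F55225 : act 5 n14022 = n13042 := d31_1 D14022 (iv D13042) (iv F51236)
theorem F55226 : act 6 n14022 = n13030 := d33_1 D14022 (iv D13030) (iv F51237)
theorem F55227 : act 8 n14022 = n13182 := d35_2 D13029 D14022 (iv D13182) (iv D12177) (iv F47095)
def n14023 : Q := act 3 n13030
theorem D14023 : act 3 n13030 = n14023 := rfl
theorem F55228 : act 0 n14023 = n14023 := d2_1 D14023 (iv D14023) F51238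
theorem F55229 : act 1 n14023 = n13066 := d9_1 D14023 (iv D13066) (iv F51239)
theorem F55230 : act 5 n14023 = n13031 := d22_2 (iv F51241) D14023 (iv D13031)
theorem F55231 : act 7 n14023 = n13330 := d24_2 D13030 D14023 (iv D13330) (iv D12319) (iv F47098)
theorem F55232 : act 8 n14023 = n13183 := d25_2 (iv F51242) D14023 (iv D13183)
def n14024 : Q := act 2 n13031
theorem D14024 : act 2 n13031 = n14024 := rfl
theorem F55233 : act 0 n14024 = n14024 := d1_1 D14024 (iv D14024) F51243
theorem F55234 : act 4 n14024 = n14024 := d16_2 F51245 D14024 (iv D14024)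
theorem F55235 : act 6 n14024 = n13044 := d18_2 (iv F51246) D14024 (iv D13044)
theorem F55236 : act 7 n14024 = n13331 := d19_2 (iv F51247) D14024 (iv D13331)
theorem F55237 : act 8 n14024 = n13184 := d20_2 (iv F51248) D14024 (iv D13184)
def n14025 : Q := act 8 n13032
theorem D14025 : act 8 n13032 = n14025 := rfl
theorem F55238 : act 0 n14025 = n14025 := d7_1 D14025 (iv D14025) F51249
theorem F55239 : act 3 n14025 = n13045 := d25_1 D14025 (iv D13045) (iv F51250)
theorem F55240 : act 4 n14025 = n13035 := d29_1 D14025 (iv D13035) D13032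
def n14026 : Q := act 8 n13033
theorem D14026 : act 8 n13033 = n14026 := rfl
theorem F55241 : act 0 n14026 = n14026 := d7_1 D14026 (iv D14026) F51251
theorem F55242 : act 3 n14026 = n13038 := d25_1 D14026 (iv D13038) (iv F51252)
theorem F55243 : act 6 n14026 = n13035 := d34_1 D14026 (iv D13035) D13033
def n14027 : Q := act 8 n13034
theorem D14027 : act 8 n13034 = n14027 := rfl
theorem F55244 : act 0 n14027 = n14027 := d7_1 D14027 (iv D14027) F51254
theorem F55245 : act 3 n14027 = n13187 := d25_1 D14027 (iv D13187) (iv F51255)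
theorem F55246 : act 4 n14027 = n14026 := d29_1 D14027 (iv D14026) (iv F51256)
theorem F55247 : act 5 n14027 = n13036 := d32_1 D14027 (iv D13036) (iv F51257)
theorem F55248 : act 6 n14027 = n14025 := d34_1 D14027 (iv D14025) (iv F51258)
def n14028 : Q := act 7 n13035
theorem D14028 : act 7 n13035 = n14028 := rfl
theorem F55249 : act 0 n14028 = n14028 := d6_1 D14028 (iv D14028) F51259
theorem F55250 : act 5 n14028 = n13037 := d31_1 D14028 (iv D13037) (iv F51261)
def n14029 : Q := act 7 n13036
theorem D14029 : act 7 n13036 = n14029 := rfl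
theorem F55251 : act 0 n14029 = n14029 := d6_1 D14029 (iv D14029) F51262
theorem F55252 : act 8 n14029 = n13037 := d35_2 D13036 D14029 (iv D13037) (iv D11996) D11995
def n14030 : Q := act 3 n13037
theorem D14030 : act 3 n13037 = n14030 := rfl
theorem F55253 : act 0 n14030 = n14030 := d2_1 D14030 (iv D14030) F51264
theorem F55254 : act 7 n14030 = n13040 := d24_2 D13037 D14030 (iv D13040) (iv D11999) (iv F47111)
def n14031 : Q := act 7 n13038
theorem D14031 : act 7 n13038 = n14031 := rfl
theorem F55255 : act 0 n14031 = n14031 := d6_1 D14031 (iv D14031) F51265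
theorem F55256 : act 2 n14031 = n13042 := d19_1 D14031 (iv D13042) (iv F51266)
theorem F55257 : act 4 n14031 = n13051 := d28_1 D14031 (iv D13051) (iv F51267)
theorem F55258 : act 6 n14031 = n13039 := d33_1 D14031 (iv D13039) (iv F51268)
theorem F55259 : act 8 n14031 = n13191 := d35_2 D13038 D14031 (iv D13191) (iv D12186) (iv F47115)
def n14032 : Q := act 3 n13039
theorem D14032 : act 3 n13039 = n14032 := rfl
theorem F55260 : act 0 n14032 = n14032 := d2_1 D14032 (iv D14032) F51269
theorem F55261 : act 2 n14032 = n13974 := d15_1 D14032 F55015 F51800 (iv D13043) (iv F51270)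
theorem F55262 : act 4 n14032 = n13973 := d21_2 (iv F51271) D14032 F55012 F51328 (iv D13052)
theorem F55263 : act 5 n14032 = n13040 := d22_2 (iv F51272) D14032 (iv D13040)
theorem F55264 : act 8 n14032 = n13192 := d25_2 (iv F51273) D14032 (iv D13192)
def n14033 : Q := act 2 n13040
theorem D14033 : act 2 n13040 = n14033 := rfl
theorem F55265 : act 0 n14033 = n14033 := d1_1 D14033 (iv D14033) F51274
theorem F55266 : act 3 n14033 = n13044 := d15_2 D13040 D14033 (iv D13044) (iv D12003) (iv F47121)
theorem F55267 : act 5 n14033 = n13974 := d17_2 F55263 D14033 (iv F55261)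
theorem F55268 : act 8 n14033 = n13193 := d20_2 (iv F51275) D14033 (iv D13193)
def n14034 : Q := act 4 n13040
theorem D14034 : act 4 n13040 = n14034 := rfl
theorem F55269 : act 0 n14034 = n14034 := d3_1 D14034 (iv D14034) F51274
theorem F55270 : act 3 n14034 = n13041 := d21_1 D14034 (iv D13041) (iv D12000) (iv F47122) D13040
theorem F55271 : act 5 n14034 = n13976 := d26_2 F55263 D14034 F55024 (iv F55013) (iv F55262)
theorem F55272 : act 8 n14034 = n13194 := d29_2 (iv F51275) D14034 (iv D13194)
def n14035 : Q := act 1 n13044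
theorem D14035 : act 1 n13044 = n14035 := rfl
theorem F55273 : act 2 n14035 = n13068 := d8_2 D13044 D14035 (iv D13068) (iv D12033) (iv F47138)
theorem F55274 : act 4 n14035 = n14035 := d10_2 F51289 D14035 (iv D14035)
theorem F55275 : act 8 n14035 = n13195 := d14_2 (iv F51290) D14035 (iv D13195)
def n14036 : Q := act 7 n13045
theorem D14036 : act 7 n13045 = n14036 := rfl
theorem F55276 : act 0 n14036 = n14036 := d6_1 D14036 (iv D14036) F51291
theorem F55277 : act 2 n14036 = n14036 := d19_1 D14036 (iv D14036) F51292
theorem F55278 : act 4 n14036 = n13048 := d28_1 D14036 (iv D13048) (iv F51293)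
def n14037 : Q := act 7 n13046
theorem D14037 : act 7 n13046 = n14037 := rfl
theorem F55279 : act 0 n14037 = n14037 := d6_1 D14037 (iv D14037) F51294
theorem F55280 : act 2 n14037 = n14037 := d19_1 D14037 (iv D14037) F51295
theorem F55281 : act 5 n14037 = n14037 := d31_1 D14037 (iv D14037) F51297
theorem F55282 : act 6 n14037 = n13048 := d33_1 D14037 (iv D13048) (iv F51298)
theorem F55283 : act 8 n14037 = n13648 := d35_2 D13046 D14037 F53819 (iv D13185) (iv F47961)
theorem F55284 : act 3 n13649 = n14037 := d25_3 F55283 (iv D13648) D13649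
def n14038 : Q := act 7 n13047
theorem D14038 : act 7 n13047 = n14038 := rfl
theorem F55285 : act 0 n14038 = n14038 := d6_1 D14038 (iv D14038) F51299
theorem F55286 : act 1 n14038 = n13674 := d13_1 D14038 F54848 F54845
theorem F55287 : act 2 n14038 = n14038 := d19_1 D14038 (iv D14038) F51300
theorem F55288 : act 3 n14038 = n13642 := d24_1 D14038 F53787 F51943 (iv D13197) (iv F51301)
theorem F55289 : act 5 n14038 = n13049 := d31_1 D14038 (iv D13049) (iv F51302)
theorem F55290 : act 6 n14038 = n13648 := d33_1 D14038 F53819 F51892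
theorem F55291 : act 8 n14038 = n13048 := d35_2 D13047 D14038 (iv D13048) (iv D12007) D12006
def n14039 : Q := act 3 n13048
theorem D14039 : act 3 n13048 = n14039 := rfl
theorem F55292 : act 0 n14039 = n14039 := d2_1 D14039 (iv D14039) F51303
theorem F55293 : act 1 n14039 = n13675 := d9_1 D14039 F54853 F54850
theorem F55294 : act 5 n14039 = n13050 := d22_2 (iv F51305) D14039 (iv D13050)
theorem F55295 : act 6 n14039 = n13649 := d23_2 F55282 D14039 F55284
theorem F55296 : act 7 n14039 = n13052 := d24_2 D13048 D14039 (iv D13052) (iv D12011) (iv F47153)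
theorem F55297 : act 8 n14039 = n13642 := d25_2 F55291 D14039 (iv F55288)
theorem F55298 : act 2 n13644 = n14039 := d20_3 F55297 F53784 D13644
theorem F55299 : act 4 n13643 = n14039 := d29_3 F55297 (iv D13642) D13643
def n14040 : Q := act 3 n13051
theorem D14040 : act 3 n13051 = n14040 := rfl
theorem F55300 : act 0 n14040 = n14040 := d2_1 D14040 (iv D14040) F51319
theorem F55301 : act 2 n14040 = n13640 := d15_1 D14040 F53771 F49782 F48464 (iv F51320)
theorem F55302 : act 5 n14040 = n14040 := d22_2 F51321 D14040 (iv D14040)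
theorem F55303 : act 6 n14040 = n13052 := d23_2 (iv F51322) D14040 (iv D13052)
theorem F55304 : act 7 n14040 = n13649 := d24_2 D13051 D14040 F55284 (iv D14037) F51296
theorem F55305 : act 8 n14040 = n13198 := d25_2 (iv F51323) D14040 (iv D13198)
theorem F55306 : act 4 n13630 = n14040 := d29_3 F55305 (iv F51949) D13630
def n14041 : Q := act 6 n13053
theorem D14041 : act 6 n13053 = n14041 := rfl
theorem F55307 : act 0 n14041 = n13056 := d5_1 D14041 (iv D13056) (iv F51329)
theorem F55308 : act 1 n14041 = n13069 := d12_1 D14041 (iv D13069) (iv F51330)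
theorem F55309 : act 4 n14041 = n14041 := d27_1 D14041 (iv D14041) F51331
theorem F55310 : act 5 n14041 = n13215 := d30_1 D14041 (iv D13215) (iv D12217) (iv F47194) D13053
theorem F55311 : act 7 n14041 = n14041 := d33_2 F51332 D14041 (iv D14041)
def n14042 : Q := act 8 n13053
theorem D14042 : act 8 n13053 = n14042 := rfl
theorem F55312 : act 0 n14042 = n13057 := d7_1 D14042 (iv D13057) (iv F51329)
theorem F55313 : act 1 n14042 = n13070 := d14_1 D14042 (iv D13070) (iv F51330)
theorem F55314 : act 4 n14042 = n14042 := d29_1 D14042 (iv D14042) F51331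
theorem F55315 : act 5 n14042 = n13054 := d32_1 D14042 (iv D13054) D13053
def n14043 : Q := act 7 n13054
theorem D14043 : act 7 n13054 = n14043 := rfl
theorem F55316 : act 0 n14043 = n13058 := d6_1 D14043 (iv D13058) (iv F51333)
theorem F55317 : act 1 n14043 = n13071 := d13_1 D14043 (iv D13071) (iv F51334)
theorem F55318 : act 4 n14043 = n13055 := d28_1 D14043 (iv D13055) (iv F51335)
theorem F55319 : act 6 n14043 = n13217 := d33_1 D14043 (iv D13217) (iv F51336)
theorem F55320 : act 8 n14043 = n14043 := d35_2 D13054 D14043 (iv D14043) (iv D13054) F47195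
def n14044 : Q := act 8 n13056
theorem D14044 : act 8 n13056 = n14044 := rfl
theorem F55321 : act 1 n14044 = n13059 := d14_1 D14044 (iv D13059) (iv F51342)
theorem F55322 : act 4 n14044 = n14044 := d29_1 D14044 (iv D14044) F51343
theorem F55323 : act 5 n14044 = n13278 := d32_1 D14044 (iv D13278) (iv F51344)
theorem F55324 : act 6 n14044 = n13057 := d34_1 D14044 (iv D13057) D13056
def n14045 : Q := act 7 n13057
theorem D14045 : act 7 n13057 = n14045 := rfl
theorem F55325 : act 1 n14045 = n13060 := d13_1 D14045 (iv D13060) (iv F51346)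
theorem F55326 : act 4 n14045 = n14045 := d28_1 D14045 (iv D14045) F51347
theorem F55327 : act 5 n14045 = n13058 := d31_1 D14045 (iv D13058) (iv F51348)
theorem F55328 : act 8 n14045 = n14045 := d35_2 D13057 D14045 (iv D14045) (iv D13057) F47203
def n14046 : Q := act 3 n13058
theorem D14046 : act 3 n13058 = n14046 := rfl
theorem F55329 : act 1 n14046 = n13061 := d9_1 D14046 (iv D13061) (iv F51349)
theorem F55330 : act 6 n14046 = n13280 := d23_2 (iv F51351) D14046 (iv D13280)
theorem F55331 : act 8 n14046 = n14046 := d25_2 F51352 D14046 (iv D14046)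
def n14047 : Q := act 7 n13059
theorem D14047 : act 7 n13059 = n14047 := rfl
theorem F55332 : act 0 n14047 = n13075 := d6_1 D14047 (iv D13075) (iv F51353)
theorem F55333 : act 2 n14047 = n13062 := d19_1 D14047 (iv D13062) (iv F51354)
theorem F55334 : act 4 n14047 = n14047 := d28_1 D14047 (iv D14047) F51355
theorem F55335 : act 5 n14047 = n13299 := d31_1 D14047 (iv D13299) (iv F51356)
theorem F55336 : act 6 n14047 = n13060 := d33_1 D14047 (iv D13060) (iv F51357)
theorem F55337 : act 8 n14047 = n14047 := d35_2 D13059 D14047 (iv D14047) (iv D13059) F47215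
def n14048 : Q := act 3 n13060
theorem D14048 : act 3 n13060 = n14048 := rfl
theorem F55338 : act 0 n14048 = n13076 := d2_1 D14048 (iv D13076) (iv F51358)
theorem F55339 : act 5 n14048 = n13061 := d22_2 (iv F51361) D14048 (iv D13061)
theorem F55340 : act 8 n14048 = n14048 := d25_2 F51362 D14048 (iv D14048)
def n14049 : Q := act 2 n13061
theorem D14049 : act 2 n13061 = n14049 := rfl
theorem F55341 : act 0 n14049 = n13077 := d1_1 D14049 (iv D13077) (iv F51363)
theorem F55342 : act 3 n14049 = n13064 := d15_2 D13061 D14049 (iv D13064) (iv D12027) (iv F47221)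
theorem F55343 : act 6 n14049 = n13301 := d18_2 (iv F51364) D14049 (iv D13301)
theorem F55344 : act 8 n14049 = n14049 := d20_2 F51365 D14049 (iv D14049)
def n14050 : Q := act 1 n13064
theorem D14050 : act 1 n13064 = n14050 := rfl
theorem F55345 : act 4 n14050 = n14050 := d10_2 F51376 D14050 (iv D14050)
theorem F55346 : act 6 n14050 = n13349 := d12_2 (iv F51377) D14050 (iv D13349)
theorem F55347 : act 7 n14050 = n13068 := d13_2 (iv F51378) D14050 (iv D13068)
theorem F55348 : act 8 n14050 = n14050 := d14_2 F51379 D14050 (iv D14050)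
def n14051 : Q := act 1 n13067
theorem D14051 : act 1 n13067 = n14051 := rfl
theorem F55349 : act 4 n14051 = n14051 := d10_2 F51390 D14051 (iv D14051)
theorem F55350 : act 6 n14051 = n13068 := d12_2 (iv F51391) D14051 (iv D13068)
theorem F55351 : act 7 n14051 = n13349 := d13_2 (iv F51392) D14051 (iv D13349)
theorem F55352 : act 8 n14051 = n13199 := d14_2 (iv F51393) D14051 (iv D13199)
def n14052 : Q := act 8 n13069
theorem D14052 : act 8 n13069 = n14052 := rfl
theorem F55353 : act 0 n14052 = n13072 := d7_1 D14052 (iv D13072) (iv F51396)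
theorem F55354 : act 2 n14052 = n14052 := d20_1 D14052 (iv D14052) F51397
theorem F55355 : act 4 n14052 = n14052 := d29_1 D14052 (iv D14052) F51398
theorem F55356 : act 5 n14052 = n13238 := d32_1 D14052 (iv D13238) (iv F51399)
theorem F55357 : act 6 n14052 = n13070 := d34_1 D14052 (iv D13070) D13069
def n14053 : Q := act 7 n13070
theorem D14053 : act 7 n13070 = n14053 := rfl
theorem F55358 : act 0 n14053 = n13073 := d6_1 D14053 (iv D13073) (iv F51401)
theorem F55359 : act 2 n14053 = n14053 := d19_1 D14053 (iv D14053) F51402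
theorem F55360 : act 4 n14053 = n14053 := d28_1 D14053 (iv D14053) F51403
theorem F55361 : act 5 n14053 = n13071 := d31_1 D14053 (iv D13071) (iv F51404)
theorem F55362 : act 8 n14053 = n14053 := d35_2 D13070 D14053 (iv D14053) (iv D13070) F47272
def n14054 : Q := act 3 n13071
theorem D14054 : act 3 n13071 = n14054 := rfl
theorem F55363 : act 0 n14054 = n13074 := d2_1 D14054 (iv D13074) (iv F51405)
theorem F55364 : act 6 n14054 = n13240 := d23_2 (iv F51408) D14054 (iv D13240)
theorem F55365 : act 8 n14054 = n14054 := d25_2 F51409 D14054 (iv D14054)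
def n14055 : Q := act 7 n13072
theorem D14055 : act 7 n13072 = n14055 := rfl
theorem F55366 : act 1 n14055 = n13075 := d13_1 D14055 (iv D13075) (iv F51410)
theorem F55367 : act 2 n14055 = n14055 := d19_1 D14055 (iv D14055) F51411
theorem F55368 : act 4 n14055 = n14055 := d28_1 D14055 (iv D14055) F51412
theorem F55369 : act 5 n14055 = n13252 := d31_1 D14055 (iv D13252) (iv F51413)
theorem F55370 : act 6 n14055 = n13073 := d33_1 D14055 (iv D13073) (iv F51414)
theorem F55371 : act 8 n14055 = n14055 := d35_2 D13072 D14055 (iv D14055) (iv D13072) F47286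
def n14056 : Q := act 3 n13073
theorem D14056 : act 3 n13073 = n14056 := rfl
theorem F55372 : act 1 n14056 = n13076 := d9_1 D14056 (iv D13076) (iv F51415)
theorem F55373 : act 5 n14056 = n13074 := d22_2 (iv F51418) D14056 (iv D13074)
theorem F55374 : act 8 n14056 = n14056 := d25_2 F51419 D14056 (iv D14056)
def n14057 : Q := act 2 n13074
theorem D14057 : act 2 n13074 = n14057 := rfl
theorem F55375 : act 3 n14057 = n14057 := d15_2 D13074 D14057 (iv D14057) (iv D13074) F47292
theorem F55376 : act 4 n14057 = n13076 := d16_2 F53114 D14057 (iv F53113)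
theorem F55377 : act 6 n14057 = n13254 := d18_2 (iv F51421) D14057 (iv D13254)
theorem F55378 : act 8 n14057 = n14057 := d20_2 F51422 D14057 (iv D14057)
def n14058 : Q := act 4 n13078
theorem D14058 : act 4 n13078 = n14058 := rfl
theorem F55379 : act 0 n14058 = n13114 := d3_1 D14058 (iv D13114) (iv F51433)
theorem F55380 : act 1 n14058 = n13196 := d10_1 D14058 (iv F51939) F51937
theorem F55381 : act 2 n14058 = n14058 := d16_1 D14058 (iv D14058) F51434
theorem F55382 : act 3 n14058 = n13491 := d21_1 D14058 (iv D13491) (iv F49705) (iv F49710) (iv F51435)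
theorem F55383 : act 5 n14058 = n14058 := d26_2 D13078 D14058 (iv D14058) (iv D13078) F47339
theorem F55384 : act 6 n14058 = n13156 := d27_2 F53829 D14058 (iv F53827)
theorem F55385 : act 7 n14058 = n13154 := d28_2 (iv F51752) D14058 (iv F51749)
theorem F55386 : act 8 n14058 = n13650 := d29_2 F51757 D14058 F53827
def n14059 : Q := act 4 n13079
theorem D14059 : act 4 n13079 = n14059 := rfl
theorem F55387 : act 0 n14059 = n13122 := d3_1 D14059 (iv D13122) (iv F51436)
theorem F55388 : act 1 n14059 = n14059 := d10_1 D14059 (iv D14059) F51437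
theorem F55389 : act 2 n14059 = n13149 := d16_1 D14059 (iv D13149) (iv F51438)
theorem F55390 : act 6 n14059 = n13081 := d27_2 (iv F51440) D14059 (iv D13081)
theorem F55391 : act 7 n14059 = n14059 := d28_2 F51441 D14059 (iv D14059)
def n14060 : Q := act 4 n13080
theorem D14060 : act 4 n13080 = n14060 := rfl
theorem F55392 : act 0 n14060 = n13124 := d3_1 D14060 (iv D13124) (iv F51442)
theorem F55393 : act 1 n14060 = n13181 := d10_1 D14060 (iv D13181) F51447
theorem F55394 : act 2 n14060 = n13081 := d16_1 D14060 (iv D13081) D13080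
theorem F55395 : act 6 n14060 = n13149 := d27_2 (iv F51445) D14060 (iv D13149)
theorem F55396 : act 7 n14060 = n14060 := d28_2 F51446 D14060 (iv D14060)
def n14061 : Q := act 5 n13081
theorem D14061 : act 5 n13081 = n14061 := rfl
theorem F55397 : act 0 n14061 = n13126 := d4_1 D14061 (iv D13126) (iv F51448)
theorem F55398 : act 1 n14061 = n14061 := d11_1 D14061 (iv D14061) F51449
theorem F55399 : act 4 n14061 = n14061 := d26_1 D14061 (iv D14061) (iv D13081) F47368 D13081
theorem F55400 : act 7 n14061 = n14061 := d31_2 F51450 D14061 (iv D14061)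
def n14062 : Q := act 8 n13081
theorem D14062 : act 8 n13081 = n14062 := rfl
theorem F55401 : act 0 n14062 = n13127 := d7_1 D14062 (iv D13127) (iv F51448)
theorem F55402 : act 1 n14062 = n14062 := d14_1 D14062 (iv D14062) F51449
theorem F55403 : act 4 n14062 = n13082 := d29_1 D14062 (iv D13082) D13081
def n14063 : Q := act 7 n13082
theorem D14063 : act 7 n13082 = n14063 := rfl
theorem F55404 : act 0 n14063 = n13128 := d6_1 D14063 (iv D13128) (iv F51451)
theorem F55405 : act 1 n14063 = n14063 := d13_1 D14063 (iv D14063) F51452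
theorem F55406 : act 2 n14063 = n13998 := d19_1 D14063 F55113 F54788
theorem F55407 : act 3 n14063 = n13532 := d24_1 D14063 (iv D13532) (iv F50551) F50554 (iv F51453)
theorem F55408 : act 5 n14063 = n14063 := d31_1 D14063 (iv D14063) F51454
theorem F55409 : act 6 n14063 = n13542 := d33_1 D14063 (iv F54569) F54568
theorem F55410 : act 8 n14063 = n14063 := d35_2 D13082 D14063 (iv D14063) (iv D13082) F47369
def n14064 : Q := act 3 n13083
theorem D14064 : act 3 n13083 = n14064 := rfl
theorem F55411 : act 0 n14064 = n13129 := d2_1 D14064 (iv D13129) (iv F51455)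
theorem F55412 : act 1 n14064 = n13180 := d9_1 D14064 (iv D13180) (iv F51456)
theorem F55413 : act 6 n14064 = n13148 := d23_2 (iv F51458) D14064 (iv D13148)
def n14065 : Q := act 5 n13083
theorem D14065 : act 5 n13083 = n14065 := rfl
theorem F55414 : act 0 n14065 = n13130 := d4_1 D14065 (iv D13130) (iv F51455)
theorem F55415 : act 1 n14065 = n13179 := d11_1 D14065 F51866 (iv F51456)
theorem F55416 : act 2 n14065 = n13084 := d17_1 D14065 (iv D13084) (iv F51457)
theorem F55417 : act 4 n14065 = n14065 := d26_1 D14065 (iv D14065) (iv D13083) F47376 D13083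
theorem F55418 : act 7 n14065 = n13086 := d31_2 (iv F51459) D14065 (iv D13086)
def n14066 : Q := act 6 n13084
theorem D14066 : act 6 n13084 = n14066 := rfl
theorem F55419 : act 0 n14066 = n13132 := d5_1 D14066 (iv D13132) (iv F51460)
theorem F55420 : act 1 n14066 = n13108 := d12_1 D14066 (iv D13108) (iv F51461)
theorem F55421 : act 4 n14066 = n14066 := d27_1 D14066 (iv D14066) F51462
theorem F55422 : act 5 n14066 = n13150 := d30_1 D14066 F51734 F47665 (iv F47381) D13084
theorem F55423 : act 7 n14066 = n13087 := d33_2 (iv F51463) D14066 (iv D13087)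
def n14067 : Q := act 5 n13085
theorem D14067 : act 5 n13085 = n14067 := rfl
theorem F55424 : act 0 n14067 = n13134 := d4_1 D14067 (iv D13134) (iv F51464)
theorem F55425 : act 1 n14067 = n13175 := d11_1 D14067 F51849 (iv F51465)
theorem F55426 : act 2 n14067 = n13091 := d17_1 D14067 (iv D13091) (iv F51466)
theorem F55427 : act 3 n14067 = n13086 := d22_1 D14067 (iv D13086) D13085
theorem F55428 : act 8 n14067 = n13137 := d32_2 (iv F51469) D14067 (iv D13137)
def n14068 : Q := act 7 n13085
theorem D14068 : act 7 n13085 = n14068 := rfl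
theorem F55429 : act 0 n14068 = n13135 := d6_1 D14068 (iv D13135) (iv F51464)
theorem F55430 : act 1 n14068 = n13177 := d13_1 D14068 (iv D13177) (iv F51465)
theorem F55431 : act 2 n14068 = n13092 := d19_1 D14068 (iv D13092) (iv F51466)
theorem F55432 : act 4 n14068 = n14068 := d28_1 D14068 (iv D14068) F51467
theorem F55433 : act 6 n14068 = n13145 := d33_1 D14068 (iv D13145) (iv F51468)
def n14069 : Q := act 6 n13086
theorem D14069 : act 6 n13086 = n14069 := rfl
theorem F55434 : act 0 n14069 = n13136 := d5_1 D14069 (iv D13136) (iv F51470)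
theorem F55435 : act 1 n14069 = n13178 := d12_1 D14069 F51862 (iv F51471)
theorem F55436 : act 2 n14069 = n13087 := d18_1 D14069 (iv D13087) (iv F51472)
theorem F55437 : act 4 n14069 = n14069 := d27_1 D14069 (iv D14069) F51473
theorem F55438 : act 5 n14069 = n13146 := d30_1 D14069 F51723 F47653 (iv F47386) D13086
theorem F55439 : act 8 n14069 = n13139 := d34_2 (iv F51474) D14069 (iv D13139)
def n14070 : Q := act 5 n13088
theorem D14070 : act 5 n13088 = n14070 := rfl
theorem F55440 : act 0 n14070 = n13137 := d4_1 D14070 (iv D13137) (iv F51481)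
theorem F55441 : act 1 n14070 = n14070 := d11_1 D14070 (iv D14070) F51482
theorem F55442 : act 2 n14070 = n13143 := d17_1 D14070 F51715 (iv F51483)
theorem F55443 : act 3 n14070 = n13089 := d22_1 D14070 (iv D13089) D13088
theorem F55444 : act 8 n14070 = n13134 := d32_2 (iv F51486) D14070 (iv D13134)
def n14071 : Q := act 7 n13088
theorem D14071 : act 7 n13088 = n14071 := rfl
theorem F55445 : act 0 n14071 = n13138 := d6_1 D14071 (iv D13138) (iv F51481)
theorem F55446 : act 1 n14071 = n14071 := d13_1 D14071 (iv D14071) F51482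
theorem F55447 : act 2 n14071 = n13145 := d19_1 D14071 (iv D13145) (iv F51483)
theorem F55448 : act 4 n14071 = n14071 := d28_1 D14071 (iv D14071) F51484
theorem F55449 : act 6 n14071 = n13092 := d33_1 D14071 (iv D13092) (iv F51485)
def n14072 : Q := act 6 n13089
theorem D14072 : act 6 n13089 = n14072 := rfl
theorem F55450 : act 0 n14072 = n13139 := d5_1 D14072 (iv D13139) (iv F51487)
theorem F55451 : act 1 n14072 = n14072 := d12_1 D14072 (iv D14072) F51488
theorem F55452 : act 2 n14072 = n13090 := d18_1 D14072 (iv D13090) (iv F51489)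
theorem F55453 : act 4 n14072 = n14072 := d27_1 D14072 (iv D14072) F51490
theorem F55454 : act 5 n14072 = n13094 := d30_1 D14072 (iv D13094) (iv D12067) (iv F47396) D13089
theorem F55455 : act 8 n14072 = n13136 := d34_2 (iv F51491) D14072 (iv D13136)
def n14073 : Q := act 4 n13091
theorem D14073 : act 4 n13091 = n14073 := rfl
theorem F55456 : act 0 n14073 = n13140 := d3_1 D14073 (iv D13140) (iv F51498)
theorem F55457 : act 1 n14073 = n14073 := d10_1 D14073 (iv D14073) F51499
theorem F55458 : act 3 n14073 = n13100 := d21_1 D14073 (iv D13100) F47435 (iv F47409) (iv F51500)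
theorem F55459 : act 5 n14073 = n14073 := d26_2 D13091 D14073 (iv D14073) (iv D13091) F47405
theorem F55460 : act 7 n13749 = n14073 := d37_0 F55459 (iv D14073) F51500 F47408 F42046 F34702 (iv F32420) (iv D8505) (iv D6204) (iv D4534) F13189 F9860 (iv F9143) (iv D2248) (iv D1652) (iv F5523) (iv D1304) F4148 F3150 F2516 (iv F3324) D1021 F4396 F4395 (iv F5844) (iv F7780) (iv F10382) F10385 (iv D1899) (iv D1393) F4400 (iv F5512) F5511 (iv D1278) (iv F5398) F5396 D1732 D2359 D3211 F12787 (iv F17162) D5983 (iv F31227) (iv F39003) F44593 (iv F42948) (iv F47714) (iv F51570) (iv D13106) F47467 (iv F51533) F51532 (iv F51697) F51696 F47838 (iv F51216) F51215 F47114 (iv F47145) F47144 (iv F50828) (iv F54251)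
theorem F55461 : act 6 n14073 = n13750 := d33_1 F55460 (iv D13750) D13749
def n14074 : Q := act 6 n13091
theorem D14074 : act 6 n13091 = n14074 := rfl
theorem F55462 : act 0 n14074 = n13141 := d5_1 D14074 (iv D13141) (iv F51498)
theorem F55463 : act 1 n14074 = n14074 := d12_1 D14074 (iv D14074) F51499
theorem F55464 : act 3 n14074 = n13094 := d23_1 D14074 (iv D13094) (iv F51500)
theorem F55465 : act 4 n14074 = n13750 := d27_1 D14074 (iv F55461) (iv D14073)
theorem F55466 : act 7 n13748 = n14074 := d28_0 F55465 (iv D13750) D13748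
def n14075 : Q := act 7 n13091
theorem D14075 : act 7 n13091 = n14075 := rfl
theorem F55467 : act 0 n14075 = n13142 := d6_1 D14075 (iv D13142) (iv F51498)
theorem F55468 : act 1 n14075 = n14075 := d13_1 D14075 (iv D14075) F51499
theorem F55469 : act 4 n14075 = n13749 := d28_1 D14075 F55460 (iv D14073)
theorem F55470 : act 5 n14075 = n13092 := d31_1 D14075 (iv D13092) D13091
theorem F55471 : act 6 n14075 = n13748 := d33_1 D14075 F55466 (iv D14074)
def n14076 : Q := act 8 n13091
theorem D14076 : act 8 n13091 = n14076 := rfl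
theorem F55472 : act 0 n14076 = n13143 := d7_1 D14076 (iv D13143) (iv F51498)
theorem F55473 : act 1 n14076 = n14076 := d14_1 D14076 (iv D14076) F51499
theorem F55474 : act 2 n14076 = n13137 := d20_1 D14076 (iv F55428) F55426
theorem F55475 : act 3 n14076 = n13095 := d25_1 D14076 (iv D13095) (iv F51500)
theorem F55476 : act 5 n14076 = n13093 := d32_1 D14076 (iv D13093) D13091
def n14077 : Q := act 8 n13092
theorem D14077 : act 8 n13092 = n14077 := rfl
theorem F55477 : act 0 n14077 = n13144 := d7_1 D14077 (iv D13144) (iv F51501)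
theorem F55478 : act 1 n14077 = n14077 := d14_1 D14077 (iv D14077) F51502
theorem F55479 : act 4 n14077 = n14077 := d29_1 D14077 (iv D14077) F51503
def n14078 : Q := act 7 n13093
theorem D14078 : act 7 n13093 = n14078 := rfl
theorem F55480 : act 0 n14078 = n13145 := d6_1 D14078 (iv D13145) (iv F51504)
theorem F55481 : act 1 n14078 = n14078 := d13_1 D14078 (iv D14078) F51505
theorem F55482 : act 2 n14078 = n13138 := d19_1 D14078 (iv D13138) (iv F51506)
theorem F55483 : act 4 n14078 = n14078 := d28_1 D14078 (iv D14078) F51508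
theorem F55484 : act 6 n14078 = n13135 := d33_1 D14078 (iv D13135) (iv F51509)
def n14079 : Q := act 8 n13094
theorem D14079 : act 8 n13094 = n14079 := rfl
theorem F55485 : act 0 n14079 = n13146 := d7_1 D14079 (iv D13146) (iv F51510)
theorem F55486 : act 1 n14079 = n14079 := d14_1 D14079 (iv D14079) F51511
theorem F55487 : act 2 n14079 = n13098 := d20_1 D14079 (iv D13098) (iv F51512)
theorem F55488 : act 4 n14079 = n13104 := d29_1 D14079 (iv D13104) (iv F51513)
theorem F55489 : act 5 n14079 = n13136 := d32_1 D14079 (iv F55455) F55454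
theorem F55490 : act 6 n14079 = n13095 := d34_1 D14079 (iv D13095) D13094
def n14080 : Q := act 7 n13095
theorem D14080 : act 7 n13095 = n14080 := rfl
theorem F55491 : act 0 n14080 = n13147 := d6_1 D14080 (iv D13147) (iv F51514)
theorem F55492 : act 1 n14080 = n14080 := d13_1 D14080 (iv D14080) F51515
theorem F55493 : act 2 n14080 = n13099 := d19_1 D14080 (iv D13099) (iv F51516)
theorem F55494 : act 4 n14080 = n13105 := d28_1 D14080 (iv D13105) (iv F51517)
theorem F55495 : act 5 n14080 = n13096 := d31_1 D14080 (iv D13096) (iv F51518)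
def n14081 : Q := act 3 n13096
theorem D14081 : act 3 n13096 = n14081 := rfl
theorem F55496 : act 0 n14081 = n13148 := d2_1 D14081 (iv D13148) (iv F51519)
theorem F55497 : act 1 n14081 = n14081 := d9_1 D14081 (iv D14081) F51520
theorem F55498 : act 6 n14081 = n13129 := d23_2 (iv F51523) D14081 (iv D13129)
def n14082 : Q := act 4 n13097
theorem D14082 : act 4 n13097 = n14082 := rfl
theorem F55499 : act 0 n14082 = n13149 := d3_1 D14082 (iv D13149) (iv F51524)
theorem F55500 : act 1 n14082 = n14082 := d10_1 D14082 (iv D14082) F51525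
theorem F55501 : act 2 n14082 = n13122 := d16_1 D14082 (iv D13122) (iv F51526)
theorem F55502 : act 5 n14082 = n14059 := d26_2 (iv F51527) D14082 (iv D14059) F51439 F47569
theorem F55503 : act 6 n14082 = n13124 := d27_2 (iv F51528) D14082 (iv D13124)
theorem F55504 : act 7 n14082 = n14082 := d28_2 F51529 D14082 (iv D14082)
def n14083 : Q := act 7 n13098
theorem D14083 : act 7 n13098 = n14083 := rfl
theorem F55505 : act 0 n14083 = n13150 := d6_1 D14083 (iv D13150) (iv F51530)
theorem F55506 : act 1 n14083 = n13109 := d13_1 D14083 (iv D13109) (iv F51531)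
theorem F55507 : act 4 n14083 = n13106 := d28_1 D14083 (iv D13106) (iv F51533)
theorem F55508 : act 5 n14083 = n13132 := d31_1 D14083 F51678 (iv F51534)
theorem F55509 : act 6 n14083 = n13099 := d33_1 D14083 (iv D13099) (iv F51535)
def n14084 : Q := act 8 n13100
theorem D14084 : act 8 n13100 = n14084 := rfl
theorem F55510 : act 0 n14084 = n13153 := d7_1 D14084 (iv D13153) (iv F51540)
theorem F55511 : act 1 n14084 = n14084 := d14_1 D14084 (iv D14084) F51541
theorem F55512 : act 2 n14084 = n14084 := d20_1 D14084 (iv D14084) F51542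
theorem F55513 : act 4 n14084 = n13103 := d29_1 D14084 (iv D13103) D13100
theorem F55514 : act 5 n14084 = n14084 := d32_1 D14084 (iv D14084) F51543
theorem F55515 : act 6 n14084 = n13116 := d34_1 D14084 (iv F51620) F51555
theorem F55516 : act 7 n13115 = n14084 := d33_0 F55515 (iv D13116) D13115
def n14085 : Q := act 8 n13101
theorem D14085 : act 8 n13101 = n14085 := rfl
theorem F55517 : act 0 n14085 = n13154 := d7_1 D14085 (iv D13154) (iv F51544)
theorem F55518 : act 1 n14085 = n14085 := d14_1 D14085 (iv D14085) F51545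
theorem F55519 : act 2 n14085 = n14085 := d20_1 D14085 (iv D14085) F51546
theorem F55520 : act 3 n14085 = n13104 := d25_1 D14085 (iv D13104) (iv F51547)
theorem F55521 : act 4 n14085 = n13116 := d29_1 D14085 (iv F51620) F51553
theorem F55522 : act 5 n14085 = n14085 := d32_1 D14085 (iv D14085) F51548
theorem F55523 : act 6 n14085 = n13103 := d34_1 D14085 (iv D13103) D13101
theorem F55524 : act 7 n14085 = n13114 := d35_1 D14085 F51628 F55516 (iv D14084) F51549
def n14086 : Q := act 7 n13104
theorem D14086 : act 7 n13104 = n14086 := rfl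
theorem F55525 : act 0 n14086 = n13157 := d6_1 D14086 (iv D13157) (iv F51561)
theorem F55526 : act 1 n14086 = n14086 := d13_1 D14086 (iv D14086) F51562
theorem F55527 : act 2 n14086 = n13106 := d19_1 D14086 (iv D13106) (iv F51563)
theorem F55528 : act 5 n14086 = n14086 := d31_1 D14086 (iv D14086) F51564
theorem F55529 : act 6 n14086 = n13105 := d33_1 D14086 (iv D13105) (iv F51565)
def n14087 : Q := act 8 n13110
theorem D14087 : act 8 n13110 = n14087 := rfl
theorem F55530 : act 0 n14087 = n13531 := d7_1 D14087 (iv D13531) (iv F51588)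
theorem F55531 : act 1 n14087 = n13165 := d14_1 D14087 (iv D13165) (iv F51589)
theorem F55532 : act 2 n14087 = n13397 := d20_1 D14087 (iv D13397) (iv F51590)
theorem F55533 : act 4 n14087 = n13111 := d29_1 D14087 (iv D13111) D13110
theorem F55534 : act 5 n14087 = n14035 := d32_1 D14087 F55275 F51928
theorem F55535 : act 6 n14087 = n13401 := d34_1 D14087 (iv D13401) (iv F51591)
def n14088 : Q := act 7 n13111
theorem D14088 : act 7 n13111 = n14088 := rfl
theorem F55536 : act 0 n14088 = n13532 := d6_1 D14088 (iv D13532) (iv F51593)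
theorem F55537 : act 1 n14088 = n13166 := d13_1 D14088 (iv D13166) (iv F51594)
theorem F55538 : act 2 n14088 = n13398 := d19_1 D14088 (iv D13398) (iv F51595)
theorem F55539 : act 3 n14088 = n13128 := d24_1 D14088 (iv D13128) F47609 (iv F47532) (iv F51596)
theorem F55540 : act 5 n14088 = n14088 := d31_1 D14088 (iv D14088) F51597
theorem F55541 : act 6 n14088 = n13402 := d33_1 D14088 (iv D13402) (iv F51598)
theorem F55542 : act 8 n14088 = n14088 := d35_2 D13111 D14088 (iv D14088) (iv D13111) F47528
def n14089 : Q := act 7 n13112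
theorem D14089 : act 7 n13112 = n14089 := rfl
theorem F55543 : act 0 n14089 = n13492 := d6_1 D14089 (iv D13492) (iv F51599)
theorem F55544 : act 1 n14089 = n14089 := d13_1 D14089 (iv D14089) F51600
theorem F55545 : act 2 n14089 = n13380 := d19_1 D14089 (iv D13380) (iv F51601)
theorem F55546 : act 5 n14089 = n13113 := d31_1 D14089 (iv D13113) D13112
theorem F55547 : act 6 n14089 = n13698 := d33_1 D14089 (iv D13698) (iv F51603)
def n14090 : Q := act 8 n13113
theorem D14090 : act 8 n13113 = n14090 := rfl
theorem F55548 : act 0 n14090 = n13494 := d7_1 D14090 (iv D13494) (iv F51605)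
theorem F55549 : act 1 n14090 = n14090 := d14_1 D14090 (iv D14090) F51606
theorem F55550 : act 2 n14090 = n13382 := d20_1 D14090 (iv D13382) (iv F51607)
theorem F55551 : act 4 n14090 = n14090 := d29_1 D14090 (iv D14090) F51608
theorem F55552 : act 6 n14090 = n13379 := d34_1 D14090 (iv D13379) (iv F51609)
theorem F55553 : act 7 n14090 = n13987 := d35_1 D14090 (iv D13987) F51116 (iv F47538) D13113
def n14091 : Q := act 7 n13118
theorem D14091 : act 7 n13118 = n14091 := rfl
theorem F55554 : act 1 n14091 = n14091 := d13_1 D14091 (iv D14091) F51629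
theorem F55555 : act 2 n14091 = n13120 := d19_1 D14091 (iv D13120) (iv F51630)
theorem F55556 : act 3 n14091 = n14086 := d24_1 D14091 (iv D14086) (iv F55520) F55524 (iv F51631)
theorem F55557 : act 4 n14091 = n14089 := d28_1 D14091 (iv D14089) (iv F51632)
theorem F55558 : act 5 n14091 = n14091 := d31_1 D14091 (iv D14091) F51633
theorem F55559 : act 6 n14091 = n13119 := d33_1 D14091 (iv D13119) (iv F51634)
def n14092 : Q := act 8 n13122
theorem D14092 : act 8 n13122 = n14092 := rfl
theorem F55560 : act 1 n14092 = n13167 := d14_1 D14092 (iv D13167) (iv F51646)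
theorem F55561 : act 4 n14092 = n13123 := d29_1 D14092 (iv D13123) D13122
theorem F55562 : act 5 n14092 = n13921 := d32_1 D14092 F54829 F51730
theorem F55563 : act 6 n14092 = n13127 := d34_1 D14092 (iv D13127) (iv F51647)
def n14093 : Q := act 7 n13123
theorem D14093 : act 7 n13123 = n14093 := rfl
theorem F55564 : act 0 n14093 = n13542 := d6_1 D14093 (iv F54569) F54564
theorem F55565 : act 1 n14093 = n13168 := d13_1 D14093 (iv D13168) (iv F51649)
theorem F55566 : act 3 n14093 = n13402 := d24_1 D14093 (iv D13402) (iv F49946) F49949 (iv F51650)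
theorem F55567 : act 5 n14093 = n13290 := d31_1 D14093 F52256 (iv F51651)
theorem F55568 : act 6 n14093 = n13128 := d33_1 D14093 (iv D13128) (iv F51652)
theorem F55569 : act 8 n14093 = n14093 := d35_2 D13123 D14093 (iv D14093) (iv D13123) F47598
def n14094 : Q := act 3 n13124
theorem D14094 : act 3 n13124 = n14094 := rfl
theorem F55570 : act 1 n14094 = n14094 := d9_1 D14094 (iv D14094) F51653
theorem F55571 : act 4 n14094 = n13129 := d21_2 D13124 D14094 (iv D13129) (iv D12115) (iv F47603)
def n14095 : Q := act 5 n13124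
theorem D14095 : act 5 n13124 = n14095 := rfl
theorem F55572 : act 1 n14095 = n14095 := d11_1 D14095 (iv D14095) F51653
theorem F55573 : act 2 n14095 = n13126 := d17_1 D14095 (iv D13126) (iv F51654)
theorem F55574 : act 4 n14095 = n14095 := d26_1 D14095 (iv D14095) (iv D13124) F47604 D13124
theorem F55575 : act 6 n14095 = n14061 := d30_2 F55503 D14095 (iv D14061) (iv F55390) (iv F55502)
theorem F55576 : act 7 n14095 = n14095 := d31_2 F51655 D14095 (iv D14095)
def n14096 : Q := act 8 n13124
theorem D14096 : act 8 n13124 = n14096 := rfl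
theorem F55577 : act 1 n14096 = n14096 := d14_1 D14096 (iv D14096) F51653
theorem F55578 : act 2 n14096 = n13127 := d20_1 D14096 (iv D13127) (iv F51654)
theorem F55579 : act 4 n14096 = n13125 := d29_1 D14096 (iv D13125) D13124
def n14097 : Q := act 7 n13125
theorem D14097 : act 7 n13125 = n14097 := rfl
theorem F55580 : act 0 n14097 = n13998 := d6_1 D14097 F55113 F54786
theorem F55581 : act 1 n14097 = n14097 := d13_1 D14097 (iv D14097) F51656
theorem F55582 : act 2 n14097 = n13128 := d19_1 D14097 (iv D13128) (iv F51657)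
theorem F55583 : act 3 n14097 = n13991 := d24_1 D14097 (iv D13991) F51133 F50174 (iv F51658)
theorem F55584 : act 5 n14097 = n14097 := d31_1 D14097 (iv D14097) F51659
theorem F55585 : act 8 n14097 = n14097 := d35_2 D13125 D14097 (iv D14097) (iv D13125) F47605
def n14098 : Q := act 6 n13126
theorem D14098 : act 6 n13126 = n14098 := rfl
theorem F55586 : act 0 n14098 = n14095 := d5_1 D14098 F55575 F55397
theorem F55587 : act 1 n14098 = n13169 := d12_1 D14098 (iv D13169) (iv F51660)
theorem F55588 : act 2 n14098 = n14061 := d18_1 D14098 (iv F55575) F55573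
theorem F55589 : act 4 n14098 = n14098 := d27_1 D14098 (iv D14098) F51661
theorem F55590 : act 5 n14098 = n14060 := d30_1 D14098 F55395 F51730 F51647 D13126
theorem F55591 : act 7 n14098 = n14098 := d33_2 F51662 D14098 (iv D14098)
def n14099 : Q := act 8 n13126
theorem D14099 : act 8 n13126 = n14099 := rfl
theorem F55592 : act 1 n14099 = n13170 := d14_1 D14099 (iv D13170) (iv F51660)
theorem F55593 : act 4 n14099 = n14099 := d29_1 D14099 (iv D14099) F51661
theorem F55594 : act 5 n14099 = n13127 := d32_1 D14099 (iv D13127) D13126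
def n14100 : Q := act 7 n13127
theorem D14100 : act 7 n13127 = n14100 := rfl
theorem F55595 : act 1 n14100 = n13171 := d13_1 D14100 (iv D13171) (iv F51663)
theorem F55596 : act 4 n14100 = n13128 := d28_1 D14100 (iv D13128) (iv F51664)
theorem F55597 : act 8 n14100 = n14100 := d35_2 D13127 D14100 (iv D14100) (iv D13127) F47607
def n14101 : Q := act 5 n13129
theorem D14101 : act 5 n13129 = n14101 := rfl
theorem F55598 : act 1 n14101 = n14101 := d11_1 D14101 (iv D14101) F51668
theorem F55599 : act 3 n14101 = n13130 := d22_1 D14101 (iv D13130) D13129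
def n14102 : Q := act 7 n13129
theorem D14102 : act 7 n13129 = n14102 := rfl
theorem F55600 : act 1 n14102 = n14102 := d13_1 D14102 (iv D14102) F51668
theorem F55601 : act 3 n14102 = n13135 := d24_1 D14102 (iv D13135) (iv D12119) (iv F47613) D13129
def n14103 : Q := act 8 n13129
theorem D14103 : act 8 n13129 = n14103 := rfl
theorem F55602 : act 1 n14103 = n14103 := d14_1 D14103 (iv D14103) F51668
theorem F55603 : act 3 n14103 = n13131 := d25_1 D14103 (iv D13131) D13129
def n14104 : Q := act 6 n13130
theorem D14104 : act 6 n13130 = n14104 := rfl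
theorem F55604 : act 1 n14104 = n14104 := d12_1 D14104 (iv D14104) F51669
theorem F55605 : act 2 n14104 = n13132 := d18_1 D14104 (iv D13132) (iv F51670)
theorem F55606 : act 4 n14104 = n14104 := d27_1 D14104 (iv D14104) F51671
theorem F55607 : act 7 n14104 = n13136 := d33_2 (iv F51672) D14104 (iv D13136)
def n14105 : Q := act 8 n13130
theorem D14105 : act 8 n13130 = n14105 := rfl
theorem F55608 : act 1 n14105 = n14105 := d14_1 D14105 (iv D14105) F51669
theorem F55609 : act 2 n14105 = n13133 := d20_1 D14105 (iv D13133) (iv F51670)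
theorem F55610 : act 4 n14105 = n14105 := d29_1 D14105 (iv D14105) F51671
theorem F55611 : act 5 n14105 = n13131 := d32_1 D14105 (iv D13131) D13130
def n14106 : Q := act 8 n13132
theorem D14106 : act 8 n13132 = n14106 := rfl
theorem F55612 : act 1 n14106 = n13160 := d14_1 D14106 (iv D13160) (iv F51676)
theorem F55613 : act 4 n14106 = n14106 := d29_1 D14106 (iv D14106) F51677
theorem F55614 : act 6 n14106 = n13133 := d34_1 D14106 (iv D13133) D13132
def n14107 : Q := act 4 n13134
theorem D14107 : act 4 n13134 = n14107 := rfl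
theorem F55615 : act 1 n14107 = n14107 := d10_1 D14107 (iv D14107) F51682
theorem F55616 : act 2 n14107 = n13140 := d16_1 D14107 (iv D13140) (iv F51683)
theorem F55617 : act 3 n14107 = n14107 := d21_1 D14107 (iv D14107) F51684 F47627 (iv F51684)
theorem F55618 : act 5 n14107 = n14107 := d26_2 D13134 D14107 (iv D14107) (iv D13134) F47624
theorem F55619 : act 6 n13548 = n14107 := d18_0 F55616 (iv F51703) (iv F53355)
theorem F55620 : act 7 n13547 = n14107 := d19_0 F55616 (iv F51704) (iv F53351)
def n14108 : Q := act 6 n13134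
theorem D14108 : act 6 n13134 = n14108 := rfl
theorem F55621 : act 1 n14108 = n14108 := d12_1 D14108 (iv D14108) F51682
theorem F55622 : act 2 n14108 = n13141 := d18_1 D14108 (iv D13141) (iv F51683)
theorem F55623 : act 3 n14108 = n13136 := d23_1 D14108 (iv D13136) (iv F51684)
theorem F55624 : act 4 n14108 = n13548 := d27_1 D14108 F55619 (iv D14107)
theorem F55625 : act 7 n13546 = n14108 := d28_0 F55624 (iv D13548) D13546
def n14109 : Q := act 7 n13134
theorem D14109 : act 7 n13134 = n14109 := rfl
theorem F55626 : act 1 n14109 = n14109 := d13_1 D14109 (iv D14109) F51682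
theorem F55627 : act 2 n14109 = n13142 := d19_1 D14109 (iv D13142) (iv F51683)
theorem F55628 : act 4 n14109 = n13547 := d28_1 D14109 F55620 (iv D14107)
theorem F55629 : act 5 n14109 = n13135 := d31_1 D14109 (iv D13135) D13134
theorem F55630 : act 6 n14109 = n13546 := d33_1 D14109 F55625 (iv D14108)
def n14110 : Q := act 8 n13135
theorem D14110 : act 8 n13135 = n14110 := rfl
theorem F55631 : act 1 n14110 = n14110 := d14_1 D14110 (iv D14110) F51685
theorem F55632 : act 2 n14110 = n13144 := d20_1 D14110 (iv D13144) (iv F51686)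
theorem F55633 : act 4 n14110 = n14110 := d29_1 D14110 (iv D14110) F51687
def n14111 : Q := act 4 n13137
theorem D14111 : act 4 n13137 = n14111 := rfl
theorem F55634 : act 1 n14111 = n13172 := d10_1 D14111 (iv D13172) (iv F51691)
theorem F55635 : act 3 n14111 = n14111 := d21_1 D14111 (iv D14111) F51692 F47636 (iv F51692)
theorem F55636 : act 5 n14111 = n14111 := d26_2 D13137 D14111 (iv D14111) (iv D13137) F47632
theorem F55637 : act 6 n13283 = n14111 := d12_0 F55634 F51839 (iv F52216)
theorem F55638 : act 7 n13282 = n14111 := d13_0 F55634 (iv F51840) (iv F52213)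
def n14112 : Q := act 6 n13137
theorem D14112 : act 6 n13137 = n14112 := rfl
theorem F55639 : act 1 n14112 = n13173 := d12_1 D14112 (iv D13173) (iv F51691)
theorem F55640 : act 3 n14112 = n13139 := d23_1 D14112 (iv D13139) (iv F51692)
theorem F55641 : act 4 n14112 = n13283 := d27_1 D14112 F55637 (iv D14111)
theorem F55642 : act 5 n14112 = n13141 := d30_1 D14112 (iv D13141) (iv D12125) (iv F47633) D13137
theorem F55643 : act 7 n13281 = n14112 := d31_0 F55642 (iv F51708) (iv F52212)
def n14113 : Q := act 7 n13137
theorem D14113 : act 7 n13137 = n14113 := rfl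
theorem F55644 : act 1 n14113 = n13174 := d13_1 D14113 (iv D13174) (iv F51691)
theorem F55645 : act 4 n14113 = n13282 := d28_1 D14113 F55638 (iv D14111)
theorem F55646 : act 5 n14113 = n13138 := d31_1 D14113 (iv D13138) D13137
theorem F55647 : act 6 n14113 = n13281 := d33_1 D14113 F55643 (iv D14112)
def n14114 : Q := act 8 n13138
theorem D14114 : act 8 n13138 = n14114 := rfl
theorem F55648 : act 1 n14114 = n13176 := d14_1 D14114 (iv D13176) (iv F51693)
theorem F55649 : act 4 n14114 = n14114 := d29_1 D14114 (iv D14114) F51694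
theorem F55650 : act 6 n14114 = n13144 := d34_1 D14114 (iv D13144) (iv F51695)
def n14115 : Q := act 8 n13140
theorem D14115 : act 8 n13140 = n14115 := rfl
theorem F55651 : act 1 n14115 = n13185 := d14_1 D14115 (iv D13185) (iv F51700)
theorem F55652 : act 3 n14115 = n13153 := d25_1 D14115 (iv D13153) (iv F51701)
theorem F55653 : act 4 n14115 = n13143 := d29_1 D14115 (iv D13143) D13140
theorem F55654 : act 5 n14115 = n14115 := d32_1 D14115 (iv D14115) F51702
theorem F55655 : act 6 n14115 = n13927 := d34_1 D14115 (iv D13927) F51703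
def n14116 : Q := act 8 n13141
theorem D14116 : act 8 n13141 = n14116 := rfl
theorem F55656 : act 1 n14116 = n13186 := d14_1 D14116 (iv D13186) (iv F51705)
theorem F55657 : act 3 n14116 = n13146 := d25_1 D14116 (iv D13146) (iv F51706)
theorem F55658 : act 4 n14116 = n13927 := d29_1 D14116 (iv D13927) (iv F51707)
theorem F55659 : act 6 n14116 = n13143 := d34_1 D14116 (iv D13143) D13141
def n14117 : Q := act 8 n13142
theorem D14117 : act 8 n13142 = n14117 := rfl
theorem F55660 : act 1 n14117 = n13187 := d14_1 D14117 (iv D13187) (iv F51709)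
theorem F55661 : act 4 n14117 = n13926 := d29_1 D14117 (iv D13926) (iv F51710)
theorem F55662 : act 5 n14117 = n13144 := d32_1 D14117 (iv D13144) (iv F51711)
theorem F55663 : act 6 n14117 = n13925 := d34_1 D14117 (iv D13925) (iv F51712)
def n14118 : Q := act 7 n13143
theorem D14118 : act 7 n13143 = n14118 := rfl
theorem F55664 : act 1 n14118 = n13188 := d13_1 D14118 (iv D13188) (iv F51713)
theorem F55665 : act 5 n14118 = n13145 := d31_1 D14118 (iv D13145) (iv F51715)
def n14119 : Q := act 7 n13144
theorem D14119 : act 7 n13144 = n14119 := rfl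
theorem F55666 : act 1 n14119 = n13189 := d13_1 D14119 (iv D13189) (iv F51716)
theorem F55667 : act 4 n14119 = n14119 := d28_1 D14119 (iv D14119) F51717
theorem F55668 : act 8 n14119 = n13145 := d35_2 D13144 D14119 (iv D13145) (iv D12127) D12126
def n14120 : Q := act 3 n13145
theorem D14120 : act 3 n13145 = n14120 := rfl
theorem F55669 : act 1 n14120 = n13190 := d9_1 D14120 (iv D13190) (iv F51718)
theorem F55670 : act 7 n14120 = n13148 := d24_2 D13145 D14120 (iv D13148) (iv D12130) (iv F47645)
def n14121 : Q := act 7 n13146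
theorem D14121 : act 7 n13146 = n14121 := rfl
theorem F55671 : act 1 n14121 = n13191 := d13_1 D14121 (iv D13191) (iv F51720)
theorem F55672 : act 2 n14121 = n13150 := d19_1 D14121 (iv D13150) (iv F51721)
theorem F55673 : act 4 n14121 = n13157 := d28_1 D14121 (iv D13157) (iv F51722)
theorem F55674 : act 6 n14121 = n13147 := d33_1 D14121 (iv D13147) (iv F51723)
def n14122 : Q := act 3 n13147
theorem D14122 : act 3 n13147 = n14122 := rfl
theorem F55675 : act 1 n14122 = n13192 := d9_1 D14122 (iv D13192) (iv F51724)
theorem F55676 : act 4 n14122 = n13855 := d21_2 (iv F51726) D14122 (iv D13855) F51768 (iv D13158)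
theorem F55677 : act 5 n14122 = n13148 := d22_2 (iv F51727) D14122 (iv D13148)
def n14123 : Q := act 2 n13148
theorem D14123 : act 2 n13148 = n14123 := rfl
theorem F55678 : act 3 n14123 = n13152 := d15_2 D13148 D14123 (iv D13152) (iv D12134) (iv F47655)
def n14124 : Q := act 4 n13148
theorem D14124 : act 4 n13148 = n14124 := rfl
theorem F55679 : act 1 n14124 = n13194 := d10_1 D14124 (iv D13194) (iv F51728)
theorem F55680 : act 3 n14124 = n13149 := d21_1 D14124 (iv D13149) (iv D12131) (iv F47656) D13148
theorem F55681 : act 5 n14124 = n13858 := d26_2 F55677 D14124 (iv D13858) (iv F54637) (iv F55676)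
def n14125 : Q := act 2 n13151
theorem D14125 : act 2 n13151 = n14125 := rfl
theorem F55682 : act 5 n14125 = n13152 := d17_2 (iv F51736) D14125 (iv D13152)
def n14126 : Q := act 1 n13152
theorem D14126 : act 1 n13152 = n14126 := rfl
theorem F55683 : act 2 n14126 = n13161 := d8_2 D13152 D14126 (iv D13161) (iv D12152) (iv F47666)
def n14127 : Q := act 3 n13157
theorem D14127 : act 3 n13157 = n14127 := rfl
theorem F55684 : act 0 n14127 = n14091 := d2_1 D14127 F55556 F55525
theorem F55685 : act 1 n14127 = n13198 := d9_1 D14127 (iv D13198) (iv F51759)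
theorem F55686 : act 2 n14127 = n13498 := d15_1 D14127 (iv F53194) F49816 F48544 (iv F51760)
theorem F55687 : act 5 n14127 = n14127 := d22_2 F51761 D14127 (iv D14127)
theorem F55688 : act 6 n14127 = n13158 := d23_2 (iv F51762) D14127 (iv D13158)
theorem F55689 : act 7 n14127 = n13491 := d24_2 D13157 D14127 (iv F55382) F55385 F51743
theorem F55690 : act 4 n13492 = n14127 := d28_3 F55689 (iv D13491) D13492
def n14128 : Q := act 5 n13162
theorem D14128 : act 5 n13162 = n14128 := rfl
theorem F55691 : act 0 n14128 = n14128 := d4_1 D14128 (iv D14128) F51781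
theorem F55692 : act 1 n14128 = n13400 := d11_1 D14128 (iv D13400) (iv F51782)
theorem F55693 : act 2 n14128 = n13358 := d17_1 D14128 (iv D13358) (iv F51783)
theorem F55694 : act 4 n14128 = n13361 := d26_1 D14128 (iv D13361) (iv D12353) (iv F47755) D13162
theorem F55695 : act 7 n14128 = n14128 := d31_2 F51785 D14128 (iv D14128)
def n14129 : Q := act 8 n13162
theorem D14129 : act 8 n13162 = n14129 := rfl
theorem F55696 : act 0 n14129 = n14129 := d7_1 D14129 (iv D14129) F51781
theorem F55697 : act 1 n14129 = n13401 := d14_1 D14129 (iv D13401) (iv F51782)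
theorem F55698 : act 2 n14129 = n13359 := d20_1 D14129 (iv D13359) (iv F51783)
theorem F55699 : act 4 n14129 = n13163 := d29_1 D14129 (iv D13163) D13162
theorem F55700 : act 6 n14129 = n13165 := d34_1 D14129 (iv D13165) (iv F51784)
def n14130 : Q := act 7 n13163
theorem D14130 : act 7 n13163 = n14130 := rfl
theorem F55701 : act 0 n14130 = n14130 := d6_1 D14130 (iv D14130) F51786
theorem F55702 : act 1 n14130 = n13402 := d13_1 D14130 (iv D13402) (iv F51787)
theorem F55703 : act 2 n14130 = n13360 := d19_1 D14130 (iv D13360) (iv F51788)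
theorem F55704 : act 3 n14130 = n13168 := d24_1 D14130 (iv D13168) F47806 (iv F47761) (iv F51789)
theorem F55705 : act 5 n14130 = n13341 := d31_1 D14130 F52441 (iv F51790)
theorem F55706 : act 6 n14130 = n13166 := d33_1 D14130 (iv D13166) (iv F51791)
theorem F55707 : act 8 n14130 = n14130 := d35_2 D13163 D14130 (iv D14130) (iv D13163) F47757
def n14131 : Q := act 7 n13164
theorem D14131 : act 7 n13164 = n14131 := rfl
theorem F55708 : act 0 n14131 = n14131 := d6_1 D14131 (iv D14131) F51792
theorem F55709 : act 1 n14131 = n13364 := d13_1 D14131 (iv D13364) (iv F51793)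
theorem F55710 : act 2 n14131 = n13166 := d19_1 D14131 (iv D13166) (iv F51794)
theorem F55711 : act 3 n14131 = n14131 := d24_1 D14131 (iv D14131) F51795 F47779 (iv F51795)
theorem F55712 : act 4 n14131 = n14010 := d28_1 D14131 F55166 (iv F51796)
theorem F55713 : act 5 n14131 = n14131 := d31_1 D14131 (iv D14131) F51797
theorem F55714 : act 6 n14131 = n13360 := d33_1 D14131 (iv D13360) (iv F51798)
theorem F55715 : act 8 n14131 = n14131 := d35_2 D13164 D14131 (iv D14131) (iv D13164) F47767
def n14132 : Q := act 7 n13165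
theorem D14132 : act 7 n13165 = n14132 := rfl
theorem F55716 : act 0 n14132 = n14132 := d6_1 D14132 (iv D14132) F51799
theorem F55717 : act 2 n14132 = n14010 := d19_1 D14132 F55166 (iv F51800)
theorem F55718 : act 4 n14132 = n13166 := d28_1 D14132 (iv D13166) (iv F51801)
theorem F55719 : act 5 n14132 = n14011 := d31_1 D14132 F55171 (iv F51802)
theorem F55720 : act 8 n14132 = n14132 := d35_2 D13165 D14132 (iv D14132) (iv D13165) F47769
def n14133 : Q := act 7 n13167
theorem D14133 : act 7 n13167 = n14133 := rfl
theorem F55721 : act 0 n14133 = n14133 := d6_1 D14133 (iv D14133) F51807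
theorem F55722 : act 2 n14133 = n14133 := d19_1 D14133 (iv D14133) F51808
theorem F55723 : act 4 n14133 = n13168 := d28_1 D14133 (iv D13168) (iv F51809)
theorem F55724 : act 5 n14133 = n13328 := d31_1 D14133 F52377 (iv F51810)
theorem F55725 : act 6 n14133 = n13171 := d33_1 D14133 (iv D13171) (iv F51811)
theorem F55726 : act 8 n14133 = n14133 := d35_2 D13167 D14133 (iv D14133) (iv D13167) F47803
def n14134 : Q := act 8 n13169
theorem D14134 : act 8 n13169 = n14134 := rfl
theorem F55727 : act 0 n14134 = n14134 := d7_1 D14134 (iv D14134) F51817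
theorem F55728 : act 2 n14134 = n14134 := d20_1 D14134 (iv D14134) F51818
theorem F55729 : act 4 n14134 = n14134 := d29_1 D14134 (iv D14134) F51819
theorem F55730 : act 5 n14134 = n14021 := d32_1 D14134 F55221 (iv F51873)
theorem F55731 : act 6 n14134 = n13170 := d34_1 D14134 (iv D13170) D13169
def n14135 : Q := act 7 n13170
theorem D14135 : act 7 n13170 = n14135 := rfl
theorem F55732 : act 0 n14135 = n14135 := d6_1 D14135 (iv D14135) F51821
theorem F55733 : act 2 n14135 = n14135 := d19_1 D14135 (iv D14135) F51822
theorem F55734 : act 4 n14135 = n14135 := d28_1 D14135 (iv D14135) F51823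
theorem F55735 : act 5 n14135 = n13171 := d31_1 D14135 (iv D13171) (iv F51824)
theorem F55736 : act 8 n14135 = n14135 := d35_2 D13170 D14135 (iv D14135) (iv D13170) F47812
def n14136 : Q := act 3 n13171
theorem D14136 : act 3 n13171 = n14136 := rfl
theorem F55737 : act 0 n14136 = n14136 := d2_1 D14136 (iv D14136) F51825
theorem F55738 : act 8 n14136 = n14136 := d25_2 F51828 D14136 (iv D14136)
def n14137 : Q := act 8 n13172
theorem D14137 : act 8 n13172 = n14137 := rfl
theorem F55739 : act 0 n14137 = n14137 := d7_1 D14137 (iv D14137) F51829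
theorem F55740 : act 2 n14137 = n14137 := d20_1 D14137 (iv D14137) F51830
theorem F55741 : act 3 n14137 = n14137 := d25_1 D14137 (iv D14137) F51831
theorem F55742 : act 4 n14137 = n13175 := d29_1 D14137 (iv D13175) D13172
theorem F55743 : act 5 n14137 = n14137 := d32_1 D14137 (iv D14137) F51832
theorem F55744 : act 6 n14137 = n13334 := d34_1 D14137 (iv D13334) (iv F51839)
def n14138 : Q := act 8 n13173
theorem D14138 : act 8 n13173 = n14138 := rfl
theorem F55745 : act 0 n14138 = n14138 := d7_1 D14138 (iv D14138) F51833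
theorem F55746 : act 2 n14138 = n14138 := d20_1 D14138 (iv D14138) F51834
theorem F55747 : act 3 n14138 = n13178 := d25_1 D14138 (iv D13178) (iv F51835)
theorem F55748 : act 4 n14138 = n13334 := d29_1 D14138 (iv D13334) F51837
theorem F55749 : act 5 n14138 = n13186 := d32_1 D14138 (iv D13186) (iv F51836)
theorem F55750 : act 6 n14138 = n13175 := d34_1 D14138 (iv D13175) D13173
def n14139 : Q := act 8 n13174
theorem D14139 : act 8 n13174 = n14139 := rfl
theorem F55751 : act 0 n14139 = n14139 := d7_1 D14139 (iv D14139) F51841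
theorem F55752 : act 2 n14139 = n14139 := d20_1 D14139 (iv D14139) F51842
theorem F55753 : act 4 n14139 = n13333 := d29_1 D14139 (iv D13333) (iv F51843)
theorem F55754 : act 5 n14139 = n13176 := d32_1 D14139 (iv D13176) (iv F51844)
theorem F55755 : act 6 n14139 = n13332 := d34_1 D14139 (iv D13332) (iv F51845)
def n14140 : Q := act 7 n13175
theorem D14140 : act 7 n13175 = n14140 := rfl
theorem F55756 : act 0 n14140 = n14140 := d6_1 D14140 (iv D14140) F51846
theorem F55757 : act 2 n14140 = n14140 := d19_1 D14140 (iv D14140) F51847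
theorem F55758 : act 5 n14140 = n13177 := d31_1 D14140 (iv D13177) (iv F51849)
def n14141 : Q := act 7 n13176
theorem D14141 : act 7 n13176 = n14141 := rfl
theorem F55759 : act 0 n14141 = n14141 := d6_1 D14141 (iv D14141) F51850
theorem F55760 : act 2 n14141 = n14141 := d19_1 D14141 (iv D14141) F51851
theorem F55761 : act 4 n14141 = n14141 := d28_1 D14141 (iv D14141) F51852
theorem F55762 : act 6 n14141 = n13189 := d33_1 D14141 (iv D13189) (iv F51853)
theorem F55763 : act 8 n14141 = n13177 := d35_2 D13176 D14141 (iv D13177) (iv D12172) D12171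
def n14142 : Q := act 3 n13177
theorem D14142 : act 3 n13177 = n14142 := rfl
theorem F55764 : act 0 n14142 = n14142 := d2_1 D14142 (iv D14142) F51854
theorem F55765 : act 6 n14142 = n13190 := d23_2 (iv F51857) D14142 (iv D13190)
theorem F55766 : act 7 n14142 = n13180 := d24_2 D13177 D14142 (iv D13180) (iv D12175) (iv F47835)
def n14143 : Q := act 7 n13178
theorem D14143 : act 7 n13178 = n14143 := rfl
theorem F55767 : act 0 n14143 = n14143 := d6_1 D14143 (iv D14143) F51858
theorem F55768 : act 2 n14143 = n13182 := d19_1 D14143 (iv D13182) (iv F51859)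
theorem F55769 : act 4 n14143 = n14143 := d28_1 D14143 (iv D14143) F51860
theorem F55770 : act 5 n14143 = n13191 := d31_1 D14143 (iv D13191) (iv F51861)
theorem F55771 : act 6 n14143 = n13179 := d33_1 D14143 (iv D13179) (iv F51862)
def n14144 : Q := act 3 n13179
theorem D14144 : act 3 n13179 = n14144 := rfl
theorem F55772 : act 0 n14144 = n14144 := d2_1 D14144 (iv D14144) F51863
theorem F55773 : act 5 n14144 = n13180 := d22_2 (iv F51866) D14144 (iv D13180)
def n14145 : Q := act 2 n13180
theorem D14145 : act 2 n13180 = n14145 := rfl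
theorem F55774 : act 0 n14145 = n14145 := d1_1 D14145 (iv D14145) F51867
theorem F55775 : act 3 n14145 = n13184 := d15_2 D13180 D14145 (iv D13184) (iv D12179) (iv F47847)
theorem F55776 : act 6 n14145 = n13193 := d18_2 (iv F51868) D14145 (iv D13193)
def n14146 : Q := act 4 n13180
theorem D14146 : act 4 n13180 = n14146 := rfl
theorem F55777 : act 0 n14146 = n14146 := d3_1 D14146 (iv D14146) F51867
theorem F55778 : act 3 n14146 = n13181 := d21_1 D14146 (iv D13181) (iv D12176) (iv F47848) D13180
theorem F55779 : act 6 n14146 = n13194 := d27_2 (iv F51868) D14146 (iv D13194)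
theorem F55780 : act 5 n13984 = n14146 := d30_5 F55779 F51925 F51089 D13000 D13984
def n14147 : Q := act 2 n13183
theorem D14147 : act 2 n13183 = n14147 := rfl
theorem F55781 : act 0 n14147 = n14147 := d1_1 D14147 (iv D14147) F51879
theorem F55782 : act 5 n14147 = n13184 := d17_2 (iv F51881) D14147 (iv D13184)
theorem F55783 : act 6 n14147 = n14128 := d18_2 F52531 D14147 F55693
theorem F55784 : act 7 n14147 = n14147 := d19_2 F51882 D14147 (iv D14147)
def n14148 : Q := act 1 n13184
theorem D14148 : act 1 n13184 = n14148 := rfl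
theorem F55785 : act 2 n14148 = n13199 := d8_2 D13184 D14148 (iv D13199) (iv D12205) (iv F47866)
theorem F55786 : act 4 n14148 = n14148 := d10_2 F51884 D14148 (iv D14148)
theorem F55787 : act 6 n14148 = n13195 := d12_2 (iv F51885) D14148 (iv D13195)
theorem F55788 : act 7 n14148 = n14148 := d13_2 F51886 D14148 (iv D14148)
def n14149 : Q := act 7 n13186
theorem D14149 : act 7 n13186 = n14149 := rfl
theorem F55789 : act 0 n14149 = n14149 := d6_1 D14149 (iv D14149) F51893
theorem F55790 : act 2 n14149 = n14149 := d19_1 D14149 (iv D14149) F51894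
theorem F55791 : act 4 n14149 = n14038 := d28_1 D14149 (iv D14038) (iv F51896)
theorem F55792 : act 6 n14149 = n13188 := d33_1 D14149 (iv D13188) (iv F51897)
theorem F55793 : act 8 n14149 = n14036 := d35_2 D13186 D14149 (iv D14036) (iv D13045) (iv F47965)
def n14150 : Q := act 7 n13187
theorem D14150 : act 7 n13187 = n14150 := rfl
theorem F55794 : act 0 n14150 = n14150 := d6_1 D14150 (iv D14150) F51898
theorem F55795 : act 2 n14150 = n14150 := d19_1 D14150 (iv D14150) F51899
theorem F55796 : act 4 n14150 = n14037 := d28_1 D14150 (iv D14037) (iv F51900)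
theorem F55797 : act 5 n14150 = n13189 := d31_1 D14150 (iv D13189) (iv F51901)
theorem F55798 : act 6 n14150 = n14036 := d33_1 D14150 (iv D14036) (iv F51902)
theorem F55799 : act 8 n14150 = n13188 := d35_2 D13187 D14150 (iv D13188) (iv D12183) D12182
def n14151 : Q := act 3 n13189
theorem D14151 : act 3 n13189 = n14151 := rfl
theorem F55800 : act 0 n14151 = n14151 := d2_1 D14151 (iv D14151) F51906
theorem F55801 : act 8 n14151 = n13190 := d25_2 (iv F51909) D14151 (iv D13190)
def n14152 : Q := act 3 n13191
theorem D14152 : act 3 n13191 = n14152 := rfl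
theorem F55802 : act 0 n14152 = n14152 := d2_1 D14152 (iv D14152) F51912
theorem F55803 : act 2 n14152 = n13971 := d15_1 D14152 F55004 F51783 F48471 (iv F51913)
theorem F55804 : act 4 n14152 = n13629 := d21_2 (iv F51914) D14152 (iv D13629) F51949 (iv D13198)
theorem F55805 : act 6 n14152 = n13192 := d23_2 (iv F51915) D14152 (iv D13192)
def n14153 : Q := act 1 n13193
theorem D14153 : act 1 n13193 = n14153 := rfl
theorem F55806 : act 3 n14153 = n13195 := d9_2 (iv F51921) D14153 (iv D13195)
theorem F55807 : act 5 n14153 = n13817 := d11_2 (iv F51922) D14153 F54508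
def n14154 : Q := act 2 n13200
theorem D14154 : act 2 n13200 = n14154 := rfl
theorem F55808 : act 0 n14154 = n13256 := d1_1 D14154 (iv D13256) (iv F51953)
theorem F55809 : act 3 n14154 = n13202 := d15_2 D13200 D14154 (iv D13202) (iv D12210) (iv F48007)
theorem F55810 : act 7 n14154 = n13701 := d19_2 (iv F51955) D14154 (iv D13701)
def n14155 : Q := act 4 n13200
theorem D14155 : act 4 n13200 = n14155 := rfl
theorem F55811 : act 0 n14155 = n13257 := d3_1 D14155 (iv D13257) (iv F51953)
theorem F55812 : act 1 n14155 = n14155 := d10_1 D14155 (iv D14155) F51954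
theorem F55813 : act 3 n14155 = n14155 := d21_1 D14155 (iv D14155) (iv D13200) F48008 D13200
theorem F55814 : act 7 n14155 = n13702 := d28_2 (iv F51955) D14155 (iv D13702)
def n14156 : Q := act 8 n13200
theorem D14156 : act 8 n13200 = n14156 := rfl
theorem F55815 : act 0 n14156 = n13258 := d7_1 D14156 (iv D13258) (iv F51953)
theorem F55816 : act 1 n14156 = n14156 := d14_1 D14156 (iv D14156) F51954
theorem F55817 : act 3 n14156 = n13201 := d25_1 D14156 (iv D13201) D13200
def n14157 : Q := act 1 n13202
theorem D14157 : act 1 n13202 = n14157 := rfl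
theorem F55818 : act 2 n14157 = n13228 := d8_2 D13202 D14157 (iv D13228) (iv D12227) (iv F48010)
theorem F55819 : act 7 n14157 = n13205 := d13_2 (iv F51961) D14157 (iv D13205)
def n14158 : Q := act 4 n13202
theorem D14158 : act 4 n13202 = n14158 := rfl
theorem F55820 : act 0 n14158 = n13259 := d3_1 D14158 (iv D13259) (iv F51960)
theorem F55821 : act 2 n14158 = n13203 := d16_1 D14158 (iv D13203) D13202
theorem F55822 : act 7 n14158 = n13206 := d28_2 (iv F51961) D14158 (iv D13206)
def n14159 : Q := act 8 n13202
theorem D14159 : act 8 n13202 = n14159 := rfl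
theorem F55823 : act 0 n14159 = n13260 := d7_1 D14159 (iv D13260) (iv F51960)
theorem F55824 : act 2 n14159 = n13204 := d20_1 D14159 (iv D13204) D13202
def n14160 : Q := act 8 n13203
theorem D14160 : act 8 n13203 = n14160 := rfl
theorem F55825 : act 0 n14160 = n13262 := d7_1 D14160 (iv D13262) (iv F51962)
theorem F55826 : act 1 n14160 = n13230 := d14_1 D14160 (iv D13230) (iv F51963)
theorem F55827 : act 3 n14160 = n14160 := d25_1 D14160 (iv D14160) F51964
theorem F55828 : act 4 n14160 = n13204 := d29_1 D14160 (iv D13204) D13203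
def n14161 : Q := act 7 n13204
theorem D14161 : act 7 n13204 = n14161 := rfl
theorem F55829 : act 0 n14161 = n13263 := d6_1 D14161 (iv D13263) (iv F51966)
theorem F55830 : act 1 n14161 = n13231 := d13_1 D14161 (iv D13231) (iv F51967)
theorem F55831 : act 8 n14161 = n13210 := d35_2 D13204 D14161 (iv D13210) (iv D12214) (iv F48011)
def n14162 : Q := act 4 n13205
theorem D14162 : act 4 n13205 = n14162 := rfl
theorem F55832 : act 1 n14162 = n13206 := d10_1 D14162 (iv D13206) D13205
theorem F55833 : act 2 n14162 = n13232 := d16_1 D14162 (iv D13232) (iv F51969)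
def n14163 : Q := act 8 n13205
theorem D14163 : act 8 n13205 = n14163 := rfl
theorem F55834 : act 1 n14163 = n13207 := d14_1 D14163 (iv D13207) D13205
theorem F55835 : act 2 n14163 = n13233 := d20_1 D14163 (iv D13233) (iv F51969)
theorem F55836 : act 3 n14163 = n13725 := d25_1 D14163 (iv D13725) (iv F51970)
def n14164 : Q := act 3 n13206
theorem D14164 : act 3 n13206 = n14164 := rfl
theorem F55837 : act 0 n14164 = n13264 := d2_1 D14164 (iv D13264) (iv F51971)
theorem F55838 : act 2 n14164 = n13211 := d15_1 D14164 (iv D13211) F48025 (iv F48019) (iv F51972)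
theorem F55839 : act 4 n14164 = n13726 := d21_2 D13206 D14164 (iv D13726) (iv D12728) (iv F48016)
def n14165 : Q := act 5 n13206
theorem D14165 : act 5 n13206 = n14165 := rfl
theorem F55840 : act 0 n14165 = n13265 := d4_1 D14165 (iv D13265) (iv F51971)
theorem F55841 : act 2 n14165 = n13208 := d17_1 D14165 (iv D13208) (iv F51972)
def n14166 : Q := act 8 n13206
theorem D14166 : act 8 n13206 = n14166 := rfl
theorem F55842 : act 0 n14166 = n13266 := d7_1 D14166 (iv D13266) (iv F51971)
theorem F55843 : act 2 n14166 = n13209 := d20_1 D14166 (iv D13209) (iv F51972)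
theorem F55844 : act 4 n14166 = n13207 := d29_1 D14166 (iv D13207) D13206
def n14167 : Q := act 7 n13207
theorem D14167 : act 7 n13207 = n14167 := rfl
theorem F55845 : act 0 n14167 = n13267 := d6_1 D14167 (iv D13267) (iv F51973)
theorem F55846 : act 2 n14167 = n13210 := d19_1 D14167 (iv D13210) (iv F51974)
def n14168 : Q := act 8 n13208
theorem D14168 : act 8 n13208 = n14168 := rfl
theorem F55847 : act 0 n14168 = n13269 := d7_1 D14168 (iv D13269) (iv F51976)
theorem F55848 : act 1 n14168 = n13236 := d14_1 D14168 (iv D13236) (iv F51977)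
theorem F55849 : act 3 n14168 = n13216 := d25_1 D14168 (iv D13216) (iv F51978)
theorem F55850 : act 5 n14168 = n13209 := d32_1 D14168 (iv D13209) D13208
def n14169 : Q := act 7 n13209
theorem D14169 : act 7 n13209 = n14169 := rfl
theorem F55851 : act 0 n14169 = n13270 := d6_1 D14169 (iv D13270) (iv F51979)
theorem F55852 : act 1 n14169 = n13237 := d13_1 D14169 (iv D13237) (iv F51980)
theorem F55853 : act 4 n14169 = n13210 := d28_1 D14169 (iv D13210) (iv F51982)
def n14170 : Q := act 5 n13211
theorem D14170 : act 5 n13211 = n14170 := rfl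
theorem F55854 : act 0 n14170 = n13271 := d4_1 D14170 (iv D13271) (iv F51985)
theorem F55855 : act 1 n14170 = n14170 := d11_1 D14170 (iv D14170) F51986
theorem F55856 : act 3 n14170 = n13212 := d22_1 D14170 (iv D13212) D13211
def n14171 : Q := act 7 n13211
theorem D14171 : act 7 n13211 = n14171 := rfl
theorem F55857 : act 0 n14171 = n13272 := d6_1 D14171 (iv D13272) (iv F51985)
theorem F55858 : act 1 n14171 = n14171 := d13_1 D14171 (iv D14171) F51986
theorem F55859 : act 3 n14171 = n14171 := d24_1 D14171 (iv D14171) (iv D13211) F48026 D13211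
theorem F55860 : act 4 n14171 = n13739 := d28_1 D14171 (iv D13739) (iv F51987)
def n14172 : Q := act 8 n13211
theorem D14172 : act 8 n13211 = n14172 := rfl
theorem F55861 : act 0 n14172 = n13273 := d7_1 D14172 (iv D13273) (iv F51985)
theorem F55862 : act 1 n14172 = n14172 := d14_1 D14172 (iv D14172) F51986
theorem F55863 : act 3 n14172 = n13213 := d25_1 D14172 (iv D13213) D13211
theorem F55864 : act 4 n14172 = n13740 := d29_1 D14172 (iv D13740) (iv F51987)
def n14173 : Q := act 6 n13212
theorem D14173 : act 6 n13212 = n14173 := rfl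
theorem F55865 : act 0 n14173 = n13274 := d5_1 D14173 (iv D13274) (iv F51988)
theorem F55866 : act 1 n14173 = n14173 := d12_1 D14173 (iv D14173) F51989
theorem F55867 : act 2 n14173 = n13215 := d18_1 D14173 (iv D13215) (iv F51990)
theorem F55868 : act 4 n14173 = n13221 := d27_1 D14173 (iv D13221) (iv F51991)
theorem F55869 : act 7 n14173 = n14173 := d33_2 F51992 D14173 (iv D14173)
def n14174 : Q := act 8 n13212
theorem D14174 : act 8 n13212 = n14174 := rfl
theorem F55870 : act 0 n14174 = n13275 := d7_1 D14174 (iv D13275) (iv F51988)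
theorem F55871 : act 1 n14174 = n14174 := d14_1 D14174 (iv D14174) F51989
theorem F55872 : act 2 n14174 = n13216 := d20_1 D14174 (iv D13216) (iv F51990)
theorem F55873 : act 4 n14174 = n13222 := d29_1 D14174 (iv D13222) (iv F51991)
theorem F55874 : act 5 n14174 = n13213 := d32_1 D14174 (iv D13213) D13212
def n14175 : Q := act 7 n13213
theorem D14175 : act 7 n13213 = n14175 := rfl
theorem F55875 : act 0 n14175 = n13276 := d6_1 D14175 (iv D13276) (iv F51993)
theorem F55876 : act 1 n14175 = n14175 := d13_1 D14175 (iv D14175) F51994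
theorem F55877 : act 2 n14175 = n13217 := d19_1 D14175 (iv D13217) (iv F51995)
theorem F55878 : act 4 n14175 = n13214 := d28_1 D14175 (iv D13214) (iv F51996)
theorem F55879 : act 8 n14175 = n14175 := d35_2 D13213 D14175 (iv D14175) (iv D13213) F48026
def n14176 : Q := act 3 n13214
theorem D14176 : act 3 n13214 = n14176 := rfl
theorem F55880 : act 0 n14176 = n13277 := d2_1 D14176 (iv D13277) (iv F51997)
theorem F55881 : act 1 n14176 = n14176 := d9_1 D14176 (iv D14176) F51998
theorem F55882 : act 2 n14176 = n14093 := d15_1 D14176 F55566 F52742 F48745 (iv F51999)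
theorem F55883 : act 5 n14176 = n13224 := d22_2 (iv F52000) D14176 (iv D13224)
theorem F55884 : act 6 n14176 = n14097 := d23_2 F55084 D14176 F55583
theorem F55885 : act 7 n14176 = n13744 := d24_2 D13214 D14176 (iv D13744) (iv D12740) (iv F48030)
theorem F55886 : act 8 n14176 = n14176 := d25_2 F52001 D14176 (iv D14176)
def n14177 : Q := act 8 n13215
theorem D14177 : act 8 n13215 = n14177 := rfl
theorem F55887 : act 0 n14177 = n13278 := d7_1 D14177 (iv D13278) (iv F52002)
theorem F55888 : act 1 n14177 = n13238 := d14_1 D14177 (iv D13238) (iv F52003)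
theorem F55889 : act 4 n14177 = n13225 := d29_1 D14177 (iv D13225) (iv F52004)
theorem F55890 : act 6 n14177 = n13216 := d34_1 D14177 (iv D13216) D13215
def n14178 : Q := act 7 n13216
theorem D14178 : act 7 n13216 = n14178 := rfl
theorem F55891 : act 0 n14178 = n13279 := d6_1 D14178 (iv D13279) (iv F52006)
theorem F55892 : act 1 n14178 = n13239 := d13_1 D14178 (iv D13239) (iv F52007)
theorem F55893 : act 4 n14178 = n13226 := d28_1 D14178 (iv D13226) (iv F52008)
theorem F55894 : act 5 n14178 = n13217 := d31_1 D14178 (iv D13217) (iv F52009)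
theorem F55895 : act 8 n14178 = n14178 := d35_2 D13216 D14178 (iv D14178) (iv D13216) F48035
def n14179 : Q := act 3 n13217
theorem D14179 : act 3 n13217 = n14179 := rfl
theorem F55896 : act 0 n14179 = n13280 := d2_1 D14179 (iv D13280) (iv F52010)
theorem F55897 : act 1 n14179 = n13240 := d9_1 D14179 (iv D13240) (iv F52011)
theorem F55898 : act 8 n14179 = n14179 := d25_2 F52013 D14179 (iv D14179)
def n14180 : Q := act 4 n13218
theorem D14180 : act 4 n13218 = n14180 := rfl
theorem F55899 : act 0 n14180 = n13281 := d3_1 D14180 (iv D13281) (iv F52014)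
theorem F55900 : act 1 n14180 = n14180 := d10_1 D14180 (iv D14180) F52015
theorem F55901 : act 5 n14180 = n13748 := d26_2 D13218 D14180 (iv D13748) (iv D12744) (iv F48045)
def n14181 : Q := act 6 n13218
theorem D14181 : act 6 n13218 = n14181 := rfl
theorem F55902 : act 0 n14181 = n13282 := d5_1 D14181 (iv D13282) (iv F52014)
theorem F55903 : act 1 n14181 = n14181 := d12_1 D14181 (iv D14181) F52015
theorem F55904 : act 3 n14181 = n13221 := d23_1 D14181 (iv D13221) (iv F52016)
theorem F55905 : act 5 n14181 = n14181 := d30_1 D14181 (iv D14181) (iv D13218) F48046 D13218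
def n14182 : Q := act 7 n13218
theorem D14182 : act 7 n13218 = n14182 := rfl
theorem F55906 : act 0 n14182 = n13283 := d6_1 D14182 (iv D13283) (iv F52014)
theorem F55907 : act 1 n14182 = n14182 := d13_1 D14182 (iv D14182) F52015
theorem F55908 : act 2 n14182 = n13927 := d19_1 D14182 (iv F54848) F53962
theorem F55909 : act 3 n14182 = n14182 := d24_1 D14182 (iv D14182) F52016 F48050 (iv F52016)
theorem F55910 : act 5 n14182 = n13219 := d31_1 D14182 (iv D13219) D13218
theorem F55911 : act 8 n13548 = n14182 := d32_0 F55910 (iv F52023) (iv F53357)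
def n14183 : Q := act 8 n13218
theorem D14183 : act 8 n13218 = n14183 := rfl
theorem F55912 : act 0 n14183 = n13284 := d7_1 D14183 (iv D13284) (iv F52014)
theorem F55913 : act 1 n14183 = n14183 := d14_1 D14183 (iv D14183) F52015
theorem F55914 : act 2 n14183 = n13928 := d20_1 D14183 F54852 F53962
theorem F55915 : act 3 n14183 = n13222 := d25_1 D14183 (iv D13222) (iv F52016)
theorem F55916 : act 5 n14183 = n13220 := d32_1 D14183 (iv D13220) D13218
theorem F55917 : act 7 n14183 = n13549 := d35_1 D14183 (iv D13549) D13548 F55911 (iv D14182)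
def n14184 : Q := act 8 n13221
theorem D14184 : act 8 n13221 = n14184 := rfl
theorem F55918 : act 0 n14184 = n13287 := d7_1 D14184 (iv D13287) (iv F52031)
theorem F55919 : act 1 n14184 = n14184 := d14_1 D14184 (iv D14184) F52032
theorem F55920 : act 2 n14184 = n13225 := d20_1 D14184 (iv D13225) (iv F52033)
theorem F55921 : act 5 n14184 = n14184 := d32_1 D14184 (iv D14184) F52034
theorem F55922 : act 6 n14184 = n13222 := d34_1 D14184 (iv D13222) D13221
def n14185 : Q := act 7 n13222
theorem D14185 : act 7 n13222 = n14185 := rfl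
theorem F55923 : act 0 n14185 = n13288 := d6_1 D14185 (iv D13288) (iv F52036)
theorem F55924 : act 1 n14185 = n14185 := d13_1 D14185 (iv D14185) F52037
theorem F55925 : act 2 n14185 = n13226 := d19_1 D14185 (iv D13226) (iv F52038)
theorem F55926 : act 3 n14185 = n13551 := d24_1 D14185 (iv D13551) (iv F53360) (iv F55917) F55915
theorem F55927 : act 5 n14185 = n13223 := d31_1 D14185 (iv D13223) (iv F52039)
theorem F55928 : act 8 n14185 = n14185 := d35_2 D13222 D14185 (iv D14185) (iv D13222) F48050
def n14186 : Q := act 7 n13225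
theorem D14186 : act 7 n13225 = n14186 := rfl
theorem F55929 : act 0 n14186 = n13291 := d6_1 D14186 (iv D13291) (iv F52053)
theorem F55930 : act 1 n14186 = n13241 := d13_1 D14186 (iv D13241) (iv F52054)
theorem F55931 : act 5 n14186 = n14186 := d31_1 D14186 (iv D14186) F52055
theorem F55932 : act 6 n14186 = n13226 := d33_1 D14186 (iv D13226) (iv F52056)
theorem F55933 : act 8 n14186 = n14186 := d35_2 D13225 D14186 (iv D14186) (iv D13225) F48064
def n14187 : Q := act 3 n13226
theorem D14187 : act 3 n13226 = n14187 := rfl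
theorem F55934 : act 0 n14187 = n13292 := d2_1 D14187 (iv D13292) (iv F52057)
theorem F55935 : act 1 n14187 = n13242 := d9_1 D14187 (iv D13242) (iv F52058)
theorem F55936 : act 2 n14187 = n13553 := d15_1 D14187 (iv D13553) (iv F53367) (iv F55926) F55925
theorem F55937 : act 5 n14187 = n13227 := d22_2 (iv F52059) D14187 (iv D13227)
theorem F55938 : act 7 n14187 = n13931 := d24_2 D13226 D14187 F54868 (iv D13676) F49974
theorem F55939 : act 8 n14187 = n14187 := d25_2 F52060 D14187 (iv D14187)
def n14188 : Q := act 8 n13228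
theorem D14188 : act 8 n13228 = n14188 := rfl
theorem F55940 : act 1 n14188 = n13229 := d14_1 D14188 (iv D13229) D13228
theorem F55941 : act 3 n14188 = n14188 := d25_1 D14188 (iv D14188) F52067
def n14189 : Q := act 7 n13229
theorem D14189 : act 7 n13229 = n14189 := rfl
theorem F55942 : act 0 n14189 = n13246 := d6_1 D14189 (iv D13246) (iv F52069)
theorem F55943 : act 2 n14189 = n13231 := d19_1 D14189 (iv D13231) (iv F52070)
theorem F55944 : act 8 n14189 = n13235 := d35_2 D13229 D14189 (iv D13235) (iv D12232) (iv F48075)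
def n14190 : Q := act 7 n13230
theorem D14190 : act 7 n13230 = n14190 := rfl
theorem F55945 : act 0 n14190 = n13247 := d6_1 D14190 (iv D13247) (iv F52072)
theorem F55946 : act 4 n14190 = n13231 := d28_1 D14190 (iv D13231) (iv F52074)
theorem F55947 : act 8 n14190 = n13237 := d35_2 D13230 D14190 (iv D13237) (iv D12234) (iv F48078)
def n14191 : Q := act 8 n13232
theorem D14191 : act 8 n13232 = n14191 := rfl
theorem F55948 : act 1 n14191 = n13234 := d14_1 D14191 (iv D13234) (iv F52077)
theorem F55949 : act 3 n14191 = n14191 := d25_1 D14191 (iv D14191) F52078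
theorem F55950 : act 4 n14191 = n13233 := d29_1 D14191 (iv D13233) D13232
def n14192 : Q := act 7 n13233
theorem D14192 : act 7 n13233 = n14192 := rfl
theorem F55951 : act 1 n14192 = n13235 := d13_1 D14192 (iv D13235) (iv F52079)
def n14193 : Q := act 7 n13234
theorem D14193 : act 7 n13234 = n14193 := rfl
theorem F55952 : act 0 n14193 = n13248 := d6_1 D14193 (iv D13248) (iv F52081)
theorem F55953 : act 2 n14193 = n13237 := d19_1 D14193 (iv D13237) (iv F52082)
theorem F55954 : act 4 n14193 = n13235 := d28_1 D14193 (iv D13235) (iv F52084)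
def n14194 : Q := act 3 n13235
theorem D14194 : act 3 n13235 = n14194 := rfl
theorem F55955 : act 0 n14194 = n13249 := d2_1 D14194 (iv D13249) (iv F52085)
theorem F55956 : act 7 n14194 = n13245 := d24_2 D13235 D14194 (iv D13245) (iv D12243) (iv F48087)
def n14195 : Q := act 7 n13236
theorem D14195 : act 7 n13236 = n14195 := rfl
theorem F55957 : act 0 n14195 = n13250 := d6_1 D14195 (iv D13250) (iv F52087)
theorem F55958 : act 5 n14195 = n13237 := d31_1 D14195 (iv D13237) (iv F52089)
def n14196 : Q := act 3 n13237
theorem D14196 : act 3 n13237 = n14196 := rfl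
theorem F55959 : act 0 n14196 = n13251 := d2_1 D14196 (iv D13251) (iv F52090)
theorem F55960 : act 7 n14196 = n13240 := d24_2 D13237 D14196 (iv D13240) (iv D12238) (iv F48091)
def n14197 : Q := act 7 n13238
theorem D14197 : act 7 n13238 = n14197 := rfl
theorem F55961 : act 0 n14197 = n13252 := d6_1 D14197 (iv D13252) (iv F52092)
theorem F55962 : act 2 n14197 = n14197 := d19_1 D14197 (iv D14197) F52093
theorem F55963 : act 4 n14197 = n13241 := d28_1 D14197 (iv D13241) (iv F52094)
theorem F55964 : act 6 n14197 = n13239 := d33_1 D14197 (iv D13239) (iv F52095)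
theorem F55965 : act 8 n14197 = n14197 := d35_2 D13238 D14197 (iv D14197) (iv D13238) F48097
def n14198 : Q := act 3 n13239
theorem D14198 : act 3 n13239 = n14198 := rfl
theorem F55966 : act 0 n14198 = n13253 := d2_1 D14198 (iv D13253) (iv F52096)
theorem F55967 : act 5 n14198 = n13240 := d22_2 (iv F52099) D14198 (iv D13240)
theorem F55968 : act 8 n14198 = n14198 := d25_2 F52100 D14198 (iv D14198)
def n14199 : Q := act 2 n13240
theorem D14199 : act 2 n13240 = n14199 := rfl
theorem F55969 : act 0 n14199 = n13254 := d1_1 D14199 (iv D13254) (iv F52101)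
theorem F55970 : act 3 n14199 = n14199 := d15_2 D13240 D14199 (iv D14199) (iv D13240) F48103
theorem F55971 : act 8 n14199 = n14199 := d20_2 F52102 D14199 (iv D14199)
def n14200 : Q := act 3 n13244
theorem D14200 : act 3 n13244 = n14200 := rfl
theorem F55972 : act 1 n14200 = n13245 := d9_1 D14200 (iv D13245) (iv F52117)
theorem F55973 : act 8 n14200 = n14200 := d25_2 F52120 D14200 (iv D14200)
def n14201 : Q := act 4 n13245
theorem D14201 : act 4 n13245 = n14201 := rfl
theorem F55974 : act 0 n14201 = n13255 := d3_1 D14201 (iv D13255) (iv F52121)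
theorem F55975 : act 3 n14201 = n14201 := d21_1 D14201 (iv D14201) (iv D13245) F48122 D13245
theorem F55976 : act 8 n14201 = n14201 := d29_2 F52122 D14201 (iv D14201)
def n14202 : Q := act 3 n13246
theorem D14202 : act 3 n13246 = n14202 := rfl
theorem F55977 : act 7 n14202 = n14202 := d24_2 D13246 D14202 (iv D14202) (iv D13246) F48125
theorem F55978 : act 8 n14202 = n13249 := d25_2 (iv F52124) D14202 (iv D13249)
def n14203 : Q := act 3 n13247
theorem D14203 : act 3 n13247 = n14203 := rfl
theorem F55979 : act 1 n14203 = n13307 := d9_1 D14203 (iv D13307) (iv F52125)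
theorem F55980 : act 7 n14203 = n14203 := d24_2 D13247 D14203 (iv D14203) (iv D13247) F48127
theorem F55981 : act 8 n14203 = n13251 := d25_2 (iv F52127) D14203 (iv D13251)
def n14204 : Q := act 3 n13248
theorem D14204 : act 3 n13248 = n14204 := rfl
theorem F55982 : act 7 n14204 = n14204 := d24_2 D13248 D14204 (iv D14204) (iv D13248) F48132
def n14205 : Q := act 4 n13249
theorem D14205 : act 4 n13249 = n14205 := rfl
theorem F55983 : act 7 n14205 = n13255 := d28_2 (iv F52130) D14205 (iv D13255)
def n14206 : Q := act 3 n13250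
theorem D14206 : act 3 n13250 = n14206 := rfl
theorem F55984 : act 1 n14206 = n13309 := d9_1 D14206 (iv D13309) (iv F52131)
theorem F55985 : act 5 n14206 = n13251 := d22_2 (iv F52132) D14206 (iv D13251)
theorem F55986 : act 7 n14206 = n13253 := d24_2 D13250 D14206 (iv D13253) (iv D12252) (iv F48136)
def n14207 : Q := act 2 n13251
theorem D14207 : act 2 n13251 = n14207 := rfl
theorem F55987 : act 7 n14207 = n13254 := d19_2 (iv F52134) D14207 (iv D13254)
def n14208 : Q := act 1 n13254
theorem D14208 : act 1 n13254 = n14208 := rfl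
theorem F55988 : act 2 n14208 = n13314 := d8_2 D13254 D14208 (iv D13314) (iv D12304) (iv F48149)
theorem F55989 : act 3 n14208 = n14208 := d9_2 F52143 D14208 (iv D14208)
theorem F55990 : act 5 n14208 = n13255 := d11_2 F54498 D14208 (iv F54495)
theorem F55991 : act 8 n14208 = n14208 := d14_2 F52144 D14208 (iv D14208)
def n14209 : Q := act 4 n13256
theorem D14209 : act 4 n13256 = n14209 := rfl
theorem F55992 : act 2 n14209 = n13257 := d16_1 D14209 (iv D13257) D13256
theorem F55993 : act 7 n14209 = n13861 := d28_2 (iv F52148) D14209 (iv D13861)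
def n14210 : Q := act 8 n13256
theorem D14210 : act 8 n13256 = n14210 := rfl
theorem F55994 : act 2 n14210 = n13258 := d20_1 D14210 (iv D13258) D13256
theorem F55995 : act 3 n14210 = n13260 := d25_1 D14210 (iv D13260) (iv F52147)
def n14211 : Q := act 5 n13257
theorem D14211 : act 5 n13257 = n14211 := rfl
theorem F55996 : act 1 n14211 = n13316 := d11_1 D14211 (iv D13316) (iv F52149)
theorem F55997 : act 3 n14211 = n14211 := d22_1 D14211 (iv D14211) F52150
theorem F55998 : act 4 n14211 = n14153 := d26_1 D14211 F55807 (iv D13817) F50515 D13257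
theorem F55999 : act 7 n14211 = n13863 := d31_2 (iv F52151) D14211 (iv D13863)
def n14212 : Q := act 8 n13257
theorem D14212 : act 8 n13257 = n14212 := rfl
theorem F56000 : act 1 n14212 = n13317 := d14_1 D14212 (iv D13317) (iv F52149)
theorem F56001 : act 3 n14212 = n14212 := d25_1 D14212 (iv D14212) F52150
theorem F56002 : act 4 n14212 = n13258 := d29_1 D14212 (iv D13258) D13257
def n14213 : Q := act 7 n13258
theorem D14213 : act 7 n13258 = n14213 := rfl
theorem F56003 : act 1 n14213 = n13318 := d13_1 D14213 (iv D13318) (iv F52152)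
theorem F56004 : act 8 n14213 = n13865 := d35_2 D13258 D14213 (iv D13865) (iv D12878) (iv F48164)
def n14214 : Q := act 3 n13259
theorem D14214 : act 3 n13259 = n14214 := rfl
theorem F56005 : act 2 n14214 = n14214 := d15_1 D14214 (iv D14214) F52154 F48170 (iv F52154)
def n14215 : Q := act 5 n13259
theorem D14215 : act 5 n13259 = n14215 := rfl
theorem F56006 : act 2 n14215 = n13261 := d17_1 D14215 (iv D13261) (iv F52154)
theorem F56007 : act 7 n14215 = n13265 := d31_2 (iv F52155) D14215 (iv D13265)
def n14216 : Q := act 8 n13259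
theorem D14216 : act 8 n13259 = n14216 := rfl
theorem F56008 : act 2 n14216 = n13262 := d20_1 D14216 (iv D13262) (iv F52154)
theorem F56009 : act 4 n14216 = n13260 := d29_1 D14216 (iv D13260) D13259
def n14217 : Q := act 7 n13260
theorem D14217 : act 7 n13260 = n14217 := rfl
theorem F56010 : act 2 n14217 = n13263 := d19_1 D14217 (iv D13263) (iv F52156)
theorem F56011 : act 8 n14217 = n13267 := d35_2 D13260 D14217 (iv D13267) (iv D12264) (iv F48168)
def n14218 : Q := act 8 n13261
theorem D14218 : act 8 n13261 = n14218 := rfl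
theorem F56012 : act 1 n14218 = n13294 := d14_1 D14218 (iv D13294) (iv F52157)
theorem F56013 : act 3 n14218 = n14218 := d25_1 D14218 (iv D14218) F52158
theorem F56014 : act 5 n14218 = n13262 := d32_1 D14218 (iv D13262) D13261
def n14219 : Q := act 7 n13262
theorem D14219 : act 7 n13262 = n14219 := rfl
theorem F56015 : act 1 n14219 = n13295 := d13_1 D14219 (iv D13295) (iv F52160)
theorem F56016 : act 4 n14219 = n13263 := d28_1 D14219 (iv D13263) (iv F52162)
theorem F56017 : act 8 n14219 = n13270 := d35_2 D13262 D14219 (iv D13270) (iv D12266) (iv F48171)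
def n14220 : Q := act 5 n13264
theorem D14220 : act 5 n13264 = n14220 := rfl
theorem F56018 : act 2 n14220 = n13271 := d17_1 D14220 (iv D13271) (iv F52165)
theorem F56019 : act 3 n14220 = n13265 := d22_1 D14220 (iv D13265) D13264
def n14221 : Q := act 7 n13264
theorem D14221 : act 7 n13264 = n14221 := rfl
theorem F56020 : act 2 n14221 = n13272 := d19_1 D14221 (iv D13272) (iv F52165)
theorem F56021 : act 4 n14221 = n13894 := d28_1 D14221 (iv D13894) (iv F52166)
def n14222 : Q := act 8 n13264
theorem D14222 : act 8 n13264 = n14222 := rfl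
theorem F56022 : act 2 n14222 = n13273 := d20_1 D14222 (iv D13273) (iv F52165)
theorem F56023 : act 3 n14222 = n13266 := d25_1 D14222 (iv D13266) D13264
theorem F56024 : act 4 n14222 = n13895 := d29_1 D14222 (iv D13895) (iv F52166)
def n14223 : Q := act 6 n13265
theorem D14223 : act 6 n13265 = n14223 := rfl
theorem F56025 : act 2 n14223 = n13268 := d18_1 D14223 (iv D13268) (iv F52167)
def n14224 : Q := act 8 n13265
theorem D14224 : act 8 n13265 = n14224 := rfl
theorem F56026 : act 2 n14224 = n13269 := d20_1 D14224 (iv D13269) (iv F52167)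
theorem F56027 : act 5 n14224 = n13266 := d32_1 D14224 (iv D13266) D13265
def n14225 : Q := act 7 n13266
theorem D14225 : act 7 n13266 = n14225 := rfl
theorem F56028 : act 2 n14225 = n13270 := d19_1 D14225 (iv D13270) (iv F52168)
theorem F56029 : act 4 n14225 = n13267 := d28_1 D14225 (iv D13267) (iv F52169)
def n14226 : Q := act 3 n13267
theorem D14226 : act 3 n13267 = n14226 := rfl
theorem F56030 : act 7 n14226 = n13899 := d24_2 D13267 D14226 (iv D13899) (iv D12901) (iv F48176)
def n14227 : Q := act 8 n13268
theorem D14227 : act 8 n13268 = n14227 := rfl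
theorem F56031 : act 1 n14227 = n13296 := d14_1 D14227 (iv D13296) (iv F52171)
theorem F56032 : act 3 n14227 = n13278 := d25_1 D14227 (iv D13278) (iv F52172)
theorem F56033 : act 6 n14227 = n13269 := d34_1 D14227 (iv D13269) D13268
def n14228 : Q := act 7 n13269
theorem D14228 : act 7 n13269 = n14228 := rfl
theorem F56034 : act 1 n14228 = n13297 := d13_1 D14228 (iv D13297) (iv F52173)
theorem F56035 : act 5 n14228 = n13270 := d31_1 D14228 (iv D13270) (iv F52175)
def n14229 : Q := act 3 n13270
theorem D14229 : act 3 n13270 = n14229 := rfl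
theorem F56036 : act 1 n14229 = n13298 := d9_1 D14229 (iv D13298) (iv F52176)
theorem F56037 : act 7 n14229 = n13280 := d24_2 D13270 D14229 (iv D13280) (iv D12274) (iv F48180)
def n14230 : Q := act 4 n13271
theorem D14230 : act 4 n13271 = n14230 := rfl
theorem F56038 : act 1 n14230 = n13319 := d10_1 D14230 (iv D13319) (iv F52178)
theorem F56039 : act 3 n14230 = n13281 := d21_1 D14230 (iv D13281) F48206 (iv F48187) (iv F52179)
theorem F56040 : act 5 n14230 = n13912 := d26_2 D13271 D14230 (iv D13912) (iv D12912) (iv F48184)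
def n14231 : Q := act 6 n13271
theorem D14231 : act 6 n13271 = n14231 := rfl
theorem F56041 : act 1 n14231 = n13320 := d12_1 D14231 (iv D13320) (iv F52178)
theorem F56042 : act 3 n14231 = n13274 := d23_1 D14231 (iv D13274) (iv F52179)
def n14232 : Q := act 7 n13271
theorem D14232 : act 7 n13271 = n14232 := rfl
theorem F56043 : act 1 n14232 = n13321 := d13_1 D14232 (iv D13321) (iv F52178)
theorem F56044 : act 3 n14232 = n14232 := d24_1 D14232 (iv D14232) F52179 F48188 (iv F52179)
theorem F56045 : act 5 n14232 = n13272 := d31_1 D14232 (iv D13272) D13271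
def n14233 : Q := act 8 n13271
theorem D14233 : act 8 n13271 = n14233 := rfl
theorem F56046 : act 1 n14233 = n13322 := d14_1 D14233 (iv D13322) (iv F52178)
theorem F56047 : act 3 n14233 = n13275 := d25_1 D14233 (iv D13275) (iv F52179)
theorem F56048 : act 5 n14233 = n13273 := d32_1 D14233 (iv D13273) D13271
def n14234 : Q := act 8 n13272
theorem D14234 : act 8 n13272 = n14234 := rfl
theorem F56049 : act 1 n14234 = n13323 := d14_1 D14234 (iv D13323) (iv F52180)
theorem F56050 : act 3 n14234 = n14234 := d25_1 D14234 (iv D14234) F52181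
theorem F56051 : act 4 n14234 = n13916 := d29_1 D14234 (iv D13916) (iv F52182)
def n14235 : Q := act 7 n13273
theorem D14235 : act 7 n13273 = n14235 := rfl
theorem F56052 : act 1 n14235 = n13324 := d13_1 D14235 (iv D13324) (iv F52183)
theorem F56053 : act 4 n14235 = n13917 := d28_1 D14235 (iv D13917) (iv F52185)
def n14236 : Q := act 8 n13274
theorem D14236 : act 8 n13274 = n14236 := rfl
theorem F56054 : act 1 n14236 = n13325 := d14_1 D14236 (iv D13325) (iv F52186)
theorem F56055 : act 2 n14236 = n13278 := d20_1 D14236 (iv D13278) (iv F52187)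
theorem F56056 : act 4 n14236 = n13287 := d29_1 D14236 (iv D13287) (iv F52188)
theorem F56057 : act 6 n14236 = n13275 := d34_1 D14236 (iv D13275) D13274
def n14237 : Q := act 7 n13275
theorem D14237 : act 7 n13275 = n14237 := rfl
theorem F56058 : act 1 n14237 = n13326 := d13_1 D14237 (iv D13326) (iv F52190)
theorem F56059 : act 2 n14237 = n13279 := d19_1 D14237 (iv D13279) (iv F52191)
theorem F56060 : act 4 n14237 = n13288 := d28_1 D14237 (iv D13288) (iv F52192)
theorem F56061 : act 5 n14237 = n13276 := d31_1 D14237 (iv D13276) (iv F52193)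
theorem F56062 : act 8 n14237 = n14237 := d35_2 D13275 D14237 (iv D14237) (iv D13275) F48188
def n14238 : Q := act 3 n13276
theorem D14238 : act 3 n13276 = n14238 := rfl
theorem F56063 : act 1 n14238 = n13327 := d9_1 D14238 (iv D13327) (iv F52194)
theorem F56064 : act 8 n14238 = n14238 := d25_2 F52197 D14238 (iv D14238)
def n14239 : Q := act 4 n13277
theorem D14239 : act 4 n13277 = n14239 := rfl
theorem F56065 : act 1 n14239 = n13328 := d10_1 D14239 (iv D13328) (iv F52198)
theorem F56066 : act 7 n14239 = n13921 := d28_2 (iv F52200) D14239 (iv D13921)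
theorem F56067 : act 8 n14239 = n14239 := d29_2 F52201 D14239 (iv D14239)
def n14240 : Q := act 7 n13278
theorem D14240 : act 7 n13278 = n14240 := rfl
theorem F56068 : act 1 n14240 = n13299 := d13_1 D14240 (iv D13299) (iv F52202)
theorem F56069 : act 4 n14240 = n13291 := d28_1 D14240 (iv D13291) (iv F52203)
theorem F56070 : act 6 n14240 = n13279 := d33_1 D14240 (iv D13279) (iv F52204)
theorem F56071 : act 8 n14240 = n14240 := d35_2 D13278 D14240 (iv D14240) (iv D13278) F48198
def n14241 : Q := act 3 n13279
theorem D14241 : act 3 n13279 = n14241 := rfl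
theorem F56072 : act 1 n14241 = n13300 := d9_1 D14241 (iv D13300) (iv F52205)
theorem F56073 : act 5 n14241 = n13280 := d22_2 (iv F52207) D14241 (iv D13280)
theorem F56074 : act 8 n14241 = n14241 := d25_2 F52208 D14241 (iv D14241)
def n14242 : Q := act 2 n13280
theorem D14242 : act 2 n13280 = n14242 := rfl
theorem F56075 : act 8 n14242 = n14242 := d20_2 F52210 D14242 (iv D14242)
def n14243 : Q := act 8 n13281
theorem D14243 : act 8 n13281 = n14243 := rfl
theorem F56076 : act 1 n14243 = n13332 := d14_1 D14243 (iv D13332) (iv F52211)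
theorem F56077 : act 4 n14243 = n13284 := d29_1 D14243 (iv D13284) D13281
theorem F56078 : act 5 n14243 = n13925 := d32_1 D14243 (iv D13925) (iv F52212)
def n14244 : Q := act 8 n13282
theorem D14244 : act 8 n13282 = n14244 := rfl
theorem F56079 : act 1 n14244 = n13333 := d14_1 D14244 (iv D13333) (iv F52213)
theorem F56080 : act 3 n14244 = n13287 := d25_1 D14244 (iv D13287) (iv F52214)
theorem F56081 : act 5 n14244 = n14244 := d32_1 D14244 (iv D14244) F52215
theorem F56082 : act 6 n14244 = n13284 := d34_1 D14244 (iv D13284) D13282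
def n14245 : Q := act 8 n13283
theorem D14245 : act 8 n13283 = n14245 := rfl
theorem F56083 : act 0 n14245 = n13548 := d7_1 D14245 F55911 F55906
theorem F56084 : act 1 n14245 = n13334 := d14_1 D14245 (iv D13334) (iv F52216)
theorem F56085 : act 2 n14245 = n13750 := d20_1 D14245 F54582 F54579
theorem F56086 : act 3 n14245 = n14245 := d25_1 D14245 (iv D14245) F52217
theorem F56087 : act 5 n14245 = n13285 := d32_1 D14245 (iv D13285) (iv F52218)
theorem F56088 : act 7 n13406 = n14245 := d31_0 F56087 (iv F52228) D13406
def n14246 : Q := act 7 n13284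
theorem D14246 : act 7 n13284 = n14246 := rfl
theorem F56089 : act 0 n14246 = n13549 := d6_1 D14246 (iv F55917) F55912
theorem F56090 : act 1 n14246 = n13335 := d13_1 D14246 (iv D13335) (iv F52219)
theorem F56091 : act 2 n14246 = n13751 := d19_1 D14246 (iv F54587) F54584
theorem F56092 : act 5 n14246 = n13286 := d31_1 D14246 (iv D13286) (iv F52221)
theorem F56093 : act 8 n14246 = n13406 := d35_2 D13284 D14246 F56088 (iv D14245) (iv D13283)
theorem F56094 : act 3 n13408 = n14246 := d25_3 F56093 F52760 D13408
def n14247 : Q := act 7 n13287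
theorem D14247 : act 7 n13287 = n14247 := rfl
theorem F56095 : act 1 n14247 = n13338 := d13_1 D14247 (iv D13338) (iv F52236)
theorem F56096 : act 2 n14247 = n13291 := d19_1 D14247 (iv D13291) (iv F52237)
theorem F56097 : act 5 n14247 = n14247 := d31_1 D14247 (iv D14247) F52238
theorem F56098 : act 6 n14247 = n13288 := d33_1 D14247 (iv D13288) (iv F52239)
theorem F56099 : act 8 n14247 = n14247 := d35_2 D13287 D14247 (iv D14247) (iv D13287) F48218
def n14248 : Q := act 3 n13288
theorem D14248 : act 3 n13288 = n14248 := rfl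
theorem F56100 : act 0 n14248 = n13551 := d2_1 D14248 (iv F55926) F55923
theorem F56101 : act 1 n14248 = n13339 := d9_1 D14248 (iv D13339) (iv F52240)
theorem F56102 : act 5 n14248 = n13289 := d22_2 (iv F52242) D14248 (iv D13289)
theorem F56103 : act 7 n14248 = n13408 := d24_2 D13288 D14248 F56094 (iv D14246) F52220
theorem F56104 : act 8 n14248 = n14248 := d25_2 F52243 D14248 (iv D14248)
theorem F56105 : act 2 n13410 = n14248 := d19_3 F56103 F52766 D13410
def n14249 : Q := act 3 n13291
theorem D14249 : act 3 n13291 = n14249 := rfl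
theorem F56106 : act 1 n14249 = n13302 := d9_1 D14249 (iv D13302) (iv F52258)
theorem F56107 : act 5 n14249 = n14249 := d22_2 F52259 D14249 (iv D14249)
theorem F56108 : act 6 n14249 = n13292 := d23_2 (iv F52260) D14249 (iv D13292)
theorem F56109 : act 8 n14249 = n14249 := d25_2 F52261 D14249 (iv D14249)
def n14250 : Q := act 2 n13292
theorem D14250 : act 2 n13292 = n14250 := rfl
theorem F56110 : act 0 n14250 = n13553 := d1_1 D14250 (iv F55936) F55934
theorem F56111 : act 3 n14250 = n13410 := d15_2 D13292 D14250 F56105 (iv D14248) F52241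
theorem F56112 : act 5 n14250 = n13293 := d17_2 (iv F52263) D14250 (iv D13293)
theorem F56113 : act 7 n14250 = n13755 := d19_2 F54604 D14250 (iv F54602)
theorem F56114 : act 8 n14250 = n14250 := d20_2 F52264 D14250 (iv D14250)
theorem F56115 : act 1 n13443 = n14250 := d13_3 F56113 F54279 (iv F52927)
def n14251 : Q := act 4 n13292
theorem D14251 : act 4 n13292 = n14251 := rfl
theorem F56116 : act 1 n14251 = n13304 := d10_1 D14251 (iv D13304) (iv F52262)
theorem F56117 : act 8 n14251 = n14251 := d29_2 F52264 D14251 (iv D14251)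
def n14252 : Q := act 7 n13294
theorem D14252 : act 7 n13294 = n14252 := rfl
theorem F56118 : act 0 n14252 = n13306 := d6_1 D14252 (iv D13306) (iv F52272)
theorem F56119 : act 5 n14252 = n13295 := d31_1 D14252 (iv D13295) (iv F52274)
theorem F56120 : act 8 n14252 = n13297 := d35_2 D13294 D14252 (iv D13297) (iv D12289) (iv F48242)
def n14253 : Q := act 3 n13295
theorem D14253 : act 3 n13295 = n14253 := rfl
theorem F56121 : act 0 n14253 = n13307 := d2_1 D14253 (iv D13307) (iv F52275)
theorem F56122 : act 7 n14253 = n14253 := d24_2 D13295 D14253 (iv D14253) (iv D13295) F48244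
theorem F56123 : act 8 n14253 = n13298 := d25_2 (iv F52277) D14253 (iv D13298)
def n14254 : Q := act 7 n13296
theorem D14254 : act 7 n13296 = n14254 := rfl
theorem F56124 : act 0 n14254 = n13308 := d6_1 D14254 (iv D13308) (iv F52278)
theorem F56125 : act 6 n14254 = n13297 := d33_1 D14254 (iv D13297) (iv F52280)
def n14255 : Q := act 3 n13297
theorem D14255 : act 3 n13297 = n14255 := rfl
theorem F56126 : act 0 n14255 = n13309 := d2_1 D14255 (iv D13309) (iv F52281)
theorem F56127 : act 5 n14255 = n13298 := d22_2 (iv F52282) D14255 (iv D13298)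
theorem F56128 : act 7 n14255 = n13300 := d24_2 D13297 D14255 (iv D13300) (iv D12292) (iv F48251)
def n14256 : Q := act 2 n13298
theorem D14256 : act 2 n13298 = n14256 := rfl
theorem F56129 : act 0 n14256 = n13310 := d1_1 D14256 (iv D13310) (iv F52283)
theorem F56130 : act 7 n14256 = n13301 := d19_2 (iv F52284) D14256 (iv D13301)
def n14257 : Q := act 3 n13299
theorem D14257 : act 3 n13299 = n14257 := rfl
theorem F56131 : act 0 n14257 = n13311 := d2_1 D14257 (iv D13311) (iv F52285)
theorem F56132 : act 6 n14257 = n13300 := d23_2 (iv F52288) D14257 (iv D13300)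
theorem F56133 : act 8 n14257 = n14257 := d25_2 F52289 D14257 (iv D14257)
def n14258 : Q := act 2 n13300
theorem D14258 : act 2 n13300 = n14258 := rfl
theorem F56134 : act 0 n14258 = n13312 := d1_1 D14258 (iv D13312) (iv F52290)
theorem F56135 : act 3 n14258 = n13347 := d15_2 D13300 D14258 (iv D13347) (iv D12335) (iv F48260)
theorem F56136 : act 5 n14258 = n13301 := d17_2 (iv F52291) D14258 (iv D13301)
theorem F56137 : act 8 n14258 = n14258 := d20_2 F52292 D14258 (iv D14258)
def n14259 : Q := act 4 n13300
theorem D14259 : act 4 n13300 = n14259 := rfl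
theorem F56138 : act 0 n14259 = n13313 := d3_1 D14259 (iv D13313) (iv F52290)
theorem F56139 : act 3 n14259 = n13304 := d21_1 D14259 (iv D13304) (iv D12295) (iv F48261) D13300
theorem F56140 : act 8 n14259 = n14259 := d29_2 F52292 D14259 (iv D14259)
def n14260 : Q := act 1 n13301
theorem D14260 : act 1 n13301 = n14260 := rfl
theorem F56141 : act 3 n14260 = n13349 := d9_2 (iv F52294) D14260 (iv D13349)
theorem F56142 : act 8 n14260 = n14260 := d14_2 F52295 D14260 (iv D14260)
def n14261 : Q := act 1 n13303
theorem D14261 : act 1 n13303 = n14261 := rfl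
theorem F56143 : act 0 n14261 = n13376 := d0_1 D14261 F52636 (iv F49118) F49119 (iv F52300)
theorem F56144 : act 2 n14261 = n13443 := d8_2 D13303 D14261 F56115 (iv D14250) F52262
theorem F56145 : act 3 n14261 = n13352 := d9_2 (iv F52301) D14261 (iv D13352)
theorem F56146 : act 4 n14261 = n13490 := d10_2 F52951 D14261 F53160
theorem F56147 : act 5 n14261 = n13305 := d11_2 (iv F52302) D14261 (iv D13305)
theorem F56148 : act 6 n14261 = n13377 := d12_2 F53893 D14261 (iv F53889)
theorem F56149 : act 7 n14261 = n13375 := d13_2 (iv F52947) D14261 (iv F52941)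
theorem F56150 : act 8 n14261 = n14261 := d14_2 F52303 D14261 (iv D14261)
def n14262 : Q := act 3 n13306
theorem D14262 : act 3 n13306 = n14262 := rfl
theorem F56151 : act 5 n14262 = n13307 := d22_2 (iv F52313) D14262 (iv D13307)
theorem F56152 : act 7 n14262 = n14262 := d24_2 D13306 D14262 (iv D14262) (iv D13306) F48278
theorem F56153 : act 8 n14262 = n13309 := d25_2 (iv F52314) D14262 (iv D13309)
def n14263 : Q := act 3 n13308
theorem D14263 : act 3 n13308 = n14263 := rfl
theorem F56154 : act 6 n14263 = n13309 := d23_2 (iv F52317) D14263 (iv D13309)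
theorem F56155 : act 7 n14263 = n13311 := d24_2 D13308 D14263 (iv D13311) (iv D12302) (iv F48282)
def n14264 : Q := act 2 n13309
theorem D14264 : act 2 n13309 = n14264 := rfl
theorem F56156 : act 5 n14264 = n13310 := d17_2 (iv F52318) D14264 (iv D13310)
theorem F56157 : act 7 n14264 = n13312 := d19_2 (iv F52319) D14264 (iv D13312)
def n14265 : Q := act 4 n13309
theorem D14265 : act 4 n13309 = n14265 := rfl
theorem F56158 : act 7 n14265 = n13313 := d28_2 (iv F52319) D14265 (iv D13313)
def n14266 : Q := act 1 n13310
theorem D14266 : act 1 n13310 = n14266 := rfl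
theorem F56159 : act 7 n14266 = n13314 := d13_2 (iv F52320) D14266 (iv D13314)
def n14267 : Q := act 0 n13314
theorem D14267 : act 0 n13314 = n14267 := rfl
theorem F56160 : act 3 n14267 = n13355 := d2_2 (iv F52328) D14267 (iv D13355)
theorem F56161 : act 8 n14267 = n14267 := d7_2 F52329 D14267 (iv D14267)
def n14268 : Q := act 6 n13316
theorem D14268 : act 6 n13316 = n14268 := rfl
theorem F56162 : act 0 n14268 = n14268 := d5_1 D14268 (iv D14268) F52338
theorem F56163 : act 2 n14268 = n14146 := d18_1 D14268 F55779 (iv F52339)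
theorem F56164 : act 3 n14268 = n14268 := d23_1 D14268 (iv D14268) F52340
theorem F56165 : act 4 n14268 = n14145 := d27_1 D14268 F55776 (iv F52341)
theorem F56166 : act 7 n14268 = n13984 := d33_2 (iv F52342) D14268 (iv D13984)
def n14269 : Q := act 8 n13316
theorem D14269 : act 8 n13316 = n14269 := rfl
theorem F56167 : act 0 n14269 = n14269 := d7_1 D14269 (iv D14269) F52338
theorem F56168 : act 2 n14269 = n14034 := d20_1 D14269 F55272 (iv F52339)
theorem F56169 : act 3 n14269 = n14269 := d25_1 D14269 (iv D14269) F52340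
theorem F56170 : act 4 n14269 = n14033 := d29_1 D14269 F55268 (iv F52341)
theorem F56171 : act 5 n14269 = n13317 := d32_1 D14269 (iv D13317) D13316
def n14270 : Q := act 7 n13317
theorem D14270 : act 7 n13317 = n14270 := rfl
theorem F56172 : act 0 n14270 = n14270 := d6_1 D14270 (iv D14270) F52343
theorem F56173 : act 4 n14270 = n13318 := d28_1 D14270 (iv D13318) (iv F52345)
theorem F56174 : act 8 n14270 = n13986 := d35_2 D13317 D14270 (iv D13986) (iv D13001) (iv F48306)
def n14271 : Q := act 8 n13319
theorem D14271 : act 8 n13319 = n14271 := rfl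
theorem F56175 : act 0 n14271 = n14271 := d7_1 D14271 (iv D14271) F52348
theorem F56176 : act 3 n14271 = n13332 := d25_1 D14271 (iv D13332) (iv F52349)
theorem F56177 : act 4 n14271 = n13322 := d29_1 D14271 (iv D13322) D13319
theorem F56178 : act 5 n14271 = n14025 := d32_1 D14271 (iv D14025) (iv F52350)
def n14272 : Q := act 8 n13320
theorem D14272 : act 8 n13320 = n14272 := rfl
theorem F56179 : act 0 n14272 = n14272 := d7_1 D14272 (iv D14272) F52351
theorem F56180 : act 3 n14272 = n13325 := d25_1 D14272 (iv D13325) (iv F52352)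
theorem F56181 : act 6 n14272 = n13322 := d34_1 D14272 (iv D13322) D13320
def n14273 : Q := act 8 n13321
theorem D14273 : act 8 n13321 = n14273 := rfl
theorem F56182 : act 0 n14273 = n14273 := d7_1 D14273 (iv D14273) F52353
theorem F56183 : act 3 n14273 = n14273 := d25_1 D14273 (iv D14273) F52354
theorem F56184 : act 5 n14273 = n13323 := d32_1 D14273 (iv D13323) (iv F52355)
def n14274 : Q := act 7 n13322
theorem D14274 : act 7 n13322 = n14274 := rfl
theorem F56185 : act 0 n14274 = n14274 := d6_1 D14274 (iv D14274) F52356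
theorem F56186 : act 5 n14274 = n13324 := d31_1 D14274 (iv D13324) (iv F52358)
def n14275 : Q := act 7 n13323
theorem D14275 : act 7 n13323 = n14275 := rfl
theorem F56187 : act 0 n14275 = n14275 := d6_1 D14275 (iv D14275) F52359
theorem F56188 : act 4 n14275 = n14029 := d28_1 D14275 (iv D14029) (iv F52361)
theorem F56189 : act 8 n14275 = n13324 := d35_2 D13323 D14275 (iv D13324) (iv D12313) D12312
def n14276 : Q := act 3 n13324
theorem D14276 : act 3 n13324 = n14276 := rfl
theorem F56190 : act 0 n14276 = n14276 := d2_1 D14276 (iv D14276) F52362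
theorem F56191 : act 7 n14276 = n13327 := d24_2 D13324 D14276 (iv D13327) (iv D12316) (iv F48315)
def n14277 : Q := act 7 n13325
theorem D14277 : act 7 n13325 = n14277 := rfl
theorem F56192 : act 0 n14277 = n14277 := d6_1 D14277 (iv D14277) F52364
theorem F56193 : act 2 n14277 = n13329 := d19_1 D14277 (iv D13329) (iv F52365)
theorem F56194 : act 4 n14277 = n13338 := d28_1 D14277 (iv D13338) (iv F52366)
theorem F56195 : act 6 n14277 = n13326 := d33_1 D14277 (iv D13326) (iv F52367)
theorem F56196 : act 8 n14277 = n14277 := d35_2 D13325 D14277 (iv D14277) (iv D13325) F48320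
def n14278 : Q := act 3 n13326
theorem D14278 : act 3 n13326 = n14278 := rfl
theorem F56197 : act 0 n14278 = n14278 := d2_1 D14278 (iv D14278) F52368
theorem F56198 : act 5 n14278 = n13327 := d22_2 (iv F52371) D14278 (iv D13327)
theorem F56199 : act 8 n14278 = n14278 := d25_2 F52372 D14278 (iv D14278)
def n14279 : Q := act 2 n13327
theorem D14279 : act 2 n13327 = n14279 := rfl
theorem F56200 : act 0 n14279 = n14279 := d1_1 D14279 (iv D14279) F52373
theorem F56201 : act 3 n14279 = n13331 := d15_2 D13327 D14279 (iv D13331) (iv D12320) (iv F48326)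
theorem F56202 : act 8 n14279 = n14279 := d20_2 F52374 D14279 (iv D14279)
def n14280 : Q := act 4 n13327
theorem D14280 : act 4 n13327 = n14280 := rfl
theorem F56203 : act 0 n14280 = n14280 := d3_1 D14280 (iv D14280) F52373
theorem F56204 : act 3 n14280 = n13328 := d21_1 D14280 (iv D13328) (iv D12317) (iv F48327) D13327
theorem F56205 : act 8 n14280 = n14280 := d29_2 F52374 D14280 (iv D14280)
def n14281 : Q := act 3 n13329
theorem D14281 : act 3 n13329 = n14281 := rfl
theorem F56206 : act 0 n14281 = n14281 := d2_1 D14281 (iv D14281) F52379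
theorem F56207 : act 1 n14281 = n13346 := d9_1 D14281 (iv D13346) (iv F52380)
theorem F56208 : act 6 n14281 = n13330 := d23_2 (iv F52382) D14281 (iv D13330)
theorem F56209 : act 8 n14281 = n14281 := d25_2 F52383 D14281 (iv D14281)
def n14282 : Q := act 2 n13330
theorem D14282 : act 2 n13330 = n14282 := rfl
theorem F56210 : act 0 n14282 = n14282 := d1_1 D14282 (iv D14282) F52384
theorem F56211 : act 5 n14282 = n13331 := d17_2 (iv F52386) D14282 (iv D13331)
theorem F56212 : act 8 n14282 = n14282 := d20_2 F52387 D14282 (iv D14282)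
def n14283 : Q := act 4 n13330
theorem D14283 : act 4 n13330 = n14283 := rfl
theorem F56213 : act 0 n14283 = n14283 := d3_1 D14283 (iv D14283) F52384
theorem F56214 : act 1 n14283 = n13348 := d10_1 D14283 (iv D13348) (iv F52385)
theorem F56215 : act 3 n14283 = n13344 := d21_1 D14283 (iv D13344) (iv D12332) (iv F48340) D13330
theorem F56216 : act 5 n14283 = n14283 := d26_2 (iv F52386) D14283 (iv D14283) F52386 F48345
theorem F56217 : act 8 n14283 = n14283 := d29_2 F52387 D14283 (iv D14283)
def n14284 : Q := act 1 n13331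
theorem D14284 : act 1 n13331 = n14284 := rfl
theorem F56218 : act 2 n14284 = n13349 := d8_2 D13331 D14284 (iv D13349) (iv D12336) (iv F48344)
theorem F56219 : act 4 n14284 = n14284 := d10_2 F52389 D14284 (iv D14284)
theorem F56220 : act 8 n14284 = n14284 := d14_2 F52390 D14284 (iv D14284)
def n14285 : Q := act 7 n13332
theorem D14285 : act 7 n13332 = n14285 := rfl
theorem F56221 : act 0 n14285 = n14285 := d6_1 D14285 (iv D14285) F52391
theorem F56222 : act 2 n14285 = n14285 := d19_1 D14285 (iv D14285) F52392
theorem F56223 : act 4 n14285 = n13335 := d28_1 D14285 (iv D13335) (iv F52393)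
theorem F56224 : act 5 n14285 = n14036 := d31_1 D14285 (iv D14036) (iv F52394)
def n14286 : Q := act 7 n13333
theorem D14286 : act 7 n13333 = n14286 := rfl
theorem F56225 : act 0 n14286 = n14286 := d6_1 D14286 (iv D14286) F52395
theorem F56226 : act 2 n14286 = n14286 := d19_1 D14286 (iv D14286) F52396
theorem F56227 : act 5 n14286 = n14286 := d31_1 D14286 (iv D14286) F52398
theorem F56228 : act 6 n14286 = n13335 := d33_1 D14286 (iv D13335) (iv F52399)
def n14287 : Q := act 7 n13334
theorem D14287 : act 7 n13334 = n14287 := rfl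
theorem F56229 : act 0 n14287 = n14287 := d6_1 D14287 (iv D14287) F52400
theorem F56230 : act 1 n14287 = n13406 := d13_1 D14287 F56088 F56084
theorem F56231 : act 2 n14287 = n14287 := d19_1 D14287 (iv D14287) F52401
theorem F56232 : act 5 n14287 = n13336 := d31_1 D14287 (iv D13336) (iv F52403)
theorem F56233 : act 8 n14287 = n13335 := d35_2 D13334 D14287 (iv D13335) (iv D12324) D12323
theorem F56234 : act 3 n13361 = n14287 := d22_3 F56232 (iv F52413) D13361
def n14288 : Q := act 3 n13335
theorem D14288 : act 3 n13335 = n14288 := rfl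
theorem F56235 : act 0 n14288 = n14288 := d2_1 D14288 (iv D14288) F52404
theorem F56236 : act 1 n14288 = n13408 := d9_1 D14288 F56094 F56090
theorem F56237 : act 5 n14288 = n13337 := d22_2 (iv F52406) D14288 (iv D13337)
theorem F56238 : act 7 n14288 = n13339 := d24_2 D13335 D14288 (iv D13339) (iv D12328) (iv F48360)
theorem F56239 : act 8 n14288 = n13361 := d25_2 F56233 D14288 F56234
theorem F56240 : act 2 n13363 = n14288 := d20_3 F56239 F52545 D13363
def n14289 : Q := act 3 n13338
theorem D14289 : act 3 n13338 = n14289 := rfl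
theorem F56241 : act 0 n14289 = n14289 := d2_1 D14289 (iv D14289) F52421
theorem F56242 : act 2 n14289 = n14283 := d15_1 D14289 F56215 F52490 (iv D13342) (iv F52422)
theorem F56243 : act 5 n14289 = n14289 := d22_2 F52423 D14289 (iv D14289)
theorem F56244 : act 6 n14289 = n13339 := d23_2 (iv F52424) D14289 (iv D13339)
theorem F56245 : act 8 n14289 = n14289 := d25_2 F52425 D14289 (iv D14289)
theorem F56246 : act 4 n14282 = n14289 := d16_0 F56242 (iv D14283) D14282
def n14290 : Q := act 2 n13339
theorem D14290 : act 2 n13339 = n14290 := rfl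
theorem F56247 : act 0 n14290 = n14290 := d1_1 D14290 (iv D14290) F52426
theorem F56248 : act 1 n14290 = n13368 := d8_1 D14290 F52586 (iv F52774) F56105 F56101
theorem F56249 : act 3 n14290 = n13343 := d15_2 D13339 D14290 (iv D13343) (iv D12332) (iv F48376)
theorem F56250 : act 5 n14290 = n13340 := d17_2 (iv F52427) D14290 (iv D13340)
theorem F56251 : act 6 n14290 = n14283 := d18_2 F56244 D14290 (iv F56242)
theorem F56252 : act 7 n14290 = n13363 := d19_2 F56238 D14290 F56240
theorem F56253 : act 8 n14290 = n14290 := d20_2 F52428 D14290 (iv D14290)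
theorem F56254 : act 4 n14281 = n14290 := d27_3 F56251 (iv D14283) (iv F56208)
def n14291 : Q := act 4 n13339
theorem D14291 : act 4 n13339 = n14291 := rfl
theorem F56255 : act 0 n14291 = n14291 := d3_1 D14291 (iv D14291) F52426
theorem F56256 : act 2 n14291 = n14281 := d16_1 D14291 F56254 (iv D14290)
theorem F56257 : act 6 n14291 = n14282 := d27_2 F56244 D14291 F56246
theorem F56258 : act 8 n14291 = n14291 := d29_2 F52428 D14291 (iv D14291)
def n14292 : Q := act 1 n13347
theorem D14292 : act 1 n13347 = n14292 := rfl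
theorem F56259 : act 5 n14292 = n13349 := d11_2 (iv F52469) D14292 (iv D13349)
theorem F56260 : act 8 n14292 = n14292 := d14_2 F52470 D14292 (iv D14292)
def n14293 : Q := act 0 n13349
theorem D14293 : act 0 n13349 = n14293 := rfl
theorem F56261 : act 1 n14293 = n13355 := d0_2 D13349 D14293 (iv D13355) (iv D12344) (iv F48409)
theorem F56262 : act 4 n14293 = n14293 := d3_2 F52475 D14293 (iv D14293)
theorem F56263 : act 8 n14293 = n14293 := d7_2 F52476 D14293 (iv D14293)
def n14294 : Q := act 8 n13358
theorem D14294 : act 8 n13358 = n14294 := rfl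
theorem F56264 : act 0 n14294 = n14294 := d7_1 D14294 (iv D14294) F52527
theorem F56265 : act 1 n14294 = n13365 := d14_1 D14294 (iv D13365) (iv F52528)
theorem F56266 : act 3 n14294 = n14022 := d25_1 D14294 F55227 (iv F52529)
theorem F56267 : act 4 n14294 = n13363 := d29_1 D14294 (iv D13363) (iv F52530)
theorem F56268 : act 5 n14294 = n13359 := d32_1 D14294 (iv D13359) D13358
theorem F56269 : act 6 n14294 = n14023 := d34_1 D14294 F55232 (iv F52531)
theorem F56270 : act 7 n14281 = n14294 := d33_0 F56269 F55231 (iv F56208)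
def n14295 : Q := act 7 n13359
theorem D14295 : act 7 n13359 = n14295 := rfl
theorem F56271 : act 0 n14295 = n14295 := d6_1 D14295 (iv D14295) F52533
theorem F56272 : act 1 n14295 = n13366 := d13_1 D14295 (iv D13366) (iv F52534)
theorem F56273 : act 3 n14295 = n14009 := d24_1 D14295 (iv D14009) F51184 D13042 (iv F52535)
theorem F56274 : act 4 n14295 = n13360 := d28_1 D14295 (iv D13360) (iv F52536)
theorem F56275 : act 5 n14295 = n14281 := d31_1 D14295 F56270 F56268
theorem F56276 : act 6 n14295 = n14010 := d33_1 D14295 F55166 (iv F52537)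
theorem F56277 : act 8 n14295 = n14295 := d35_2 D13359 D14295 (iv D14295) (iv D13359) F48473
def n14296 : Q := act 6 n13361
theorem D14296 : act 6 n13361 = n14296 := rfl
theorem F56278 : act 0 n14296 = n14296 := d5_1 D14296 (iv D14296) F52543
theorem F56279 : act 1 n14296 = n13407 := d12_1 D14296 (iv D13407) (iv F52544)
theorem F56280 : act 2 n14296 = n13362 := d18_1 D14296 (iv D13362) (iv F52545)
theorem F56281 : act 4 n14296 = n14147 := d27_1 D14296 F55783 F55694
theorem F56282 : act 5 n14296 = n14296 := d30_1 D14296 (iv D14296) (iv D13361) F48481 D13361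
theorem F56283 : act 7 n14296 = n14296 := d33_2 F52546 D14296 (iv D14296)
def n14297 : Q := act 8 n13362
theorem D14297 : act 8 n13362 = n14297 := rfl
theorem F56284 : act 0 n14297 = n14297 := d7_1 D14297 (iv D14297) F52547
theorem F56285 : act 1 n14297 = n13367 := d14_1 D14297 (iv D13367) (iv F52548)
theorem F56286 : act 3 n14297 = n14297 := d25_1 D14297 (iv D14297) F52549
theorem F56287 : act 4 n14297 = n14023 := d29_1 D14297 F55232 (iv F52550)
theorem F56288 : act 5 n14297 = n14297 := d32_1 D14297 (iv D14297) F52551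
theorem F56289 : act 6 n14297 = n13363 := d34_1 D14297 (iv D13363) D13362
theorem F56290 : act 7 n14283 = n14297 := d33_0 F56289 (iv F56252) F56251
def n14298 : Q := act 8 n13370
theorem D14298 : act 8 n13370 = n14298 := rfl
theorem F56291 : act 0 n14298 = n13371 := d7_1 D14298 (iv D13371) D13370
theorem F56292 : act 1 n14298 = n13373 := d14_1 D14298 (iv D13373) (iv F52599)
theorem F56293 : act 3 n14298 = n13754 := d25_1 D14298 F54277 (iv F52600)
theorem F56294 : act 4 n14298 = n13451 := d29_1 D14298 (iv D13451) (iv F52601)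
theorem F56295 : act 5 n14298 = n14298 := d32_1 D14298 (iv D14298) F52602
theorem F56296 : act 6 n14298 = n13755 := d34_1 D14298 F54281 (iv F52603)
def n14299 : Q := act 7 n13371
theorem D14299 : act 7 n13371 = n14299 := rfl
theorem F56297 : act 1 n14299 = n13372 := d13_1 D14299 (iv D13372) (iv F52605)
theorem F56298 : act 3 n14299 = n13552 := d24_1 D14299 (iv D13552) F49276 D12932 (iv F52606)
theorem F56299 : act 4 n14299 = n13452 := d28_1 D14299 (iv D13452) (iv F52607)
theorem F56300 : act 5 n14299 = n14299 := d31_1 D14299 (iv D14299) F52608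
theorem F56301 : act 6 n14299 = n13553 := d33_1 D14299 F53376 (iv F52609)
theorem F56302 : act 8 n14299 = n14299 := d35_2 D13371 D14299 (iv D14299) (iv D13371) F48548
def n14300 : Q := act 7 n13373
theorem D14300 : act 7 n13373 = n14300 := rfl
theorem F56303 : act 0 n14300 = n13374 := d6_1 D14300 (iv D13374) (iv F52617)
theorem F56304 : act 2 n14300 = n13377 := d19_1 D14300 (iv D13377) (iv F52618)
theorem F56305 : act 3 n14300 = n13442 := d24_1 D14300 (iv D13442) F48861 D12786 (iv F52619)
theorem F56306 : act 4 n14300 = n13487 := d28_1 D14300 (iv D13487) (iv F52620)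
theorem F56307 : act 5 n14300 = n14300 := d31_1 D14300 (iv D14300) F52621
theorem F56308 : act 6 n14300 = n13443 := d33_1 D14300 F52927 (iv F52622)
theorem F56309 : act 8 n14300 = n14300 := d35_2 D13373 D14300 (iv D14300) (iv D13373) F48613
def n14301 : Q := act 2 n13378
theorem D14301 : act 2 n13378 = n14301 := rfl
theorem F56310 : act 0 n14301 = n13495 := d1_1 D14301 (iv D13495) (iv F52648)
theorem F56311 : act 3 n14301 = n13383 := d15_2 D13378 D14301 (iv D13383) (iv D12391) (iv F48676)
theorem F56312 : act 5 n14301 = n13701 := d17_2 (iv F52650) D14301 (iv D13701)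
def n14302 : Q := act 4 n13378
theorem D14302 : act 4 n13378 = n14302 := rfl
theorem F56313 : act 0 n14302 = n13496 := d3_1 D14302 (iv D13496) (iv F52648)
theorem F56314 : act 1 n14302 = n14302 := d10_1 D14302 (iv D14302) F52649
theorem F56315 : act 3 n14302 = n14302 := d21_1 D14302 (iv D14302) (iv D13378) F48677 D13378
theorem F56316 : act 6 n14302 = n13537 := d27_2 F54556 D14302 (iv F54555)
theorem F56317 : act 7 n14302 = n13529 := d28_2 F53901 D14302 (iv F53898)
def n14303 : Q := act 8 n13378
theorem D14303 : act 8 n13378 = n14303 := rfl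
theorem F56318 : act 0 n14303 = n13497 := d7_1 D14303 (iv D13497) (iv F52648)
theorem F56319 : act 1 n14303 = n14303 := d14_1 D14303 (iv D14303) F52649
theorem F56320 : act 3 n14303 = n13379 := d25_1 D14303 (iv D13379) D13378
theorem F56321 : act 5 n14303 = n13703 := d32_1 D14303 (iv D13703) (iv F52650)
def n14304 : Q := act 3 n13380
theorem D14304 : act 3 n13380 = n14304 := rfl
theorem F56322 : act 0 n14304 = n13499 := d2_1 D14304 (iv D13499) (iv F52657)
theorem F56323 : act 1 n14304 = n13411 := d9_1 D14304 (iv D13411) (iv F52658)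
theorem F56324 : act 4 n14304 = n13681 := d21_2 (iv F52659) D14304 F53993 (iv F53866) F53865
theorem F56325 : act 5 n14304 = n13381 := d22_2 (iv F52660) D14304 (iv D13381)
theorem F56326 : act 6 n14304 = n13704 := d23_2 (iv F52661) D14304 (iv D13704)
theorem F56327 : act 7 n14304 = n13386 := d24_2 D13380 D14304 (iv D13386) (iv D12393) (iv F48681)
def n14305 : Q := act 8 n13380
theorem D14305 : act 8 n13380 = n14305 := rfl
theorem F56328 : act 0 n14305 = n13500 := d7_1 D14305 (iv D13500) (iv F52657)
theorem F56329 : act 1 n14305 = n13412 := d14_1 D14305 (iv D13412) (iv F52658)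
theorem F56330 : act 4 n14305 = n13843 := d29_1 D14305 F54600 (iv F52659)
theorem F56331 : act 5 n14305 = n13382 := d32_1 D14305 (iv D13382) (iv F52660)
theorem F56332 : act 6 n14305 = n13705 := d34_1 D14305 (iv D13705) (iv F52661)
theorem F56333 : act 7 n14305 = n13652 := d35_1 D14305 (iv D13652) F49759 (iv F48683) D13380
def n14306 : Q := act 2 n13381
theorem D14306 : act 2 n13381 = n14306 := rfl
theorem F56334 : act 0 n14306 = n13501 := d1_1 D14306 (iv D13501) (iv F52662)
theorem F56335 : act 6 n14306 = n13383 := d18_2 (iv F52664) D14306 (iv D13383)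
theorem F56336 : act 7 n14306 = n13388 := d19_2 (iv F52665) D14306 (iv D13388)
def n14307 : Q := act 4 n13381
theorem D14307 : act 4 n13381 = n14307 := rfl
theorem F56337 : act 0 n14307 = n13502 := d3_1 D14307 (iv D13502) (iv F52662)
theorem F56338 : act 1 n14307 = n13414 := d10_1 D14307 (iv D13414) (iv F52663)
theorem F56339 : act 3 n14307 = n14307 := d21_1 D14307 (iv D14307) (iv D13381) F48687 D13381
theorem F56340 : act 5 n14307 = n13769 := d26_2 F56325 D14307 (iv D13769) (iv F53994) (iv F56324)
theorem F56341 : act 6 n14307 = n13384 := d27_2 (iv F52664) D14307 (iv D13384)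
theorem F56342 : act 7 n14307 = n13389 := d28_2 (iv F52665) D14307 (iv D13389)
def n14308 : Q := act 8 n13381
theorem D14308 : act 8 n13381 = n14308 := rfl
theorem F56343 : act 0 n14308 = n13503 := d7_1 D14308 (iv D13503) (iv F52662)
theorem F56344 : act 1 n14308 = n13415 := d14_1 D14308 (iv D13415) (iv F52663)
theorem F56345 : act 3 n14308 = n13382 := d25_1 D14308 (iv D13382) D13381
theorem F56346 : act 6 n14308 = n13385 := d34_1 D14308 (iv D13385) (iv F52664)
def n14309 : Q := act 1 n13383
theorem D14309 : act 1 n13383 = n14309 := rfl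
theorem F56347 : act 2 n14309 = n13416 := d8_2 D13383 D14309 (iv D13416) (iv D12416) (iv F48690)
theorem F56348 : act 5 n14309 = n13708 := d11_2 (iv F52672) D14309 (iv D13708)
theorem F56349 : act 7 n14309 = n13391 := d13_2 (iv F52673) D14309 (iv D13391)
def n14310 : Q := act 4 n13383
theorem D14310 : act 4 n13383 = n14310 := rfl
theorem F56350 : act 0 n14310 = n13505 := d3_1 D14310 (iv D13505) (iv F52671)
theorem F56351 : act 2 n14310 = n13384 := d16_1 D14310 (iv D13384) D13383
theorem F56352 : act 7 n14310 = n13392 := d28_2 (iv F52673) D14310 (iv D13392)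
def n14311 : Q := act 8 n13383
theorem D14311 : act 8 n13383 = n14311 := rfl
theorem F56353 : act 0 n14311 = n13506 := d7_1 D14311 (iv D13506) (iv F52671)
theorem F56354 : act 2 n14311 = n13385 := d20_1 D14311 (iv D13385) D13383
theorem F56355 : act 5 n14311 = n13710 := d32_1 D14311 (iv D13710) (iv F52672)
def n14312 : Q := act 5 n13384
theorem D14312 : act 5 n13384 = n14312 := rfl
theorem F56356 : act 0 n14312 = n13507 := d4_1 D14312 (iv D13507) (iv F52674)
theorem F56357 : act 1 n14312 = n13419 := d11_1 D14312 (iv D13419) (iv F52675)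
theorem F56358 : act 3 n14312 = n14312 := d22_1 D14312 (iv D14312) F52676
theorem F56359 : act 4 n14312 = n13711 := d26_1 D14312 (iv D13711) (iv D12720) (iv F48691) D13384
theorem F56360 : act 6 n14312 = n13777 := d30_2 F56341 D14312 (iv D13777) (iv F54334) (iv F56340)
theorem F56361 : act 7 n14312 = n13394 := d31_2 (iv F52677) D14312 (iv D13394)
def n14313 : Q := act 8 n13384
theorem D14313 : act 8 n13384 = n14313 := rfl
theorem F56362 : act 0 n14313 = n13508 := d7_1 D14313 (iv D13508) (iv F52674)
theorem F56363 : act 1 n14313 = n13420 := d14_1 D14313 (iv D13420) (iv F52675)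
theorem F56364 : act 3 n14313 = n14313 := d25_1 D14313 (iv D14313) F52676
theorem F56365 : act 4 n14313 = n13385 := d29_1 D14313 (iv D13385) D13384
def n14314 : Q := act 7 n13385
theorem D14314 : act 7 n13385 = n14314 := rfl
theorem F56366 : act 0 n14314 = n13509 := d6_1 D14314 (iv D13509) (iv F52678)
theorem F56367 : act 1 n14314 = n13421 := d13_1 D14314 (iv D13421) (iv F52679)
theorem F56368 : act 3 n14314 = n14161 := d24_1 D14314 (iv D14161) F51968 (iv F48697) (iv F52680)
theorem F56369 : act 5 n14314 = n13713 := d31_1 D14314 (iv D13713) (iv F52681)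
theorem F56370 : act 8 n14314 = n13396 := d35_2 D13385 D14314 (iv D13396) (iv D12398) (iv F48692)
def n14315 : Q := act 2 n13386
theorem D14315 : act 2 n13386 = n14315 := rfl
theorem F56371 : act 0 n14315 = n13510 := d1_1 D14315 (iv D13510) (iv F52682)
theorem F56372 : act 5 n14315 = n13388 := d17_2 (iv F52684) D14315 (iv D13388)
theorem F56373 : act 6 n14315 = n13714 := d18_2 (iv F52685) D14315 (iv D13714)
def n14316 : Q := act 4 n13386
theorem D14316 : act 4 n13386 = n14316 := rfl
theorem F56374 : act 0 n14316 = n13511 := d3_1 D14316 (iv D13511) (iv F52682)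
theorem F56375 : act 1 n14316 = n13423 := d10_1 D14316 (iv D13423) (iv F52683)
theorem F56376 : act 3 n14316 = n14316 := d21_1 D14316 (iv D14316) (iv D13386) F48700 D13386
theorem F56377 : act 5 n14316 = n13757 := d26_2 (iv F52684) D14316 F54287 F52698 (iv D13389)
theorem F56378 : act 6 n14316 = n13715 := d27_2 (iv F52685) D14316 (iv D13715)
theorem F56379 : act 7 n14316 = n13681 := d28_2 F56327 D14316 (iv F56324)
def n14317 : Q := act 8 n13386
theorem D14317 : act 8 n13386 = n14317 := rfl
theorem F56380 : act 0 n14317 = n13512 := d7_1 D14317 (iv D13512) (iv F52682)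
theorem F56381 : act 1 n14317 = n13424 := d14_1 D14317 (iv D13424) (iv F52683)
theorem F56382 : act 3 n14317 = n13387 := d25_1 D14317 (iv D13387) D13386
theorem F56383 : act 5 n14317 = n13390 := d32_1 D14317 (iv D13390) (iv F52684)
theorem F56384 : act 6 n14317 = n13716 := d34_1 D14317 (iv D13716) (iv F52685)
def n14318 : Q := act 1 n13388
theorem D14318 : act 1 n13388 = n14318 := rfl
theorem F56385 : act 2 n14318 = n13425 := d8_2 D13388 D14318 (iv D13425) (iv D12421) (iv F48704)
theorem F56386 : act 6 n14318 = n13391 := d12_2 (iv F52693) D14318 (iv D13391)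
theorem F56387 : act 4 n14125 = n14318 := d16_0 F56385 F52847 D14125
def n14319 : Q := act 4 n13388
theorem D14319 : act 4 n13388 = n14319 := rfl
theorem F56388 : act 0 n14319 = n13514 := d3_1 D14319 (iv D13514) (iv F52692)
theorem F56389 : act 1 n14319 = n14125 := d10_1 D14319 F56387 (iv D14318)
theorem F56390 : act 2 n14319 = n13389 := d16_1 D14319 (iv D13389) D13388
theorem F56391 : act 6 n14319 = n13392 := d27_2 (iv F52693) D14319 (iv D13392)
theorem F56392 : act 5 n14126 = n14319 := d17_0 F56390 (iv F52698) (iv F55683)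
def n14320 : Q := act 8 n13388
theorem D14320 : act 8 n13388 = n14320 := rfl
theorem F56393 : act 0 n14320 = n13515 := d7_1 D14320 (iv D13515) (iv F52692)
theorem F56394 : act 2 n14320 = n13390 := d20_1 D14320 (iv D13390) D13388
theorem F56395 : act 6 n14320 = n13393 := d34_1 D14320 (iv D13393) (iv F52693)
def n14321 : Q := act 8 n13389
theorem D14321 : act 8 n13389 = n14321 := rfl
theorem F56396 : act 0 n14321 = n13517 := d7_1 D14321 (iv D13517) (iv F52694)
theorem F56397 : act 1 n14321 = n13427 := d14_1 D14321 (iv D13427) (iv F52695)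
theorem F56398 : act 3 n14321 = n13397 := d25_1 D14321 (iv D13397) (iv F52696)
theorem F56399 : act 4 n14321 = n13390 := d29_1 D14321 (iv D13390) D13389
theorem F56400 : act 5 n14321 = n13956 := d32_1 D14321 F54960 F52698
theorem F56401 : act 6 n14321 = n13395 := d34_1 D14321 (iv D13395) (iv F52697)
def n14322 : Q := act 7 n13390
theorem D14322 : act 7 n13390 = n14322 := rfl
theorem F56402 : act 0 n14322 = n13518 := d6_1 D14322 (iv D13518) (iv F52699)
theorem F56403 : act 1 n14322 = n13428 := d13_1 D14322 (iv D13428) (iv F52700)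
theorem F56404 : act 3 n14322 = n13945 := d24_1 D14322 (iv D13945) F50940 (iv F48710) (iv F52701)
theorem F56405 : act 6 n14322 = n13396 := d33_1 D14322 (iv D13396) (iv F52702)
def n14323 : Q := act 0 n13391
theorem D14323 : act 0 n13391 = n14323 := rfl
theorem F56406 : act 1 n14323 = n13519 := d0_2 D13391 D14323 (iv D13519) (iv D12510) (iv F48711)
theorem F56407 : act 2 n14323 = n13429 := d1_2 (iv F52703) D14323 (iv D13429)
theorem F56408 : act 5 n14323 = n13723 := d4_2 (iv F52704) D14323 (iv D13723)
def n14324 : Q := act 4 n13391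
theorem D14324 : act 4 n13391 = n14324 := rfl
theorem F56409 : act 1 n14324 = n13392 := d10_1 D14324 (iv D13392) D13391
theorem F56410 : act 2 n14324 = n13430 := d16_1 D14324 (iv D13430) (iv F52703)
theorem F56411 : act 6 n14324 = n14125 := d27_2 F56386 D14324 F56387
def n14325 : Q := act 8 n13391
theorem D14325 : act 8 n13391 = n14325 := rfl
theorem F56412 : act 1 n14325 = n13393 := d14_1 D14325 (iv D13393) D13391
theorem F56413 : act 2 n14325 = n13431 := d20_1 D14325 (iv D13431) (iv F52703)
theorem F56414 : act 5 n14325 = n13725 := d32_1 D14325 (iv D13725) (iv F52704)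
def n14326 : Q := act 3 n13392
theorem D14326 : act 3 n13392 = n14326 := rfl
theorem F56415 : act 0 n14326 = n13522 := d2_1 D14326 (iv D13522) (iv F52705)
theorem F56416 : act 2 n14326 = n13399 := d15_1 D14326 (iv D13399) F48731 (iv F48715) (iv F52706)
def n14327 : Q := act 5 n13392
theorem D14327 : act 5 n13392 = n14327 := rfl
theorem F56417 : act 0 n14327 = n13523 := d4_1 D14327 (iv D13523) (iv F52705)
theorem F56418 : act 2 n14327 = n13394 := d17_1 D14327 (iv D13394) (iv F52706)
theorem F56419 : act 4 n14327 = n13727 := d26_1 D14327 (iv D13727) (iv D12728) (iv F48712) D13392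
def n14328 : Q := act 8 n13392
theorem D14328 : act 8 n13392 = n14328 := rfl
theorem F56420 : act 0 n14328 = n13524 := d7_1 D14328 (iv D13524) (iv F52705)
theorem F56421 : act 2 n14328 = n13395 := d20_1 D14328 (iv D13395) (iv F52706)
theorem F56422 : act 4 n14328 = n13393 := d29_1 D14328 (iv D13393) D13392
def n14329 : Q := act 7 n13393
theorem D14329 : act 7 n13393 = n14329 := rfl
theorem F56423 : act 0 n14329 = n13525 := d6_1 D14329 (iv D13525) (iv F52707)
theorem F56424 : act 2 n14329 = n13396 := d19_1 D14329 (iv D13396) (iv F52708)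
theorem F56425 : act 5 n14329 = n13729 := d31_1 D14329 (iv D13729) (iv F52709)
def n14330 : Q := act 6 n13394
theorem D14330 : act 6 n13394 = n14330 := rfl
theorem F56426 : act 0 n14330 = n13526 := d5_1 D14330 (iv D13526) (iv F52710)
theorem F56427 : act 1 n14330 = n13435 := d12_1 D14330 (iv D13435) (iv F52711)
theorem F56428 : act 3 n14330 = n13403 := d23_1 D14330 (iv D13403) (iv F52712)
theorem F56429 : act 4 n14330 = n13730 := d27_1 D14330 (iv D13730) (iv F52713)
theorem F56430 : act 5 n14330 = n13761 := d30_1 D14330 F54305 F52698 F52697 D13394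
theorem F56431 : act 7 n14330 = n13777 := d33_2 F56361 D14330 (iv F56360)
def n14331 : Q := act 8 n13394
theorem D14331 : act 8 n13394 = n14331 := rfl
theorem F56432 : act 0 n14331 = n13527 := d7_1 D14331 (iv D13527) (iv F52710)
theorem F56433 : act 1 n14331 = n13436 := d14_1 D14331 (iv D13436) (iv F52711)
theorem F56434 : act 3 n14331 = n13404 := d25_1 D14331 (iv D13404) (iv F52712)
theorem F56435 : act 4 n14331 = n13731 := d29_1 D14331 (iv D13731) (iv F52713)
theorem F56436 : act 5 n14331 = n13395 := d32_1 D14331 (iv D13395) D13394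
def n14332 : Q := act 7 n13395
theorem D14332 : act 7 n13395 = n14332 := rfl
theorem F56437 : act 0 n14332 = n13528 := d6_1 D14332 (iv D13528) (iv F52714)
theorem F56438 : act 1 n14332 = n13437 := d13_1 D14332 (iv D13437) (iv F52715)
theorem F56439 : act 4 n14332 = n13396 := d28_1 D14332 (iv D13396) (iv F52717)
def n14333 : Q := act 7 n13397
theorem D14333 : act 7 n13397 = n14333 := rfl
theorem F56440 : act 0 n14333 = n13535 := d6_1 D14333 (iv D13535) (iv F52722)
theorem F56441 : act 1 n14333 = n13438 := d13_1 D14333 (iv D13438) (iv F52723)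
theorem F56442 : act 4 n14333 = n13398 := d28_1 D14333 (iv D13398) (iv F52724)
theorem F56443 : act 5 n14333 = n14050 := d31_1 D14333 F55347 (iv F52725)
theorem F56444 : act 6 n14333 = n13405 := d33_1 D14333 (iv D13405) (iv F52726)
theorem F56445 : act 8 n14333 = n14333 := d35_2 D13397 D14333 (iv D14333) (iv D13397) F48723
def n14334 : Q := act 5 n13399
theorem D14334 : act 5 n13399 = n14334 := rfl
theorem F56446 : act 0 n14334 = n13536 := d4_1 D14334 (iv D13536) (iv F52733)
theorem F56447 : act 3 n14334 = n13400 := d22_1 D14334 (iv D13400) D13399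
def n14335 : Q := act 7 n13399
theorem D14335 : act 7 n13399 = n14335 := rfl
theorem F56448 : act 0 n14335 = n13537 := d6_1 D14335 (iv D13537) (iv F52733)
theorem F56449 : act 1 n14335 = n13632 := d13_1 D14335 (iv F55006) F55003
theorem F56450 : act 3 n14335 = n14335 := d24_1 D14335 (iv D14335) (iv D13399) F48732 D13399
theorem F56451 : act 4 n14335 = n13493 := d28_1 D14335 (iv F53954) F53952
theorem F56452 : act 6 n14335 = n13496 := d33_1 D14335 (iv F54511) F54510
def n14336 : Q := act 8 n13399
theorem D14336 : act 8 n13399 = n14336 := rfl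
theorem F56453 : act 0 n14336 = n13538 := d7_1 D14336 (iv D13538) (iv F52733)
theorem F56454 : act 3 n14336 = n13401 := d25_1 D14336 (iv D13401) D13399
def n14337 : Q := act 6 n13400
theorem D14337 : act 6 n13400 = n14337 := rfl
theorem F56455 : act 0 n14337 = n13539 := d5_1 D14337 (iv D13539) (iv F52734)
theorem F56456 : act 1 n14337 = n14147 := d12_1 D14337 F55783 F55692
theorem F56457 : act 2 n14337 = n13403 := d18_1 D14337 (iv D13403) (iv F52735)
theorem F56458 : act 4 n14337 = n13407 := d27_1 D14337 (iv D13407) (iv F52736)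
theorem F56459 : act 5 n14337 = n14148 := d30_1 D14337 F55787 F51928 F51591 D13400
theorem F56460 : act 7 n14337 = n14337 := d33_2 F52737 D14337 (iv D14337)
def n14338 : Q := act 8 n13400
theorem D14338 : act 8 n13400 = n14338 := rfl
theorem F56461 : act 0 n14338 = n13540 := d7_1 D14338 (iv D13540) (iv F52734)
theorem F56462 : act 2 n14338 = n13404 := d20_1 D14338 (iv D13404) (iv F52735)
theorem F56463 : act 4 n14338 = n13408 := d29_1 D14338 (iv D13408) (iv F52736)
theorem F56464 : act 5 n14338 = n13401 := d32_1 D14338 (iv D13401) D13400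
def n14339 : Q := act 7 n13401
theorem D14339 : act 7 n13401 = n14339 := rfl
theorem F56465 : act 0 n14339 = n13541 := d6_1 D14339 (iv D13541) (iv F52738)
theorem F56466 : act 2 n14339 = n13405 := d19_1 D14339 (iv D13405) (iv F52739)
theorem F56467 : act 4 n14339 = n13402 := d28_1 D14339 (iv D13402) (iv F52740)
theorem F56468 : act 8 n14339 = n14339 := d35_2 D13401 D14339 (iv D14339) (iv D13401) F48732
def n14340 : Q := act 8 n13403
theorem D14340 : act 8 n13403 = n14340 := rfl
theorem F56469 : act 0 n14340 = n13543 := d7_1 D14340 (iv D13543) (iv F52745)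
theorem F56470 : act 1 n14340 = n13439 := d14_1 D14340 (iv D13439) (iv F52746)
theorem F56471 : act 4 n14340 = n13409 := d29_1 D14340 (iv D13409) (iv F52747)
theorem F56472 : act 5 n14340 = n14051 := d32_1 D14340 F55352 (iv F52748)
theorem F56473 : act 6 n14340 = n13404 := d34_1 D14340 (iv D13404) D13403
theorem F56474 : act 7 n14292 = n14340 := d31_0 F56472 F55351 (iv F56259)
def n14341 : Q := act 7 n13404
theorem D14341 : act 7 n13404 = n14341 := rfl
theorem F56475 : act 0 n14341 = n13544 := d6_1 D14341 (iv D13544) (iv F52750)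
theorem F56476 : act 1 n14341 = n13440 := d13_1 D14341 (iv D13440) (iv F52751)
theorem F56477 : act 4 n14341 = n13410 := d28_1 D14341 (iv D13410) (iv F52752)
theorem F56478 : act 5 n14341 = n13405 := d31_1 D14341 (iv D13405) (iv F52753)
theorem F56479 : act 6 n14341 = n14292 := d33_1 D14341 F56474 F56473
theorem F56480 : act 8 n14341 = n14341 := d35_2 D13404 D14341 (iv D14341) (iv D13404) F48739
def n14342 : Q := act 3 n13405
theorem D14342 : act 3 n13405 = n14342 := rfl
theorem F56481 : act 0 n14342 = n13545 := d2_1 D14342 (iv D13545) (iv F52754)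
theorem F56482 : act 1 n14342 = n13441 := d9_1 D14342 (iv D13441) (iv F52755)
theorem F56483 : act 4 n14342 = n14179 := d21_2 (iv F52756) D14342 (iv D14179) F52012 (iv F48745)
theorem F56484 : act 8 n14342 = n14342 := d25_2 F52757 D14342 (iv D14342)
def n14343 : Q := act 4 n13406
theorem D14343 : act 4 n13406 = n14343 := rfl
theorem F56485 : act 0 n14343 = n13546 := d3_1 D14343 (iv D13546) (iv F52758)
theorem F56486 : act 2 n14343 = n13748 := d16_1 D14343 (iv D13748) (iv F52759)
def n14344 : Q := act 6 n13406
theorem D14344 : act 6 n13406 = n14344 := rfl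
theorem F56487 : act 0 n14344 = n13547 := d5_1 D14344 (iv D13547) (iv F52758)
theorem F56488 : act 2 n14344 = n13749 := d18_1 D14344 (iv D13749) (iv F52759)
theorem F56489 : act 3 n14344 = n13407 := d23_1 D14344 (iv D13407) (iv F52760)
theorem F56490 : act 5 n14344 = n14344 := d30_1 D14344 (iv D14344) (iv D13406) F48750 D13406
def n14345 : Q := act 8 n13407
theorem D14345 : act 8 n13407 = n14345 := rfl
theorem F56491 : act 0 n14345 = n13550 := d7_1 D14345 (iv D13550) (iv F52761)
theorem F56492 : act 2 n14345 = n13409 := d20_1 D14345 (iv D13409) (iv F52762)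
theorem F56493 : act 5 n14345 = n14345 := d32_1 D14345 (iv D14345) F52763
theorem F56494 : act 6 n14345 = n13408 := d34_1 D14345 (iv D13408) D13407
def n14346 : Q := act 7 n13409
theorem D14346 : act 7 n13409 = n14346 := rfl
theorem F56495 : act 0 n14346 = n13552 := d6_1 D14346 (iv D13552) (iv F52768)
theorem F56496 : act 1 n14346 = n13442 := d13_1 D14346 (iv D13442) (iv F52769)
theorem F56497 : act 4 n14346 = n14292 := d28_1 D14346 F56474 F56471
theorem F56498 : act 5 n14346 = n14346 := d31_1 D14346 (iv D14346) F52771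
theorem F56499 : act 6 n14346 = n13410 := d33_1 D14346 (iv D13410) (iv F52772)
theorem F56500 : act 8 n14346 = n14346 := d35_2 D13409 D14346 (iv D14346) (iv D13409) F48766
def n14347 : Q := act 8 n13411
theorem D14347 : act 8 n13411 = n14347 := rfl
theorem F56501 : act 0 n14347 = n13454 := d7_1 D14347 (iv D13454) (iv F52777)
theorem F56502 : act 2 n14347 = n13767 := d20_1 D14347 (iv D13767) F52782
theorem F56503 : act 3 n14347 = n13412 := d25_1 D14347 (iv D13412) D13411
theorem F56504 : act 4 n14347 = n13691 := d29_1 D14347 (iv D13691) (iv F52778)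
theorem F56505 : act 5 n14347 = n13415 := d32_1 D14347 (iv D13415) (iv F52779)
theorem F56506 : act 6 n14347 = n13756 := d34_1 D14347 (iv D13756) (iv F52780)
def n14348 : Q := act 1 n13413
theorem D14348 : act 1 n13413 = n14348 := rfl
theorem F56507 : act 0 n14348 = n13847 := d0_1 D14348 F54613 F50639 (iv F48920) (iv F52789)
theorem F56508 : act 3 n14348 = n14348 := d9_2 F52790 D14348 (iv D14348)
theorem F56509 : act 4 n14348 = n13720 := d10_2 F52794 D14348 F54142
theorem F56510 : act 5 n14348 = n13715 := d11_2 (iv F52791) D14348 F54125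
theorem F56511 : act 6 n14348 = n13416 := d12_2 (iv F52792) D14348 (iv D13416)
theorem F56512 : act 7 n14348 = n13425 := d13_2 (iv F52793) D14348 (iv D13425)
def n14349 : Q := act 8 n13413
theorem D14349 : act 8 n13413 = n14349 := rfl
theorem F56513 : act 0 n14349 = n13455 := d7_1 D14349 (iv D13455) (iv F52789)
theorem F56514 : act 2 n14349 = n13415 := d20_1 D14349 (iv D13415) D13413
theorem F56515 : act 3 n14349 = n14349 := d25_1 D14349 (iv D14349) F52790
theorem F56516 : act 4 n14349 = n13773 := d29_1 D14349 (iv D13773) F52794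
theorem F56517 : act 5 n14349 = n13767 := d32_1 D14349 (iv D13767) (iv F52791)
theorem F56518 : act 6 n14349 = n13418 := d34_1 D14349 (iv D13418) (iv F52792)
def n14350 : Q := act 8 n13414
theorem D14350 : act 8 n13414 = n14350 := rfl
theorem F56519 : act 0 n14350 = n13456 := d7_1 D14350 (iv D13456) (iv F52795)
theorem F56520 : act 2 n14350 = n13773 := d20_1 D14350 (iv D13773) (iv F52796)
theorem F56521 : act 3 n14350 = n14350 := d25_1 D14350 (iv D14350) F52797
theorem F56522 : act 4 n14350 = n13415 := d29_1 D14350 (iv D13415) D13414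
theorem F56523 : act 5 n14350 = n13771 := d32_1 D14350 (iv D13771) (iv F52798)
theorem F56524 : act 6 n14350 = n13420 := d34_1 D14350 (iv D13420) (iv F52799)
def n14351 : Q := act 7 n13415
theorem D14351 : act 7 n13415 = n14351 := rfl
theorem F56525 : act 0 n14351 = n13457 := d6_1 D14351 (iv D13457) (iv F52801)
theorem F56526 : act 3 n14351 = n13958 := d24_1 D14351 (iv D13958) F51002 (iv F48788) (iv F52802)
theorem F56527 : act 6 n14351 = n13421 := d33_1 D14351 (iv D13421) (iv F52803)
theorem F56528 : act 8 n14351 = n13428 := d35_2 D13415 D14351 (iv D13428) (iv D12423) (iv F48783)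
def n14352 : Q := act 0 n13416
theorem D14352 : act 0 n13416 = n14352 := rfl
theorem F56529 : act 1 n14352 = n13458 := d0_2 D13416 D14352 (iv D13458) (iv D12452) (iv F48789)
theorem F56530 : act 3 n14352 = n14352 := d2_2 F52804 D14352 (iv D14352)
theorem F56531 : act 5 n14352 = n13760 := d4_2 (iv F52805) D14352 (iv D13760)
theorem F56532 : act 6 n14352 = n13847 := d5_2 F56511 D14352 (iv F56507)
theorem F56533 : act 7 n14352 = n13429 := d6_2 (iv F52806) D14352 (iv D13429)
theorem F56534 : act 4 n13884 = n14352 := d27_3 F56532 F54615 D13884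
def n14353 : Q := act 4 n13416
theorem D14353 : act 4 n13416 = n14353 := rfl
theorem F56535 : act 0 n14353 = n13884 := d3_1 D14353 F56534 (iv D14352)
theorem F56536 : act 1 n14353 = n13417 := d10_1 D14353 (iv D13417) D13416
theorem F56537 : act 5 n14353 = n13730 := d26_2 (iv F52805) D14353 (iv F56429) F56430 (iv D13761)
theorem F56538 : act 6 n14353 = n13720 := d27_2 F56511 D14353 (iv F56509)
theorem F56539 : act 7 n14353 = n13430 := d28_2 (iv F52806) D14353 (iv D13430)
theorem F56540 : act 3 n13736 = n14353 := d24_5 F56539 F52867 (iv D13150) (iv F51494) (iv F54198)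
def n14354 : Q := act 8 n13416
theorem D14354 : act 8 n13416 = n14354 := rfl
theorem F56541 : act 1 n14354 = n13418 := d14_1 D14354 (iv D13418) D13416
theorem F56542 : act 3 n14354 = n14354 := d25_1 D14354 (iv D14354) F52804
theorem F56543 : act 5 n14354 = n13762 := d32_1 D14354 (iv D13762) (iv F52805)
def n14355 : Q := act 8 n13417
theorem D14355 : act 8 n13417 = n14355 := rfl
theorem F56544 : act 0 n14355 = n13460 := d7_1 D14355 (iv D13460) (iv F52807)
theorem F56545 : act 2 n14355 = n13420 := d20_1 D14355 (iv D13420) (iv F52808)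
theorem F56546 : act 3 n14355 = n13786 := d25_1 D14355 (iv D13786) F52811
theorem F56547 : act 4 n14355 = n13418 := d29_1 D14355 (iv D13418) D13417
theorem F56548 : act 5 n14355 = n13783 := d32_1 D14355 (iv D13783) (iv F52812)
theorem F56549 : act 6 n14355 = n13773 := d34_1 D14355 (iv D13773) (iv F52809)
def n14356 : Q := act 7 n13418
theorem D14356 : act 7 n13418 = n14356 := rfl
theorem F56550 : act 0 n14356 = n13461 := d6_1 D14356 (iv D13461) (iv F52813)
theorem F56551 : act 2 n14356 = n13421 := d19_1 D14356 (iv D13421) (iv F52814)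
theorem F56552 : act 5 n14356 = n13764 := d31_1 D14356 (iv D13764) (iv F52816)
theorem F56553 : act 8 n14356 = n13434 := d35_2 D13418 D14356 (iv D13434) (iv D12426) (iv F48792)
def n14357 : Q := act 8 n13419
theorem D14357 : act 8 n13419 = n14357 := rfl
theorem F56554 : act 0 n14357 = n13462 := d7_1 D14357 (iv D13462) (iv F52817)
theorem F56555 : act 2 n14357 = n13783 := d20_1 D14357 (iv D13783) (iv F52818)
theorem F56556 : act 3 n14357 = n14357 := d25_1 D14357 (iv D14357) F52819
theorem F56557 : act 4 n14357 = n13765 := d29_1 D14357 (iv D13765) (iv F52820)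
theorem F56558 : act 5 n14357 = n13420 := d32_1 D14357 (iv D13420) D13419
theorem F56559 : act 6 n14357 = n13780 := d34_1 D14357 (iv D13780) (iv F52821)
def n14358 : Q := act 7 n13420
theorem D14358 : act 7 n13420 = n14358 := rfl
theorem F56560 : act 0 n14358 = n13463 := d6_1 D14358 (iv D13463) (iv F52823)
theorem F56561 : act 4 n14358 = n13421 := d28_1 D14358 (iv D13421) (iv F52825)
theorem F56562 : act 8 n14358 = n13437 := d35_2 D13420 D14358 (iv D13437) (iv D12428) (iv F48795)
def n14359 : Q := act 1 n13422
theorem D14359 : act 1 n13422 = n14359 := rfl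
theorem F56563 : act 0 n14359 = n13678 := d0_1 D14359 (iv D13678) F49986 (iv F48963) (iv F52830)
theorem F56564 : act 3 n14359 = n13444 := d9_2 (iv F52831) D14359 (iv D13444)
theorem F56565 : act 4 n14359 = n13704 := d10_2 F52835 D14359 F54084
theorem F56566 : act 5 n14359 = n13425 := d11_2 (iv F52832) D14359 (iv D13425)
theorem F56567 : act 6 n14359 = n13681 := d12_2 (iv F52833) D14359 F53992
theorem F56568 : act 7 n14359 = n13715 := d13_2 (iv F52834) D14359 F54125
def n14360 : Q := act 8 n13422
theorem D14360 : act 8 n13422 = n14360 := rfl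
theorem F56569 : act 0 n14360 = n13464 := d7_1 D14360 (iv D13464) (iv F52830)
theorem F56570 : act 2 n14360 = n13424 := d20_1 D14360 (iv D13424) D13422
theorem F56571 : act 3 n14360 = n13445 := d25_1 D14360 (iv D13445) (iv F52831)
theorem F56572 : act 4 n14360 = n13756 := d29_1 D14360 (iv D13756) F52835
theorem F56573 : act 5 n14360 = n13426 := d32_1 D14360 (iv D13426) (iv F52832)
theorem F56574 : act 6 n14360 = n13691 := d34_1 D14360 (iv D13691) (iv F52833)
def n14361 : Q := act 8 n13423
theorem D14361 : act 8 n13423 = n14361 := rfl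
theorem F56575 : act 0 n14361 = n13465 := d7_1 D14361 (iv D13465) (iv F52836)
theorem F56576 : act 2 n14361 = n13756 := d20_1 D14361 (iv D13756) (iv F52837)
theorem F56577 : act 3 n14361 = n14361 := d25_1 D14361 (iv D14361) F52838
theorem F56578 : act 4 n14361 = n13424 := d29_1 D14361 (iv D13424) D13423
theorem F56579 : act 5 n14361 = n13758 := d32_1 D14361 (iv D13758) (iv F52839)
theorem F56580 : act 6 n14361 = n13767 := d34_1 D14361 (iv D13767) (iv F52840)
def n14362 : Q := act 7 n13424
theorem D14362 : act 7 n13424 = n14362 := rfl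
theorem F56581 : act 0 n14362 = n13466 := d6_1 D14362 (iv D13466) (iv F52842)
theorem F56582 : act 3 n14362 = n13616 := d24_1 D14362 (iv D13616) F49572 (iv F48807) (iv F52843)
theorem F56583 : act 5 n14362 = n13428 := d31_1 D14362 (iv D13428) (iv F52844)
theorem F56584 : act 6 n14362 = n13768 := d33_1 D14362 (iv D13768) (iv F52845)
def n14363 : Q := act 0 n13425
theorem D14363 : act 0 n13425 = n14363 := rfl
theorem F56585 : act 1 n14363 = n13467 := d0_2 D13425 D14363 (iv D13467) (iv D12461) (iv F48808)
theorem F56586 : act 3 n14363 = n13448 := d2_2 (iv F52846) D14363 (iv D13448)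
theorem F56587 : act 4 n14363 = n13868 := d3_2 (iv F52847) D14363 F54672
theorem F56588 : act 5 n14363 = n13678 := d4_2 F56566 D14363 (iv F56563)
theorem F56589 : act 6 n14363 = n13429 := d5_2 (iv F52848) D14363 (iv D13429)
theorem F56590 : act 7 n14363 = n13847 := d6_2 F56512 D14363 (iv F56507)
def n14364 : Q := act 8 n13425
theorem D14364 : act 8 n13425 = n14364 := rfl
theorem F56591 : act 1 n14364 = n13426 := d14_1 D14364 (iv D13426) D13425
theorem F56592 : act 3 n14364 = n13449 := d25_1 D14364 (iv D13449) (iv F52846)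
theorem F56593 : act 4 n14364 = n13923 := d29_1 D14364 F54836 (iv F52847)
theorem F56594 : act 6 n14364 = n13431 := d34_1 D14364 (iv D13431) (iv F52848)
def n14365 : Q := act 7 n13426
theorem D14365 : act 7 n13426 = n14365 := rfl
theorem F56595 : act 0 n14365 = n13469 := d6_1 D14365 (iv D13469) (iv F52849)
theorem F56596 : act 2 n14365 = n13428 := d19_1 D14365 (iv D13428) (iv F52850)
theorem F56597 : act 4 n14365 = n13953 := d28_1 D14365 F54950 (iv F52852)
theorem F56598 : act 6 n14365 = n13434 := d33_1 D14365 (iv D13434) (iv F52853)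
def n14366 : Q := act 7 n13427
theorem D14366 : act 7 n13427 = n14366 := rfl
theorem F56599 : act 0 n14366 = n13470 := d6_1 D14366 (iv D13470) (iv F52854)
theorem F56600 : act 2 n14366 = n13953 := d19_1 D14366 F54950 (iv F52855)
theorem F56601 : act 4 n14366 = n13428 := d28_1 D14366 (iv D13428) (iv F52857)
theorem F56602 : act 5 n14366 = n13954 := d31_1 D14366 F54952 (iv F52858)
theorem F56603 : act 6 n14366 = n13437 := d33_1 D14366 (iv D13437) (iv F52859)
def n14367 : Q := act 4 n13429
theorem D14367 : act 4 n13429 = n14367 := rfl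
theorem F56604 : act 0 n14367 = n13430 := d3_1 D14367 (iv D13430) D13429
theorem F56605 : act 1 n14367 = n13471 := d10_1 D14367 (iv D13471) (iv F52863)
theorem F56606 : act 3 n14367 = n14083 := d21_1 D14367 F55507 (iv F52600) F52601 (iv F52864)
theorem F56607 : act 6 n14367 = n13868 := d27_2 F56589 D14367 (iv F56587)
theorem F56608 : act 7 n14367 = n13884 := d28_2 F56533 D14367 F56534
theorem F56609 : act 5 n13877 = n14367 := d36_3 F51497 (iv F51678) (iv F54697) (iv D14367) F52864 F48899 F45197 F39360 D10140 (iv F44448) (iv F48885) F48886 (iv F48541) F48540 (iv F45841) F45842 (iv F46984) (iv D11965) F40920 F33076 (iv F37919) (iv D5538) F15944 (iv F15938) F15939 (iv F21434) (iv F28658) F38651 F28656 (iv D5489) F15778 (iv F15326) F15324 F11445 F8562 F6430 F4868 (iv F38165) D919 (iv F5241) (iv F6953) F6952 (iv F7592) F7593 F6098 D1982 D2705 F10870 D2707 F10877 (iv F10918) (iv F14594) D5059 D6919 D9482 F45154 (iv F40911) (iv D10495) F33013 F31742 (iv D8327) (iv D6078) D6079 (iv F37852) F18041 F14384 (iv F15778) (iv F21237) F21236 F15804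 F15805 F11786 F8902 (iv F11889) D4059 D5538 (iv F26344) (iv F35658) (iv F43324) F45156 (iv F47949) (iv D12200) (iv F47157) (iv F51302) (iv F51896) F51895 (iv F51720) F51721 (iv F51494)
def n14368 : Q := act 8 n13429
theorem D14368 : act 8 n13429 = n14368 := rfl
theorem F56610 : act 0 n14368 = n13431 := d7_1 D14368 (iv D13431) D13429
theorem F56611 : act 1 n14368 = n13472 := d14_1 D14368 (iv D13472) (iv F52863)
theorem F56612 : act 3 n14368 = n13451 := d25_1 D14368 (iv D13451) (iv F52864)
theorem F56613 : act 5 n14368 = n13776 := d32_1 D14368 (iv D13776) (iv F52865)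
def n14369 : Q := act 5 n13430
theorem D14369 : act 5 n13430 = n14369 := rfl
theorem F56614 : act 0 n14369 = n13877 := d4_1 D14369 F56609 F56604
theorem F56615 : act 1 n14369 = n13432 := d11_1 D14369 (iv D13432) (iv F52866)
theorem F56616 : act 3 n14369 = n14066 := d22_1 D14369 F55422 (iv F52867)
theorem F56617 : act 4 n14369 = n13777 := d26_1 D14369 (iv D13777) (iv D12773) (iv F48821) D13430
theorem F56618 : act 6 n14369 = n13711 := d30_2 (iv F52868) D14369 (iv D13711) F50126 (iv F51736)
theorem F56619 : act 7 n14369 = n13730 := d31_2 F56539 D14369 (iv F56537)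
def n14370 : Q := act 8 n13430
theorem D14370 : act 8 n13430 = n14370 := rfl
theorem F56620 : act 1 n14370 = n13433 := d14_1 D14370 (iv D13433) (iv F52866)
theorem F56621 : act 3 n14370 = n13922 := d25_1 D14370 F54833 (iv F52867)
theorem F56622 : act 4 n14370 = n13431 := d29_1 D14370 (iv D13431) D13430
theorem F56623 : act 6 n14370 = n13923 := d34_1 D14370 F54836 (iv F52868)
def n14371 : Q := act 7 n13431
theorem D14371 : act 7 n13431 = n14371 := rfl
theorem F56624 : act 1 n14371 = n13434 := d13_1 D14371 (iv D13434) (iv F52869)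
theorem F56625 : act 5 n14371 = n13779 := d31_1 D14371 (iv D13779) (iv F52871)
def n14372 : Q := act 8 n13432
theorem D14372 : act 8 n13432 = n14372 := rfl
theorem F56626 : act 0 n14372 = n13475 := d7_1 D14372 (iv D13475) (iv F52872)
theorem F56627 : act 2 n14372 = n13436 := d20_1 D14372 (iv D13436) (iv F52873)
theorem F56628 : act 3 n14372 = n13955 := d25_1 D14372 F54958 (iv F52874)
theorem F56629 : act 4 n14372 = n13780 := d29_1 D14372 (iv D13780) (iv F52875)
theorem F56630 : act 5 n14372 = n13433 := d32_1 D14372 (iv D13433) D13432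
theorem F56631 : act 6 n14372 = n13765 := d34_1 D14372 (iv D13765) (iv F52876)
def n14373 : Q := act 7 n13433
theorem D14373 : act 7 n13433 = n14373 := rfl
theorem F56632 : act 0 n14373 = n13476 := d6_1 D14373 (iv D13476) (iv F52878)
theorem F56633 : act 2 n14373 = n13437 := d19_1 D14373 (iv D13437) (iv F52879)
theorem F56634 : act 3 n14373 = n13952 := d24_1 D14373 (iv D13952) F50963 D12962 (iv F52880)
theorem F56635 : act 4 n14373 = n13434 := d28_1 D14373 (iv D13434) (iv F52881)
theorem F56636 : act 6 n14373 = n13953 := d33_1 D14373 F54950 (iv F52882)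
def n14374 : Q := act 3 n13434
theorem D14374 : act 3 n13434 = n14374 := rfl
theorem F56637 : act 0 n14374 = n13477 := d2_1 D14374 (iv D13477) (iv F52883)
theorem F56638 : act 2 n14374 = n14194 := d15_1 D14374 (iv D14194) F52086 (iv F48837) (iv F52884)
theorem F56639 : act 5 n14374 = n13782 := d22_2 (iv F52885) D14374 (iv D13782)
theorem F56640 : act 7 n14374 = n13453 := d24_2 D13434 D14374 (iv D13453) (iv D12446) (iv F48828)
def n14375 : Q := act 8 n13435
theorem D14375 : act 8 n13435 = n14375 := rfl
theorem F56641 : act 0 n14375 = n13478 := d7_1 D14375 (iv D13478) (iv F52886)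
theorem F56642 : act 2 n14375 = n13765 := d20_1 D14375 (iv D13765) (iv F52887)
theorem F56643 : act 3 n14375 = n13439 := d25_1 D14375 (iv D13439) (iv F52888)
theorem F56644 : act 4 n14375 = n13783 := d29_1 D14375 (iv D13783) (iv F52889)
theorem F56645 : act 5 n14375 = n13763 := d32_1 D14375 (iv D13763) (iv F52890)
theorem F56646 : act 6 n14375 = n13436 := d34_1 D14375 (iv D13436) D13435
def n14376 : Q := act 7 n13436
theorem D14376 : act 7 n13436 = n14376 := rfl
theorem F56647 : act 0 n14376 = n13479 := d6_1 D14376 (iv D13479) (iv F52892)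
theorem F56648 : act 4 n14376 = n13784 := d28_1 D14376 (iv D13784) (iv F52894)
theorem F56649 : act 5 n14376 = n13437 := d31_1 D14376 (iv D13437) (iv F52895)
def n14377 : Q := act 3 n13437
theorem D14377 : act 3 n13437 = n14377 := rfl
theorem F56650 : act 0 n14377 = n13480 := d2_1 D14377 (iv D13480) (iv F52896)
theorem F56651 : act 4 n14377 = n14196 := d21_2 (iv F52897) D14377 (iv D14196) F52091 (iv F48837)
theorem F56652 : act 7 n14377 = n13441 := d24_2 D13437 D14377 (iv D13441) (iv D12434) (iv F48834)
def n14378 : Q := act 3 n13438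
theorem D14378 : act 3 n13438 = n14378 := rfl
theorem F56653 : act 0 n14378 = n13481 := d2_1 D14378 (iv D13481) (iv F52898)
theorem F56654 : act 2 n14378 = n14048 := d15_1 D14378 (iv D14048) F51359 D13063 (iv F52899)
theorem F56655 : act 4 n14378 = n14054 := d21_2 (iv F52900) D14378 (iv D14054) F51407 (iv F48845)
theorem F56656 : act 5 n14378 = n14049 := d22_2 (iv F52901) D14378 F55342
theorem F56657 : act 6 n14378 = n13441 := d23_2 (iv F52902) D14378 (iv D13441)
theorem F56658 : act 8 n14378 = n14378 := d25_2 F52903 D14378 (iv D14378)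
def n14379 : Q := act 3 n13440
theorem D14379 : act 3 n13440 = n14379 := rfl
theorem F56659 : act 0 n14379 = n13482 := d2_1 D14379 (iv D13482) (iv F52910)
theorem F56660 : act 2 n14379 = n14257 := d15_1 D14379 (iv D14257) F52286 D13346 (iv F52911)
theorem F56661 : act 5 n14379 = n13441 := d22_2 (iv F52913) D14379 (iv D13441)
theorem F56662 : act 6 n14379 = n14258 := d23_2 (iv F52914) D14379 F56135
theorem F56663 : act 8 n14379 = n14379 := d25_2 F52915 D14379 (iv D14379)
def n14380 : Q := act 2 n13441
theorem D14380 : act 2 n13441 = n14380 := rfl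
theorem F56664 : act 0 n14380 = n13483 := d1_1 D14380 (iv D13483) (iv F52916)
theorem F56665 : act 3 n14380 = n14047 := d15_2 D13441 D14380 F55333 (iv F52573) F52572
theorem F56666 : act 4 n14380 = n14199 := d16_2 (iv F52917) D14380 (iv D14199)
theorem F56667 : act 5 n14380 = n14257 := d17_2 F56661 D14380 (iv F56660)
theorem F56668 : act 6 n14380 = n14048 := d18_2 F56657 D14380 (iv F56654)
theorem F56669 : act 8 n14380 = n14380 := d20_2 F52918 D14380 (iv D14380)
def n14381 : Q := act 4 n13443
theorem D14381 : act 4 n13443 = n14381 := rfl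
theorem F56670 : act 0 n14381 = n13484 := d3_1 D14381 (iv D13484) (iv F52925)
theorem F56671 : act 2 n14381 = n13490 := d16_1 D14381 (iv F56146) F56144
theorem F56672 : act 5 n14381 = n13686 := d26_2 (iv F52926) D14381 F54011 F52109 (iv F48868)
theorem F56673 : act 6 n14381 = n13487 := d27_2 F56308 D14381 (iv F56306)
theorem F56674 : act 7 n14381 = n13485 := d28_2 (iv F52927) D14381 F53136
theorem F56675 : act 8 n14381 = n14381 := d29_2 F52928 D14381 (iv D14381)
def n14382 : Q := act 8 n13444
theorem D14382 : act 8 n13444 = n14382 := rfl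
theorem F56676 : act 0 n14382 = n13685 := d7_1 D14382 (iv D13685) (iv F52929)
theorem F56677 : act 1 n14382 = n13445 := d14_1 D14382 (iv D13445) D13444
theorem F56678 : act 4 n14382 = n13844 := d29_1 D14382 F54605 (iv F52930)
theorem F56679 : act 5 n14382 = n13449 := d32_1 D14382 (iv D13449) (iv F52931)
theorem F56680 : act 6 n14382 = n13687 := d34_1 D14382 (iv D13687) (iv F52932)
theorem F56681 : act 7 n14251 = n14382 := d28_0 F56678 F54604 D14251
def n14383 : Q := act 8 n13448
theorem D14383 : act 8 n13448 = n14383 := rfl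
theorem F56682 : act 0 n14383 = n13449 := d7_1 D14383 (iv D13449) D13448
theorem F56683 : act 1 n14383 = n13485 := d14_1 D14383 (iv D13485) (iv F52955)
theorem F56684 : act 2 n14383 = n14382 := d20_1 D14383 (iv D14382) (iv F52956)
theorem F56685 : act 4 n14383 = n13755 := d29_1 D14383 F54281 (iv F52957)
theorem F56686 : act 5 n14383 = n13685 := d32_1 D14383 (iv D13685) (iv F52958)
theorem F56687 : act 6 n14383 = n13451 := d34_1 D14383 (iv D13451) (iv F52959)
def n14384 : Q := act 7 n13449
theorem D14384 : act 7 n13449 = n14384 := rfl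
theorem F56688 : act 1 n14384 = n13450 := d13_1 D14384 (iv D13450) (iv F52961)
theorem F56689 : act 4 n14384 = n13553 := d28_1 D14384 F53376 (iv F52962)
theorem F56690 : act 5 n14384 = n14251 := d31_1 D14384 F56681 F56679
theorem F56691 : act 6 n14384 = n13452 := d33_1 D14384 (iv D13452) (iv F52963)
theorem F56692 : act 8 n14384 = n14384 := d35_2 D13449 D14384 (iv D14384) (iv D13449) F48890
def n14385 : Q := act 3 n13450
theorem D14385 : act 3 n13450 = n14385 := rfl
theorem F56693 : act 0 n14385 = n13486 := d2_1 D14385 (iv D13486) (iv F52964)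
theorem F56694 : act 2 n14385 = n13815 := d15_1 D14385 (iv D13815) F50505 (iv F48896) (iv F52965)
theorem F56695 : act 4 n14385 = n13594 := d21_2 (iv F52966) D14385 (iv D13594) F49427 D12574
theorem F56696 : act 5 n14385 = n14259 := d22_2 (iv F52967) D14385 F56139
theorem F56697 : act 6 n14385 = n13453 := d23_2 (iv F52968) D14385 (iv D13453)
theorem F56698 : act 8 n14385 = n14385 := d25_2 F52969 D14385 (iv D14385)
def n14386 : Q := act 7 n13451
theorem D14386 : act 7 n13451 = n14386 := rfl
theorem F56699 : act 0 n14386 = n13452 := d6_1 D14386 (iv D13452) (iv F52970)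
theorem F56700 : act 1 n14386 = n13487 := d13_1 D14386 (iv D13487) (iv F52971)
theorem F56701 : act 5 n14386 = n13791 := d31_1 D14386 (iv D13791) (iv F52972)
theorem F56702 : act 8 n14386 = n14386 := d35_2 D13451 D14386 (iv D14386) (iv D13451) F48901
def n14387 : Q := act 3 n13452
theorem D14387 : act 3 n13452 = n14387 := rfl
theorem F56703 : act 1 n14387 = n13453 := d9_1 D14387 (iv D13453) (iv F52973)
theorem F56704 : act 5 n14387 = n13792 := d22_2 (iv F52974) D14387 (iv D13792)
theorem F56705 : act 8 n14387 = n14387 := d25_2 F52975 D14387 (iv D14387)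
def n14388 : Q := act 4 n13453
theorem D14388 : act 4 n13453 = n14388 := rfl
theorem F56706 : act 0 n14388 = n13489 := d3_1 D14388 (iv D13489) (iv F52976)
theorem F56707 : act 2 n14388 = n14201 := d16_1 D14388 (iv D14201) (iv F52977)
theorem F56708 : act 3 n14388 = n13593 := d21_1 D14388 F53566 (iv F52612) F52613 D13453
theorem F56709 : act 6 n14388 = n13594 := d27_2 F56697 D14388 (iv F56695)
theorem F56710 : act 8 n14388 = n14388 := d29_2 F52979 D14388 (iv D14388)
theorem F56711 : act 5 n14267 = n14388 := d22_0 F56708 F53567 (iv F56160)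
def n14389 : Q := act 7 n13454
theorem D14389 : act 7 n13454 = n14389 := rfl
theorem F56712 : act 1 n14389 = n13597 := d13_1 D14389 (iv D13597) (iv F52980)
theorem F56713 : act 2 n14389 = n13801 := d19_1 D14389 (iv D13801) (iv F52981)
theorem F56714 : act 3 n14389 = n13601 := d24_1 D14389 (iv D13601) F49496 (iv F48919) (iv F52982)
theorem F56715 : act 4 n14389 = n13692 := d28_1 D14389 (iv D13692) (iv F52983)
theorem F56716 : act 5 n14389 = n13457 := d31_1 D14389 (iv D13457) (iv F52984)
theorem F56717 : act 6 n14389 = n13794 := d33_1 D14389 (iv D13794) (iv F52985)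
theorem F56718 : act 8 n14389 = n13466 := d35_2 D13454 D14389 (iv D13466) (iv D12460) (iv F48912)
def n14390 : Q := act 7 n13455
theorem D14390 : act 7 n13455 = n14390 := rfl
theorem F56719 : act 1 n14390 = n13853 := d13_1 D14390 (iv D13853) (iv F52986)
theorem F56720 : act 2 n14390 = n13457 := d19_1 D14390 (iv D13457) (iv F52987)
theorem F56721 : act 4 n14390 = n13804 := d28_1 D14390 (iv D13804) (iv F52989)
theorem F56722 : act 5 n14390 = n13801 := d31_1 D14390 (iv D13801) (iv F52990)
theorem F56723 : act 6 n14390 = n13461 := d33_1 D14390 (iv D13461) (iv F52991)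
theorem F56724 : act 8 n14390 = n13469 := d35_2 D13455 D14390 (iv D13469) (iv D12462) (iv F48924)
def n14391 : Q := act 7 n13456
theorem D14391 : act 7 n13456 = n14391 := rfl
theorem F56725 : act 1 n14391 = n13599 := d13_1 D14391 (iv D13599) (iv F52992)
theorem F56726 : act 2 n14391 = n13804 := d19_1 D14391 (iv D13804) (iv F52993)
theorem F56727 : act 4 n14391 = n13457 := d28_1 D14391 (iv D13457) (iv F52995)
theorem F56728 : act 5 n14391 = n13802 := d31_1 D14391 (iv D13802) (iv F52996)
theorem F56729 : act 6 n14391 = n13463 := d33_1 D14391 (iv D13463) (iv F52997)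
theorem F56730 : act 8 n14391 = n13470 := d35_2 D13456 D14391 (iv D13470) (iv D12463) (iv F48931)
def n14392 : Q := act 8 n13458
theorem D14392 : act 8 n13458 = n14392 := rfl
theorem F56731 : act 0 n14392 = n13459 := d7_1 D14392 (iv D13459) D13458
theorem F56732 : act 2 n14392 = n13600 := d20_1 D14392 (iv D13600) (iv F53002)
theorem F56733 : act 3 n14392 = n14392 := d25_1 D14392 (iv D14392) F53003
theorem F56734 : act 4 n14392 = n13941 := d29_1 D14392 (iv D13941) (iv F53004)
theorem F56735 : act 5 n14392 = n13796 := d32_1 D14392 (iv D13796) (iv F53005)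
theorem F56736 : act 6 n14392 = n13850 := d34_1 D14392 (iv D13850) (iv F53006)
def n14393 : Q := act 7 n13459
theorem D14393 : act 7 n13459 = n14393 := rfl
theorem F56737 : act 1 n14393 = n13461 := d13_1 D14393 (iv D13461) (iv F53008)
theorem F56738 : act 2 n14393 = n13601 := d19_1 D14393 (iv D13601) (iv F53009)
theorem F56739 : act 4 n14393 = n13963 := d28_1 D14393 (iv D13963) (iv F53011)
theorem F56740 : act 5 n14393 = n13797 := d31_1 D14393 (iv D13797) (iv F53012)
theorem F56741 : act 6 n14393 = n13853 := d33_1 D14393 (iv D13853) (iv F53013)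
theorem F56742 : act 8 n14393 = n13474 := d35_2 D13459 D14393 (iv D13474) (iv D12467) (iv F48939)
def n14394 : Q := act 7 n13460
theorem D14394 : act 7 n13460 = n14394 := rfl
theorem F56743 : act 1 n14394 = n13963 := d13_1 D14394 (iv D13963) (iv F53014)
theorem F56744 : act 2 n14394 = n13463 := d19_1 D14394 (iv D13463) (iv F53015)
theorem F56745 : act 3 n14394 = n13962 := d24_1 D14394 (iv D13962) F51018 (iv F50490) (iv F53016)
theorem F56746 : act 4 n14394 = n13461 := d28_1 D14394 (iv D13461) (iv F53017)
theorem F56747 : act 5 n14394 = n13812 := d31_1 D14394 (iv D13812) (iv F53018)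
theorem F56748 : act 6 n14394 = n13804 := d33_1 D14394 (iv D13804) (iv F53019)
theorem F56749 : act 8 n14394 = n13476 := d35_2 D13460 D14394 (iv D13476) (iv D12469) (iv F48944)
def n14395 : Q := act 3 n13461
theorem D14395 : act 3 n13461 = n14395 := rfl
theorem F56750 : act 2 n14395 = n14202 := d15_1 D14395 (iv D14202) F52123 (iv F48960) (iv F53020)
theorem F56751 : act 5 n14395 = n13799 := d22_2 (iv F53021) D14395 (iv D13799)
theorem F56752 : act 7 n14395 = n14395 := d24_2 D13461 D14395 (iv D14395) (iv D13461) F48948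
theorem F56753 : act 8 n14395 = n13477 := d25_2 (iv F53022) D14395 (iv D13477)
def n14396 : Q := act 7 n13462
theorem D14396 : act 7 n13462 = n14396 := rfl
theorem F56754 : act 1 n14396 = n13605 := d13_1 D14396 (iv D13605) (iv F53023)
theorem F56755 : act 2 n14396 = n13812 := d19_1 D14396 (iv D13812) (iv F53024)
theorem F56756 : act 4 n14396 = n13800 := d28_1 D14396 (iv D13800) (iv F53026)
theorem F56757 : act 5 n14396 = n13463 := d31_1 D14396 (iv D13463) (iv F53027)
theorem F56758 : act 6 n14396 = n13809 := d33_1 D14396 (iv D13809) (iv F53028)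
theorem F56759 : act 8 n14396 = n13479 := d35_2 D13462 D14396 (iv D13479) (iv D12472) (iv F48955)
def n14397 : Q := act 3 n13463
theorem D14397 : act 3 n13463 = n14397 := rfl
theorem F56760 : act 1 n14397 = n13606 := d9_1 D14397 (iv D13606) (iv F53029)
theorem F56761 : act 4 n14397 = n14203 := d21_2 (iv F53030) D14397 (iv D14203) F52126 (iv F48960)
theorem F56762 : act 7 n14397 = n14397 := d24_2 D13463 D14397 (iv D14397) (iv D13463) F48957
theorem F56763 : act 8 n14397 = n13480 := d25_2 (iv F53031) D14397 (iv D13480)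
def n14398 : Q := act 7 n13464
theorem D14398 : act 7 n13464 = n14398 := rfl
theorem F56764 : act 1 n14398 = n13690 := d13_1 D14398 (iv D13690) (iv F53032)
theorem F56765 : act 2 n14398 = n13466 := d19_1 D14398 (iv D13466) (iv F53033)
theorem F56766 : act 3 n14398 = n14265 := d24_1 D14398 F56158 F52326 F49075 (iv F53034)
theorem F56767 : act 4 n14398 = n13794 := d28_1 D14398 (iv D13794) (iv F53035)
theorem F56768 : act 5 n14398 = n13469 := d31_1 D14398 (iv D13469) (iv F53036)
theorem F56769 : act 6 n14398 = n13692 := d33_1 D14398 (iv D13692) (iv F53037)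
theorem F56770 : act 8 n14398 = n13801 := d35_2 D13464 D14398 (iv D13801) (iv D12803) (iv F48967)
def n14399 : Q := act 7 n13465
theorem D14399 : act 7 n13465 = n14399 := rfl
theorem F56771 : act 1 n14399 = n13607 := d13_1 D14399 (iv D13607) (iv F53038)
theorem F56772 : act 2 n14399 = n13794 := d19_1 D14399 (iv D13794) (iv F53039)
theorem F56773 : act 4 n14399 = n13466 := d28_1 D14399 (iv D13466) (iv F53041)
theorem F56774 : act 5 n14399 = n13795 := d31_1 D14399 (iv D13795) (iv F53042)
theorem F56775 : act 6 n14399 = n13801 := d33_1 D14399 (iv D13801) (iv F53043)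
theorem F56776 : act 8 n14399 = n13692 := d35_2 D13465 D14399 (iv D13692) (iv D12704) (iv F48974)
def n14400 : Q := act 8 n13467
theorem D14400 : act 8 n13467 = n14400 := rfl
theorem F56777 : act 0 n14400 = n13468 := d7_1 D14400 (iv D13468) D13467
theorem F56778 : act 2 n14400 = n13608 := d20_1 D14400 (iv D13608) (iv F53048)
theorem F56779 : act 3 n14400 = n13485 := d25_1 D14400 (iv D13485) (iv F53049)
theorem F56780 : act 4 n14400 = n13788 := d29_1 D14400 F54404 (iv F53050)
theorem F56781 : act 5 n14400 = n13679 := d32_1 D14400 (iv D13679) (iv F53051)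
theorem F56782 : act 6 n14400 = n13472 := d34_1 D14400 (iv D13472) (iv F53052)
def n14401 : Q := act 7 n13468
theorem D14401 : act 7 n13468 = n14401 := rfl
theorem F56783 : act 1 n14401 = n13469 := d13_1 D14401 (iv D13469) (iv F53054)
theorem F56784 : act 2 n14401 = n13609 := d19_1 D14401 (iv D13609) (iv F53055)
theorem F56785 : act 4 n14401 = n13813 := d28_1 D14401 F54492 (iv F53057)
theorem F56786 : act 5 n14401 = n13690 := d31_1 D14401 (iv D13690) (iv F53058)
theorem F56787 : act 6 n14401 = n13474 := d33_1 D14401 (iv D13474) (iv F53059)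
theorem F56788 : act 8 n14401 = n13853 := d35_2 D13468 D14401 (iv D13853) (iv D12869) (iv F48984)
def n14402 : Q := act 3 n13469
theorem D14402 : act 3 n13469 = n14402 := rfl
theorem F56789 : act 2 n14402 = n13808 := d15_1 D14402 (iv D13808) F50466 (iv F48996) (iv F53060)
theorem F56790 : act 4 n14402 = n13623 := d21_2 (iv F53061) D14402 (iv D13623) F49601 D12985
theorem F56791 : act 5 n14402 = n14265 := d22_2 F56768 D14402 (iv F56766)
theorem F56792 : act 6 n14402 = n13477 := d23_2 (iv F53062) D14402 (iv D13477)
theorem F56793 : act 7 n14402 = n13486 := d24_2 D13469 D14402 (iv D13486) (iv D12486) (iv F48986)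
def n14403 : Q := act 3 n13470
theorem D14403 : act 3 n13470 = n14403 := rfl
theorem F56794 : act 1 n14403 = n13613 := d9_1 D14403 (iv D13613) (iv F53063)
theorem F56795 : act 2 n14403 = n13969 := d15_1 D14403 (iv D13969) F51046 D12985 (iv F53064)
theorem F56796 : act 4 n14403 = n13967 := d21_2 (iv F53065) D14403 (iv D13967) F51040 (iv F48996)
theorem F56797 : act 5 n14403 = n13970 := d22_2 (iv F53066) D14403 F54999
theorem F56798 : act 6 n14403 = n13480 := d23_2 (iv F53067) D14403 (iv D13480)
theorem F56799 : act 7 n14403 = n13481 := d24_2 D13470 D14403 (iv D13481) (iv D12474) (iv F48991)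
def n14404 : Q := act 8 n13471
theorem D14404 : act 8 n13471 = n14404 := rfl
theorem F56800 : act 0 n14404 = n13473 := d7_1 D14404 (iv D13473) (iv F53068)
theorem F56801 : act 2 n14404 = n13615 := d20_1 D14404 (iv D13615) (iv F53069)
theorem F56802 : act 3 n14404 = n13787 := d25_1 D14404 F54401 (iv F53070)
theorem F56803 : act 4 n14404 = n13472 := d29_1 D14404 (iv D13472) D13471
theorem F56804 : act 5 n14404 = n13939 := d32_1 D14404 (iv D13939) F53073
theorem F56805 : act 6 n14404 = n13788 := d34_1 D14404 F54404 (iv F53071)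
def n14405 : Q := act 7 n13472
theorem D14405 : act 7 n13472 = n14405 := rfl
theorem F56806 : act 0 n14405 = n13474 := d6_1 D14405 (iv D13474) (iv F53074)
theorem F56807 : act 2 n14405 = n13616 := d19_1 D14405 (iv D13616) (iv F53075)
theorem F56808 : act 5 n14405 = n13806 := d31_1 D14405 (iv D13806) (iv F53077)
def n14406 : Q := act 7 n13473
theorem D14406 : act 7 n13473 = n14406 := rfl
theorem F56809 : act 1 n14406 = n13476 := d13_1 D14406 (iv D13476) (iv F53078)
theorem F56810 : act 2 n14406 = n13618 := d19_1 D14406 (iv D13618) (iv F53079)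
theorem F56811 : act 3 n14406 = n13812 := d24_1 D14406 (iv D13812) F50475 D12820 (iv F53080)
theorem F56812 : act 4 n14406 = n13474 := d28_1 D14406 (iv D13474) (iv F53081)
theorem F56813 : act 5 n14406 = n13962 := d31_1 D14406 (iv D13962) (iv F53082)
theorem F56814 : act 6 n14406 = n13813 := d33_1 D14406 F54492 (iv F53083)
theorem F56815 : act 8 n14406 = n13963 := d35_2 D13473 D14406 (iv D13963) (iv D12974) (iv F49005)
def n14407 : Q := act 3 n13474
theorem D14407 : act 3 n13474 = n14407 := rfl
theorem F56816 : act 1 n14407 = n13477 := d9_1 D14407 (iv D13477) (iv F53084)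
theorem F56817 : act 2 n14407 = n14265 := d15_1 D14407 (iv F56766) F56765 F53045 (iv F53085)
theorem F56818 : act 5 n14407 = n13808 := d22_2 (iv F53086) D14407 (iv D13808)
theorem F56819 : act 7 n14407 = n13488 := d24_2 D13474 D14407 (iv D13488) (iv D12488) (iv F49009)
theorem F56820 : act 4 n14264 = n14407 := d36_4 D12799 D13798 F54443 (iv F56156) (iv D14407) F53084 F49021 F44522 (iv F48130) (iv D12246) F43782 (iv F40111) F44939 F32634 (iv F32223) F32224 (iv F32087) (iv D8417) (iv D6142) F17592 F13081 F13080 (iv F17592) F17591 F13090 F13091 F9791 F9790 (iv F9825) F9826 (iv F13148) F13147 (iv F17674) (iv F23798) (iv F44872) F44873 D8494 D10317 (iv F46321) F48968 F48964 F44556 (iv D10265) (iv D8455) D8456 F32254 (iv F32450) (iv F40178) (iv F45907) F45906 F45905 F39989 F32111 (iv D6147) (iv D4495) F13086 F13087 (iv D3288) F9779 (iv F9772) F9773 (iv F10391) F10392 F44975 F44921 F10452 F7815 (iv F10394) F10393 F7789 F7790 D1907 F7838 F5913 (iv F7890) F44803 F5998 (iv F6134) (iv F8145) D2710 D3695 D5052 F19620 F19621 (iv F26455) D9469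 F35808 D11201 F46344
def n14408 : Q := act 7 n13475
theorem D14408 : act 7 n13475 = n14408 := rfl
theorem F56821 : act 1 n14408 = n13962 := d13_1 D14408 (iv D13962) (iv F53087)
theorem F56822 : act 2 n14408 = n13479 := d19_1 D14408 (iv D13479) (iv F53088)
theorem F56823 : act 3 n14408 = n13963 := d24_1 D14408 (iv D13963) F51023 D12987 (iv F53089)
theorem F56824 : act 4 n14408 = n13809 := d28_1 D14408 (iv D13809) (iv F53090)
theorem F56825 : act 5 n14408 = n13476 := d31_1 D14408 (iv D13476) (iv F53091)
theorem F56826 : act 6 n14408 = n13800 := d33_1 D14408 (iv D13800) (iv F53092)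
theorem F56827 : act 8 n14408 = n13812 := d35_2 D13475 D14408 (iv D13812) (iv D12816) (iv F49016)
def n14409 : Q := act 4 n13477
theorem D14409 : act 4 n13477 = n14409 := rfl
theorem F56828 : act 1 n14409 = n14264 := d10_1 D14409 F56820 F56816
theorem F56829 : act 2 n14409 = n14205 := d16_1 D14409 (iv D14205) (iv F53097)
theorem F56830 : act 3 n14409 = n13622 := d21_1 D14409 F53703 (iv F53094) F53095 D13477
theorem F56831 : act 6 n14409 = n13623 := d27_2 F56792 D14409 (iv F56790)
theorem F56832 : act 7 n14409 = n13489 := d28_2 (iv F53099) D14409 (iv D13489)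
theorem F56833 : act 5 n14266 = n14409 := d31_3 F56832 (iv F53158) (iv F56159)
def n14410 : Q := act 7 n13478
theorem D14410 : act 7 n13478 = n14410 := rfl
theorem F56834 : act 1 n14410 = n13622 := d13_1 D14410 (iv D13622) (iv F53100)
theorem F56835 : act 2 n14410 = n13800 := d19_1 D14410 (iv D13800) (iv F53101)
theorem F56836 : act 3 n14410 = n14264 := d24_1 D14410 F56157 F52323 F49046 (iv F53102)
theorem F56837 : act 4 n14410 = n13812 := d28_1 D14410 (iv D13812) (iv F53103)
theorem F56838 : act 5 n14410 = n13798 := d31_1 D14410 (iv D13798) (iv F53104)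
theorem F56839 : act 6 n14410 = n13479 := d33_1 D14410 (iv D13479) (iv F53105)
theorem F56840 : act 8 n14410 = n13809 := d35_2 D13478 D14410 (iv D13809) (iv D12813) (iv F49028)
def n14411 : Q := act 3 n13479
theorem D14411 : act 3 n13479 = n14411 := rfl
theorem F56841 : act 1 n14411 = n13623 := d9_1 D14411 (iv D13623) (iv F53106)
theorem F56842 : act 2 n14411 = n14263 := d15_1 D14411 (iv D14263) (iv F54980) (iv F56823) F56822
theorem F56843 : act 5 n14411 = n13480 := d22_2 (iv F53108) D14411 (iv D13480)
theorem F56844 : act 6 n14411 = n14264 := d23_2 F56839 D14411 (iv F56836)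
theorem F56845 : act 7 n14411 = n13482 := d24_2 D13479 D14411 (iv D13482) (iv D12476) (iv F49030)
def n14412 : Q := act 2 n13480
theorem D14412 : act 2 n13480 = n14412 := rfl
theorem F56846 : act 3 n14412 = n13968 := d15_2 D13480 D14412 F54994 (iv F53094) F53093
theorem F56847 : act 4 n14412 = n14207 := d16_2 (iv F53110) D14412 (iv D14207)
theorem F56848 : act 5 n14412 = n14263 := d17_2 F56843 D14412 (iv F56842)
theorem F56849 : act 6 n14412 = n13969 := d18_2 F56798 D14412 (iv F56795)
theorem F56850 : act 7 n14412 = n13483 := d19_2 (iv F53111) D14412 (iv D13483)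
def n14413 : Q := act 4 n13482
theorem D14413 : act 4 n13482 = n14413 := rfl
theorem F56851 : act 1 n14413 = n13486 := d10_1 D14413 F53140 (iv F53118)
theorem F56852 : act 2 n14413 = n13696 := d16_1 D14413 F54052 (iv F53119)
theorem F56853 : act 3 n14413 = n13484 := d21_1 D14413 (iv D13484) (iv D12479) (iv F49049) D13482
theorem F56854 : act 5 n14413 = n13694 := d26_2 (iv F53120) D14413 F54042 F52141 (iv F49054)
theorem F56855 : act 6 n14413 = n13488 := d27_2 (iv F53121) D14413 F53150
theorem F56856 : act 8 n14413 = n14413 := d29_2 F53122 D14413 (iv D14413)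
def n14414 : Q := act 1 n13483
theorem D14414 : act 1 n13483 = n14414 := rfl
theorem F56857 : act 2 n14414 = n13628 := d8_2 D13483 D14414 (iv D13628) (iv D12617) (iv F49053)
theorem F56858 : act 3 n14414 = n14055 := d9_2 (iv F53123) D14414 F55366
theorem F56859 : act 4 n14414 = n14208 := d10_2 (iv F53124) D14414 (iv D14208)
theorem F56860 : act 5 n14414 = n13697 := d11_2 (iv F53125) D14414 F54056
theorem F56861 : act 6 n14414 = n14056 := d12_2 (iv F53126) D14414 F55372
theorem F56862 : act 8 n14414 = n14414 := d14_2 F53127 D14414 (iv D14414)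
def n14415 : Q := act 3 n13487
theorem D14415 : act 3 n13487 = n14415 := rfl
theorem F56863 : act 0 n14415 = n13488 := d2_1 D14415 (iv D13488) (iv F53144)
theorem F56864 : act 2 n14415 = n14259 := d15_1 D14415 F56139 (iv F52949) F52950 (iv F53145)
theorem F56865 : act 4 n14415 = n14258 := d21_2 F56306 D14415 F56135 (iv F52921) (iv F56305)
theorem F56866 : act 5 n14415 = n13815 := d22_2 (iv F53146) D14415 (iv D13815)
theorem F56867 : act 8 n14415 = n14415 := d25_2 F53147 D14415 (iv D14415)
def n14416 : Q := act 3 n13492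
theorem D14416 : act 3 n13492 = n14416 := rfl
theorem F56868 : act 1 n14416 = n13629 := d9_1 D14416 (iv D13629) (iv F53171)
theorem F56869 : act 5 n14416 = n13493 := d22_2 (iv F53173) D14416 (iv D13493)
theorem F56870 : act 6 n14416 = n13855 := d23_2 (iv F53174) D14416 (iv D13855)
def n14417 : Q := act 8 n13492
theorem D14417 : act 8 n13492 = n14417 := rfl
theorem F56871 : act 1 n14417 = n13630 := d14_1 D14417 (iv D13630) (iv F53171)
theorem F56872 : act 2 n14417 = n13500 := d20_1 D14417 (iv D13500) (iv F53172)
theorem F56873 : act 5 n14417 = n13494 := d32_1 D14417 (iv D13494) (iv F53173)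
theorem F56874 : act 6 n14417 = n13856 := d34_1 D14417 (iv D13856) (iv F53174)
theorem F56875 : act 7 n14417 = n13647 := d35_1 D14417 (iv D13647) F49691 (iv F49142) D13492
def n14418 : Q := act 2 n13493
theorem D14418 : act 2 n13493 = n14418 := rfl
theorem F56876 : act 3 n14418 = n13501 := d15_2 D13493 D14418 (iv D13501) (iv D12500) (iv F49144)
theorem F56877 : act 6 n14418 = n13495 := d18_2 (iv F53176) D14418 (iv D13495)
def n14419 : Q := act 8 n13493
theorem D14419 : act 8 n13493 = n14419 := rfl
theorem F56878 : act 1 n14419 = n13633 := d14_1 D14419 (iv D13633) (iv F53175)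
theorem F56879 : act 3 n14419 = n13494 := d25_1 D14419 (iv D13494) D13493
theorem F56880 : act 6 n14419 = n13497 := d34_1 D14419 (iv D13497) (iv F53176)
def n14420 : Q := act 1 n13495
theorem D14420 : act 1 n13495 = n14420 := rfl
theorem F56881 : act 2 n14420 = n13634 := d8_2 D13495 D14420 (iv D13634) (iv D12623) (iv F49147)
theorem F56882 : act 3 n14420 = n13504 := d9_2 (iv F53182) D14420 (iv D13504)
theorem F56883 : act 5 n14420 = n13860 := d11_2 (iv F53183) D14420 (iv D13860)
def n14421 : Q := act 4 n13495
theorem D14421 : act 4 n13495 = n14421 := rfl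
theorem F56884 : act 2 n14421 = n13496 := d16_1 D14421 (iv D13496) D13495
def n14422 : Q := act 8 n13495
theorem D14422 : act 8 n13495 = n14422 := rfl
theorem F56885 : act 2 n14422 = n13497 := d20_1 D14422 (iv D13497) D13495
theorem F56886 : act 3 n14422 = n13506 := d25_1 D14422 (iv D13506) (iv F53182)
theorem F56887 : act 5 n14422 = n13862 := d32_1 D14422 (iv D13862) (iv F53183)
def n14423 : Q := act 5 n13496
theorem D14423 : act 5 n13496 = n14423 := rfl
theorem F56888 : act 1 n14423 = n13637 := d11_1 D14423 (iv D13637) (iv F53184)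
theorem F56889 : act 3 n14423 = n14423 := d22_1 D14423 (iv D14423) F53185
theorem F56890 : act 4 n14423 = n13863 := d26_1 D14423 (iv D13863) (iv D12877) (iv F49148) D13496
theorem F56891 : act 7 n14423 = n14153 := d31_2 F54511 D14423 F55807
def n14424 : Q := act 8 n13496
theorem D14424 : act 8 n13496 = n14424 := rfl
theorem F56892 : act 1 n14424 = n13638 := d14_1 D14424 (iv D13638) (iv F53184)
theorem F56893 : act 3 n14424 = n14424 := d25_1 D14424 (iv D14424) F53185
theorem F56894 : act 4 n14424 = n13497 := d29_1 D14424 (iv D13497) D13496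
def n14425 : Q := act 7 n13497
theorem D14425 : act 7 n13497 = n14425 := rfl
theorem F56895 : act 1 n14425 = n13639 := d13_1 D14425 (iv D13639) (iv F53186)
theorem F56896 : act 3 n14425 = n14213 := d24_1 D14425 (iv D14213) F52153 (iv F49153) (iv F53187)
theorem F56897 : act 5 n14425 = n13865 := d31_1 D14425 (iv D13865) (iv F53188)
def n14426 : Q := act 8 n13498
theorem D14426 : act 8 n13498 = n14426 := rfl
theorem F56898 : act 0 n14426 = n13843 := d7_1 D14426 F54600 (iv F53189)
theorem F56899 : act 1 n14426 = n13554 := d14_1 D14426 (iv D13554) (iv F53190)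
theorem F56900 : act 3 n14426 = n13657 := d25_1 D14426 (iv D13657) F53194
theorem F56901 : act 4 n14426 = n13500 := d29_1 D14426 (iv D13500) (iv F53191)
theorem F56902 : act 5 n14426 = n14426 := d32_1 D14426 (iv D14426) F53192
theorem F56903 : act 6 n14426 = n13676 := d34_1 D14426 F53971 (iv F53193)
theorem F56904 : act 7 n14426 = n13653 := d35_1 D14426 (iv D13653) F49765 (iv F49159) D13498
def n14427 : Q := act 2 n13499
theorem D14427 : act 2 n13499 = n14427 := rfl
theorem F56905 : act 1 n14427 = n13668 := d8_1 D14427 F53934 F49930 (iv F49294) (iv F53195)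
theorem F56906 : act 4 n14427 = n13667 := d16_2 (iv F53196) D14427 F53930
theorem F56907 : act 5 n14427 = n13501 := d17_2 (iv F53197) D14427 (iv D13501)
theorem F56908 : act 6 n14427 = n13819 := d18_2 (iv F53198) D14427 F54515
theorem F56909 : act 7 n14427 = n13510 := d19_2 (iv F53199) D14427 (iv D13510)
def n14428 : Q := act 8 n13499
theorem D14428 : act 8 n13499 = n14428 := rfl
theorem F56910 : act 1 n14428 = n13555 := d14_1 D14428 (iv D13555) (iv F53195)
theorem F56911 : act 3 n14428 = n13500 := d25_1 D14428 (iv D13500) D13499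
theorem F56912 : act 4 n14428 = n13682 := d29_1 D14428 (iv D13682) (iv F53196)
theorem F56913 : act 5 n14428 = n13503 := d32_1 D14428 (iv D13503) (iv F53197)
theorem F56914 : act 6 n14428 = n13845 := d34_1 D14428 (iv D13845) (iv F53198)
def n14429 : Q := act 1 n13501
theorem D14429 : act 1 n13501 = n14429 := rfl
theorem F56915 : act 2 n14429 = n13556 := d8_2 D13501 D14429 (iv D13556) (iv D12541) (iv F49163)
theorem F56916 : act 5 n14429 = n13668 := d11_2 F56907 D14429 (iv F56905)
theorem F56917 : act 6 n14429 = n13504 := d12_2 (iv F53204) D14429 (iv D13504)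
theorem F56918 : act 7 n14429 = n13513 := d13_2 (iv F53205) D14429 (iv D13513)
theorem F56919 : act 0 n13827 = n14429 := d4_3 F56916 F53933 D13827
theorem F56920 : act 4 n14165 = n14429 := d26_5 F56916 (iv D13668) F49928 D13206 D14165
def n14430 : Q := act 4 n13501
theorem D14430 : act 4 n13501 = n14430 := rfl
theorem F56921 : act 1 n14430 = n14165 := d10_1 D14430 F56920 (iv D14429)
theorem F56922 : act 2 n14430 = n13502 := d16_1 D14430 (iv D13502) D13501
theorem F56923 : act 5 n14430 = n14162 := d26_2 F56907 D14430 (iv D14162) (iv F53932) (iv F56906)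
theorem F56924 : act 6 n14430 = n13505 := d27_2 (iv F53204) D14430 (iv D13505)
theorem F56925 : act 7 n14430 = n13514 := d28_2 (iv F53205) D14430 (iv D13514)
def n14431 : Q := act 8 n13501
theorem D14431 : act 8 n13501 = n14431 := rfl
theorem F56926 : act 2 n14431 = n13503 := d20_1 D14431 (iv D13503) D13501
theorem F56927 : act 6 n14431 = n13506 := d34_1 D14431 (iv D13506) (iv F53204)
def n14432 : Q := act 8 n13502
theorem D14432 : act 8 n13502 = n14432 := rfl
theorem F56928 : act 1 n14432 = n13558 := d14_1 D14432 (iv D13558) (iv F53206)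
theorem F56929 : act 3 n14432 = n14432 := d25_1 D14432 (iv D14432) F53207
theorem F56930 : act 4 n14432 = n13503 := d29_1 D14432 (iv D13503) D13502
theorem F56931 : act 5 n14432 = n14191 := d32_1 D14432 (iv D14191) (iv F53208)
theorem F56932 : act 6 n14432 = n13508 := d34_1 D14432 (iv D13508) (iv F53209)
def n14433 : Q := act 7 n13503
theorem D14433 : act 7 n13503 = n14433 := rfl
theorem F56933 : act 1 n14433 = n13559 := d13_1 D14433 (iv D13559) (iv F53211)
theorem F56934 : act 3 n14433 = n13936 := d24_1 D14433 (iv D13936) F50898 (iv F49169) (iv F53212)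
theorem F56935 : act 6 n14433 = n13509 := d33_1 D14433 (iv D13509) (iv F53213)
theorem F56936 : act 8 n14433 = n13518 := d35_2 D13503 D14433 (iv D13518) (iv D12509) (iv F49165)
def n14434 : Q := act 0 n13504
theorem D14434 : act 0 n13504 = n14434 := rfl
theorem F56937 : act 2 n14434 = n13560 := d1_2 (iv F53214) D14434 (iv D13560)
theorem F56938 : act 5 n14434 = n13870 := d4_2 (iv F53215) D14434 (iv D13870)
theorem F56939 : act 6 n14434 = n13827 := d5_2 F56917 D14434 F56919
theorem F56940 : act 7 n14434 = n13519 := d6_2 (iv F53216) D14434 (iv D13519)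
theorem F56941 : act 4 n14223 = n14434 := d27_3 F56939 F54539 D14223
def n14435 : Q := act 4 n13504
theorem D14435 : act 4 n13504 = n14435 := rfl
theorem F56942 : act 0 n14435 = n14223 := d3_1 D14435 F56941 (iv D14434)
theorem F56943 : act 1 n14435 = n13505 := d10_1 D14435 (iv D13505) D13504
theorem F56944 : act 2 n14435 = n13561 := d16_1 D14435 (iv D13561) (iv F53214)
theorem F56945 : act 6 n14435 = n14165 := d27_2 F56917 D14435 F56920
theorem F56946 : act 7 n14435 = n13520 := d28_2 (iv F53216) D14435 (iv D13520)
def n14436 : Q := act 8 n13504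
theorem D14436 : act 8 n13504 = n14436 := rfl
theorem F56947 : act 1 n14436 = n13506 := d14_1 D14436 (iv D13506) D13504
theorem F56948 : act 2 n14436 = n13562 := d20_1 D14436 (iv D13562) (iv F53214)
theorem F56949 : act 5 n14436 = n13872 := d32_1 D14436 (iv D13872) (iv F53215)
def n14437 : Q := act 3 n13505
theorem D14437 : act 3 n13505 = n14437 := rfl
theorem F56950 : act 2 n14437 = n14437 := d15_1 D14437 (iv D14437) F53217 F49173 (iv F53217)
def n14438 : Q := act 5 n13505
theorem D14438 : act 5 n13505 = n14438 := rfl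
theorem F56951 : act 2 n14438 = n13507 := d17_1 D14438 (iv D13507) (iv F53217)
theorem F56952 : act 4 n14438 = n13874 := d26_1 D14438 (iv D13874) (iv D12885) (iv F49170) D13505
theorem F56953 : act 7 n14438 = n13523 := d31_2 (iv F53218) D14438 (iv D13523)
def n14439 : Q := act 8 n13505
theorem D14439 : act 8 n13505 = n14439 := rfl
theorem F56954 : act 2 n14439 = n13508 := d20_1 D14439 (iv D13508) (iv F53217)
theorem F56955 : act 4 n14439 = n13506 := d29_1 D14439 (iv D13506) D13505
def n14440 : Q := act 7 n13506
theorem D14440 : act 7 n13506 = n14440 := rfl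
theorem F56956 : act 2 n14440 = n13509 := d19_1 D14440 (iv D13509) (iv F53219)
theorem F56957 : act 5 n14440 = n13876 := d31_1 D14440 (iv D13876) (iv F53220)
theorem F56958 : act 8 n14440 = n13525 := d35_2 D13506 D14440 (iv D13525) (iv D12512) (iv F49171)
def n14441 : Q := act 6 n13507
theorem D14441 : act 6 n13507 = n14441 := rfl
theorem F56959 : act 0 n14441 = n13777 := d5_1 D14441 (iv F56360) F56356
theorem F56960 : act 1 n14441 = n13566 := d12_1 D14441 (iv D13566) (iv F53221)
theorem F56961 : act 3 n14441 = n14441 := d23_1 D14441 (iv D14441) F53222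
theorem F56962 : act 4 n14441 = n13877 := d27_1 D14441 (iv D13877) (iv F53223)
theorem F56963 : act 5 n14441 = n13775 := d30_1 D14441 F54359 (iv F53208) F53209 D13507
theorem F56964 : act 7 n14441 = n13526 := d33_2 (iv F53224) D14441 (iv D13526)
def n14442 : Q := act 8 n13507
theorem D14442 : act 8 n13507 = n14442 := rfl
theorem F56965 : act 1 n14442 = n13567 := d14_1 D14442 (iv D13567) (iv F53221)
theorem F56966 : act 3 n14442 = n14442 := d25_1 D14442 (iv D14442) F53222
theorem F56967 : act 4 n14442 = n13878 := d29_1 D14442 (iv D13878) (iv F53223)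
theorem F56968 : act 5 n14442 = n13508 := d32_1 D14442 (iv D13508) D13507
def n14443 : Q := act 7 n13508
theorem D14443 : act 7 n13508 = n14443 := rfl
theorem F56969 : act 1 n14443 = n13568 := d13_1 D14443 (iv D13568) (iv F53225)
theorem F56970 : act 4 n14443 = n13509 := d28_1 D14443 (iv D13509) (iv F53227)
theorem F56971 : act 8 n14443 = n13528 := d35_2 D13508 D14443 (iv D13528) (iv D12514) (iv F49174)
def n14444 : Q := act 4 n13510
theorem D14444 : act 4 n13510 = n14444 := rfl
theorem F56972 : act 1 n14444 = n13663 := d10_1 D14444 F53910 (iv F53232)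
theorem F56973 : act 2 n14444 = n13511 := d16_1 D14444 (iv D13511) D13510
theorem F56974 : act 6 n14444 = n13824 := d27_2 (iv F53234) D14444 (iv D13824)
theorem F56975 : act 7 n14444 = n13667 := d28_2 F56909 D14444 (iv F56906)
theorem F56976 : act 5 n14157 = n14444 := d37_1 (iv F55819) (iv D14444) (iv F53245) F53244 (iv D12552) F45364 (iv F45468) F45466 (iv D10255) (iv D8445) F23802 F17678 F13150 (iv D3230) F9617 (iv D1783) F5547 F4166 F3161 F2528 F2531 (iv D558) (iv D411) (iv D304) F1097 (iv F1376) (iv F1712) (iv D367) F1302 F1301 F993 F748 F747 F746 D160 F800 F588 D117 D162 F806 F38425 F984 F983 (iv F1225) (iv F1611) (iv F2132) (iv F2807) (iv F3696) (iv F4868) (iv F5664) (iv F7442) (iv F9947) (iv F13316) (iv F17917) (iv F23864) D8469 F32299 (iv F40199) D11715 D12724 D13717 F54131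
def n14445 : Q := act 8 n13510
theorem D14445 : act 8 n13510 = n14445 := rfl
theorem F56977 : act 1 n14445 = n13822 := d14_1 D14445 (iv D13822) (iv F53232)
theorem F56978 : act 2 n14445 = n13512 := d20_1 D14445 (iv D13512) D13510
theorem F56979 : act 5 n14445 = n13515 := d32_1 D14445 (iv D13515) (iv F53233)
theorem F56980 : act 6 n14445 = n13825 := d34_1 D14445 (iv D13825) (iv F53234)
def n14446 : Q := act 8 n13511
theorem D14446 : act 8 n13511 = n14446 := rfl
theorem F56981 : act 1 n14446 = n13569 := d14_1 D14446 (iv D13569) (iv F53235)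
theorem F56982 : act 3 n14446 = n14446 := d25_1 D14446 (iv D14446) F53236
theorem F56983 : act 4 n14446 = n13512 := d29_1 D14446 (iv D13512) D13511
theorem F56984 : act 5 n14446 = n14188 := d32_1 D14446 (iv D14188) F53239
theorem F56985 : act 6 n14446 = n13848 := d34_1 D14446 (iv D13848) (iv F53237)
def n14447 : Q := act 7 n13512
theorem D14447 : act 7 n13512 = n14447 := rfl
theorem F56986 : act 1 n14447 = n13570 := d13_1 D14447 (iv D13570) (iv F53240)
theorem F56987 : act 3 n14447 = n13583 := d24_1 D14447 (iv D13583) F49385 (iv F49185) (iv F53241)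
theorem F56988 : act 5 n14447 = n13518 := d31_1 D14447 (iv D13518) (iv F53242)
theorem F56989 : act 6 n14447 = n13849 := d33_1 D14447 (iv D13849) (iv F53243)
def n14448 : Q := act 0 n13513
theorem D14448 : act 0 n13513 = n14448 := rfl
theorem F56990 : act 2 n14448 = n13571 := d1_2 (iv F53244) D14448 (iv D13571)
theorem F56991 : act 3 n14448 = n14315 := d2_2 (iv F53245) D14448 F56371
theorem F56992 : act 5 n14448 = n13665 := d4_2 (iv F53246) D14448 F53920
theorem F56993 : act 6 n14448 = n13519 := d5_2 (iv F53247) D14448 (iv D13519)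
theorem F56994 : act 7 n14448 = n13827 := d6_2 F56918 D14448 F56919
theorem F56995 : act 4 n14215 = n14448 := d28_3 F56994 F54539 (iv F56007)
def n14449 : Q := act 4 n13513
theorem D14449 : act 4 n13513 = n14449 := rfl
theorem F56996 : act 0 n14449 = n14215 := d3_1 D14449 F56995 (iv D14448)
theorem F56997 : act 1 n14449 = n13514 := d10_1 D14449 (iv D13514) D13513
theorem F56998 : act 2 n14449 = n13572 := d16_1 D14449 (iv D13572) (iv F53244)
theorem F56999 : act 5 n14449 = n14158 := d26_2 (iv F53246) D14449 (iv D14158) (iv F53911) F53910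
theorem F57000 : act 6 n14449 = n13520 := d27_2 (iv F53247) D14449 (iv D13520)
theorem F57001 : act 7 n14449 = n14165 := d28_2 F56918 D14449 F56920
def n14450 : Q := act 8 n13513
theorem D14450 : act 8 n13513 = n14450 := rfl
theorem F57002 : act 1 n14450 = n13515 := d14_1 D14450 (iv D13515) D13513
theorem F57003 : act 2 n14450 = n13573 := d20_1 D14450 (iv D13573) (iv F53244)
theorem F57004 : act 3 n14450 = n14445 := d25_1 D14450 (iv D14445) (iv F53245)
theorem F57005 : act 5 n14450 = n13822 := d32_1 D14450 (iv D13822) (iv F53246)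
theorem F57006 : act 6 n14450 = n13521 := d34_1 D14450 (iv D13521) (iv F53247)
def n14451 : Q := act 3 n13514
theorem D14451 : act 3 n13514 = n14451 := rfl
theorem F57007 : act 2 n14451 = n13529 := d15_1 D14451 (iv D13529) F49208 (iv F49188) (iv F53248)
theorem F57008 : act 6 n14451 = n13522 := d23_2 (iv F53249) D14451 (iv D13522)
def n14452 : Q := act 5 n13514
theorem D14452 : act 5 n13514 = n14452 := rfl
theorem F57009 : act 0 n14452 = n14126 := d4_1 D14452 F56392 F56388
theorem F57010 : act 1 n14452 = n14158 := d11_1 D14452 (iv F56999) F56997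
theorem F57011 : act 2 n14452 = n13516 := d17_1 D14452 (iv D13516) (iv F53248)
theorem F57012 : act 4 n14452 = n14157 := d26_1 D14452 F56976 (iv D14444) F53233 D13514
theorem F57013 : act 7 n14452 = n14162 := d31_2 F56925 D14452 (iv F56923)
def n14453 : Q := act 8 n13514
theorem D14453 : act 8 n13514 = n14453 := rfl
theorem F57014 : act 2 n14453 = n13517 := d20_1 D14453 (iv D13517) (iv F53248)
theorem F57015 : act 4 n14453 = n13515 := d29_1 D14453 (iv D13515) D13514
theorem F57016 : act 6 n14453 = n13524 := d34_1 D14453 (iv D13524) (iv F53249)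
def n14454 : Q := act 7 n13515
theorem D14454 : act 7 n13515 = n14454 := rfl
theorem F57017 : act 2 n14454 = n13518 := d19_1 D14454 (iv D13518) (iv F53250)
theorem F57018 : act 6 n14454 = n13525 := d33_1 D14454 (iv D13525) (iv F53251)
def n14455 : Q := act 6 n13516
theorem D14455 : act 6 n13516 = n14455 := rfl
theorem F57019 : act 0 n14455 = n13761 := d5_1 D14455 F54305 (iv F53252)
theorem F57020 : act 1 n14455 = n13576 := d12_1 D14455 (iv D13576) (iv F53253)
theorem F57021 : act 3 n14455 = n13533 := d23_1 D14455 (iv D13533) (iv F53254)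
theorem F57022 : act 4 n14455 = n13760 := d27_1 D14455 F54302 (iv F53255)
theorem F57023 : act 5 n14455 = n13526 := d30_1 D14455 (iv D13526) (iv D12513) (iv F49189) D13516
theorem F57024 : act 7 n14455 = n13775 := d33_2 (iv F53256) D14455 F54359
def n14456 : Q := act 8 n13516
theorem D14456 : act 8 n13516 = n14456 := rfl
theorem F57025 : act 0 n14456 = n13956 := d7_1 D14456 F54960 (iv F53252)
theorem F57026 : act 1 n14456 = n13577 := d14_1 D14456 (iv D13577) (iv F53253)
theorem F57027 : act 3 n14456 = n13534 := d25_1 D14456 (iv D13534) (iv F53254)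
theorem F57028 : act 4 n14456 = n14188 := d29_1 D14456 (iv D14188) (iv F53255)
theorem F57029 : act 5 n14456 = n13517 := d32_1 D14456 (iv D13517) D13516
def n14457 : Q := act 7 n13517
theorem D14457 : act 7 n13517 = n14457 := rfl
theorem F57030 : act 1 n14457 = n13578 := d13_1 D14457 (iv D13578) (iv F53257)
theorem F57031 : act 4 n14457 = n13518 := d28_1 D14457 (iv D13518) (iv F53259)
theorem F57032 : act 6 n14457 = n13528 := d33_1 D14457 (iv D13528) (iv F53260)
def n14458 : Q := act 4 n13519
theorem D14458 : act 4 n13519 = n14458 := rfl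
theorem F57033 : act 0 n14458 = n13520 := d3_1 D14458 (iv D13520) D13519
theorem F57034 : act 2 n14458 = n13579 := d16_1 D14458 (iv D13579) (iv F53264)
theorem F57035 : act 6 n14458 = n14215 := d27_2 F56993 D14458 F56995
theorem F57036 : act 7 n14458 = n14223 := d28_2 F56940 D14458 F56941
def n14459 : Q := act 8 n13519
theorem D14459 : act 8 n13519 = n14459 := rfl
theorem F57037 : act 0 n14459 = n13521 := d7_1 D14459 (iv D13521) D13519
theorem F57038 : act 2 n14459 = n13580 := d20_1 D14459 (iv D13580) (iv F53264)
theorem F57039 : act 5 n14459 = n13888 := d32_1 D14459 (iv D13888) (iv F53265)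
def n14460 : Q := act 3 n13520
theorem D14460 : act 3 n13520 = n14460 := rfl
theorem F57040 : act 1 n14460 = n13522 := d9_1 D14460 (iv D13522) (iv F53266)
theorem F57041 : act 2 n14460 = n14460 := d15_1 D14460 (iv D14460) F53267 F49383 (iv F53267)
def n14461 : Q := act 5 n13520
theorem D14461 : act 5 n13520 = n14461 := rfl
theorem F57042 : act 1 n14461 = n13523 := d11_1 D14461 (iv D13523) (iv F53266)
theorem F57043 : act 2 n14461 = n13581 := d17_1 D14461 (iv D13581) (iv F53267)
theorem F57044 : act 4 n14461 = n13890 := d26_1 D14461 (iv D13890) (iv D12896) (iv F49194) D13520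
def n14462 : Q := act 8 n13520
theorem D14462 : act 8 n13520 = n14462 := rfl
theorem F57045 : act 1 n14462 = n13524 := d14_1 D14462 (iv D13524) (iv F53266)
theorem F57046 : act 2 n14462 = n13582 := d20_1 D14462 (iv D13582) (iv F53267)
theorem F57047 : act 4 n14462 = n13521 := d29_1 D14462 (iv D13521) D13520
def n14463 : Q := act 7 n13521
theorem D14463 : act 7 n13521 = n14463 := rfl
theorem F57048 : act 1 n14463 = n13525 := d13_1 D14463 (iv D13525) (iv F53268)
theorem F57049 : act 2 n14463 = n13583 := d19_1 D14463 (iv D13583) (iv F53269)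
theorem F57050 : act 5 n14463 = n13892 := d31_1 D14463 (iv D13892) (iv F53270)
def n14464 : Q := act 5 n13522
theorem D14464 : act 5 n13522 = n14464 := rfl
theorem F57051 : act 2 n14464 = n13536 := d17_1 D14464 (iv D13536) (iv F53271)
theorem F57052 : act 3 n14464 = n13523 := d22_1 D14464 (iv D13523) D13522
def n14465 : Q := act 7 n13522
theorem D14465 : act 7 n13522 = n14465 := rfl
theorem F57053 : act 2 n14465 = n13537 := d19_1 D14465 (iv D13537) (iv F53271)
def n14466 : Q := act 8 n13522
theorem D14466 : act 8 n13522 = n14466 := rfl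
theorem F57054 : act 2 n14466 = n13538 := d20_1 D14466 (iv D13538) (iv F53271)
theorem F57055 : act 3 n14466 = n13524 := d25_1 D14466 (iv D13524) D13522
def n14467 : Q := act 6 n13523
theorem D14467 : act 6 n13523 = n14467 := rfl
theorem F57056 : act 2 n14467 = n13526 := d18_1 D14467 (iv D13526) (iv F53272)
theorem F57057 : act 4 n14467 = n13896 := d27_1 D14467 (iv D13896) (iv F53273)
def n14468 : Q := act 8 n13523
theorem D14468 : act 8 n13523 = n14468 := rfl
theorem F57058 : act 2 n14468 = n13527 := d20_1 D14468 (iv D13527) (iv F53272)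
theorem F57059 : act 4 n14468 = n13897 := d29_1 D14468 (iv D13897) (iv F53273)
theorem F57060 : act 5 n14468 = n13524 := d32_1 D14468 (iv D13524) D13523
def n14469 : Q := act 7 n13524
theorem D14469 : act 7 n13524 = n14469 := rfl
theorem F57061 : act 2 n14469 = n13528 := d19_1 D14469 (iv D13528) (iv F53274)
theorem F57062 : act 4 n14469 = n13525 := d28_1 D14469 (iv D13525) (iv F53275)
def n14470 : Q := act 3 n13525
theorem D14470 : act 3 n13525 = n14470 := rfl
theorem F57063 : act 2 n14470 = n14226 := d15_1 D14470 (iv D14226) F52170 (iv F49205) (iv F53276)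
theorem F57064 : act 5 n14470 = n13899 := d22_2 (iv F53277) D14470 (iv D13899)
def n14471 : Q := act 8 n13526
theorem D14471 : act 8 n13526 = n14471 := rfl
theorem F57065 : act 1 n14471 = n13587 := d14_1 D14471 (iv D13587) (iv F53278)
theorem F57066 : act 3 n14471 = n13543 := d25_1 D14471 (iv D13543) (iv F53279)
theorem F57067 : act 4 n14471 = n13900 := d29_1 D14471 (iv D13900) (iv F53280)
theorem F57068 : act 6 n14471 = n13527 := d34_1 D14471 (iv D13527) D13526
def n14472 : Q := act 7 n13527
theorem D14472 : act 7 n13527 = n14472 := rfl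
theorem F57069 : act 1 n14472 = n13588 := d13_1 D14472 (iv D13588) (iv F53281)
theorem F57070 : act 4 n14472 = n13901 := d28_1 D14472 (iv D13901) (iv F53283)
theorem F57071 : act 5 n14472 = n13528 := d31_1 D14472 (iv D13528) (iv F53284)
def n14473 : Q := act 3 n13528
theorem D14473 : act 3 n13528 = n14473 := rfl
theorem F57072 : act 1 n14473 = n13589 := d9_1 D14473 (iv D13589) (iv F53285)
theorem F57073 : act 4 n14473 = n14229 := d21_2 (iv F53286) D14473 (iv D14229) F52177 (iv F49205)
theorem F57074 : act 7 n14473 = n13545 := d24_2 D13528 D14473 (iv D13545) (iv D12527) (iv F49202)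
def n14474 : Q := act 5 n13529
theorem D14474 : act 5 n13529 = n14474 := rfl
theorem F57075 : act 0 n14474 = n14153 := d4_1 D14474 F55807 F54507
theorem F57076 : act 1 n14474 = n14474 := d11_1 D14474 (iv D14474) F53287
theorem F57077 : act 3 n14474 = n13530 := d22_1 D14474 (iv D13530) D13529
def n14475 : Q := act 8 n13529
theorem D14475 : act 8 n13529 = n14475 := rfl
theorem F57078 : act 1 n14475 = n14475 := d14_1 D14475 (iv D14475) F53287
theorem F57079 : act 3 n14475 = n13531 := d25_1 D14475 (iv D13531) D13529
theorem F57080 : act 6 n14475 = n13538 := d34_1 D14475 (iv D13538) (iv F53288)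
def n14476 : Q := act 6 n13530
theorem D14476 : act 6 n13530 = n14476 := rfl
theorem F57081 : act 0 n14476 = n14148 := d5_1 D14476 F55787 (iv F53289)
theorem F57082 : act 1 n14476 = n14476 := d12_1 D14476 (iv D14476) F53290
theorem F57083 : act 2 n14476 = n13533 := d18_1 D14476 (iv D13533) (iv F53291)
theorem F57084 : act 4 n14476 = n14476 := d27_1 D14476 (iv D14476) F53292
theorem F57085 : act 5 n14476 = n13539 := d30_1 D14476 (iv D13539) (iv D12522) (iv F49209) D13530
theorem F57086 : act 7 n14476 = n14476 := d33_2 F53293 D14476 (iv D14476)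
def n14477 : Q := act 8 n13530
theorem D14477 : act 8 n13530 = n14477 := rfl
theorem F57087 : act 0 n14477 = n14035 := d7_1 D14477 F55275 (iv F53289)
theorem F57088 : act 1 n14477 = n14477 := d14_1 D14477 (iv D14477) F53290
theorem F57089 : act 2 n14477 = n13534 := d20_1 D14477 (iv D13534) (iv F53291)
theorem F57090 : act 4 n14477 = n14477 := d29_1 D14477 (iv D14477) F53292
theorem F57091 : act 5 n14477 = n13531 := d32_1 D14477 (iv D13531) D13530
def n14478 : Q := act 7 n13531
theorem D14478 : act 7 n13531 = n14478 := rfl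
theorem F57092 : act 1 n14478 = n14478 := d13_1 D14478 (iv D14478) F53294
theorem F57093 : act 2 n14478 = n13535 := d19_1 D14478 (iv D13535) (iv F53295)
theorem F57094 : act 4 n14478 = n13532 := d28_1 D14478 (iv D13532) (iv F53296)
theorem F57095 : act 6 n14478 = n13541 := d33_1 D14478 (iv D13541) (iv F53297)
theorem F57096 : act 8 n14478 = n14478 := d35_2 D13531 D14478 (iv D14478) (iv D13531) F49210
def n14479 : Q := act 8 n13533
theorem D14479 : act 8 n13533 = n14479 := rfl
theorem F57097 : act 0 n14479 = n14051 := d7_1 D14479 F55352 (iv F53303)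
theorem F57098 : act 1 n14479 = n13590 := d14_1 D14479 (iv D13590) (iv F53304)
theorem F57099 : act 4 n14479 = n14479 := d29_1 D14479 (iv D14479) F53305
theorem F57100 : act 5 n14479 = n13543 := d32_1 D14479 (iv D13543) (iv F53306)
theorem F57101 : act 6 n14479 = n13534 := d34_1 D14479 (iv D13534) D13533
theorem F57102 : act 7 n14293 = n14479 := d13_0 F57098 (iv F53553) (iv F56261)
def n14480 : Q := act 7 n13534
theorem D14480 : act 7 n13534 = n14480 := rfl
theorem F57103 : act 0 n14480 = n14050 := d6_1 D14480 F55347 (iv F53308)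
theorem F57104 : act 1 n14480 = n13591 := d13_1 D14480 (iv D13591) (iv F53309)
theorem F57105 : act 4 n14480 = n14480 := d28_1 D14480 (iv D14480) F53310
theorem F57106 : act 5 n14480 = n13535 := d31_1 D14480 (iv D13535) (iv F53311)
theorem F57107 : act 6 n14480 = n14293 := d33_1 D14480 F57102 F57101
theorem F57108 : act 8 n14480 = n14480 := d35_2 D13534 D14480 (iv D14480) (iv D13534) F49218
def n14481 : Q := act 3 n13535
theorem D14481 : act 3 n13535 = n14481 := rfl
theorem F57109 : act 1 n14481 = n13592 := d9_1 D14481 (iv D13592) (iv F53312)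
theorem F57110 : act 4 n14481 = n14046 := d21_2 (iv F53313) D14481 (iv D14046) F51350 (iv F49223)
theorem F57111 : act 6 n14481 = n13545 := d23_2 (iv F53314) D14481 (iv D13545)
theorem F57112 : act 8 n14481 = n14481 := d25_2 F53315 D14481 (iv D14481)
def n14482 : Q := act 4 n13536
theorem D14482 : act 4 n13536 = n14482 := rfl
theorem F57113 : act 1 n14482 = n14482 := d10_1 D14482 (iv D14482) F53316
theorem F57114 : act 3 n14482 = n13546 := d21_1 D14482 (iv D13546) F49250 (iv F49230) (iv F53317)
def n14483 : Q := act 6 n13536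
theorem D14483 : act 6 n13536 = n14483 := rfl
theorem F57115 : act 1 n14483 = n14483 := d12_1 D14483 (iv D14483) F53316
theorem F57116 : act 3 n14483 = n13539 := d23_1 D14483 (iv D13539) (iv F53317)
def n14484 : Q := act 7 n13536
theorem D14484 : act 7 n13536 = n14484 := rfl
theorem F57117 : act 1 n14484 = n14484 := d13_1 D14484 (iv D14484) F53316
theorem F57118 : act 3 n14484 = n14484 := d24_1 D14484 (iv D14484) F53317 F49231 (iv F53317)
theorem F57119 : act 5 n14484 = n13537 := d31_1 D14484 (iv D13537) D13536
def n14485 : Q := act 8 n13536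
theorem D14485 : act 8 n13536 = n14485 := rfl
theorem F57120 : act 1 n14485 = n14485 := d14_1 D14485 (iv D14485) F53316
theorem F57121 : act 3 n14485 = n13540 := d25_1 D14485 (iv D13540) (iv F53317)
theorem F57122 : act 5 n14485 = n13538 := d32_1 D14485 (iv D13538) D13536
def n14486 : Q := act 8 n13537
theorem D14486 : act 8 n13537 = n14486 := rfl
theorem F57123 : act 1 n14486 = n14486 := d14_1 D14486 (iv D14486) F53318
theorem F57124 : act 3 n14486 = n14486 := d25_1 D14486 (iv D14486) F53319
def n14487 : Q := act 7 n13538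
theorem D14487 : act 7 n13538 = n14487 := rfl
theorem F57125 : act 1 n14487 = n14487 := d13_1 D14487 (iv D14487) F53320
def n14488 : Q := act 8 n13539
theorem D14488 : act 8 n13539 = n14488 := rfl
theorem F57126 : act 1 n14488 = n14488 := d14_1 D14488 (iv D14488) F53322
theorem F57127 : act 2 n14488 = n13543 := d20_1 D14488 (iv D13543) (iv F53323)
theorem F57128 : act 4 n14488 = n13550 := d29_1 D14488 (iv D13550) (iv F53324)
theorem F57129 : act 6 n14488 = n13540 := d34_1 D14488 (iv D13540) D13539
def n14489 : Q := act 7 n13540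
theorem D14489 : act 7 n13540 = n14489 := rfl
theorem F57130 : act 1 n14489 = n14489 := d13_1 D14489 (iv D14489) F53326
theorem F57131 : act 2 n14489 = n13544 := d19_1 D14489 (iv D13544) (iv F53327)
theorem F57132 : act 4 n14489 = n13551 := d28_1 D14489 (iv D13551) (iv F53328)
theorem F57133 : act 5 n14489 = n13541 := d31_1 D14489 (iv D13541) (iv F53329)
theorem F57134 : act 8 n14489 = n14489 := d35_2 D13540 D14489 (iv D14489) (iv D13540) F49231
def n14490 : Q := act 3 n13541
theorem D14490 : act 3 n13541 = n14490 := rfl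
theorem F57135 : act 1 n14490 = n14490 := d9_1 D14490 (iv D14490) F53330
theorem F57136 : act 8 n14490 = n14490 := d25_2 F53333 D14490 (iv D14490)
def n14491 : Q := act 4 n13542
theorem D14491 : act 4 n13542 = n14491 := rfl
theorem F57137 : act 1 n14491 = n14491 := d10_1 D14491 (iv D14491) F53334
theorem F57138 : act 2 n14491 = n14239 := d16_1 D14491 (iv D14239) (iv F53335)
theorem F57139 : act 8 n14491 = n14491 := d29_2 F53337 D14491 (iv D14491)
def n14492 : Q := act 7 n13543
theorem D14492 : act 7 n13543 = n14492 := rfl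
theorem F57140 : act 0 n14492 = n14292 := d6_1 D14492 F56474 F56469
theorem F57141 : act 1 n14492 = n13593 := d13_1 D14492 (iv D13593) (iv F53338)
theorem F57142 : act 4 n14492 = n13552 := d28_1 D14492 (iv D13552) (iv F53339)
theorem F57143 : act 5 n14492 = n14293 := d31_1 D14492 F57102 F57100
theorem F57144 : act 6 n14492 = n13544 := d33_1 D14492 (iv D13544) (iv F53340)
theorem F57145 : act 8 n14492 = n14492 := d35_2 D13543 D14492 (iv D14492) (iv D13543) F49241
def n14493 : Q := act 3 n13544
theorem D14493 : act 3 n13544 = n14493 := rfl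
theorem F57146 : act 1 n14493 = n13594 := d9_1 D14493 (iv D13594) (iv F53341)
theorem F57147 : act 5 n14493 = n13545 := d22_2 (iv F53343) D14493 (iv D13545)
theorem F57148 : act 8 n14493 = n14493 := d25_2 F53344 D14493 (iv D14493)
def n14494 : Q := act 2 n13545
theorem D14494 : act 2 n13545 = n14494 := rfl
theorem F57149 : act 4 n14494 = n14242 := d16_2 (iv F53346) D14494 (iv D14242)
theorem F57150 : act 8 n14494 = n14494 := d20_2 F53347 D14494 (iv D14494)
def n14495 : Q := act 8 n13546
theorem D14495 : act 8 n13546 = n14495 := rfl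
theorem F57151 : act 1 n14495 = n14495 := d14_1 D14495 (iv D14495) F53348
theorem F57152 : act 2 n14495 = n13925 := d20_1 D14495 (iv D13925) (iv F53349)
theorem F57153 : act 4 n14495 = n13549 := d29_1 D14495 (iv D13549) D13546
def n14496 : Q := act 8 n13547
theorem D14496 : act 8 n13547 = n14496 := rfl
theorem F57154 : act 1 n14496 = n14496 := d14_1 D14496 (iv D14496) F53350
theorem F57155 : act 2 n14496 = n13926 := d20_1 D14496 (iv D13926) (iv F53351)
theorem F57156 : act 3 n14496 = n13550 := d25_1 D14496 (iv D13550) (iv F53352)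
theorem F57157 : act 5 n14496 = n14496 := d32_1 D14496 (iv D14496) F53353
theorem F57158 : act 6 n14496 = n13549 := d34_1 D14496 (iv D13549) D13547
def n14497 : Q := act 7 n13550
theorem D14497 : act 7 n13550 = n14497 := rfl
theorem F57159 : act 1 n14497 = n14497 := d13_1 D14497 (iv D14497) F53362
theorem F57160 : act 2 n14497 = n13552 := d19_1 D14497 (iv D13552) (iv F53363)
theorem F57161 : act 5 n14497 = n14497 := d31_1 D14497 (iv D14497) F53364
theorem F57162 : act 6 n14497 = n13551 := d33_1 D14497 (iv D13551) (iv F53365)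
theorem F57163 : act 8 n14497 = n14497 := d35_2 D13550 D14497 (iv D14497) (iv D13550) F49262
def n14498 : Q := act 7 n13555
theorem D14498 : act 7 n13555 = n14498 := rfl
theorem F57164 : act 0 n14498 = n13597 := d6_1 D14498 (iv D13597) (iv F53385)
theorem F57165 : act 2 n14498 = n13684 := d19_1 D14498 (iv D13684) (iv F53386)
theorem F57166 : act 3 n14498 = n13565 := d24_1 D14498 (iv D13565) F49329 (iv F49303) (iv F53387)
theorem F57167 : act 4 n14498 = n13683 := d28_1 D14498 (iv D13683) (iv F53388)
theorem F57168 : act 5 n14498 = n13559 := d31_1 D14498 (iv D13559) (iv F53389)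
theorem F57169 : act 6 n14498 = n13846 := d33_1 D14498 (iv D13846) (iv F53390)
theorem F57170 : act 8 n14498 = n13570 := d35_2 D13555 D14498 (iv D13570) (iv D12551) (iv F49298)
def n14499 : Q := act 8 n13556
theorem D14499 : act 8 n13556 = n14499 := rfl
theorem F57171 : act 0 n14499 = n13830 := d7_1 D14499 (iv D13830) (iv F53391)
theorem F57172 : act 1 n14499 = n13557 := d14_1 D14499 (iv D13557) D13556
theorem F57173 : act 3 n14499 = n13651 := d25_1 D14499 (iv D13651) (iv F53392)
theorem F57174 : act 4 n14499 = n14168 := d29_1 D14499 (iv D14168) (iv F53393)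
theorem F57175 : act 5 n14499 = n13670 := d32_1 D14499 (iv D13670) (iv F53394)
theorem F57176 : act 6 n14499 = n13562 := d34_1 D14499 (iv D13562) (iv F53395)
def n14500 : Q := act 7 n13557
theorem D14500 : act 7 n13557 = n14500 := rfl
theorem F57177 : act 0 n14500 = n13598 := d6_1 D14500 (iv D13598) (iv F53397)
theorem F57178 : act 2 n14500 = n13559 := d19_1 D14500 (iv D13559) (iv F53398)
theorem F57179 : act 3 n14500 = n13846 := d24_1 D14500 (iv D13846) F50625 (iv F49748) (iv F53399)
theorem F57180 : act 4 n14500 = n14195 := d28_1 D14500 (iv D14195) (iv F53400)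
theorem F57181 : act 5 n14500 = n13684 := d31_1 D14500 (iv D13684) (iv F53401)
theorem F57182 : act 6 n14500 = n13565 := d33_1 D14500 (iv D13565) (iv F53402)
theorem F57183 : act 8 n14500 = n13575 := d35_2 D13557 D14500 (iv D13575) (iv D12554) (iv F49308)
def n14501 : Q := act 7 n13558
theorem D14501 : act 7 n13558 = n14501 := rfl
theorem F57184 : act 0 n14501 = n13599 := d6_1 D14501 (iv D13599) (iv F53403)
theorem F57185 : act 2 n14501 = n14195 := d19_1 D14501 (iv D14195) (iv F53404)
theorem F57186 : act 4 n14501 = n13559 := d28_1 D14501 (iv D13559) (iv F53406)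
theorem F57187 : act 5 n14501 = n14193 := d31_1 D14501 (iv D14193) (iv F53407)
theorem F57188 : act 6 n14501 = n13568 := d33_1 D14501 (iv D13568) (iv F53408)
theorem F57189 : act 8 n14501 = n13578 := d35_2 D13558 D14501 (iv D13578) (iv D12556) (iv F49315)
def n14502 : Q := act 8 n13560
theorem D14502 : act 8 n13560 = n14502 := rfl
theorem F57190 : act 0 n14502 = n13562 := d7_1 D14502 (iv D13562) D13560
theorem F57191 : act 1 n14502 = n13600 := d14_1 D14502 (iv D13600) (iv F53413)
theorem F57192 : act 3 n14502 = n13652 := d25_1 D14502 (iv D13652) (iv F53414)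
theorem F57193 : act 4 n14502 = n14227 := d29_1 D14502 (iv D14227) F53418
theorem F57194 : act 5 n14502 = n13933 := d32_1 D14502 (iv D13933) (iv F53415)
theorem F57195 : act 6 n14502 = n13830 := d34_1 D14502 (iv D13830) (iv F53416)
def n14503 : Q := act 5 n13561
theorem D14503 : act 5 n13561 = n14503 := rfl
theorem F57196 : act 0 n14503 = n13946 := d4_1 D14503 F54928 (iv F53419)
theorem F57197 : act 1 n14503 = n13563 := d11_1 D14503 (iv D13563) (iv F53420)
theorem F57198 : act 3 n14503 = n14041 := d22_1 D14503 F55310 (iv F53421)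
theorem F57199 : act 4 n14503 = n13934 := d26_1 D14503 (iv D13934) (iv D12938) (iv F49320) D13561
theorem F57200 : act 6 n14503 = n13943 := d30_2 (iv F53422) D14503 (iv D13943) F50937 D13208
theorem F57201 : act 7 n14503 = n13581 := d31_2 (iv F53423) D14503 (iv D13581)
def n14504 : Q := act 8 n13561
theorem D14504 : act 8 n13561 = n14504 := rfl
theorem F57202 : act 0 n14504 = n14227 := d7_1 D14504 (iv D14227) (iv F53419)
theorem F57203 : act 1 n14504 = n13564 := d14_1 D14504 (iv D13564) (iv F53420)
theorem F57204 : act 3 n14504 = n14177 := d25_1 D14504 (iv D14177) (iv F53421)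
theorem F57205 : act 4 n14504 = n13562 := d29_1 D14504 (iv D13562) D13561
theorem F57206 : act 6 n14504 = n14168 := d34_1 D14504 (iv D14168) (iv F53422)
def n14505 : Q := act 7 n13562
theorem D14505 : act 7 n13562 = n14505 := rfl
theorem F57207 : act 1 n14505 = n13565 := d13_1 D14505 (iv D13565) (iv F53424)
theorem F57208 : act 5 n14505 = n13936 := d31_1 D14505 (iv D13936) (iv F53426)
theorem F57209 : act 8 n14505 = n13583 := d35_2 D13562 D14505 (iv D13583) (iv D12560) (iv F49321)
def n14506 : Q := act 8 n13563
theorem D14506 : act 8 n13563 = n14506 := rfl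
theorem F57210 : act 0 n14506 = n13602 := d7_1 D14506 (iv D13602) (iv F53427)
theorem F57211 : act 2 n14506 = n13567 := d20_1 D14506 (iv D13567) (iv F53428)
theorem F57212 : act 3 n14506 = n14052 := d25_1 D14506 (iv D14052) (iv F53429)
theorem F57213 : act 4 n14506 = n13937 := d29_1 D14506 (iv D13937) (iv F53430)
theorem F57214 : act 5 n14506 = n13564 := d32_1 D14506 (iv D13564) D13563
theorem F57215 : act 6 n14506 = n13964 := d34_1 D14506 (iv D13964) (iv F53431)
def n14507 : Q := act 7 n13564
theorem D14507 : act 7 n13564 = n14507 := rfl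
theorem F57216 : act 0 n14507 = n13603 := d6_1 D14507 (iv D13603) (iv F53433)
theorem F57217 : act 2 n14507 = n13568 := d19_1 D14507 (iv D13568) (iv F53434)
theorem F57218 : act 4 n14507 = n13565 := d28_1 D14507 (iv D13565) (iv F53436)
theorem F57219 : act 6 n14507 = n14195 := d33_1 D14507 (iv D14195) (iv F53437)
theorem F57220 : act 8 n14507 = n13586 := d35_2 D13564 D14507 (iv D13586) (iv D12562) (iv F49326)
def n14508 : Q := act 8 n13566
theorem D14508 : act 8 n13566 = n14508 := rfl
theorem F57221 : act 0 n14508 = n13604 := d7_1 D14508 (iv D13604) (iv F53442)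
theorem F57222 : act 2 n14508 = n13964 := d20_1 D14508 (iv D13964) (iv F53443)
theorem F57223 : act 3 n14508 = n14508 := d25_1 D14508 (iv D14508) F53444
theorem F57224 : act 4 n14508 = n13939 := d29_1 D14508 (iv D13939) (iv F53445)
theorem F57225 : act 5 n14508 = n13805 := d32_1 D14508 (iv D13805) (iv F53446)
theorem F57226 : act 6 n14508 = n13567 := d34_1 D14508 (iv D13567) D13566
def n14509 : Q := act 7 n13567
theorem D14509 : act 7 n13567 = n14509 := rfl
theorem F57227 : act 0 n14509 = n13605 := d6_1 D14509 (iv D13605) (iv F53448)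
theorem F57228 : act 4 n14509 = n13940 := d28_1 D14509 (iv D13940) (iv F53450)
theorem F57229 : act 5 n14509 = n13568 := d31_1 D14509 (iv D13568) (iv F53451)
theorem F57230 : act 8 n14509 = n13588 := d35_2 D13567 D14509 (iv D13588) (iv D12565) (iv F49334)
def n14510 : Q := act 3 n13568
theorem D14510 : act 3 n13568 = n14510 := rfl
theorem F57231 : act 0 n14510 = n13606 := d2_1 D14510 (iv D13606) (iv F53452)
theorem F57232 : act 4 n14510 = n14253 := d21_2 (iv F53453) D14510 (iv D14253) F52276 (iv F49339)
theorem F57233 : act 7 n14510 = n14510 := d24_2 D13568 D14510 (iv D14510) (iv D13568) F49336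
theorem F57234 : act 8 n14510 = n13589 := d25_2 (iv F53454) D14510 (iv D13589)
def n14511 : Q := act 7 n13569
theorem D14511 : act 7 n13569 = n14511 := rfl
theorem F57235 : act 0 n14511 = n13607 := d6_1 D14511 (iv D13607) (iv F53455)
theorem F57236 : act 2 n14511 = n13677 := d19_1 D14511 (iv D13677) (iv F53456)
theorem F57237 : act 4 n14511 = n13570 := d28_1 D14511 (iv D13570) (iv F53458)
theorem F57238 : act 5 n14511 = n14189 := d31_1 D14511 (iv D14189) (iv F53459)
theorem F57239 : act 6 n14511 = n13851 := d33_1 D14511 (iv D13851) (iv F53460)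
theorem F57240 : act 8 n14511 = n13683 := d35_2 D13569 D14511 (iv D13683) (iv D12689) (iv F49346)
def n14512 : Q := act 8 n13571
theorem D14512 : act 8 n13571 = n14512 := rfl
theorem F57241 : act 0 n14512 = n13573 := d7_1 D14512 (iv D13573) D13571
theorem F57242 : act 1 n14512 = n13608 := d14_1 D14512 (iv D13608) (iv F53466)
theorem F57243 : act 3 n14512 = n13596 := d25_1 D14512 (iv D13596) (iv F53467)
theorem F57244 : act 4 n14512 = n14218 := d29_1 D14512 (iv D14218) F53471
theorem F57245 : act 5 n14512 = n13666 := d32_1 D14512 (iv D13666) (iv F53468)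
theorem F57246 : act 6 n14512 = n13580 := d34_1 D14512 (iv D13580) (iv F53469)
def n14513 : Q := act 8 n13572
theorem D14513 : act 8 n13572 = n14513 := rfl
theorem F57247 : act 0 n14513 = n14218 := d7_1 D14513 (iv D14218) (iv F53472)
theorem F57248 : act 1 n14513 = n13574 := d14_1 D14513 (iv D13574) (iv F53473)
theorem F57249 : act 3 n14513 = n14513 := d25_1 D14513 (iv D14513) F53474
theorem F57250 : act 4 n14513 = n13573 := d29_1 D14513 (iv D13573) D13572
theorem F57251 : act 5 n14513 = n14160 := d32_1 D14513 (iv D14160) (iv F53475)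
theorem F57252 : act 6 n14513 = n13582 := d34_1 D14513 (iv D13582) (iv F53476)
def n14514 : Q := act 7 n13573
theorem D14514 : act 7 n13573 = n14514 := rfl
theorem F57253 : act 1 n14514 = n13575 := d13_1 D14514 (iv D13575) (iv F53478)
theorem F57254 : act 3 n14514 = n13849 := d24_1 D14514 (iv D13849) F50637 (iv F49459) (iv F53479)
theorem F57255 : act 5 n14514 = n13823 := d31_1 D14514 (iv D13823) (iv F53480)
theorem F57256 : act 6 n14514 = n13583 := d33_1 D14514 (iv D13583) (iv F53481)
def n14515 : Q := act 7 n13574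
theorem D14515 : act 7 n13574 = n14515 := rfl
theorem F57257 : act 0 n14515 = n13610 := d6_1 D14515 (iv D13610) (iv F53482)
theorem F57258 : act 2 n14515 = n13578 := d19_1 D14515 (iv D13578) (iv F53483)
theorem F57259 : act 4 n14515 = n13575 := d28_1 D14515 (iv D13575) (iv F53485)
theorem F57260 : act 5 n14515 = n14190 := d31_1 D14515 (iv D14190) (iv F53486)
theorem F57261 : act 6 n14515 = n13586 := d33_1 D14515 (iv D13586) (iv F53487)
theorem F57262 : act 8 n14515 = n14195 := d35_2 D13574 D14515 (iv D14195) (iv D13236) (iv F49361)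
def n14516 : Q := act 8 n13576
theorem D14516 : act 8 n13576 = n14516 := rfl
theorem F57263 : act 0 n14516 = n13611 := d7_1 D14516 (iv D13611) (iv F53493)
theorem F57264 : act 2 n14516 = n13957 := d20_1 D14516 (iv D13957) (iv F53494)
theorem F57265 : act 3 n14516 = n13590 := d25_1 D14516 (iv D13590) (iv F53495)
theorem F57266 : act 4 n14516 = n13796 := d29_1 D14516 (iv D13796) (iv F53496)
theorem F57267 : act 5 n14516 = n13587 := d32_1 D14516 (iv D13587) (iv F53497)
theorem F57268 : act 6 n14516 = n13577 := d34_1 D14516 (iv D13577) D13576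
def n14517 : Q := act 7 n13577
theorem D14517 : act 7 n13577 = n14517 := rfl
theorem F57269 : act 0 n14517 = n13612 := d6_1 D14517 (iv D13612) (iv F53499)
theorem F57270 : act 2 n14517 = n14190 := d19_1 D14517 (iv D14190) (iv F53500)
theorem F57271 : act 4 n14517 = n14189 := d28_1 D14517 (iv D14189) (iv F53502)
theorem F57272 : act 5 n14517 = n13578 := d31_1 D14517 (iv D13578) (iv F53503)
theorem F57273 : act 8 n14517 = n14193 := d35_2 D13577 D14517 (iv D14193) (iv D13234) (iv F49371)
def n14518 : Q := act 3 n13578
theorem D14518 : act 3 n13578 = n14518 := rfl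
theorem F57274 : act 0 n14518 = n13613 := d2_1 D14518 (iv D13613) (iv F53504)
theorem F57275 : act 4 n14518 = n13951 := d21_2 (iv F53505) D14518 (iv D13951) F50960 (iv F49377)
theorem F57276 : act 6 n14518 = n13589 := d23_2 (iv F53506) D14518 (iv D13589)
theorem F57277 : act 7 n14518 = n13592 := d24_2 D13578 D14518 (iv D13592) (iv D12569) (iv F49373)
def n14519 : Q := act 5 n13579
theorem D14519 : act 5 n13579 = n14519 := rfl
theorem F57278 : act 0 n14519 = n13581 := d4_1 D14519 (iv D13581) (iv F53507)
theorem F57279 : act 1 n14519 = n13614 := d11_1 D14519 (iv D13614) (iv F53508)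
theorem F57280 : act 3 n14519 = n14519 := d22_1 D14519 (iv D14519) F53509
theorem F57281 : act 4 n14519 = n13943 := d26_1 D14519 (iv D13943) (iv D12949) (iv F49381) D13579
theorem F57282 : act 6 n14519 = n13934 := d30_2 (iv F53510) D14519 (iv D13934) F50895 D13261
theorem F57283 : act 7 n14519 = n13946 := d31_2 (iv F53511) D14519 F54928
def n14520 : Q := act 8 n13579
theorem D14520 : act 8 n13579 = n14520 := rfl
theorem F57284 : act 0 n14520 = n13582 := d7_1 D14520 (iv D13582) (iv F53507)
theorem F57285 : act 1 n14520 = n13615 := d14_1 D14520 (iv D13615) (iv F53508)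
theorem F57286 : act 3 n14520 = n14520 := d25_1 D14520 (iv D14520) F53509
theorem F57287 : act 4 n14520 = n13580 := d29_1 D14520 (iv D13580) D13579
theorem F57288 : act 6 n14520 = n14218 := d34_1 D14520 (iv D14218) (iv F53510)
def n14521 : Q := act 7 n13580
theorem D14521 : act 7 n13580 = n14521 := rfl
theorem F57289 : act 0 n14521 = n13583 := d6_1 D14521 (iv D13583) (iv F53512)
theorem F57290 : act 1 n14521 = n13616 := d13_1 D14521 (iv D13616) (iv F53513)
theorem F57291 : act 5 n14521 = n13945 := d31_1 D14521 (iv D13945) (iv F53515)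
def n14522 : Q := act 6 n13581
theorem D14522 : act 6 n13581 = n14522 := rfl
theorem F57292 : act 0 n14522 = n13934 := d5_1 D14522 (iv F57282) F57278
theorem F57293 : act 1 n14522 = n13584 := d12_1 D14522 (iv D13584) (iv F53516)
theorem F57294 : act 3 n14522 = n14522 := d23_1 D14522 (iv D14522) F53517
theorem F57295 : act 4 n14522 = n13946 := d27_1 D14522 (iv D13946) (iv F53518)
theorem F57296 : act 5 n14522 = n13932 := d30_1 D14522 F54876 (iv F53475) F53476 D13581
theorem F57297 : act 7 n14522 = n13943 := d33_2 F57201 D14522 (iv F57200)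
def n14523 : Q := act 8 n13581
theorem D14523 : act 8 n13581 = n14523 := rfl
theorem F57298 : act 1 n14523 = n13585 := d14_1 D14523 (iv D13585) (iv F53516)
theorem F57299 : act 3 n14523 = n14523 := d25_1 D14523 (iv D14523) F53517
theorem F57300 : act 4 n14523 = n13947 := d29_1 D14523 (iv D13947) (iv F53518)
theorem F57301 : act 5 n14523 = n13582 := d32_1 D14523 (iv D13582) D13581
def n14524 : Q := act 7 n13582
theorem D14524 : act 7 n13582 = n14524 := rfl
theorem F57302 : act 1 n14524 = n13586 := d13_1 D14524 (iv D13586) (iv F53519)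
theorem F57303 : act 4 n14524 = n13583 := d28_1 D14524 (iv D13583) (iv F53521)
def n14525 : Q := act 8 n13584
theorem D14525 : act 8 n13584 = n14525 := rfl
theorem F57304 : act 0 n14525 = n13619 := d7_1 D14525 (iv D13619) (iv F53524)
theorem F57305 : act 2 n14525 = n13587 := d20_1 D14525 (iv D13587) (iv F53525)
theorem F57306 : act 3 n14525 = n14525 := d25_1 D14525 (iv D14525) F53526
theorem F57307 : act 4 n14525 = n13949 := d29_1 D14525 (iv D13949) (iv F53527)
theorem F57308 : act 5 n14525 = n13957 := d32_1 D14525 (iv D13957) (iv F53528)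
theorem F57309 : act 6 n14525 = n13585 := d34_1 D14525 (iv D13585) D13584
def n14526 : Q := act 7 n13585
theorem D14526 : act 7 n13585 = n14526 := rfl
theorem F57310 : act 0 n14526 = n13620 := d6_1 D14526 (iv D13620) (iv F53530)
theorem F57311 : act 2 n14526 = n13588 := d19_1 D14526 (iv D13588) (iv F53531)
theorem F57312 : act 4 n14526 = n13950 := d28_1 D14526 (iv D13950) (iv F53533)
theorem F57313 : act 5 n14526 = n13586 := d31_1 D14526 (iv D13586) (iv F53534)
def n14527 : Q := act 3 n13586
theorem D14527 : act 3 n13586 = n14527 := rfl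
theorem F57314 : act 0 n14527 = n13621 := d2_1 D14527 (iv D13621) (iv F53535)
theorem F57315 : act 7 n14527 = n14527 := d24_2 D13586 D14527 (iv D14527) (iv D13586) F49393
def n14528 : Q := act 7 n13587
theorem D14528 : act 7 n13587 = n14528 := rfl
theorem F57316 : act 0 n14528 = n13622 := d6_1 D14528 (iv D13622) (iv F53538)
theorem F57317 : act 4 n14528 = n13952 := d28_1 D14528 (iv D13952) (iv F53540)
theorem F57318 : act 6 n14528 = n13588 := d33_1 D14528 (iv D13588) (iv F53541)
def n14529 : Q := act 3 n13588
theorem D14529 : act 3 n13588 = n14529 := rfl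
theorem F57319 : act 0 n14529 = n13623 := d2_1 D14529 (iv D13623) (iv F53542)
theorem F57320 : act 5 n14529 = n13589 := d22_2 (iv F53544) D14529 (iv D13589)
theorem F57321 : act 7 n14529 = n13594 := d24_2 D13588 D14529 (iv D13594) (iv D12571) (iv F49402)
def n14530 : Q := act 2 n13589
theorem D14530 : act 2 n13589 = n14530 := rfl
theorem F57322 : act 0 n14530 = n13624 := d1_1 D14530 (iv D13624) (iv F53545)
theorem F57323 : act 4 n14530 = n14256 := d16_2 (iv F53546) D14530 (iv D14256)
theorem F57324 : act 7 n14530 = n13595 := d19_2 (iv F53547) D14530 (iv D13595)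
def n14531 : Q := act 3 n13591
theorem D14531 : act 3 n13591 = n14531 := rfl
theorem F57325 : act 0 n14531 = n13625 := d2_1 D14531 (iv D13625) (iv F53554)
theorem F57326 : act 5 n14531 = n13592 := d22_2 (iv F53557) D14531 (iv D13592)
theorem F57327 : act 6 n14531 = n14267 := d23_2 (iv F53558) D14531 F56160
theorem F57328 : act 8 n14531 = n14531 := d25_2 F53559 D14531 (iv D14531)
def n14532 : Q := act 2 n13592
theorem D14532 : act 2 n13592 = n14532 := rfl
theorem F57329 : act 0 n14532 = n13626 := d1_1 D14532 (iv D13626) (iv F53560)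
theorem F57330 : act 3 n14532 = n14532 := d15_2 D13592 D14532 (iv D14532) (iv D13592) F49417
theorem F57331 : act 4 n14532 = n14049 := d16_2 (iv F53561) D14532 (iv D14049)
theorem F57332 : act 6 n14532 = n13595 := d18_2 (iv F53562) D14532 (iv D13595)
theorem F57333 : act 8 n14532 = n14532 := d20_2 F53563 D14532 (iv D14532)
def n14533 : Q := act 2 n13594
theorem D14533 : act 2 n13594 = n14533 := rfl
theorem F57334 : act 0 n14533 = n13627 := d1_1 D14533 (iv D13627) (iv F53570)
theorem F57335 : act 3 n14533 = n14533 := d15_2 D13594 D14533 (iv D14533) (iv D13594) F49426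
theorem F57336 : act 4 n14533 = n13815 := d16_2 F56695 D14533 (iv F56694)
theorem F57337 : act 5 n14533 = n13595 := d17_2 (iv F53571) D14533 (iv D13595)
theorem F57338 : act 6 n14533 = n14201 := d18_2 F56709 D14533 (iv F56707)
theorem F57339 : act 8 n14533 = n14533 := d20_2 F53572 D14533 (iv D14533)
def n14534 : Q := act 1 n13595
theorem D14534 : act 1 n13595 = n14534 := rfl
theorem F57340 : act 3 n14534 = n14534 := d9_2 F53574 D14534 (iv D14534)
theorem F57341 : act 4 n14534 = n14260 := d10_2 (iv F53575) D14534 (iv D14260)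
theorem F57342 : act 8 n14534 = n14534 := d14_2 F53576 D14534 (iv D14534)
def n14535 : Q := act 3 n13599
theorem D14535 : act 3 n13599 = n14535 := rfl
theorem F57343 : act 4 n14535 = n13961 := d21_2 (iv F53598) D14535 (iv D13961) F51015 (iv F49487)
theorem F57344 : act 5 n14535 = n14204 := d22_2 (iv F53599) D14535 (iv D14204)
theorem F57345 : act 6 n14535 = n13606 := d23_2 (iv F53600) D14535 (iv D13606)
theorem F57346 : act 7 n14535 = n14535 := d24_2 D13599 D14535 (iv D14535) (iv D13599) F49483
theorem F57347 : act 8 n14535 = n13613 := d25_2 (iv F53601) D14535 (iv D13613)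
def n14536 : Q := act 7 n13600
theorem D14536 : act 7 n13600 = n14536 := rfl
theorem F57348 : act 0 n14536 = n13601 := d6_1 D14536 (iv D13601) (iv F53602)
theorem F57349 : act 4 n14536 = n14254 := d28_1 D14536 (iv D14254) (iv F53604)
theorem F57350 : act 5 n14536 = n13958 := d31_1 D14536 (iv D13958) (iv F53605)
theorem F57351 : act 6 n14536 = n13852 := d33_1 D14536 (iv D13852) (iv F53606)
theorem F57352 : act 8 n14536 = n13616 := d35_2 D13600 D14536 (iv D13616) (iv D12602) (iv F49494)
def n14537 : Q := act 7 n13602
theorem D14537 : act 7 n13602 = n14537 := rfl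
theorem F57353 : act 1 n14537 = n13968 := d13_1 D14537 (iv D13968) (iv F53612)
theorem F57354 : act 2 n14537 = n13605 := d19_1 D14537 (iv D13605) (iv F53613)
theorem F57355 : act 4 n14537 = n13960 := d28_1 D14537 (iv D13960) (iv F53615)
theorem F57356 : act 5 n14537 = n13603 := d31_1 D14537 (iv D13603) (iv F53616)
theorem F57357 : act 6 n14537 = n13966 := d33_1 D14537 (iv D13966) (iv F53617)
theorem F57358 : act 8 n14537 = n13620 := d35_2 D13602 D14537 (iv D13620) (iv D12607) (iv F49505)
def n14538 : Q := act 3 n13603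
theorem D14538 : act 3 n13603 = n14538 := rfl
theorem F57359 : act 1 n14538 = n14263 := d9_1 D14538 (iv D14263) (iv F53618)
theorem F57360 : act 4 n14538 = n13693 := d21_2 (iv F53620) D14538 (iv D13693) (iv F53586) F53585
theorem F57361 : act 6 n14538 = n14206 := d23_2 (iv F53621) D14538 (iv D14206)
theorem F57362 : act 7 n14538 = n13697 := d24_2 D13603 D14538 F54058 (iv D13252) (iv F49508)
theorem F57363 : act 8 n14538 = n13621 := d25_2 (iv F53622) D14538 (iv D13621)
theorem F57364 : act 2 n13811 = n14538 := d19_3 F57362 F54057 (iv F54487)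
def n14539 : Q := act 7 n13604
theorem D14539 : act 7 n13604 = n14539 := rfl
theorem F57365 : act 1 n14539 = n13809 := d13_1 D14539 (iv D13809) (iv F53623)
theorem F57366 : act 2 n14539 = n13966 := d19_1 D14539 (iv D13966) (iv F53624)
theorem F57367 : act 4 n14539 = n13962 := d28_1 D14539 (iv D13962) (iv F53626)
theorem F57368 : act 5 n14539 = n13807 := d31_1 D14539 (iv D13807) (iv F53627)
theorem F57369 : act 6 n14539 = n13605 := d33_1 D14539 (iv D13605) (iv F53628)
theorem F57370 : act 8 n14539 = n13622 := d35_2 D13604 D14539 (iv D13622) (iv D12609) (iv F49519)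
def n14540 : Q := act 3 n13605
theorem D14540 : act 3 n13605 = n14540 := rfl
theorem F57371 : act 5 n14540 = n13606 := d22_2 (iv F53630) D14540 (iv D13606)
theorem F57372 : act 7 n14540 = n14540 := d24_2 D13605 D14540 (iv D14540) (iv D13605) F49520
theorem F57373 : act 8 n14540 = n13623 := d25_2 (iv F53631) D14540 (iv D13623)
def n14541 : Q := act 2 n13606
theorem D14541 : act 2 n13606 = n14541 := rfl
theorem F57374 : act 3 n14541 = n13811 := d15_2 D13606 D14541 F57364 (iv D14538) F53619
theorem F57375 : act 4 n14541 = n13810 := d16_2 (iv F53632) D14541 F54484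
theorem F57376 : act 7 n14541 = n14541 := d19_2 F53633 D14541 (iv D14541)
theorem F57377 : act 8 n14541 = n13624 := d20_2 (iv F53634) D14541 (iv D13624)
def n14542 : Q := act 3 n13607
theorem D14542 : act 3 n13607 = n14542 := rfl
theorem F57378 : act 2 n14542 = n13799 := d15_1 D14542 (iv D13799) F50421 (iv F50041) (iv F53635)
theorem F57379 : act 4 n14542 = n13621 := d21_2 (iv F53636) D14542 (iv D13621) F49597 (iv F49531)
theorem F57380 : act 5 n14542 = n14202 := d22_2 (iv F53637) D14542 (iv D14202)
theorem F57381 : act 6 n14542 = n13854 := d23_2 (iv F53638) D14542 (iv D13854)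
theorem F57382 : act 7 n14542 = n14542 := d24_2 D13607 D14542 (iv D14542) (iv D13607) F49526
theorem F57383 : act 8 n14542 = n13693 := d25_2 (iv F53639) D14542 (iv D13693)
def n14543 : Q := act 7 n13608
theorem D14543 : act 7 n13608 = n14543 := rfl
theorem F57384 : act 0 n14543 = n13609 := d6_1 D14543 (iv D13609) (iv F53640)
theorem F57385 : act 3 n14543 = n13768 := d24_1 D14543 (iv D13768) F50295 (iv F49636) (iv F53641)
theorem F57386 : act 4 n14543 = n14252 := d28_1 D14543 (iv D14252) (iv F53642)
theorem F57387 : act 5 n14543 = n13680 := d31_1 D14543 (iv D13680) (iv F53643)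
theorem F57388 : act 6 n14543 = n13616 := d33_1 D14543 (iv D13616) (iv F53644)
theorem F57389 : act 8 n14543 = n13852 := d35_2 D13608 D14543 (iv D13852) (iv D12863) (iv F49538)
def n14544 : Q := act 3 n13610
theorem D14544 : act 3 n13610 = n14544 := rfl
theorem F57390 : act 1 n14544 = n14262 := d9_1 D14544 (iv D14262) (iv F53651)
theorem F57391 : act 4 n14544 = n13854 := d21_2 (iv F53653) D14544 (iv D13854) F50680 (iv F49551)
theorem F57392 : act 5 n14544 = n14203 := d22_2 (iv F53654) D14544 (iv D14203)
theorem F57393 : act 6 n14544 = n13621 := d23_2 (iv F53655) D14544 (iv D13621)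
theorem F57394 : act 7 n14544 = n14544 := d24_2 D13610 D14544 (iv D14544) (iv D13610) F49546
theorem F57395 : act 8 n14544 = n14206 := d25_2 (iv F53656) D14544 (iv D14206)
def n14545 : Q := act 7 n13611
theorem D14545 : act 7 n13611 = n14545 := rfl
theorem F57396 : act 1 n14545 = n13798 := d13_1 D14545 (iv D13798) (iv F53657)
theorem F57397 : act 2 n14545 = n13959 := d19_1 D14545 (iv D13959) (iv F53658)
theorem F57398 : act 3 n14545 = n14266 := d24_1 D14545 F56159 F52328 F49610 (iv F53659)
theorem F57399 : act 4 n14545 = n13797 := d28_1 D14545 (iv D13797) (iv F53660)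
theorem F57400 : act 5 n14545 = n13622 := d31_1 D14545 (iv D13622) (iv F53661)
theorem F57401 : act 6 n14545 = n13612 := d33_1 D14545 (iv D13612) (iv F53662)
theorem F57402 : act 8 n14545 = n13807 := d35_2 D13611 D14545 (iv D13807) (iv D12811) (iv F49559)
def n14546 : Q := act 3 n13612
theorem D14546 : act 3 n13612 = n14546 := rfl
theorem F57403 : act 1 n14546 = n13970 := d9_1 D14546 F54999 (iv F53663)
theorem F57404 : act 5 n14546 = n13613 := d22_2 (iv F53666) D14546 (iv D13613)
theorem F57405 : act 6 n14546 = n14266 := d23_2 F57401 D14546 (iv F57398)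
theorem F57406 : act 7 n14546 = n13625 := d24_2 D13612 D14546 (iv D13625) (iv D12613) (iv F49562)
theorem F57407 : act 8 n14546 = n14204 := d25_2 (iv F53667) D14546 (iv D14204)
def n14547 : Q := act 2 n13613
theorem D14547 : act 2 n13613 = n14547 := rfl
theorem F57408 : act 4 n14547 = n13970 := d16_2 (iv F53668) D14547 (iv D13970)
theorem F57409 : act 6 n14547 = n13624 := d18_2 (iv F53669) D14547 (iv D13624)
theorem F57410 : act 7 n14547 = n13626 := d19_2 (iv F53670) D14547 (iv D13626)
def n14548 : Q := act 8 n13614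
theorem D14548 : act 8 n13614 = n14548 := rfl
theorem F57411 : act 0 n14548 = n13617 := d7_1 D14548 (iv D13617) (iv F53671)
theorem F57412 : act 2 n14548 = n13939 := d20_1 D14548 (iv D13939) (iv F53672)
theorem F57413 : act 3 n14548 = n14548 := d25_1 D14548 (iv D14548) F53673
theorem F57414 : act 4 n14548 = n13964 := d29_1 D14548 (iv D13964) (iv F53674)
theorem F57415 : act 5 n14548 = n13615 := d32_1 D14548 (iv D13615) D13614
theorem F57416 : act 6 n14548 = n13937 := d34_1 D14548 (iv D13937) (iv F53675)
def n14549 : Q := act 7 n13615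
theorem D14549 : act 7 n13615 = n14549 := rfl
theorem F57417 : act 0 n14549 = n13618 := d6_1 D14549 (iv D13618) (iv F53677)
theorem F57418 : act 4 n14549 = n13616 := d28_1 D14549 (iv D13616) (iv F53679)
theorem F57419 : act 6 n14549 = n14252 := d33_1 D14549 (iv D14252) (iv F53680)
theorem F57420 : act 8 n14549 = n14254 := d35_2 D13615 D14549 (iv D14254) (iv D13296) (iv F49570)
def n14550 : Q := act 7 n13617
theorem D14550 : act 7 n13617 = n14550 := rfl
theorem F57421 : act 1 n14550 = n13620 := d13_1 D14550 (iv D13620) (iv F53683)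
theorem F57422 : act 2 n14550 = n13962 := d19_1 D14550 (iv D13962) (iv F53684)
theorem F57423 : act 4 n14550 = n13966 := d28_1 D14550 (iv D13966) (iv F53686)
theorem F57424 : act 5 n14550 = n13618 := d31_1 D14550 (iv D13618) (iv F53687)
theorem F57425 : act 6 n14550 = n13960 := d33_1 D14550 (iv D13960) (iv F53688)
theorem F57426 : act 8 n14550 = n13968 := d35_2 D13617 D14550 (iv D13968) (iv D12981) (iv F49579)
def n14551 : Q := act 3 n13618
theorem D14551 : act 3 n13618 = n14551 := rfl
theorem F57427 : act 1 n14551 = n13621 := d9_1 D14551 (iv D13621) (iv F53689)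
theorem F57428 : act 6 n14551 = n14262 := d23_2 (iv F53691) D14551 (iv D14262)
theorem F57429 : act 7 n14551 = n14551 := d24_2 D13618 D14551 (iv D14551) (iv D13618) F49581
theorem F57430 : act 8 n14551 = n14263 := d25_2 (iv F53692) D14551 (iv D14263)
def n14552 : Q := act 7 n13619
theorem D14552 : act 7 n13619 = n14552 := rfl
theorem F57431 : act 1 n14552 = n13960 := d13_1 D14552 (iv D13960) (iv F53693)
theorem F57432 : act 2 n14552 = n13622 := d19_1 D14552 (iv D13622) (iv F53694)
theorem F57433 : act 4 n14552 = n13968 := d28_1 D14552 (iv D13968) (iv F53696)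
theorem F57434 : act 5 n14552 = n13959 := d31_1 D14552 (iv D13959) (iv F53697)
theorem F57435 : act 6 n14552 = n13620 := d33_1 D14552 (iv D13620) (iv F53698)
theorem F57436 : act 8 n14552 = n13966 := d35_2 D13619 D14552 (iv D13966) (iv D12979) (iv F49591)
def n14553 : Q := act 3 n13620
theorem D14553 : act 3 n13620 = n14553 := rfl
theorem F57437 : act 5 n14553 = n13621 := d22_2 (iv F53701) D14553 (iv D13621)
theorem F57438 : act 7 n14553 = n14553 := d24_2 D13620 D14553 (iv D14553) (iv D13620) F49593
def n14554 : Q := act 2 n13621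
theorem D14554 : act 2 n13621 = n14554 := rfl
theorem F57439 : act 3 n14554 = n13624 := d15_2 D13621 D14554 (iv D13624) (iv D12611) (iv F49596)
theorem F57440 : act 4 n14554 = n13799 := d16_2 F57379 D14554 (iv F57378)
theorem F57441 : act 7 n14554 = n14554 := d19_2 F53702 D14554 (iv D14554)
theorem F57442 : act 8 n14554 = n13811 := d20_2 F57363 D14554 F57364
def n14555 : Q := act 2 n13623
theorem D14555 : act 2 n13623 = n14555 := rfl
theorem F57443 : act 1 n14555 = n13811 := d8_1 D14555 F57364 F57359 (iv F56842) F56841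
theorem F57444 : act 4 n14555 = n13808 := d16_2 F56790 D14555 (iv F56789)
theorem F57445 : act 5 n14555 = n13624 := d17_2 (iv F53705) D14555 (iv D13624)
theorem F57446 : act 6 n14555 = n14205 := d18_2 F56831 D14555 (iv F56829)
theorem F57447 : act 7 n14555 = n13627 := d19_2 (iv F53706) D14555 (iv D13627)
def n14556 : Q := act 1 n13624
theorem D14556 : act 1 n13624 = n14556 := rfl
theorem F57448 : act 4 n14556 = n14266 := d10_2 (iv F53707) D14556 (iv D14266)
theorem F57449 : act 5 n14556 = n13811 := d11_2 F57445 D14556 (iv F57443)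
theorem F57450 : act 7 n14556 = n13628 := d13_2 (iv F53708) D14556 (iv D13628)
def n14557 : Q := act 2 n13625
theorem D14557 : act 2 n13625 = n14557 := rfl
theorem F57451 : act 1 n14557 = n14057 := d8_1 D14557 (iv D14057) F51420 D13077 (iv F53709)
theorem F57452 : act 3 n14557 = n14557 := d15_2 D13625 D14557 (iv D14557) (iv D13625) F49612
theorem F57453 : act 5 n14557 = n13626 := d17_2 (iv F53710) D14557 (iv D13626)
theorem F57454 : act 6 n14557 = n14208 := d18_2 (iv F53711) D14557 F55988
theorem F57455 : act 8 n14557 = n14557 := d20_2 F53712 D14557 (iv D14557)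
theorem F57456 : act 4 n14056 = n14557 := d27_3 F57454 (iv F56859) F56861
def n14558 : Q := act 4 n13625
theorem D14558 : act 4 n13625 = n14558 := rfl
theorem F57457 : act 1 n14558 = n13626 := d10_1 D14558 F53714 (iv F53709)
theorem F57458 : act 2 n14558 = n14056 := d16_1 D14558 F57456 (iv D14557)
theorem F57459 : act 3 n14558 = n14558 := d21_1 D14558 (iv D14558) (iv D13625) F49613 D13625
theorem F57460 : act 5 n14558 = n14057 := d26_2 (iv F53710) D14558 F55376 F51428 (iv F49617)
theorem F57461 : act 6 n14558 = n13628 := d27_2 (iv F53711) D14558 F53724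
theorem F57462 : act 8 n14558 = n14558 := d29_2 F53712 D14558 (iv D14558)
def n14559 : Q := act 0 n13628
theorem D14559 : act 0 n13628 = n14559 := rfl
theorem F57463 : act 3 n14559 = n14559 := d2_2 F53723 D14559 (iv D14559)
theorem F57464 : act 4 n14559 = n14267 := d3_2 (iv F53724) D14559 (iv D14267)
theorem F57465 : act 5 n14559 = n13793 := d4_2 (iv F53725) D14559 F54422
theorem F57466 : act 8 n14559 = n14559 := d7_2 F53726 D14559 (iv D14559)
def n14560 : Q := act 8 n13629
theorem D14560 : act 8 n13629 = n14560 := rfl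
theorem F57467 : act 0 n14560 = n14560 := d7_1 D14560 (iv D14560) F53727
theorem F57468 : act 2 n14560 = n13972 := d20_1 D14560 (iv D13972) (iv F53728)
theorem F57469 : act 3 n14560 = n13630 := d25_1 D14560 (iv D13630) D13629
theorem F57470 : act 5 n14560 = n13633 := d32_1 D14560 (iv D13633) (iv F53729)
theorem F57471 : act 6 n14560 = n13973 := d34_1 D14560 (iv D13973) (iv F53730)
def n14561 : Q := act 1 n13631
theorem D14561 : act 1 n13631 = n14561 := rfl
theorem F57472 : act 3 n14561 = n13641 := d9_2 (iv F53737) D14561 (iv D13641)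
theorem F57473 : act 5 n14561 = n13672 := d11_2 (iv F53738) D14561 F53951
theorem F57474 : act 6 n14561 = n13634 := d12_2 (iv F53739) D14561 (iv D13634)
theorem F57475 : act 7 n14561 = n14416 := d13_2 (iv F53740) D14561 F56868
theorem F57476 : act 0 n13832 = n14561 := d4_3 F57473 F53950 D13832
def n14562 : Q := act 4 n13631
theorem D14562 : act 4 n13631 = n14562 := rfl
theorem F57477 : act 0 n14562 = n14562 := d3_1 D14562 (iv D14562) F53736
theorem F57478 : act 2 n14562 = n13632 := d16_1 D14562 (iv D13632) D13631
theorem F57479 : act 3 n14562 = n14149 := d21_1 D14562 F55791 F55288 (iv D13642) (iv F53737)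
theorem F57480 : act 6 n14562 = n13635 := d27_2 (iv F53739) D14562 (iv D13635)
theorem F57481 : act 7 n14562 = n14152 := d28_2 (iv F53740) D14562 F55804
def n14563 : Q := act 8 n13631
theorem D14563 : act 8 n13631 = n14563 := rfl
theorem F57482 : act 0 n14563 = n14563 := d7_1 D14563 (iv D14563) F53736
theorem F57483 : act 2 n14563 = n13633 := d20_1 D14563 (iv D13633) D13631
theorem F57484 : act 3 n14563 = n13643 := d25_1 D14563 (iv D13643) (iv F53737)
theorem F57485 : act 5 n14563 = n13972 := d32_1 D14563 (iv D13972) (iv F53738)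
theorem F57486 : act 6 n14563 = n13636 := d34_1 D14563 (iv D13636) (iv F53739)
def n14564 : Q := act 5 n13632
theorem D14564 : act 5 n13632 = n14564 := rfl
theorem F57487 : act 0 n14564 = n14564 := d4_1 D14564 (iv D14564) F53741
theorem F57488 : act 3 n14564 = n14564 := d22_1 D14564 (iv D14564) F53742
def n14565 : Q := act 8 n13632
theorem D14565 : act 8 n13632 = n14565 := rfl
theorem F57489 : act 0 n14565 = n14565 := d7_1 D14565 (iv D14565) F53741
theorem F57490 : act 3 n14565 = n14565 := d25_1 D14565 (iv D14565) F53742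
theorem F57491 : act 4 n14565 = n13633 := d29_1 D14565 (iv D13633) D13632
theorem F57492 : act 6 n14565 = n13638 := d34_1 D14565 (iv D13638) (iv F53743)
def n14566 : Q := act 7 n13633
theorem D14566 : act 7 n13633 = n14566 := rfl
theorem F57493 : act 0 n14566 = n14566 := d6_1 D14566 (iv D14566) F53744
theorem F57494 : act 3 n14566 = n13983 := d24_1 D14566 (iv D13983) F51104 (iv F49652) (iv F53745)
theorem F57495 : act 6 n14566 = n13639 := d33_1 D14566 (iv D13639) (iv F53746)
def n14567 : Q := act 0 n13634
theorem D14567 : act 0 n13634 = n14567 := rfl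
theorem F57496 : act 1 n14567 = n14567 := d0_2 D13634 D14567 (iv D14567) (iv D13634) F49653
theorem F57497 : act 3 n14567 = n13645 := d2_2 (iv F53747) D14567 (iv D13645)
theorem F57498 : act 5 n14567 = n13978 := d4_2 (iv F53748) D14567 (iv D13978)
theorem F57499 : act 6 n14567 = n13832 := d5_2 F57474 D14567 F57476
def n14568 : Q := act 4 n13634
theorem D14568 : act 4 n13634 = n14568 := rfl
theorem F57500 : act 1 n14568 = n13635 := d10_1 D14568 (iv D13635) D13634
theorem F57501 : act 7 n14568 = n14122 := d28_2 F54638 D14568 F55676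
theorem F57502 : act 3 n14118 = n14568 := d24_5 F57501 (iv D14122) (iv D13147) (iv F51714) D14118
theorem F57503 : act 5 n14120 = n14568 := d31_3 F57501 F55677 (iv F55670)
def n14569 : Q := act 8 n13634
theorem D14569 : act 8 n13634 = n14569 := rfl
theorem F57504 : act 1 n14569 = n13636 := d14_1 D14569 (iv D13636) D13634
theorem F57505 : act 3 n14569 = n13647 := d25_1 D14569 (iv D13647) (iv F53747)
theorem F57506 : act 5 n14569 = n13980 := d32_1 D14569 (iv D13980) (iv F53748)
def n14570 : Q := act 8 n13635
theorem D14570 : act 8 n13635 = n14570 := rfl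
theorem F57507 : act 0 n14570 = n14570 := d7_1 D14570 (iv D14570) F53749
theorem F57508 : act 2 n14570 = n13638 := d20_1 D14570 (iv D13638) (iv F53750)
theorem F57509 : act 3 n14570 = n14150 := d25_1 D14570 F55799 F53752
theorem F57510 : act 4 n14570 = n13636 := d29_1 D14570 (iv D13636) D13635
theorem F57511 : act 5 n14570 = n14151 := d32_1 D14570 F55801 F53753
def n14571 : Q := act 7 n13636
theorem D14571 : act 7 n13636 = n14571 := rfl
theorem F57512 : act 0 n14571 = n14571 := d6_1 D14571 (iv D14571) F53754
theorem F57513 : act 2 n14571 = n13639 := d19_1 D14571 (iv D13639) (iv F53755)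
theorem F57514 : act 5 n14571 = n13983 := d31_1 D14571 (iv D13983) (iv F53757)
def n14572 : Q := act 6 n13637
theorem D14572 : act 6 n13637 = n14572 := rfl
theorem F57515 : act 0 n14572 = n14572 := d5_1 D14572 (iv D14572) F53758
theorem F57516 : act 2 n14572 = n14142 := d18_1 D14572 F55765 (iv F53759)
theorem F57517 : act 3 n14572 = n14572 := d23_1 D14572 (iv D14572) F53760
theorem F57518 : act 4 n14572 = n13984 := d27_1 D14572 (iv D13984) (iv F53761)
theorem F57519 : act 7 n14572 = n14145 := d33_2 (iv F53762) D14572 F55776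
def n14573 : Q := act 8 n13637
theorem D14573 : act 8 n13637 = n14573 := rfl
theorem F57520 : act 0 n14573 = n14573 := d7_1 D14573 (iv D14573) F53758
theorem F57521 : act 2 n14573 = n14151 := d20_1 D14573 F55801 (iv F53759)
theorem F57522 : act 3 n14573 = n14573 := d25_1 D14573 (iv D14573) F53760
theorem F57523 : act 4 n14573 = n13985 := d29_1 D14573 (iv D13985) (iv F53761)
theorem F57524 : act 5 n14573 = n13638 := d32_1 D14573 (iv D13638) D13637
def n14574 : Q := act 7 n13638
theorem D14574 : act 7 n13638 = n14574 := rfl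
theorem F57525 : act 0 n14574 = n14574 := d6_1 D14574 (iv D14574) F53763
theorem F57526 : act 4 n14574 = n13639 := d28_1 D14574 (iv D13639) (iv F53765)
def n14575 : Q := act 8 n13641
theorem D14575 : act 8 n13641 = n14575 := rfl
theorem F57527 : act 0 n14575 = n13835 := d7_1 D14575 (iv D13835) (iv F53780)
theorem F57528 : act 1 n14575 = n13643 := d14_1 D14575 (iv D13643) D13641
theorem F57529 : act 2 n14575 = n13651 := d20_1 D14575 (iv D13651) (iv F53776)
theorem F57530 : act 4 n14575 = n13675 := d29_1 D14575 (iv D13675) F53781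
theorem F57531 : act 5 n14575 = n13673 := d32_1 D14575 (iv D13673) (iv F53777)
theorem F57532 : act 6 n14575 = n13647 := d34_1 D14575 (iv D13647) (iv F53778)
theorem F57533 : act 7 n14575 = n13856 := d35_1 D14575 (iv D13856) (iv D12873) (iv F49708) (iv F53779)
def n14576 : Q := act 8 n13645
theorem D14576 : act 8 n13645 = n14576 := rfl
theorem F57534 : act 0 n14576 = n13647 := d7_1 D14576 (iv D13647) D13645
theorem F57535 : act 1 n14576 = n14576 := d14_1 D14576 (iv D14576) F53800
theorem F57536 : act 2 n14576 = n13652 := d20_1 D14576 (iv D13652) (iv F53801)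
theorem F57537 : act 4 n14576 = n13841 := d29_1 D14576 (iv D13841) F53805
theorem F57538 : act 5 n14576 = n13987 := d32_1 D14576 (iv D13987) (iv F53802)
theorem F57539 : act 6 n14576 = n13835 := d34_1 D14576 (iv D13835) (iv F53803)
def n14577 : Q := act 3 n13646
theorem D14577 : act 3 n13646 = n14577 := rfl
theorem F57540 : act 0 n14577 = n13838 := d2_1 D14577 F54576 (iv F53806)
theorem F57541 : act 1 n14577 = n13648 := d9_1 D14577 (iv D13648) (iv F53807)
theorem F57542 : act 2 n14577 = n14181 := d15_1 D14577 F55904 F52033 F49766 (iv F53808)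
theorem F57543 : act 4 n14577 = n14118 := d21_2 D13646 D14577 F57502 (iv D14568) F53747
theorem F57544 : act 5 n14577 = n14577 := d22_2 F53809 D14577 (iv D14577)
theorem F57545 : act 6 n14577 = n13674 := d23_2 (iv F53810) D14577 F53963
theorem F57546 : act 7 n14577 = n14115 := d24_2 (iv F53811) D14577 F55652 F53830 (iv D13650)
def n14578 : Q := act 8 n13646
theorem D14578 : act 8 n13646 = n14578 := rfl
theorem F57547 : act 0 n14578 = n13841 := d7_1 D14578 (iv D13841) (iv F53806)
theorem F57548 : act 1 n14578 = n13649 := d14_1 D14578 (iv D13649) (iv F53807)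
theorem F57549 : act 2 n14578 = n13653 := d20_1 D14578 (iv D13653) (iv F53808)
theorem F57550 : act 4 n14578 = n13647 := d29_1 D14578 (iv D13647) D13646
theorem F57551 : act 5 n14578 = n14578 := d32_1 D14578 (iv D14578) F53809
theorem F57552 : act 6 n14578 = n13675 := d34_1 D14578 (iv D13675) (iv F53810)
def n14579 : Q := act 8 n13656
theorem D14579 : act 8 n13656 = n14579 := rfl
theorem F57553 : act 0 n14579 = n13657 := d7_1 D14579 (iv D13657) D13656
theorem F57554 : act 1 n14579 = n13659 := d14_1 D14579 (iv D13659) (iv F53863)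
theorem F57555 : act 2 n14579 = n14298 := d20_1 D14579 (iv D14298) (iv F53864)
theorem F57556 : act 3 n14579 = n13843 := d25_1 D14579 F54600 (iv F53865)
theorem F57557 : act 4 n14579 = n13687 := d29_1 D14579 (iv D13687) (iv F53866)
theorem F57558 : act 5 n14579 = n14579 := d32_1 D14579 (iv D14579) F53867
theorem F57559 : act 6 n14579 = n13844 := d34_1 D14579 F54605 (iv F53868)
theorem F57560 : act 7 n14249 = n14579 := d33_0 F57559 F54604 (iv F56108)
def n14580 : Q := act 7 n13657
theorem D14580 : act 7 n13657 = n14580 := rfl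
theorem F57561 : act 0 n14580 = n14249 := d6_1 D14580 F57560 F57553
theorem F57562 : act 1 n14580 = n13658 := d13_1 D14580 (iv D13658) (iv F53870)
theorem F57563 : act 2 n14580 = n14299 := d19_1 D14580 (iv D14299) (iv F53871)
theorem F57564 : act 3 n14580 = n14186 := d24_1 D14580 (iv D14186) (iv F53844) (iv F56904) F56900
theorem F57565 : act 4 n14580 = n13688 := d28_1 D14580 (iv D13688) (iv F53872)
theorem F57566 : act 5 n14580 = n14580 := d31_1 D14580 (iv D14580) F53873
theorem F57567 : act 6 n14580 = n14187 := d33_1 D14580 F55938 F54871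
theorem F57568 : act 8 n14580 = n14580 := d35_2 D13657 D14580 (iv D14580) (iv D13657) F49819
def n14581 : Q := act 2 n13661
theorem D14581 : act 2 n13661 = n14581 := rfl
theorem F57569 : act 0 n14581 = n13816 := d1_1 D14581 (iv D13816) (iv F53896)
theorem F57570 : act 3 n14581 = n13663 := d15_2 D13661 D14581 (iv D13663) (iv D12669) (iv F49899)
theorem F57571 : act 4 n14581 = n14451 := d16_2 (iv F53898) D14581 F57007
theorem F57572 : act 5 n14581 = n14154 := d17_2 (iv F53899) D14581 (iv D14154)
theorem F57573 : act 6 n14581 = n13826 := d18_2 (iv F53900) D14581 F54536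
theorem F57574 : act 7 n14581 = n14301 := d19_2 (iv F53901) D14581 (iv D14301)
def n14582 : Q := act 8 n13661
theorem D14582 : act 8 n13661 = n14582 := rfl
theorem F57575 : act 0 n14582 = n13818 := d7_1 D14582 (iv D13818) (iv F53896)
theorem F57576 : act 1 n14582 = n14582 := d14_1 D14582 (iv D14582) F53897
theorem F57577 : act 3 n14582 = n13662 := d25_1 D14582 (iv D13662) D13661
theorem F57578 : act 4 n14582 = n14475 := d29_1 D14582 (iv D14475) (iv F53898)
theorem F57579 : act 5 n14582 = n14156 := d32_1 D14582 (iv D14156) (iv F53899)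
theorem F57580 : act 6 n14582 = n13834 := d34_1 D14582 (iv D13834) (iv F53900)
def n14583 : Q := act 8 n13663
theorem D14583 : act 8 n13663 = n14583 := rfl
theorem F57581 : act 0 n14583 = n13820 := d7_1 D14583 (iv D13820) (iv F53909)
theorem F57582 : act 2 n14583 = n13664 := d20_1 D14583 (iv D13664) D13663
theorem F57583 : act 4 n14583 = n13822 := d29_1 D14583 (iv D13822) (iv F53910)
theorem F57584 : act 5 n14583 = n14159 := d32_1 D14583 (iv D14159) (iv F53911)
theorem F57585 : act 6 n14583 = n13828 := d34_1 D14583 (iv D13828) (iv F53912)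
def n14584 : Q := act 7 n13664
theorem D14584 : act 7 n13664 = n14584 := rfl
theorem F57586 : act 0 n14584 = n13821 := d6_1 D14584 (iv D13821) (iv F53914)
theorem F57587 : act 1 n14584 = n13677 := d13_1 D14584 (iv D13677) (iv F53915)
theorem F57588 : act 3 n14584 = n13713 := d24_1 D14584 (iv D13713) F50130 (iv F49914) (iv F53916)
theorem F57589 : act 4 n14584 = n13823 := d28_1 D14584 (iv D13823) (iv F53917)
theorem F57590 : act 5 n14584 = n14161 := d31_1 D14584 (iv D14161) (iv F53918)
theorem F57591 : act 6 n14584 = n13831 := d33_1 D14584 (iv D13831) (iv F53919)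
theorem F57592 : act 8 n14584 = n13671 := d35_2 D13664 D14584 (iv D13671) (iv D12675) (iv F49908)
def n14585 : Q := act 1 n13665
theorem D14585 : act 1 n13665 = n14585 := rfl
theorem F57593 : act 2 n14585 = n13678 := d8_2 D13665 D14585 (iv D13678) (iv D12686) (iv F49916)
theorem F57594 : act 3 n14585 = n14318 := d9_2 (iv F53921) D14585 (iv D14318)
theorem F57595 : act 4 n14585 = n13819 := d10_2 (iv F53922) D14585 (iv D13819)
theorem F57596 : act 6 n14585 = n13667 := d12_2 (iv F53923) D14585 (iv D13667)
theorem F57597 : act 7 n14585 = n13824 := d13_2 (iv F53924) D14585 F54530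
def n14586 : Q := act 8 n13665
theorem D14586 : act 8 n13665 = n14586 := rfl
theorem F57598 : act 0 n14586 = n13822 := d7_1 D14586 (iv D13822) (iv F53920)
theorem F57599 : act 2 n14586 = n13666 := d20_1 D14586 (iv D13666) D13665
theorem F57600 : act 3 n14586 = n14320 := d25_1 D14586 (iv D14320) (iv F53921)
theorem F57601 : act 4 n14586 = n13820 := d29_1 D14586 (iv D13820) (iv F53922)
theorem F57602 : act 6 n14586 = n13669 := d34_1 D14586 (iv D13669) (iv F53923)
def n14587 : Q := act 7 n13666
theorem D14587 : act 7 n13666 = n14587 := rfl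
theorem F57603 : act 0 n14587 = n13823 := d6_1 D14587 (iv D13823) (iv F53925)
theorem F57604 : act 1 n14587 = n13680 := d13_1 D14587 (iv D13680) (iv F53926)
theorem F57605 : act 3 n14587 = n13722 := d24_1 D14587 (iv D13722) F50148 (iv F49925) (iv F53927)
theorem F57606 : act 4 n14587 = n13821 := d28_1 D14587 (iv D13821) (iv F53928)
theorem F57607 : act 6 n14587 = n13671 := d33_1 D14587 (iv D13671) (iv F53929)
theorem F57608 : act 8 n14587 = n13831 := d35_2 D13666 D14587 (iv D13831) (iv D12836) (iv F49919)
def n14588 : Q := act 0 n13667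
theorem D14588 : act 0 n13667 = n14588 := rfl
theorem F57609 : act 1 n14588 = n13714 := d0_2 D13667 D14588 F54121 (iv D12832) (iv F49926)
theorem F57610 : act 2 n14588 = n13681 := d1_2 (iv F53930) D14588 (iv D13681)
theorem F57611 : act 3 n14588 = n14323 := d2_2 (iv F53931) D14588 (iv D14323)
theorem F57612 : act 5 n14588 = n13717 := d4_2 (iv F53932) D14588 F54131
def n14589 : Q := act 8 n13667
theorem D14589 : act 8 n13667 = n14589 := rfl
theorem F57613 : act 1 n14589 = n13669 := d14_1 D14589 (iv D13669) D13667
theorem F57614 : act 2 n14589 = n13682 := d20_1 D14589 (iv D13682) (iv F53930)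
theorem F57615 : act 3 n14589 = n14325 := d25_1 D14589 (iv D14325) (iv F53931)
theorem F57616 : act 5 n14589 = n14163 := d32_1 D14589 (iv D14163) (iv F53932)
def n14590 : Q := act 3 n13668
theorem D14590 : act 3 n13668 = n14590 := rfl
theorem F57617 : act 0 n14590 = n13826 := d2_1 D14590 (iv D13826) (iv F53933)
theorem F57618 : act 2 n14590 = n13672 := d15_1 D14590 (iv D13672) F49940 (iv F49931) (iv F53934)
theorem F57619 : act 4 n14590 = n14326 := d21_2 D13668 D14590 (iv D14326) (iv D13392) (iv F49927)
theorem F57620 : act 6 n14590 = n13816 := d23_2 (iv F53935) D14590 F54504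
theorem F57621 : act 7 n14590 = n14418 := d24_2 (iv F53936) D14590 F56876 F53205 (iv F50527)
def n14591 : Q := act 8 n13668
theorem D14591 : act 8 n13668 = n14591 := rfl
theorem F57622 : act 0 n14591 = n13828 := d7_1 D14591 (iv D13828) (iv F53933)
theorem F57623 : act 2 n14591 = n13670 := d20_1 D14591 (iv D13670) (iv F53934)
theorem F57624 : act 4 n14591 = n13669 := d29_1 D14591 (iv D13669) D13668
theorem F57625 : act 6 n14591 = n13820 := d34_1 D14591 (iv D13820) (iv F53935)
def n14592 : Q := act 7 n13669
theorem D14592 : act 7 n13669 = n14592 := rfl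
theorem F57626 : act 0 n14592 = n13829 := d6_1 D14592 (iv D13829) (iv F53937)
theorem F57627 : act 2 n14592 = n13671 := d19_1 D14592 (iv D13671) (iv F53938)
theorem F57628 : act 5 n14592 = n14167 := d31_1 D14592 (iv D14167) (iv F53940)
def n14593 : Q := act 7 n13670
theorem D14593 : act 7 n13670 = n14593 := rfl
theorem F57629 : act 0 n14593 = n13831 := d6_1 D14593 (iv D13831) (iv F53941)
theorem F57630 : act 1 n14593 = n13684 := d13_1 D14593 (iv D13684) (iv F53942)
theorem F57631 : act 3 n14593 = n13869 := d24_1 D14593 (iv D13869) F50717 (iv F49954) (iv F53943)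
theorem F57632 : act 4 n14593 = n13671 := d28_1 D14593 (iv D13671) (iv F53944)
theorem F57633 : act 6 n14593 = n13821 := d33_1 D14593 (iv D13821) (iv F53945)
theorem F57634 : act 8 n14593 = n13823 := d35_2 D13670 D14593 (iv D13823) (iv D12831) (iv F49933)
def n14594 : Q := act 8 n13672
theorem D14594 : act 8 n13672 = n14594 := rfl
theorem F57635 : act 0 n14594 = n13834 := d7_1 D14594 (iv D13834) (iv F53950)
theorem F57636 : act 1 n14594 = n13972 := d14_1 D14594 (iv D13972) (iv F53951)
theorem F57637 : act 3 n14594 = n13673 := d25_1 D14594 (iv D13673) D13672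
theorem F57638 : act 4 n14594 = n14336 := d29_1 D14594 (iv D14336) (iv F53952)
theorem F57639 : act 6 n14594 = n13818 := d34_1 D14594 (iv D13818) (iv F53953)
def n14595 : Q := act 4 n13674
theorem D14595 : act 4 n13674 = n14595 := rfl
theorem F57640 : act 0 n14595 = n13837 := d3_1 D14595 (iv D13837) (iv F53961)
theorem F57641 : act 1 n14595 = n14149 := d10_1 D14595 F55791 F55286
theorem F57642 : act 2 n14595 = n14180 := d16_1 D14595 (iv D14180) (iv F53962)
theorem F57643 : act 5 n14595 = n14343 := d26_2 D13674 D14595 (iv D14343) (iv D13406) (iv F49957)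
theorem F57644 : act 6 n14595 = n14118 := d27_2 F57545 D14595 (iv F57543)
theorem F57645 : act 7 n14595 = n14116 := d28_2 (iv F54848) D14595 F55658
def n14596 : Q := act 8 n13678
theorem D14596 : act 8 n13678 = n14596 := rfl
theorem F57646 : act 1 n14596 = n13679 := d14_1 D14596 (iv D13679) D13678
theorem F57647 : act 3 n14596 = n13685 := d25_1 D14596 (iv D13685) (iv F53978)
theorem F57648 : act 4 n14596 = n13845 := d29_1 D14596 (iv D13845) (iv F53979)
theorem F57649 : act 6 n14596 = n13682 := d34_1 D14596 (iv D13682) (iv F53980)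
def n14597 : Q := act 7 n13679
theorem D14597 : act 7 n13679 = n14597 := rfl
theorem F57650 : act 0 n14597 = n13690 := d6_1 D14597 (iv D13690) (iv F53982)
theorem F57651 : act 2 n14597 = n13680 := d19_1 D14597 (iv D13680) (iv F53983)
theorem F57652 : act 4 n14597 = n13846 := d28_1 D14597 (iv D13846) (iv F53985)
theorem F57653 : act 6 n14597 = n13683 := d33_1 D14597 (iv D13683) (iv F53986)
theorem F57654 : act 8 n14597 = n13851 := d35_2 D13679 D14597 (iv D13851) (iv D12861) (iv F49990)
def n14598 : Q := act 8 n13681
theorem D14598 : act 8 n13681 = n14598 := rfl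
theorem F57655 : act 0 n14598 = n13682 := d7_1 D14598 (iv D13682) D13681
theorem F57656 : act 1 n14598 = n13691 := d14_1 D14598 (iv D13691) (iv F53992)
theorem F57657 : act 3 n14598 = n13687 := d25_1 D14598 (iv D13687) (iv F53993)
theorem F57658 : act 5 n14598 = n13770 := d32_1 D14598 (iv D13770) (iv F53994)
def n14599 : Q := act 7 n13682
theorem D14599 : act 7 n13682 = n14599 := rfl
theorem F57659 : act 1 n14599 = n13683 := d13_1 D14599 (iv D13683) (iv F53995)
theorem F57660 : act 5 n14599 = n14192 := d31_1 D14599 (iv D14192) (iv F53997)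
def n14600 : Q := act 3 n13683
theorem D14600 : act 3 n13683 = n14600 := rfl
theorem F57661 : act 0 n14600 = n13693 := d2_1 D14600 (iv D13693) (iv F53998)
theorem F57662 : act 2 n14600 = n13782 := d15_1 D14600 (iv D13782) F50333 (iv F50006) (iv F53999)
theorem F57663 : act 5 n14600 = n14194 := d22_2 (iv F54000) D14600 (iv D14194)
theorem F57664 : act 7 n14600 = n13689 := d24_2 D13683 D14600 (iv D13689) (iv D12699) (iv F49999)
def n14601 : Q := act 7 n13685
theorem D14601 : act 7 n13685 = n14601 := rfl
theorem F57665 : act 0 n14601 = n14251 := d6_1 D14601 F56681 F56676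
theorem F57666 : act 1 n14601 = n13686 := d13_1 D14601 (iv D13686) (iv F54006)
theorem F57667 : act 2 n14601 = n14384 := d19_1 D14601 (iv D14384) (iv F54007)
theorem F57668 : act 4 n14601 = n14187 := d28_1 D14601 F55938 F54869
theorem F57669 : act 6 n14601 = n13688 := d33_1 D14601 (iv D13688) (iv F54008)
theorem F57670 : act 8 n14601 = n14601 := d35_2 D13685 D14601 (iv D14601) (iv D13685) F50020
def n14602 : Q := act 3 n13686
theorem D14602 : act 3 n13686 = n14602 := rfl
theorem F57671 : act 0 n14602 = n13694 := d2_1 D14602 (iv D13694) (iv F54009)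
theorem F57672 : act 2 n14602 = n13790 := d15_1 D14602 (iv D13790) F50382 (iv F50026) (iv F54010)
theorem F57673 : act 4 n14602 = n14198 := d21_2 (iv F54011) D14602 (iv D14198) F52098 D13242
theorem F57674 : act 6 n14602 = n13689 := d23_2 (iv F54012) D14602 (iv D13689)
theorem F57675 : act 8 n14602 = n14602 := d25_2 F54013 D14602 (iv D14602)
def n14603 : Q := act 7 n13687
theorem D14603 : act 7 n13687 = n14603 := rfl
theorem F57676 : act 0 n14603 = n13688 := d6_1 D14603 (iv D13688) (iv F54014)
theorem F57677 : act 1 n14603 = n13695 := d13_1 D14603 (iv D13695) (iv F54015)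
theorem F57678 : act 2 n14603 = n14386 := d19_1 D14603 (iv D14386) (iv F54016)
theorem F57679 : act 4 n14603 = n14249 := d28_1 D14603 F57560 F57557
theorem F57680 : act 5 n14603 = n13789 := d31_1 D14603 (iv D13789) (iv F54017)
theorem F57681 : act 6 n14603 = n14251 := d33_1 D14603 F56681 F56680
theorem F57682 : act 8 n14603 = n14603 := d35_2 D13687 D14603 (iv D14603) (iv D13687) F50032
def n14604 : Q := act 3 n13688
theorem D14604 : act 3 n13688 = n14604 := rfl
theorem F57683 : act 1 n14604 = n13689 := d9_1 D14604 (iv D13689) (iv F54018)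
theorem F57684 : act 5 n14604 = n14200 := d22_2 (iv F54020) D14604 (iv D14200)
theorem F57685 : act 8 n14604 = n14604 := d25_2 F54021 D14604 (iv D14604)
def n14605 : Q := act 4 n13689
theorem D14605 : act 4 n13689 = n14605 := rfl
theorem F57686 : act 0 n14605 = n13697 := d3_1 D14605 (iv D13697) (iv F54022)
theorem F57687 : act 2 n14605 = n13793 := d16_1 D14605 (iv D13793) (iv F54023)
theorem F57688 : act 3 n14605 = n14197 := d21_1 D14605 F55963 (iv F53876) F53877 D13689
theorem F57689 : act 6 n14605 = n14198 := d27_2 F57674 D14605 (iv F57673)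
theorem F57690 : act 8 n14605 = n14605 := d29_2 F54025 D14605 (iv D14605)
def n14606 : Q := act 3 n13690
theorem D14606 : act 3 n13690 = n14606 := rfl
theorem F57691 : act 1 n14606 = n14265 := d9_1 D14606 (iv F56766) F56764
theorem F57692 : act 2 n14606 = n13803 := d15_1 D14606 (iv D13803) F50442 (iv F50051) (iv F54026)
theorem F57693 : act 4 n14606 = n14206 := d21_2 (iv F54027) D14606 (iv D14206) (iv F53593) F53592
theorem F57694 : act 6 n14606 = n13693 := d23_2 (iv F54028) D14606 (iv D13693)
theorem F57695 : act 7 n14606 = n13694 := d24_2 D13690 D14606 (iv D13694) (iv D12707) (iv F50047)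
theorem F57696 : act 8 n14606 = n13854 := d25_2 (iv F54029) D14606 (iv D13854)
def n14607 : Q := act 7 n13691
theorem D14607 : act 7 n13691 = n14607 := rfl
theorem F57697 : act 0 n14607 = n13692 := d6_1 D14607 (iv D13692) (iv F54030)
theorem F57698 : act 2 n14607 = n13768 := d19_1 D14607 (iv D13768) (iv F54031)
theorem F57699 : act 5 n14607 = n13772 := d31_1 D14607 (iv D13772) (iv F54033)
def n14608 : Q := act 3 n13692
theorem D14608 : act 3 n13692 = n14608 := rfl
theorem F57700 : act 1 n14608 = n13693 := d9_1 D14608 (iv D13693) (iv F54034)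
theorem F57701 : act 4 n14608 = n14263 := d21_2 F56715 D14608 (iv D14263) (iv F53608) (iv F56714)
theorem F57702 : act 5 n14608 = n13803 := d22_2 (iv F54036) D14608 (iv D13803)
theorem F57703 : act 6 n14608 = n14265 := d23_2 F56769 D14608 (iv F56766)
theorem F57704 : act 7 n14608 = n13696 := d24_2 D13692 D14608 (iv D13696) (iv D12709) (iv F50060)
def n14609 : Q := act 3 n13695
theorem D14609 : act 3 n13695 = n14609 := rfl
theorem F57705 : act 0 n14609 = n13696 := d2_1 D14609 (iv D13696) (iv F54045)
theorem F57706 : act 4 n14609 = n14257 := d21_2 (iv F54047) D14609 (iv D14257) F52287 D13302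
theorem F57707 : act 5 n14609 = n13790 := d22_2 (iv F54048) D14609 (iv D13790)
theorem F57708 : act 6 n14609 = n14259 := d23_2 (iv F54049) D14609 F56139
theorem F57709 : act 8 n14609 = n14609 := d25_2 F54050 D14609 (iv D14609)
def n14610 : Q := act 3 n13698
theorem D14610 : act 3 n13698 = n14610 := rfl
theorem F57710 : act 0 n14610 = n13855 := d2_1 D14610 (iv D13855) (iv F54061)
theorem F57711 : act 1 n14610 = n14610 := d9_1 D14610 (iv D14610) F54062
theorem F57712 : act 5 n14610 = n13699 := d22_2 (iv F54065) D14610 (iv D13699)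
theorem F57713 : act 7 n14610 = n14567 := d24_2 D13698 D14610 F57497 F53804 (iv F50093)
def n14611 : Q := act 8 n13698
theorem D14611 : act 8 n13698 = n14611 := rfl
theorem F57714 : act 0 n14611 = n13856 := d7_1 D14611 (iv D13856) (iv F54061)
theorem F57715 : act 1 n14611 = n14611 := d14_1 D14611 (iv D14611) F54062
theorem F57716 : act 2 n14611 = n13705 := d20_1 D14611 (iv D13705) (iv F54063)
theorem F57717 : act 4 n14611 = n13842 := d29_1 D14611 F54596 (iv F54064)
theorem F57718 : act 5 n14611 = n13700 := d32_1 D14611 (iv D13700) (iv F54065)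
theorem F57719 : act 7 n14611 = n13835 := d35_1 D14611 (iv D13835) F50560 (iv F50095) D13698
def n14612 : Q := act 2 n13699
theorem D14612 : act 2 n13699 = n14612 := rfl
theorem F57720 : act 0 n14612 = n13857 := d1_1 D14612 (iv D13857) (iv F54066)
theorem F57721 : act 3 n14612 = n13706 := d15_2 D13699 D14612 (iv D13706) (iv D12717) (iv F50098)
theorem F57722 : act 6 n14612 = n13701 := d18_2 (iv F54068) D14612 (iv D13701)
def n14613 : Q := act 4 n13699
theorem D14613 : act 4 n13699 = n14613 := rfl
theorem F57723 : act 0 n14613 = n13858 := d3_1 D14613 (iv D13858) (iv F54066)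
theorem F57724 : act 1 n14613 = n14613 := d10_1 D14613 (iv D14613) F54067
theorem F57725 : act 3 n14613 = n14059 := d21_1 D14613 (iv D14059) (iv D13079) (iv F50099) D13699
theorem F57726 : act 6 n14613 = n13702 := d27_2 (iv F54068) D14613 (iv D13702)
def n14614 : Q := act 8 n13699
theorem D14614 : act 8 n13699 = n14614 := rfl
theorem F57727 : act 0 n14614 = n13859 := d7_1 D14614 (iv D13859) (iv F54066)
theorem F57728 : act 1 n14614 = n14614 := d14_1 D14614 (iv D14614) F54067
theorem F57729 : act 3 n14614 = n13700 := d25_1 D14614 (iv D13700) D13699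
theorem F57730 : act 6 n14614 = n13703 := d34_1 D14614 (iv D13703) (iv F54068)
def n14615 : Q := act 1 n13701
theorem D14615 : act 1 n13701 = n14615 := rfl
theorem F57731 : act 2 n14615 = n14615 := d8_2 D13701 D14615 (iv D14615) (iv D13701) F50102
theorem F57732 : act 3 n14615 = n13708 := d9_2 (iv F54076) D14615 (iv D13708)
def n14616 : Q := act 4 n13701
theorem D14616 : act 4 n13701 = n14616 := rfl
theorem F57733 : act 0 n14616 = n13861 := d3_1 D14616 (iv D13861) (iv F54075)
theorem F57734 : act 2 n14616 = n13702 := d16_1 D14616 (iv D13702) D13701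
def n14617 : Q := act 8 n13701
theorem D14617 : act 8 n13701 = n14617 := rfl
theorem F57735 : act 0 n14617 = n13862 := d7_1 D14617 (iv D13862) (iv F54075)
theorem F57736 : act 2 n14617 = n13703 := d20_1 D14617 (iv D13703) D13701
theorem F57737 : act 3 n14617 = n13710 := d25_1 D14617 (iv D13710) (iv F54076)
def n14618 : Q := act 5 n13702
theorem D14618 : act 5 n13702 = n14618 := rfl
theorem F57738 : act 0 n14618 = n13863 := d4_1 D14618 (iv D13863) (iv F54077)
theorem F57739 : act 1 n14618 = n14618 := d11_1 D14618 (iv D14618) F54078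
theorem F57740 : act 3 n14618 = n14061 := d22_1 D14618 (iv D14061) (iv F54079)
def n14619 : Q := act 8 n13702
theorem D14619 : act 8 n13702 = n14619 := rfl
theorem F57741 : act 0 n14619 = n13864 := d7_1 D14619 (iv D13864) (iv F54077)
theorem F57742 : act 1 n14619 = n14619 := d14_1 D14619 (iv D14619) F54078
theorem F57743 : act 3 n14619 = n14062 := d25_1 D14619 (iv D14062) (iv F54079)
theorem F57744 : act 4 n14619 = n13703 := d29_1 D14619 (iv D13703) D13702
def n14620 : Q := act 7 n13703
theorem D14620 : act 7 n13703 = n14620 := rfl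
theorem F57745 : act 0 n14620 = n13865 := d6_1 D14620 (iv D13865) (iv F54080)
theorem F57746 : act 1 n14620 = n14620 := d13_1 D14620 (iv D14620) F54081
def n14621 : Q := act 2 n13704
theorem D14621 : act 2 n13704 = n14621 := rfl
theorem F57747 : act 0 n14621 = n13819 := d1_1 D14621 F54515 (iv F54083)
theorem F57748 : act 5 n14621 = n13706 := d17_2 (iv F54085) D14621 (iv D13706)
theorem F57749 : act 7 n14621 = n13714 := d19_2 (iv F54086) D14621 (iv D13714)
def n14622 : Q := act 8 n13704
theorem D14622 : act 8 n13704 = n14622 := rfl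
theorem F57750 : act 0 n14622 = n13845 := d7_1 D14622 (iv D13845) (iv F54083)
theorem F57751 : act 1 n14622 = n13756 := d14_1 D14622 (iv D13756) (iv F54084)
theorem F57752 : act 3 n14622 = n13705 := d25_1 D14622 (iv D13705) D13704
theorem F57753 : act 5 n14622 = n13707 := d32_1 D14622 (iv D13707) (iv F54085)
def n14623 : Q := act 1 n13706
theorem D14623 : act 1 n13706 = n14623 := rfl
theorem F57754 : act 0 n14623 = n14157 := d0_1 D14623 (iv D14157) F51960 (iv F50708) (iv F54092)
theorem F57755 : act 2 n14623 = n13757 := d8_2 D13706 D14623 (iv D13757) (iv D12756) (iv F50112)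
theorem F57756 : act 4 n14623 = n14126 := d10_2 (iv F54093) D14623 (iv D14126)
theorem F57757 : act 6 n14623 = n13708 := d12_2 (iv F54094) D14623 (iv D13708)
theorem F57758 : act 7 n14623 = n13717 := d13_2 (iv F54095) D14623 (iv D13717)
def n14624 : Q := act 8 n13706
theorem D14624 : act 8 n13706 = n14624 := rfl
theorem F57759 : act 0 n14624 = n13867 := d7_1 D14624 (iv D13867) (iv F54092)
theorem F57760 : act 2 n14624 = n13707 := d20_1 D14624 (iv D13707) D13706
theorem F57761 : act 4 n14624 = n13924 := d29_1 D14624 F54837 (iv F54093)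
theorem F57762 : act 6 n14624 = n13710 := d34_1 D14624 (iv D13710) (iv F54094)
def n14625 : Q := act 7 n13707
theorem D14625 : act 7 n13707 = n14625 := rfl
theorem F57763 : act 0 n14625 = n13869 := d6_1 D14625 (iv D13869) (iv F54096)
theorem F57764 : act 1 n14625 = n13759 := d13_1 D14625 (iv D13759) (iv F54097)
theorem F57765 : act 3 n14625 = n13831 := d24_1 D14625 (iv D13831) F50543 (iv F50120) (iv F54098)
theorem F57766 : act 4 n14625 = n13902 := d28_1 D14625 F54762 (iv F54099)
theorem F57767 : act 6 n14625 = n13713 := d33_1 D14625 (iv D13713) (iv F54100)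
theorem F57768 : act 8 n14625 = n13722 := d35_2 D13707 D14625 (iv D13722) (iv D12726) (iv F50115)
def n14626 : Q := act 0 n13708
theorem D14626 : act 0 n13708 = n14626 := rfl
theorem F57769 : act 1 n14626 = n13870 := d0_2 D13708 D14626 (iv D13870) (iv D12884) (iv F50121)
theorem F57770 : act 2 n14626 = n13760 := d1_2 (iv F54101) D14626 (iv D13760)
theorem F57771 : act 6 n14626 = n14157 := d5_2 F57757 D14626 (iv F57754)
theorem F57772 : act 7 n14626 = n13723 := d6_2 (iv F54102) D14626 (iv D13723)
def n14627 : Q := act 4 n13708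
theorem D14627 : act 4 n13708 = n14627 := rfl
theorem F57773 : act 1 n14627 = n13709 := d10_1 D14627 (iv D13709) D13708
theorem F57774 : act 2 n14627 = n13761 := d16_1 D14627 (iv D13761) (iv F54101)
theorem F57775 : act 6 n14627 = n14126 := d27_2 F57757 D14627 (iv F57756)
theorem F57776 : act 7 n14627 = n13724 := d28_2 (iv F54102) D14627 (iv D13724)
def n14628 : Q := act 8 n13708
theorem D14628 : act 8 n13708 = n14628 := rfl
theorem F57777 : act 1 n14628 = n13710 := d14_1 D14628 (iv D13710) D13708
theorem F57778 : act 2 n14628 = n13762 := d20_1 D14628 (iv D13762) (iv F54101)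
def n14629 : Q := act 3 n13709
theorem D14629 : act 3 n13709 = n14629 := rfl
theorem F57779 : act 0 n14629 = n13873 := d2_1 D14629 (iv D13873) (iv F54103)
theorem F57780 : act 2 n14629 = n14064 := d15_1 D14629 (iv D14064) F51457 (iv F50125) (iv F54104)
theorem F57781 : act 6 n14629 = n14123 := d23_2 (iv F54105) D14629 F55678
def n14630 : Q := act 5 n13709
theorem D14630 : act 5 n13709 = n14630 := rfl
theorem F57782 : act 0 n14630 = n13874 := d4_1 D14630 (iv D13874) (iv F54103)
theorem F57783 : act 2 n14630 = n13711 := d17_1 D14630 (iv D13711) (iv F54104)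
theorem F57784 : act 7 n14630 = n13727 := d31_2 (iv F54106) D14630 (iv D13727)
def n14631 : Q := act 8 n13709
theorem D14631 : act 8 n13709 = n14631 := rfl
theorem F57785 : act 0 n14631 = n13875 := d7_1 D14631 (iv D13875) (iv F54103)
theorem F57786 : act 2 n14631 = n13712 := d20_1 D14631 (iv D13712) (iv F54104)
theorem F57787 : act 4 n14631 = n13710 := d29_1 D14631 (iv D13710) D13709
theorem F57788 : act 6 n14631 = n13924 := d34_1 D14631 F54837 (iv F54105)
def n14632 : Q := act 7 n13710
theorem D14632 : act 7 n13710 = n14632 := rfl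
theorem F57789 : act 0 n14632 = n13876 := d6_1 D14632 (iv D13876) (iv F54107)
theorem F57790 : act 2 n14632 = n13713 := d19_1 D14632 (iv D13713) (iv F54108)
theorem F57791 : act 8 n14632 = n13729 := d35_2 D13710 D14632 (iv D13729) (iv D12729) (iv F50122)
def n14633 : Q := act 8 n13711
theorem D14633 : act 8 n13711 = n14633 := rfl
theorem F57792 : act 0 n14633 = n13878 := d7_1 D14633 (iv D13878) (iv F54109)
theorem F57793 : act 1 n14633 = n13765 := d14_1 D14633 (iv D13765) (iv F54110)
theorem F57794 : act 3 n14633 = n13911 := d25_1 D14633 F54800 (iv F54111)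
theorem F57795 : act 5 n14633 = n13712 := d32_1 D14633 (iv D13712) D13711
def n14634 : Q := act 7 n13712
theorem D14634 : act 7 n13712 = n14634 := rfl
theorem F57796 : act 0 n14634 = n13879 := d6_1 D14634 (iv D13879) (iv F54113)
theorem F57797 : act 1 n14634 = n13766 := d13_1 D14634 (iv D13766) (iv F54114)
theorem F57798 : act 3 n14634 = n13886 := d24_1 D14634 (iv D13886) F50742 D12911 (iv F54115)
theorem F57799 : act 4 n14634 = n13713 := d28_1 D14634 (iv D13713) (iv F54116)
theorem F57800 : act 6 n14634 = n13902 := d33_1 D14634 F54762 (iv F54117)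
theorem F57801 : act 8 n14634 = n13732 := d35_2 D13712 D14634 (iv D13732) (iv D12731) (iv F50127)
def n14635 : Q := act 4 n13714
theorem D14635 : act 4 n13714 = n14635 := rfl
theorem F57802 : act 0 n14635 = n13824 := d3_1 D14635 (iv D13824) (iv F54121)
theorem F57803 : act 2 n14635 = n13715 := d16_1 D14635 (iv D13715) D13714
def n14636 : Q := act 8 n13714
theorem D14636 : act 8 n13714 = n14636 := rfl
theorem F57804 : act 0 n14636 = n13825 := d7_1 D14636 (iv D13825) (iv F54121)
theorem F57805 : act 2 n14636 = n13716 := d20_1 D14636 (iv D13716) D13714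
theorem F57806 : act 3 n14636 = n14459 := d25_1 D14636 (iv D14459) (iv F54122)
theorem F57807 : act 5 n14636 = n13719 := d32_1 D14636 (iv D13719) (iv F54123)
def n14637 : Q := act 8 n13715
theorem D14637 : act 8 n13715 = n14637 := rfl
theorem F57808 : act 0 n14637 = n13848 := d7_1 D14637 (iv D13848) (iv F54124)
theorem F57809 : act 1 n14637 = n13767 := d14_1 D14637 (iv D13767) (iv F54125)
theorem F57810 : act 3 n14637 = n14637 := d25_1 D14637 (iv D14637) F54126
theorem F57811 : act 4 n14637 = n13716 := d29_1 D14637 (iv D13716) D13715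
def n14638 : Q := act 7 n13716
theorem D14638 : act 7 n13716 = n14638 := rfl
theorem F57812 : act 0 n14638 = n13849 := d6_1 D14638 (iv D13849) (iv F54127)
theorem F57813 : act 1 n14638 = n13768 := d13_1 D14638 (iv D13768) (iv F54128)
theorem F57814 : act 5 n14638 = n13722 := d31_1 D14638 (iv D13722) (iv F54130)
def n14639 : Q := act 4 n13717
theorem D14639 : act 4 n13717 = n14639 := rfl
theorem F57815 : act 0 n14639 = n14162 := d3_1 D14639 (iv D14162) (iv F54131)
theorem F57816 : act 1 n14639 = n13718 := d10_1 D14639 (iv D13718) D13717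
theorem F57817 : act 2 n14639 = n13769 := d16_1 D14639 (iv D13769) (iv F54132)
theorem F57818 : act 6 n14639 = n13724 := d27_2 (iv F54133) D14639 (iv D13724)
theorem F57819 : act 7 n14639 = n14126 := d28_2 F57758 D14639 (iv F57756)
def n14640 : Q := act 8 n13717
theorem D14640 : act 8 n13717 = n14640 := rfl
theorem F57820 : act 0 n14640 = n14163 := d7_1 D14640 (iv D14163) (iv F54131)
theorem F57821 : act 1 n14640 = n13719 := d14_1 D14640 (iv D13719) D13717
theorem F57822 : act 2 n14640 = n13770 := d20_1 D14640 (iv D13770) (iv F54132)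
theorem F57823 : act 6 n14640 = n13725 := d34_1 D14640 (iv D13725) (iv F54133)
def n14641 : Q := act 3 n13718
theorem D14641 : act 3 n13718 = n14641 := rfl
theorem F57824 : act 0 n14641 = n13880 := d2_1 D14641 (iv D13880) (iv F54134)
theorem F57825 : act 2 n14641 = n13733 := d15_1 D14641 (iv D13733) F50166 (iv F50143) (iv F54135)
theorem F57826 : act 6 n14641 = n13726 := d23_2 (iv F54136) D14641 (iv D13726)
def n14642 : Q := act 5 n13718
theorem D14642 : act 5 n13718 = n14642 := rfl
theorem F57827 : act 0 n14642 = n13881 := d4_1 D14642 (iv D13881) (iv F54134)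
theorem F57828 : act 2 n14642 = n13720 := d17_1 D14642 (iv D13720) (iv F54135)
theorem F57829 : act 7 n14642 = n14125 := d31_2 (iv F54137) D14642 F55682
def n14643 : Q := act 8 n13718
theorem D14643 : act 8 n13718 = n14643 := rfl
theorem F57830 : act 0 n14643 = n13882 := d7_1 D14643 (iv D13882) (iv F54134)
theorem F57831 : act 2 n14643 = n13721 := d20_1 D14643 (iv D13721) (iv F54135)
theorem F57832 : act 4 n14643 = n13719 := d29_1 D14643 (iv D13719) D13718
theorem F57833 : act 6 n14643 = n13728 := d34_1 D14643 (iv D13728) (iv F54136)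
def n14644 : Q := act 7 n13719
theorem D14644 : act 7 n13719 = n14644 := rfl
theorem F57834 : act 0 n14644 = n13883 := d6_1 D14644 (iv D13883) (iv F54138)
theorem F57835 : act 2 n14644 = n13722 := d19_1 D14644 (iv D13722) (iv F54139)
theorem F57836 : act 6 n14644 = n13729 := d33_1 D14644 (iv D13729) (iv F54140)
def n14645 : Q := act 8 n13720
theorem D14645 : act 8 n13720 = n14645 := rfl
theorem F57837 : act 0 n14645 = n13885 := d7_1 D14645 (iv D13885) (iv F54141)
theorem F57838 : act 1 n14645 = n13773 := d14_1 D14645 (iv D13773) (iv F54142)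
theorem F57839 : act 3 n14645 = n13737 := d25_1 D14645 (iv D13737) (iv F54143)
theorem F57840 : act 5 n14645 = n13721 := d32_1 D14645 (iv D13721) D13720
def n14646 : Q := act 7 n13721
theorem D14646 : act 7 n13721 = n14646 := rfl
theorem F57841 : act 0 n14646 = n13886 := d6_1 D14646 (iv D13886) (iv F54145)
theorem F57842 : act 1 n14646 = n13774 := d13_1 D14646 (iv D13774) (iv F54146)
theorem F57843 : act 3 n14646 = n13879 := d24_1 D14646 (iv D13879) F50729 (iv F50183) (iv F54147)
theorem F57844 : act 4 n14646 = n13722 := d28_1 D14646 (iv D13722) (iv F54148)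
theorem F57845 : act 6 n14646 = n13732 := d33_1 D14646 (iv D13732) (iv F54149)
theorem F57846 : act 8 n14646 = n13902 := d35_2 D13721 D14646 F54762 F50826 (iv F50145)
def n14647 : Q := act 4 n13723
theorem D14647 : act 4 n13723 = n14647 := rfl
theorem F57847 : act 0 n14647 = n13724 := d3_1 D14647 (iv D13724) D13723
theorem F57848 : act 1 n14647 = n13887 := d10_1 D14647 (iv D13887) (iv F54153)
theorem F57849 : act 2 n14647 = n13775 := d16_1 D14647 (iv D13775) (iv F54154)
theorem F57850 : act 6 n14647 = n14162 := d27_2 (iv F54156) D14647 (iv D14162)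
def n14648 : Q := act 8 n13723
theorem D14648 : act 8 n13723 = n14648 := rfl
theorem F57851 : act 0 n14648 = n13725 := d7_1 D14648 (iv D13725) D13723
theorem F57852 : act 1 n14648 = n13888 := d14_1 D14648 (iv D13888) (iv F54153)
theorem F57853 : act 2 n14648 = n13776 := d20_1 D14648 (iv D13776) (iv F54154)
theorem F57854 : act 3 n14648 = n14640 := d25_1 D14648 (iv D14640) (iv F54155)
theorem F57855 : act 6 n14648 = n14163 := d34_1 D14648 (iv D14163) (iv F54156)
def n14649 : Q := act 3 n13724
theorem D14649 : act 3 n13724 = n14649 := rfl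
theorem F57856 : act 1 n14649 = n13726 := d9_1 D14649 (iv D13726) (iv F54157)
theorem F57857 : act 2 n14649 = n14649 := d15_1 D14649 (iv D14649) F54158 F50322 (iv F54158)
def n14650 : Q := act 5 n13724
theorem D14650 : act 5 n13724 = n14650 := rfl
theorem F57858 : act 1 n14650 = n13727 := d11_1 D14650 (iv D13727) (iv F54157)
theorem F57859 : act 2 n14650 = n13777 := d17_1 D14650 (iv D13777) (iv F54158)
def n14651 : Q := act 8 n13724
theorem D14651 : act 8 n13724 = n14651 := rfl
theorem F57860 : act 1 n14651 = n13728 := d14_1 D14651 (iv D13728) (iv F54157)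
theorem F57861 : act 2 n14651 = n13778 := d20_1 D14651 (iv D13778) (iv F54158)
theorem F57862 : act 4 n14651 = n13725 := d29_1 D14651 (iv D13725) D13724
def n14652 : Q := act 7 n13725
theorem D14652 : act 7 n13725 = n14652 := rfl
theorem F57863 : act 1 n14652 = n13729 := d13_1 D14652 (iv D13729) (iv F54159)
theorem F57864 : act 2 n14652 = n13779 := d19_1 D14652 (iv D13779) (iv F54160)
def n14653 : Q := act 5 n13726
theorem D14653 : act 5 n13726 = n14653 := rfl
theorem F57865 : act 0 n14653 = n13893 := d4_1 D14653 (iv D13893) (iv F54161)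
theorem F57866 : act 2 n14653 = n13738 := d17_1 D14653 (iv D13738) (iv F54162)
theorem F57867 : act 3 n14653 = n13727 := d22_1 D14653 (iv D13727) D13726
def n14654 : Q := act 7 n13726
theorem D14654 : act 7 n13726 = n14654 := rfl
theorem F57868 : act 0 n14654 = n13894 := d6_1 D14654 (iv D13894) (iv F54161)
theorem F57869 : act 2 n14654 = n13739 := d19_1 D14654 (iv D13739) (iv F54162)
def n14655 : Q := act 8 n13726
theorem D14655 : act 8 n13726 = n14655 := rfl
theorem F57870 : act 0 n14655 = n13895 := d7_1 D14655 (iv D13895) (iv F54161)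
theorem F57871 : act 2 n14655 = n13740 := d20_1 D14655 (iv D13740) (iv F54162)
theorem F57872 : act 3 n14655 = n13728 := d25_1 D14655 (iv D13728) D13726
def n14656 : Q := act 6 n13727
theorem D14656 : act 6 n13727 = n14656 := rfl
theorem F57873 : act 0 n14656 = n13896 := d5_1 D14656 (iv D13896) (iv F54163)
theorem F57874 : act 2 n14656 = n13730 := d18_1 D14656 (iv D13730) (iv F54164)
def n14657 : Q := act 8 n13727
theorem D14657 : act 8 n13727 = n14657 := rfl
theorem F57875 : act 0 n14657 = n13897 := d7_1 D14657 (iv D13897) (iv F54163)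
theorem F57876 : act 2 n14657 = n13731 := d20_1 D14657 (iv D13731) (iv F54164)
theorem F57877 : act 5 n14657 = n13728 := d32_1 D14657 (iv D13728) D13727
def n14658 : Q := act 7 n13728
theorem D14658 : act 7 n13728 = n14658 := rfl
theorem F57878 : act 0 n14658 = n13898 := d6_1 D14658 (iv D13898) (iv F54165)
theorem F57879 : act 2 n14658 = n13732 := d19_1 D14658 (iv D13732) (iv F54166)
theorem F57880 : act 4 n14658 = n13729 := d28_1 D14658 (iv D13729) (iv F54167)
def n14659 : Q := act 3 n13729
theorem D14659 : act 3 n13729 = n14659 := rfl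
theorem F57881 : act 0 n14659 = n13899 := d2_1 D14659 (iv D13899) (iv F54168)
def n14660 : Q := act 8 n13730
theorem D14660 : act 8 n13730 = n14660 := rfl
theorem F57882 : act 0 n14660 = n13900 := d7_1 D14660 (iv D13900) (iv F54170)
theorem F57883 : act 1 n14660 = n13783 := d14_1 D14660 (iv D13783) (iv F54171)
theorem F57884 : act 3 n14660 = n13745 := d25_1 D14660 (iv D13745) (iv F54172)
theorem F57885 : act 6 n14660 = n13731 := d34_1 D14660 (iv D13731) D13730
def n14661 : Q := act 7 n13731
theorem D14661 : act 7 n13731 = n14661 := rfl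
theorem F57886 : act 0 n14661 = n13901 := d6_1 D14661 (iv D13901) (iv F54173)
theorem F57887 : act 1 n14661 = n13784 := d13_1 D14661 (iv D13784) (iv F54174)
theorem F57888 : act 5 n14661 = n13732 := d31_1 D14661 (iv D13732) (iv F54176)
def n14662 : Q := act 3 n13732
theorem D14662 : act 3 n13732 = n14662 := rfl
theorem F57889 : act 0 n14662 = n13902 := d2_1 D14662 (iv D13902) (iv F54177)
theorem F57890 : act 1 n14662 = n13785 := d9_1 D14662 (iv D13785) (iv F54178)
theorem F57891 : act 4 n14662 = n13869 := d21_2 (iv F54179) D14662 (iv F57631) F57632 F53948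
theorem F57892 : act 6 n14662 = n13879 := d23_2 F57845 D14662 (iv F57843)
theorem F57893 : act 7 n14662 = n13747 := d24_2 D13732 D14662 (iv D13747) (iv D12743) (iv F50160)
theorem F57894 : act 8 n14662 = n13886 := d25_2 F57801 D14662 (iv F57798)
def n14663 : Q := act 5 n13733
theorem D14663 : act 5 n13733 = n14663 := rfl
theorem F57895 : act 0 n14663 = n13903 := d4_1 D14663 (iv D13903) (iv F54180)
theorem F57896 : act 1 n14663 = n14663 := d11_1 D14663 (iv D14663) F54181
theorem F57897 : act 3 n14663 = n13734 := d22_1 D14663 (iv D13734) D13733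
def n14664 : Q := act 7 n13733
theorem D14664 : act 7 n13733 = n14664 := rfl
theorem F57898 : act 0 n14664 = n13904 := d6_1 D14664 (iv D13904) (iv F54180)
theorem F57899 : act 1 n14664 = n14664 := d13_1 D14664 (iv D14664) F54181
theorem F57900 : act 3 n14664 = n14071 := d24_1 D14664 (iv D14071) (iv D13088) (iv F50168) D13733
theorem F57901 : act 6 n14664 = n13739 := d33_1 D14664 (iv D13739) (iv F54182)
def n14665 : Q := act 8 n13733
theorem D14665 : act 8 n13733 = n14665 := rfl
theorem F57902 : act 0 n14665 = n13905 := d7_1 D14665 (iv D13905) (iv F54180)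
theorem F57903 : act 1 n14665 = n14665 := d14_1 D14665 (iv D14665) F54181
theorem F57904 : act 3 n14665 = n13735 := d25_1 D14665 (iv D13735) D13733
theorem F57905 : act 6 n14665 = n13740 := d34_1 D14665 (iv D13740) (iv F54182)
def n14666 : Q := act 6 n13734
theorem D14666 : act 6 n13734 = n14666 := rfl
theorem F57906 : act 0 n14666 = n13906 := d5_1 D14666 (iv D13906) (iv F54183)
theorem F57907 : act 1 n14666 = n14666 := d12_1 D14666 (iv D14666) F54184
theorem F57908 : act 2 n14666 = n13736 := d18_1 D14666 (iv D13736) (iv F54185)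
theorem F57909 : act 4 n14666 = n14666 := d27_1 D14666 (iv D14666) F54186
theorem F57910 : act 5 n14666 = n13741 := d30_1 D14666 (iv D13741) (iv D12738) (iv F50167) D13734
theorem F57911 : act 7 n14666 = n14072 := d33_2 (iv F54187) D14666 (iv D14072)
def n14667 : Q := act 8 n13734
theorem D14667 : act 8 n13734 = n14667 := rfl
theorem F57912 : act 0 n14667 = n13907 := d7_1 D14667 (iv D13907) (iv F54183)
theorem F57913 : act 1 n14667 = n14667 := d14_1 D14667 (iv D14667) F54184
theorem F57914 : act 2 n14667 = n13737 := d20_1 D14667 (iv D13737) (iv F54185)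
theorem F57915 : act 4 n14667 = n14667 := d29_1 D14667 (iv D14667) F54186
theorem F57916 : act 5 n14667 = n13735 := d32_1 D14667 (iv D13735) D13734
theorem F57917 : act 7 n14667 = n14105 := d35_1 D14667 (iv D14105) F51672 (iv F51491) (iv F54187)
def n14668 : Q := act 8 n13736
theorem D14668 : act 8 n13736 = n14668 := rfl
theorem F57918 : act 0 n14668 = n13910 := d7_1 D14668 (iv D13910) (iv F54194)
theorem F57919 : act 1 n14668 = n13786 := d14_1 D14668 (iv D13786) (iv F54195)
theorem F57920 : act 4 n14668 = n14668 := d29_1 D14668 (iv D14668) F54196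
theorem F57921 : act 5 n14668 = n13745 := d32_1 D14668 (iv D13745) (iv F54197)
theorem F57922 : act 6 n14668 = n13737 := d34_1 D14668 (iv D13737) D13736
theorem F57923 : act 7 n14668 = n14106 := d35_1 D14668 (iv D14106) F51678 (iv F51497) (iv F54198)
def n14669 : Q := act 4 n13738
theorem D14669 : act 4 n13738 = n14669 := rfl
theorem F57924 : act 0 n14669 = n13912 := d3_1 D14669 (iv D13912) (iv F54204)
theorem F57925 : act 1 n14669 = n14669 := d10_1 D14669 (iv D14669) F54205
theorem F57926 : act 3 n14669 = n13748 := d21_1 D14669 (iv D13748) F50216 (iv F50189) (iv F54206)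
def n14670 : Q := act 6 n13738
theorem D14670 : act 6 n13738 = n14670 := rfl
theorem F57927 : act 0 n14670 = n13913 := d5_1 D14670 (iv D13913) (iv F54204)
theorem F57928 : act 1 n14670 = n14670 := d12_1 D14670 (iv D14670) F54205
theorem F57929 : act 3 n14670 = n13741 := d23_1 D14670 (iv D13741) (iv F54206)
theorem F57930 : act 7 n14669 = n14670 := d24_0 F57929 F54217 (iv F55464) (iv F55466) (iv F57926)
def n14671 : Q := act 7 n13738
theorem D14671 : act 7 n13738 = n14671 := rfl
theorem F57931 : act 0 n14671 = n13914 := d6_1 D14671 (iv D13914) (iv F54204)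
theorem F57932 : act 1 n14671 = n14671 := d13_1 D14671 (iv D14671) F54205
theorem F57933 : act 3 n14671 = n14075 := d24_1 D14671 (iv D14075) F51500 (iv F50190) (iv F54206)
theorem F57934 : act 4 n14671 = n14670 := d28_1 D14671 (iv F57930) (iv D14669)
theorem F57935 : act 5 n14671 = n13739 := d31_1 D14671 (iv D13739) D13738
theorem F57936 : act 6 n14671 = n14669 := d33_1 D14671 F57930 (iv D14670)
def n14672 : Q := act 8 n13738
theorem D14672 : act 8 n13738 = n14672 := rfl
theorem F57937 : act 0 n14672 = n13915 := d7_1 D14672 (iv D13915) (iv F54204)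
theorem F57938 : act 1 n14672 = n14672 := d14_1 D14672 (iv D14672) F54205
theorem F57939 : act 3 n14672 = n13742 := d25_1 D14672 (iv D13742) (iv F54206)
theorem F57940 : act 5 n14672 = n13740 := d32_1 D14672 (iv D13740) D13738
def n14673 : Q := act 8 n13739
theorem D14673 : act 8 n13739 = n14673 := rfl
theorem F57941 : act 0 n14673 = n13916 := d7_1 D14673 (iv D13916) (iv F54207)
theorem F57942 : act 1 n14673 = n14673 := d14_1 D14673 (iv D14673) F54208
theorem F57943 : act 3 n14673 = n14077 := d25_1 D14673 (iv D14077) (iv F54209)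
def n14674 : Q := act 7 n13740
theorem D14674 : act 7 n13740 = n14674 := rfl
theorem F57944 : act 0 n14674 = n13917 := d6_1 D14674 (iv D13917) (iv F54210)
theorem F57945 : act 1 n14674 = n14674 := d13_1 D14674 (iv D14674) F54211
def n14675 : Q := act 8 n13741
theorem D14675 : act 8 n13741 = n14675 := rfl
theorem F57946 : act 0 n14675 = n13918 := d7_1 D14675 (iv D13918) (iv F54213)
theorem F57947 : act 1 n14675 = n14675 := d14_1 D14675 (iv D14675) F54214
theorem F57948 : act 2 n14675 = n13745 := d20_1 D14675 (iv D13745) (iv F54215)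
theorem F57949 : act 4 n14675 = n13752 := d29_1 D14675 (iv D13752) (iv F54216)
theorem F57950 : act 6 n14675 = n13742 := d34_1 D14675 (iv D13742) D13741
def n14676 : Q := act 7 n13742
theorem D14676 : act 7 n13742 = n14676 := rfl
theorem F57951 : act 0 n14676 = n13919 := d6_1 D14676 (iv D13919) (iv F54218)
theorem F57952 : act 1 n14676 = n14676 := d13_1 D14676 (iv D14676) F54219
theorem F57953 : act 2 n14676 = n13746 := d19_1 D14676 (iv D13746) (iv F54220)
theorem F57954 : act 4 n14676 = n13753 := d28_1 D14676 (iv D13753) (iv F54221)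
theorem F57955 : act 5 n14676 = n13743 := d31_1 D14676 (iv D13743) (iv F54222)
theorem F57956 : act 8 n14676 = n14080 := d35_2 D13742 D14676 (iv D14080) (iv D13095) (iv F50190)
def n14677 : Q := act 3 n13743
theorem D14677 : act 3 n13743 = n14677 := rfl
theorem F57957 : act 0 n14677 = n13920 := d2_1 D14677 (iv D13920) (iv F54223)
theorem F57958 : act 1 n14677 = n14677 := d9_1 D14677 (iv D14677) F54224
theorem F57959 : act 6 n14677 = n14103 := d23_2 (iv F54227) D14677 F55603
theorem F57960 : act 8 n14677 = n14081 := d25_2 (iv F54228) D14677 (iv D14081)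
def n14678 : Q := act 4 n13744
theorem D14678 : act 4 n13744 = n14678 := rfl
theorem F57961 : act 0 n14678 = n13921 := d3_1 D14678 (iv D13921) (iv F54229)
theorem F57962 : act 1 n14678 = n14678 := d10_1 D14678 (iv D14678) F54230
theorem F57963 : act 2 n14678 = n14092 := d16_1 D14678 F55561 (iv F54231)
theorem F57964 : act 6 n14678 = n14096 := d27_2 (iv F54233) D14678 F55579
theorem F57965 : act 8 n14678 = n14082 := d29_2 (iv F54234) D14678 (iv D14082)
def n14679 : Q := act 7 n13745
theorem D14679 : act 7 n13745 = n14679 := rfl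
theorem F57966 : act 0 n14679 = n13922 := d6_1 D14679 (iv D13922) (iv F54235)
theorem F57967 : act 1 n14679 = n13787 := d13_1 D14679 (iv D13787) (iv F54236)
theorem F57968 : act 4 n14679 = n13754 := d28_1 D14679 (iv D13754) (iv F54237)
theorem F57969 : act 5 n14679 = n14106 := d31_1 D14679 (iv F57923) F57921
theorem F57970 : act 6 n14679 = n13746 := d33_1 D14679 (iv D13746) (iv F54238)
theorem F57971 : act 8 n14679 = n14083 := d35_2 D13745 D14679 (iv D14083) (iv D13098) (iv F50204)
def n14680 : Q := act 3 n13746
theorem D14680 : act 3 n13746 = n14680 := rfl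
theorem F57972 : act 0 n14680 = n13923 := d2_1 D14680 (iv D13923) (iv F54239)
theorem F57973 : act 1 n14680 = n13788 := d9_1 D14680 (iv D13788) (iv F54240)
theorem F57974 : act 5 n14680 = n13747 := d22_2 (iv F54242) D14680 (iv D13747)
theorem F57975 : act 8 n14680 = n13868 := d25_2 (iv F54243) D14680 F54674
def n14681 : Q := act 2 n13747
theorem D14681 : act 2 n13747 = n14681 := rfl
theorem F57976 : act 0 n14681 = n13924 := d1_1 D14681 (iv D13924) (iv F54244)
theorem F57977 : act 1 n14681 = n14216 := d8_1 D14681 F56008 F52160 F50364 (iv F54245)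
theorem F57978 : act 4 n14681 = n13867 := d16_2 (iv F54246) D14681 F54670
theorem F57979 : act 6 n14681 = n13875 := d18_2 (iv F54247) D14681 F54692
theorem F57980 : act 8 n14681 = n13866 := d20_2 (iv F54248) D14681 F54666
def n14682 : Q := act 8 n13748
theorem D14682 : act 8 n13748 = n14682 := rfl
theorem F57981 : act 0 n14682 = n13925 := d7_1 D14682 (iv D13925) (iv F54249)
theorem F57982 : act 1 n14682 = n14682 := d14_1 D14682 (iv D14682) F54250
theorem F57983 : act 4 n14682 = n13751 := d29_1 D14682 (iv D13751) D13748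
def n14683 : Q := act 8 n13749
theorem D14683 : act 8 n13749 = n14683 := rfl
theorem F57984 : act 0 n14683 = n13926 := d7_1 D14683 (iv D13926) (iv F54251)
theorem F57985 : act 1 n14683 = n14683 := d14_1 D14683 (iv D14683) F54252
theorem F57986 : act 3 n14683 = n13752 := d25_1 D14683 (iv D13752) (iv F54253)
theorem F57987 : act 5 n14683 = n14683 := d32_1 D14683 (iv D14683) F54254
theorem F57988 : act 6 n14683 = n13751 := d34_1 D14683 (iv D13751) D13749
def n14684 : Q := act 7 n13752
theorem D14684 : act 7 n13752 = n14684 := rfl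
theorem F57989 : act 0 n14684 = n13929 := d6_1 D14684 (iv D13929) (iv F54263)
theorem F57990 : act 1 n14684 = n14684 := d13_1 D14684 (iv D14684) F54264
theorem F57991 : act 2 n14684 = n13754 := d19_1 D14684 (iv D13754) (iv F54265)
theorem F57992 : act 5 n14684 = n14684 := d31_1 D14684 (iv D14684) F54266
theorem F57993 : act 6 n14684 = n13753 := d33_1 D14684 (iv D13753) (iv F54267)
theorem F57994 : act 8 n14684 = n14086 := d35_2 D13752 D14684 (iv D14086) (iv D13104) (iv F50229)
def n14685 : Q := act 7 n13756
theorem D14685 : act 7 n13756 = n14685 := rfl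
theorem F57995 : act 0 n14685 = n13794 := d6_1 D14685 (iv D13794) (iv F54282)
theorem F57996 : act 3 n14685 = n13852 := d24_1 D14685 (iv D13852) F50651 (iv F50263) (iv F54283)
theorem F57997 : act 5 n14685 = n13759 := d31_1 D14685 (iv D13759) (iv F54284)
theorem F57998 : act 8 n14685 = n13768 := d35_2 D13756 D14685 (iv D13768) (iv D12765) (iv F50258)
def n14686 : Q := act 8 n13757
theorem D14686 : act 8 n13757 = n14686 := rfl
theorem F57999 : act 0 n14686 = n14188 := d7_1 D14686 (iv D14188) (iv F54285)
theorem F58000 : act 1 n14686 = n13758 := d14_1 D14686 (iv D13758) D13757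
theorem F58001 : act 3 n14686 = n14686 := d25_1 D14686 (iv D14686) F54286
theorem F58002 : act 4 n14686 = n13956 := d29_1 D14686 F54960 (iv F54287)
theorem F58003 : act 6 n14686 = n13762 := d34_1 D14686 (iv D13762) (iv F54288)
def n14687 : Q := act 7 n13758
theorem D14687 : act 7 n13758 = n14687 := rfl
theorem F58004 : act 0 n14687 = n13795 := d6_1 D14687 (iv D13795) (iv F54290)
theorem F58005 : act 2 n14687 = n13759 := d19_1 D14687 (iv D13759) (iv F54291)
theorem F58006 : act 4 n14687 = n13954 := d28_1 D14687 F54952 (iv F54293)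
theorem F58007 : act 6 n14687 = n13764 := d33_1 D14687 (iv D13764) (iv F54294)
theorem F58008 : act 8 n14687 = n13772 := d35_2 D13758 D14687 (iv D13772) (iv D12768) (iv F50268)
def n14688 : Q := act 8 n13760
theorem D14688 : act 8 n13760 = n14688 := rfl
theorem F58009 : act 0 n14688 = n13762 := d7_1 D14688 (iv D13762) D13760
theorem F58010 : act 1 n14688 = n13796 := d14_1 D14688 (iv D13796) (iv F54300)
theorem F58011 : act 3 n14688 = n14688 := d25_1 D14688 (iv D14688) F54301
theorem F58012 : act 6 n14688 = n14188 := d34_1 D14688 (iv D14188) (iv F54302)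
def n14689 : Q := act 8 n13761
theorem D14689 : act 8 n13761 = n14689 := rfl
theorem F58013 : act 1 n14689 = n13763 := d14_1 D14689 (iv D13763) (iv F54304)
theorem F58014 : act 3 n14689 = n14051 := d25_1 D14689 F55352 F54307
theorem F58015 : act 4 n14689 = n13762 := d29_1 D14689 (iv D13762) D13761
theorem F58016 : act 6 n14689 = n13956 := d34_1 D14689 F54960 (iv F54305)
def n14690 : Q := act 7 n13762
theorem D14690 : act 7 n13762 = n14690 := rfl
theorem F58017 : act 1 n14690 = n13764 := d13_1 D14690 (iv D13764) (iv F54308)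
theorem F58018 : act 8 n14690 = n13779 := d35_2 D13762 D14690 (iv D13779) (iv D12774) (iv F50274)
def n14691 : Q := act 7 n13763
theorem D14691 : act 7 n13763 = n14691 := rfl
theorem F58019 : act 0 n14691 = n13798 := d6_1 D14691 (iv D13798) (iv F54310)
theorem F58020 : act 2 n14691 = n13766 := d19_1 D14691 (iv D13766) (iv F54311)
theorem F58021 : act 3 n14691 = n14256 := d24_1 D14691 F56130 F52294 (iv F51392) (iv F54312)
theorem F58022 : act 4 n14691 = n13764 := d28_1 D14691 (iv D13764) (iv F54313)
theorem F58023 : act 6 n14691 = n13954 := d33_1 D14691 F54952 (iv F54314)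
theorem F58024 : act 8 n14691 = n13781 := d35_2 D13763 D14691 (iv D13781) (iv D12776) (iv F50278)
def n14692 : Q := act 3 n13764
theorem D14692 : act 3 n13764 = n14692 := rfl
theorem F58025 : act 0 n14692 = n13799 := d2_1 D14692 (iv D13799) (iv F54315)
theorem F58026 : act 7 n14692 = n14692 := d24_2 D13764 D14692 (iv D14692) (iv D13764) F50282
theorem F58027 : act 8 n14692 = n13782 := d25_2 (iv F54317) D14692 (iv D13782)
def n14693 : Q := act 7 n13765
theorem D14693 : act 7 n13765 = n14693 := rfl
theorem F58028 : act 0 n14693 = n13800 := d6_1 D14693 (iv D13800) (iv F54318)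
theorem F58029 : act 3 n14693 = n13942 := d24_1 D14693 (iv D13942) F50928 D12961 (iv F54319)
theorem F58030 : act 5 n14693 = n13766 := d31_1 D14693 (iv D13766) (iv F54320)
theorem F58031 : act 8 n14693 = n13784 := d35_2 D13765 D14693 (iv D13784) (iv D12779) (iv F50285)
def n14694 : Q := act 7 n13767
theorem D14694 : act 7 n13767 = n14694 := rfl
theorem F58032 : act 0 n14694 = n13801 := d6_1 D14694 (iv D13801) (iv F54326)
theorem F58033 : act 4 n14694 = n13768 := d28_1 D14694 (iv D13768) (iv F54328)
def n14695 : Q := act 8 n13769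
theorem D14695 : act 8 n13769 = n14695 := rfl
theorem F58034 : act 0 n14695 = n14191 := d7_1 D14695 (iv D14191) (iv F54331)
theorem F58035 : act 1 n14695 = n13771 := d14_1 D14695 (iv D13771) (iv F54332)
theorem F58036 : act 3 n14695 = n14695 := d25_1 D14695 (iv D14695) F54333
theorem F58037 : act 4 n14695 = n13770 := d29_1 D14695 (iv D13770) D13769
theorem F58038 : act 6 n14695 = n13778 := d34_1 D14695 (iv D13778) (iv F54334)
def n14696 : Q := act 7 n13770
theorem D14696 : act 7 n13770 = n14696 := rfl
theorem F58039 : act 0 n14696 = n14192 := d6_1 D14696 (iv D14192) (iv F54336)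
theorem F58040 : act 1 n14696 = n13772 := d13_1 D14696 (iv D13772) (iv F54337)
theorem F58041 : act 6 n14696 = n13779 := d33_1 D14696 (iv D13779) (iv F54339)
def n14697 : Q := act 7 n13771
theorem D14697 : act 7 n13771 = n14697 := rfl
theorem F58042 : act 0 n14697 = n13802 := d6_1 D14697 (iv D13802) (iv F54340)
theorem F58043 : act 2 n14697 = n13774 := d19_1 D14697 (iv D13774) (iv F54341)
theorem F58044 : act 4 n14697 = n13772 := d28_1 D14697 (iv D13772) (iv F54343)
theorem F58045 : act 6 n14697 = n13781 := d33_1 D14697 (iv D13781) (iv F54344)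
theorem F58046 : act 8 n14697 = n13954 := d35_2 D13771 D14697 F54952 F50989 (iv F50304)
def n14698 : Q := act 3 n13772
theorem D14698 : act 3 n13772 = n14698 := rfl
theorem F58047 : act 0 n14698 = n13803 := d2_1 D14698 (iv D13803) (iv F54345)
theorem F58048 : act 6 n14698 = n13782 := d23_2 (iv F54347) D14698 (iv D13782)
theorem F58049 : act 7 n14698 = n13790 := d24_2 D13772 D14698 (iv D13790) (iv D12790) (iv F50307)
def n14699 : Q := act 7 n13773
theorem D14699 : act 7 n13773 = n14699 := rfl
theorem F58050 : act 0 n14699 = n13804 := d6_1 D14699 (iv D13804) (iv F54348)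
theorem F58051 : act 3 n14699 = n13940 := d24_1 D14699 (iv D13940) F50917 (iv F50350) (iv F54349)
theorem F58052 : act 5 n14699 = n13774 := d31_1 D14699 (iv D13774) (iv F54350)
theorem F58053 : act 8 n14699 = n13953 := d35_2 D13773 D14699 F54950 F50986 (iv F50311)
def n14700 : Q := act 8 n13775
theorem D14700 : act 8 n13775 = n14700 := rfl
theorem F58054 : act 0 n14700 = n13778 := d7_1 D14700 (iv D13778) (iv F54356)
theorem F58055 : act 1 n14700 = n13805 := d14_1 D14700 (iv D13805) (iv F54357)
theorem F58056 : act 3 n14700 = n14700 := d25_1 D14700 (iv D14700) F54358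
theorem F58057 : act 4 n14700 = n13776 := d29_1 D14700 (iv D13776) D13775
theorem F58058 : act 6 n14700 = n14191 := d34_1 D14700 (iv D14191) (iv F54359)
def n14701 : Q := act 7 n13776
theorem D14701 : act 7 n13776 = n14701 := rfl
theorem F58059 : act 0 n14701 = n13779 := d6_1 D14701 (iv D13779) (iv F54360)
theorem F58060 : act 1 n14701 = n13806 := d13_1 D14701 (iv D13806) (iv F54361)
theorem F58061 : act 6 n14701 = n14192 := d33_1 D14701 (iv D14192) (iv F54363)
def n14702 : Q := act 8 n13777
theorem D14702 : act 8 n13777 = n14702 := rfl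
theorem F58062 : act 1 n14702 = n13780 := d14_1 D14702 (iv D13780) (iv F54364)
theorem F58063 : act 3 n14702 = n14702 := d25_1 D14702 (iv D14702) F54365
theorem F58064 : act 5 n14702 = n13778 := d32_1 D14702 (iv D13778) D13777
def n14703 : Q := act 7 n13778
theorem D14703 : act 7 n13778 = n14703 := rfl
theorem F58065 : act 1 n14703 = n13781 := d13_1 D14703 (iv D13781) (iv F54366)
theorem F58066 : act 4 n14703 = n13779 := d28_1 D14703 (iv D13779) (iv F54368)
def n14704 : Q := act 3 n13779
theorem D14704 : act 3 n13779 = n14704 := rfl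
theorem F58067 : act 1 n14704 = n13782 := d9_1 D14704 (iv D13782) (iv F54369)
theorem F58068 : act 7 n14704 = n13792 := d24_2 D13779 D14704 (iv D13792) (iv D12792) (iv F50324)
def n14705 : Q := act 7 n13780
theorem D14705 : act 7 n13780 = n14705 := rfl
theorem F58069 : act 0 n14705 = n13809 := d6_1 D14705 (iv D13809) (iv F54370)
theorem F58070 : act 2 n14705 = n13784 := d19_1 D14705 (iv D13784) (iv F54371)
theorem F58071 : act 5 n14705 = n13781 := d31_1 D14705 (iv D13781) (iv F54373)
def n14706 : Q := act 3 n13781
theorem D14706 : act 3 n13781 = n14706 := rfl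
theorem F58072 : act 0 n14706 = n13810 := d2_1 D14706 (iv D13810) (iv F54374)
theorem F58073 : act 2 n14706 = n14253 := d15_1 D14706 (iv D14253) F54389 (iv D13785) (iv F54375)
theorem F58074 : act 7 n14706 = n14706 := d24_2 D13781 D14706 (iv D14706) (iv D13781) F50330
theorem F58075 : act 8 n14706 = n14256 := d25_2 F58024 D14706 (iv F58021)
def n14707 : Q := act 4 n13782
theorem D14707 : act 4 n13782 = n14707 := rfl
theorem F58076 : act 0 n14707 = n13811 := d3_1 D14707 (iv D13811) (iv F54377)
theorem F58077 : act 7 n14707 = n13793 := d28_2 (iv F54378) D14707 (iv D13793)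
def n14708 : Q := act 7 n13783
theorem D14708 : act 7 n13783 = n14708 := rfl
theorem F58078 : act 0 n14708 = n13812 := d6_1 D14708 (iv D13812) (iv F54379)
theorem F58079 : act 6 n14708 = n13784 := d33_1 D14708 (iv D13784) (iv F54381)
def n14709 : Q := act 3 n13784
theorem D14709 : act 3 n13784 = n14709 := rfl
theorem F58080 : act 0 n14709 = n13813 := d2_1 D14709 (iv D13813) (iv F54382)
theorem F58081 : act 5 n14709 = n13785 := d22_2 (iv F54383) D14709 (iv D13785)
theorem F58082 : act 7 n14709 = n13788 := d24_2 D13784 D14709 (iv D13788) (iv D12784) (iv F50337)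
theorem F58083 : act 8 n14709 = n13942 := d25_2 F58031 D14709 (iv F58029)
theorem F58084 : act 2 n14252 = n14709 := d20_3 F58083 F54913 (iv F56120)
def n14710 : Q := act 3 n13789
theorem D14710 : act 3 n13789 = n14710 := rfl
theorem F58085 : act 0 n14710 = n14200 := d2_1 D14710 (iv D14200) (iv F54406)
theorem F58086 : act 1 n14710 = n13790 := d9_1 D14710 (iv D13790) (iv F54407)
theorem F58087 : act 6 n14710 = n13792 := d23_2 (iv F54409) D14710 (iv D13792)
theorem F58088 : act 8 n14710 = n14710 := d25_2 F54410 D14710 (iv D14710)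
def n14711 : Q := act 4 n13790
theorem D14711 : act 4 n13790 = n14711 := rfl
theorem F58089 : act 0 n14711 = n13814 := d3_1 D14711 (iv D13814) (iv F54411)
theorem F58090 : act 2 n14711 = n14198 := d16_1 D14711 (iv F57673) F57672
theorem F58091 : act 3 n14711 = n14711 := d21_1 D14711 (iv D14711) (iv D13790) F50383 D13790
theorem F58092 : act 5 n14711 = n14199 := d26_2 F57707 D14711 (iv F56666) F56667 (iv F57706)
theorem F58093 : act 6 n14711 = n13793 := d27_2 (iv F54412) D14711 (iv D13793)
theorem F58094 : act 8 n14711 = n14711 := d29_2 F54413 D14711 (iv D14711)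
def n14712 : Q := act 3 n13791
theorem D14712 : act 3 n13791 = n14712 := rfl
theorem F58095 : act 0 n14712 = n13792 := d2_1 D14712 (iv D13792) (iv F54414)
theorem F58096 : act 1 n14712 = n13815 := d9_1 D14712 (iv D13815) (iv F54415)
theorem F58097 : act 6 n14712 = n14200 := d23_2 (iv F54418) D14712 (iv D14200)
theorem F58098 : act 8 n14712 = n14712 := d25_2 F54419 D14712 (iv D14712)
def n14713 : Q := act 2 n13792
theorem D14713 : act 2 n13792 = n14713 := rfl
theorem F58099 : act 8 n14713 = n14713 := d20_2 F54421 D14713 (iv D14713)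
def n14714 : Q := act 4 n13792
theorem D14714 : act 4 n13792 = n14714 := rfl
theorem F58100 : act 1 n14714 = n13793 := d10_1 D14714 (iv D13793) (iv F54420)
theorem F58101 : act 3 n14714 = n14714 := d21_1 D14714 (iv D14714) (iv D13792) F50392 D13792
theorem F58102 : act 8 n14714 = n14714 := d29_2 F54421 D14714 (iv D14714)
def n14715 : Q := act 3 n13795
theorem D14715 : act 3 n13795 = n14715 := rfl
theorem F58103 : act 1 n14715 = n14202 := d9_1 D14715 (iv D14202) (iv F54429)
theorem F58104 : act 2 n14715 = n13854 := d15_1 D14715 (iv D13854) F50679 (iv F50405) (iv F54430)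
theorem F58105 : act 6 n14715 = n13799 := d23_2 (iv F54432) D14715 (iv D13799)
theorem F58106 : act 7 n14715 = n14715 := d24_2 D13795 D14715 (iv D14715) (iv D13795) F50401
theorem F58107 : act 8 n14715 = n13803 := d25_2 (iv F54433) D14715 (iv D13803)
def n14716 : Q := act 7 n13796
theorem D14716 : act 7 n13796 = n14716 := rfl
theorem F58108 : act 0 n14716 = n13797 := d6_1 D14716 (iv D13797) (iv F54434)
theorem F58109 : act 2 n14716 = n13958 := d19_1 D14716 (iv D13958) (iv F54435)
theorem F58110 : act 6 n14716 = n14189 := d33_1 D14716 (iv D14189) (iv F54437)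
theorem F58111 : act 8 n14716 = n13806 := d35_2 D13796 D14716 (iv D13806) (iv D12810) (iv F50412)
def n14717 : Q := act 3 n13797
theorem D14717 : act 3 n13797 = n14717 := rfl
theorem F58112 : act 1 n14717 = n13799 := d9_1 D14717 (iv D13799) (iv F54438)
theorem F58113 : act 6 n14717 = n14202 := d23_2 (iv F54440) D14717 (iv D14202)
theorem F58114 : act 7 n14717 = n14717 := d24_2 D13797 D14717 (iv D14717) (iv D13797) F50415
theorem F58115 : act 8 n14717 = n13808 := d25_2 (iv F54441) D14717 (iv D13808)
def n14718 : Q := act 3 n13801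
theorem D14718 : act 3 n13801 = n14718 := rfl
theorem F58116 : act 1 n14718 = n13854 := d9_1 D14718 (iv D13854) (iv F54453)
theorem F58117 : act 4 n14718 = n14262 := d21_2 (iv F54454) D14718 (iv D14262) (iv F53647) F53646
theorem F58118 : act 7 n14718 = n14718 := d24_2 D13801 D14718 (iv D14718) (iv D13801) F50432
theorem F58119 : act 8 n14718 = n14265 := d25_2 F56770 D14718 (iv F56766)
def n14719 : Q := act 3 n13802
theorem D14719 : act 3 n13802 = n14719 := rfl
theorem F58120 : act 1 n14719 = n14204 := d9_1 D14719 (iv D14204) (iv F54455)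
theorem F58121 : act 2 n14719 = n13961 := d15_1 D14719 (iv D13961) F51014 (iv F50448) (iv F54456)
theorem F58122 : act 6 n14719 = n13810 := d23_2 (iv F54458) D14719 (iv D13810)
theorem F58123 : act 7 n14719 = n14719 := d24_2 D13802 D14719 (iv D14719) (iv D13802) F50438
theorem F58124 : act 8 n14719 = n13970 := d25_2 (iv F54459) D14719 F54999
def n14720 : Q := act 4 n13803
theorem D14720 : act 4 n13803 = n14720 := rfl
theorem F58125 : act 1 n14720 = n14205 := d10_1 D14720 (iv D14205) (iv F54460)
theorem F58126 : act 2 n14720 = n14206 := d16_1 D14720 (iv F57693) F57692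
theorem F58127 : act 5 n14720 = n14207 := d26_2 F57702 D14720 (iv F56847) F56848 (iv F57701)
theorem F58128 : act 6 n14720 = n13811 := d27_2 (iv F54461) D14720 (iv D13811)
theorem F58129 : act 7 n14720 = n13814 := d28_2 (iv F54462) D14720 (iv D13814)
def n14721 : Q := act 7 n13805
theorem D14721 : act 7 n13805 = n14721 := rfl
theorem F58130 : act 0 n14721 = n13807 := d6_1 D14721 (iv D13807) (iv F54467)
theorem F58131 : act 2 n14721 = n13965 := d19_1 D14721 (iv D13965) (iv F54468)
theorem F58132 : act 4 n14721 = n13806 := d28_1 D14721 (iv D13806) (iv F54470)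
theorem F58133 : act 6 n14721 = n14193 := d33_1 D14721 (iv D14193) (iv F54471)
def n14722 : Q := act 3 n13806
theorem D14722 : act 3 n13806 = n14722 := rfl
theorem F58134 : act 0 n14722 = n13808 := d2_1 D14722 (iv D13808) (iv F54472)
theorem F58135 : act 6 n14722 = n14194 := d23_2 (iv F54474) D14722 (iv D14194)
theorem F58136 : act 7 n14722 = n13815 := d24_2 D13806 D14722 (iv D13815) (iv D12823) (iv F50458)
def n14723 : Q := act 3 n13807
theorem D14723 : act 3 n13807 = n14723 := rfl
theorem F58137 : act 1 n14723 = n13810 := d9_1 D14723 (iv D13810) (iv F54475)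
theorem F58138 : act 6 n14723 = n14204 := d23_2 (iv F54478) D14723 (iv D14204)
theorem F58139 : act 7 n14723 = n14723 := d24_2 D13807 D14723 (iv D14723) (iv D13807) F50462
theorem F58140 : act 8 n14723 = n14266 := d25_2 F57402 D14723 (iv F57398)
def n14724 : Q := act 3 n13809
theorem D14724 : act 3 n13809 = n14724 := rfl
theorem F58141 : act 2 n14724 = n14262 := d15_1 D14724 (iv D14262) F54494 (iv D13813) (iv F54482)
theorem F58142 : act 5 n14724 = n13810 := d22_2 (iv F54483) D14724 (iv D13810)
theorem F58143 : act 7 n14724 = n14724 := d24_2 D13809 D14724 (iv D14724) (iv D13809) F50469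
theorem F58144 : act 8 n14724 = n14264 := d25_2 F56840 D14724 (iv F56836)
def n14725 : Q := act 1 n13816
theorem D14725 : act 1 n13816 = n14725 := rfl
theorem F58145 : act 2 n14725 = n13855 := d8_2 D13816 D14725 F54636 (iv D12990) (iv F50514)
theorem F58146 : act 3 n14725 = n13819 := d9_2 (iv F54504) D14725 (iv D13819)
theorem F58147 : act 5 n14725 = n13857 := d11_2 (iv F54505) D14725 F54642
theorem F58148 : act 7 n14725 = n14420 := d13_2 (iv F54506) D14725 (iv D14420)
def n14726 : Q := act 4 n13816
theorem D14726 : act 4 n13816 = n14726 := rfl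
theorem F58149 : act 0 n14726 = n14451 := d3_1 D14726 (iv F57571) F57569
theorem F58150 : act 2 n14726 = n13817 := d16_1 D14726 (iv D13817) D13816
theorem F58151 : act 3 n14726 = n14319 := d21_1 D14726 (iv D14319) (iv F53921) F53922 (iv F54504)
theorem F58152 : act 6 n14726 = n14326 := d27_2 F57620 D14726 (iv F57619)
theorem F58153 : act 7 n14726 = n14421 := d28_2 (iv F54506) D14726 (iv D14421)
def n14727 : Q := act 8 n13816
theorem D14727 : act 8 n13816 = n14727 := rfl
theorem F58154 : act 2 n14727 = n13818 := d20_1 D14727 (iv D13818) D13816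
theorem F58155 : act 3 n14727 = n13820 := d25_1 D14727 (iv D13820) (iv F54504)
theorem F58156 : act 5 n14727 = n14210 := d32_1 D14727 (iv D14210) (iv F54505)
def n14728 : Q := act 8 n13817
theorem D14728 : act 8 n13817 = n14728 := rfl
theorem F58157 : act 0 n14728 = n14475 := d7_1 D14728 (iv D14475) (iv F54507)
theorem F58158 : act 1 n14728 = n13974 := d14_1 D14728 (iv D13974) (iv F54508)
theorem F58159 : act 3 n14728 = n14087 := d25_1 D14728 (iv D14087) (iv F54509)
theorem F58160 : act 4 n14728 = n13818 := d29_1 D14728 (iv D13818) D13817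
theorem F58161 : act 6 n14728 = n14336 := d34_1 D14728 (iv D14336) (iv F54510)
def n14729 : Q := act 7 n13818
theorem D14729 : act 7 n13818 = n14729 := rfl
theorem F58162 : act 1 n14729 = n13975 := d13_1 D14729 (iv D13975) (iv F54512)
theorem F58163 : act 3 n14729 = n13865 := d24_1 D14729 (iv D13865) F50701 (iv F50521) (iv F54513)
theorem F58164 : act 5 n14729 = n14213 := d31_1 D14729 (iv D14213) (iv F54514)
theorem F58165 : act 8 n14729 = n14425 := d35_2 D13818 D14729 (iv D14425) (iv D13497) (iv F50516)
def n14730 : Q := act 8 n13819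
theorem D14730 : act 8 n13819 = n14730 := rfl
theorem F58166 : act 1 n14730 = n13820 := d14_1 D14730 (iv D13820) D13819
theorem F58167 : act 2 n14730 = n13845 := d20_1 D14730 (iv D13845) (iv F54515)
theorem F58168 : act 5 n14730 = n13867 := d32_1 D14730 (iv D13867) (iv F54516)
def n14731 : Q := act 7 n13820
theorem D14731 : act 7 n13820 = n14731 := rfl
theorem F58169 : act 2 n14731 = n13821 := d19_1 D14731 (iv D13821) (iv F54518)
theorem F58170 : act 5 n14731 = n14217 := d31_1 D14731 (iv D14217) (iv F54519)
theorem F58171 : act 8 n14731 = n13829 := d35_2 D13820 D14731 (iv D13829) (iv D12834) (iv F50523)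
def n14732 : Q := act 7 n13822
theorem D14732 : act 7 n13822 = n14732 := rfl
theorem F58172 : act 2 n14732 = n13823 := d19_1 D14732 (iv D13823) (iv F54524)
theorem F58173 : act 6 n14732 = n13829 := d33_1 D14732 (iv D13829) (iv F54526)
def n14733 : Q := act 3 n13824
theorem D14733 : act 3 n13824 = n14733 := rfl
theorem F58174 : act 1 n14733 = n13826 := d9_1 D14733 (iv D13826) (iv F54530)
theorem F58175 : act 2 n14733 = n14733 := d15_1 D14733 (iv D14733) F54531 F50635 (iv F54531)
theorem F58176 : act 4 n14733 = n14460 := d21_2 D13824 D14733 (iv D14460) (iv D13520) (iv F50533)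
def n14734 : Q := act 5 n13824
theorem D14734 : act 5 n13824 = n14734 := rfl
theorem F58177 : act 1 n14734 = n13827 := d11_1 D14734 (iv D13827) (iv F54530)
theorem F58178 : act 2 n14734 = n13847 := d17_1 D14734 (iv D13847) (iv F54531)
theorem F58179 : act 4 n14734 = n13881 := d26_1 D14734 (iv D13881) (iv D12890) (iv F50534) D13824
def n14735 : Q := act 8 n13824
theorem D14735 : act 8 n13824 = n14735 := rfl
theorem F58180 : act 1 n14735 = n13828 := d14_1 D14735 (iv D13828) (iv F54530)
theorem F58181 : act 2 n14735 = n13848 := d20_1 D14735 (iv D13848) (iv F54531)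
theorem F58182 : act 4 n14735 = n13825 := d29_1 D14735 (iv D13825) D13824
def n14736 : Q := act 7 n13825
theorem D14736 : act 7 n13825 = n14736 := rfl
theorem F58183 : act 1 n14736 = n13829 := d13_1 D14736 (iv D13829) (iv F54532)
theorem F58184 : act 2 n14736 = n13849 := d19_1 D14736 (iv D13849) (iv F54533)
theorem F58185 : act 5 n14736 = n13883 := d31_1 D14736 (iv D13883) (iv F54535)
def n14737 : Q := act 5 n13826
theorem D14737 : act 5 n13826 = n14737 := rfl
theorem F58186 : act 2 n14737 = n13832 := d17_1 D14737 (iv D13832) (iv F54536)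
theorem F58187 : act 3 n14737 = n13827 := d22_1 D14737 (iv D13827) D13826
def n14738 : Q := act 7 n13826
theorem D14738 : act 7 n13826 = n14738 := rfl
theorem F58188 : act 0 n14738 = n14418 := d6_1 D14738 (iv F57621) F57617
theorem F58189 : act 2 n14738 = n13833 := d19_1 D14738 (iv D13833) (iv F54536)
theorem F58190 : act 3 n14738 = n14306 := d24_1 D14738 F56336 (iv F53921) F53924 D13826
theorem F58191 : act 4 n14738 = n14465 := d28_1 D14738 (iv D14465) (iv F54537)
theorem F58192 : act 6 n14738 = n14301 := d33_1 D14738 (iv F57574) F57573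
def n14739 : Q := act 8 n13826
theorem D14739 : act 8 n13826 = n14739 := rfl
theorem F58193 : act 2 n14739 = n13834 := d20_1 D14739 (iv D13834) (iv F54536)
theorem F58194 : act 3 n14739 = n13828 := d25_1 D14739 (iv D13828) D13826
theorem F58195 : act 4 n14739 = n14466 := d29_1 D14739 (iv D14466) (iv F54537)
def n14740 : Q := act 8 n13827
theorem D14740 : act 8 n13827 = n14740 := rfl
theorem F58196 : act 2 n14740 = n13830 := d20_1 D14740 (iv D13830) (iv F54538)
theorem F58197 : act 4 n14740 = n14224 := d29_1 D14740 (iv D14224) (iv F54539)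
theorem F58198 : act 5 n14740 = n13828 := d32_1 D14740 (iv D13828) D13827
def n14741 : Q := act 7 n13828
theorem D14741 : act 7 n13828 = n14741 := rfl
theorem F58199 : act 2 n14741 = n13831 := d19_1 D14741 (iv D13831) (iv F54540)
theorem F58200 : act 4 n14741 = n13829 := d28_1 D14741 (iv D13829) (iv F54541)
def n14742 : Q := act 3 n13829
theorem D14742 : act 3 n13829 = n14742 := rfl
theorem F58201 : act 2 n14742 = n13899 := d15_1 D14742 (iv D13899) F50761 (iv F50546) (iv F54542)
theorem F58202 : act 5 n14742 = n14226 := d22_2 (iv F54543) D14742 (iv D14226)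
theorem F58203 : act 7 n14742 = n14470 := d24_2 D13829 D14742 (iv D14470) (iv D13525) (iv F50537)
def n14743 : Q := act 7 n13830
theorem D14743 : act 7 n13830 = n14743 := rfl
theorem F58204 : act 1 n14743 = n13852 := d13_1 D14743 (iv D13852) (iv F54544)
theorem F58205 : act 4 n14743 = n14228 := d28_1 D14743 (iv D14228) (iv F54546)
theorem F58206 : act 5 n14743 = n13831 := d31_1 D14743 (iv D13831) (iv F54547)
def n14744 : Q := act 4 n13832
theorem D14744 : act 4 n13832 = n14744 := rfl
theorem F58207 : act 1 n14744 = n14744 := d10_1 D14744 (iv D14744) F54550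
theorem F58208 : act 3 n14744 = n13837 := d21_1 D14744 (iv D13837) F50575 (iv F50559) (iv F54551)
theorem F58209 : act 5 n14744 = n14482 := d26_2 D13832 D14744 (iv D14482) (iv D13536) (iv F50556)
def n14745 : Q := act 7 n13832
theorem D14745 : act 7 n13832 = n14745 := rfl
theorem F58210 : act 0 n14745 = n14416 := d6_1 D14745 (iv F57475) (iv F57476)
theorem F58211 : act 1 n14745 = n14745 := d13_1 D14745 (iv D14745) F54550
theorem F58212 : act 3 n14745 = n14089 := d24_1 D14745 (iv D14089) F51602 (iv F50560) (iv F54551)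
theorem F58213 : act 5 n14745 = n13833 := d31_1 D14745 (iv D13833) D13832
theorem F58214 : act 6 n14745 = n14610 := d33_1 D14745 F57713 F57499
def n14746 : Q := act 8 n13832
theorem D14746 : act 8 n13832 = n14746 := rfl
theorem F58215 : act 1 n14746 = n14746 := d14_1 D14746 (iv D14746) F54550
theorem F58216 : act 3 n14746 = n13835 := d25_1 D14746 (iv D13835) (iv F54551)
theorem F58217 : act 5 n14746 = n13834 := d32_1 D14746 (iv D13834) D13832
def n14747 : Q := act 8 n13833
theorem D14747 : act 8 n13833 = n14747 := rfl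
theorem F58218 : act 0 n14747 = n14419 := d7_1 D14747 (iv D14419) (iv F54552)
theorem F58219 : act 1 n14747 = n14747 := d14_1 D14747 (iv D14747) F54553
theorem F58220 : act 3 n14747 = n14090 := d25_1 D14747 (iv D14090) (iv F54554)
theorem F58221 : act 4 n14747 = n14486 := d29_1 D14747 (iv D14486) (iv F54555)
theorem F58222 : act 6 n14747 = n14303 := d34_1 D14747 (iv D14303) (iv F54556)
def n14748 : Q := act 7 n13834
theorem D14748 : act 7 n13834 = n14748 := rfl
theorem F58223 : act 1 n14748 = n14748 := d13_1 D14748 (iv D14748) F54557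
theorem F58224 : act 4 n14748 = n14487 := d28_1 D14748 (iv D14487) (iv F54559)
def n14749 : Q := act 4 n13836
theorem D14749 : act 4 n13836 = n14749 := rfl
theorem F58225 : act 0 n14749 = n14092 := d3_1 D14749 F55561 (iv F54564)
theorem F58226 : act 1 n14749 = n14749 := d10_1 D14749 (iv D14749) F54565
theorem F58227 : act 2 n14749 = n13921 := d16_1 D14749 (iv D13921) (iv F54566)
theorem F58228 : act 5 n14749 = n14678 := d26_2 (iv F54567) D14749 (iv D14678) F54232 (iv F50603)
theorem F58229 : act 6 n14749 = n14062 := d27_2 (iv F54568) D14749 F55403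
theorem F58230 : act 7 n14749 = n14491 := d28_2 (iv F54569) D14749 (iv D14491)
theorem F58231 : act 8 n14749 = n14059 := d29_2 (iv F54570) D14749 (iv D14059)
def n14750 : Q := act 6 n13837
theorem D14750 : act 6 n13837 = n14750 := rfl
theorem F58232 : act 0 n14750 = n14118 := d5_1 D14750 (iv F57644) F57640
theorem F58233 : act 1 n14750 = n14750 := d12_1 D14750 (iv D14750) F54571
theorem F58234 : act 2 n14750 = n14113 := d18_1 D14750 F55647 (iv F54572)
theorem F58235 : act 4 n14750 = n13838 := d27_1 D14750 (iv D13838) D13837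
theorem F58236 : act 5 n14750 = n14078 := d30_1 D14750 F55484 (iv F55629) F55630 (iv F54573)
theorem F58237 : act 7 n14076 = n14750 := d31_0 F58236 (iv D14078) (iv F55476)
def n14751 : Q := act 7 n13837
theorem D14751 : act 7 n13837 = n14751 := rfl
theorem F58238 : act 0 n14751 = n14116 := d6_1 D14751 (iv F57645) F57640
theorem F58239 : act 1 n14751 = n14751 := d13_1 D14751 (iv D14751) F54571
theorem F58240 : act 2 n14751 = n14112 := d19_1 D14751 (iv F55643) (iv F54572)
theorem F58241 : act 4 n14751 = n13839 := d28_1 D14751 (iv D13839) D13837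
theorem F58242 : act 5 n14751 = n14108 := d31_1 D14751 (iv F55625) (iv F54573)
theorem F58243 : act 6 n14751 = n14076 := d33_1 D14751 F58237 (iv D14750)
theorem F58244 : act 3 n14079 = n14751 := d23_3 F58243 F55475 (iv F55490)
theorem F58245 : act 8 n14074 = n14751 := d34_0 F58243 (iv D14076) D14074
def n14752 : Q := act 8 n13837
theorem D14752 : act 8 n13837 = n14752 := rfl
theorem F58246 : act 1 n14752 = n14752 := d14_1 D14752 (iv D14752) F54571
theorem F58247 : act 2 n14752 = n14243 := d20_1 D14752 (iv D14243) (iv F54572)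
theorem F58248 : act 4 n14752 = n13840 := d29_1 D14752 (iv D13840) D13837
theorem F58249 : act 5 n14752 = n14495 := d32_1 D14752 (iv D14495) (iv F54573)
theorem F58250 : act 7 n14752 = n14682 := d35_1 D14752 (iv D14682) F55466 F58245 (iv D14751)
def n14753 : Q := act 7 n13838
theorem D14753 : act 7 n13838 = n14753 := rfl
theorem F58251 : act 0 n14753 = n14115 := d6_1 D14753 (iv F57546) F57540
theorem F58252 : act 1 n14753 = n14753 := d13_1 D14753 (iv D14753) F54574
theorem F58253 : act 2 n14753 = n14111 := d19_1 D14753 (iv F55638) (iv F54575)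
theorem F58254 : act 3 n14753 = n14084 := d24_1 D14753 (iv F55516) F51615 (iv F50591) (iv F54576)
theorem F58255 : act 4 n14753 = n14076 := d28_1 D14753 F58237 F58235
theorem F58256 : act 5 n14753 = n14753 := d31_1 D14753 (iv D14753) F54577
theorem F58257 : act 6 n14753 = n13839 := d33_1 D14753 (iv D13839) D13838
theorem F58258 : act 8 n14073 = n14753 := d34_0 F58257 (iv F54582) (iv F55461)
def n14754 : Q := act 8 n13838
theorem D14754 : act 8 n13838 = n14754 := rfl
theorem F58259 : act 1 n14754 = n14754 := d14_1 D14754 (iv D14754) F54574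
theorem F58260 : act 2 n14754 = n14244 := d20_1 D14754 (iv D14244) (iv F54575)
theorem F58261 : act 3 n14754 = n13841 := d25_1 D14754 (iv D13841) (iv F54576)
theorem F58262 : act 5 n14754 = n14754 := d32_1 D14754 (iv D14754) F54577
theorem F58263 : act 6 n14754 = n13840 := d34_1 D14754 (iv D13840) D13838
theorem F58264 : act 7 n14754 = n14683 := d35_1 D14754 (iv D14683) F55460 F58258 (iv D14753)
def n14755 : Q := act 7 n13841
theorem D14755 : act 7 n13841 = n14755 := rfl
theorem F58265 : act 1 n14755 = n14755 := d13_1 D14755 (iv D14755) F54588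
theorem F58266 : act 2 n14755 = n13843 := d19_1 D14755 (iv D13843) (iv F54589)
theorem F58267 : act 3 n14755 = n14684 := d24_1 D14755 (iv D14684) (iv F57986) (iv F58264) F58261
theorem F58268 : act 5 n14755 = n14755 := d31_1 D14755 (iv D14755) F54590
theorem F58269 : act 6 n14755 = n13842 := d33_1 D14755 (iv D13842) (iv F54591)
theorem F58270 : act 8 n14755 = n14091 := d35_2 D13841 D14755 (iv D14091) (iv D13118) (iv F50591)
def n14756 : Q := act 7 n13845
theorem D14756 : act 7 n13845 = n14756 := rfl
theorem F58271 : act 1 n14756 = n13846 := d13_1 D14756 (iv D13846) (iv F54606)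
theorem F58272 : act 5 n14756 = n13869 := d31_1 D14756 (iv D13869) (iv F54608)
theorem F58273 : act 8 n14756 = n13849 := d35_2 D13845 D14756 (iv D13849) (iv D12859) (iv F50622)
def n14757 : Q := act 8 n13847
theorem D14757 : act 8 n13847 = n14757 := rfl
theorem F58274 : act 1 n14757 = n13850 := d14_1 D14757 (iv D13850) (iv F54613)
theorem F58275 : act 3 n14757 = n14757 := d25_1 D14757 (iv D14757) F54614
theorem F58276 : act 4 n14757 = n13885 := d29_1 D14757 (iv D13885) (iv F54615)
theorem F58277 : act 5 n14757 = n13848 := d32_1 D14757 (iv D13848) D13847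
def n14758 : Q := act 7 n13848
theorem D14758 : act 7 n13848 = n14758 := rfl
theorem F58278 : act 1 n14758 = n13851 := d13_1 D14758 (iv D13851) (iv F54616)
theorem F58279 : act 4 n14758 = n13849 := d28_1 D14758 (iv D13849) (iv F54618)
def n14759 : Q := act 7 n13850
theorem D14759 : act 7 n13850 = n14759 := rfl
theorem F58280 : act 0 n14759 = n13853 := d6_1 D14759 (iv D13853) (iv F54621)
theorem F58281 : act 2 n14759 = n13852 := d19_1 D14759 (iv D13852) (iv F54622)
theorem F58282 : act 4 n14759 = n13942 := d28_1 D14759 (iv D13942) (iv F54624)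
theorem F58283 : act 5 n14759 = n13851 := d31_1 D14759 (iv D13851) (iv F54625)
def n14760 : Q := act 3 n13851
theorem D14760 : act 3 n13851 = n14760 := rfl
theorem F58284 : act 0 n14760 = n13854 := d2_1 D14760 (iv D13854) (iv F54626)
theorem F58285 : act 7 n14760 = n14760 := d24_2 D13851 D14760 (iv D14760) (iv D13851) F50645
def n14761 : Q := act 3 n13853
theorem D14761 : act 3 n13853 = n14761 := rfl
theorem F58286 : act 5 n14761 = n13854 := d22_2 (iv F54634) D14761 (iv D13854)
theorem F58287 : act 7 n14761 = n14761 := d24_2 D13853 D14761 (iv D14761) (iv D13853) F50676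
def n14762 : Q := act 8 n13855
theorem D14762 : act 8 n13855 = n14762 := rfl
theorem F58288 : act 1 n14762 = n13973 := d14_1 D14762 (iv D13973) (iv F54636)
theorem F58289 : act 3 n14762 = n13856 := d25_1 D14762 (iv D13856) D13855
theorem F58290 : act 5 n14762 = n13859 := d32_1 D14762 (iv D13859) (iv F54637)
def n14763 : Q := act 4 n13857
theorem D14763 : act 4 n13857 = n14763 := rfl
theorem F58291 : act 1 n14763 = n14209 := d10_1 D14763 (iv D14209) (iv F54642)
theorem F58292 : act 2 n14763 = n13858 := d16_1 D14763 (iv D13858) D13857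
theorem F58293 : act 6 n14763 = n13861 := d27_2 (iv F54644) D14763 (iv D13861)
def n14764 : Q := act 8 n13857
theorem D14764 : act 8 n13857 = n14764 := rfl
theorem F58294 : act 1 n14764 = n14210 := d14_1 D14764 (iv D14210) (iv F54642)
theorem F58295 : act 2 n14764 = n13859 := d20_1 D14764 (iv D13859) D13857
theorem F58296 : act 3 n14764 = n13867 := d25_1 D14764 (iv D13867) (iv F54643)
theorem F58297 : act 6 n14764 = n13862 := d34_1 D14764 (iv D13862) (iv F54644)
def n14765 : Q := act 8 n13858
theorem D14765 : act 8 n13858 = n14765 := rfl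
theorem F58298 : act 1 n14765 = n13976 := d14_1 D14765 (iv D13976) (iv F54645)
theorem F58299 : act 3 n14765 = n14092 := d25_1 D14765 (iv D14092) (iv F54646)
theorem F58300 : act 4 n14765 = n13859 := d29_1 D14765 (iv D13859) D13858
theorem F58301 : act 6 n14765 = n13864 := d34_1 D14765 (iv D13864) (iv F54647)
def n14766 : Q := act 7 n13859
theorem D14766 : act 7 n13859 = n14766 := rfl
theorem F58302 : act 1 n14766 = n13977 := d13_1 D14766 (iv D13977) (iv F54648)
theorem F58303 : act 6 n14766 = n13865 := d33_1 D14766 (iv D13865) (iv F54650)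
def n14767 : Q := act 0 n13860
theorem D14767 : act 0 n13860 = n14767 := rfl
theorem F58304 : act 2 n14767 = n13978 := d1_2 (iv F54651) D14767 (iv D13978)
theorem F58305 : act 3 n14767 = n13870 := d2_2 (iv F54652) D14767 (iv D13870)
theorem F58306 : act 6 n14767 = n14154 := d5_2 (iv F54653) D14767 F55808
theorem F58307 : act 7 n14767 = n14612 := d6_2 (iv F54654) D14767 F57720
def n14768 : Q := act 4 n13860
theorem D14768 : act 4 n13860 = n14768 := rfl
theorem F58308 : act 1 n14768 = n13861 := d10_1 D14768 (iv D13861) D13860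
theorem F58309 : act 2 n14768 = n13979 := d16_1 D14768 (iv D13979) (iv F54651)
theorem F58310 : act 6 n14768 = n14209 := d27_2 (iv F54653) D14768 (iv D14209)
theorem F58311 : act 7 n14768 = n14763 := d28_2 (iv F54654) D14768 (iv D14763)
def n14769 : Q := act 8 n13860
theorem D14769 : act 8 n13860 = n14769 := rfl
theorem F58312 : act 1 n14769 = n13862 := d14_1 D14769 (iv D13862) D13860
theorem F58313 : act 2 n14769 = n13980 := d20_1 D14769 (iv D13980) (iv F54651)
theorem F58314 : act 3 n14769 = n13872 := d25_1 D14769 (iv D13872) (iv F54652)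
theorem F58315 : act 6 n14769 = n14210 := d34_1 D14769 (iv D14210) (iv F54653)
def n14770 : Q := act 3 n13861
theorem D14770 : act 3 n13861 = n14770 := rfl
theorem F58316 : act 2 n14770 = n14094 := d15_1 D14770 (iv D14094) F51654 (iv F50699) (iv F54655)
theorem F58317 : act 4 n14770 = n13873 := d21_2 D13861 D14770 (iv D13873) (iv D12885) (iv F50697)
def n14771 : Q := act 5 n13861
theorem D14771 : act 5 n13861 = n14771 := rfl
theorem F58318 : act 2 n14771 = n13863 := d17_1 D14771 (iv D13863) (iv F54655)
def n14772 : Q := act 8 n13861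
theorem D14772 : act 8 n13861 = n14772 := rfl
theorem F58319 : act 2 n14772 = n13864 := d20_1 D14772 (iv D13864) (iv F54655)
theorem F58320 : act 4 n14772 = n13862 := d29_1 D14772 (iv D13862) D13861
def n14773 : Q := act 7 n13862
theorem D14773 : act 7 n13862 = n14773 := rfl
theorem F58321 : act 2 n14773 = n13865 := d19_1 D14773 (iv D13865) (iv F54656)
def n14774 : Q := act 6 n13863
theorem D14774 : act 6 n13863 = n14774 := rfl
theorem F58322 : act 1 n14774 = n13984 := d12_1 D14774 (iv D13984) (iv F54658)
theorem F58323 : act 3 n14774 = n14098 := d23_1 D14774 (iv D14098) (iv F54659)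
def n14775 : Q := act 8 n13863
theorem D14775 : act 8 n13863 = n14775 := rfl
theorem F58324 : act 1 n14775 = n13985 := d14_1 D14775 (iv D13985) (iv F54658)
theorem F58325 : act 3 n14775 = n14099 := d25_1 D14775 (iv D14099) (iv F54659)
theorem F58326 : act 5 n14775 = n13864 := d32_1 D14775 (iv D13864) D13863
def n14776 : Q := act 7 n13864
theorem D14776 : act 7 n13864 = n14776 := rfl
theorem F58327 : act 1 n14776 = n13986 := d13_1 D14776 (iv D13986) (iv F54660)
theorem F58328 : act 4 n14776 = n13865 := d28_1 D14776 (iv D13865) (iv F54662)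
def n14777 : Q := act 3 n13866
theorem D14777 : act 3 n13866 = n14777 := rfl
theorem F58329 : act 0 n14777 = n14123 := d2_1 D14777 F55678 (iv F54664)
theorem F58330 : act 1 n14777 = n14214 := d9_1 D14777 (iv D14214) (iv F54665)
theorem F58331 : act 2 n14777 = n14081 := d15_1 D14777 (iv D14081) F51521 (iv F50713) (iv F54666)
theorem F58332 : act 6 n14777 = n13873 := d23_2 (iv F54667) D14777 (iv D13873)
def n14778 : Q := act 5 n13866
theorem D14778 : act 5 n13866 = n14778 := rfl
theorem F58333 : act 0 n14778 = n14125 := d4_1 D14778 F55682 (iv F54664)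
theorem F58334 : act 1 n14778 = n14215 := d11_1 D14778 (iv D14215) (iv F54665)
theorem F58335 : act 2 n14778 = n13868 := d17_1 D14778 (iv D13868) (iv F54666)
theorem F58336 : act 7 n14778 = n13881 := d31_2 (iv F54668) D14778 (iv D13881)
def n14779 : Q := act 7 n13867
theorem D14779 : act 7 n13867 = n14779 := rfl
theorem F58337 : act 1 n14779 = n14217 := d13_1 D14779 (iv D14217) (iv F54669)
theorem F58338 : act 2 n14779 = n13869 := d19_1 D14779 (iv D13869) (iv F54670)
theorem F58339 : act 6 n14779 = n13876 := d33_1 D14779 (iv D13876) (iv F54671)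
theorem F58340 : act 8 n14779 = n13883 := d35_2 D13867 D14779 (iv D13883) (iv D12891) (iv F50710)
def n14780 : Q := act 4 n13870
theorem D14780 : act 4 n13870 = n14780 := rfl
theorem F58341 : act 0 n14780 = n13871 := d3_1 D14780 (iv D13871) D13870
theorem F58342 : act 2 n14780 = n13932 := d16_1 D14780 (iv D13932) (iv F54679)
theorem F58343 : act 6 n14780 = n14158 := d27_2 (iv F54680) D14780 (iv D14158)
theorem F58344 : act 7 n14780 = n13887 := d28_2 (iv F54681) D14780 (iv D13887)
def n14781 : Q := act 8 n13870
theorem D14781 : act 8 n13870 = n14781 := rfl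
theorem F58345 : act 0 n14781 = n13872 := d7_1 D14781 (iv D13872) D13870
theorem F58346 : act 2 n14781 = n13933 := d20_1 D14781 (iv D13933) (iv F54679)
theorem F58347 : act 6 n14781 = n14159 := d34_1 D14781 (iv D14159) (iv F54680)
def n14782 : Q := act 3 n13871
theorem D14782 : act 3 n13871 = n14782 := rfl
theorem F58348 : act 1 n14782 = n13873 := d9_1 D14782 (iv D13873) (iv F54682)
theorem F58349 : act 2 n14782 = n14782 := d15_1 D14782 (iv D14782) F54683 F50894 (iv F54683)
theorem F58350 : act 6 n14782 = n14214 := d23_2 (iv F54684) D14782 (iv D14214)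
def n14783 : Q := act 5 n13871
theorem D14783 : act 5 n13871 = n14783 := rfl
theorem F58351 : act 1 n14783 = n13874 := d11_1 D14783 (iv D13874) (iv F54682)
theorem F58352 : act 2 n14783 = n13934 := d17_1 D14783 (iv D13934) (iv F54683)
theorem F58353 : act 7 n14783 = n13890 := d31_2 (iv F54685) D14783 (iv D13890)
def n14784 : Q := act 8 n13871
theorem D14784 : act 8 n13871 = n14784 := rfl
theorem F58354 : act 1 n14784 = n13875 := d14_1 D14784 (iv D13875) (iv F54682)
theorem F58355 : act 2 n14784 = n13935 := d20_1 D14784 (iv D13935) (iv F54683)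
theorem F58356 : act 4 n14784 = n13872 := d29_1 D14784 (iv D13872) D13871
theorem F58357 : act 6 n14784 = n14216 := d34_1 D14784 (iv D14216) (iv F54684)
def n14785 : Q := act 7 n13872
theorem D14785 : act 7 n13872 = n14785 := rfl
theorem F58358 : act 1 n14785 = n13876 := d13_1 D14785 (iv D13876) (iv F54686)
theorem F58359 : act 2 n14785 = n13936 := d19_1 D14785 (iv D13936) (iv F54687)
theorem F58360 : act 6 n14785 = n14217 := d33_1 D14785 (iv D14217) (iv F54688)
theorem F58361 : act 8 n14785 = n13892 := d35_2 D13872 D14785 (iv D13892) (iv D12897) (iv F50721)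
def n14786 : Q := act 5 n13873
theorem D14786 : act 5 n13873 = n14786 := rfl
theorem F58362 : act 2 n14786 = n14101 := d17_1 D14786 (iv D14101) (iv F54689)
theorem F58363 : act 3 n14786 = n13874 := d22_1 D14786 (iv D13874) D13873
def n14787 : Q := act 7 n13873
theorem D14787 : act 7 n13873 = n14787 := rfl
theorem F58364 : act 2 n14787 = n14102 := d19_1 D14787 (iv D14102) (iv F54689)
theorem F58365 : act 3 n14787 = n13894 := d24_1 D14787 (iv D13894) (iv D12898) (iv F50723) D13873
def n14788 : Q := act 8 n13873
theorem D14788 : act 8 n13873 = n14788 := rfl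
theorem F58366 : act 2 n14788 = n14103 := d20_1 D14788 (iv D14103) (iv F54689)
theorem F58367 : act 3 n14788 = n13875 := d25_1 D14788 (iv D13875) D13873
def n14789 : Q := act 6 n13874
theorem D14789 : act 6 n13874 = n14789 := rfl
theorem F58368 : act 2 n14789 = n13877 := d18_1 D14789 (iv D13877) (iv F54690)
theorem F58369 : act 7 n14789 = n13896 := d33_2 (iv F54691) D14789 (iv D13896)
def n14790 : Q := act 8 n13874
theorem D14790 : act 8 n13874 = n14790 := rfl
theorem F58370 : act 2 n14790 = n13878 := d20_1 D14790 (iv D13878) (iv F54690)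
theorem F58371 : act 5 n14790 = n13875 := d32_1 D14790 (iv D13875) D13874
def n14791 : Q := act 7 n13875
theorem D14791 : act 7 n13875 = n14791 := rfl
theorem F58372 : act 2 n14791 = n13879 := d19_1 D14791 (iv D13879) (iv F54692)
theorem F58373 : act 4 n14791 = n13876 := d28_1 D14791 (iv D13876) (iv F54693)
theorem F58374 : act 8 n14791 = n13898 := d35_2 D13875 D14791 (iv D13898) (iv D12900) (iv F50723)
def n14792 : Q := act 3 n13876
theorem D14792 : act 3 n13876 = n14792 := rfl
theorem F58375 : act 8 n14792 = n13899 := d25_2 (iv F54695) D14792 (iv D13899)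
def n14793 : Q := act 8 n13877
theorem D14793 : act 8 n13877 = n14793 := rfl
theorem F58376 : act 1 n14793 = n13939 := d14_1 D14793 (iv D13939) (iv F54696)
theorem F58377 : act 3 n14793 = n14106 := d25_1 D14793 (iv D14106) (iv F54697)
theorem F58378 : act 6 n14793 = n13878 := d34_1 D14793 (iv D13878) D13877
def n14794 : Q := act 7 n13878
theorem D14794 : act 7 n13878 = n14794 := rfl
theorem F58379 : act 1 n14794 = n13940 := d13_1 D14794 (iv D13940) (iv F54699)
theorem F58380 : act 5 n14794 = n13879 := d31_1 D14794 (iv D13879) (iv F54701)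
theorem F58381 : act 8 n14794 = n13901 := d35_2 D13878 D14794 (iv D13901) (iv D12903) (iv F50727)
def n14795 : Q := act 5 n13880
theorem D14795 : act 5 n13880 = n14795 := rfl
theorem F58382 : act 1 n14795 = n14220 := d11_1 D14795 (iv D14220) (iv F54705)
theorem F58383 : act 2 n14795 = n13903 := d17_1 D14795 (iv D13903) (iv F54706)
theorem F58384 : act 3 n14795 = n13881 := d22_1 D14795 (iv D13881) D13880
def n14796 : Q := act 7 n13880
theorem D14796 : act 7 n13880 = n14796 := rfl
theorem F58385 : act 1 n14796 = n14221 := d13_1 D14796 (iv D14221) (iv F54705)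
theorem F58386 : act 2 n14796 = n13904 := d19_1 D14796 (iv D13904) (iv F54706)
theorem F58387 : act 6 n14796 = n13894 := d33_1 D14796 (iv D13894) (iv F54707)
def n14797 : Q := act 8 n13880
theorem D14797 : act 8 n13880 = n14797 := rfl
theorem F58388 : act 1 n14797 = n14222 := d14_1 D14797 (iv D14222) (iv F54705)
theorem F58389 : act 2 n14797 = n13905 := d20_1 D14797 (iv D13905) (iv F54706)
theorem F58390 : act 3 n14797 = n13882 := d25_1 D14797 (iv D13882) D13880
theorem F58391 : act 6 n14797 = n13895 := d34_1 D14797 (iv D13895) (iv F54707)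
def n14798 : Q := act 6 n13881
theorem D14798 : act 6 n13881 = n14798 := rfl
theorem F58392 : act 1 n14798 = n14223 := d12_1 D14798 (iv D14223) (iv F54708)
theorem F58393 : act 2 n14798 = n13884 := d18_1 D14798 (iv D13884) (iv F54709)
theorem F58394 : act 5 n14798 = n13896 := d30_1 D14798 (iv D13896) (iv D12899) (iv F50735) D13881
def n14799 : Q := act 8 n13881
theorem D14799 : act 8 n13881 = n14799 := rfl
theorem F58395 : act 1 n14799 = n14224 := d14_1 D14799 (iv D14224) (iv F54708)
theorem F58396 : act 2 n14799 = n13885 := d20_1 D14799 (iv D13885) (iv F54709)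
theorem F58397 : act 5 n14799 = n13882 := d32_1 D14799 (iv D13882) D13881
def n14800 : Q := act 7 n13882
theorem D14800 : act 7 n13882 = n14800 := rfl
theorem F58398 : act 1 n14800 = n14225 := d13_1 D14800 (iv D14225) (iv F54710)
theorem F58399 : act 2 n14800 = n13886 := d19_1 D14800 (iv D13886) (iv F54711)
theorem F58400 : act 4 n14800 = n13883 := d28_1 D14800 (iv D13883) (iv F54712)
theorem F58401 : act 6 n14800 = n13898 := d33_1 D14800 (iv D13898) (iv F54713)
def n14801 : Q := act 3 n13883
theorem D14801 : act 3 n13883 = n14801 := rfl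
theorem F58402 : act 1 n14801 = n14226 := d9_1 D14801 (iv D14226) (iv F54714)
theorem F58403 : act 6 n14801 = n13899 := d23_2 (iv F54716) D14801 (iv D13899)
def n14802 : Q := act 8 n13884
theorem D14802 : act 8 n13884 = n14802 := rfl
theorem F58404 : act 1 n14802 = n13941 := d14_1 D14802 (iv D13941) (iv F54717)
theorem F58405 : act 3 n14802 = n13910 := d25_1 D14802 (iv D13910) (iv F54718)
theorem F58406 : act 5 n14802 = n13900 := d32_1 D14802 (iv D13900) (iv F54719)
theorem F58407 : act 6 n14802 = n13885 := d34_1 D14802 (iv D13885) D13884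
def n14803 : Q := act 7 n13885
theorem D14803 : act 7 n13885 = n14803 := rfl
theorem F58408 : act 1 n14803 = n13942 := d13_1 D14803 (iv D13942) (iv F54720)
theorem F58409 : act 5 n14803 = n13886 := d31_1 D14803 (iv D13886) (iv F54722)
def n14804 : Q := act 3 n13887
theorem D14804 : act 3 n13887 = n14804 := rfl
theorem F58410 : act 0 n14804 = n13889 := d2_1 D14804 (iv D13889) (iv F54726)
theorem F58411 : act 2 n14804 = n13988 := d15_1 D14804 (iv D13988) F51127 (iv F50936) (iv F54727)
theorem F58412 : act 4 n14804 = n14641 := d21_2 D13887 D14804 (iv D14641) (iv D13718) (iv F50748)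
theorem F58413 : act 6 n14804 = n14164 := d23_2 (iv F54728) D14804 (iv D14164)
def n14805 : Q := act 5 n13887
theorem D14805 : act 5 n13887 = n14805 := rfl
theorem F58414 : act 0 n14805 = n13890 := d4_1 D14805 (iv D13890) (iv F54726)
theorem F58415 : act 2 n14805 = n13943 := d17_1 D14805 (iv D13943) (iv F54727)
def n14806 : Q := act 8 n13887
theorem D14806 : act 8 n13887 = n14806 := rfl
theorem F58416 : act 0 n14806 = n13891 := d7_1 D14806 (iv D13891) (iv F54726)
theorem F58417 : act 2 n14806 = n13944 := d20_1 D14806 (iv D13944) (iv F54727)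
theorem F58418 : act 4 n14806 = n13888 := d29_1 D14806 (iv D13888) D13887
theorem F58419 : act 6 n14806 = n14166 := d34_1 D14806 (iv D14166) (iv F54728)
def n14807 : Q := act 7 n13888
theorem D14807 : act 7 n13888 = n14807 := rfl
theorem F58420 : act 0 n14807 = n13892 := d6_1 D14807 (iv D13892) (iv F54729)
theorem F58421 : act 2 n14807 = n13945 := d19_1 D14807 (iv D13945) (iv F54730)
theorem F58422 : act 6 n14807 = n14167 := d33_1 D14807 (iv D14167) (iv F54732)
def n14808 : Q := act 5 n13889
theorem D14808 : act 5 n13889 = n14808 := rfl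
theorem F58423 : act 1 n14808 = n13893 := d11_1 D14808 (iv D13893) (iv F54733)
theorem F58424 : act 2 n14808 = n13992 := d17_1 D14808 (iv D13992) (iv F54734)
theorem F58425 : act 3 n14808 = n13890 := d22_1 D14808 (iv D13890) D13889
def n14809 : Q := act 7 n13889
theorem D14809 : act 7 n13889 = n14809 := rfl
theorem F58426 : act 1 n14809 = n13894 := d13_1 D14809 (iv D13894) (iv F54733)
theorem F58427 : act 2 n14809 = n13993 := d19_1 D14809 (iv D13993) (iv F54734)
theorem F58428 : act 4 n14809 = n14796 := d28_1 D14809 (iv D14796) (iv F54735)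
theorem F58429 : act 6 n14809 = n14221 := d33_1 D14809 (iv D14221) (iv F54736)
def n14810 : Q := act 8 n13889
theorem D14810 : act 8 n13889 = n14810 := rfl
theorem F58430 : act 1 n14810 = n13895 := d14_1 D14810 (iv D13895) (iv F54733)
theorem F58431 : act 2 n14810 = n13994 := d20_1 D14810 (iv D13994) (iv F54734)
theorem F58432 : act 3 n14810 = n13891 := d25_1 D14810 (iv D13891) D13889
theorem F58433 : act 4 n14810 = n14797 := d29_1 D14810 (iv D14797) (iv F54735)
theorem F58434 : act 6 n14810 = n14222 := d34_1 D14810 (iv D14222) (iv F54736)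
def n14811 : Q := act 6 n13890
theorem D14811 : act 6 n13890 = n14811 := rfl
theorem F58435 : act 1 n14811 = n13896 := d12_1 D14811 (iv D13896) (iv F54737)
theorem F58436 : act 2 n14811 = n13946 := d18_1 D14811 (iv D13946) (iv F54738)
theorem F58437 : act 5 n14811 = n14223 := d30_1 D14811 (iv D14223) (iv D13265) (iv F50752) D13890
def n14812 : Q := act 8 n13890
theorem D14812 : act 8 n13890 = n14812 := rfl
theorem F58438 : act 1 n14812 = n13897 := d14_1 D14812 (iv D13897) (iv F54737)
theorem F58439 : act 2 n14812 = n13947 := d20_1 D14812 (iv D13947) (iv F54738)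
theorem F58440 : act 5 n14812 = n13891 := d32_1 D14812 (iv D13891) D13890
def n14813 : Q := act 7 n13891
theorem D14813 : act 7 n13891 = n14813 := rfl
theorem F58441 : act 1 n14813 = n13898 := d13_1 D14813 (iv D13898) (iv F54739)
theorem F58442 : act 2 n14813 = n13948 := d19_1 D14813 (iv D13948) (iv F54740)
theorem F58443 : act 4 n14813 = n13892 := d28_1 D14813 (iv D13892) (iv F54741)
theorem F58444 : act 6 n14813 = n14225 := d33_1 D14813 (iv D14225) (iv F54742)
def n14814 : Q := act 3 n13892
theorem D14814 : act 3 n13892 = n14814 := rfl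
theorem F58445 : act 1 n14814 = n13899 := d9_1 D14814 (iv D13899) (iv F54743)
theorem F58446 : act 6 n14814 = n14226 := d23_2 (iv F54745) D14814 (iv D14226)
theorem F58447 : act 7 n14814 = n14801 := d24_2 D13892 D14814 (iv D14801) (iv D13883) (iv F50755)
def n14815 : Q := act 4 n13893
theorem D14815 : act 4 n13893 = n14815 := rfl
theorem F58448 : act 2 n14815 = n13912 := d16_1 D14815 (iv D13912) (iv F54746)
def n14816 : Q := act 6 n13893
theorem D14816 : act 6 n13893 = n14816 := rfl
theorem F58449 : act 2 n14816 = n13913 := d18_1 D14816 (iv D13913) (iv F54746)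
theorem F58450 : act 3 n14816 = n13896 := d23_1 D14816 (iv D13896) (iv F54747)
theorem F58451 : act 7 n14815 = n14816 := d19_0 F58449 (iv F54805) (iv F58448)
def n14817 : Q := act 7 n13893
theorem D14817 : act 7 n13893 = n14817 := rfl
theorem F58452 : act 2 n14817 = n13914 := d19_1 D14817 (iv D13914) (iv F54746)
theorem F58453 : act 4 n14817 = n14816 := d28_1 D14817 (iv F58451) (iv D14815)
theorem F58454 : act 5 n14817 = n13894 := d31_1 D14817 (iv D13894) D13893
theorem F58455 : act 6 n14817 = n14815 := d33_1 D14817 F58451 (iv D14816)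
def n14818 : Q := act 8 n13893
theorem D14818 : act 8 n13893 = n14818 := rfl
theorem F58456 : act 2 n14818 = n13915 := d20_1 D14818 (iv D13915) (iv F54746)
theorem F58457 : act 3 n14818 = n13897 := d25_1 D14818 (iv D13897) (iv F54747)
theorem F58458 : act 5 n14818 = n13895 := d32_1 D14818 (iv D13895) D13893
def n14819 : Q := act 8 n13894
theorem D14819 : act 8 n13894 = n14819 := rfl
theorem F58459 : act 2 n14819 = n13916 := d20_1 D14819 (iv D13916) (iv F54748)
def n14820 : Q := act 7 n13895
theorem D14820 : act 7 n13895 = n14820 := rfl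
theorem F58460 : act 2 n14820 = n13917 := d19_1 D14820 (iv D13917) (iv F54749)
def n14821 : Q := act 8 n13896
theorem D14821 : act 8 n13896 = n14821 := rfl
theorem F58461 : act 2 n14821 = n13900 := d20_1 D14821 (iv D13900) (iv F54751)
theorem F58462 : act 6 n14821 = n13897 := d34_1 D14821 (iv D13897) D13896
def n14822 : Q := act 7 n13897
theorem D14822 : act 7 n13897 = n14822 := rfl
theorem F58463 : act 2 n14822 = n13901 := d19_1 D14822 (iv D13901) (iv F54752)
theorem F58464 : act 5 n14822 = n13898 := d31_1 D14822 (iv D13898) (iv F54753)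
def n14823 : Q := act 3 n13898
theorem D14823 : act 3 n13898 = n14823 := rfl
def n14824 : Q := act 4 n13899
theorem D14824 : act 4 n13899 = n14824 := rfl
def n14825 : Q := act 7 n13900
theorem D14825 : act 7 n13900 = n14825 := rfl
theorem F58465 : act 1 n14825 = n13952 := d13_1 D14825 (iv D13952) (iv F54756)
theorem F58466 : act 6 n14825 = n13901 := d33_1 D14825 (iv D13901) (iv F54758)
def n14826 : Q := act 3 n13901
theorem D14826 : act 3 n13901 = n14826 := rfl
theorem F58467 : act 1 n14826 = n13953 := d9_1 D14826 (iv D13953) (iv F54759)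
theorem F58468 : act 5 n14826 = n13902 := d22_2 (iv F54760) D14826 (iv D13902)
theorem F58469 : act 7 n14826 = n13923 := d24_2 D13901 D14826 (iv D13923) (iv D12920) (iv F50765)
def n14827 : Q := act 2 n13902
theorem D14827 : act 2 n13902 = n14827 := rfl
theorem F58470 : act 7 n14827 = n13924 := d19_2 (iv F54762) D14827 (iv D13924)
def n14828 : Q := act 4 n13903
theorem D14828 : act 4 n13903 = n14828 := rfl
theorem F58471 : act 1 n14828 = n14012 := d10_1 D14828 (iv D14012) (iv F54763)
theorem F58472 : act 3 n14828 = n14828 := d21_1 D14828 (iv D14828) F54764 F50773 (iv F54764)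
theorem F58473 : act 6 n14232 = n14828 := d12_0 F58471 (iv F55177) (iv F56043)
theorem F58474 : act 7 n14231 = n14828 := d13_0 F58471 (iv F55178) (iv F56041)
def n14829 : Q := act 6 n13903
theorem D14829 : act 6 n13903 = n14829 := rfl
theorem F58475 : act 1 n14829 = n14013 := d12_1 D14829 (iv D14013) (iv F54763)
theorem F58476 : act 3 n14829 = n13906 := d23_1 D14829 (iv D13906) (iv F54764)
theorem F58477 : act 4 n14829 = n14232 := d27_1 D14829 F58473 (iv D14828)
theorem F58478 : act 5 n14829 = n13913 := d30_1 D14829 (iv D13913) (iv D12912) (iv F50770) D13903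
theorem F58479 : act 7 n14230 = n14829 := d31_0 F58478 (iv F54805) (iv F56040)
def n14830 : Q := act 7 n13903
theorem D14830 : act 7 n13903 = n14830 := rfl
theorem F58480 : act 1 n14830 = n14014 := d13_1 D14830 (iv D14014) (iv F54763)
theorem F58481 : act 3 n14830 = n14113 := d24_1 D14830 (iv D14113) F51692 (iv F50774) (iv F54764)
theorem F58482 : act 4 n14830 = n14231 := d28_1 D14830 F58474 (iv D14828)
theorem F58483 : act 5 n14830 = n13904 := d31_1 D14830 (iv D13904) D13903
theorem F58484 : act 6 n14830 = n14230 := d33_1 D14830 F58479 (iv D14829)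
def n14831 : Q := act 8 n13903
theorem D14831 : act 8 n13903 = n14831 := rfl
theorem F58485 : act 1 n14831 = n14015 := d14_1 D14831 (iv D14015) (iv F54763)
theorem F58486 : act 3 n14831 = n13907 := d25_1 D14831 (iv D13907) (iv F54764)
theorem F58487 : act 5 n14831 = n13905 := d32_1 D14831 (iv D13905) D13903
def n14832 : Q := act 8 n13904
theorem D14832 : act 8 n13904 = n14832 := rfl
theorem F58488 : act 1 n14832 = n14016 := d14_1 D14832 (iv D14016) (iv F54765)
theorem F58489 : act 3 n14832 = n14114 := d25_1 D14832 (iv D14114) (iv F54766)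
theorem F58490 : act 6 n14832 = n13916 := d34_1 D14832 (iv D13916) (iv F54767)
def n14833 : Q := act 7 n13905
theorem D14833 : act 7 n13905 = n14833 := rfl
theorem F58491 : act 1 n14833 = n14017 := d13_1 D14833 (iv D14017) (iv F54768)
theorem F58492 : act 6 n14833 = n13917 := d33_1 D14833 (iv D13917) (iv F54770)
def n14834 : Q := act 8 n13906
theorem D14834 : act 8 n13906 = n14834 := rfl
theorem F58493 : act 1 n14834 = n14018 := d14_1 D14834 (iv D14018) (iv F54771)
theorem F58494 : act 2 n14834 = n13910 := d20_1 D14834 (iv D13910) (iv F54772)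
theorem F58495 : act 4 n14834 = n14834 := d29_1 D14834 (iv D14834) F54773
theorem F58496 : act 5 n14834 = n13918 := d32_1 D14834 (iv D13918) (iv F54774)
theorem F58497 : act 6 n14834 = n13907 := d34_1 D14834 (iv D13907) D13906
def n14835 : Q := act 7 n13907
theorem D14835 : act 7 n13907 = n14835 := rfl
theorem F58498 : act 0 n14835 = n14105 := d6_1 D14835 (iv F57917) F57912
theorem F58499 : act 1 n14835 = n14019 := d13_1 D14835 (iv D14019) (iv F54776)
theorem F58500 : act 2 n14835 = n13911 := d19_1 D14835 (iv D13911) (iv F54777)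
theorem F58501 : act 4 n14835 = n14835 := d28_1 D14835 (iv D14835) F54778
theorem F58502 : act 5 n14835 = n13908 := d31_1 D14835 (iv D13908) (iv F54779)
theorem F58503 : act 8 n14835 = n14065 := d35_2 D13907 D14835 F55418 F51474 (iv F50774)
def n14836 : Q := act 3 n13908
theorem D14836 : act 3 n13908 = n14836 := rfl
theorem F58504 : act 0 n14836 = n14103 := d2_1 D14836 F55603 (iv F54780)
theorem F58505 : act 1 n14836 = n14020 := d9_1 D14836 (iv D14020) (iv F54781)
theorem F58506 : act 6 n14836 = n13920 := d23_2 (iv F54784) D14836 (iv D13920)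
theorem F58507 : act 8 n14836 = n14064 := d25_2 (iv F54785) D14836 (iv D14064)
def n14837 : Q := act 4 n13909
theorem D14837 : act 4 n13909 = n14837 := rfl
theorem F58508 : act 0 n14837 = n14096 := d3_1 D14837 F55579 (iv F54786)
theorem F58509 : act 1 n14837 = n14021 := d10_1 D14837 (iv D14021) (iv F54787)
theorem F58510 : act 2 n14837 = n14062 := d16_1 D14837 F55403 (iv F54788)
theorem F58511 : act 6 n14837 = n13921 := d27_2 (iv F54790) D14837 (iv D13921)
theorem F58512 : act 8 n14837 = n14060 := d29_2 (iv F54791) D14837 (iv D14060)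
def n14838 : Q := act 7 n13910
theorem D14838 : act 7 n13910 = n14838 := rfl
theorem F58513 : act 0 n14838 = n14106 := d6_1 D14838 (iv F57923) F57918
theorem F58514 : act 1 n14838 = n13955 := d13_1 D14838 (iv D13955) (iv F54792)
theorem F58515 : act 4 n14838 = n14838 := d28_1 D14838 (iv D14838) F54793
theorem F58516 : act 5 n14838 = n13922 := d31_1 D14838 (iv D13922) (iv F54794)
theorem F58517 : act 6 n14838 = n13911 := d33_1 D14838 (iv D13911) (iv F54795)
theorem F58518 : act 8 n14838 = n14066 := d35_2 D13910 D14838 F55423 F51480 (iv F50788)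
def n14839 : Q := act 8 n13912
theorem D14839 : act 8 n13912 = n14839 := rfl
theorem F58519 : act 1 n14839 = n14025 := d14_1 D14839 (iv D14025) (iv F54801)
theorem F58520 : act 3 n14839 = n13925 := d25_1 D14839 (iv D13925) (iv F54802)
theorem F58521 : act 4 n14839 = n13915 := d29_1 D14839 (iv D13915) D13912
def n14840 : Q := act 8 n13913
theorem D14840 : act 8 n13913 = n14840 := rfl
theorem F58522 : act 1 n14840 = n14026 := d14_1 D14840 (iv D14026) (iv F54803)
theorem F58523 : act 3 n14840 = n13918 := d25_1 D14840 (iv D13918) (iv F54804)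
theorem F58524 : act 6 n14840 = n13915 := d34_1 D14840 (iv D13915) D13913
def n14841 : Q := act 8 n13914
theorem D14841 : act 8 n13914 = n14841 := rfl
theorem F58525 : act 1 n14841 = n14027 := d14_1 D14841 (iv D14027) (iv F54806)
theorem F58526 : act 3 n14841 = n14117 := d25_1 D14841 (iv D14117) (iv F54807)
theorem F58527 : act 4 n14841 = n14840 := d29_1 D14841 (iv D14840) (iv F54808)
theorem F58528 : act 5 n14841 = n13916 := d32_1 D14841 (iv D13916) (iv F54809)
theorem F58529 : act 6 n14841 = n14839 := d34_1 D14841 (iv D14839) (iv F54810)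
def n14842 : Q := act 7 n13915
theorem D14842 : act 7 n13915 = n14842 := rfl
theorem F58530 : act 1 n14842 = n14028 := d13_1 D14842 (iv D14028) (iv F54811)
theorem F58531 : act 5 n14842 = n13917 := d31_1 D14842 (iv D13917) (iv F54813)
def n14843 : Q := act 7 n13916
theorem D14843 : act 7 n13916 = n14843 := rfl
theorem F58532 : act 1 n14843 = n14029 := d13_1 D14843 (iv D14029) (iv F54814)
theorem F58533 : act 8 n14843 = n13917 := d35_2 D13916 D14843 (iv D13917) (iv D12914) D12913
def n14844 : Q := act 3 n13917
theorem D14844 : act 3 n13917 = n14844 := rfl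
theorem F58534 : act 1 n14844 = n14030 := d9_1 D14844 (iv D14030) (iv F54816)
theorem F58535 : act 7 n14844 = n13920 := d24_2 D13917 D14844 (iv D13920) (iv D12917) (iv F50802)
def n14845 : Q := act 7 n13918
theorem D14845 : act 7 n13918 = n14845 := rfl
theorem F58536 : act 1 n14845 = n14031 := d13_1 D14845 (iv D14031) (iv F54817)
theorem F58537 : act 2 n14845 = n13922 := d19_1 D14845 (iv D13922) (iv F54818)
theorem F58538 : act 4 n14845 = n13929 := d28_1 D14845 (iv D13929) (iv F54819)
theorem F58539 : act 6 n14845 = n13919 := d33_1 D14845 (iv D13919) (iv F54820)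
theorem F58540 : act 8 n14845 = n14121 := d35_2 D13918 D14845 (iv D14121) (iv D13146) (iv F50806)
def n14846 : Q := act 3 n13919
theorem D14846 : act 3 n13919 = n14846 := rfl
theorem F58541 : act 1 n14846 = n14032 := d9_1 D14846 (iv D14032) (iv F54821)
theorem F58542 : act 4 n14846 = n14762 := d21_2 (iv F54823) D14846 F58289 F54865 (iv D13930)
theorem F58543 : act 5 n14846 = n13920 := d22_2 (iv F54824) D14846 (iv D13920)
theorem F58544 : act 8 n14846 = n14122 := d25_2 (iv F54825) D14846 (iv D14122)
def n14847 : Q := act 2 n13920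
theorem D14847 : act 2 n13920 = n14847 := rfl
theorem F58545 : act 3 n14847 = n13924 := d15_2 D13920 D14847 (iv D13924) (iv D12921) (iv F50812)
theorem F58546 : act 8 n14847 = n14123 := d20_2 (iv F54827) D14847 (iv D14123)
def n14848 : Q := act 4 n13920
theorem D14848 : act 4 n13920 = n14848 := rfl
theorem F58547 : act 1 n14848 = n14034 := d10_1 D14848 (iv D14034) (iv F54826)
theorem F58548 : act 3 n14848 = n13921 := d21_1 D14848 (iv D13921) (iv D12918) (iv F50813) D13920
theorem F58549 : act 5 n14848 = n14765 := d26_2 F58543 D14848 F58300 (iv F58290) (iv F58542)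
theorem F58550 : act 8 n14848 = n14124 := d29_2 (iv F54827) D14848 (iv D14124)
def n14849 : Q := act 2 n13923
theorem D14849 : act 2 n13923 = n14849 := rfl
theorem F58551 : act 5 n14849 = n13924 := d17_2 (iv F54835) D14849 (iv D13924)
theorem F58552 : act 8 n14849 = n14125 := d20_2 (iv F54836) D14849 (iv D14125)
def n14850 : Q := act 1 n13924
theorem D14850 : act 1 n13924 = n14850 := rfl
theorem F58553 : act 2 n14850 = n13956 := d8_2 D13924 D14850 (iv D13956) (iv D12964) (iv F50825)
theorem F58554 : act 8 n14850 = n14126 := d14_2 (iv F54837) D14850 (iv D14126)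
def n14851 : Q := act 7 n13925
theorem D14851 : act 7 n13925 = n14851 := rfl
theorem F58555 : act 0 n14851 = n14752 := d6_1 D14851 F58250 F57981
theorem F58556 : act 1 n14851 = n14036 := d13_1 D14851 (iv D14036) (iv F54838)
theorem F58557 : act 4 n14851 = n13928 := d28_1 D14851 (iv D13928) (iv F54839)
theorem F58558 : act 8 n14851 = n14595 := d35_2 D13925 D14851 F57645 (iv D14116) (iv F51708)
def n14852 : Q := act 7 n13926
theorem D14852 : act 7 n13926 = n14852 := rfl
theorem F58559 : act 0 n14852 = n14754 := d6_1 D14852 F58264 F57984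
theorem F58560 : act 1 n14852 = n14037 := d13_1 D14852 (iv D14037) (iv F54840)
theorem F58561 : act 5 n14852 = n14852 := d31_1 D14852 (iv D14852) F54842
theorem F58562 : act 6 n14852 = n13928 := d33_1 D14852 (iv D13928) (iv F54843)
theorem F58563 : act 8 n14852 = n14577 := d35_2 D13926 D14852 F57546 (iv D14115) (iv F51704)
theorem F58564 : act 3 n14578 = n14852 := d25_3 F58563 (iv D14577) D14578
def n14853 : Q := act 3 n13929
theorem D14853 : act 3 n13929 = n14853 := rfl
theorem F58565 : act 0 n14853 = n14755 := d2_1 D14853 F58267 F57989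
theorem F58566 : act 1 n14853 = n14040 := d9_1 D14853 (iv D14040) (iv F54854)
theorem F58567 : act 2 n14853 = n14426 := d15_1 D14853 F56900 F53871 F52606 (iv F54855)
theorem F58568 : act 5 n14853 = n14853 := d22_2 F54856 D14853 (iv D14853)
theorem F58569 : act 6 n14853 = n13930 := d23_2 (iv F54857) D14853 (iv D13930)
theorem F58570 : act 7 n14853 = n14578 := d24_2 D13929 D14853 F58564 (iv D14852) F54841
theorem F58571 : act 8 n14853 = n14127 := d25_2 (iv F54858) D14853 (iv D14127)
theorem F58572 : act 4 n14417 = n14853 := d29_3 F58571 (iv F55690) D14417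
def n14854 : Q := act 8 n13932
theorem D14854 : act 8 n13932 = n14854 := rfl
theorem F58573 : act 0 n14854 = n13935 := d7_1 D14854 (iv D13935) (iv F54873)
theorem F58574 : act 1 n14854 = n13957 := d14_1 D14854 (iv D13957) (iv F54874)
theorem F58575 : act 3 n14854 = n14854 := d25_1 D14854 (iv D14854) F54875
theorem F58576 : act 4 n14854 = n13933 := d29_1 D14854 (iv D13933) D13932
theorem F58577 : act 6 n14854 = n14160 := d34_1 D14854 (iv D14160) (iv F54876)
def n14855 : Q := act 7 n13933
theorem D14855 : act 7 n13933 = n14855 := rfl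
theorem F58578 : act 0 n14855 = n13936 := d6_1 D14855 (iv D13936) (iv F54878)
theorem F58579 : act 1 n14855 = n13958 := d13_1 D14855 (iv D13958) (iv F54879)
theorem F58580 : act 6 n14855 = n14161 := d33_1 D14855 (iv D14161) (iv F54881)
theorem F58581 : act 8 n14855 = n13945 := d35_2 D13933 D14855 (iv D13945) (iv D12950) (iv F50892)
def n14856 : Q := act 8 n13934
theorem D14856 : act 8 n13934 = n14856 := rfl
theorem F58582 : act 1 n14856 = n13937 := d14_1 D14856 (iv D13937) (iv F54882)
theorem F58583 : act 3 n14856 = n14856 := d25_1 D14856 (iv D14856) F54883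
theorem F58584 : act 5 n14856 = n13935 := d32_1 D14856 (iv D13935) D13934
def n14857 : Q := act 7 n13935
theorem D14857 : act 7 n13935 = n14857 := rfl
theorem F58585 : act 1 n14857 = n13938 := d13_1 D14857 (iv D13938) (iv F54885)
theorem F58586 : act 4 n14857 = n13936 := d28_1 D14857 (iv D13936) (iv F54887)
theorem F58587 : act 6 n14857 = n14219 := d33_1 D14857 (iv D14219) (iv F54888)
theorem F58588 : act 8 n14857 = n13948 := d35_2 D13935 D14857 (iv D13948) (iv D12952) (iv F50896)
def n14858 : Q := act 7 n13937
theorem D14858 : act 7 n13937 = n14858 := rfl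
theorem F58589 : act 0 n14858 = n13960 := d6_1 D14858 (iv D13960) (iv F54892)
theorem F58590 : act 2 n14858 = n13940 := d19_1 D14858 (iv D13940) (iv F54893)
theorem F58591 : act 5 n14858 = n13938 := d31_1 D14858 (iv D13938) (iv F54895)
theorem F58592 : act 8 n14858 = n13950 := d35_2 D13937 D14858 (iv D13950) (iv D12955) (iv F50903)
def n14859 : Q := act 3 n13938
theorem D14859 : act 3 n13938 = n14859 := rfl
theorem F58593 : act 0 n14859 = n13961 := d2_1 D14859 (iv D13961) (iv F54896)
theorem F58594 : act 6 n14859 = n14253 := d23_2 (iv F54899) D14859 (iv D14253)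
theorem F58595 : act 7 n14859 = n14859 := d24_2 D13938 D14859 (iv D14859) (iv D13938) F50906
theorem F58596 : act 8 n14859 = n13951 := d25_2 (iv F54900) D14859 (iv D13951)
def n14860 : Q := act 7 n13939
theorem D14860 : act 7 n13939 = n14860 := rfl
theorem F58597 : act 0 n14860 = n13962 := d6_1 D14860 (iv D13962) (iv F54901)
theorem F58598 : act 6 n14860 = n13940 := d33_1 D14860 (iv D13940) (iv F54903)
theorem F58599 : act 8 n14860 = n13952 := d35_2 D13939 D14860 (iv D13952) (iv D12957) (iv F50915)
def n14861 : Q := act 7 n13941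
theorem D14861 : act 7 n13941 = n14861 := rfl
theorem F58600 : act 0 n14861 = n13963 := d6_1 D14861 (iv D13963) (iv F54907)
theorem F58601 : act 2 n14861 = n14254 := d19_1 D14861 (iv D14254) (iv F54908)
theorem F58602 : act 5 n14861 = n13952 := d31_1 D14861 (iv D13952) (iv F54910)
theorem F58603 : act 6 n14861 = n13942 := d33_1 D14861 (iv D13942) (iv F54911)
def n14862 : Q := act 8 n13943
theorem D14862 : act 8 n13943 = n14862 := rfl
theorem F58604 : act 0 n14862 = n13947 := d7_1 D14862 (iv D13947) (iv F54915)
theorem F58605 : act 1 n14862 = n13964 := d14_1 D14862 (iv D13964) (iv F54916)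
theorem F58606 : act 3 n14862 = n14042 := d25_1 D14862 (iv D14042) (iv F54917)
theorem F58607 : act 5 n14862 = n13944 := d32_1 D14862 (iv D13944) D13943
def n14863 : Q := act 7 n13944
theorem D14863 : act 7 n13944 = n14863 := rfl
theorem F58608 : act 0 n14863 = n13948 := d6_1 D14863 (iv D13948) (iv F54918)
theorem F58609 : act 1 n14863 = n13965 := d13_1 D14863 (iv D13965) (iv F54919)
theorem F58610 : act 4 n14863 = n13945 := d28_1 D14863 (iv D13945) (iv F54921)
theorem F58611 : act 6 n14863 = n14169 := d33_1 D14863 (iv D14169) (iv F54922)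
def n14864 : Q := act 8 n13946
theorem D14864 : act 8 n13946 = n14864 := rfl
theorem F58612 : act 1 n14864 = n13949 := d14_1 D14864 (iv D13949) (iv F54926)
theorem F58613 : act 3 n14864 = n14044 := d25_1 D14864 (iv D14044) (iv F54927)
theorem F58614 : act 5 n14864 = n14227 := d32_1 D14864 (iv D14227) (iv F54928)
theorem F58615 : act 6 n14864 = n13947 := d34_1 D14864 (iv D13947) D13946
def n14865 : Q := act 7 n13947
theorem D14865 : act 7 n13947 = n14865 := rfl
theorem F58616 : act 1 n14865 = n13950 := d13_1 D14865 (iv D13950) (iv F54929)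
theorem F58617 : act 5 n14865 = n13948 := d31_1 D14865 (iv D13948) (iv F54931)
def n14866 : Q := act 3 n13948
theorem D14866 : act 3 n13948 = n14866 := rfl
theorem F58618 : act 1 n14866 = n13951 := d9_1 D14866 (iv D13951) (iv F54932)
theorem F58619 : act 6 n14866 = n14229 := d23_2 (iv F54934) D14866 (iv D14229)
theorem F58620 : act 7 n14866 = n14046 := d24_2 D13948 D14866 (iv D14046) (iv D13058) (iv F50945)
def n14867 : Q := act 7 n13949
theorem D14867 : act 7 n13949 = n14867 := rfl
theorem F58621 : act 0 n14867 = n13968 := d6_1 D14867 (iv D13968) (iv F54935)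
theorem F58622 : act 2 n14867 = n13952 := d19_1 D14867 (iv D13952) (iv F54936)
theorem F58623 : act 5 n14867 = n14254 := d31_1 D14867 (iv D14254) (iv F54938)
theorem F58624 : act 6 n14867 = n13950 := d33_1 D14867 (iv D13950) (iv F54939)
def n14868 : Q := act 3 n13950
theorem D14868 : act 3 n13950 = n14868 := rfl
theorem F58625 : act 0 n14868 = n13969 := d2_1 D14868 (iv D13969) (iv F54940)
theorem F58626 : act 5 n14868 = n13951 := d22_2 (iv F54942) D14868 (iv D13951)
theorem F58627 : act 7 n14868 = n14048 := d24_2 D13950 D14868 (iv D14048) (iv D13060) (iv F50956)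
def n14869 : Q := act 2 n13951
theorem D14869 : act 2 n13951 = n14869 := rfl
theorem F58628 : act 0 n14869 = n13970 := d1_1 D14869 (iv D13970) (iv F54943)
theorem F58629 : act 3 n14869 = n13954 := d15_2 D13951 D14869 (iv D13954) (iv D12959) (iv F50959)
theorem F58630 : act 6 n14869 = n14256 := d18_2 (iv F54944) D14869 (iv D14256)
theorem F58631 : act 7 n14869 = n14049 := d19_2 (iv F54945) D14869 (iv D14049)
def n14870 : Q := act 1 n13954
theorem D14870 : act 1 n13954 = n14870 := rfl
theorem F58632 : act 7 n14870 = n13956 := d13_2 (iv F54952) D14870 (iv D13956)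
def n14871 : Q := act 7 n13957
theorem D14871 : act 7 n13957 = n14871 := rfl
theorem F58633 : act 0 n14871 = n13959 := d6_1 D14871 (iv D13959) (iv F54961)
theorem F58634 : act 4 n14871 = n13958 := d28_1 D14871 (iv D13958) (iv F54963)
theorem F58635 : act 6 n14871 = n14190 := d33_1 D14871 (iv D14190) (iv F54964)
theorem F58636 : act 8 n14871 = n13965 := d35_2 D13957 D14871 (iv D13965) (iv D12977) (iv F51000)
def n14872 : Q := act 3 n13959
theorem D14872 : act 3 n13959 = n14872 := rfl
theorem F58637 : act 1 n14872 = n13961 := d9_1 D14872 (iv D13961) (iv F54968)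
theorem F58638 : act 6 n14872 = n14203 := d23_2 (iv F54970) D14872 (iv D14203)
theorem F58639 : act 7 n14872 = n14872 := d24_2 D13959 D14872 (iv D14872) (iv D13959) F51005
theorem F58640 : act 8 n14872 = n13967 := d25_2 (iv F54971) D14872 (iv D13967)
def n14873 : Q := act 3 n13960
theorem D14873 : act 3 n13960 = n14873 := rfl
theorem F58641 : act 5 n14873 = n13961 := d22_2 (iv F54973) D14873 (iv D13961)
theorem F58642 : act 7 n14873 = n14873 := d24_2 D13960 D14873 (iv D14873) (iv D13960) F51012
theorem F58643 : act 8 n14873 = n13969 := d25_2 (iv F54974) D14873 (iv D13969)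
def n14874 : Q := act 7 n13964
theorem D14874 : act 7 n13964 = n14874 := rfl
theorem F58644 : act 0 n14874 = n13966 := d6_1 D14874 (iv D13966) (iv F54983)
theorem F58645 : act 5 n14874 = n13965 := d31_1 D14874 (iv D13965) (iv F54985)
def n14875 : Q := act 3 n13965
theorem D14875 : act 3 n13965 = n14875 := rfl
theorem F58646 : act 0 n14875 = n13967 := d2_1 D14875 (iv D13967) (iv F54986)
theorem F58647 : act 6 n14875 = n14196 := d23_2 (iv F54988) D14875 (iv D14196)
theorem F58648 : act 7 n14875 = n14054 := d24_2 D13965 D14875 (iv D14054) (iv D13071) (iv F51031)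
def n14876 : Q := act 3 n13966
theorem D14876 : act 3 n13966 = n14876 := rfl
theorem F58649 : act 1 n14876 = n13969 := d9_1 D14876 (iv D13969) (iv F54989)
theorem F58650 : act 5 n14876 = n13967 := d22_2 (iv F54990) D14876 (iv D13967)
theorem F58651 : act 7 n14876 = n14056 := d24_2 D13966 D14876 (iv D14056) (iv D13073) (iv F51037)
def n14877 : Q := act 2 n13967
theorem D14877 : act 2 n13967 = n14877 := rfl
theorem F58652 : act 4 n14877 = n13969 := d16_2 F56796 D14877 (iv F56795)
theorem F58653 : act 6 n14877 = n14207 := d18_2 (iv F54992) D14877 (iv D14207)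
theorem F58654 : act 7 n14877 = n14057 := d19_2 (iv F54993) D14877 (iv D14057)
def n14878 : Q := act 5 n13971
theorem D14878 : act 5 n13971 = n14878 := rfl
theorem F58655 : act 0 n14878 = n14878 := d4_1 D14878 (iv D14878) F55002
theorem F58656 : act 1 n14878 = n14334 := d11_1 D14878 (iv D14334) (iv F55003)
theorem F58657 : act 3 n14878 = n14128 := d22_1 D14878 (iv D14128) (iv F55004)
theorem F58658 : act 7 n14878 = n14564 := d31_2 (iv F55006) D14878 (iv D14564)
def n14879 : Q := act 8 n13971
theorem D14879 : act 8 n13971 = n14879 := rfl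
theorem F58659 : act 0 n14879 = n14879 := d7_1 D14879 (iv D14879) F55002
theorem F58660 : act 1 n14879 = n14336 := d14_1 D14879 (iv D14336) (iv F55003)
theorem F58661 : act 3 n14879 = n14129 := d25_1 D14879 (iv D14129) (iv F55004)
theorem F58662 : act 4 n14879 = n13972 := d29_1 D14879 (iv D13972) D13971
theorem F58663 : act 6 n14879 = n13974 := d34_1 D14879 (iv D13974) (iv F55005)
def n14880 : Q := act 7 n13972
theorem D14880 : act 7 n13972 = n14880 := rfl
theorem F58664 : act 0 n14880 = n14880 := d6_1 D14880 (iv D14880) F55007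
theorem F58665 : act 3 n14880 = n13977 := d24_1 D14880 (iv D13977) F51092 (iv F51067) (iv F55008)
theorem F58666 : act 6 n14880 = n13975 := d33_1 D14880 (iv D13975) (iv F55009)
theorem F58667 : act 8 n14880 = n14566 := d35_2 D13972 D14880 (iv D14566) (iv D13633) (iv F51062)
def n14881 : Q := act 7 n13973
theorem D14881 : act 7 n13973 = n14881 := rfl
theorem F58668 : act 0 n14881 = n14881 := d6_1 D14881 (iv D14881) F55010
theorem F58669 : act 2 n14881 = n13975 := d19_1 D14881 (iv D13975) (iv F55011)
theorem F58670 : act 5 n14881 = n13977 := d31_1 D14881 (iv D13977) (iv F55013)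
theorem F58671 : act 8 n14881 = n14571 := d35_2 D13973 D14881 (iv D14571) (iv D13636) (iv F51071)
def n14882 : Q := act 7 n13974
theorem D14882 : act 7 n13974 = n14882 := rfl
theorem F58672 : act 0 n14882 = n14882 := d6_1 D14882 (iv D14882) F55014
theorem F58673 : act 4 n14882 = n13975 := d28_1 D14882 (iv D13975) (iv F55016)
theorem F58674 : act 8 n14882 = n14574 := d35_2 D13974 D14882 (iv D14574) (iv D13638) (iv F51074)
def n14883 : Q := act 7 n13976
theorem D14883 : act 7 n13976 = n14883 := rfl
theorem F58675 : act 0 n14883 = n14883 := d6_1 D14883 (iv D14883) F55021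
theorem F58676 : act 2 n14883 = n14270 := d19_1 D14883 (iv D14270) (iv F55022)
theorem F58677 : act 4 n14883 = n13977 := d28_1 D14883 (iv D13977) (iv F55024)
theorem F58678 : act 6 n14883 = n13986 := d33_1 D14883 (iv D13986) (iv F55025)
def n14884 : Q := act 4 n13978
theorem D14884 : act 4 n13978 = n14884 := rfl
theorem F58679 : act 0 n14884 = n13979 := d3_1 D14884 (iv D13979) D13978
theorem F58680 : act 1 n14884 = n14884 := d10_1 D14884 (iv D14884) F55029
theorem F58681 : act 3 n14884 = n14884 := d21_1 D14884 (iv D14884) F55030 F51114 (iv F55030)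
theorem F58682 : act 6 n14884 = n14155 := d27_2 (iv F55031) D14884 (iv D14155)
theorem F58683 : act 7 n14884 = n14613 := d28_2 (iv F55032) D14884 (iv D14613)
def n14885 : Q := act 8 n13978
theorem D14885 : act 8 n13978 = n14885 := rfl
theorem F58684 : act 0 n14885 = n13980 := d7_1 D14885 (iv D13980) D13978
theorem F58685 : act 1 n14885 = n14885 := d14_1 D14885 (iv D14885) F55029
theorem F58686 : act 3 n14885 = n13987 := d25_1 D14885 (iv D13987) (iv F55030)
theorem F58687 : act 6 n14885 = n14156 := d34_1 D14885 (iv D14156) (iv F55031)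
def n14886 : Q := act 5 n13979
theorem D14886 : act 5 n13979 = n14886 := rfl
theorem F58688 : act 1 n14886 = n13981 := d11_1 D14886 (iv D13981) (iv F55033)
theorem F58689 : act 3 n14886 = n14886 := d22_1 D14886 (iv D14886) F55034
theorem F58690 : act 4 n14886 = n14120 := d26_1 D14886 F57503 (iv D14568) F53748 D13979
theorem F58691 : act 7 n14886 = n14124 := d31_2 (iv F55036) D14886 F55681
def n14887 : Q := act 8 n13979
theorem D14887 : act 8 n13979 = n14887 := rfl
theorem F58692 : act 1 n14887 = n13982 := d14_1 D14887 (iv D13982) (iv F55033)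
theorem F58693 : act 3 n14887 = n14887 := d25_1 D14887 (iv D14887) F55034
theorem F58694 : act 4 n14887 = n13980 := d29_1 D14887 (iv D13980) D13979
theorem F58695 : act 6 n14887 = n14212 := d34_1 D14887 (iv D14212) (iv F55035)
def n14888 : Q := act 7 n13980
theorem D14888 : act 7 n13980 = n14888 := rfl
theorem F58696 : act 1 n14888 = n13983 := d13_1 D14888 (iv D13983) (iv F55037)
theorem F58697 : act 6 n14888 = n14213 := d33_1 D14888 (iv D14213) (iv F55039)
theorem F58698 : act 8 n14888 = n14766 := d35_2 D13980 D14888 (iv D14766) (iv D13859) (iv F51096)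
def n14889 : Q := act 6 n13981
theorem D14889 : act 6 n13981 = n14889 := rfl
theorem F58699 : act 0 n14889 = n14889 := d5_1 D14889 (iv D14889) F55040
theorem F58700 : act 2 n14889 = n13984 := d18_1 D14889 (iv D13984) (iv F55041)
theorem F58701 : act 3 n14889 = n14889 := d23_1 D14889 (iv D14889) F55042
theorem F58702 : act 4 n14889 = n14142 := d27_1 D14889 F55765 (iv F55043)
theorem F58703 : act 5 n14889 = n14268 := d30_1 D14889 (iv D14268) (iv D13316) (iv F51100) D13981
theorem F58704 : act 7 n14889 = n14146 := d33_2 (iv F55044) D14889 F55779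
def n14890 : Q := act 8 n13981
theorem D14890 : act 8 n13981 = n14890 := rfl
theorem F58705 : act 0 n14890 = n14890 := d7_1 D14890 (iv D14890) F55040
theorem F58706 : act 2 n14890 = n13985 := d20_1 D14890 (iv D13985) (iv F55041)
theorem F58707 : act 3 n14890 = n14890 := d25_1 D14890 (iv D14890) F55042
theorem F58708 : act 4 n14890 = n14151 := d29_1 D14890 F55801 (iv F55043)
theorem F58709 : act 5 n14890 = n13982 := d32_1 D14890 (iv D13982) D13981
def n14891 : Q := act 7 n13982
theorem D14891 : act 7 n13982 = n14891 := rfl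
theorem F58710 : act 0 n14891 = n14891 := d6_1 D14891 (iv D14891) F55045
theorem F58711 : act 2 n14891 = n13986 := d19_1 D14891 (iv D13986) (iv F55046)
theorem F58712 : act 4 n14891 = n13983 := d28_1 D14891 (iv D13983) (iv F55048)
theorem F58713 : act 6 n14891 = n14270 := d33_1 D14891 (iv D14270) (iv F55049)
theorem F58714 : act 8 n14891 = n14883 := d35_2 D13982 D14891 (iv D14883) (iv D13976) (iv F51101)
def n14892 : Q := act 8 n13984
theorem D14892 : act 8 n13984 = n14892 := rfl
theorem F58715 : act 0 n14892 = n14892 := d7_1 D14892 (iv D14892) F55054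
theorem F58716 : act 3 n14892 = n14134 := d25_1 D14892 (iv D14134) (iv F55055)
theorem F58717 : act 6 n14892 = n13985 := d34_1 D14892 (iv D13985) D13984
def n14893 : Q := act 7 n13985
theorem D14893 : act 7 n13985 = n14893 := rfl
theorem F58718 : act 0 n14893 = n14893 := d6_1 D14893 (iv D14893) F55056
theorem F58719 : act 5 n14893 = n13986 := d31_1 D14893 (iv D13986) (iv F55058)
def n14894 : Q := act 3 n13986
theorem D14894 : act 3 n13986 = n14894 := rfl
theorem F58720 : act 0 n14894 = n14894 := d2_1 D14894 (iv D14894) F55059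
theorem F58721 : act 7 n14894 = n14136 := d24_2 D13986 D14894 (iv D14136) (iv D13171) (iv F51109)
def n14895 : Q := act 5 n13988
theorem D14895 : act 5 n13988 = n14895 := rfl
theorem F58722 : act 0 n14895 = n13992 := d4_1 D14895 (iv D13992) (iv F55066)
theorem F58723 : act 1 n14895 = n14895 := d11_1 D14895 (iv D14895) F55067
theorem F58724 : act 3 n14895 = n13989 := d22_1 D14895 (iv D13989) D13988
def n14896 : Q := act 7 n13988
theorem D14896 : act 7 n13988 = n14896 := rfl
theorem F58725 : act 0 n14896 = n13993 := d6_1 D14896 (iv D13993) (iv F55066)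
theorem F58726 : act 1 n14896 = n14896 := d13_1 D14896 (iv D14896) F55067
theorem F58727 : act 3 n14896 = n14896 := d24_1 D14896 (iv D14896) (iv D13988) F51129 D13988
theorem F58728 : act 4 n14896 = n14664 := d28_1 D14896 (iv D14664) (iv F55068)
theorem F58729 : act 6 n14896 = n14171 := d33_1 D14896 (iv D14171) (iv F55069)
def n14897 : Q := act 8 n13988
theorem D14897 : act 8 n13988 = n14897 := rfl
theorem F58730 : act 0 n14897 = n13994 := d7_1 D14897 (iv D13994) (iv F55066)
theorem F58731 : act 1 n14897 = n14897 := d14_1 D14897 (iv D14897) F55067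
theorem F58732 : act 3 n14897 = n13990 := d25_1 D14897 (iv D13990) D13988
theorem F58733 : act 4 n14897 = n14665 := d29_1 D14897 (iv D14665) (iv F55068)
theorem F58734 : act 6 n14897 = n14172 := d34_1 D14897 (iv D14172) (iv F55069)
def n14898 : Q := act 6 n13989
theorem D14898 : act 6 n13989 = n14898 := rfl
theorem F58735 : act 0 n14898 = n13995 := d5_1 D14898 (iv D13995) (iv F55070)
theorem F58736 : act 1 n14898 = n14898 := d12_1 D14898 (iv D14898) F55071
theorem F58737 : act 2 n14898 = n14041 := d18_1 D14898 (iv D14041) (iv F55072)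
theorem F58738 : act 4 n14898 = n14898 := d27_1 D14898 (iv D14898) F55073
theorem F58739 : act 5 n14898 = n14173 := d30_1 D14898 (iv D14173) (iv D13212) (iv F51128) D13989
theorem F58740 : act 7 n14898 = n14898 := d33_2 F55074 D14898 (iv D14898)
def n14899 : Q := act 8 n13989
theorem D14899 : act 8 n13989 = n14899 := rfl
theorem F58741 : act 0 n14899 = n13996 := d7_1 D14899 (iv D13996) (iv F55070)
theorem F58742 : act 1 n14899 = n14899 := d14_1 D14899 (iv D14899) F55071
theorem F58743 : act 2 n14899 = n14042 := d20_1 D14899 (iv D14042) (iv F55072)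
theorem F58744 : act 4 n14899 = n14899 := d29_1 D14899 (iv D14899) F55073
theorem F58745 : act 5 n14899 = n13990 := d32_1 D14899 (iv D13990) D13989
def n14900 : Q := act 7 n13990
theorem D14900 : act 7 n13990 = n14900 := rfl
theorem F58746 : act 0 n14900 = n13997 := d6_1 D14900 (iv D13997) (iv F55075)
theorem F58747 : act 1 n14900 = n14900 := d13_1 D14900 (iv D14900) F55076
theorem F58748 : act 2 n14900 = n14043 := d19_1 D14900 (iv D14043) (iv F55077)
theorem F58749 : act 4 n14900 = n13991 := d28_1 D14900 (iv D13991) (iv F55078)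
theorem F58750 : act 6 n14900 = n14175 := d33_1 D14900 (iv D14175) (iv F55079)
theorem F58751 : act 8 n14900 = n14900 := d35_2 D13990 D14900 (iv D14900) (iv D13990) F51129
def n14901 : Q := act 4 n13992
theorem D14901 : act 4 n13992 = n14901 := rfl
theorem F58752 : act 1 n14901 = n13999 := d10_1 D14901 (iv D13999) (iv F55086)
theorem F58753 : act 3 n14901 = n14901 := d21_1 D14901 (iv D14901) F55087 F51141 (iv F55087)
theorem F58754 : act 5 n14901 = n14828 := d26_2 D13992 D14901 (iv D14828) (iv D13903) (iv F51137)
def n14902 : Q := act 6 n13992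
theorem D14902 : act 6 n13992 = n14902 := rfl
theorem F58755 : act 1 n14902 = n14000 := d12_1 D14902 (iv D14000) (iv F55086)
theorem F58756 : act 3 n14902 = n13995 := d23_1 D14902 (iv D13995) (iv F55087)
theorem F58757 : act 5 n14902 = n14231 := d30_1 D14902 (iv D14231) (iv D13271) (iv F51138) D13992
theorem F58758 : act 7 n14901 = n14902 := d31_0 F58757 F58474 (iv F58754)
def n14903 : Q := act 7 n13992
theorem D14903 : act 7 n13992 = n14903 := rfl
theorem F58759 : act 1 n14903 = n14001 := d13_1 D14903 (iv D14001) (iv F55086)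
theorem F58760 : act 3 n14903 = n14903 := d24_1 D14903 (iv D14903) F55087 F51142 (iv F55087)
theorem F58761 : act 4 n14903 = n14902 := d28_1 D14903 (iv F58758) (iv D14901)
theorem F58762 : act 5 n14903 = n13993 := d31_1 D14903 (iv D13993) D13992
theorem F58763 : act 6 n14903 = n14901 := d33_1 D14903 F58758 (iv D14902)
def n14904 : Q := act 8 n13992
theorem D14904 : act 8 n13992 = n14904 := rfl
theorem F58764 : act 1 n14904 = n14002 := d14_1 D14904 (iv D14002) (iv F55086)
theorem F58765 : act 3 n14904 = n13996 := d25_1 D14904 (iv D13996) (iv F55087)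
theorem F58766 : act 5 n14904 = n13994 := d32_1 D14904 (iv D13994) D13992
def n14905 : Q := act 8 n13993
theorem D14905 : act 8 n13993 = n14905 := rfl
theorem F58767 : act 1 n14905 = n14003 := d14_1 D14905 (iv D14003) (iv F55088)
theorem F58768 : act 3 n14905 = n14905 := d25_1 D14905 (iv D14905) F55089
theorem F58769 : act 4 n14905 = n14832 := d29_1 D14905 (iv D14832) (iv F55090)
theorem F58770 : act 6 n14905 = n14234 := d34_1 D14905 (iv D14234) (iv F55091)
def n14906 : Q := act 7 n13994
theorem D14906 : act 7 n13994 = n14906 := rfl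
theorem F58771 : act 1 n14906 = n14004 := d13_1 D14906 (iv D14004) (iv F55092)
theorem F58772 : act 4 n14906 = n14833 := d28_1 D14906 (iv D14833) (iv F55094)
theorem F58773 : act 6 n14906 = n14235 := d33_1 D14906 (iv D14235) (iv F55095)
def n14907 : Q := act 8 n13995
theorem D14907 : act 8 n13995 = n14907 := rfl
theorem F58774 : act 1 n14907 = n14005 := d14_1 D14907 (iv D14005) (iv F55096)
theorem F58775 : act 2 n14907 = n14044 := d20_1 D14907 (iv D14044) (iv F55097)
theorem F58776 : act 4 n14907 = n14907 := d29_1 D14907 (iv D14907) F55098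
theorem F58777 : act 5 n14907 = n14236 := d32_1 D14907 (iv D14236) (iv F55099)
theorem F58778 : act 6 n14907 = n13996 := d34_1 D14907 (iv D13996) D13995
def n14908 : Q := act 7 n13996
theorem D14908 : act 7 n13996 = n14908 := rfl
theorem F58779 : act 1 n14908 = n14006 := d13_1 D14908 (iv D14006) (iv F55101)
theorem F58780 : act 2 n14908 = n14045 := d19_1 D14908 (iv D14045) (iv F55102)
theorem F58781 : act 4 n14908 = n14908 := d28_1 D14908 (iv D14908) F55103
theorem F58782 : act 5 n14908 = n13997 := d31_1 D14908 (iv D13997) (iv F55104)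
theorem F58783 : act 8 n14908 = n14908 := d35_2 D13996 D14908 (iv D14908) (iv D13996) F51142
def n14909 : Q := act 3 n13997
theorem D14909 : act 3 n13997 = n14909 := rfl
theorem F58784 : act 1 n14909 = n14007 := d9_1 D14909 (iv D14007) (iv F55105)
theorem F58785 : act 6 n14909 = n14238 := d23_2 (iv F55108) D14909 (iv D14238)
theorem F58786 : act 8 n14909 = n14909 := d25_2 F55109 D14909 (iv D14909)
def n14910 : Q := act 4 n13998
theorem D14910 : act 4 n13998 = n14910 := rfl
theorem F58787 : act 1 n14910 = n14008 := d10_1 D14910 (iv D14008) (iv F55110)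
theorem F58788 : act 6 n14910 = n14239 := d27_2 (iv F55112) D14910 (iv D14239)
theorem F58789 : act 7 n14910 = n14837 := d28_2 (iv F55113) D14910 (iv D14837)
theorem F58790 : act 8 n14910 = n14910 := d29_2 F55114 D14910 (iv D14910)
def n14911 : Q := act 8 n13999
theorem D14911 : act 8 n13999 = n14911 := rfl
theorem F58791 : act 0 n14911 = n14911 := d7_1 D14911 (iv D14911) F55115
theorem F58792 : act 2 n14911 = n14025 := d20_1 D14911 (iv D14025) (iv F55116)
theorem F58793 : act 3 n14911 = n14911 := d25_1 D14911 (iv D14911) F55117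
theorem F58794 : act 4 n14911 = n14002 := d29_1 D14911 (iv D14002) D13999
def n14912 : Q := act 8 n14000
theorem D14912 : act 8 n14000 = n14912 := rfl
theorem F58795 : act 0 n14912 = n14912 := d7_1 D14912 (iv D14912) F55118
theorem F58796 : act 2 n14912 = n14026 := d20_1 D14912 (iv D14026) (iv F55119)
theorem F58797 : act 3 n14912 = n14005 := d25_1 D14912 (iv D14005) (iv F55120)
theorem F58798 : act 5 n14912 = n14272 := d32_1 D14912 (iv D14272) (iv F55121)
theorem F58799 : act 6 n14912 = n14002 := d34_1 D14912 (iv D14002) D14000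
def n14913 : Q := act 8 n14001
theorem D14913 : act 8 n14001 = n14913 := rfl
theorem F58800 : act 0 n14913 = n14913 := d7_1 D14913 (iv D14913) F55123
theorem F58801 : act 2 n14913 = n14027 := d20_1 D14913 (iv D14027) (iv F55124)
theorem F58802 : act 3 n14913 = n14913 := d25_1 D14913 (iv D14913) F55125
theorem F58803 : act 4 n14913 = n14912 := d29_1 D14913 (iv D14912) (iv F55126)
theorem F58804 : act 5 n14913 = n14003 := d32_1 D14913 (iv D14003) (iv F55127)
theorem F58805 : act 6 n14913 = n14911 := d34_1 D14913 (iv D14911) (iv F55128)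
def n14914 : Q := act 7 n14002
theorem D14914 : act 7 n14002 = n14914 := rfl
theorem F58806 : act 0 n14914 = n14914 := d6_1 D14914 (iv D14914) F55129
theorem F58807 : act 2 n14914 = n14028 := d19_1 D14914 (iv D14028) (iv F55130)
theorem F58808 : act 5 n14914 = n14004 := d31_1 D14914 (iv D14004) (iv F55132)
def n14915 : Q := act 7 n14003
theorem D14915 : act 7 n14003 = n14915 := rfl
theorem F58809 : act 0 n14915 = n14915 := d6_1 D14915 (iv D14915) F55133
theorem F58810 : act 2 n14915 = n14029 := d19_1 D14915 (iv D14029) (iv F55134)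
theorem F58811 : act 6 n14915 = n14275 := d33_1 D14915 (iv D14275) (iv F55136)
theorem F58812 : act 8 n14915 = n14004 := d35_2 D14003 D14915 (iv D14004) (iv D13014) D13013
def n14916 : Q := act 3 n14004
theorem D14916 : act 3 n14004 = n14916 := rfl
theorem F58813 : act 0 n14916 = n14916 := d2_1 D14916 (iv D14916) F55137
theorem F58814 : act 6 n14916 = n14276 := d23_2 (iv F55139) D14916 (iv D14276)
theorem F58815 : act 7 n14916 = n14007 := d24_2 D14004 D14916 (iv D14007) (iv D13017) (iv F51161)
def n14917 : Q := act 7 n14005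
theorem D14917 : act 7 n14005 = n14917 := rfl
theorem F58816 : act 0 n14917 = n14917 := d6_1 D14917 (iv D14917) F55140
theorem F58817 : act 2 n14917 = n14009 := d19_1 D14917 (iv D14009) (iv F55141)
theorem F58818 : act 4 n14917 = n14917 := d28_1 D14917 (iv D14917) F55142
theorem F58819 : act 5 n14917 = n14277 := d31_1 D14917 (iv D14277) (iv F55143)
theorem F58820 : act 6 n14917 = n14006 := d33_1 D14917 (iv D14006) (iv F55144)
theorem F58821 : act 8 n14917 = n14917 := d35_2 D14005 D14917 (iv D14917) (iv D14005) F51167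
def n14918 : Q := act 3 n14006
theorem D14918 : act 3 n14006 = n14918 := rfl
theorem F58822 : act 0 n14918 = n14918 := d2_1 D14918 (iv D14918) F55145
theorem F58823 : act 5 n14918 = n14007 := d22_2 (iv F55148) D14918 (iv D14007)
theorem F58824 : act 8 n14918 = n14918 := d25_2 F55149 D14918 (iv D14918)
def n14919 : Q := act 2 n14007
theorem D14919 : act 2 n14007 = n14919 := rfl
theorem F58825 : act 0 n14919 = n14919 := d1_1 D14919 (iv D14919) F55150
theorem F58826 : act 3 n14919 = n14011 := d15_2 D14007 D14919 (iv D14011) (iv D13021) (iv F51173)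
theorem F58827 : act 6 n14919 = n14279 := d18_2 (iv F55151) D14919 (iv D14279)
theorem F58828 : act 8 n14919 = n14919 := d20_2 F55152 D14919 (iv D14919)
def n14920 : Q := act 4 n14007
theorem D14920 : act 4 n14007 = n14920 := rfl
theorem F58829 : act 0 n14920 = n14920 := d3_1 D14920 (iv D14920) F55150
theorem F58830 : act 3 n14920 = n14008 := d21_1 D14920 (iv D14008) (iv D13018) (iv F51174) D14007
theorem F58831 : act 6 n14920 = n14280 := d27_2 (iv F55151) D14920 (iv D14280)
theorem F58832 : act 8 n14920 = n14920 := d29_2 F55152 D14920 (iv D14920)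
def n14921 : Q := act 5 n14008
theorem D14921 : act 5 n14008 = n14921 := rfl
theorem F58833 : act 0 n14921 = n14921 := d4_1 D14921 (iv D14921) F55153
theorem F58834 : act 2 n14921 = n14921 := d17_1 D14921 (iv D14921) F55154
theorem F58835 : act 4 n14921 = n14921 := d26_1 D14921 (iv D14921) (iv D14008) F51179 D14008
theorem F58836 : act 6 n14921 = n14135 := d30_2 (iv F55155) D14921 F55735 (iv F55725) F55724
theorem F58837 : act 7 n14921 = n14134 := d31_2 F55220 D14921 F55730
theorem F58838 : act 8 n14921 = n14921 := d32_2 F55156 D14921 (iv D14921)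
def n14922 : Q := act 1 n14011
theorem D14922 : act 1 n14011 = n14922 := rfl
theorem F58839 : act 2 n14922 = n14050 := d8_2 D14011 D14922 (iv D14050) (iv D13064) (iv F51194)
theorem F58840 : act 4 n14922 = n14922 := d10_2 F55169 D14922 (iv D14922)
theorem F58841 : act 6 n14922 = n14284 := d12_2 (iv F55170) D14922 (iv D14284)
theorem F58842 : act 7 n14922 = n14035 := d13_2 (iv F55171) D14922 (iv D14035)
theorem F58843 : act 8 n14922 = n14922 := d14_2 F55172 D14922 (iv D14922)
def n14923 : Q := act 8 n14012
theorem D14923 : act 8 n14012 = n14923 := rfl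
theorem F58844 : act 0 n14923 = n14923 := d7_1 D14923 (iv D14923) F55173
theorem F58845 : act 2 n14923 = n14271 := d20_1 D14923 (iv D14271) (iv F55174)
theorem F58846 : act 3 n14923 = n14923 := d25_1 D14923 (iv D14923) F55175
theorem F58847 : act 4 n14923 = n14015 := d29_1 D14923 (iv D14015) D14012
theorem F58848 : act 5 n14923 = n14911 := d32_1 D14923 (iv D14911) (iv F55176)
theorem F58849 : act 6 n14923 = n14273 := d34_1 D14923 (iv D14273) F55177
def n14924 : Q := act 8 n14013
theorem D14924 : act 8 n14013 = n14924 := rfl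
theorem F58850 : act 0 n14924 = n14924 := d7_1 D14924 (iv D14924) F55179
theorem F58851 : act 2 n14924 = n14272 := d20_1 D14924 (iv D14272) (iv F55180)
theorem F58852 : act 3 n14924 = n14018 := d25_1 D14924 (iv D14018) (iv F55181)
theorem F58853 : act 4 n14924 = n14273 := d29_1 D14924 (iv D14273) (iv F55182)
theorem F58854 : act 5 n14924 = n14026 := d32_1 D14924 (iv D14026) (iv F55183)
theorem F58855 : act 6 n14924 = n14015 := d34_1 D14924 (iv D14015) D14013
def n14925 : Q := act 8 n14014
theorem D14925 : act 8 n14014 = n14925 := rfl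
theorem F58856 : act 0 n14925 = n14925 := d7_1 D14925 (iv D14925) F55185
theorem F58857 : act 2 n14925 = n14273 := d20_1 D14925 (iv D14273) (iv F55186)
theorem F58858 : act 3 n14925 = n14139 := d25_1 D14925 (iv D14139) (iv F55187)
theorem F58859 : act 4 n14925 = n14272 := d29_1 D14925 (iv D14272) (iv F55188)
theorem F58860 : act 5 n14925 = n14016 := d32_1 D14925 (iv D14016) (iv F55189)
theorem F58861 : act 6 n14925 = n14271 := d34_1 D14925 (iv D14271) (iv F55190)
def n14926 : Q := act 7 n14015
theorem D14926 : act 7 n14015 = n14926 := rfl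
theorem F58862 : act 0 n14926 = n14926 := d6_1 D14926 (iv D14926) F55191
theorem F58863 : act 2 n14926 = n14274 := d19_1 D14926 (iv D14274) (iv F55192)
theorem F58864 : act 5 n14926 = n14017 := d31_1 D14926 (iv D14017) (iv F55194)
def n14927 : Q := act 7 n14016
theorem D14927 : act 7 n14016 = n14927 := rfl
theorem F58865 : act 0 n14927 = n14927 := d6_1 D14927 (iv D14927) F55195
theorem F58866 : act 2 n14927 = n14275 := d19_1 D14927 (iv D14275) (iv F55196)
theorem F58867 : act 4 n14927 = n14915 := d28_1 D14927 (iv D14915) (iv F55198)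
theorem F58868 : act 6 n14927 = n14029 := d33_1 D14927 (iv D14029) (iv F55199)
theorem F58869 : act 8 n14927 = n14017 := d35_2 D14016 D14927 (iv D14017) (iv D13024) D13023
def n14928 : Q := act 3 n14017
theorem D14928 : act 3 n14017 = n14928 := rfl
theorem F58870 : act 0 n14928 = n14928 := d2_1 D14928 (iv D14928) F55200
theorem F58871 : act 6 n14928 = n14030 := d23_2 (iv F55203) D14928 (iv D14030)
theorem F58872 : act 7 n14928 = n14020 := d24_2 D14017 D14928 (iv D14020) (iv D13027) (iv F51209)
def n14929 : Q := act 7 n14018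
theorem D14929 : act 7 n14018 = n14929 := rfl
theorem F58873 : act 0 n14929 = n14929 := d6_1 D14929 (iv D14929) F55204
theorem F58874 : act 2 n14929 = n14022 := d19_1 D14929 (iv D14022) (iv F55205)
theorem F58875 : act 4 n14929 = n14929 := d28_1 D14929 (iv D14929) F55206
theorem F58876 : act 5 n14929 = n14031 := d31_1 D14929 (iv D14031) (iv F55207)
theorem F58877 : act 6 n14929 = n14019 := d33_1 D14929 (iv D14019) (iv F55208)
theorem F58878 : act 8 n14929 = n14143 := d35_2 D14018 D14929 (iv D14143) (iv D13178) (iv F51216)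
def n14930 : Q := act 3 n14019
theorem D14930 : act 3 n14019 = n14930 := rfl
theorem F58879 : act 0 n14930 = n14930 := d2_1 D14930 (iv D14930) F55209
theorem F58880 : act 5 n14930 = n14020 := d22_2 (iv F55212) D14930 (iv D14020)
theorem F58881 : act 8 n14930 = n14144 := d25_2 (iv F55213) D14930 (iv D14144)
def n14931 : Q := act 2 n14020
theorem D14931 : act 2 n14020 = n14931 := rfl
theorem F58882 : act 0 n14931 = n14931 := d1_1 D14931 (iv D14931) F55214
theorem F58883 : act 3 n14931 = n14024 := d15_2 D14020 D14931 (iv D14024) (iv D13031) (iv F51222)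
theorem F58884 : act 6 n14931 = n14033 := d18_2 (iv F55215) D14931 (iv D14033)
theorem F58885 : act 8 n14931 = n14145 := d20_2 (iv F55216) D14931 (iv D14145)
def n14932 : Q := act 4 n14020
theorem D14932 : act 4 n14020 = n14932 := rfl
theorem F58886 : act 0 n14932 = n14932 := d3_1 D14932 (iv D14932) F55214
theorem F58887 : act 3 n14932 = n14021 := d21_1 D14932 (iv D14021) (iv D13028) (iv F51223) D14020
theorem F58888 : act 6 n14932 = n14034 := d27_2 (iv F55215) D14932 (iv D14034)
theorem F58889 : act 8 n14932 = n14146 := d29_2 (iv F55216) D14932 (iv D14146)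
theorem F58890 : act 5 n14892 = n14932 := d32_3 F58889 (iv F55780) D14892
def n14933 : Q := act 2 n14023
theorem D14933 : act 2 n14023 = n14933 := rfl
theorem F58891 : act 0 n14933 = n14933 := d1_1 D14933 (iv D14933) F55228
theorem F58892 : act 5 n14933 = n14024 := d17_2 (iv F55230) D14933 (iv D14024)
theorem F58893 : act 7 n14933 = n14282 := d19_2 (iv F55231) D14933 (iv D14282)
theorem F58894 : act 8 n14933 = n14147 := d20_2 (iv F55232) D14933 (iv D14147)
def n14934 : Q := act 1 n14024
theorem D14934 : act 1 n14024 = n14934 := rfl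
theorem F58895 : act 2 n14934 = n14051 := d8_2 D14024 D14934 (iv D14051) (iv D13067) (iv F51244)
theorem F58896 : act 4 n14934 = n14934 := d10_2 F55234 D14934 (iv D14934)
theorem F58897 : act 6 n14934 = n14035 := d12_2 (iv F55235) D14934 (iv D14035)
theorem F58898 : act 7 n14934 = n14284 := d13_2 (iv F55236) D14934 (iv D14284)
theorem F58899 : act 8 n14934 = n14148 := d14_2 (iv F55237) D14934 (iv D14148)
def n14935 : Q := act 7 n14025
theorem D14935 : act 7 n14025 = n14935 := rfl
theorem F58900 : act 0 n14935 = n14935 := d6_1 D14935 (iv D14935) F55238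
theorem F58901 : act 4 n14935 = n14028 := d28_1 D14935 (iv D14028) (iv F55240)
def n14936 : Q := act 7 n14026
theorem D14936 : act 7 n14026 = n14936 := rfl
theorem F58902 : act 0 n14936 = n14936 := d6_1 D14936 (iv D14936) F55241
theorem F58903 : act 6 n14936 = n14028 := d33_1 D14936 (iv D14028) (iv F55243)
theorem F58904 : act 8 n14936 = n14935 := d35_2 D14026 D14936 (iv D14935) (iv D14025) F51253
def n14937 : Q := act 7 n14027
theorem D14937 : act 7 n14027 = n14937 := rfl
theorem F58905 : act 0 n14937 = n14937 := d6_1 D14937 (iv D14937) F55244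
theorem F58906 : act 4 n14937 = n14936 := d28_1 D14937 (iv D14936) (iv F55246)
theorem F58907 : act 5 n14937 = n14029 := d31_1 D14937 (iv D14029) (iv F55247)
theorem F58908 : act 6 n14937 = n14935 := d33_1 D14937 (iv D14935) (iv F55248)
theorem F58909 : act 8 n14937 = n14028 := d35_2 D14027 D14937 (iv D14028) (iv D13035) D13034
def n14938 : Q := act 3 n14028
theorem D14938 : act 3 n14028 = n14938 := rfl
theorem F58910 : act 0 n14938 = n14938 := d2_1 D14938 (iv D14938) F55249
theorem F58911 : act 5 n14938 = n14030 := d22_2 (iv F55250) D14938 (iv D14030)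
theorem F58912 : act 7 n14938 = n14032 := d24_2 D14028 D14938 (iv D14032) (iv D13039) (iv F51260)
theorem F58913 : act 2 n14882 = n14938 := d19_3 F58912 F55261 D14882
theorem F58914 : act 4 n14881 = n14938 := d28_3 F58912 F55262 D14881
def n14939 : Q := act 3 n14029
theorem D14939 : act 3 n14029 = n14939 := rfl
theorem F58915 : act 0 n14939 = n14939 := d2_1 D14939 (iv D14939) F55251
theorem F58916 : act 7 n14939 = n14151 := d24_2 D14029 D14939 (iv D14151) (iv D13189) (iv F51263)
theorem F58917 : act 8 n14939 = n14030 := d25_2 (iv F55252) D14939 (iv D14030)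
def n14940 : Q := act 2 n14030
theorem D14940 : act 2 n14030 = n14940 := rfl
theorem F58918 : act 0 n14940 = n14940 := d1_1 D14940 (iv D14940) F55253
theorem F58919 : act 5 n14940 = n14882 := d17_2 F58911 D14940 F58913
theorem F58920 : act 7 n14940 = n14033 := d19_2 (iv F55254) D14940 (iv D14033)
def n14941 : Q := act 4 n14030
theorem D14941 : act 4 n14030 = n14941 := rfl
theorem F58921 : act 0 n14941 = n14941 := d3_1 D14941 (iv D14941) F55253
theorem F58922 : act 5 n14941 = n14883 := d26_2 F58911 D14941 F58677 (iv F58670) F58914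
theorem F58923 : act 7 n14941 = n14034 := d28_2 (iv F55254) D14941 (iv D14034)
def n14942 : Q := act 3 n14031
theorem D14942 : act 3 n14031 = n14942 := rfl
theorem F58924 : act 0 n14942 = n14942 := d2_1 D14942 (iv D14942) F55255

end Cfsg.Agent.Helper17.FiR1TC
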