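import Cfsg.Agent.Helper17.FiR1TC.Facts4

set_option autoImplicit false
set_option linter.all false

noncomputable section

namespace Cfsg.Agent.Helper17.FiR1TC

theorem F58925 : act 2 n14942 = n14879 := d15_1 D14942 F58661 F55698 F52535 (iv F55256)
theorem F58926 : act 4 n14942 = n14560 := d21_2 (iv F55257) D14942 F57469 F55306 (iv D14040)
theorem F58927 : act 6 n14942 = n14032 := d23_2 (iv F55258) D14942 (iv D14032)
theorem F58928 : act 8 n14942 = n14152 := d25_2 (iv F55259) D14942 (iv D14152)
def n14943 : Q := act 1 n14033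
theorem D14943 : act 1 n14033 = n14943 := rfl
theorem F58929 : act 3 n14943 = n14035 := d9_2 (iv F55266) D14943 (iv D14035)
theorem F58930 : act 5 n14943 = n14728 := d11_2 (iv F55267) D14943 F58158
theorem F58931 : act 8 n14943 = n14153 := d14_2 (iv F55268) D14943 (iv D14153)
def n14944 : Q := act 3 n14036
theorem D14944 : act 3 n14036 = n14944 := rfl
theorem F58932 : act 0 n14944 = n14944 := d2_1 D14944 (iv D14944) F55276
theorem F58933 : act 4 n14944 = n14563 := d21_2 (iv F55278) D14944 F57484 F55299 (iv D14039)
theorem F58934 : act 6 n14944 = n14570 := d23_2 F55798 D14944 F57509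
theorem F58935 : act 8 n14944 = n14562 := d25_2 F55793 D14944 F57479
theorem F58936 : act 2 n14565 = n14944 := d20_3 F58935 F57478 D14565
def n14945 : Q := act 8 n14041
theorem D14945 : act 8 n14041 = n14945 := rfl
theorem F58937 : act 0 n14945 = n14044 := d7_1 D14945 (iv D14044) (iv F55307)
theorem F58938 : act 1 n14945 = n14052 := d14_1 D14945 (iv D14052) (iv F55308)
theorem F58939 : act 4 n14945 = n14945 := d29_1 D14945 (iv D14945) F55309
theorem F58940 : act 5 n14945 = n14177 := d32_1 D14945 (iv D14177) (iv F55310)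
theorem F58941 : act 6 n14945 = n14042 := d34_1 D14945 (iv D14042) D14041
def n14946 : Q := act 7 n14042
theorem D14946 : act 7 n14042 = n14946 := rfl
theorem F58942 : act 0 n14946 = n14045 := d6_1 D14946 (iv D14045) (iv F55312)
theorem F58943 : act 1 n14946 = n14053 := d13_1 D14946 (iv D14053) (iv F55313)
theorem F58944 : act 4 n14946 = n14946 := d28_1 D14946 (iv D14946) F55314
theorem F58945 : act 5 n14946 = n14043 := d31_1 D14946 (iv D14043) (iv F55315)
theorem F58946 : act 8 n14946 = n14946 := d35_2 D14042 D14946 (iv D14946) (iv D14042) F51332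
def n14947 : Q := act 3 n14043
theorem D14947 : act 3 n14043 = n14947 := rfl
theorem F58947 : act 0 n14947 = n14046 := d2_1 D14947 (iv D14046) (iv F55316)
theorem F58948 : act 1 n14947 = n14054 := d9_1 D14947 (iv D14054) (iv F55317)
theorem F58949 : act 6 n14947 = n14179 := d23_2 (iv F55319) D14947 (iv D14179)
theorem F58950 : act 8 n14947 = n14947 := d25_2 F55320 D14947 (iv D14947)
def n14948 : Q := act 7 n14044
theorem D14948 : act 7 n14044 = n14948 := rfl
theorem F58951 : act 1 n14948 = n14047 := d13_1 D14948 (iv D14047) (iv F55321)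
theorem F58952 : act 4 n14948 = n14948 := d28_1 D14948 (iv D14948) F55322
theorem F58953 : act 5 n14948 = n14240 := d31_1 D14948 (iv D14240) (iv F55323)
theorem F58954 : act 6 n14948 = n14045 := d33_1 D14948 (iv D14045) (iv F55324)
theorem F58955 : act 8 n14948 = n14948 := d35_2 D14044 D14948 (iv D14948) (iv D14044) F51345
def n14949 : Q := act 3 n14045
theorem D14949 : act 3 n14045 = n14949 := rfl
theorem F58956 : act 1 n14949 = n14048 := d9_1 D14949 (iv D14048) (iv F55325)
theorem F58957 : act 5 n14949 = n14046 := d22_2 (iv F55327) D14949 (iv D14046)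
theorem F58958 : act 8 n14949 = n14949 := d25_2 F55328 D14949 (iv D14949)
def n14950 : Q := act 2 n14046
theorem D14950 : act 2 n14046 = n14950 := rfl
theorem F58959 : act 6 n14950 = n14242 := d18_2 (iv F55330) D14950 (iv D14242)
theorem F58960 : act 8 n14950 = n14950 := d20_2 F55331 D14950 (iv D14950)
def n14951 : Q := act 4 n14048
theorem D14951 : act 4 n14048 = n14951 := rfl
theorem F58961 : act 0 n14951 = n14057 := d3_1 D14951 F55376 (iv F55338)
theorem F58962 : act 2 n14951 = n14054 := d16_1 D14951 (iv F56655) F56654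
theorem F58963 : act 3 n14951 = n14951 := d21_1 D14951 (iv D14951) (iv D14048) F51360 D14048
theorem F58964 : act 6 n14951 = n14199 := d27_2 F56668 D14951 (iv F56666)
theorem F58965 : act 8 n14951 = n14951 := d29_2 F55340 D14951 (iv D14951)
def n14952 : Q := act 1 n14049
theorem D14952 : act 1 n14049 = n14952 := rfl
theorem F58966 : act 3 n14952 = n14050 := d9_2 (iv F55342) D14952 (iv D14050)
theorem F58967 : act 6 n14952 = n14260 := d12_2 (iv F55343) D14952 (iv D14260)
theorem F58968 : act 8 n14952 = n14952 := d14_2 F55344 D14952 (iv D14952)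
def n14953 : Q := act 7 n14052
theorem D14953 : act 7 n14052 = n14953 := rfl
theorem F58969 : act 0 n14953 = n14055 := d6_1 D14953 (iv D14055) (iv F55353)
theorem F58970 : act 2 n14953 = n14953 := d19_1 D14953 (iv D14953) F55354
theorem F58971 : act 4 n14953 = n14953 := d28_1 D14953 (iv D14953) F55355
theorem F58972 : act 5 n14953 = n14197 := d31_1 D14953 (iv D14197) (iv F55356)
theorem F58973 : act 6 n14953 = n14053 := d33_1 D14953 (iv D14053) (iv F55357)
theorem F58974 : act 8 n14953 = n14953 := d35_2 D14052 D14953 (iv D14953) (iv D14052) F51400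
def n14954 : Q := act 3 n14053
theorem D14954 : act 3 n14053 = n14954 := rfl
theorem F58975 : act 0 n14954 = n14056 := d2_1 D14954 (iv D14056) (iv F55358)
theorem F58976 : act 5 n14954 = n14054 := d22_2 (iv F55361) D14954 (iv D14054)
theorem F58977 : act 8 n14954 = n14954 := d25_2 F55362 D14954 (iv D14954)
def n14955 : Q := act 3 n14060
theorem D14955 : act 3 n14060 = n14955 := rfl
theorem F58978 : act 0 n14955 = n14094 := d2_1 D14955 (iv D14094) (iv F55392)
theorem F58979 : act 1 n14955 = n14146 := d9_1 D14955 F55778 (iv F55393)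
theorem F58980 : act 4 n14955 = n14064 := d21_2 D14060 D14955 (iv D14064) (iv D13083) (iv F51443)
theorem F58981 : act 5 n14955 = n14774 := d22_2 F55590 D14955 F58323
theorem F58982 : act 6 n14955 = n14124 := d23_2 (iv F55395) D14955 F55680
def n14956 : Q := act 8 n14061
theorem D14956 : act 8 n14061 = n14956 := rfl
theorem F58983 : act 0 n14956 = n14099 := d7_1 D14956 (iv D14099) (iv F55397)
theorem F58984 : act 1 n14956 = n14956 := d14_1 D14956 (iv D14956) F55398
theorem F58985 : act 4 n14956 = n14956 := d29_1 D14956 (iv D14956) F55399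
theorem F58986 : act 5 n14956 = n14062 := d32_1 D14956 (iv D14062) D14061
def n14957 : Q := act 7 n14062
theorem D14957 : act 7 n14062 = n14957 := rfl
theorem F58987 : act 0 n14957 = n14100 := d6_1 D14957 (iv D14100) (iv F55401)
theorem F58988 : act 1 n14957 = n14957 := d13_1 D14957 (iv D14957) F55402
theorem F58989 : act 2 n14957 = n14910 := d19_1 D14957 F58789 F58510
theorem F58990 : act 4 n14957 = n14063 := d28_1 D14957 (iv D14063) (iv F55403)
theorem F58991 : act 6 n14957 = n14491 := d33_1 D14957 (iv F58230) F58229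
theorem F58992 : act 8 n14957 = n14957 := d35_2 D14062 D14957 (iv D14957) (iv D14062) F51450
def n14958 : Q := act 5 n14064
theorem D14958 : act 5 n14064 = n14958 := rfl
theorem F58993 : act 0 n14958 = n14101 := d4_1 D14958 (iv D14101) (iv F55411)
theorem F58994 : act 1 n14958 = n14144 := d11_1 D14958 F55773 (iv F55412)
theorem F58995 : act 3 n14958 = n14065 := d22_1 D14958 (iv D14065) D14064
def n14959 : Q := act 7 n14064
theorem D14959 : act 7 n14064 = n14959 := rfl
theorem F58996 : act 0 n14959 = n14102 := d6_1 D14959 (iv D14102) (iv F55411)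
theorem F58997 : act 1 n14959 = n14142 := d13_1 D14959 F55766 (iv F55412)
theorem F58998 : act 3 n14959 = n14068 := d24_1 D14959 (iv D14068) (iv D13085) (iv F51459) D14064
theorem F58999 : act 6 n14959 = n14120 := d33_1 D14959 F55670 (iv F55413)
def n14960 : Q := act 6 n14065
theorem D14960 : act 6 n14065 = n14960 := rfl
theorem F59000 : act 0 n14960 = n14104 := d5_1 D14960 (iv D14104) (iv F55414)
theorem F59001 : act 1 n14960 = n14143 := d12_1 D14960 F55771 (iv F55415)
theorem F59002 : act 2 n14960 = n14066 := d18_1 D14960 (iv D14066) (iv F55416)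
theorem F59003 : act 4 n14960 = n14960 := d27_1 D14960 (iv D14960) F55417
theorem F59004 : act 5 n14960 = n14121 := d30_1 D14960 F55674 F51727 (iv F51458) D14065
theorem F59005 : act 7 n14960 = n14069 := d33_2 (iv F55418) D14960 (iv D14069)
def n14961 : Q := act 4 n14067
theorem D14961 : act 4 n14067 = n14961 := rfl
theorem F59006 : act 0 n14961 = n14107 := d3_1 D14961 (iv D14107) (iv F55424)
theorem F59007 : act 1 n14961 = n14137 := d10_1 D14961 F55742 (iv F55425)
theorem F59008 : act 2 n14961 = n14073 := d16_1 D14961 (iv D14073) (iv F55426)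
theorem F59009 : act 3 n14961 = n14961 := d21_1 D14961 (iv D14961) F55427 F51473 (iv F55427)
theorem F59010 : act 5 n14961 = n14961 := d26_2 D14067 D14961 (iv D14961) (iv D14067) F51467
theorem F59011 : act 8 n14961 = n14111 := d29_2 (iv F55428) D14961 (iv D14111)
theorem F59012 : act 7 n14344 = n14961 := d37_0 F59010 (iv D14961) F55427 F51472 F47389 F42133 (iv F42243) (iv D10842) (iv D9177) (iv D6687) F18990 F18989 (iv F19258) (iv D4954) F14283 (iv F17929) (iv D4582) F13314 (iv F12224) F12223 D3071 (iv F13279) F13278 F9914 (iv F13264) (iv F17663) (iv F23764) (iv D6153) (iv D4499) F13106 F12166 (iv D3044) F9116 F7358 D1781 (iv F9862) (iv F13202) D4540 D6212 D8515 D10344 F40422 (iv F45198) (iv F48610) F48609 F47503 (iv F51571) F51570 (iv D12145) F42855 (iv F47661) (iv F51494) (iv F55452) F55451 F55450 (iv F54775) F54774 F50805 (iv F50829) (iv F53351) F53350 (iv F56487)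
theorem F59013 : act 6 n14961 = n14245 := d33_1 F59012 (iv F56088) D14344
def n14962 : Q := act 6 n14067
theorem D14962 : act 6 n14067 = n14962 := rfl
theorem F59014 : act 0 n14962 = n14108 := d5_1 D14962 (iv D14108) (iv F55424)
theorem F59015 : act 1 n14962 = n14138 := d12_1 D14962 F55750 (iv F55425)
theorem F59016 : act 2 n14962 = n14074 := d18_1 D14962 (iv D14074) (iv F55426)
theorem F59017 : act 3 n14962 = n14069 := d23_1 D14962 (iv D14069) (iv F55427)
theorem F59018 : act 4 n14962 = n14245 := d27_1 D14962 (iv F59013) (iv D14961)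
theorem F59019 : act 5 n14962 = n14116 := d30_1 D14962 F55659 F51715 (iv F51468) D14067
theorem F59020 : act 8 n14962 = n14112 := d34_2 (iv F55428) D14962 (iv D14112)
theorem F59021 : act 7 n14343 = n14962 := d31_0 F59019 (iv F57645) F57643
def n14963 : Q := act 7 n14067
theorem D14963 : act 7 n14067 = n14963 := rfl
theorem F59022 : act 0 n14963 = n14109 := d6_1 D14963 (iv D14109) (iv F55424)
theorem F59023 : act 1 n14963 = n14140 := d13_1 D14963 (iv D14140) (iv F55425)
theorem F59024 : act 2 n14963 = n14075 := d19_1 D14963 (iv D14075) (iv F55426)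
theorem F59025 : act 4 n14963 = n14344 := d28_1 D14963 F59012 (iv D14961)
theorem F59026 : act 5 n14963 = n14068 := d31_1 D14963 (iv D14068) D14067
theorem F59027 : act 6 n14963 = n14343 := d33_1 D14963 F59021 (iv D14962)
def n14964 : Q := act 8 n14068
theorem D14964 : act 8 n14068 = n14964 := rfl
theorem F59028 : act 0 n14964 = n14110 := d7_1 D14964 (iv D14110) (iv F55429)
theorem F59029 : act 1 n14964 = n14141 := d14_1 D14964 F55763 (iv F55430)
theorem F59030 : act 2 n14964 = n14077 := d20_1 D14964 (iv D14077) (iv F55431)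
theorem F59031 : act 4 n14964 = n14964 := d29_1 D14964 (iv D14964) F55432
theorem F59032 : act 6 n14964 = n14119 := d34_1 D14964 F55668 (iv F55433)
theorem F59033 : act 7 n14964 = n14114 := d35_1 D14964 (iv D14114) (iv D13138) (iv F51469) D14068
def n14965 : Q := act 4 n14070
theorem D14965 : act 4 n14070 = n14965 := rfl
theorem F59034 : act 0 n14965 = n14111 := d3_1 D14965 (iv D14111) (iv F55440)
theorem F59035 : act 1 n14965 = n14965 := d10_1 D14965 (iv D14965) F55441
theorem F59036 : act 2 n14965 = n14115 := d16_1 D14965 F55653 (iv F55442)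
theorem F59037 : act 3 n14965 = n14965 := d21_1 D14965 (iv D14965) F55443 F51490 (iv F55443)
theorem F59038 : act 5 n14965 = n14965 := d26_2 D14070 D14965 (iv D14965) (iv D14070) F51484
theorem F59039 : act 8 n14965 = n14107 := d29_2 (iv F55444) D14965 (iv D14107)
theorem F59040 : act 7 n14181 = n14965 := d37_0 F59038 (iv D14965) F55443 F51489 F47399 F42141 (iv F40378) (iv D10333) (iv D8503) (iv D6202) F17754 F13203 (iv F38477) F10253 F7712 (iv F10150) F10149 (iv D2518) (iv F10133) (iv F13546) (iv F17963) (iv F23349) F23348 (iv D6046) (iv F23315) (iv F31491) (iv F39158) (iv D10009) F31327 (iv D6178) F17712 F14052 F14051 F10478 D2613 F10509 F7859 D2614 F10511 F10510 (iv F10649) (iv F13325) (iv F17942) D6281 (iv F32792) (iv F40734) (iv F46799) (iv F50934) (iv F54877) (iv F57296) F57295 F54927 (iv F55097) F55096 F51163 F51167 F51166 F48319 (iv F48352) F48351 (iv F52213) (iv F55902)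
theorem F59041 : act 6 n14965 = n14182 := d33_1 F59040 (iv D14182) D14181
def n14966 : Q := act 6 n14070
theorem D14966 : act 6 n14070 = n14966 := rfl
theorem F59042 : act 0 n14966 = n14112 := d5_1 D14966 (iv D14112) (iv F55440)
theorem F59043 : act 1 n14966 = n14966 := d12_1 D14966 (iv D14966) F55441
theorem F59044 : act 2 n14966 = n14116 := d18_1 D14966 F55659 (iv F55442)
theorem F59045 : act 3 n14966 = n14072 := d23_1 D14966 (iv D14072) (iv F55443)
theorem F59046 : act 4 n14966 = n14182 := d27_1 D14966 (iv F59041) (iv D14965)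
theorem F59047 : act 5 n14966 = n14074 := d30_1 D14966 (iv D14074) (iv D13091) (iv F51485) D14070
theorem F59048 : act 8 n14966 = n14108 := d34_2 (iv F55444) D14966 (iv D14108)
theorem F59049 : act 7 n14180 = n14966 := d31_0 F59047 (iv F55466) (iv F55901)
def n14967 : Q := act 7 n14070
theorem D14967 : act 7 n14070 = n14967 := rfl
theorem F59050 : act 0 n14967 = n14113 := d6_1 D14967 (iv D14113) (iv F55440)
theorem F59051 : act 1 n14967 = n14967 := d13_1 D14967 (iv D14967) F55441
theorem F59052 : act 2 n14967 = n14118 := d19_1 D14967 (iv D14118) (iv F55442)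
theorem F59053 : act 4 n14967 = n14181 := d28_1 D14967 F59040 (iv D14965)
theorem F59054 : act 5 n14967 = n14071 := d31_1 D14967 (iv D14071) D14070
theorem F59055 : act 6 n14967 = n14180 := d33_1 D14967 F59049 (iv D14966)
def n14968 : Q := act 8 n14071
theorem D14968 : act 8 n14071 = n14968 := rfl
theorem F59056 : act 0 n14968 = n14114 := d7_1 D14968 (iv D14114) (iv F55445)
theorem F59057 : act 1 n14968 = n14968 := d14_1 D14968 (iv D14968) F55446
theorem F59058 : act 2 n14968 = n14119 := d20_1 D14968 F55668 (iv F55447)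
theorem F59059 : act 4 n14968 = n14968 := d29_1 D14968 (iv D14968) F55448
theorem F59060 : act 6 n14968 = n14077 := d34_1 D14968 (iv D14077) (iv F55449)
theorem F59061 : act 7 n14968 = n14110 := d35_1 D14968 (iv D14110) (iv D13135) (iv F51486) D14071
def n14969 : Q := act 8 n14075
theorem D14969 : act 8 n14075 = n14969 := rfl
theorem F59062 : act 0 n14969 = n14117 := d7_1 D14969 (iv D14117) (iv F55467)
theorem F59063 : act 1 n14969 = n14969 := d14_1 D14969 (iv D14969) F55468
theorem F59064 : act 4 n14969 = n14683 := d29_1 D14969 (iv D14683) (iv F55469)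
theorem F59065 : act 5 n14969 = n14077 := d32_1 D14969 (iv D14077) (iv F55470)
theorem F59066 : act 6 n14969 = n14682 := d34_1 D14969 (iv D14682) (iv F55471)
def n14970 : Q := act 7 n14077
theorem D14970 : act 7 n14077 = n14970 := rfl
theorem F59067 : act 0 n14970 = n14119 := d6_1 D14970 (iv D14119) (iv F55477)
theorem F59068 : act 1 n14970 = n14970 := d13_1 D14970 (iv D14970) F55478
theorem F59069 : act 2 n14970 = n14114 := d19_1 D14970 (iv F59033) F59030
theorem F59070 : act 4 n14970 = n14970 := d28_1 D14970 (iv D14970) F55479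
theorem F59071 : act 6 n14970 = n14110 := d33_1 D14970 (iv F59061) F59060
theorem F59072 : act 8 n14970 = n14078 := d35_2 D14077 D14970 (iv D14078) (iv D13093) D13092
def n14971 : Q := act 3 n14078
theorem D14971 : act 3 n14078 = n14971 := rfl
theorem F59073 : act 0 n14971 = n14120 := d2_1 D14971 (iv D14120) (iv F55480)
theorem F59074 : act 1 n14971 = n14971 := d9_1 D14971 (iv D14971) F55481
theorem F59075 : act 6 n14971 = n14102 := d23_2 (iv F55484) D14971 F55601
theorem F59076 : act 7 n14971 = n14081 := d24_2 D14078 D14971 (iv D14081) (iv D13096) (iv F51507)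
def n14972 : Q := act 7 n14079
theorem D14972 : act 7 n14079 = n14972 := rfl
theorem F59077 : act 0 n14972 = n14121 := d6_1 D14972 (iv D14121) (iv F55485)
theorem F59078 : act 1 n14972 = n14972 := d13_1 D14972 (iv D14972) F55486
theorem F59079 : act 2 n14972 = n14083 := d19_1 D14972 (iv D14083) (iv F55487)
theorem F59080 : act 4 n14972 = n14086 := d28_1 D14972 (iv D14086) (iv F55488)
theorem F59081 : act 5 n14972 = n14104 := d31_1 D14972 F55607 (iv F55489)
theorem F59082 : act 6 n14972 = n14080 := d33_1 D14972 (iv D14080) (iv F55490)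
def n14973 : Q := act 3 n14080
theorem D14973 : act 3 n14080 = n14973 := rfl
theorem F59083 : act 0 n14973 = n14122 := d2_1 D14973 (iv D14122) (iv F55491)
theorem F59084 : act 1 n14973 = n14973 := d9_1 D14973 (iv D14973) F55492
theorem F59085 : act 4 n14973 = n14610 := d21_2 (iv F55494) D14973 (iv D14610) F54064 F51637
theorem F59086 : act 5 n14973 = n14081 := d22_2 (iv F55495) D14973 (iv D14081)
def n14974 : Q := act 4 n14081
theorem D14974 : act 4 n14081 = n14974 := rfl
theorem F59087 : act 0 n14974 = n14124 := d3_1 D14974 (iv D14124) (iv F55496)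
theorem F59088 : act 1 n14974 = n14974 := d10_1 D14974 (iv D14974) F55497
theorem F59089 : act 3 n14974 = n14082 := d21_1 D14974 (iv D14082) (iv D13097) (iv F51522) D14081
theorem F59090 : act 5 n14974 = n14613 := d26_2 F59086 D14974 (iv D14613) (iv F57712) (iv F59085)
theorem F59091 : act 6 n14974 = n14094 := d27_2 (iv F55498) D14974 F55571
def n14975 : Q := act 7 n14087
theorem D14975 : act 7 n14087 = n14975 := rfl
theorem F59092 : act 0 n14975 = n14478 := d6_1 D14975 (iv D14478) (iv F55530)
theorem F59093 : act 1 n14975 = n14132 := d13_1 D14975 (iv D14132) (iv F55531)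
theorem F59094 : act 2 n14975 = n14333 := d19_1 D14975 (iv D14333) (iv F55532)
theorem F59095 : act 4 n14975 = n14088 := d28_1 D14975 (iv D14088) (iv F55533)
theorem F59096 : act 5 n14975 = n14922 := d31_1 D14975 F58842 (iv F55534)
theorem F59097 : act 6 n14975 = n14339 := d33_1 D14975 (iv D14339) (iv F55535)
theorem F59098 : act 8 n14975 = n14975 := d35_2 D14087 D14975 (iv D14975) (iv D14087) F51592
def n14976 : Q := act 8 n14089
theorem D14976 : act 8 n14089 = n14976 := rfl
theorem F59099 : act 0 n14976 = n14417 := d7_1 D14976 (iv D14417) (iv F55543)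
theorem F59100 : act 1 n14976 = n14976 := d14_1 D14976 (iv D14976) F55544
theorem F59101 : act 2 n14976 = n14305 := d20_1 D14976 (iv D14305) (iv F55545)
theorem F59102 : act 4 n14976 = n14755 := d29_1 D14976 F58270 F55557
theorem F59103 : act 5 n14976 = n14090 := d32_1 D14976 (iv D14090) (iv F55546)
theorem F59104 : act 6 n14976 = n14611 := d34_1 D14976 (iv D14611) (iv F55547)
theorem F59105 : act 7 n14976 = n14576 := d35_1 D14976 (iv D14576) F53804 (iv F51604) D14089
def n14977 : Q := act 7 n14092
theorem D14977 : act 7 n14092 = n14977 := rfl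
theorem F59106 : act 0 n14977 = n14491 := d6_1 D14977 (iv F58230) F58225
theorem F59107 : act 1 n14977 = n14133 := d13_1 D14977 (iv D14133) (iv F55560)
theorem F59108 : act 4 n14977 = n14093 := d28_1 D14977 (iv D14093) (iv F55561)
theorem F59109 : act 5 n14977 = n14239 := d31_1 D14977 F56066 (iv F55562)
theorem F59110 : act 6 n14977 = n14100 := d33_1 D14977 (iv D14100) (iv F55563)
theorem F59111 : act 8 n14977 = n14977 := d35_2 D14092 D14977 (iv D14977) (iv D14092) F51648
def n14978 : Q := act 5 n14094
theorem D14978 : act 5 n14094 = n14978 := rfl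
theorem F59112 : act 0 n14978 = n14774 := d4_1 D14978 (iv F58981) F58978
theorem F59113 : act 1 n14978 = n14978 := d11_1 D14978 (iv D14978) F55570
theorem F59114 : act 3 n14978 = n14095 := d22_1 D14978 (iv D14095) D14094
theorem F59115 : act 6 n14978 = n14618 := d30_2 F59091 D14978 (iv D14618) (iv F57726) (iv F59090)
def n14979 : Q := act 7 n14094
theorem D14979 : act 7 n14094 = n14979 := rfl
theorem F59116 : act 1 n14979 = n14979 := d13_1 D14979 (iv D14979) F55570
theorem F59117 : act 3 n14979 = n14979 := d24_1 D14979 (iv D14979) (iv D14094) F51655 D14094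
theorem F59118 : act 4 n14979 = n14102 := d28_1 D14979 (iv D14102) (iv F55571)
def n14980 : Q := act 8 n14094
theorem D14980 : act 8 n14094 = n14980 := rfl
theorem F59119 : act 1 n14980 = n14980 := d14_1 D14980 (iv D14980) F55570
theorem F59120 : act 3 n14980 = n14096 := d25_1 D14980 (iv D14096) D14094
theorem F59121 : act 4 n14980 = n14103 := d29_1 D14980 (iv D14103) (iv F55571)
def n14981 : Q := act 8 n14095
theorem D14981 : act 8 n14095 = n14981 := rfl
theorem F59122 : act 1 n14981 = n14981 := d14_1 D14981 (iv D14981) F55572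
theorem F59123 : act 2 n14981 = n14099 := d20_1 D14981 (iv D14099) (iv F55573)
theorem F59124 : act 4 n14981 = n14981 := d29_1 D14981 (iv D14981) F55574
theorem F59125 : act 5 n14981 = n14096 := d32_1 D14981 (iv D14096) D14095
theorem F59126 : act 6 n14981 = n14956 := d34_1 D14981 (iv D14956) (iv F55575)
def n14982 : Q := act 7 n14096
theorem D14982 : act 7 n14096 = n14982 := rfl
theorem F59127 : act 0 n14982 = n14910 := d6_1 D14982 F58789 F58508
theorem F59128 : act 1 n14982 = n14982 := d13_1 D14982 (iv D14982) F55577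
theorem F59129 : act 2 n14982 = n14100 := d19_1 D14982 (iv D14100) (iv F55578)
theorem F59130 : act 4 n14982 = n14097 := d28_1 D14982 (iv D14097) (iv F55579)
theorem F59131 : act 8 n14982 = n14982 := d35_2 D14096 D14982 (iv D14982) (iv D14096) F51655
def n14983 : Q := act 8 n14098
theorem D14983 : act 8 n14098 = n14983 := rfl
theorem F59132 : act 0 n14983 = n14981 := d7_1 D14983 (iv D14981) (iv F55586)
theorem F59133 : act 1 n14983 = n14134 := d14_1 D14983 (iv D14134) (iv F55587)
theorem F59134 : act 2 n14983 = n14956 := d20_1 D14983 (iv D14956) (iv F55588)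
theorem F59135 : act 4 n14983 = n14983 := d29_1 D14983 (iv D14983) F55589
theorem F59136 : act 5 n14983 = n14837 := d32_1 D14983 F58512 (iv F55590)
theorem F59137 : act 6 n14983 = n14099 := d34_1 D14983 (iv D14099) D14098
def n14984 : Q := act 7 n14099
theorem D14984 : act 7 n14099 = n14984 := rfl
theorem F59138 : act 1 n14984 = n14135 := d13_1 D14984 (iv D14135) (iv F55592)
theorem F59139 : act 4 n14984 = n14984 := d28_1 D14984 (iv D14984) F55593
theorem F59140 : act 5 n14984 = n14100 := d31_1 D14984 (iv D14100) (iv F55594)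
theorem F59141 : act 8 n14984 = n14984 := d35_2 D14099 D14984 (iv D14984) (iv D14099) F51662
def n14985 : Q := act 3 n14100
theorem D14985 : act 3 n14100 = n14985 := rfl
theorem F59142 : act 1 n14985 = n14136 := d9_1 D14985 (iv D14136) (iv F55595)
theorem F59143 : act 8 n14985 = n14985 := d25_2 F55597 D14985 (iv D14985)
def n14986 : Q := act 4 n14101
theorem D14986 : act 4 n14101 = n14986 := rfl
theorem F59144 : act 1 n14986 = n14986 := d10_1 D14986 (iv D14986) F55598
theorem F59145 : act 3 n14986 = n14986 := d21_1 D14986 (iv D14986) F55599 F51671 (iv F55599)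
def n14987 : Q := act 6 n14101
theorem D14987 : act 6 n14101 = n14987 := rfl
theorem F59146 : act 1 n14987 = n14987 := d12_1 D14987 (iv D14987) F55598
theorem F59147 : act 3 n14987 = n14104 := d23_1 D14987 (iv D14104) (iv F55599)
theorem F59148 : act 7 n14482 = n14987 := d24_0 F59147 F55607 (iv F55623) (iv F55625) (iv F57114)
theorem F59149 : act 4 n14484 = n14987 := d37_2 D13537 (iv F57119) F59147 F55605 F51676 F47726 F42980 (iv F44672) F42310 F34834 F34833 F34832 (iv F35312) D11053 F42949 (iv F47736) (iv F48824) F48823 (iv F48714) F48713 (iv F49174) D13507 F53223 F50726 (iv F51670) F51669 (iv F55414) F55418 (iv D13086) (iv D12062) F42015 (iv D10781) F34616 F25601 (iv F25664) F25663 D9177 (iv F40343) (iv F46341) (iv F49554) (iv F53493) F53498 (iv F53446) F53445 F50914 F47727 (iv F51676) (iv F55419) F55423 F51479 F47661 F42854 (iv F47695) F47694 F43444 D12201 F47972 (iv F51914) D14152 F55803 F55003 F52733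
theorem F59150 : act 6 n14986 = n14484 := d27_0 F59149 (iv D14987) D14986
theorem F59151 : act 7 n14483 = n14986 := d33_0 F59150 (iv D14484) D14483
def n14988 : Q := act 7 n14101
theorem D14988 : act 7 n14101 = n14988 := rfl
theorem F59152 : act 1 n14988 = n14988 := d13_1 D14988 (iv D14988) F55598
theorem F59153 : act 3 n14988 = n14109 := d24_1 D14988 (iv D14109) F51684 (iv F51672) (iv F55599)
theorem F59154 : act 4 n14988 = n14483 := d28_1 D14988 F59151 (iv D14986)
theorem F59155 : act 5 n14988 = n14102 := d31_1 D14988 (iv D14102) D14101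
theorem F59156 : act 6 n14988 = n14482 := d33_1 D14988 F59148 (iv D14987)
def n14989 : Q := act 8 n14101
theorem D14989 : act 8 n14101 = n14989 := rfl
theorem F59157 : act 1 n14989 = n14989 := d14_1 D14989 (iv D14989) F55598
theorem F59158 : act 3 n14989 = n14105 := d25_1 D14989 (iv D14105) (iv F55599)
theorem F59159 : act 5 n14989 = n14103 := d32_1 D14989 (iv D14103) D14101
def n14990 : Q := act 8 n14102
theorem D14990 : act 8 n14102 = n14990 := rfl
theorem F59160 : act 1 n14990 = n14990 := d14_1 D14990 (iv D14990) F55600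
theorem F59161 : act 3 n14990 = n14110 := d25_1 D14990 (iv D14110) (iv F55601)
def n14991 : Q := act 7 n14103
theorem D14991 : act 7 n14103 = n14991 := rfl
theorem F59162 : act 1 n14991 = n14991 := d13_1 D14991 (iv D14991) F55602
def n14992 : Q := act 8 n14104
theorem D14992 : act 8 n14104 = n14992 := rfl
theorem F59163 : act 1 n14992 = n14992 := d14_1 D14992 (iv D14992) F55604
theorem F59164 : act 2 n14992 = n14106 := d20_1 D14992 (iv D14106) (iv F55605)
theorem F59165 : act 4 n14992 = n14992 := d29_1 D14992 (iv D14992) F55606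
theorem F59166 : act 6 n14992 = n14105 := d34_1 D14992 (iv D14105) D14104
def n14993 : Q := act 8 n14109
theorem D14993 : act 8 n14109 = n14993 := rfl
theorem F59167 : act 1 n14993 = n14993 := d14_1 D14993 (iv D14993) F55626
theorem F59168 : act 2 n14993 = n14117 := d20_1 D14993 (iv D14117) (iv F55627)
theorem F59169 : act 4 n14993 = n14496 := d29_1 D14993 (iv D14496) (iv F55628)
theorem F59170 : act 5 n14993 = n14110 := d32_1 D14993 (iv D14110) (iv F55629)
theorem F59171 : act 6 n14993 = n14495 := d34_1 D14993 (iv D14495) (iv F55630)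
def n14994 : Q := act 8 n14113
theorem D14994 : act 8 n14113 = n14994 := rfl
theorem F59172 : act 1 n14994 = n14139 := d14_1 D14994 (iv D14139) (iv F55644)
theorem F59173 : act 4 n14994 = n14244 := d29_1 D14994 (iv D14244) (iv F55645)
theorem F59174 : act 5 n14994 = n14114 := d32_1 D14994 (iv D14114) (iv F55646)
theorem F59175 : act 6 n14994 = n14243 := d34_1 D14994 (iv D14243) (iv F55647)
def n14995 : Q := act 7 n14117
theorem D14995 : act 7 n14117 = n14995 := rfl
theorem F59176 : act 1 n14995 = n14150 := d13_1 D14995 (iv D14150) (iv F55660)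
theorem F59177 : act 4 n14995 = n14852 := d28_1 D14995 (iv D14852) (iv F55661)
theorem F59178 : act 5 n14995 = n14119 := d31_1 D14995 (iv D14119) (iv F55662)
theorem F59179 : act 6 n14995 = n14851 := d33_1 D14995 (iv D14851) (iv F55663)
theorem F59180 : act 8 n14995 = n14118 := d35_2 D14117 D14995 (iv D14118) (iv D13143) D13142
def n14996 : Q := act 3 n14119
theorem D14996 : act 3 n14119 = n14996 := rfl
theorem F59181 : act 1 n14996 = n14151 := d9_1 D14996 (iv D14151) (iv F55666)
theorem F59182 : act 8 n14996 = n14120 := d25_2 (iv F55668) D14996 (iv D14120)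
def n14997 : Q := act 2 n14120
theorem D14997 : act 2 n14120 = n14997 := rfl
theorem F59183 : act 7 n14997 = n14123 := d19_2 (iv F55670) D14997 (iv D14123)
def n14998 : Q := act 3 n14121
theorem D14998 : act 3 n14121 = n14998 := rfl
theorem F59184 : act 1 n14998 = n14152 := d9_1 D14998 (iv D14152) (iv F55671)
theorem F59185 : act 4 n14998 = n14416 := d21_2 (iv F55673) D14998 (iv D14416) F55690 (iv D14127)
theorem F59186 : act 6 n14998 = n14122 := d23_2 (iv F55674) D14998 (iv D14122)
def n14999 : Q := act 2 n14122
theorem D14999 : act 2 n14122 = n14999 := rfl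
theorem F59187 : act 1 n14999 = n14726 := d8_1 D14999 F58150 F54508 (iv F51917) (iv F55675)
theorem F59188 : act 3 n14999 = n14125 := d15_2 D14122 D14999 (iv D14125) (iv D13151) (iv F51725)
theorem F59189 : act 4 n14999 = n14725 := d16_2 (iv F55676) D14999 F58145
theorem F59190 : act 5 n14999 = n14123 := d17_2 (iv F55677) D14999 (iv D14123)
def n15000 : Q := act 1 n14123
theorem D15000 : act 1 n14123 = n15000 := rfl
theorem F59191 : act 2 n15000 = n14153 := d8_2 D14123 D15000 (iv D14153) (iv D13193) (iv F51728)
theorem F59192 : act 3 n15000 = n14126 := d9_2 (iv F55678) D15000 (iv D14126)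
theorem F59193 : act 5 n15000 = n14726 := d11_2 F59190 D15000 (iv F59187)
def n15001 : Q := act 4 n14123
theorem D15001 : act 4 n14123 = n15001 := rfl
theorem F59194 : act 2 n15001 = n14124 := d16_1 D15001 (iv D14124) D14123
theorem F59195 : act 5 n15001 = n14763 := d26_2 F59190 D15001 (iv D14763) (iv F58147) (iv F59189)
def n15002 : Q := act 8 n14128
theorem D15002 : act 8 n14128 = n15002 := rfl
theorem F59196 : act 0 n15002 = n15002 := d7_1 D15002 (iv D15002) F55691
theorem F59197 : act 1 n15002 = n14338 := d14_1 D15002 (iv D14338) (iv F55692)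
theorem F59198 : act 2 n15002 = n14294 := d20_1 D15002 (iv D14294) (iv F55693)
theorem F59199 : act 4 n15002 = n14288 := d29_1 D15002 F56239 (iv F55694)
theorem F59200 : act 5 n15002 = n14129 := d32_1 D15002 (iv D14129) D14128
theorem F59201 : act 6 n15002 = n14933 := d34_1 D15002 F58894 F55783
theorem F59202 : act 7 n14291 = n15002 := d33_0 F59201 F58893 (iv F56257)
def n15003 : Q := act 7 n14129
theorem D15003 : act 7 n14129 = n15003 := rfl
theorem F59203 : act 0 n15003 = n15003 := d6_1 D15003 (iv D15003) F55696
theorem F59204 : act 1 n15003 = n14339 := d13_1 D15003 (iv D14339) (iv F55697)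
theorem F59205 : act 2 n15003 = n14295 := d19_1 D15003 (iv D14295) (iv F55698)
theorem F59206 : act 4 n15003 = n14130 := d28_1 D15003 (iv D14130) (iv F55699)
theorem F59207 : act 5 n15003 = n14291 := d31_1 D15003 F59202 F59200
theorem F59208 : act 6 n15003 = n14132 := d33_1 D15003 (iv D14132) (iv F55700)
theorem F59209 : act 8 n15003 = n15003 := d35_2 D14129 D15003 (iv D15003) (iv D14129) F51785
def n15004 : Q := act 3 n14132
theorem D15004 : act 3 n14132 = n15004 := rfl
theorem F59210 : act 0 n15004 = n15004 := d2_1 D15004 (iv D15004) F55716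
theorem F59211 : act 2 n15004 = n14918 := d15_1 D15004 (iv D14918) F55146 D14010 (iv F55717)
theorem F59212 : act 4 n15004 = n14136 := d21_2 (iv F55718) D15004 (iv D14136) F51827 (iv F51804)
theorem F59213 : act 5 n15004 = n14919 := d22_2 (iv F55719) D15004 F58826
theorem F59214 : act 8 n15004 = n15004 := d25_2 F55720 D15004 (iv D15004)
def n15005 : Q := act 3 n14133
theorem D15005 : act 3 n14133 = n15005 := rfl
theorem F59215 : act 0 n15005 = n15005 := d2_1 D15005 (iv D15005) F55721
theorem F59216 : act 5 n15005 = n14280 := d22_2 (iv F55724) D15005 F56204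
theorem F59217 : act 6 n15005 = n14136 := d23_2 (iv F55725) D15005 (iv D14136)
theorem F59218 : act 8 n15005 = n15005 := d25_2 F55726 D15005 (iv D15005)
def n15006 : Q := act 3 n14135
theorem D15006 : act 3 n14135 = n15006 := rfl
theorem F59219 : act 0 n15006 = n15006 := d2_1 D15006 (iv D15006) F55732
theorem F59220 : act 5 n15006 = n14136 := d22_2 (iv F55735) D15006 (iv D14136)
theorem F59221 : act 8 n15006 = n15006 := d25_2 F55736 D15006 (iv D15006)
def n15007 : Q := act 2 n14136
theorem D15007 : act 2 n14136 = n15007 := rfl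
theorem F59222 : act 0 n15007 = n15007 := d1_1 D15007 (iv D15007) F55737
theorem F59223 : act 3 n15007 = n15007 := d15_2 D14136 D15007 (iv D15007) (iv D14136) F51826
theorem F59224 : act 4 n15007 = n14918 := d16_2 F59212 D15007 (iv F59211)
theorem F59225 : act 8 n15007 = n15007 := d20_2 F55738 D15007 (iv D15007)
def n15008 : Q := act 7 n14137
theorem D15008 : act 7 n14137 = n15008 := rfl
theorem F59226 : act 0 n15008 = n15008 := d6_1 D15008 (iv D15008) F55739
theorem F59227 : act 1 n15008 = n14344 := d13_1 D15008 F59012 F59007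
theorem F59228 : act 2 n15008 = n15008 := d19_1 D15008 (iv D15008) F55740
theorem F59229 : act 4 n15008 = n14140 := d28_1 D15008 (iv D14140) (iv F55742)
theorem F59230 : act 5 n15008 = n15008 := d31_1 D15008 (iv D15008) F55743
theorem F59231 : act 6 n15008 = n14287 := d33_1 D15008 (iv D14287) (iv F55744)
theorem F59232 : act 8 n15008 = n14286 := d35_2 D14137 D15008 (iv D14286) (iv D13333) F51840
theorem F59233 : act 3 n14296 = n15008 := d23_3 F59231 (iv F56234) D14296
def n15009 : Q := act 7 n14138
theorem D15009 : act 7 n14138 = n15009 := rfl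
theorem F59234 : act 0 n15009 = n15009 := d6_1 D15009 (iv D15009) F55745
theorem F59235 : act 1 n15009 = n14343 := d13_1 D15009 F59021 F59015
theorem F59236 : act 2 n15009 = n15009 := d19_1 D15009 (iv D15009) F55746
theorem F59237 : act 4 n15009 = n14287 := d28_1 D15009 (iv D14287) (iv F55748)
theorem F59238 : act 5 n15009 = n14149 := d31_1 D15009 (iv D14149) (iv F55749)
theorem F59239 : act 6 n15009 = n14140 := d33_1 D15009 (iv D14140) (iv F55750)
theorem F59240 : act 8 n15009 = n14285 := d35_2 D14138 D15009 (iv D14285) (iv D13332) F51838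
def n15010 : Q := act 7 n14139
theorem D15010 : act 7 n14139 = n15010 := rfl
theorem F59241 : act 0 n15010 = n15010 := d6_1 D15010 (iv D15010) F55751
theorem F59242 : act 2 n15010 = n15010 := d19_1 D15010 (iv D15010) F55752
theorem F59243 : act 4 n15010 = n14286 := d28_1 D15010 (iv D14286) (iv F55753)
theorem F59244 : act 5 n15010 = n14141 := d31_1 D15010 (iv D14141) (iv F55754)
theorem F59245 : act 6 n15010 = n14285 := d33_1 D15010 (iv D14285) (iv F55755)
theorem F59246 : act 8 n15010 = n14140 := d35_2 D14139 D15010 (iv D14140) (iv D13175) D13174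
def n15011 : Q := act 3 n14140
theorem D15011 : act 3 n14140 = n15011 := rfl
theorem F59247 : act 0 n15011 = n15011 := d2_1 D15011 (iv D15011) F55756
theorem F59248 : act 5 n15011 = n14142 := d22_2 (iv F55758) D15011 (iv D14142)
theorem F59249 : act 7 n15011 = n14144 := d24_2 D14140 D15011 (iv D14144) (iv D13179) (iv F51848)
def n15012 : Q := act 3 n14141
theorem D15012 : act 3 n14141 = n15012 := rfl
theorem F59250 : act 0 n15012 = n15012 := d2_1 D15012 (iv D15012) F55759
theorem F59251 : act 6 n15012 = n14151 := d23_2 (iv F55762) D15012 (iv D14151)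
theorem F59252 : act 8 n15012 = n14142 := d25_2 (iv F55763) D15012 (iv D14142)
def n15013 : Q := act 3 n14143
theorem D15013 : act 3 n14143 = n15013 := rfl
theorem F59253 : act 0 n15013 = n15013 := d2_1 D15013 (iv D15013) F55767
theorem F59254 : act 2 n15013 = n14878 := d15_1 D15013 F58657 F55693 F52529 (iv F55768)
theorem F59255 : act 5 n15013 = n14152 := d22_2 (iv F55770) D15013 (iv D14152)
theorem F59256 : act 6 n15013 = n14144 := d23_2 (iv F55771) D15013 (iv D14144)
theorem F59257 : act 4 n14564 = n15013 := d37_2 F55006 D14564 (iv D15013) F55768 F51875 F47979 (iv D11199) F35803 F26459 F19633 F14632 F14631 (iv F19676) D6927 F26531 F26530 F44613 F31217 (iv F23665) F23664 D6141 F23711 F23710 F17596 (iv F17664) F17663 (iv F17818) (iv D4552) (iv D3328) F9880 F9152 (iv D2250) F6870 F5583 D1323 (iv F7456) (iv F9970) D3369 D4611 D6313 D8663 F32931 (iv F31941) F31940 (iv F39799) F39798 (iv F45741) (iv D11631) (iv F45721) F45720 F40954 (iv F46765) (iv F50719) (iv D12884) (iv F50121) F50122 (iv F48712) D13392 D14326 F56416 (iv F55003)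 F55002
def n15014 : Q := act 2 n14144
theorem D15014 : act 2 n14144 = n15014 := rfl
theorem F59258 : act 0 n15014 = n15014 := d1_1 D15014 (iv D15014) F55772
theorem F59259 : act 3 n15014 = n14147 := d15_2 D14144 D15014 (iv D14147) (iv D13183) (iv F51864)
theorem F59260 : act 5 n15014 = n14145 := d17_2 (iv F55773) D15014 (iv D14145)
theorem F59261 : act 6 n15014 = n14878 := d18_2 F59256 D15014 (iv F59254)
theorem F59262 : act 4 n15011 = n15014 := d26_5 F59260 (iv F56165) (iv F58703) F58702 (iv F59248)
def n15015 : Q := act 4 n14144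
theorem D15015 : act 4 n14144 = n15015 := rfl
theorem F59263 : act 0 n15015 = n15015 := d3_1 D15015 (iv D15015) F55772
theorem F59264 : act 2 n15015 = n15011 := d16_1 D15015 F59262 (iv D15014)
theorem F59265 : act 3 n15015 = n15015 := d21_1 D15015 (iv D15015) (iv D14144) F51865 D14144
theorem F59266 : act 5 n15015 = n14572 := d26_2 (iv F55773) D15015 F57518 F55780 (iv D14146)
theorem F59267 : act 6 n15015 = n14564 := d27_2 F59256 D15015 F59257
theorem F59268 : act 7 n15015 = n15014 := d28_2 F59249 D15015 (iv F59262)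
def n15016 : Q := act 1 n14145
theorem D15016 : act 1 n14145 = n15016 := rfl
theorem F59269 : act 3 n15016 = n14148 := d9_2 (iv F55775) D15016 (iv D14148)
theorem F59270 : act 6 n15016 = n14153 := d12_2 (iv F55776) D15016 (iv D14153)
def n15017 : Q := act 1 n14154
theorem D15017 : act 1 n14154 = n15017 := rfl
theorem F59271 : act 2 n15017 = n15017 := d8_2 D14154 D15017 (iv D15017) (iv D14154) F51954
theorem F59272 : act 3 n15017 = n14157 := d9_2 (iv F55809) D15017 (iv D14157)
theorem F59273 : act 7 n15017 = n14615 := d13_2 (iv F55810) D15017 (iv D14615)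
def n15018 : Q := act 4 n14154
theorem D15018 : act 4 n14154 = n15018 := rfl
theorem F59274 : act 0 n15018 = n14209 := d3_1 D15018 (iv D14209) (iv F55808)
theorem F59275 : act 2 n15018 = n14155 := d16_1 D15018 (iv D14155) D14154
theorem F59276 : act 7 n15018 = n14616 := d28_2 (iv F55810) D15018 (iv D14616)
def n15019 : Q := act 8 n14154
theorem D15019 : act 8 n14154 = n15019 := rfl
theorem F59277 : act 0 n15019 = n14210 := d7_1 D15019 (iv D14210) (iv F55808)
theorem F59278 : act 2 n15019 = n14156 := d20_1 D15019 (iv D14156) D14154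
theorem F59279 : act 3 n15019 = n14159 := d25_1 D15019 (iv D14159) (iv F55809)
def n15020 : Q := act 5 n14155
theorem D15020 : act 5 n14155 = n15020 := rfl
theorem F59280 : act 0 n15020 = n14211 := d4_1 D15020 (iv D14211) (iv F55811)
theorem F59281 : act 1 n15020 = n15020 := d11_1 D15020 (iv D15020) F55812
theorem F59282 : act 3 n15020 = n15020 := d22_1 D15020 (iv D15020) F55813
theorem F59283 : act 4 n15020 = n14474 := d26_1 D15020 (iv D14474) (iv F53898) F53899 D14155
theorem F59284 : act 7 n15020 = n14618 := d31_2 (iv F55814) D15020 (iv D14618)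
def n15021 : Q := act 8 n14155
theorem D15021 : act 8 n14155 = n15021 := rfl
theorem F59285 : act 0 n15021 = n14212 := d7_1 D15021 (iv D14212) (iv F55811)
theorem F59286 : act 1 n15021 = n15021 := d14_1 D15021 (iv D15021) F55812
theorem F59287 : act 3 n15021 = n15021 := d25_1 D15021 (iv D15021) F55813
theorem F59288 : act 4 n15021 = n14156 := d29_1 D15021 (iv D14156) D14155
def n15022 : Q := act 7 n14156
theorem D15022 : act 7 n14156 = n15022 := rfl
theorem F59289 : act 0 n15022 = n14213 := d6_1 D15022 (iv D14213) (iv F55815)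
theorem F59290 : act 1 n15022 = n15022 := d13_1 D15022 (iv D15022) F55816
theorem F59291 : act 8 n15022 = n14620 := d35_2 D14156 D15022 (iv D14620) (iv D13703) (iv F51955)
def n15023 : Q := act 8 n14157
theorem D15023 : act 8 n14157 = n15023 := rfl
theorem F59292 : act 1 n15023 = n14159 := d14_1 D15023 (iv D14159) D14157
theorem F59293 : act 2 n15023 = n14188 := d20_1 D15023 (iv D14188) (iv F55818)
def n15024 : Q := act 3 n14158
theorem D15024 : act 3 n14158 = n15024 := rfl
theorem F59294 : act 0 n15024 = n14214 := d2_1 D15024 (iv D14214) (iv F55820)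
theorem F59295 : act 2 n15024 = n15024 := d15_1 D15024 (iv D15024) F55821 F51964 (iv F55821)
def n15025 : Q := act 8 n14158
theorem D15025 : act 8 n14158 = n15025 := rfl
theorem F59296 : act 0 n15025 = n14216 := d7_1 D15025 (iv D14216) (iv F55820)
theorem F59297 : act 2 n15025 = n14160 := d20_1 D15025 (iv D14160) (iv F55821)
theorem F59298 : act 4 n15025 = n14159 := d29_1 D15025 (iv D14159) D14158
def n15026 : Q := act 7 n14159
theorem D15026 : act 7 n14159 = n15026 := rfl
theorem F59299 : act 0 n15026 = n14217 := d6_1 D15026 (iv D14217) (iv F55823)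
theorem F59300 : act 2 n15026 = n14161 := d19_1 D15026 (iv D14161) (iv F55824)
theorem F59301 : act 8 n15026 = n14167 := d35_2 D14159 D15026 (iv D14167) (iv D13207) (iv F51961)
def n15027 : Q := act 7 n14160
theorem D15027 : act 7 n14160 = n15027 := rfl
theorem F59302 : act 0 n15027 = n14219 := d6_1 D15027 (iv D14219) (iv F55825)
theorem F59303 : act 1 n15027 = n14190 := d13_1 D15027 (iv D14190) (iv F55826)
theorem F59304 : act 4 n15027 = n14161 := d28_1 D15027 (iv D14161) (iv F55828)
theorem F59305 : act 8 n15027 = n14169 := d35_2 D14160 D15027 (iv D14169) (iv D13209) (iv F51965)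
def n15028 : Q := act 3 n14162
theorem D15028 : act 3 n14162 = n15028 := rfl
theorem F59306 : act 1 n15028 = n14164 := d9_1 D15028 (iv D14164) (iv F55832)
theorem F59307 : act 2 n15028 = n15028 := d15_1 D15028 (iv D15028) F55833 F52078 (iv F55833)
theorem F59308 : act 4 n15028 = n14649 := d21_2 D14162 D15028 (iv D14649) (iv D13724) (iv F51970)
def n15029 : Q := act 8 n14162
theorem D15029 : act 8 n14162 = n15029 := rfl
theorem F59309 : act 1 n15029 = n14166 := d14_1 D15029 (iv D14166) (iv F55832)
theorem F59310 : act 2 n15029 = n14191 := d20_1 D15029 (iv D14191) (iv F55833)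
theorem F59311 : act 4 n15029 = n14163 := d29_1 D15029 (iv D14163) D14162
def n15030 : Q := act 7 n14163
theorem D15030 : act 7 n14163 = n15030 := rfl
theorem F59312 : act 1 n15030 = n14167 := d13_1 D15030 (iv D14167) (iv F55834)
theorem F59313 : act 2 n15030 = n14192 := d19_1 D15030 (iv D14192) (iv F55835)
def n15031 : Q := act 5 n14164
theorem D15031 : act 5 n14164 = n15031 := rfl
theorem F59314 : act 0 n15031 = n14220 := d4_1 D15031 (iv D14220) (iv F55837)
theorem F59315 : act 2 n15031 = n14170 := d17_1 D15031 (iv D14170) (iv F55838)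
theorem F59316 : act 3 n15031 = n14165 := d22_1 D15031 (iv D14165) D14164
def n15032 : Q := act 7 n14164
theorem D15032 : act 7 n14164 = n15032 := rfl
theorem F59317 : act 0 n15032 = n14221 := d6_1 D15032 (iv D14221) (iv F55837)
theorem F59318 : act 2 n15032 = n14171 := d19_1 D15032 (iv D14171) (iv F55838)
theorem F59319 : act 4 n15032 = n14654 := d28_1 D15032 (iv D14654) (iv F55839)
def n15033 : Q := act 8 n14164
theorem D15033 : act 8 n14164 = n15033 := rfl
theorem F59320 : act 0 n15033 = n14222 := d7_1 D15033 (iv D14222) (iv F55837)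
theorem F59321 : act 2 n15033 = n14172 := d20_1 D15033 (iv D14172) (iv F55838)
theorem F59322 : act 3 n15033 = n14166 := d25_1 D15033 (iv D14166) D14164
theorem F59323 : act 4 n15033 = n14655 := d29_1 D15033 (iv D14655) (iv F55839)
def n15034 : Q := act 8 n14165
theorem D15034 : act 8 n14165 = n15034 := rfl
theorem F59324 : act 0 n15034 = n14224 := d7_1 D15034 (iv D14224) (iv F55840)
theorem F59325 : act 2 n15034 = n14168 := d20_1 D15034 (iv D14168) (iv F55841)
theorem F59326 : act 5 n15034 = n14166 := d32_1 D15034 (iv D14166) D14165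
def n15035 : Q := act 7 n14166
theorem D15035 : act 7 n14166 = n15035 := rfl
theorem F59327 : act 0 n15035 = n14225 := d6_1 D15035 (iv D14225) (iv F55842)
theorem F59328 : act 2 n15035 = n14169 := d19_1 D15035 (iv D14169) (iv F55843)
theorem F59329 : act 4 n15035 = n14167 := d28_1 D15035 (iv D14167) (iv F55844)
def n15036 : Q := act 3 n14167
theorem D15036 : act 3 n14167 = n15036 := rfl
theorem F59330 : act 0 n15036 = n14226 := d2_1 D15036 (iv D14226) (iv F55845)
theorem F59331 : act 7 n15036 = n14659 := d24_2 D14167 D15036 (iv D14659) (iv D13729) (iv F51975)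
def n15037 : Q := act 7 n14168
theorem D15037 : act 7 n14168 = n15037 := rfl
theorem F59332 : act 0 n15037 = n14228 := d6_1 D15037 (iv D14228) (iv F55847)
theorem F59333 : act 1 n15037 = n14195 := d13_1 D15037 (iv D14195) (iv F55848)
theorem F59334 : act 5 n15037 = n14169 := d31_1 D15037 (iv D14169) (iv F55850)
def n15038 : Q := act 3 n14169
theorem D15038 : act 3 n14169 = n15038 := rfl
theorem F59335 : act 0 n15038 = n14229 := d2_1 D15038 (iv D14229) (iv F55851)
theorem F59336 : act 1 n15038 = n14196 := d9_1 D15038 (iv D14196) (iv F55852)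
theorem F59337 : act 7 n15038 = n14179 := d24_2 D14169 D15038 (iv D14179) (iv D13217) (iv F51981)
def n15039 : Q := act 4 n14170
theorem D15039 : act 4 n14170 = n15039 := rfl
theorem F59338 : act 0 n15039 = n14230 := d3_1 D15039 (iv D14230) (iv F55854)
theorem F59339 : act 1 n15039 = n15039 := d10_1 D15039 (iv D15039) F55855
theorem F59340 : act 3 n15039 = n14180 := d21_1 D15039 (iv D14180) F52016 (iv F51991) (iv F55856)
theorem F59341 : act 5 n15039 = n14669 := d26_2 D14170 D15039 (iv D14669) (iv D13738) (iv F51987)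
def n15040 : Q := act 6 n14170
theorem D15040 : act 6 n14170 = n15040 := rfl
theorem F59342 : act 0 n15040 = n14231 := d5_1 D15040 (iv D14231) (iv F55854)
theorem F59343 : act 1 n15040 = n15040 := d12_1 D15040 (iv D15040) F55855
theorem F59344 : act 3 n15040 = n14173 := d23_1 D15040 (iv D14173) (iv F55856)
def n15041 : Q := act 7 n14170
theorem D15041 : act 7 n14170 = n15041 := rfl
theorem F59345 : act 0 n15041 = n14232 := d6_1 D15041 (iv D14232) (iv F55854)
theorem F59346 : act 1 n15041 = n15041 := d13_1 D15041 (iv D15041) F55855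
theorem F59347 : act 3 n15041 = n15041 := d24_1 D15041 (iv D15041) F55856 F51992 (iv F55856)
theorem F59348 : act 5 n15041 = n14171 := d31_1 D15041 (iv D14171) D14170
def n15042 : Q := act 8 n14170
theorem D15042 : act 8 n14170 = n15042 := rfl
theorem F59349 : act 0 n15042 = n14233 := d7_1 D15042 (iv D14233) (iv F55854)
theorem F59350 : act 1 n15042 = n15042 := d14_1 D15042 (iv D15042) F55855
theorem F59351 : act 3 n15042 = n14174 := d25_1 D15042 (iv D14174) (iv F55856)
theorem F59352 : act 5 n15042 = n14172 := d32_1 D15042 (iv D14172) D14170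
def n15043 : Q := act 8 n14171
theorem D15043 : act 8 n14171 = n15043 := rfl
theorem F59353 : act 0 n15043 = n14234 := d7_1 D15043 (iv D14234) (iv F55857)
theorem F59354 : act 1 n15043 = n15043 := d14_1 D15043 (iv D15043) F55858
theorem F59355 : act 3 n15043 = n15043 := d25_1 D15043 (iv D15043) F55859
theorem F59356 : act 4 n15043 = n14673 := d29_1 D15043 (iv D14673) (iv F55860)
def n15044 : Q := act 7 n14172
theorem D15044 : act 7 n14172 = n15044 := rfl
theorem F59357 : act 0 n15044 = n14235 := d6_1 D15044 (iv D14235) (iv F55861)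
theorem F59358 : act 1 n15044 = n15044 := d13_1 D15044 (iv D15044) F55862
theorem F59359 : act 4 n15044 = n14674 := d28_1 D15044 (iv D14674) (iv F55864)
def n15045 : Q := act 8 n14173
theorem D15045 : act 8 n14173 = n15045 := rfl
theorem F59360 : act 0 n15045 = n14236 := d7_1 D15045 (iv D14236) (iv F55865)
theorem F59361 : act 1 n15045 = n15045 := d14_1 D15045 (iv D15045) F55866
theorem F59362 : act 2 n15045 = n14177 := d20_1 D15045 (iv D14177) (iv F55867)
theorem F59363 : act 4 n15045 = n14184 := d29_1 D15045 (iv D14184) (iv F55868)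
theorem F59364 : act 6 n15045 = n14174 := d34_1 D15045 (iv D14174) D14173
def n15046 : Q := act 7 n14174
theorem D15046 : act 7 n14174 = n15046 := rfl
theorem F59365 : act 0 n15046 = n14237 := d6_1 D15046 (iv D14237) (iv F55870)
theorem F59366 : act 1 n15046 = n15046 := d13_1 D15046 (iv D15046) F55871
theorem F59367 : act 2 n15046 = n14178 := d19_1 D15046 (iv D14178) (iv F55872)
theorem F59368 : act 4 n15046 = n14185 := d28_1 D15046 (iv D14185) (iv F55873)
theorem F59369 : act 5 n15046 = n14175 := d31_1 D15046 (iv D14175) (iv F55874)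
theorem F59370 : act 8 n15046 = n15046 := d35_2 D14174 D15046 (iv D15046) (iv D14174) F51992
def n15047 : Q := act 3 n14175
theorem D15047 : act 3 n14175 = n15047 := rfl
theorem F59371 : act 0 n15047 = n14238 := d2_1 D15047 (iv D14238) (iv F55875)
theorem F59372 : act 1 n15047 = n15047 := d9_1 D15047 (iv D15047) F55876
theorem F59373 : act 8 n15047 = n15047 := d25_2 F55879 D15047 (iv D15047)
def n15048 : Q := act 4 n14176
theorem D15048 : act 4 n14176 = n15048 := rfl
theorem F59374 : act 0 n15048 = n14239 := d3_1 D15048 (iv D14239) (iv F55880)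
theorem F59375 : act 1 n15048 = n15048 := d10_1 D15048 (iv D15048) F55881
theorem F59376 : act 2 n15048 = n14977 := d16_1 D15048 F59108 (iv F55882)
theorem F59377 : act 5 n15048 = n14491 := d26_2 (iv F55883) D15048 (iv D14491) F53336 (iv F52049)
theorem F59378 : act 6 n15048 = n14982 := d27_2 (iv F55884) D15048 F59130
theorem F59379 : act 7 n15048 = n14678 := d28_2 (iv F55885) D15048 (iv D14678)
theorem F59380 : act 8 n15048 = n15048 := d29_2 F55886 D15048 (iv D15048)
def n15049 : Q := act 7 n14177
theorem D15049 : act 7 n14177 = n15049 := rfl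
theorem F59381 : act 0 n15049 = n14240 := d6_1 D15049 (iv D14240) (iv F55887)
theorem F59382 : act 1 n15049 = n14197 := d13_1 D15049 (iv D14197) (iv F55888)
theorem F59383 : act 4 n15049 = n14186 := d28_1 D15049 (iv D14186) (iv F55889)
theorem F59384 : act 6 n15049 = n14178 := d33_1 D15049 (iv D14178) (iv F55890)
theorem F59385 : act 8 n15049 = n15049 := d35_2 D14177 D15049 (iv D15049) (iv D14177) F52005
def n15050 : Q := act 3 n14178
theorem D15050 : act 3 n14178 = n15050 := rfl
theorem F59386 : act 0 n15050 = n14241 := d2_1 D15050 (iv D14241) (iv F55891)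
theorem F59387 : act 1 n15050 = n14198 := d9_1 D15050 (iv D14198) (iv F55892)
theorem F59388 : act 5 n15050 = n14179 := d22_2 (iv F55894) D15050 (iv D14179)
theorem F59389 : act 8 n15050 = n15050 := d25_2 F55895 D15050 (iv D15050)
def n15051 : Q := act 2 n14179
theorem D15051 : act 2 n14179 = n15051 := rfl
theorem F59390 : act 0 n15051 = n14242 := d1_1 D15051 (iv D14242) (iv F55896)
theorem F59391 : act 8 n15051 = n15051 := d20_2 F55898 D15051 (iv D15051)
def n15052 : Q := act 8 n14180
theorem D15052 : act 8 n14180 = n15052 := rfl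
theorem F59392 : act 0 n15052 = n14243 := d7_1 D15052 (iv D14243) (iv F55899)
theorem F59393 : act 1 n15052 = n15052 := d14_1 D15052 (iv D15052) F55900
theorem F59394 : act 2 n15052 = n14851 := d20_1 D15052 F58558 F57642
theorem F59395 : act 4 n15052 = n14183 := d29_1 D15052 (iv D14183) D14180
theorem F59396 : act 5 n15052 = n14682 := d32_1 D15052 (iv D14682) (iv F55901)
theorem F59397 : act 7 n15052 = n14495 := d35_1 D15052 (iv D14495) F55625 (iv F59048) (iv F59049)
def n15053 : Q := act 8 n14181
theorem D15053 : act 8 n14181 = n15053 := rfl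
theorem F59398 : act 0 n15053 = n14244 := d7_1 D15053 (iv D14244) (iv F55902)
theorem F59399 : act 1 n15053 = n15053 := d14_1 D15053 (iv D15053) F55903
theorem F59400 : act 2 n15053 = n14852 := d20_1 D15053 F58563 F57542
theorem F59401 : act 3 n15053 = n14184 := d25_1 D15053 (iv D14184) (iv F55904)
theorem F59402 : act 5 n15053 = n15053 := d32_1 D15053 (iv D15053) F55905
theorem F59403 : act 6 n15053 = n14183 := d34_1 D15053 (iv D14183) D14181
theorem F59404 : act 7 n15053 = n14496 := d35_1 D15053 (iv D14496) F55620 (iv F59039) (iv F59040)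
def n15054 : Q := act 7 n14184
theorem D15054 : act 7 n14184 = n15054 := rfl
theorem F59405 : act 0 n15054 = n14247 := d6_1 D15054 (iv D14247) (iv F55918)
theorem F59406 : act 1 n15054 = n15054 := d13_1 D15054 (iv D15054) F55919
theorem F59407 : act 2 n15054 = n14186 := d19_1 D15054 (iv D14186) (iv F55920)
theorem F59408 : act 3 n15054 = n14497 := d24_1 D15054 (iv D14497) (iv F57156) (iv F59404) F59401
theorem F59409 : act 5 n15054 = n15054 := d31_1 D15054 (iv D15054) F55921
theorem F59410 : act 6 n15054 = n14185 := d33_1 D15054 (iv D14185) (iv F55922)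
theorem F59411 : act 8 n15054 = n15054 := d35_2 D14184 D15054 (iv D15054) (iv D14184) F52035
def n15055 : Q := act 7 n14188
theorem D15055 : act 7 n14188 = n15055 := rfl
theorem F59412 : act 1 n15055 = n14189 := d13_1 D15055 (iv D14189) (iv F55940)
theorem F59413 : act 8 n15055 = n14192 := d35_2 D14188 D15055 (iv D14192) (iv D13233) (iv F52068)
def n15056 : Q := act 3 n14189
theorem D15056 : act 3 n14189 = n15056 := rfl
theorem F59414 : act 0 n15056 = n14202 := d2_1 D15056 (iv D14202) (iv F55942)
theorem F59415 : act 7 n15056 = n15056 := d24_2 D14189 D15056 (iv D15056) (iv D14189) F52071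
theorem F59416 : act 8 n15056 = n14194 := d25_2 (iv F55944) D15056 (iv D14194)
def n15057 : Q := act 3 n14190
theorem D15057 : act 3 n14190 = n15057 := rfl
theorem F59417 : act 0 n15057 = n14203 := d2_1 D15057 (iv D14203) (iv F55945)
theorem F59418 : act 7 n15057 = n15057 := d24_2 D14190 D15057 (iv D15057) (iv D14190) F52073
theorem F59419 : act 8 n15057 = n14196 := d25_2 (iv F55947) D15057 (iv D14196)
def n15058 : Q := act 7 n14191
theorem D15058 : act 7 n14191 = n15058 := rfl
theorem F59420 : act 1 n15058 = n14193 := d13_1 D15058 (iv D14193) (iv F55948)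
theorem F59421 : act 4 n15058 = n14192 := d28_1 D15058 (iv D14192) (iv F55950)
def n15059 : Q := act 3 n14192
theorem D15059 : act 3 n14192 = n15059 := rfl
theorem F59422 : act 1 n15059 = n14194 := d9_1 D15059 (iv D14194) (iv F55951)
theorem F59423 : act 7 n15059 = n14200 := d24_2 D14192 D15059 (iv D14200) (iv D13244) (iv F52080)
def n15060 : Q := act 3 n14193
theorem D15060 : act 3 n14193 = n15060 := rfl
theorem F59424 : act 0 n15060 = n14204 := d2_1 D15060 (iv D14204) (iv F55952)
theorem F59425 : act 7 n15060 = n15060 := d24_2 D14193 D15060 (iv D15060) (iv D14193) F52083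
def n15061 : Q := act 4 n14194
theorem D15061 : act 4 n14194 = n15061 := rfl
theorem F59426 : act 0 n15061 = n14205 := d3_1 D15061 (iv D14205) (iv F55955)
theorem F59427 : act 7 n15061 = n14201 := d28_2 (iv F55956) D15061 (iv D14201)
def n15062 : Q := act 3 n14195
theorem D15062 : act 3 n14195 = n15062 := rfl
theorem F59428 : act 0 n15062 = n14206 := d2_1 D15062 (iv D14206) (iv F55957)
theorem F59429 : act 5 n15062 = n14196 := d22_2 (iv F55958) D15062 (iv D14196)
theorem F59430 : act 7 n15062 = n14198 := d24_2 D14195 D15062 (iv D14198) (iv D13239) (iv F52088)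
def n15063 : Q := act 2 n14196
theorem D15063 : act 2 n14196 = n15063 := rfl
theorem F59431 : act 0 n15063 = n14207 := d1_1 D15063 (iv D14207) (iv F55959)
theorem F59432 : act 7 n15063 = n14199 := d19_2 (iv F55960) D15063 (iv D14199)
def n15064 : Q := act 1 n14199
theorem D15064 : act 1 n14199 = n15064 := rfl
theorem F59433 : act 3 n15064 = n15064 := d9_2 F55970 D15064 (iv D15064)
theorem F59434 : act 8 n15064 = n15064 := d14_2 F55971 D15064 (iv D15064)
def n15065 : Q := act 2 n14200
theorem D15065 : act 2 n14200 = n15065 := rfl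
theorem F59435 : act 3 n15065 = n14713 := d15_2 D14200 D15065 (iv D14713) (iv D13792) (iv F52118)
theorem F59436 : act 8 n15065 = n15065 := d20_2 F55973 D15065 (iv D15065)
def n15066 : Q := act 4 n14200
theorem D15066 : act 4 n14200 = n15066 := rfl
theorem F59437 : act 1 n15066 = n14201 := d10_1 D15066 (iv D14201) (iv F55972)
theorem F59438 : act 3 n15066 = n15066 := d21_1 D15066 (iv D15066) (iv D14200) F52119 D14200
theorem F59439 : act 8 n15066 = n15066 := d29_2 F55973 D15066 (iv D15066)
def n15067 : Q := act 5 n14201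
theorem D15067 : act 5 n14201 = n15067 := rfl
theorem F59440 : act 0 n15067 = n14208 := d4_1 D15067 F55990 (iv F55974)
theorem F59441 : act 2 n15067 = n14267 := d17_1 D15067 F56711 F56707
theorem F59442 : act 3 n15067 = n15067 := d22_1 D15067 (iv D15067) F55975
theorem F59443 : act 8 n15067 = n15067 := d32_2 F55976 D15067 (iv D15067)
def n15068 : Q := act 4 n14202
theorem D15068 : act 4 n14202 = n15068 := rfl
theorem F59444 : act 7 n15068 = n15068 := d28_2 F55977 D15068 (iv D15068)
theorem F59445 : act 8 n15068 = n14205 := d29_2 (iv F55978) D15068 (iv D14205)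
def n15069 : Q := act 2 n14203
theorem D15069 : act 2 n14203 = n15069 := rfl
theorem F59446 : act 7 n15069 = n15069 := d19_2 F55980 D15069 (iv D15069)
theorem F59447 : act 8 n15069 = n14207 := d20_2 (iv F55981) D15069 (iv D14207)
def n15070 : Q := act 2 n14204
theorem D15070 : act 2 n14204 = n15070 := rfl
theorem F59448 : act 3 n15070 = n14207 := d15_2 D14204 D15070 (iv D14207) (iv D13251) (iv F52128)
theorem F59449 : act 7 n15070 = n15070 := d19_2 F55982 D15070 (iv D15070)
def n15071 : Q := act 4 n14204
theorem D15071 : act 4 n14204 = n15071 := rfl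
theorem F59450 : act 3 n15071 = n14205 := d21_1 D15071 (iv D14205) (iv D13249) (iv F52129) D14204
theorem F59451 : act 7 n15071 = n15071 := d28_2 F55982 D15071 (iv D15071)
def n15072 : Q := act 5 n14205
theorem D15072 : act 5 n14205 = n15072 := rfl
theorem F59452 : act 1 n15072 = n14207 := d11_1 D15072 (iv F58127) F58125
theorem F59453 : act 2 n15072 = n14266 := d17_1 D15072 F56833 F56829
theorem F59454 : act 7 n15072 = n14208 := d31_2 (iv F55983) D15072 F55990
def n15073 : Q := act 3 n14209
theorem D15073 : act 3 n14209 = n15073 := rfl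
theorem F59455 : act 2 n15073 = n15073 := d15_1 D15073 (iv D15073) F55992 F52150 (iv F55992)
theorem F59456 : act 4 n15073 = n14214 := d21_2 D14209 D15073 (iv D14214) (iv D13259) (iv F52147)
def n15074 : Q := act 5 n14209
theorem D15074 : act 5 n14209 = n15074 := rfl
theorem F59457 : act 1 n15074 = n15001 := d11_1 D15074 F59195 F58291
theorem F59458 : act 2 n15074 = n14211 := d17_1 D15074 (iv D14211) (iv F55992)
theorem F59459 : act 4 n15074 = n15000 := d26_1 D15074 F59193 (iv D14726) F54505 D14209
theorem F59460 : act 7 n15074 = n14771 := d31_2 (iv F55993) D15074 (iv D14771)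
def n15075 : Q := act 8 n14209
theorem D15075 : act 8 n14209 = n15075 := rfl
theorem F59461 : act 2 n15075 = n14212 := d20_1 D15075 (iv D14212) (iv F55992)
theorem F59462 : act 4 n15075 = n14210 := d29_1 D15075 (iv D14210) D14209
def n15076 : Q := act 7 n14210
theorem D15076 : act 7 n14210 = n15076 := rfl
theorem F59463 : act 2 n15076 = n14213 := d19_1 D15076 (iv D14213) (iv F55994)
theorem F59464 : act 8 n15076 = n14773 := d35_2 D14210 D15076 (iv D14773) (iv D13862) (iv F52148)
def n15077 : Q := act 6 n14211
theorem D15077 : act 6 n14211 = n15077 := rfl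
theorem F59465 : act 1 n15077 = n14268 := d12_1 D15077 (iv D14268) (iv F55996)
theorem F59466 : act 3 n15077 = n15077 := d23_1 D15077 (iv D15077) F55997
theorem F59467 : act 4 n15077 = n15016 := d27_1 D15077 F59270 (iv F55998)
theorem F59468 : act 7 n15077 = n14774 := d33_2 (iv F55999) D15077 (iv D14774)
def n15078 : Q := act 8 n14211
theorem D15078 : act 8 n14211 = n15078 := rfl
theorem F59469 : act 1 n15078 = n14269 := d14_1 D15078 (iv D14269) (iv F55996)
theorem F59470 : act 3 n15078 = n15078 := d25_1 D15078 (iv D15078) F55997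
theorem F59471 : act 4 n15078 = n14943 := d29_1 D15078 F58931 (iv F55998)
theorem F59472 : act 5 n15078 = n14212 := d32_1 D15078 (iv D14212) D14211
def n15079 : Q := act 7 n14212
theorem D15079 : act 7 n14212 = n15079 := rfl
theorem F59473 : act 1 n15079 = n14270 := d13_1 D15079 (iv D14270) (iv F56000)
theorem F59474 : act 4 n15079 = n14213 := d28_1 D15079 (iv D14213) (iv F56002)
theorem F59475 : act 8 n15079 = n14776 := d35_2 D14212 D15079 (iv D14776) (iv D13864) (iv F52151)
def n15080 : Q := act 5 n14214
theorem D15080 : act 5 n14214 = n15080 := rfl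
theorem F59476 : act 2 n15080 = n15080 := d17_1 D15080 (iv D15080) F56005
theorem F59477 : act 3 n15080 = n14215 := d22_1 D15080 (iv D14215) D14214
def n15081 : Q := act 7 n14214
theorem D15081 : act 7 n14214 = n15081 := rfl
theorem F59478 : act 2 n15081 = n15081 := d19_1 D15081 (iv D15081) F56005
theorem F59479 : act 3 n15081 = n14221 := d24_1 D15081 (iv D14221) (iv D13264) (iv F52155) D14214
def n15082 : Q := act 8 n14214
theorem D15082 : act 8 n14214 = n15082 := rfl
theorem F59480 : act 2 n15082 = n15082 := d20_1 D15082 (iv D15082) F56005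
theorem F59481 : act 3 n15082 = n14216 := d25_1 D15082 (iv D14216) D14214
def n15083 : Q := act 8 n14215
theorem D15083 : act 8 n14215 = n15083 := rfl
theorem F59482 : act 2 n15083 = n14218 := d20_1 D15083 (iv D14218) (iv F56006)
theorem F59483 : act 5 n15083 = n14216 := d32_1 D15083 (iv D14216) D14215
def n15084 : Q := act 7 n14216
theorem D15084 : act 7 n14216 = n15084 := rfl
theorem F59484 : act 2 n15084 = n14219 := d19_1 D15084 (iv D14219) (iv F56008)
theorem F59485 : act 4 n15084 = n14217 := d28_1 D15084 (iv D14217) (iv F56009)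
theorem F59486 : act 8 n15084 = n14225 := d35_2 D14216 D15084 (iv D14225) (iv D13266) (iv F52155)
def n15085 : Q := act 3 n14217
theorem D15085 : act 3 n14217 = n15085 := rfl
theorem F59487 : act 8 n15085 = n14226 := d25_2 (iv F56011) D15085 (iv D14226)
def n15086 : Q := act 7 n14218
theorem D15086 : act 7 n14218 = n15086 := rfl
theorem F59488 : act 1 n15086 = n14252 := d13_1 D15086 (iv D14252) (iv F56012)
theorem F59489 : act 5 n15086 = n14219 := d31_1 D15086 (iv D14219) (iv F56014)
theorem F59490 : act 8 n15086 = n14228 := d35_2 D14218 D15086 (iv D14228) (iv D13269) (iv F52159)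
def n15087 : Q := act 3 n14219
theorem D15087 : act 3 n14219 = n15087 := rfl
theorem F59491 : act 1 n15087 = n14253 := d9_1 D15087 (iv D14253) (iv F56015)
theorem F59492 : act 7 n15087 = n15087 := d24_2 D14219 D15087 (iv D15087) (iv D14219) F52161
theorem F59493 : act 8 n15087 = n14229 := d25_2 (iv F56017) D15087 (iv D14229)
def n15088 : Q := act 4 n14220
theorem D15088 : act 4 n14220 = n15088 := rfl
theorem F59494 : act 2 n15088 = n14230 := d16_1 D15088 (iv D14230) (iv F56018)
theorem F59495 : act 5 n15088 = n14815 := d26_2 D14220 D15088 (iv D14815) (iv D13893) (iv F52166)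
def n15089 : Q := act 6 n14220
theorem D15089 : act 6 n14220 = n15089 := rfl
theorem F59496 : act 2 n15089 = n14231 := d18_1 D15089 (iv D14231) (iv F56018)
theorem F59497 : act 3 n15089 = n14223 := d23_1 D15089 (iv D14223) (iv F56019)
def n15090 : Q := act 7 n14220
theorem D15090 : act 7 n14220 = n15090 := rfl
theorem F59498 : act 2 n15090 = n14232 := d19_1 D15090 (iv D14232) (iv F56018)
theorem F59499 : act 5 n15090 = n14221 := d31_1 D15090 (iv D14221) D14220
def n15091 : Q := act 8 n14220
theorem D15091 : act 8 n14220 = n15091 := rfl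
theorem F59500 : act 2 n15091 = n14233 := d20_1 D15091 (iv D14233) (iv F56018)
theorem F59501 : act 3 n15091 = n14224 := d25_1 D15091 (iv D14224) (iv F56019)
theorem F59502 : act 5 n15091 = n14222 := d32_1 D15091 (iv D14222) D14220
def n15092 : Q := act 8 n14221
theorem D15092 : act 8 n14221 = n15092 := rfl
theorem F59503 : act 2 n15092 = n14234 := d20_1 D15092 (iv D14234) (iv F56020)
theorem F59504 : act 4 n15092 = n14819 := d29_1 D15092 (iv D14819) (iv F56021)
def n15093 : Q := act 7 n14222
theorem D15093 : act 7 n14222 = n15093 := rfl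
theorem F59505 : act 2 n15093 = n14235 := d19_1 D15093 (iv D14235) (iv F56022)
theorem F59506 : act 4 n15093 = n14820 := d28_1 D15093 (iv D14820) (iv F56024)
def n15094 : Q := act 8 n14223
theorem D15094 : act 8 n14223 = n15094 := rfl
theorem F59507 : act 2 n15094 = n14227 := d20_1 D15094 (iv D14227) (iv F56025)
theorem F59508 : act 6 n15094 = n14224 := d34_1 D15094 (iv D14224) D14223
def n15095 : Q := act 7 n14224
theorem D15095 : act 7 n14224 = n15095 := rfl
theorem F59509 : act 2 n15095 = n14228 := d19_1 D15095 (iv D14228) (iv F56026)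
theorem F59510 : act 5 n15095 = n14225 := d31_1 D15095 (iv D14225) (iv F56027)
def n15096 : Q := act 3 n14225
theorem D15096 : act 3 n14225 = n15096 := rfl
def n15097 : Q := act 4 n14226
theorem D15097 : act 4 n14226 = n15097 := rfl
theorem F59511 : act 7 n15097 = n14824 := d28_2 (iv F56030) D15097 (iv D14824)
def n15098 : Q := act 7 n14227
theorem D15098 : act 7 n14227 = n15098 := rfl
theorem F59512 : act 1 n15098 = n14254 := d13_1 D15098 (iv D14254) (iv F56031)
theorem F59513 : act 6 n15098 = n14228 := d33_1 D15098 (iv D14228) (iv F56033)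
def n15099 : Q := act 3 n14228
theorem D15099 : act 3 n14228 = n15099 := rfl
theorem F59514 : act 1 n15099 = n14255 := d9_1 D15099 (iv D14255) (iv F56034)
theorem F59515 : act 5 n15099 = n14229 := d22_2 (iv F56035) D15099 (iv D14229)
theorem F59516 : act 7 n15099 = n14241 := d24_2 D14228 D15099 (iv D14241) (iv D13279) (iv F52174)
def n15100 : Q := act 2 n14229
theorem D15100 : act 2 n14229 = n15100 := rfl
theorem F59517 : act 7 n15100 = n14242 := d19_2 (iv F56037) D15100 (iv D14242)
def n15101 : Q := act 8 n14230
theorem D15101 : act 8 n14230 = n15101 := rfl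
theorem F59518 : act 1 n15101 = n14271 := d14_1 D15101 (iv D14271) (iv F56038)
theorem F59519 : act 3 n15101 = n14243 := d25_1 D15101 (iv D14243) (iv F56039)
theorem F59520 : act 4 n15101 = n14233 := d29_1 D15101 (iv D14233) D14230
theorem F59521 : act 5 n15101 = n14839 := d32_1 D15101 (iv D14839) (iv F56040)
def n15102 : Q := act 8 n14231
theorem D15102 : act 8 n14231 = n15102 := rfl
theorem F59522 : act 1 n15102 = n14272 := d14_1 D15102 (iv D14272) (iv F56041)
theorem F59523 : act 3 n15102 = n14236 := d25_1 D15102 (iv D14236) (iv F56042)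
theorem F59524 : act 6 n15102 = n14233 := d34_1 D15102 (iv D14233) D14231
def n15103 : Q := act 8 n14232
theorem D15103 : act 8 n14232 = n15103 := rfl
theorem F59525 : act 1 n15103 = n14273 := d14_1 D15103 (iv D14273) (iv F56043)
theorem F59526 : act 3 n15103 = n15103 := d25_1 D15103 (iv D15103) F56044
theorem F59527 : act 5 n15103 = n14234 := d32_1 D15103 (iv D14234) (iv F56045)
def n15104 : Q := act 7 n14233
theorem D15104 : act 7 n14233 = n15104 := rfl
theorem F59528 : act 1 n15104 = n14274 := d13_1 D15104 (iv D14274) (iv F56046)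
theorem F59529 : act 5 n15104 = n14235 := d31_1 D15104 (iv D14235) (iv F56048)
def n15105 : Q := act 7 n14234
theorem D15105 : act 7 n14234 = n15105 := rfl
theorem F59530 : act 1 n15105 = n14275 := d13_1 D15105 (iv D14275) (iv F56049)
theorem F59531 : act 4 n15105 = n14843 := d28_1 D15105 (iv D14843) (iv F56051)
theorem F59532 : act 8 n15105 = n14235 := d35_2 D14234 D15105 (iv D14235) (iv D13273) D13272
def n15106 : Q := act 3 n14235
theorem D15106 : act 3 n14235 = n15106 := rfl
theorem F59533 : act 1 n15106 = n14276 := d9_1 D15106 (iv D14276) (iv F56052)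
theorem F59534 : act 7 n15106 = n14238 := d24_2 D14235 D15106 (iv D14238) (iv D13276) (iv F52184)
def n15107 : Q := act 7 n14236
theorem D15107 : act 7 n14236 = n15107 := rfl
theorem F59535 : act 1 n15107 = n14277 := d13_1 D15107 (iv D14277) (iv F56054)
theorem F59536 : act 2 n15107 = n14240 := d19_1 D15107 (iv D14240) (iv F56055)
theorem F59537 : act 4 n15107 = n14247 := d28_1 D15107 (iv D14247) (iv F56056)
theorem F59538 : act 6 n15107 = n14237 := d33_1 D15107 (iv D14237) (iv F56057)
theorem F59539 : act 8 n15107 = n15107 := d35_2 D14236 D15107 (iv D15107) (iv D14236) F52189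
def n15108 : Q := act 3 n14237
theorem D15108 : act 3 n14237 = n15108 := rfl
theorem F59540 : act 1 n15108 = n14278 := d9_1 D15108 (iv D14278) (iv F56058)
theorem F59541 : act 5 n15108 = n14238 := d22_2 (iv F56061) D15108 (iv D14238)
theorem F59542 : act 8 n15108 = n15108 := d25_2 F56062 D15108 (iv D15108)
def n15109 : Q := act 2 n14238
theorem D15109 : act 2 n14238 = n15109 := rfl
theorem F59543 : act 3 n15109 = n14242 := d15_2 D14238 D15109 (iv D14242) (iv D13280) (iv F52195)
theorem F59544 : act 8 n15109 = n15109 := d20_2 F56064 D15109 (iv D15109)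
def n15110 : Q := act 4 n14238
theorem D15110 : act 4 n14238 = n15110 := rfl
theorem F59545 : act 1 n15110 = n14280 := d10_1 D15110 (iv D14280) (iv F56063)
theorem F59546 : act 3 n15110 = n14239 := d21_1 D15110 (iv D14239) (iv D13277) (iv F52196) D14238
theorem F59547 : act 8 n15110 = n15110 := d29_2 F56064 D15110 (iv D15110)
def n15111 : Q := act 3 n14240
theorem D15111 : act 3 n14240 = n15111 := rfl
theorem F59548 : act 1 n15111 = n14257 := d9_1 D15111 (iv D14257) (iv F56068)
theorem F59549 : act 6 n15111 = n14241 := d23_2 (iv F56070) D15111 (iv D14241)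
theorem F59550 : act 8 n15111 = n15111 := d25_2 F56071 D15111 (iv D15111)
def n15112 : Q := act 2 n14241
theorem D15112 : act 2 n14241 = n15112 := rfl
theorem F59551 : act 5 n15112 = n14242 := d17_2 (iv F56073) D15112 (iv D14242)
theorem F59552 : act 8 n15112 = n15112 := d20_2 F56074 D15112 (iv D15112)
def n15113 : Q := act 4 n14241
theorem D15113 : act 4 n14241 = n15113 := rfl
theorem F59553 : act 1 n15113 = n14259 := d10_1 D15113 (iv D14259) (iv F56072)
theorem F59554 : act 3 n15113 = n14251 := d21_1 D15113 (iv D14251) (iv D13292) (iv F52206) D14241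
theorem F59555 : act 8 n15113 = n15113 := d29_2 F56074 D15113 (iv D15113)
def n15114 : Q := act 1 n14242
theorem D15114 : act 1 n14242 = n15114 := rfl
theorem F59556 : act 2 n15114 = n14260 := d8_2 D14242 D15114 (iv D14260) (iv D13301) (iv F52209)
theorem F59557 : act 8 n15114 = n15114 := d14_2 F56075 D15114 (iv D15114)
def n15115 : Q := act 7 n14243
theorem D15115 : act 7 n14243 = n15115 := rfl
theorem F59558 : act 0 n15115 = n14495 := d6_1 D15115 (iv F59397) F59392
theorem F59559 : act 1 n15115 = n14285 := d13_1 D15115 (iv D14285) (iv F56076)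
theorem F59560 : act 2 n15115 = n14682 := d19_1 D15115 (iv F58250) F58247
theorem F59561 : act 4 n15115 = n14246 := d28_1 D15115 (iv D14246) (iv F56077)
theorem F59562 : act 5 n15115 = n14851 := d31_1 D15115 (iv D14851) (iv F56078)
theorem F59563 : act 8 n15115 = n14343 := d35_2 D14243 D15115 F59021 F59020 (iv F55643)
def n15116 : Q := act 7 n14244
theorem D15116 : act 7 n14244 = n15116 := rfl
theorem F59564 : act 0 n15116 = n14496 := d6_1 D15116 (iv F59404) F59398
theorem F59565 : act 1 n15116 = n14286 := d13_1 D15116 (iv D14286) (iv F56079)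
theorem F59566 : act 2 n15116 = n14683 := d19_1 D15116 (iv F58264) F58260
theorem F59567 : act 5 n15116 = n15116 := d31_1 D15116 (iv D15116) F56081
theorem F59568 : act 6 n15116 = n14246 := d33_1 D15116 (iv D14246) (iv F56082)
theorem F59569 : act 8 n15116 = n14344 := d35_2 D14244 D15116 F59012 F59011 (iv F55638)
theorem F59570 : act 3 n14345 = n15116 := d25_3 F59569 F56489 D14345
def n15117 : Q := act 3 n14247
theorem D15117 : act 3 n14247 = n15117 := rfl
theorem F59571 : act 0 n15117 = n14497 := d2_1 D15117 (iv F59408) F59405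
theorem F59572 : act 1 n15117 = n14289 := d9_1 D15117 (iv D14289) (iv F56095)
theorem F59573 : act 5 n15117 = n15117 := d22_2 F56097 D15117 (iv D15117)
theorem F59574 : act 6 n15117 = n14248 := d23_2 (iv F56098) D15117 (iv D14248)
theorem F59575 : act 7 n15117 = n14345 := d24_2 D14247 D15117 F59570 (iv D15116) F56080
theorem F59576 : act 8 n15117 = n15117 := d25_2 F56099 D15117 (iv D15117)
theorem F59577 : act 2 n14346 = n15117 := d19_3 F59575 F56492 D14346
def n15118 : Q := act 4 n14248
theorem D15118 : act 4 n14248 = n15118 := rfl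
theorem F59578 : act 0 n15118 = n14489 := d3_1 D15118 F57132 (iv F56100)
theorem F59579 : act 1 n15118 = n14291 := d10_1 D15118 (iv D14291) (iv F56101)
theorem F59580 : act 2 n15118 = n14341 := d16_1 D15118 F56477 F56105
theorem F59581 : act 5 n15118 = n14339 := d26_2 (iv F56102) D15118 F56467 F52743 F52250
theorem F59582 : act 7 n15118 = n14338 := d28_2 (iv F56103) D15118 F56463
theorem F59583 : act 8 n15118 = n15118 := d29_2 F56104 D15118 (iv D15118)
def n15119 : Q := act 2 n14249
theorem D15119 : act 2 n14249 = n15119 := rfl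
theorem F59584 : act 0 n15119 = n14299 := d1_1 D15119 (iv F57563) F57561
theorem F59585 : act 1 n15119 = n14300 := d8_1 D15119 F56304 (iv F53889) F53890 (iv F56106)
theorem F59586 : act 3 n15119 = n14346 := d15_2 D14249 D15119 F59577 (iv D15117) F56096
theorem F59587 : act 4 n15119 = n14386 := d16_2 F57679 D15119 (iv F57678)
theorem F59588 : act 5 n15119 = n15119 := d17_2 F56107 D15119 (iv D15119)
theorem F59589 : act 6 n15119 = n14250 := d18_2 (iv F56108) D15119 (iv D14250)
theorem F59590 : act 7 n15119 = n14298 := d19_2 (iv F57560) D15119 (iv F57555)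
theorem F59591 : act 8 n15119 = n15119 := d20_2 F56109 D15119 (iv D15119)
def n15120 : Q := act 4 n14250
theorem D15120 : act 4 n14250 = n15120 := rfl
theorem F59592 : act 0 n15120 = n14384 := d3_1 D15120 F56689 (iv F56110)
theorem F59593 : act 1 n15120 = n14381 := d10_1 D15120 (iv D14381) F56115
theorem F59594 : act 2 n15120 = n14251 := d16_1 D15120 (iv D14251) D14250
theorem F59595 : act 5 n15120 = n14601 := d26_2 (iv F56112) D15120 F57668 F55937 (iv F52267)
theorem F59596 : act 6 n15120 = n14386 := d27_2 F59589 D15120 (iv F59587)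
theorem F59597 : act 7 n15120 = n14383 := d28_2 (iv F56113) D15120 F56685
theorem F59598 : act 8 n15120 = n15120 := d29_2 F56114 D15120 (iv D15120)
def n15121 : Q := act 3 n14252
theorem D15121 : act 3 n14252 = n15121 := rfl
theorem F59599 : act 0 n15121 = n14262 := d2_1 D15121 (iv D14262) (iv F56118)
theorem F59600 : act 5 n15121 = n14253 := d22_2 (iv F56119) D15121 (iv D14253)
theorem F59601 : act 7 n15121 = n15121 := d24_2 D14252 D15121 (iv D15121) (iv D14252) F52273
theorem F59602 : act 8 n15121 = n14255 := d25_2 (iv F56120) D15121 (iv D14255)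
def n15122 : Q := act 3 n14254
theorem D15122 : act 3 n14254 = n15122 := rfl
theorem F59603 : act 0 n15122 = n14263 := d2_1 D15122 (iv D14263) (iv F56124)
theorem F59604 : act 6 n15122 = n14255 := d23_2 (iv F56125) D15122 (iv D14255)
theorem F59605 : act 7 n15122 = n14257 := d24_2 D14254 D15122 (iv D14257) (iv D13299) (iv F52279)
def n15123 : Q := act 2 n14255
theorem D15123 : act 2 n14255 = n15123 := rfl
theorem F59606 : act 0 n15123 = n14264 := d1_1 D15123 (iv D14264) (iv F56126)
theorem F59607 : act 5 n15123 = n14256 := d17_2 (iv F56127) D15123 (iv D14256)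
theorem F59608 : act 7 n15123 = n14258 := d19_2 (iv F56128) D15123 (iv D14258)
def n15124 : Q := act 4 n14255
theorem D15124 : act 4 n14255 = n15124 := rfl
theorem F59609 : act 0 n15124 = n14265 := d3_1 D15124 (iv D14265) (iv F56126)
theorem F59610 : act 7 n15124 = n14259 := d28_2 (iv F56128) D15124 (iv D14259)
def n15125 : Q := act 1 n14256
theorem D15125 : act 1 n14256 = n15125 := rfl
theorem F59611 : act 7 n15125 = n14260 := d13_2 (iv F56130) D15125 (iv D14260)
def n15126 : Q := act 1 n14258
theorem D15126 : act 1 n14258 = n15126 := rfl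
theorem F59612 : act 3 n15126 = n14292 := d9_2 (iv F56135) D15126 (iv D14292)
theorem F59613 : act 5 n15126 = n14260 := d11_2 (iv F56136) D15126 (iv D14260)
theorem F59614 : act 8 n15126 = n15126 := d14_2 F56137 D15126 (iv D15126)
def n15127 : Q := act 0 n14260
theorem D15127 : act 0 n14260 = n15127 := rfl
theorem F59615 : act 1 n15127 = n14267 := d0_2 D14260 D15127 (iv D14267) (iv D13314) (iv F52293)
theorem F59616 : act 3 n15127 = n14293 := d2_2 (iv F56141) D15127 (iv D14293)
theorem F59617 : act 8 n15127 = n15127 := d7_2 F56142 D15127 (iv D15127)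
def n15128 : Q := act 0 n14266
theorem D15128 : act 0 n14266 = n15128 := rfl
theorem F59618 : act 7 n15128 = n14267 := d6_2 (iv F56159) D15128 (iv D14267)
def n15129 : Q := act 8 n14268
theorem D15129 : act 8 n14268 = n15129 := rfl
theorem F59619 : act 0 n15129 = n15129 := d7_1 D15129 (iv D15129) F56162
theorem F59620 : act 2 n15129 = n14932 := d20_1 D15129 F58889 (iv F56163)
theorem F59621 : act 3 n15129 = n15129 := d25_1 D15129 (iv D15129) F56164
theorem F59622 : act 4 n15129 = n14931 := d29_1 D15129 F58885 (iv F56165)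
theorem F59623 : act 6 n15129 = n14269 := d34_1 D15129 (iv D14269) D14268
def n15130 : Q := act 7 n14269
theorem D15130 : act 7 n14269 = n15130 := rfl
theorem F59624 : act 0 n15130 = n15130 := d6_1 D15130 (iv D15130) F56167
theorem F59625 : act 2 n15130 = n14941 := d19_1 D15130 F58923 (iv F56168)
theorem F59626 : act 4 n15130 = n14940 := d28_1 D15130 F58920 (iv F56170)
theorem F59627 : act 5 n15130 = n14270 := d31_1 D15130 (iv D14270) (iv F56171)
theorem F59628 : act 8 n15130 = n14893 := d35_2 D14269 D15130 (iv D14893) (iv D13985) (iv F52342)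
def n15131 : Q := act 3 n14270
theorem D15131 : act 3 n14270 = n15131 := rfl
theorem F59629 : act 0 n15131 = n15131 := d2_1 D15131 (iv D15131) F56172
theorem F59630 : act 7 n15131 = n15131 := d24_2 D14270 D15131 (iv D15131) (iv D14270) F52344
theorem F59631 : act 8 n15131 = n14894 := d25_2 (iv F56174) D15131 (iv D14894)
def n15132 : Q := act 7 n14271
theorem D15132 : act 7 n14271 = n15132 := rfl
theorem F59632 : act 0 n15132 = n15132 := d6_1 D15132 (iv D15132) F56175
theorem F59633 : act 4 n15132 = n14274 := d28_1 D15132 (iv D14274) (iv F56177)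
theorem F59634 : act 5 n15132 = n14935 := d31_1 D15132 (iv D14935) (iv F56178)
def n15133 : Q := act 7 n14272
theorem D15133 : act 7 n14272 = n15133 := rfl
theorem F59635 : act 0 n15133 = n15133 := d6_1 D15133 (iv D15133) F56179
theorem F59636 : act 6 n15133 = n14274 := d33_1 D15133 (iv D14274) (iv F56181)
def n15134 : Q := act 7 n14273
theorem D15134 : act 7 n14273 = n15134 := rfl
theorem F59637 : act 0 n15134 = n15134 := d6_1 D15134 (iv D15134) F56182
theorem F59638 : act 5 n15134 = n14275 := d31_1 D15134 (iv D14275) (iv F56184)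
theorem F59639 : act 8 n15134 = n14274 := d35_2 D14273 D15134 (iv D14274) (iv D13322) D13321
def n15135 : Q := act 3 n14274
theorem D15135 : act 3 n14274 = n15135 := rfl
theorem F59640 : act 0 n15135 = n15135 := d2_1 D15135 (iv D15135) F56185
theorem F59641 : act 5 n15135 = n14276 := d22_2 (iv F56186) D15135 (iv D14276)
theorem F59642 : act 7 n15135 = n14278 := d24_2 D14274 D15135 (iv D14278) (iv D13326) (iv F52357)
def n15136 : Q := act 3 n14275
theorem D15136 : act 3 n14275 = n15136 := rfl
theorem F59643 : act 0 n15136 = n15136 := d2_1 D15136 (iv D15136) F56187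
theorem F59644 : act 7 n15136 = n15136 := d24_2 D14275 D15136 (iv D15136) (iv D14275) F52360
theorem F59645 : act 8 n15136 = n14276 := d25_2 (iv F56189) D15136 (iv D14276)
def n15137 : Q := act 2 n14276
theorem D15137 : act 2 n14276 = n15137 := rfl
theorem F59646 : act 0 n15137 = n15137 := d1_1 D15137 (iv D15137) F56190
theorem F59647 : act 7 n15137 = n14279 := d19_2 (iv F56191) D15137 (iv D14279)
def n15138 : Q := act 4 n14276
theorem D15138 : act 4 n14276 = n15138 := rfl
theorem F59648 : act 0 n15138 = n15138 := d3_1 D15138 (iv D15138) F56190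
theorem F59649 : act 3 n15138 = n14941 := d21_1 D15138 (iv D14941) (iv D14030) (iv F52363) D14276
theorem F59650 : act 7 n15138 = n14280 := d28_2 (iv F56191) D15138 (iv D14280)
def n15139 : Q := act 3 n14277
theorem D15139 : act 3 n14277 = n15139 := rfl
theorem F59651 : act 0 n15139 = n15139 := d2_1 D15139 (iv D15139) F56192
theorem F59652 : act 6 n15139 = n14278 := d23_2 (iv F56195) D15139 (iv D14278)
theorem F59653 : act 8 n15139 = n15139 := d25_2 F56196 D15139 (iv D15139)
def n15140 : Q := act 2 n14278
theorem D15140 : act 2 n14278 = n15140 := rfl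
theorem F59654 : act 0 n15140 = n15140 := d1_1 D15140 (iv D15140) F56197
theorem F59655 : act 3 n15140 = n14282 := d15_2 D14278 D15140 (iv D14282) (iv D13330) (iv F52369)
theorem F59656 : act 5 n15140 = n14279 := d17_2 (iv F56198) D15140 (iv D14279)
theorem F59657 : act 8 n15140 = n15140 := d20_2 F56199 D15140 (iv D15140)
theorem F59658 : act 4 n15139 = n15140 := d21_0 F59655 F56246 (iv D14289) (iv F56194) D15139
def n15141 : Q := act 4 n14278
theorem D15141 : act 4 n14278 = n15141 := rfl
theorem F59659 : act 0 n15141 = n15141 := d3_1 D15141 (iv D15141) F56197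
theorem F59660 : act 2 n15141 = n15139 := d16_1 D15141 F59658 (iv D15140)
theorem F59661 : act 3 n15141 = n14291 := d21_1 D15141 (iv D14291) (iv D13339) (iv F52370) D14278
theorem F59662 : act 6 n15141 = n15140 := d27_2 F59652 D15141 (iv F59658)
theorem F59663 : act 8 n15141 = n15141 := d29_2 F56199 D15141 (iv D15141)
def n15142 : Q := act 1 n14279
theorem D15142 : act 1 n14279 = n15142 := rfl
theorem F59664 : act 3 n15142 = n14284 := d9_2 (iv F56201) D15142 (iv D14284)
theorem F59665 : act 8 n15142 = n15142 := d14_2 F56202 D15142 (iv D15142)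
def n15143 : Q := act 4 n14279
theorem D15143 : act 4 n14279 = n15143 := rfl
theorem F59666 : act 0 n15143 = n15143 := d3_1 D15143 (iv D15143) F56200
theorem F59667 : act 2 n15143 = n14280 := d16_1 D15143 (iv D14280) D14279
theorem F59668 : act 3 n15143 = n15143 := d21_1 D15143 (iv D15143) F56201 F52389 (iv F56201)
theorem F59669 : act 8 n15143 = n15143 := d29_2 F56202 D15143 (iv D15143)
def n15144 : Q := act 1 n14282
theorem D15144 : act 1 n14282 = n15144 := rfl
theorem F59670 : act 2 n15144 = n14292 := d8_2 D14282 D15144 (iv D14292) (iv D13347) (iv F52385)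
theorem F59671 : act 4 n15144 = n15117 := d10_2 (iv F56246) D15144 F59572
theorem F59672 : act 5 n15144 = n14284 := d11_2 (iv F56211) D15144 (iv D14284)
theorem F59673 : act 6 n15144 = n15118 := d12_2 F56257 D15144 F59579
theorem F59674 : act 8 n15144 = n15144 := d14_2 F56212 D15144 (iv D15144)
def n15145 : Q := act 0 n14284
theorem D15145 : act 0 n14284 = n15145 := rfl
theorem F59675 : act 1 n15145 = n15145 := d0_2 D14284 D15145 (iv D15145) (iv D14284) F52388
theorem F59676 : act 2 n15145 = n14293 := d1_2 (iv F56218) D15145 (iv D14293)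
theorem F59677 : act 4 n15145 = n15145 := d3_2 F56219 D15145 (iv D15145)
theorem F59678 : act 8 n15145 = n15145 := d7_2 F56220 D15145 (iv D15145)
def n15146 : Q := act 3 n14285
theorem D15146 : act 3 n14285 = n15146 := rfl
theorem F59679 : act 0 n15146 = n15146 := d2_1 D15146 (iv D15146) F56221
theorem F59680 : act 5 n15146 = n14944 := d22_2 (iv F56224) D15146 (iv D14944)
def n15147 : Q := act 3 n14286
theorem D15147 : act 3 n14286 = n15147 := rfl
theorem F59681 : act 0 n15147 = n15147 := d2_1 D15147 (iv D15147) F56225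
theorem F59682 : act 1 n15147 = n14345 := d9_1 D15147 F59570 F59565
theorem F59683 : act 5 n15147 = n15147 := d22_2 F56227 D15147 (iv D15147)
theorem F59684 : act 6 n15147 = n14288 := d23_2 (iv F56228) D15147 (iv D14288)
theorem F59685 : act 7 n15147 = n14289 := d24_2 D14286 D15147 (iv D14289) (iv D13338) (iv F52397)
theorem F59686 : act 8 n15147 = n14296 := d25_2 F59232 D15147 F59233
theorem F59687 : act 2 n14297 = n15147 := d36_7 D8866 D10551 D12030 (iv F51386) (iv F52581) F52580 (iv F56285) (iv D15147) (iv F59232) (iv D15008) F55741 F55743 F55742 F51848 (iv F51471) F51472 F47390 D12071 D13099 (iv F54674) (iv D13868) (iv D12882) (iv D11859) F40636 F32771 (iv F38234) D7844 (iv F31777) (iv F39727) F39728 F33349 F33348 (iv F33312) (iv F40934) (iv F47001) (iv D11970) (iv F43930) (iv D11325) (iv F40887) F40886 D11087 (iv F47524) F47525 (iv D11425) D11426 F44344 (iv F47198) F47199 (iv F51335) (iv F54920) F54919 (iv F54468) F54469 (iv D13805) (iv F53498) F53495 F49410 F45408 F39487 (iv F40690) (iv F46726) (iv F50829) D13926 D14852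 (iv F58564) F57551 F57550 (iv F57505) F57504 F53755 F49659 (iv D11606) (iv D10142) (iv F32967) F32969 F29913 F29912 (iv F32722) (iv D8588) (iv D6264) (iv F24004) D8529 D10353 F40456 D11288 F43828 F38798 F29781 F38558
theorem F59688 : act 4 n15147 = n14933 := d16_2 (iv F56287) F59687 (iv D14933)
def n15148 : Q := act 1 n14301
theorem D15148 : act 1 n14301 = n15148 := rfl
theorem F59689 : act 2 n15148 = n15148 := d8_2 D14301 D15148 (iv D15148) (iv D14301) F52649
theorem F59690 : act 3 n15148 = n14309 := d9_2 (iv F56311) D15148 (iv D14309)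
theorem F59691 : act 5 n15148 = n14615 := d11_2 (iv F56312) D15148 (iv D14615)
def n15149 : Q := act 4 n14301
theorem D15149 : act 4 n14301 = n15149 := rfl
theorem F59692 : act 0 n15149 = n14421 := d3_1 D15149 (iv D14421) (iv F56310)
theorem F59693 : act 2 n15149 = n14302 := d16_1 D15149 (iv D14302) D14301
theorem F59694 : act 6 n15149 = n14465 := d27_2 F58192 D15149 (iv F58191)
theorem F59695 : act 7 n15149 = n14451 := d28_2 F57574 D15149 (iv F57571)
def n15150 : Q := act 8 n14301
theorem D15150 : act 8 n14301 = n15150 := rfl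
theorem F59696 : act 0 n15150 = n14422 := d7_1 D15150 (iv D14422) (iv F56310)
theorem F59697 : act 2 n15150 = n14303 := d20_1 D15150 (iv D14303) D14301
theorem F59698 : act 3 n15150 = n14311 := d25_1 D15150 (iv D14311) (iv F56311)
theorem F59699 : act 5 n15150 = n14617 := d32_1 D15150 (iv D14617) (iv F56312)
def n15151 : Q := act 5 n14302
theorem D15151 : act 5 n14302 = n15151 := rfl
theorem F59700 : act 0 n15151 = n14423 := d4_1 D15151 (iv D14423) (iv F56313)
theorem F59701 : act 1 n15151 = n15151 := d11_1 D15151 (iv D15151) F56314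
theorem F59702 : act 3 n15151 = n15151 := d22_1 D15151 (iv D15151) F56315
theorem F59703 : act 4 n15151 = n14618 := d26_1 D15151 (iv D14618) (iv D13702) (iv F52650) D14302
theorem F59704 : act 7 n15151 = n14474 := d31_2 (iv F56317) D15151 (iv D14474)
def n15152 : Q := act 8 n14302
theorem D15152 : act 8 n14302 = n15152 := rfl
theorem F59705 : act 0 n15152 = n14424 := d7_1 D15152 (iv D14424) (iv F56313)
theorem F59706 : act 1 n15152 = n15152 := d14_1 D15152 (iv D15152) F56314
theorem F59707 : act 3 n15152 = n15152 := d25_1 D15152 (iv D15152) F56315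
theorem F59708 : act 4 n15152 = n14303 := d29_1 D15152 (iv D14303) D14302
theorem F59709 : act 6 n15152 = n14486 := d34_1 D15152 (iv D14486) (iv F56316)
def n15153 : Q := act 7 n14303
theorem D15153 : act 7 n14303 = n15153 := rfl
theorem F59710 : act 0 n15153 = n14425 := d6_1 D15153 (iv D14425) (iv F56318)
theorem F59711 : act 1 n15153 = n15153 := d13_1 D15153 (iv D15153) F56319
theorem F59712 : act 3 n15153 = n15022 := d24_1 D15153 (iv D15022) F55817 (iv F52656) (iv F56320)
theorem F59713 : act 5 n15153 = n14620 := d31_1 D15153 (iv D14620) (iv F56321)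
def n15154 : Q := act 2 n14304
theorem D15154 : act 2 n14304 = n15154 := rfl
theorem F59714 : act 0 n15154 = n14427 := d1_1 D15154 (iv D14427) (iv F56322)
theorem F59715 : act 1 n15154 = n14635 := d8_1 D15154 F57803 F54125 F52782 (iv F56323)
theorem F59716 : act 4 n15154 = n14588 := d16_2 (iv F56324) D15154 F57610
theorem F59717 : act 5 n15154 = n14306 := d17_2 (iv F56325) D15154 (iv D14306)
theorem F59718 : act 6 n15154 = n14621 := d18_2 (iv F56326) D15154 (iv D14621)
theorem F59719 : act 7 n15154 = n14315 := d19_2 (iv F56327) D15154 (iv D14315)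
def n15155 : Q := act 8 n14304
theorem D15155 : act 8 n14304 = n15155 := rfl
theorem F59720 : act 0 n15155 = n14428 := d7_1 D15155 (iv D14428) (iv F56322)
theorem F59721 : act 1 n15155 = n14347 := d14_1 D15155 (iv D14347) (iv F56323)
theorem F59722 : act 3 n15155 = n14305 := d25_1 D15155 (iv D14305) D14304
theorem F59723 : act 4 n15155 = n14598 := d29_1 D15155 (iv D14598) (iv F56324)
theorem F59724 : act 5 n15155 = n14308 := d32_1 D15155 (iv D14308) (iv F56325)
theorem F59725 : act 6 n15155 = n14622 := d34_1 D15155 (iv D14622) (iv F56326)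
def n15156 : Q := act 1 n14306
theorem D15156 : act 1 n14306 = n15156 := rfl
theorem F59726 : act 0 n15156 = n14734 := d0_1 D15156 F58177 F56919 (iv D14429) (iv F56334)
theorem F59727 : act 2 n15156 = n14348 := d8_2 D14306 D15156 (iv D14348) (iv D13413) (iv F52663)
theorem F59728 : act 5 n15156 = n14635 := d11_2 F59717 D15156 (iv F59715)
theorem F59729 : act 6 n15156 = n14309 := d12_2 (iv F56335) D15156 (iv D14309)
theorem F59730 : act 7 n15156 = n14318 := d13_2 (iv F56336) D15156 (iv D14318)
theorem F59731 : act 4 n14642 = n15156 := d28_3 F59730 (iv F56387) (iv F57829)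
def n15157 : Q := act 4 n14306
theorem D15157 : act 4 n14306 = n15157 := rfl
theorem F59732 : act 0 n15157 = n14430 := d3_1 D15157 (iv D14430) (iv F56334)
theorem F59733 : act 1 n15157 = n14642 := d10_1 D15157 F59731 (iv D15156)
theorem F59734 : act 2 n15157 = n14307 := d16_1 D15157 (iv D14307) D14306
theorem F59735 : act 5 n15157 = n14639 := d26_2 F59717 D15157 (iv D14639) (iv F57612) (iv F59716)
theorem F59736 : act 6 n15157 = n14310 := d27_2 (iv F56335) D15157 (iv D14310)
theorem F59737 : act 7 n15157 = n14319 := d28_2 (iv F56336) D15157 (iv D14319)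
def n15158 : Q := act 8 n14306
theorem D15158 : act 8 n14306 = n15158 := rfl
theorem F59738 : act 0 n15158 = n14431 := d7_1 D15158 (iv D14431) (iv F56334)
theorem F59739 : act 2 n15158 = n14308 := d20_1 D15158 (iv D14308) D14306
theorem F59740 : act 6 n15158 = n14311 := d34_1 D15158 (iv D14311) (iv F56335)
def n15159 : Q := act 8 n14307
theorem D15159 : act 8 n14307 = n15159 := rfl
theorem F59741 : act 0 n15159 = n14432 := d7_1 D15159 (iv D14432) (iv F56337)
theorem F59742 : act 1 n15159 = n14350 := d14_1 D15159 (iv D14350) (iv F56338)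
theorem F59743 : act 3 n15159 = n15159 := d25_1 D15159 (iv D15159) F56339
theorem F59744 : act 4 n15159 = n14308 := d29_1 D15159 (iv D14308) D14307
theorem F59745 : act 5 n15159 = n14695 := d32_1 D15159 (iv D14695) (iv F56340)
theorem F59746 : act 6 n15159 = n14313 := d34_1 D15159 (iv D14313) (iv F56341)
def n15160 : Q := act 7 n14308
theorem D15160 : act 7 n14308 = n15160 := rfl
theorem F59747 : act 0 n15160 = n14433 := d6_1 D15160 (iv D14433) (iv F56343)
theorem F59748 : act 1 n15160 = n14351 := d13_1 D15160 (iv D14351) (iv F56344)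
theorem F59749 : act 3 n15160 = n14855 := d24_1 D15160 (iv D14855) F54880 (iv F52670) (iv F56345)
theorem F59750 : act 6 n15160 = n14314 := d33_1 D15160 (iv D14314) (iv F56346)
theorem F59751 : act 8 n15160 = n14322 := d35_2 D14308 D15160 (iv D14322) (iv D13390) (iv F52665)
def n15161 : Q := act 0 n14309
theorem D15161 : act 0 n14309 = n15161 := rfl
theorem F59752 : act 1 n15161 = n14434 := d0_2 D14309 D15161 (iv D14434) (iv D13504) (iv F52671)
theorem F59753 : act 2 n15161 = n14352 := d1_2 (iv F56347) D15161 (iv D14352)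
theorem F59754 : act 5 n15161 = n14626 := d4_2 (iv F56348) D15161 (iv D14626)
theorem F59755 : act 6 n15161 = n14734 := d5_2 F59729 D15161 (iv F59726)
theorem F59756 : act 7 n15161 = n14323 := d6_2 (iv F56349) D15161 (iv D14323)
theorem F59757 : act 4 n14798 = n15161 := d27_3 F59755 F58179 D14798
def n15162 : Q := act 4 n14309
theorem D15162 : act 4 n14309 = n15162 := rfl
theorem F59758 : act 0 n15162 = n14798 := d3_1 D15162 F59757 (iv D15161)
theorem F59759 : act 1 n15162 = n14310 := d10_1 D15162 (iv D14310) D14309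
theorem F59760 : act 2 n15162 = n14353 := d16_1 D15162 (iv D14353) (iv F56347)
theorem F59761 : act 6 n15162 = n14642 := d27_2 F59729 D15162 F59731
theorem F59762 : act 7 n15162 = n14324 := d28_2 (iv F56349) D15162 (iv D14324)
theorem F59763 : act 5 n14656 = n15162 := d30_5 F59761 (iv D14642) F54136 D13727 D14656
def n15163 : Q := act 8 n14309
theorem D15163 : act 8 n14309 = n15163 := rfl
theorem F59764 : act 1 n15163 = n14311 := d14_1 D15163 (iv D14311) D14309
theorem F59765 : act 2 n15163 = n14354 := d20_1 D15163 (iv D14354) (iv F56347)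
theorem F59766 : act 5 n15163 = n14628 := d32_1 D15163 (iv D14628) (iv F56348)
def n15164 : Q := act 3 n14310
theorem D15164 : act 3 n14310 = n15164 := rfl
theorem F59767 : act 0 n15164 = n14437 := d2_1 D15164 (iv D14437) (iv F56350)
theorem F59768 : act 2 n15164 = n15164 := d15_1 D15164 (iv D15164) F56351 F52676 (iv F56351)
def n15165 : Q := act 5 n14310
theorem D15165 : act 5 n14310 = n15165 := rfl
theorem F59769 : act 0 n15165 = n14438 := d4_1 D15165 (iv D14438) (iv F56350)
theorem F59770 : act 1 n15165 = n14656 := d11_1 D15165 F59763 F59759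
theorem F59771 : act 2 n15165 = n14312 := d17_1 D15165 (iv D14312) (iv F56351)
theorem F59772 : act 4 n15165 = n14630 := d26_1 D15165 (iv D14630) (iv D13709) (iv F52672) D14310
theorem F59773 : act 6 n15165 = n14650 := d30_2 F59736 D15165 (iv D14650) (iv F57818) (iv F59735)
theorem F59774 : act 7 n15165 = n14327 := d31_2 (iv F56352) D15165 (iv D14327)
def n15166 : Q := act 8 n14310
theorem D15166 : act 8 n14310 = n15166 := rfl
theorem F59775 : act 0 n15166 = n14439 := d7_1 D15166 (iv D14439) (iv F56350)
theorem F59776 : act 2 n15166 = n14313 := d20_1 D15166 (iv D14313) (iv F56351)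
theorem F59777 : act 4 n15166 = n14311 := d29_1 D15166 (iv D14311) D14310
def n15167 : Q := act 7 n14311
theorem D15167 : act 7 n14311 = n15167 := rfl
theorem F59778 : act 0 n15167 = n14440 := d6_1 D15167 (iv D14440) (iv F56353)
theorem F59779 : act 2 n15167 = n14314 := d19_1 D15167 (iv D14314) (iv F56354)
theorem F59780 : act 5 n15167 = n14632 := d31_1 D15167 (iv D14632) (iv F56355)
theorem F59781 : act 8 n15167 = n14329 := d35_2 D14311 D15167 (iv D14329) (iv D13393) (iv F52673)
def n15168 : Q := act 8 n14312
theorem D15168 : act 8 n14312 = n15168 := rfl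
theorem F59782 : act 0 n15168 = n14442 := d7_1 D15168 (iv D14442) (iv F56356)
theorem F59783 : act 1 n15168 = n14357 := d14_1 D15168 (iv D14357) (iv F56357)
theorem F59784 : act 3 n15168 = n15168 := d25_1 D15168 (iv D15168) F56358
theorem F59785 : act 4 n15168 = n14633 := d29_1 D15168 (iv D14633) (iv F56359)
theorem F59786 : act 5 n15168 = n14313 := d32_1 D15168 (iv D14313) D14312
theorem F59787 : act 6 n15168 = n14702 := d34_1 D15168 (iv D14702) (iv F56360)
def n15169 : Q := act 7 n14313
theorem D15169 : act 7 n14313 = n15169 := rfl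
theorem F59788 : act 0 n15169 = n14443 := d6_1 D15169 (iv D14443) (iv F56362)
theorem F59789 : act 1 n15169 = n14358 := d13_1 D15169 (iv D14358) (iv F56363)
theorem F59790 : act 4 n15169 = n14314 := d28_1 D15169 (iv D14314) (iv F56365)
theorem F59791 : act 8 n15169 = n14332 := d35_2 D14313 D15169 (iv D14332) (iv D13395) (iv F52677)
def n15170 : Q := act 1 n14315
theorem D15170 : act 1 n14315 = n15170 := rfl
theorem F59792 : act 0 n15170 = n14585 := d0_1 D15170 (iv D14585) F53920 (iv F53232) (iv F56371)
theorem F59793 : act 2 n15170 = n14359 := d8_2 D14315 D15170 (iv D14359) (iv D13422) (iv F52683)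
theorem F59794 : act 5 n15170 = n14318 := d11_2 (iv F56372) D15170 (iv D14318)
theorem F59795 : act 6 n15170 = n14588 := d12_2 (iv F56373) D15170 F57609
theorem F59796 : act 7 n15170 = n14635 := d13_2 F59719 D15170 (iv F59715)
theorem F59797 : act 4 n14621 = n15170 := d28_3 F59796 (iv D14635) (iv F57749)
def n15171 : Q := act 4 n14315
theorem D15171 : act 4 n14315 = n15171 := rfl
theorem F59798 : act 0 n15171 = n14444 := d3_1 D15171 (iv D14444) (iv F56371)
theorem F59799 : act 1 n15171 = n14621 := d10_1 D15171 F59797 (iv D15170)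
theorem F59800 : act 2 n15171 = n14316 := d16_1 D15171 (iv D14316) D14315
theorem F59801 : act 5 n15171 = n14623 := d26_2 (iv F56372) D15171 F57756 F56392 (iv D14319)
theorem F59802 : act 6 n15171 = n14635 := d27_2 (iv F56373) D15171 (iv D14635)
theorem F59803 : act 7 n15171 = n14588 := d28_2 F59719 D15171 (iv F59716)
def n15172 : Q := act 8 n14315
theorem D15172 : act 8 n14315 = n15172 := rfl
theorem F59804 : act 0 n15172 = n14445 := d7_1 D15172 (iv D14445) (iv F56371)
theorem F59805 : act 2 n15172 = n14317 := d20_1 D15172 (iv D14317) D14315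
theorem F59806 : act 5 n15172 = n14320 := d32_1 D15172 (iv D14320) (iv F56372)
theorem F59807 : act 6 n15172 = n14636 := d34_1 D15172 (iv D14636) (iv F56373)
def n15173 : Q := act 8 n14316
theorem D15173 : act 8 n14316 = n15173 := rfl
theorem F59808 : act 0 n15173 = n14446 := d7_1 D15173 (iv D14446) (iv F56374)
theorem F59809 : act 1 n15173 = n14361 := d14_1 D15173 (iv D14361) (iv F56375)
theorem F59810 : act 3 n15173 = n15173 := d25_1 D15173 (iv D15173) F56376
theorem F59811 : act 4 n15173 = n14317 := d29_1 D15173 (iv D14317) D14316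
theorem F59812 : act 5 n15173 = n14686 := d32_1 D15173 (iv D14686) (iv F56377)
theorem F59813 : act 6 n15173 = n14637 := d34_1 D15173 (iv D14637) (iv F56378)
def n15174 : Q := act 7 n14317
theorem D15174 : act 7 n14317 = n15174 := rfl
theorem F59814 : act 0 n15174 = n14447 := d6_1 D15174 (iv D14447) (iv F56380)
theorem F59815 : act 1 n15174 = n14362 := d13_1 D15174 (iv D14362) (iv F56381)
theorem F59816 : act 3 n15174 = n14521 := d24_1 D15174 (iv D14521) F53514 (iv F52691) (iv F56382)
theorem F59817 : act 5 n15174 = n14322 := d31_1 D15174 (iv D14322) (iv F56383)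
theorem F59818 : act 6 n15174 = n14638 := d33_1 D15174 (iv D14638) (iv F56384)
def n15175 : Q := act 0 n14318
theorem D15175 : act 0 n14318 = n15175 := rfl
theorem F59819 : act 1 n15175 = n14448 := d0_2 D14318 D15175 (iv D14448) (iv D13513) (iv F52692)
theorem F59820 : act 2 n15175 = n14363 := d1_2 (iv F56385) D15175 (iv D14363)
theorem F59821 : act 3 n15175 = n15170 := d2_2 F57594 D15175 F59792
theorem F59822 : act 4 n15175 = n14778 := d3_2 F56387 D15175 F58333
theorem F59823 : act 5 n15175 = n14585 := d4_2 F59794 D15175 (iv F59792)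
theorem F59824 : act 6 n15175 = n14323 := d5_2 (iv F56386) D15175 (iv D14323)
theorem F59825 : act 7 n15175 = n14734 := d6_2 F59730 D15175 (iv F59726)
def n15176 : Q := act 8 n14318
theorem D15176 : act 8 n14318 = n15176 := rfl
theorem F59826 : act 1 n15176 = n14320 := d14_1 D15176 (iv D14320) D14318
theorem F59827 : act 2 n15176 = n14364 := d20_1 D15176 (iv D14364) (iv F56385)
theorem F59828 : act 4 n15176 = n14849 := d29_1 D15176 F58552 F56387
theorem F59829 : act 6 n15176 = n14325 := d34_1 D15176 (iv D14325) (iv F56386)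
def n15177 : Q := act 8 n14319
theorem D15177 : act 8 n14319 = n15177 := rfl
theorem F59830 : act 0 n15177 = n14453 := d7_1 D15177 (iv D14453) (iv F56388)
theorem F59831 : act 1 n15177 = n14849 := d14_1 D15177 F58552 (iv F56389)
theorem F59832 : act 2 n15177 = n14321 := d20_1 D15177 (iv D14321) (iv F56390)
theorem F59833 : act 4 n15177 = n14320 := d29_1 D15177 (iv D14320) D14319
theorem F59834 : act 5 n15177 = n14850 := d32_1 D15177 F58554 F56392
theorem F59835 : act 6 n15177 = n14328 := d34_1 D15177 (iv D14328) (iv F56391)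
def n15178 : Q := act 7 n14320
theorem D15178 : act 7 n14320 = n15178 := rfl
theorem F59836 : act 0 n15178 = n14454 := d6_1 D15178 (iv D14454) (iv F56393)
theorem F59837 : act 2 n15178 = n14322 := d19_1 D15178 (iv D14322) (iv F56394)
theorem F59838 : act 6 n15178 = n14329 := d33_1 D15178 (iv D14329) (iv F56395)
def n15179 : Q := act 7 n14321
theorem D15179 : act 7 n14321 = n15179 := rfl
theorem F59839 : act 0 n15179 = n14457 := d6_1 D15179 (iv D14457) (iv F56396)
theorem F59840 : act 1 n15179 = n14366 := d13_1 D15179 (iv D14366) (iv F56397)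
theorem F59841 : act 4 n15179 = n14322 := d28_1 D15179 (iv D14322) (iv F56399)
theorem F59842 : act 5 n15179 = n14870 := d31_1 D15179 F58632 (iv F56400)
theorem F59843 : act 6 n15179 = n14332 := d33_1 D15179 (iv D14332) (iv F56401)
def n15180 : Q := act 4 n14323
theorem D15180 : act 4 n14323 = n15180 := rfl
theorem F59844 : act 0 n15180 = n14324 := d3_1 D15180 (iv D14324) D14323
theorem F59845 : act 1 n15180 = n14458 := d10_1 D15180 (iv D14458) (iv F56406)
theorem F59846 : act 2 n15180 = n14367 := d16_1 D15180 (iv D14367) (iv F56407)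
theorem F59847 : act 6 n15180 = n14778 := d27_2 F59824 D15180 (iv F59822)
theorem F59848 : act 7 n15180 = n14798 := d28_2 F59756 D15180 F59757
theorem F59849 : act 5 n14789 = n15180 := d37_1 (iv F58369) (iv D15180) (iv F57611) F57610 F53992 (iv D12703) (iv F48974) F48972 F46330 F43026 (iv D9472) F26464 (iv F35787) F35789 (iv F43485) (iv F44634) (iv D11372) F39006 (iv F32027) F32026 (iv D6142) F17593 (iv F23707) F23706 (iv F45082) F19466 (iv F26215) (iv F35487) D11115 F43168 F43167 (iv F44907) (iv F47354) F47353 (iv D10901) (iv F42438) (iv F46117) F46116 F40195 F39750 (iv D8380) (iv F31662) F31661 F24312 (iv F24895) F24894 (iv D6480) (iv F24813) F24816 F24815 D8860 (iv F40735) F40734 (iv F40648) (iv F46142) (iv F50127) D13711 (iv F56359) F56358 (iv F59771) F59770 F57873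
def n15181 : Q := act 8 n14323
theorem D15181 : act 8 n14323 = n15181 := rfl
theorem F59850 : act 0 n15181 = n14325 := d7_1 D15181 (iv D14325) D14323
theorem F59851 : act 1 n15181 = n14459 := d14_1 D15181 (iv D14459) (iv F56406)
theorem F59852 : act 2 n15181 = n14368 := d20_1 D15181 (iv D14368) (iv F56407)
theorem F59853 : act 5 n15181 = n14648 := d32_1 D15181 (iv D14648) (iv F56408)
def n15182 : Q := act 3 n14324
theorem D15182 : act 3 n14324 = n15182 := rfl
theorem F59854 : act 1 n15182 = n14326 := d9_1 D15182 (iv D14326) (iv F56409)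
theorem F59855 : act 2 n15182 = n14998 := d15_1 D15182 (iv D14998) F55672 (iv F52867) (iv F56410)
theorem F59856 : act 6 n15182 = n14999 := d23_2 (iv F56411) D15182 F59188
def n15183 : Q := act 5 n14324
theorem D15183 : act 5 n14324 = n15183 := rfl
theorem F59857 : act 0 n15183 = n14789 := d4_1 D15183 F59849 F59844
theorem F59858 : act 1 n15183 = n14327 := d11_1 D15183 (iv D14327) (iv F56409)
theorem F59859 : act 2 n15183 = n14369 := d17_1 D15183 (iv D14369) (iv F56410)
theorem F59860 : act 4 n15183 = n14650 := d26_1 D15183 (iv D14650) (iv D13724) (iv F52704) D14324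
theorem F59861 : act 6 n15183 = n14630 := d30_2 (iv F56411) D15183 (iv D14630) F54105 (iv F55682)
theorem F59862 : act 7 n15183 = n14656 := d31_2 F59762 D15183 F59763
def n15184 : Q := act 8 n14324
theorem D15184 : act 8 n14324 = n15184 := rfl
theorem F59863 : act 1 n15184 = n14328 := d14_1 D15184 (iv D14328) (iv F56409)
theorem F59864 : act 2 n15184 = n14370 := d20_1 D15184 (iv D14370) (iv F56410)
theorem F59865 : act 4 n15184 = n14325 := d29_1 D15184 (iv D14325) D14324
theorem F59866 : act 6 n15184 = n14849 := d34_1 D15184 F58552 (iv F56411)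
def n15185 : Q := act 7 n14325
theorem D15185 : act 7 n14325 = n15185 := rfl
theorem F59867 : act 1 n15185 = n14329 := d13_1 D15185 (iv D14329) (iv F56412)
theorem F59868 : act 2 n15185 = n14371 := d19_1 D15185 (iv D14371) (iv F56413)
theorem F59869 : act 5 n15185 = n14652 := d31_1 D15185 (iv D14652) (iv F56414)
def n15186 : Q := act 5 n14326
theorem D15186 : act 5 n14326 = n15186 := rfl
theorem F59870 : act 0 n15186 = n14464 := d4_1 D15186 (iv D14464) (iv F56415)
theorem F59871 : act 2 n15186 = n14334 := d17_1 D15186 (iv D14334) (iv F56416)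
theorem F59872 : act 3 n15186 = n14327 := d22_1 D15186 (iv D14327) D14326
def n15187 : Q := act 7 n14326
theorem D15187 : act 7 n14326 = n15187 := rfl
theorem F59873 : act 0 n15187 = n14465 := d6_1 D15187 (iv D14465) (iv F56415)
theorem F59874 : act 2 n15187 = n14335 := d19_1 D15187 (iv D14335) (iv F56416)
theorem F59875 : act 4 n15187 = n14418 := d28_1 D15187 (iv F57621) F57619
theorem F59876 : act 6 n15187 = n14421 := d33_1 D15187 (iv F58153) F58152
def n15188 : Q := act 8 n14326
theorem D15188 : act 8 n14326 = n15188 := rfl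
theorem F59877 : act 0 n15188 = n14466 := d7_1 D15188 (iv D14466) (iv F56415)
theorem F59878 : act 2 n15188 = n14336 := d20_1 D15188 (iv D14336) (iv F56416)
theorem F59879 : act 3 n15188 = n14328 := d25_1 D15188 (iv D14328) D14326
def n15189 : Q := act 6 n14327
theorem D15189 : act 6 n14327 = n15189 := rfl
theorem F59880 : act 0 n15189 = n14467 := d5_1 D15189 (iv D14467) (iv F56417)
theorem F59881 : act 1 n15189 = n14630 := d12_1 D15189 (iv F59861) F59858
theorem F59882 : act 2 n15189 = n14330 := d18_1 D15189 (iv D14330) (iv F56418)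
theorem F59883 : act 4 n15189 = n14656 := d27_1 D15189 (iv D14656) (iv F56419)
theorem F59884 : act 5 n15189 = n14627 := d30_1 D15189 F57775 F56392 F56391 D14327
theorem F59885 : act 7 n15189 = n14650 := d33_2 F59774 D15189 (iv F59773)
def n15190 : Q := act 8 n14327
theorem D15190 : act 8 n14327 = n15190 := rfl
theorem F59886 : act 0 n15190 = n14468 := d7_1 D15190 (iv D14468) (iv F56417)
theorem F59887 : act 2 n15190 = n14331 := d20_1 D15190 (iv D14331) (iv F56418)
theorem F59888 : act 4 n15190 = n14657 := d29_1 D15190 (iv D14657) (iv F56419)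
theorem F59889 : act 5 n15190 = n14328 := d32_1 D15190 (iv D14328) D14327
def n15191 : Q := act 7 n14328
theorem D15191 : act 7 n14328 = n15191 := rfl
theorem F59890 : act 0 n15191 = n14469 := d6_1 D15191 (iv D14469) (iv F56420)
theorem F59891 : act 2 n15191 = n14332 := d19_1 D15191 (iv D14332) (iv F56421)
theorem F59892 : act 4 n15191 = n14329 := d28_1 D15191 (iv D14329) (iv F56422)
def n15192 : Q := act 3 n14329
theorem D15192 : act 3 n14329 = n15192 := rfl
theorem F59893 : act 0 n15192 = n14470 := d2_1 D15192 (iv D14470) (iv F56423)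
theorem F59894 : act 2 n15192 = n15036 := d15_1 D15192 (iv D15036) F55846 (iv F52720) (iv F56424)
theorem F59895 : act 5 n15192 = n14659 := d22_2 (iv F56425) D15192 (iv D14659)
def n15193 : Q := act 8 n14330
theorem D15193 : act 8 n14330 = n15193 := rfl
theorem F59896 : act 0 n15193 = n14471 := d7_1 D15193 (iv D14471) (iv F56426)
theorem F59897 : act 1 n15193 = n14375 := d14_1 D15193 (iv D14375) (iv F56427)
theorem F59898 : act 3 n15193 = n14340 := d25_1 D15193 (iv D14340) (iv F56428)
theorem F59899 : act 4 n15193 = n14660 := d29_1 D15193 (iv D14660) (iv F56429)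
theorem F59900 : act 5 n15193 = n14689 := d32_1 D15193 (iv D14689) (iv F56430)
theorem F59901 : act 6 n15193 = n14331 := d34_1 D15193 (iv D14331) D14330
def n15194 : Q := act 7 n14331
theorem D15194 : act 7 n14331 = n15194 := rfl
theorem F59902 : act 0 n15194 = n14472 := d6_1 D15194 (iv D14472) (iv F56432)
theorem F59903 : act 1 n15194 = n14376 := d13_1 D15194 (iv D14376) (iv F56433)
theorem F59904 : act 4 n15194 = n14661 := d28_1 D15194 (iv D14661) (iv F56435)
theorem F59905 : act 5 n15194 = n14332 := d31_1 D15194 (iv D14332) (iv F56436)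
def n15195 : Q := act 3 n14332
theorem D15195 : act 3 n14332 = n15195 := rfl
theorem F59906 : act 0 n15195 = n14473 := d2_1 D15195 (iv D14473) (iv F56437)
theorem F59907 : act 1 n15195 = n14377 := d9_1 D15195 (iv D14377) (iv F56438)
theorem F59908 : act 4 n15195 = n15038 := d21_2 (iv F56439) D15195 (iv D15038) F55853 (iv F52720)
theorem F59909 : act 7 n15195 = n14342 := d24_2 D14332 D15195 (iv D14342) (iv D13405) (iv F52716)
def n15196 : Q := act 3 n14333
theorem D15196 : act 3 n14333 = n15196 := rfl
theorem F59910 : act 0 n15196 = n14481 := d2_1 D15196 (iv D14481) (iv F56440)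
theorem F59911 : act 1 n15196 = n14378 := d9_1 D15196 (iv D14378) (iv F56441)
theorem F59912 : act 4 n15196 = n14947 := d21_2 (iv F56442) D15196 (iv D14947) F55318 (iv F52729)
theorem F59913 : act 5 n15196 = n14952 := d22_2 (iv F56443) D15196 F58966
theorem F59914 : act 6 n15196 = n14342 := d23_2 (iv F56444) D15196 (iv D14342)
theorem F59915 : act 8 n15196 = n15196 := d25_2 F56445 D15196 (iv D15196)
def n15197 : Q := act 4 n14334
theorem D15197 : act 4 n14334 = n15197 := rfl
theorem F59916 : act 0 n15197 = n14482 := d3_1 D15197 (iv D14482) (iv F56446)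
theorem F59917 : act 3 n15197 = n14343 := d21_1 D15197 (iv D14343) F52760 (iv F52736) (iv F56447)
def n15198 : Q := act 6 n14334
theorem D15198 : act 6 n14334 = n15198 := rfl
theorem F59918 : act 0 n15198 = n14483 := d5_1 D15198 (iv D14483) (iv F56446)
theorem F59919 : act 1 n15198 = n15014 := d12_1 D15198 F59261 F58656
theorem F59920 : act 3 n15198 = n14337 := d23_1 D15198 (iv D14337) (iv F56447)
theorem F59921 : act 5 n15198 = n15016 := d30_1 D15198 F59270 F55807 F54510 D14334
def n15199 : Q := act 7 n14334
theorem D15199 : act 7 n14334 = n15199 := rfl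
theorem F59922 : act 0 n15199 = n14484 := d6_1 D15199 (iv D14484) (iv F56446)
theorem F59923 : act 1 n15199 = n14564 := d13_1 D15199 (iv F58658) F58656
theorem F59924 : act 3 n15199 = n15199 := d24_1 D15199 (iv D15199) F56447 F52737 (iv F56447)
theorem F59925 : act 5 n15199 = n14335 := d31_1 D15199 (iv D14335) D14334
def n15200 : Q := act 8 n14334
theorem D15200 : act 8 n14334 = n15200 := rfl
theorem F59926 : act 0 n15200 = n14485 := d7_1 D15200 (iv D14485) (iv F56446)
theorem F59927 : act 3 n15200 = n14338 := d25_1 D15200 (iv D14338) (iv F56447)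
theorem F59928 : act 5 n15200 = n14336 := d32_1 D15200 (iv D14336) D14334
def n15201 : Q := act 8 n14335
theorem D15201 : act 8 n14335 = n15201 := rfl
theorem F59929 : act 0 n15201 = n14486 := d7_1 D15201 (iv D14486) (iv F56448)
theorem F59930 : act 1 n15201 = n14565 := d14_1 D15201 (iv D14565) (iv F56449)
theorem F59931 : act 3 n15201 = n15201 := d25_1 D15201 (iv D15201) F56450
theorem F59932 : act 4 n15201 = n14419 := d29_1 D15201 (iv D14419) (iv F56451)
theorem F59933 : act 6 n15201 = n14424 := d34_1 D15201 (iv D14424) (iv F56452)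
def n15202 : Q := act 7 n14336
theorem D15202 : act 7 n14336 = n15202 := rfl
theorem F59934 : act 0 n15202 = n14487 := d6_1 D15202 (iv D14487) (iv F56453)
def n15203 : Q := act 8 n14337
theorem D15203 : act 8 n14337 = n15203 := rfl
theorem F59935 : act 0 n15203 = n14488 := d7_1 D15203 (iv D14488) (iv F56455)
theorem F59936 : act 1 n15203 = n14933 := d14_1 D15203 F58894 (iv F56456)
theorem F59937 : act 2 n15203 = n14340 := d20_1 D15203 (iv D14340) (iv F56457)
theorem F59938 : act 4 n15203 = n14345 := d29_1 D15203 (iv D14345) (iv F56458)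
theorem F59939 : act 5 n15203 = n14934 := d32_1 D15203 F58899 (iv F56459)
theorem F59940 : act 6 n15203 = n14338 := d34_1 D15203 (iv D14338) D14337
theorem F59941 : act 7 n15144 = n15203 := d33_0 F59940 (iv F59582) (iv F59673)
def n15204 : Q := act 3 n14339
theorem D15204 : act 3 n14339 = n15204 := rfl
theorem F59942 : act 0 n15204 = n14490 := d2_1 D15204 (iv D14490) (iv F56465)
theorem F59943 : act 8 n15204 = n15204 := d25_2 F56468 D15204 (iv D15204)
def n15205 : Q := act 3 n14341
theorem D15205 : act 3 n14341 = n15205 := rfl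
theorem F59944 : act 0 n15205 = n14493 := d2_1 D15205 (iv D14493) (iv F56475)
theorem F59945 : act 1 n15205 = n14379 := d9_1 D15205 (iv D14379) (iv F56476)
theorem F59946 : act 5 n15205 = n14342 := d22_2 (iv F56478) D15205 (iv D14342)
theorem F59947 : act 6 n15205 = n15126 := d23_2 (iv F56479) D15205 F59612
theorem F59948 : act 8 n15205 = n15205 := d25_2 F56480 D15205 (iv D15205)
def n15206 : Q := act 2 n14342
theorem D15206 : act 2 n14342 = n15206 := rfl
theorem F59949 : act 0 n15206 = n14494 := d1_1 D15206 (iv D14494) (iv F56481)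
theorem F59950 : act 4 n15206 = n15051 := d16_2 (iv F56483) D15206 (iv D15051)
theorem F59951 : act 8 n15206 = n15206 := d20_2 F56484 D15206 (iv D15206)
def n15207 : Q := act 7 n14347
theorem D15207 : act 7 n14347 = n15207 := rfl
theorem F59952 : act 0 n15207 = n14389 := d6_1 D15207 (iv D14389) (iv F56501)
theorem F59953 : act 2 n15207 = n14694 := d19_1 D15207 (iv D14694) (iv F56502)
theorem F59954 : act 3 n15207 = n14536 := d24_1 D15207 (iv D14536) F53603 (iv F52788) (iv F56503)
theorem F59955 : act 4 n15207 = n14607 := d28_1 D15207 (iv D14607) (iv F56504)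
theorem F59956 : act 5 n15207 = n14351 := d31_1 D15207 (iv D14351) (iv F56505)
theorem F59957 : act 6 n15207 = n14685 := d33_1 D15207 (iv D14685) (iv F56506)
theorem F59958 : act 8 n15207 = n14362 := d35_2 D14347 D15207 (iv D14362) (iv D13424) (iv F52781)
def n15208 : Q := act 8 n14348
theorem D15208 : act 8 n14348 = n15208 := rfl
theorem F59959 : act 0 n15208 = n14757 := d7_1 D15208 (iv D14757) (iv F56507)
theorem F59960 : act 1 n15208 = n14349 := d14_1 D15208 (iv D14349) D14348
theorem F59961 : act 3 n15208 = n15208 := d25_1 D15208 (iv D15208) F56508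
theorem F59962 : act 4 n15208 = n14645 := d29_1 D15208 (iv D14645) (iv F56509)
theorem F59963 : act 5 n15208 = n14637 := d32_1 D15208 (iv D14637) (iv F56510)
theorem F59964 : act 6 n15208 = n14354 := d34_1 D15208 (iv D14354) (iv F56511)
def n15209 : Q := act 7 n14349
theorem D15209 : act 7 n14349 = n15209 := rfl
theorem F59965 : act 0 n15209 = n14390 := d6_1 D15209 (iv D14390) (iv F56513)
theorem F59966 : act 2 n15209 = n14351 := d19_1 D15209 (iv D14351) (iv F56514)
theorem F59967 : act 4 n15209 = n14699 := d28_1 D15209 (iv D14699) (iv F56516)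
theorem F59968 : act 5 n15209 = n14694 := d31_1 D15209 (iv D14694) (iv F56517)
theorem F59969 : act 6 n15209 = n14356 := d33_1 D15209 (iv D14356) (iv F56518)
theorem F59970 : act 8 n15209 = n14365 := d35_2 D14349 D15209 (iv D14365) (iv D13426) (iv F52793)
def n15210 : Q := act 7 n14350
theorem D15210 : act 7 n14350 = n15210 := rfl
theorem F59971 : act 0 n15210 = n14391 := d6_1 D15210 (iv D14391) (iv F56519)
theorem F59972 : act 2 n15210 = n14699 := d19_1 D15210 (iv D14699) (iv F56520)
theorem F59973 : act 4 n15210 = n14351 := d28_1 D15210 (iv D14351) (iv F56522)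
theorem F59974 : act 5 n15210 = n14697 := d31_1 D15210 (iv D14697) (iv F56523)
theorem F59975 : act 6 n15210 = n14358 := d33_1 D15210 (iv D14358) (iv F56524)
theorem F59976 : act 8 n15210 = n14366 := d35_2 D14350 D15210 (iv D14366) (iv D13427) (iv F52800)
def n15211 : Q := act 8 n14352
theorem D15211 : act 8 n14352 = n15211 := rfl
theorem F59977 : act 0 n15211 = n14354 := d7_1 D15211 (iv D14354) D14352
theorem F59978 : act 1 n15211 = n14392 := d14_1 D15211 (iv D14392) (iv F56529)
theorem F59979 : act 3 n15211 = n15211 := d25_1 D15211 (iv D15211) F56530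
theorem F59980 : act 4 n15211 = n14802 := d29_1 D15211 (iv D14802) F56534
theorem F59981 : act 5 n15211 = n14688 := d32_1 D15211 (iv D14688) (iv F56531)
theorem F59982 : act 6 n15211 = n14757 := d34_1 D15211 (iv D14757) (iv F56532)
def n15212 : Q := act 8 n14353
theorem D15212 : act 8 n14353 = n15212 := rfl
theorem F59983 : act 0 n15212 = n14802 := d7_1 D15212 (iv D14802) (iv F56535)
theorem F59984 : act 1 n15212 = n14355 := d14_1 D15212 (iv D14355) (iv F56536)
theorem F59985 : act 3 n15212 = n14668 := d25_1 D15212 (iv D14668) F56540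
theorem F59986 : act 4 n15212 = n14354 := d29_1 D15212 (iv D14354) D14353
theorem F59987 : act 5 n15212 = n14660 := d32_1 D15212 (iv D14660) (iv F56537)
theorem F59988 : act 6 n15212 = n14645 := d34_1 D15212 (iv D14645) (iv F56538)
def n15213 : Q := act 7 n14354
theorem D15213 : act 7 n14354 = n15213 := rfl
theorem F59989 : act 1 n15213 = n14356 := d13_1 D15213 (iv D14356) (iv F56541)
theorem F59990 : act 5 n15213 = n14690 := d31_1 D15213 (iv D14690) (iv F56543)
theorem F59991 : act 8 n15213 = n14371 := d35_2 D14354 D15213 (iv D14371) (iv D13431) (iv F52806)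
def n15214 : Q := act 7 n14355
theorem D15214 : act 7 n14355 = n15214 := rfl
theorem F59992 : act 0 n15214 = n14394 := d6_1 D15214 (iv D14394) (iv F56544)
theorem F59993 : act 2 n15214 = n14358 := d19_1 D15214 (iv D14358) (iv F56545)
theorem F59994 : act 3 n15214 = n14860 := d24_1 D15214 (iv D14860) F54902 (iv F54395) (iv F56546)
theorem F59995 : act 4 n15214 = n14356 := d28_1 D15214 (iv D14356) (iv F56547)
theorem F59996 : act 5 n15214 = n14708 := d31_1 D15214 (iv D14708) (iv F56548)
theorem F59997 : act 6 n15214 = n14699 := d33_1 D15214 (iv D14699) (iv F56549)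
theorem F59998 : act 8 n15214 = n14373 := d35_2 D14355 D15214 (iv D14373) (iv D13433) (iv F52810)
def n15215 : Q := act 3 n14356
theorem D15215 : act 3 n14356 = n15215 := rfl
theorem F59999 : act 0 n15215 = n14395 := d2_1 D15215 (iv D14395) (iv F56550)
theorem F60000 : act 2 n15215 = n15056 := d15_1 D15215 (iv D15056) F55943 (iv F52827) (iv F56551)
theorem F60001 : act 5 n15215 = n14692 := d22_2 (iv F56552) D15215 (iv D14692)
theorem F60002 : act 7 n15215 = n15215 := d24_2 D14356 D15215 (iv D15215) (iv D14356) F52815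
theorem F60003 : act 8 n15215 = n14374 := d25_2 (iv F56553) D15215 (iv D14374)
def n15216 : Q := act 7 n14357
theorem D15216 : act 7 n14357 = n15216 := rfl
theorem F60004 : act 0 n15216 = n14396 := d6_1 D15216 (iv D14396) (iv F56554)
theorem F60005 : act 2 n15216 = n14708 := d19_1 D15216 (iv D14708) (iv F56555)
theorem F60006 : act 4 n15216 = n14693 := d28_1 D15216 (iv D14693) (iv F56557)
theorem F60007 : act 5 n15216 = n14358 := d31_1 D15216 (iv D14358) (iv F56558)
theorem F60008 : act 6 n15216 = n14705 := d33_1 D15216 (iv D14705) (iv F56559)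
theorem F60009 : act 8 n15216 = n14376 := d35_2 D14357 D15216 (iv D14376) (iv D13436) (iv F52822)
def n15217 : Q := act 3 n14358
theorem D15217 : act 3 n14358 = n15217 := rfl
theorem F60010 : act 0 n15217 = n14397 := d2_1 D15217 (iv D14397) (iv F56560)
theorem F60011 : act 4 n15217 = n15057 := d21_2 (iv F56561) D15217 (iv D15057) F55946 (iv F52827)
theorem F60012 : act 7 n15217 = n15217 := d24_2 D14358 D15217 (iv D15217) (iv D14358) F52824
theorem F60013 : act 8 n15217 = n14377 := d25_2 (iv F56562) D15217 (iv D14377)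
def n15218 : Q := act 8 n14359
theorem D15218 : act 8 n14359 = n15218 := rfl
theorem F60014 : act 0 n15218 = n14596 := d7_1 D15218 (iv D14596) (iv F56563)
theorem F60015 : act 1 n15218 = n14360 := d14_1 D15218 (iv D14360) D14359
theorem F60016 : act 3 n15218 = n14382 := d25_1 D15218 (iv D14382) (iv F56564)
theorem F60017 : act 4 n15218 = n14622 := d29_1 D15218 (iv D14622) (iv F56565)
theorem F60018 : act 5 n15218 = n14364 := d32_1 D15218 (iv D14364) (iv F56566)
theorem F60019 : act 6 n15218 = n14598 := d34_1 D15218 (iv D14598) (iv F56567)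
def n15219 : Q := act 7 n14360
theorem D15219 : act 7 n14360 = n15219 := rfl
theorem F60020 : act 0 n15219 = n14398 := d6_1 D15219 (iv D14398) (iv F56569)
theorem F60021 : act 2 n15219 = n14362 := d19_1 D15219 (iv D14362) (iv F56570)
theorem F60022 : act 3 n15219 = n15124 := d24_1 D15219 F59610 F56139 F52939 (iv F56571)
theorem F60023 : act 4 n15219 = n14685 := d28_1 D15219 (iv D14685) (iv F56572)
theorem F60024 : act 5 n15219 = n14365 := d31_1 D15219 (iv D14365) (iv F56573)
theorem F60025 : act 6 n15219 = n14607 := d33_1 D15219 (iv D14607) (iv F56574)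
theorem F60026 : act 8 n15219 = n14694 := d35_2 D14360 D15219 (iv D14694) (iv D13767) (iv F52834)
def n15220 : Q := act 7 n14361
theorem D15220 : act 7 n14361 = n15220 := rfl
theorem F60027 : act 0 n15220 = n14399 := d6_1 D15220 (iv D14399) (iv F56575)
theorem F60028 : act 2 n15220 = n14685 := d19_1 D15220 (iv D14685) (iv F56576)
theorem F60029 : act 4 n15220 = n14362 := d28_1 D15220 (iv D14362) (iv F56578)
theorem F60030 : act 5 n15220 = n14687 := d31_1 D15220 (iv D14687) (iv F56579)
theorem F60031 : act 6 n15220 = n14694 := d33_1 D15220 (iv D14694) (iv F56580)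
theorem F60032 : act 8 n15220 = n14607 := d35_2 D14361 D15220 (iv D14607) (iv D13691) (iv F52841)
def n15221 : Q := act 8 n14363
theorem D15221 : act 8 n14363 = n15221 := rfl
theorem F60033 : act 0 n15221 = n14364 := d7_1 D15221 (iv D14364) D14363
theorem F60034 : act 1 n15221 = n14400 := d14_1 D15221 (iv D14400) (iv F56585)
theorem F60035 : act 3 n15221 = n14383 := d25_1 D15221 (iv D14383) (iv F56586)
theorem F60036 : act 4 n15221 = n14680 := d29_1 D15221 F57975 (iv F56587)
theorem F60037 : act 5 n15221 = n14596 := d32_1 D15221 (iv D14596) (iv F56588)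
theorem F60038 : act 6 n15221 = n14368 := d34_1 D15221 (iv D14368) (iv F56589)
def n15222 : Q := act 7 n14364
theorem D15222 : act 7 n14364 = n15222 := rfl
theorem F60039 : act 1 n15222 = n14365 := d13_1 D15222 (iv D14365) (iv F56591)
theorem F60040 : act 4 n15222 = n14826 := d28_1 D15222 F58469 (iv F56593)
theorem F60041 : act 6 n15222 = n14371 := d33_1 D15222 (iv D14371) (iv F56594)
def n15223 : Q := act 3 n14365
theorem D15223 : act 3 n14365 = n15223 := rfl
theorem F60042 : act 0 n15223 = n14402 := d2_1 D15223 (iv D14402) (iv F56595)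
theorem F60043 : act 2 n15223 = n14722 := d15_1 D15223 (iv D14722) F54473 (iv F52861) (iv F56596)
theorem F60044 : act 4 n15223 = n14529 := d21_2 (iv F56597) D15223 (iv D14529) F53543 D13953
theorem F60045 : act 5 n15223 = n15124 := d22_2 F60024 D15223 (iv F60022)
theorem F60046 : act 6 n15223 = n14374 := d23_2 (iv F56598) D15223 (iv D14374)
theorem F60047 : act 7 n15223 = n14385 := d24_2 D14365 D15223 (iv D14385) (iv D13450) (iv F52851)
def n15224 : Q := act 3 n14366
theorem D15224 : act 3 n14366 = n15224 := rfl
theorem F60048 : act 0 n15224 = n14403 := d2_1 D15224 (iv D14403) (iv F56599)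
theorem F60049 : act 2 n15224 = n14868 := d15_1 D15224 (iv D14868) F54941 D13953 (iv F56600)
theorem F60050 : act 4 n15224 = n14875 := d21_2 (iv F56601) D15224 (iv D14875) F54987 (iv F52861)
theorem F60051 : act 5 n15224 = n14869 := d22_2 (iv F56602) D15224 F58629
theorem F60052 : act 6 n15224 = n14377 := d23_2 (iv F56603) D15224 (iv D14377)
theorem F60053 : act 7 n15224 = n14378 := d24_2 D14366 D15224 (iv D14378) (iv D13438) (iv F52856)
def n15225 : Q := act 8 n14367
theorem D15225 : act 8 n14367 = n15225 := rfl
theorem F60054 : act 0 n15225 = n14370 := d7_1 D15225 (iv D14370) (iv F56604)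
theorem F60055 : act 1 n15225 = n14404 := d14_1 D15225 (iv D14404) (iv F56605)
theorem F60056 : act 3 n15225 = n14679 := d25_1 D15225 F57971 (iv F56606)
theorem F60057 : act 4 n15225 = n14368 := d29_1 D15225 (iv D14368) D14367
theorem F60058 : act 5 n15225 = n14793 := d32_1 D15225 (iv D14793) F56609
theorem F60059 : act 6 n15225 = n14680 := d34_1 D15225 F57975 (iv F56607)
def n15226 : Q := act 7 n14368
theorem D15226 : act 7 n14368 = n15226 := rfl
theorem F60060 : act 0 n15226 = n14371 := d6_1 D15226 (iv D14371) (iv F56610)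
theorem F60061 : act 1 n15226 = n14405 := d13_1 D15226 (iv D14405) (iv F56611)
theorem F60062 : act 5 n15226 = n14701 := d31_1 D15226 (iv D14701) (iv F56613)
def n15227 : Q := act 8 n14369
theorem D15227 : act 8 n14369 = n15227 := rfl
theorem F60063 : act 0 n15227 = n14793 := d7_1 D15227 (iv D14793) (iv F56614)
theorem F60064 : act 1 n15227 = n14372 := d14_1 D15227 (iv D14372) (iv F56615)
theorem F60065 : act 3 n15227 = n14838 := d25_1 D15227 F58518 (iv F56616)
theorem F60066 : act 4 n15227 = n14702 := d29_1 D15227 (iv D14702) (iv F56617)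
theorem F60067 : act 5 n15227 = n14370 := d32_1 D15227 (iv D14370) D14369
theorem F60068 : act 6 n15227 = n14633 := d34_1 D15227 (iv D14633) (iv F56618)
def n15228 : Q := act 7 n14370
theorem D15228 : act 7 n14370 = n15228 := rfl
theorem F60069 : act 1 n15228 = n14373 := d13_1 D15228 (iv D14373) (iv F56620)
theorem F60070 : act 3 n15228 = n14825 := d24_1 D15228 (iv D14825) F54757 D13922 (iv F56621)
theorem F60071 : act 4 n15228 = n14371 := d28_1 D15228 (iv D14371) (iv F56622)
theorem F60072 : act 6 n15228 = n14826 := d33_1 D15228 F58469 (iv F56623)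
def n15229 : Q := act 3 n14371
theorem D15229 : act 3 n14371 = n15229 := rfl
theorem F60073 : act 1 n15229 = n14374 := d9_1 D15229 (iv D14374) (iv F56624)
theorem F60074 : act 5 n15229 = n14704 := d22_2 (iv F56625) D15229 (iv D14704)
theorem F60075 : act 7 n15229 = n14387 := d24_2 D14371 D15229 (iv D14387) (iv D13452) (iv F52870)
def n15230 : Q := act 7 n14372
theorem D15230 : act 7 n14372 = n15230 := rfl
theorem F60076 : act 0 n15230 = n14408 := d6_1 D15230 (iv D14408) (iv F56626)
theorem F60077 : act 2 n15230 = n14376 := d19_1 D15230 (iv D14376) (iv F56627)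
theorem F60078 : act 3 n15230 = n14861 := d24_1 D15230 (iv D14861) F54909 D13955 (iv F56628)
theorem F60079 : act 4 n15230 = n14705 := d28_1 D15230 (iv D14705) (iv F56629)
theorem F60080 : act 5 n15230 = n14373 := d31_1 D15230 (iv D14373) (iv F56630)
theorem F60081 : act 6 n15230 = n14693 := d33_1 D15230 (iv D14693) (iv F56631)
theorem F60082 : act 8 n15230 = n14708 := d35_2 D14372 D15230 (iv D14708) (iv D13783) (iv F52877)
def n15231 : Q := act 4 n14374
theorem D15231 : act 4 n14374 = n15231 := rfl
theorem F60083 : act 0 n15231 = n14409 := d3_1 D15231 (iv D14409) (iv F56637)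
theorem F60084 : act 2 n15231 = n15061 := d16_1 D15231 (iv D15061) (iv F56638)
theorem F60085 : act 3 n15231 = n14528 := d21_1 D15231 F57317 (iv F56634) F56635 D14374
theorem F60086 : act 6 n15231 = n14529 := d27_2 F60046 D15231 (iv F60044)
theorem F60087 : act 7 n15231 = n14388 := d28_2 (iv F56640) D15231 (iv D14388)
theorem F60088 : act 5 n15128 = n15231 := d37_1 (iv F59618) (iv D15231) (iv D14374) F52884 (iv F52719) F52718 (iv D12515) F45274 (iv F46674) F46673 (iv F46702) F46701 F41032 D11999 (iv F51272) F51271 D13052 F51325 F51082 F46983 (iv F45776) F45774 F39944 F32068 F23701 F17598 F13098 F12820 (iv F17217) (iv F23175) (iv F31322) (iv F39141) (iv F44296) (iv F48662) D13377 F52645 F52644 (iv F52950) F52949 (iv F56116) (iv F57665) (iv D14601) (iv F56686) F56685 (iv D13755) (iv F54270) F54269 F54268 (iv D12929) F46731 F40684 (iv F38809) F38808 F29750 F22065 D5712 (iv F29849) (iv F38864) D11321 D12304 D13314 D14267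
def n15232 : Q := act 7 n14375
theorem D15232 : act 7 n14375 = n15232 := rfl
theorem F60089 : act 0 n15232 = n14410 := d6_1 D15232 (iv D14410) (iv F56641)
theorem F60090 : act 2 n15232 = n14693 := d19_1 D15232 (iv D14693) (iv F56642)
theorem F60091 : act 3 n15232 = n15123 := d24_1 D15232 F59608 F56135 F52909 (iv F56643)
theorem F60092 : act 4 n15232 = n14708 := d28_1 D15232 (iv D14708) (iv F56644)
theorem F60093 : act 5 n15232 = n14691 := d31_1 D15232 (iv D14691) (iv F56645)
theorem F60094 : act 6 n15232 = n14376 := d33_1 D15232 (iv D14376) (iv F56646)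
theorem F60095 : act 8 n15232 = n14705 := d35_2 D14375 D15232 (iv D14705) (iv D13780) (iv F52891)
def n15233 : Q := act 3 n14376
theorem D15233 : act 3 n14376 = n15233 := rfl
theorem F60096 : act 0 n15233 = n14411 := d2_1 D15233 (iv D14411) (iv F56647)
theorem F60097 : act 2 n15233 = n15122 := d15_1 D15233 (iv D15122) (iv F58601) (iv F60078) F60077
theorem F60098 : act 5 n15233 = n14377 := d22_2 (iv F56649) D15233 (iv D14377)
theorem F60099 : act 6 n15233 = n15123 := d23_2 F60094 D15233 (iv F60091)
theorem F60100 : act 7 n15233 = n14379 := d24_2 D14376 D15233 (iv D14379) (iv D13440) (iv F52893)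
def n15234 : Q := act 2 n14377
theorem D15234 : act 2 n14377 = n15234 := rfl
theorem F60101 : act 0 n15234 = n14412 := d1_1 D15234 (iv D14412) (iv F56650)
theorem F60102 : act 3 n15234 = n14867 := d15_2 D14377 D15234 F58622 (iv F56634) F56633
theorem F60103 : act 4 n15234 = n15063 := d16_2 (iv F56651) D15234 (iv D15063)
theorem F60104 : act 5 n15234 = n15122 := d17_2 F60098 D15234 (iv F60097)
theorem F60105 : act 6 n15234 = n14868 := d18_2 F60052 D15234 (iv F60049)
theorem F60106 : act 7 n15234 = n14380 := d19_2 (iv F56652) D15234 (iv D14380)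
def n15235 : Q := act 4 n14379
theorem D15235 : act 4 n14379 = n15235 := rfl
theorem F60107 : act 0 n15235 = n14413 := d3_1 D15235 (iv D14413) (iv F56659)
theorem F60108 : act 2 n15235 = n14609 := d16_1 D15235 F57706 (iv F56660)
theorem F60109 : act 3 n15235 = n14381 := d21_1 D15235 (iv D14381) (iv D13443) (iv F52912) D14379
theorem F60110 : act 5 n15235 = n14602 := d26_2 (iv F56661) D15235 F57673 F55967 (iv F52917)
theorem F60111 : act 6 n15235 = n14415 := d27_2 (iv F56662) D15235 F56865
theorem F60112 : act 8 n15235 = n15235 := d29_2 F56663 D15235 (iv D15235)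
def n15236 : Q := act 1 n14380
theorem D15236 : act 1 n14380 = n15236 := rfl
theorem F60113 : act 3 n15236 = n14948 := d9_2 (iv F56665) D15236 F58951
theorem F60114 : act 4 n15236 = n15064 := d10_2 (iv F56666) D15236 (iv D15064)
theorem F60115 : act 5 n15236 = n15111 := d11_2 (iv F56667) D15236 F59548
theorem F60116 : act 6 n15236 = n14949 := d12_2 (iv F56668) D15236 F58956
theorem F60117 : act 8 n15236 = n15236 := d14_2 F56669 D15236 (iv D15236)
def n15237 : Q := act 3 n14384
theorem D15237 : act 3 n14384 = n15237 := rfl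
theorem F60118 : act 1 n15237 = n14385 := d9_1 D15237 (iv D14385) (iv F56688)
theorem F60119 : act 4 n15237 = n14493 := d21_2 (iv F56689) D15237 (iv D14493) F53342 D13553
theorem F60120 : act 5 n15237 = n15113 := d22_2 (iv F56690) D15237 F59554
theorem F60121 : act 6 n15237 = n14387 := d23_2 (iv F56691) D15237 (iv D14387)
theorem F60122 : act 8 n15237 = n15237 := d25_2 F56692 D15237 (iv D15237)
def n15238 : Q := act 3 n14386
theorem D15238 : act 3 n14386 = n15238 := rfl
theorem F60123 : act 0 n15238 = n14387 := d2_1 D15238 (iv D14387) (iv F56699)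
theorem F60124 : act 1 n15238 = n14415 := d9_1 D15238 (iv D14415) (iv F56700)
theorem F60125 : act 4 n15238 = n15126 := d21_2 F59587 D15238 F59612 (iv F56497) (iv F59586)
theorem F60126 : act 5 n15238 = n14712 := d22_2 (iv F56701) D15238 (iv D14712)
theorem F60127 : act 8 n15238 = n15238 := d25_2 F56702 D15238 (iv D15238)
def n15239 : Q := act 2 n14387
theorem D15239 : act 2 n14387 = n15239 := rfl
theorem F60128 : act 1 n15239 = n15065 := d8_1 D15239 (iv D15065) F55972 (iv F52977) (iv F56703)
theorem F60129 : act 5 n15239 = n14713 := d17_2 (iv F56704) D15239 (iv D14713)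
theorem F60130 : act 8 n15239 = n15239 := d20_2 F56705 D15239 (iv D15239)
def n15240 : Q := act 4 n14387
theorem D15240 : act 4 n14387 = n15240 := rfl
theorem F60131 : act 0 n15240 = n15126 := d3_1 D15240 (iv F60125) F60123
theorem F60132 : act 1 n15240 = n14388 := d10_1 D15240 (iv D14388) (iv F56703)
theorem F60133 : act 3 n15240 = n14492 := d21_1 D15240 F57142 (iv F56298) F56299 D14387
theorem F60134 : act 6 n15240 = n14493 := d27_2 F60121 D15240 (iv F60119)
theorem F60135 : act 8 n15240 = n15240 := d29_2 F56705 D15240 (iv D15240)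
theorem F60136 : act 5 n15127 = n15240 := d22_0 F60133 F57143 (iv F59616)
def n15241 : Q := act 3 n14390
theorem D15241 : act 3 n14390 = n15241 := rfl
theorem F60137 : act 1 n15241 = n14761 := d9_1 D15241 (iv D14761) (iv F56719)
theorem F60138 : act 2 n15241 = n14717 := d15_1 D15241 (iv D14717) F54439 (iv F52999) (iv F56720)
theorem F60139 : act 4 n15241 = n14540 := d21_2 (iv F56721) D15241 (iv D14540) F53629 (iv F54464)
theorem F60140 : act 5 n15241 = n14718 := d22_2 (iv F56722) D15241 (iv D14718)
theorem F60141 : act 6 n15241 = n14395 := d23_2 (iv F56723) D15241 (iv D14395)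
theorem F60142 : act 7 n15241 = n15241 := d24_2 D14390 D15241 (iv D15241) (iv D14390) F52988
theorem F60143 : act 8 n15241 = n14402 := d25_2 (iv F56724) D15241 (iv D14402)
def n15242 : Q := act 3 n14391
theorem D15242 : act 3 n14391 = n15242 := rfl
theorem F60144 : act 1 n15242 = n14535 := d9_1 D15242 (iv D14535) (iv F56725)
theorem F60145 : act 2 n15242 = n14873 := d15_1 D15242 (iv D14873) F54972 (iv F54464) (iv F56726)
theorem F60146 : act 4 n15242 = n14872 := d21_2 (iv F56727) D15242 (iv D14872) F54969 (iv F52999)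
theorem F60147 : act 5 n15242 = n14719 := d22_2 (iv F56728) D15242 (iv D14719)
theorem F60148 : act 6 n15242 = n14397 := d23_2 (iv F56729) D15242 (iv D14397)
theorem F60149 : act 7 n15242 = n15242 := d24_2 D14391 D15242 (iv D15242) (iv D14391) F52994
theorem F60150 : act 8 n15242 = n14403 := d25_2 (iv F56730) D15242 (iv D14403)
def n15243 : Q := act 7 n14392
theorem D15243 : act 7 n14392 = n15243 := rfl
theorem F60151 : act 0 n15243 = n14393 := d6_1 D15243 (iv D14393) (iv F56731)
theorem F60152 : act 2 n15243 = n14536 := d19_1 D15243 (iv D14536) (iv F56732)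
theorem F60153 : act 4 n15243 = n14861 := d28_1 D15243 (iv D14861) (iv F56734)
theorem F60154 : act 5 n15243 = n14716 := d31_1 D15243 (iv D14716) (iv F56735)
theorem F60155 : act 6 n15243 = n14759 := d33_1 D15243 (iv D14759) (iv F56736)
theorem F60156 : act 8 n15243 = n14405 := d35_2 D14392 D15243 (iv D14405) (iv D13472) (iv F53007)
def n15244 : Q := act 3 n14393
theorem D15244 : act 3 n14393 = n15244 := rfl
theorem F60157 : act 1 n15244 = n14395 := d9_1 D15244 (iv D14395) (iv F56737)
theorem F60158 : act 2 n15244 = n14718 := d15_1 D15244 (iv D14718) (iv F56713) F56714 (iv F56738)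
theorem F60159 : act 4 n15244 = n14724 := d21_2 (iv F56739) D15244 (iv D14724) (iv F56824) F56823
theorem F60160 : act 5 n15244 = n14717 := d22_2 (iv F56740) D15244 (iv D14717)
theorem F60161 : act 6 n15244 = n14761 := d23_2 (iv F56741) D15244 (iv D14761)
theorem F60162 : act 7 n15244 = n15244 := d24_2 D14393 D15244 (iv D15244) (iv D14393) F53010
theorem F60163 : act 8 n15244 = n14407 := d25_2 (iv F56742) D15244 (iv D14407)
def n15245 : Q := act 4 n14395
theorem D15245 : act 4 n14395 = n15245 := rfl
theorem F60164 : act 1 n15245 = n14724 := d10_1 D15245 (iv F60159) F60157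
theorem F60165 : act 2 n15245 = n15068 := d16_1 D15245 (iv D15068) (iv F56750)
theorem F60166 : act 3 n15245 = n14539 := d21_1 D15245 F57367 (iv F56745) F56746 D14395
theorem F60167 : act 6 n15245 = n14540 := d27_2 F60141 D15245 (iv F60139)
theorem F60168 : act 7 n15245 = n15245 := d28_2 F56752 D15245 (iv D15245)
theorem F60169 : act 8 n15245 = n14409 := d29_2 (iv F56753) D15245 (iv D14409)
theorem F60170 : act 5 n14723 = n15245 := d36_3 D12811 D13807 D14723 (iv D15245) (iv D14395) (iv F56737) F56738 (iv F56714) F56718 (iv D13466) F48976 F44497 F39279 (iv F39293) F39292 F31619 F31620 (iv D6056) (iv D4429) F12904 F12905 (iv F17344) (iv F23361) (iv F31396) F31397 F31398 (iv F38348) (iv F24313) (iv F32874) (iv F39561) D11582 F45536 F45535 F39562 F31613 D8297 D10130 D11595 (iv F49626) (iv F53140) (iv D13486) (iv F53128) F53129 F49132 F46104 (iv D11707) F40177 F32445 F23974 F17784 F17783 F13220 F9985 (iv D1865) (iv D1365) F4302 F3260 F3259 (iv F38311) (iv F3037) F3038 F38251 F3281 (iv F4262) (iv F5675) F5676 F37984 F5627 F5626 F4237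 F4238 D1338 F5653 F4271 (iv F38157) (iv F5450) (iv F7240) (iv F9657) (iv F12903) F12904 (iv F38349) (iv F13728) (iv F18438) F18439 D6481 (iv F32876) (iv F40829) (iv F46383) F46384
def n15246 : Q := act 3 n14396
theorem D15246 : act 3 n14396 = n15246 := rfl
theorem F60171 : act 1 n15246 = n14540 := d9_1 D15246 (iv D14540) (iv F56754)
theorem F60172 : act 2 n15246 = n14551 := d15_1 D15246 (iv D14551) (iv F56810) F56811 (iv F56755)
theorem F60173 : act 4 n15246 = n14761 := d21_2 (iv F56756) D15246 (iv D14761) F54633 (iv F54450)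
theorem F60174 : act 5 n15246 = n14397 := d22_2 (iv F56757) D15246 (iv D14397)
theorem F60175 : act 6 n15246 = n14724 := d23_2 (iv F56758) D15246 (iv D14724)
theorem F60176 : act 7 n15246 = n15246 := d24_2 D14396 D15246 (iv D15246) (iv D14396) F53025
theorem F60177 : act 8 n15246 = n14411 := d25_2 (iv F56759) D15246 (iv D14411)
def n15247 : Q := act 2 n14397
theorem D15247 : act 2 n14397 = n15247 := rfl
theorem F60178 : act 3 n15247 = n14550 := d15_2 D14397 D15247 F57422 (iv F56745) F56744
theorem F60179 : act 4 n15247 = n15069 := d16_2 (iv F56761) D15247 (iv D15069)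
theorem F60180 : act 5 n15247 = n14551 := d17_2 F60174 D15247 (iv F60172)
theorem F60181 : act 6 n15247 = n14873 := d18_2 F60148 D15247 (iv F60145)
theorem F60182 : act 7 n15247 = n15247 := d19_2 F56762 D15247 (iv D15247)
theorem F60183 : act 8 n15247 = n14412 := d20_2 (iv F56763) D15247 (iv D14412)
theorem F60184 : act 1 n14553 = n15247 := d36_6 F47305 (iv F51049) (iv D12983) (iv F51047) (iv F53700) D14553 (iv D15247) (iv D14397) F53031 (iv D12473) F44519 (iv F44540) F44539 F39310 F32432 F24292 F18468 (iv D4740) F13707 F10903 (iv D1997) (iv D1469) (iv D1079) F3512 F3513 F2650 D798 F3520 F3517 F3518 (iv F4603) (iv F5987) F5986 (iv F5912) F5913 (iv D1408) (iv D1031) (iv D758) D759 F3352 (iv F4433) (iv F5889) (iv F7856) (iv F9851) (iv F13126) D4507 D6164 F23810 D6166 F23817 F21984 F16426 F12444 D4267 D5829 D7979 (iv F38964) D11355 (iv F48435) F48434 (iv F49057) (iv F52625) F52629 (iv D13374) F48616 F46429 (iv F50493) (iv F53080) F53078 F49017 F44519 (iv D10047) F31431 (iv F39285) D11475 F44517 F40370 F32417 F24281 (iv F24904) D8899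 D10568 D12045 F47312 F41215 (iv D10569) F33755 (iv F41201) D12043
def n15248 : Q := act 3 n14399
theorem D15248 : act 3 n14399 = n15248 := rfl
theorem F60185 : act 1 n15248 = n14542 := d9_1 D15248 (iv D14542) (iv F56771)
theorem F60186 : act 2 n15248 = n14761 := d15_1 D15248 (iv D14761) F54632 (iv F54426) (iv F56772)
theorem F60187 : act 4 n15248 = n14551 := d21_2 (iv F56773) D15248 (iv D14551) F53690 (iv F53045)
theorem F60188 : act 5 n15248 = n14715 := d22_2 (iv F56774) D15248 (iv D14715)
theorem F60189 : act 6 n15248 = n14718 := d23_2 (iv F56775) D15248 (iv D14718)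
theorem F60190 : act 7 n15248 = n15248 := d24_2 D14399 D15248 (iv D15248) (iv D14399) F53040
theorem F60191 : act 8 n15248 = n14608 := d25_2 (iv F56776) D15248 (iv D14608)
def n15249 : Q := act 7 n14400
theorem D15249 : act 7 n14400 = n15249 := rfl
theorem F60192 : act 0 n15249 = n14401 := d6_1 D15249 (iv D14401) (iv F56777)
theorem F60193 : act 2 n15249 = n14543 := d19_1 D15249 (iv D14543) (iv F56778)
theorem F60194 : act 4 n15249 = n14709 := d28_1 D15249 F58082 (iv F56780)
theorem F60195 : act 5 n15249 = n14597 := d31_1 D15249 (iv D14597) (iv F56781)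
theorem F60196 : act 6 n15249 = n14405 := d33_1 D15249 (iv D14405) (iv F56782)
theorem F60197 : act 8 n15249 = n14759 := d35_2 D14400 D15249 (iv D14759) (iv D13850) (iv F53053)
def n15250 : Q := act 3 n14401
theorem D15250 : act 3 n14401 = n15250 := rfl
theorem F60198 : act 1 n15250 = n14402 := d9_1 D15250 (iv D14402) (iv F56783)
theorem F60199 : act 2 n15250 = n14608 := d15_1 D15250 (iv D14608) F54035 (iv F53646) (iv F56784)
theorem F60200 : act 4 n15250 = n14411 := d21_2 (iv F56785) D15250 (iv D14411) F53107 D13813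
theorem F60201 : act 5 n15250 = n14606 := d22_2 (iv F56786) D15250 (iv D14606)
theorem F60202 : act 6 n15250 = n14407 := d23_2 (iv F56787) D15250 (iv D14407)
theorem F60203 : act 7 n15250 = n14413 := d24_2 D14401 D15250 F56853 F53132 (iv F53056)
theorem F60204 : act 8 n15250 = n14761 := d25_2 (iv F56788) D15250 (iv D14761)
def n15251 : Q := act 7 n14404
theorem D15251 : act 7 n14404 = n15251 := rfl
theorem F60205 : act 0 n15251 = n14406 := d6_1 D15251 (iv D14406) (iv F56800)
theorem F60206 : act 2 n15251 = n14549 := d19_1 D15251 (iv D14549) (iv F56801)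
theorem F60207 : act 3 n15251 = n14708 := d24_1 D15251 (iv D14708) F54380 D13787 (iv F56802)
theorem F60208 : act 4 n15251 = n14405 := d28_1 D15251 (iv D14405) (iv F56803)
theorem F60209 : act 5 n15251 = n14860 := d31_1 D15251 (iv D14860) (iv F56804)
theorem F60210 : act 6 n15251 = n14709 := d33_1 D15251 F58082 (iv F56805)
theorem F60211 : act 8 n15251 = n14861 := d35_2 D14404 D15251 (iv D14861) (iv D13941) (iv F53072)
def n15252 : Q := act 3 n14405
theorem D15252 : act 3 n14405 = n15252 := rfl
theorem F60212 : act 0 n15252 = n14407 := d2_1 D15252 (iv D14407) (iv F56806)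
theorem F60213 : act 2 n15252 = n15124 := d15_1 D15252 (iv F60022) F60021 F56582 (iv F56807)
theorem F60214 : act 4 n15252 = n15123 := d21_2 F60208 D15252 (iv F60091) F60092 (iv F60207)
theorem F60215 : act 5 n15252 = n14722 := d22_2 (iv F56808) D15252 (iv D14722)
theorem F60216 : act 7 n15252 = n14415 := d24_2 D14405 D15252 (iv D14415) (iv D13487) (iv F53076)
def n15253 : Q := act 1 n14412
theorem D15253 : act 1 n14412 = n15253 := rfl
theorem F60217 : act 2 n15253 = n14556 := d8_2 D14412 D15253 (iv D14556) (iv D13624) (iv F53109)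
theorem F60218 : act 3 n15253 = n14537 := d9_2 (iv F56846) D15253 F57353
theorem F60219 : act 4 n15253 = n15072 := d10_2 (iv F56847) D15253 F59452
theorem F60220 : act 5 n15253 = n14538 := d11_2 (iv F56848) D15253 F57359
theorem F60221 : act 6 n15253 = n14876 := d12_2 (iv F56849) D15253 F58649
theorem F60222 : act 7 n15253 = n14414 := d13_2 (iv F56850) D15253 (iv D14414)
theorem F60223 : act 8 n15253 = n14553 := d14_2 F60183 D15253 F60184
def n15254 : Q := act 0 n14414
theorem D15254 : act 0 n14414 = n15254 := rfl
theorem F60224 : act 2 n15254 = n14559 := d1_2 (iv F56857) D15254 (iv D14559)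
theorem F60225 : act 3 n15254 = n14953 := d2_2 (iv F56858) D15254 F58969
theorem F60226 : act 4 n15254 = n15067 := d3_2 (iv F56859) D15254 F59440
theorem F60227 : act 5 n15254 = n14605 := d4_2 (iv F56860) D15254 F57686
theorem F60228 : act 6 n15254 = n14954 := d5_2 (iv F56861) D15254 F58975
theorem F60229 : act 8 n15254 = n15254 := d7_2 F56862 D15254 (iv D15254)
def n15255 : Q := act 2 n14416
theorem D15255 : act 2 n14416 = n15255 := rfl
theorem F60230 : act 1 n15255 = n14590 := d8_1 D15255 F57618 F53951 (iv F53728) (iv F56868)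
theorem F60231 : act 3 n15255 = n14427 := d15_2 D14416 D15255 (iv D14427) (iv D13499) (iv F53172)
theorem F60232 : act 4 n15255 = n15182 := d16_2 F59185 D15255 F59855
theorem F60233 : act 5 n15255 = n14418 := d17_2 (iv F56869) D15255 (iv D14418)
theorem F60234 : act 6 n15255 = n14725 := d18_2 (iv F56870) D15255 F58145
def n15256 : Q := act 8 n14416
theorem D15256 : act 8 n14416 = n15256 := rfl
theorem F60235 : act 1 n15256 = n14560 := d14_1 D15256 (iv D14560) (iv F56868)
theorem F60236 : act 3 n15256 = n14417 := d25_1 D15256 (iv D14417) D14416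
theorem F60237 : act 5 n15256 = n14419 := d32_1 D15256 (iv D14419) (iv F56869)
theorem F60238 : act 6 n15256 = n14762 := d34_1 D15256 (iv D14762) (iv F56870)
def n15257 : Q := act 1 n14418
theorem D15257 : act 1 n14418 = n15257 := rfl
theorem F60239 : act 2 n15257 = n14561 := d8_2 D14418 D15257 (iv D14561) (iv D13631) (iv F53175)
theorem F60240 : act 3 n15257 = n14429 := d9_2 (iv F56876) D15257 (iv D14429)
theorem F60241 : act 5 n15257 = n14590 := d11_2 F60233 D15257 (iv F60230)
theorem F60242 : act 6 n15257 = n14420 := d12_2 (iv F56877) D15257 (iv D14420)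
theorem F60243 : act 7 n15257 = n15255 := d13_2 F57621 D15257 F60230
theorem F60244 : act 0 n14737 = n15257 := d4_3 F60241 F57617 D14737
def n15258 : Q := act 8 n14418
theorem D15258 : act 8 n14418 = n15258 := rfl
theorem F60245 : act 2 n15258 = n14419 := d20_1 D15258 (iv D14419) D14418
theorem F60246 : act 3 n15258 = n14431 := d25_1 D15258 (iv D14431) (iv F56876)
theorem F60247 : act 6 n15258 = n14422 := d34_1 D15258 (iv D14422) (iv F56877)
def n15259 : Q := act 7 n14419
theorem D15259 : act 7 n14419 = n15259 := rfl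
theorem F60248 : act 1 n15259 = n14566 := d13_1 D15259 (iv D14566) (iv F56878)
theorem F60249 : act 3 n15259 = n14888 := d24_1 D15259 (iv D14888) F55038 (iv F53181) (iv F56879)
theorem F60250 : act 6 n15259 = n14425 := d33_1 D15259 (iv D14425) (iv F56880)
def n15260 : Q := act 0 n14420
theorem D15260 : act 0 n14420 = n15260 := rfl
theorem F60251 : act 2 n15260 = n14567 := d1_2 (iv F56881) D15260 (iv D14567)
theorem F60252 : act 3 n15260 = n14434 := d2_2 (iv F56882) D15260 (iv D14434)
theorem F60253 : act 5 n15260 = n14767 := d4_2 (iv F56883) D15260 (iv D14767)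
theorem F60254 : act 6 n15260 = n14737 := d5_2 F60242 D15260 F60244
def n15261 : Q := act 4 n14420
theorem D15261 : act 4 n14420 = n15261 := rfl
theorem F60255 : act 1 n15261 = n14421 := d10_1 D15261 (iv D14421) D14420
theorem F60256 : act 2 n15261 = n14568 := d16_1 D15261 (iv D14568) (iv F56881)
theorem F60257 : act 7 n15261 = n14999 := d28_2 F58148 D15261 F59189
theorem F60258 : act 5 n14997 = n15261 := d37_1 (iv F59183) (iv D15261) F56882 F53214 (iv D12544) F45344 F39540 F31612 D8643 F32876 F24898 F18441 (iv F24817) F24819 D8862 F33624 F33623 (iv F32805) (iv F40669) (iv F46171) F46174 (iv D10789) (iv D9140) (iv D6662) F18925 F18924 F14064 (iv D2613) (iv D1912) F5887 (iv F7365) (iv D1779) F5540 (iv F5166) D1653 (iv F9146) (iv F12204) D4163 F38508 (iv F23969) (iv F32368) F32371 (iv F40174) (iv F45902) F45901 (iv F49851) (iv F53863) (iv D13656) F49819 F49818 F49817 (iv F49995) (iv F53930) (iv D13667) F49926 (iv F50523) F50522 D13259 D14214 F56005 (iv F58330) F58329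
def n15262 : Q := act 8 n14420
theorem D15262 : act 8 n14420 = n15262 := rfl
theorem F60259 : act 1 n15262 = n14422 := d14_1 D15262 (iv D14422) D14420
theorem F60260 : act 2 n15262 = n14569 := d20_1 D15262 (iv D14569) (iv F56881)
theorem F60261 : act 3 n15262 = n14436 := d25_1 D15262 (iv D14436) (iv F56882)
theorem F60262 : act 5 n15262 = n14769 := d32_1 D15262 (iv D14769) (iv F56883)
def n15263 : Q := act 3 n14421
theorem D15263 : act 3 n14421 = n15263 := rfl
theorem F60263 : act 2 n15263 = n15263 := d15_1 D15263 (iv D15263) F56884 F53185 (iv F56884)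
theorem F60264 : act 4 n15263 = n14437 := d21_2 D14421 D15263 (iv D14437) (iv D13505) (iv F53182)
def n15264 : Q := act 5 n14421
theorem D15264 : act 5 n14421 = n15264 := rfl
theorem F60265 : act 1 n15264 = n14997 := d11_1 D15264 F60258 F60255
theorem F60266 : act 2 n15264 = n14423 := d17_1 D15264 (iv D14423) (iv F56884)
theorem F60267 : act 4 n15264 = n14771 := d26_1 D15264 (iv D14771) (iv D13861) (iv F53183) D14421
theorem F60268 : act 7 n15264 = n15000 := d31_2 F58153 D15264 F59193
def n15265 : Q := act 8 n14421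
theorem D15265 : act 8 n14421 = n15265 := rfl
theorem F60269 : act 2 n15265 = n14424 := d20_1 D15265 (iv D14424) (iv F56884)
theorem F60270 : act 4 n15265 = n14422 := d29_1 D15265 (iv D14422) D14421
def n15266 : Q := act 7 n14422
theorem D15266 : act 7 n14422 = n15266 := rfl
theorem F60271 : act 2 n15266 = n14425 := d19_1 D15266 (iv D14425) (iv F56885)
theorem F60272 : act 5 n15266 = n14773 := d31_1 D15266 (iv D14773) (iv F56887)
def n15267 : Q := act 6 n14423
theorem D15267 : act 6 n14423 = n15267 := rfl
theorem F60273 : act 1 n15267 = n14572 := d12_1 D15267 (iv D14572) (iv F56888)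
theorem F60274 : act 3 n15267 = n15267 := d23_1 D15267 (iv D15267) F56889
theorem F60275 : act 4 n15267 = n14774 := d27_1 D15267 (iv D14774) (iv F56890)
theorem F60276 : act 7 n15267 = n15016 := d33_2 (iv F56891) D15267 F59270
def n15268 : Q := act 8 n14423
theorem D15268 : act 8 n14423 = n15268 := rfl
theorem F60277 : act 1 n15268 = n14573 := d14_1 D15268 (iv D14573) (iv F56888)
theorem F60278 : act 3 n15268 = n15268 := d25_1 D15268 (iv D15268) F56889
theorem F60279 : act 4 n15268 = n14775 := d29_1 D15268 (iv D14775) (iv F56890)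
theorem F60280 : act 5 n15268 = n14424 := d32_1 D15268 (iv D14424) D14423
def n15269 : Q := act 7 n14424
theorem D15269 : act 7 n14424 = n15269 := rfl
theorem F60281 : act 1 n15269 = n14574 := d13_1 D15269 (iv D14574) (iv F56892)
theorem F60282 : act 4 n15269 = n14425 := d28_1 D15269 (iv D14425) (iv F56894)
def n15270 : Q := act 8 n14427
theorem D15270 : act 8 n14427 = n15270 := rfl
theorem F60283 : act 1 n15270 = n14591 := d14_1 D15270 (iv D14591) (iv F56905)
theorem F60284 : act 2 n15270 = n14428 := d20_1 D15270 (iv D14428) D14427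
theorem F60285 : act 4 n15270 = n14589 := d29_1 D15270 (iv D14589) (iv F56906)
theorem F60286 : act 5 n15270 = n14431 := d32_1 D15270 (iv D14431) (iv F56907)
theorem F60287 : act 6 n15270 = n14730 := d34_1 D15270 (iv D14730) (iv F56908)
def n15271 : Q := act 7 n14428
theorem D15271 : act 7 n14428 = n15271 := rfl
theorem F60288 : act 1 n15271 = n14498 := d13_1 D15271 (iv D14498) (iv F56910)
theorem F60289 : act 3 n15271 = n14505 := d24_1 D15271 (iv D14505) F53425 (iv F53203) (iv F56911)
theorem F60290 : act 4 n15271 = n14599 := d28_1 D15271 (iv D14599) (iv F56912)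
theorem F60291 : act 5 n15271 = n14433 := d31_1 D15271 (iv D14433) (iv F56913)
theorem F60292 : act 6 n15271 = n14756 := d33_1 D15271 (iv D14756) (iv F56914)
theorem F60293 : act 8 n15271 = n14447 := d35_2 D14428 D15271 (iv D14447) (iv D13512) (iv F53199)
def n15272 : Q := act 8 n14429
theorem D15272 : act 8 n14429 = n15272 := rfl
theorem F60294 : act 0 n15272 = n14740 := d7_1 D15272 (iv D14740) F56919
theorem F60295 : act 1 n15272 = n14431 := d14_1 D15272 (iv D14431) D14429
theorem F60296 : act 2 n15272 = n14499 := d20_1 D15272 (iv D14499) (iv F56915)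
theorem F60297 : act 4 n15272 = n15034 := d29_1 D15272 (iv D15034) F56920
theorem F60298 : act 5 n15272 = n14591 := d32_1 D15272 (iv D14591) (iv F56916)
theorem F60299 : act 6 n15272 = n14436 := d34_1 D15272 (iv D14436) (iv F56917)
def n15273 : Q := act 3 n14430
theorem D15273 : act 3 n14430 = n15273 := rfl
theorem F60300 : act 1 n15273 = n15031 := d9_1 D15273 F59316 (iv F56921)
theorem F60301 : act 2 n15273 = n15273 := d15_1 D15273 (iv D15273) F56922 F53207 (iv F56922)
theorem F60302 : act 5 n15273 = n15028 := d22_2 (iv F56923) D15273 (iv D15028)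
theorem F60303 : act 6 n15273 = n14437 := d23_2 (iv F56924) D15273 (iv D14437)
def n15274 : Q := act 8 n14430
theorem D15274 : act 8 n14430 = n15274 := rfl
theorem F60304 : act 1 n15274 = n15034 := d14_1 D15274 (iv D15034) (iv F56921)
theorem F60305 : act 2 n15274 = n14432 := d20_1 D15274 (iv D14432) (iv F56922)
theorem F60306 : act 4 n15274 = n14431 := d29_1 D15274 (iv D14431) D14430
theorem F60307 : act 5 n15274 = n15029 := d32_1 D15274 (iv D15029) (iv F56923)
theorem F60308 : act 6 n15274 = n14439 := d34_1 D15274 (iv D14439) (iv F56924)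
def n15275 : Q := act 7 n14431
theorem D15275 : act 7 n14431 = n15275 := rfl
theorem F60309 : act 2 n15275 = n14433 := d19_1 D15275 (iv D14433) (iv F56926)
theorem F60310 : act 6 n15275 = n14440 := d33_1 D15275 (iv D14440) (iv F56927)
theorem F60311 : act 8 n15275 = n14454 := d35_2 D14431 D15275 (iv D14454) (iv D13515) (iv F53205)
def n15276 : Q := act 7 n14432
theorem D15276 : act 7 n14432 = n15276 := rfl
theorem F60312 : act 1 n15276 = n14501 := d13_1 D15276 (iv D14501) (iv F56928)
theorem F60313 : act 4 n15276 = n14433 := d28_1 D15276 (iv D14433) (iv F56930)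
theorem F60314 : act 5 n15276 = n15058 := d31_1 D15276 (iv D15058) (iv F56931)
theorem F60315 : act 6 n15276 = n14443 := d33_1 D15276 (iv D14443) (iv F56932)
theorem F60316 : act 8 n15276 = n14457 := d35_2 D14432 D15276 (iv D14457) (iv D13517) (iv F53210)
def n15277 : Q := act 8 n14434
theorem D15277 : act 8 n14434 = n15277 := rfl
theorem F60317 : act 0 n15277 = n14436 := d7_1 D15277 (iv D14436) D14434
theorem F60318 : act 2 n15277 = n14502 := d20_1 D15277 (iv D14502) (iv F56937)
theorem F60319 : act 4 n15277 = n15094 := d29_1 D15277 (iv D15094) F56941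
theorem F60320 : act 5 n15277 = n14781 := d32_1 D15277 (iv D14781) (iv F56938)
theorem F60321 : act 6 n15277 = n14740 := d34_1 D15277 (iv D14740) (iv F56939)
def n15278 : Q := act 3 n14435
theorem D15278 : act 3 n14435 = n15278 := rfl
theorem F60322 : act 0 n15278 = n15089 := d2_1 D15278 F59497 (iv F56942)
theorem F60323 : act 1 n15278 = n14437 := d9_1 D15278 (iv D14437) (iv F56943)
theorem F60324 : act 2 n15278 = n15040 := d15_1 D15278 F59344 F55867 (iv F53421) (iv F56944)
theorem F60325 : act 6 n15278 = n15031 := d23_2 (iv F56945) D15278 F59316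
def n15279 : Q := act 5 n14435
theorem D15279 : act 5 n14435 = n15279 := rfl
theorem F60326 : act 0 n15279 = n14811 := d4_1 D15279 F58437 (iv F56942)
theorem F60327 : act 1 n15279 = n14438 := d11_1 D15279 (iv D14438) (iv F56943)
theorem F60328 : act 2 n15279 = n14503 := d17_1 D15279 (iv D14503) (iv F56944)
theorem F60329 : act 4 n15279 = n14783 := d26_1 D15279 (iv D14783) (iv D13871) (iv F53215) D14435
theorem F60330 : act 6 n15279 = n14805 := d30_2 (iv F56945) D15279 (iv D14805) F54728 D14165
theorem F60331 : act 7 n15279 = n14461 := d31_2 (iv F56946) D15279 (iv D14461)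
def n15280 : Q := act 8 n14435
theorem D15280 : act 8 n14435 = n15280 := rfl
theorem F60332 : act 0 n15280 = n15094 := d7_1 D15280 (iv D15094) (iv F56942)
theorem F60333 : act 1 n15280 = n14439 := d14_1 D15280 (iv D14439) (iv F56943)
theorem F60334 : act 2 n15280 = n14504 := d20_1 D15280 (iv D14504) (iv F56944)
theorem F60335 : act 4 n15280 = n14436 := d29_1 D15280 (iv D14436) D14435
theorem F60336 : act 6 n15280 = n15034 := d34_1 D15280 (iv D15034) (iv F56945)
def n15281 : Q := act 7 n14436
theorem D15281 : act 7 n14436 = n15281 := rfl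
theorem F60337 : act 1 n15281 = n14440 := d13_1 D15281 (iv D14440) (iv F56947)
theorem F60338 : act 2 n15281 = n14505 := d19_1 D15281 (iv D14505) (iv F56948)
theorem F60339 : act 5 n15281 = n14785 := d31_1 D15281 (iv D14785) (iv F56949)
theorem F60340 : act 8 n15281 = n14463 := d35_2 D14436 D15281 (iv D14463) (iv D13521) (iv F53216)
def n15282 : Q := act 5 n14437
theorem D15282 : act 5 n14437 = n15282 := rfl
theorem F60341 : act 2 n15282 = n15282 := d17_1 D15282 (iv D15282) F56950
theorem F60342 : act 3 n15282 = n14438 := d22_1 D15282 (iv D14438) D14437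
def n15283 : Q := act 7 n14437
theorem D15283 : act 7 n14437 = n15283 := rfl
theorem F60343 : act 2 n15283 = n15283 := d19_1 D15283 (iv D15283) F56950
theorem F60344 : act 3 n15283 = n14465 := d24_1 D15283 (iv D14465) (iv D13522) (iv F53218) D14437
def n15284 : Q := act 8 n14437
theorem D15284 : act 8 n14437 = n15284 := rfl
theorem F60345 : act 2 n15284 = n15284 := d20_1 D15284 (iv D15284) F56950
theorem F60346 : act 3 n15284 = n14439 := d25_1 D15284 (iv D14439) D14437
def n15285 : Q := act 6 n14438
theorem D15285 : act 6 n14438 = n15285 := rfl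
theorem F60347 : act 0 n15285 = n14650 := d5_1 D15285 (iv F59773) F59769
theorem F60348 : act 1 n15285 = n14805 := d12_1 D15285 (iv F60330) F60327
theorem F60349 : act 2 n15285 = n14441 := d18_1 D15285 (iv D14441) (iv F56951)
theorem F60350 : act 4 n15285 = n14789 := d27_1 D15285 (iv D14789) (iv F56952)
theorem F60351 : act 5 n15285 = n14647 := d30_1 D15285 F57850 (iv F56923) F56924 D14438
theorem F60352 : act 7 n15285 = n14467 := d33_2 (iv F56953) D15285 (iv D14467)
def n15286 : Q := act 8 n14438
theorem D15286 : act 8 n14438 = n15286 := rfl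
theorem F60353 : act 2 n15286 = n14442 := d20_1 D15286 (iv D14442) (iv F56951)
theorem F60354 : act 4 n15286 = n14790 := d29_1 D15286 (iv D14790) (iv F56952)
theorem F60355 : act 5 n15286 = n14439 := d32_1 D15286 (iv D14439) D14438
def n15287 : Q := act 7 n14439
theorem D15287 : act 7 n14439 = n15287 := rfl
theorem F60356 : act 2 n15287 = n14443 := d19_1 D15287 (iv D14443) (iv F56954)
theorem F60357 : act 4 n15287 = n14440 := d28_1 D15287 (iv D14440) (iv F56955)
theorem F60358 : act 8 n15287 = n14469 := d35_2 D14439 D15287 (iv D14469) (iv D13524) (iv F53218)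
def n15288 : Q := act 3 n14440
theorem D15288 : act 3 n14440 = n15288 := rfl
theorem F60359 : act 2 n15288 = n15085 := d15_1 D15288 (iv D15085) F56010 (iv F53229) (iv F56956)
theorem F60360 : act 5 n15288 = n14792 := d22_2 (iv F56957) D15288 (iv D14792)
theorem F60361 : act 8 n15288 = n14470 := d25_2 (iv F56958) D15288 (iv D14470)
def n15289 : Q := act 8 n14441
theorem D15289 : act 8 n14441 = n15289 := rfl
theorem F60362 : act 0 n15289 = n14702 := d7_1 D15289 (iv D14702) (iv F56959)
theorem F60363 : act 1 n15289 = n14508 := d14_1 D15289 (iv D14508) (iv F56960)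
theorem F60364 : act 3 n15289 = n15289 := d25_1 D15289 (iv D15289) F56961
theorem F60365 : act 4 n15289 = n14793 := d29_1 D15289 (iv D14793) (iv F56962)
theorem F60366 : act 5 n15289 = n14700 := d32_1 D15289 (iv D14700) (iv F56963)
theorem F60367 : act 6 n15289 = n14442 := d34_1 D15289 (iv D14442) D14441
def n15290 : Q := act 7 n14442
theorem D15290 : act 7 n14442 = n15290 := rfl
theorem F60368 : act 1 n15290 = n14509 := d13_1 D15290 (iv D14509) (iv F56965)
theorem F60369 : act 4 n15290 = n14794 := d28_1 D15290 (iv D14794) (iv F56967)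
theorem F60370 : act 5 n15290 = n14443 := d31_1 D15290 (iv D14443) (iv F56968)
theorem F60371 : act 8 n15290 = n14472 := d35_2 D14442 D15290 (iv D14472) (iv D13527) (iv F53224)
def n15291 : Q := act 3 n14443
theorem D15291 : act 3 n14443 = n15291 := rfl
theorem F60372 : act 1 n15291 = n14510 := d9_1 D15291 (iv D14510) (iv F56969)
theorem F60373 : act 4 n15291 = n15087 := d21_2 (iv F56970) D15291 (iv D15087) F56016 (iv F53229)
theorem F60374 : act 7 n15291 = n15291 := d24_2 D14443 D15291 (iv D15291) (iv D14443) F53226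
theorem F60375 : act 8 n15291 = n14473 := d25_2 (iv F56971) D15291 (iv D14473)
def n15292 : Q := act 3 n14444
theorem D15292 : act 3 n14444 = n15292 := rfl
theorem F60376 : act 1 n15292 = n14581 := d9_1 D15292 F57570 (iv F56972)
theorem F60377 : act 2 n15292 = n15292 := d15_1 D15292 (iv D15292) F56973 F53236 (iv F56973)
theorem F60378 : act 5 n15292 = n15017 := d22_2 F56976 D15292 F59272
theorem F60379 : act 6 n15292 = n14733 := d23_2 (iv F56974) D15292 (iv D14733)
theorem F60380 : act 7 n15292 = n15148 := d24_2 (iv F56975) D15292 F59690 F56349 (iv F53931)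
def n15293 : Q := act 8 n14444
theorem D15293 : act 8 n14444 = n15293 := rfl
theorem F60381 : act 1 n15293 = n14583 := d14_1 D15293 (iv D14583) (iv F56972)
theorem F60382 : act 2 n15293 = n14446 := d20_1 D15293 (iv D14446) (iv F56973)
theorem F60383 : act 4 n15293 = n14445 := d29_1 D15293 (iv D14445) D14444
theorem F60384 : act 5 n15293 = n15023 := d32_1 D15293 (iv D15023) F56976
theorem F60385 : act 6 n15293 = n14735 := d34_1 D15293 (iv D14735) (iv F56974)
def n15294 : Q := act 7 n14445
theorem D15294 : act 7 n14445 = n15294 := rfl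
theorem F60386 : act 1 n15294 = n14732 := d13_1 D15294 (iv D14732) (iv F56977)
theorem F60387 : act 2 n15294 = n14447 := d19_1 D15294 (iv D14447) (iv F56978)
theorem F60388 : act 5 n15294 = n14454 := d31_1 D15294 (iv D14454) (iv F56979)
theorem F60389 : act 6 n15294 = n14736 := d33_1 D15294 (iv D14736) (iv F56980)
def n15295 : Q := act 7 n14446
theorem D15295 : act 7 n14446 = n15295 := rfl
theorem F60390 : act 1 n15295 = n14511 := d13_1 D15295 (iv D14511) (iv F56981)
theorem F60391 : act 4 n15295 = n14447 := d28_1 D15295 (iv D14447) (iv F56983)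
theorem F60392 : act 5 n15295 = n15055 := d31_1 D15295 (iv D15055) (iv F56984)
theorem F60393 : act 6 n15295 = n14758 := d33_1 D15295 (iv D14758) (iv F56985)
theorem F60394 : act 8 n15295 = n14599 := d35_2 D14446 D15295 (iv D14599) (iv D13682) (iv F53238)
def n15296 : Q := act 8 n14448
theorem D15296 : act 8 n14448 = n15296 := rfl
theorem F60395 : act 0 n15296 = n14450 := d7_1 D15296 (iv D14450) D14448
theorem F60396 : act 2 n15296 = n14512 := d20_1 D15296 (iv D14512) (iv F56990)
theorem F60397 : act 3 n15296 = n15172 := d25_1 D15296 (iv D15172) (iv F56991)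
theorem F60398 : act 4 n15296 = n15083 := d29_1 D15296 (iv D15083) F56995
theorem F60399 : act 5 n15296 = n14586 := d32_1 D15296 (iv D14586) (iv F56992)
theorem F60400 : act 6 n15296 = n14459 := d34_1 D15296 (iv D14459) (iv F56993)
def n15297 : Q := act 3 n14449
theorem D15297 : act 3 n14449 = n15297 := rfl
theorem F60401 : act 0 n15297 = n15080 := d2_1 D15297 F59477 (iv F56996)
theorem F60402 : act 1 n15297 = n14451 := d9_1 D15297 (iv D14451) (iv F56997)
theorem F60403 : act 2 n15297 = n15297 := d15_1 D15297 (iv D15297) F56998 F53474 (iv F56998)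
theorem F60404 : act 4 n15297 = n15292 := d21_2 D14449 D15297 (iv D15292) (iv D14444) (iv F53245)
theorem F60405 : act 5 n15297 = n15024 := d22_2 (iv F56999) D15297 (iv D15024)
theorem F60406 : act 6 n15297 = n14460 := d23_2 (iv F57000) D15297 (iv D14460)
def n15298 : Q := act 8 n14449
theorem D15298 : act 8 n14449 = n15298 := rfl
theorem F60407 : act 0 n15298 = n15083 := d7_1 D15298 (iv D15083) (iv F56996)
theorem F60408 : act 1 n15298 = n14453 := d14_1 D15298 (iv D14453) (iv F56997)
theorem F60409 : act 2 n15298 = n14513 := d20_1 D15298 (iv D14513) (iv F56998)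
theorem F60410 : act 4 n15298 = n14450 := d29_1 D15298 (iv D14450) D14449
theorem F60411 : act 5 n15298 = n15025 := d32_1 D15298 (iv D15025) (iv F56999)
theorem F60412 : act 6 n15298 = n14462 := d34_1 D15298 (iv D14462) (iv F57000)
def n15299 : Q := act 7 n14450
theorem D15299 : act 7 n14450 = n15299 := rfl
theorem F60413 : act 1 n15299 = n14454 := d13_1 D15299 (iv D14454) (iv F57002)
theorem F60414 : act 2 n15299 = n14514 := d19_1 D15299 (iv D14514) (iv F57003)
theorem F60415 : act 5 n15299 = n14732 := d31_1 D15299 (iv D14732) (iv F57005)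
theorem F60416 : act 6 n15299 = n14463 := d33_1 D15299 (iv D14463) (iv F57006)
def n15300 : Q := act 5 n14451
theorem D15300 : act 5 n14451 = n15300 := rfl
theorem F60417 : act 0 n15300 = n15000 := d4_1 D15300 F59193 F58149
theorem F60418 : act 1 n15300 = n15024 := d11_1 D15300 (iv F60405) F60402
theorem F60419 : act 2 n15300 = n14474 := d17_1 D15300 (iv D14474) (iv F57007)
theorem F60420 : act 3 n15300 = n14452 := d22_1 D15300 (iv D14452) D14451
def n15301 : Q := act 8 n14451
theorem D15301 : act 8 n14451 = n15301 := rfl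
theorem F60421 : act 2 n15301 = n14475 := d20_1 D15301 (iv D14475) (iv F57007)
theorem F60422 : act 3 n15301 = n14453 := d25_1 D15301 (iv D14453) D14451
theorem F60423 : act 6 n15301 = n14466 := d34_1 D15301 (iv D14466) (iv F57008)
def n15302 : Q := act 6 n14452
theorem D15302 : act 6 n14452 = n15302 := rfl
theorem F60424 : act 0 n15302 = n14627 := d5_1 D15302 F57775 (iv F57009)
theorem F60425 : act 1 n15302 = n14780 := d12_1 D15302 F58343 (iv F57010)
theorem F60426 : act 2 n15302 = n14455 := d18_1 D15302 (iv D14455) (iv F57011)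
theorem F60427 : act 4 n15302 = n14626 := d27_1 D15302 F57771 (iv F57012)
theorem F60428 : act 5 n15302 = n14467 := d30_1 D15302 (iv D14467) (iv D13523) (iv F53249) D14452
theorem F60429 : act 7 n15302 = n14647 := d33_2 (iv F57013) D15302 F57850
def n15303 : Q := act 8 n14452
theorem D15303 : act 8 n14452 = n15303 := rfl
theorem F60430 : act 0 n15303 = n14850 := d7_1 D15303 F58554 (iv F57009)
theorem F60431 : act 1 n15303 = n15025 := d14_1 D15303 (iv D15025) (iv F57010)
theorem F60432 : act 2 n15303 = n14456 := d20_1 D15303 (iv D14456) (iv F57011)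
theorem F60433 : act 4 n15303 = n15023 := d29_1 D15303 (iv D15023) (iv F57012)
theorem F60434 : act 5 n15303 = n14453 := d32_1 D15303 (iv D14453) D14452
def n15304 : Q := act 7 n14453
theorem D15304 : act 7 n14453 = n15304 := rfl
theorem F60435 : act 2 n15304 = n14457 := d19_1 D15304 (iv D14457) (iv F57014)
theorem F60436 : act 4 n15304 = n14454 := d28_1 D15304 (iv D14454) (iv F57015)
theorem F60437 : act 6 n15304 = n14469 := d33_1 D15304 (iv D14469) (iv F57016)
def n15305 : Q := act 3 n14454
theorem D15305 : act 3 n14454 = n15305 := rfl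
theorem F60438 : act 2 n15305 = n14814 := d15_1 D15305 (iv D14814) F54744 (iv F53262) (iv F57017)
theorem F60439 : act 6 n15305 = n14470 := d23_2 (iv F57018) D15305 (iv D14470)
def n15306 : Q := act 8 n14455
theorem D15306 : act 8 n14455 = n15306 := rfl
theorem F60440 : act 0 n15306 = n14689 := d7_1 D15306 (iv D14689) (iv F57019)
theorem F60441 : act 1 n15306 = n14516 := d14_1 D15306 (iv D14516) (iv F57020)
theorem F60442 : act 3 n15306 = n14479 := d25_1 D15306 (iv D14479) (iv F57021)
theorem F60443 : act 4 n15306 = n14688 := d29_1 D15306 (iv D14688) (iv F57022)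
theorem F60444 : act 5 n15306 = n14471 := d32_1 D15306 (iv D14471) (iv F57023)
theorem F60445 : act 6 n15306 = n14456 := d34_1 D15306 (iv D14456) D14455
def n15307 : Q := act 7 n14456
theorem D15307 : act 7 n14456 = n15307 := rfl
theorem F60446 : act 0 n15307 = n14870 := d6_1 D15307 F58632 (iv F57025)
theorem F60447 : act 1 n15307 = n14517 := d13_1 D15307 (iv D14517) (iv F57026)
theorem F60448 : act 4 n15307 = n15055 := d28_1 D15307 (iv D15055) (iv F57028)
theorem F60449 : act 5 n15307 = n14457 := d31_1 D15307 (iv D14457) (iv F57029)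
theorem F60450 : act 8 n15307 = n15058 := d35_2 D14456 D15307 (iv D15058) (iv D14191) (iv F53256)
def n15308 : Q := act 3 n14457
theorem D15308 : act 3 n14457 = n15308 := rfl
theorem F60451 : act 1 n15308 = n14518 := d9_1 D15308 (iv D14518) (iv F57030)
theorem F60452 : act 4 n15308 = n14866 := d21_2 (iv F57031) D15308 (iv D14866) F54933 (iv F53262)
theorem F60453 : act 6 n15308 = n14473 := d23_2 (iv F57032) D15308 (iv D14473)
theorem F60454 : act 7 n15308 = n14481 := d24_2 D14457 D15308 (iv D14481) (iv D13535) (iv F53258)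
def n15309 : Q := act 3 n14458
theorem D15309 : act 3 n14458 = n15309 := rfl
theorem F60455 : act 0 n15309 = n14460 := d2_1 D15309 (iv D14460) (iv F57033)
theorem F60456 : act 2 n15309 = n15309 := d15_1 D15309 (iv D15309) F57034 F53509 (iv F57034)
theorem F60457 : act 6 n15309 = n15080 := d23_2 (iv F57035) D15309 F59477
def n15310 : Q := act 5 n14458
theorem D15310 : act 5 n14458 = n15310 := rfl
theorem F60458 : act 0 n15310 = n14461 := d4_1 D15310 (iv D14461) (iv F57033)
theorem F60459 : act 1 n15310 = n14789 := d11_1 D15310 F59849 F59845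
theorem F60460 : act 2 n15310 = n14519 := d17_1 D15310 (iv D14519) (iv F57034)
theorem F60461 : act 4 n15310 = n14805 := d26_1 D15310 (iv D14805) (iv D13887) (iv F53265) D14458
theorem F60462 : act 6 n15310 = n14783 := d30_2 (iv F57035) D15310 (iv D14783) F54684 D14215
theorem F60463 : act 7 n15310 = n14811 := d31_2 (iv F57036) D15310 F58437
def n15311 : Q := act 8 n14458
theorem D15311 : act 8 n14458 = n15311 := rfl
theorem F60464 : act 0 n15311 = n14462 := d7_1 D15311 (iv D14462) (iv F57033)
theorem F60465 : act 2 n15311 = n14520 := d20_1 D15311 (iv D14520) (iv F57034)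
theorem F60466 : act 4 n15311 = n14459 := d29_1 D15311 (iv D14459) D14458
theorem F60467 : act 6 n15311 = n15083 := d34_1 D15311 (iv D15083) (iv F57035)
def n15312 : Q := act 7 n14459
theorem D15312 : act 7 n14459 = n15312 := rfl
theorem F60468 : act 0 n15312 = n14463 := d6_1 D15312 (iv D14463) (iv F57037)
theorem F60469 : act 2 n15312 = n14521 := d19_1 D15312 (iv D14521) (iv F57038)
theorem F60470 : act 5 n15312 = n14807 := d31_1 D15312 (iv D14807) (iv F57039)
def n15313 : Q := act 5 n14460
theorem D15313 : act 5 n14460 = n15313 := rfl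
theorem F60471 : act 1 n15313 = n14464 := d11_1 D15313 (iv D14464) (iv F57040)
theorem F60472 : act 2 n15313 = n15313 := d17_1 D15313 (iv D15313) F57041
theorem F60473 : act 3 n15313 = n14461 := d22_1 D15313 (iv D14461) D14460
def n15314 : Q := act 7 n14460
theorem D15314 : act 7 n14460 = n15314 := rfl
theorem F60474 : act 1 n15314 = n14465 := d13_1 D15314 (iv D14465) (iv F57040)
theorem F60475 : act 2 n15314 = n15314 := d19_1 D15314 (iv D15314) F57041
def n15315 : Q := act 8 n14460
theorem D15315 : act 8 n14460 = n15315 := rfl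
theorem F60476 : act 1 n15315 = n14466 := d14_1 D15315 (iv D14466) (iv F57040)
theorem F60477 : act 2 n15315 = n15315 := d20_1 D15315 (iv D15315) F57041
theorem F60478 : act 3 n15315 = n14462 := d25_1 D15315 (iv D14462) D14460
def n15316 : Q := act 6 n14461
theorem D15316 : act 6 n14461 = n15316 := rfl
theorem F60479 : act 0 n15316 = n14783 := d5_1 D15316 (iv F60462) F60458
theorem F60480 : act 1 n15316 = n14467 := d12_1 D15316 (iv D14467) (iv F57042)
theorem F60481 : act 2 n15316 = n14522 := d18_1 D15316 (iv D14522) (iv F57043)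
theorem F60482 : act 4 n15316 = n14811 := d27_1 D15316 (iv D14811) (iv F57044)
theorem F60483 : act 5 n15316 = n14780 := d30_1 D15316 F58343 (iv F56999) F57000 D14461
theorem F60484 : act 7 n15316 = n14805 := d33_2 F60331 D15316 (iv F60330)
def n15317 : Q := act 8 n14461
theorem D15317 : act 8 n14461 = n15317 := rfl
theorem F60485 : act 1 n15317 = n14468 := d14_1 D15317 (iv D14468) (iv F57042)
theorem F60486 : act 2 n15317 = n14523 := d20_1 D15317 (iv D14523) (iv F57043)
theorem F60487 : act 4 n15317 = n14812 := d29_1 D15317 (iv D14812) (iv F57044)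
theorem F60488 : act 5 n15317 = n14462 := d32_1 D15317 (iv D14462) D14461
def n15318 : Q := act 7 n14462
theorem D15318 : act 7 n14462 = n15318 := rfl
theorem F60489 : act 1 n15318 = n14469 := d13_1 D15318 (iv D14469) (iv F57045)
theorem F60490 : act 2 n15318 = n14524 := d19_1 D15318 (iv D14524) (iv F57046)
theorem F60491 : act 4 n15318 = n14463 := d28_1 D15318 (iv D14463) (iv F57047)
def n15319 : Q := act 3 n14463
theorem D15319 : act 3 n14463 = n15319 := rfl
theorem F60492 : act 1 n15319 = n14470 := d9_1 D15319 (iv D14470) (iv F57048)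
theorem F60493 : act 5 n15319 = n14814 := d22_2 (iv F57050) D15319 (iv D14814)
def n15320 : Q := act 4 n14464
theorem D15320 : act 4 n14464 = n15320 := rfl
theorem F60494 : act 2 n15320 = n14482 := d16_1 D15320 (iv D14482) (iv F57051)
theorem F60495 : act 3 n15320 = n14815 := d21_1 D15320 (iv D14815) F54747 (iv F53273) (iv F57052)
def n15321 : Q := act 6 n14464
theorem D15321 : act 6 n14464 = n15321 := rfl
theorem F60496 : act 2 n15321 = n14483 := d18_1 D15321 (iv D14483) (iv F57051)
theorem F60497 : act 3 n15321 = n14467 := d23_1 D15321 (iv D14467) (iv F57052)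
def n15322 : Q := act 7 n14464
theorem D15322 : act 7 n14464 = n15322 := rfl
theorem F60498 : act 2 n15322 = n14484 := d19_1 D15322 (iv D14484) (iv F57051)
theorem F60499 : act 5 n15322 = n14465 := d31_1 D15322 (iv D14465) D14464
def n15323 : Q := act 8 n14464
theorem D15323 : act 8 n14464 = n15323 := rfl
theorem F60500 : act 2 n15323 = n14485 := d20_1 D15323 (iv D14485) (iv F57051)
theorem F60501 : act 3 n15323 = n14468 := d25_1 D15323 (iv D14468) (iv F57052)
theorem F60502 : act 5 n15323 = n14466 := d32_1 D15323 (iv D14466) D14464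
def n15324 : Q := act 8 n14465
theorem D15324 : act 8 n14465 = n15324 := rfl
theorem F60503 : act 2 n15324 = n14486 := d20_1 D15324 (iv D14486) (iv F57053)
def n15325 : Q := act 7 n14466
theorem D15325 : act 7 n14466 = n15325 := rfl
theorem F60504 : act 2 n15325 = n14487 := d19_1 D15325 (iv D14487) (iv F57054)
def n15326 : Q := act 8 n14467
theorem D15326 : act 8 n14467 = n15326 := rfl
theorem F60505 : act 2 n15326 = n14471 := d20_1 D15326 (iv D14471) (iv F57056)
theorem F60506 : act 4 n15326 = n14821 := d29_1 D15326 (iv D14821) (iv F57057)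
theorem F60507 : act 6 n15326 = n14468 := d34_1 D15326 (iv D14468) D14467
def n15327 : Q := act 7 n14468
theorem D15327 : act 7 n14468 = n15327 := rfl
theorem F60508 : act 2 n15327 = n14472 := d19_1 D15327 (iv D14472) (iv F57058)
theorem F60509 : act 4 n15327 = n14822 := d28_1 D15327 (iv D14822) (iv F57059)
theorem F60510 : act 5 n15327 = n14469 := d31_1 D15327 (iv D14469) (iv F57060)
def n15328 : Q := act 3 n14469
theorem D15328 : act 3 n14469 = n15328 := rfl
def n15329 : Q := act 4 n14470
theorem D15329 : act 4 n14470 = n15329 := rfl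
theorem F60511 : act 2 n15329 = n15097 := d16_1 D15329 (iv D15097) (iv F57063)
def n15330 : Q := act 7 n14471
theorem D15330 : act 7 n14471 = n15330 := rfl
theorem F60512 : act 1 n15330 = n14528 := d13_1 D15330 (iv D14528) (iv F57065)
theorem F60513 : act 4 n15330 = n14825 := d28_1 D15330 (iv D14825) (iv F57067)
theorem F60514 : act 6 n15330 = n14472 := d33_1 D15330 (iv D14472) (iv F57068)
def n15331 : Q := act 3 n14472
theorem D15331 : act 3 n14472 = n15331 := rfl
theorem F60515 : act 1 n15331 = n14529 := d9_1 D15331 (iv D14529) (iv F57069)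
theorem F60516 : act 5 n15331 = n14473 := d22_2 (iv F57071) D15331 (iv D14473)
theorem F60517 : act 7 n15331 = n14493 := d24_2 D14472 D15331 (iv D14493) (iv D13544) (iv F53282)
def n15332 : Q := act 2 n14473
theorem D15332 : act 2 n14473 = n15332 := rfl
theorem F60518 : act 4 n15332 = n15100 := d16_2 (iv F57073) D15332 (iv D15100)
theorem F60519 : act 7 n15332 = n14494 := d19_2 (iv F57074) D15332 (iv D14494)
def n15333 : Q := act 6 n14474
theorem D15333 : act 6 n14474 = n15333 := rfl
theorem F60520 : act 0 n15333 = n15016 := d5_1 D15333 F59270 (iv F57075)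
theorem F60521 : act 1 n15333 = n15333 := d12_1 D15333 (iv D15333) F57076
theorem F60522 : act 3 n15333 = n14476 := d23_1 D15333 (iv D14476) (iv F57077)
theorem F60523 : act 5 n15333 = n14483 := d30_1 D15333 (iv D14483) (iv D13536) (iv F53288) D14474
def n15334 : Q := act 8 n14474
theorem D15334 : act 8 n14474 = n15334 := rfl
theorem F60524 : act 0 n15334 = n14943 := d7_1 D15334 F58931 (iv F57075)
theorem F60525 : act 1 n15334 = n15334 := d14_1 D15334 (iv D15334) F57076
theorem F60526 : act 3 n15334 = n14477 := d25_1 D15334 (iv D14477) (iv F57077)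
theorem F60527 : act 5 n15334 = n14475 := d32_1 D15334 (iv D14475) D14474
def n15335 : Q := act 7 n14475
theorem D15335 : act 7 n14475 = n15335 := rfl
theorem F60528 : act 1 n15335 = n15335 := d13_1 D15335 (iv D15335) F57078
theorem F60529 : act 6 n15335 = n14487 := d33_1 D15335 (iv D14487) (iv F57080)
def n15336 : Q := act 8 n14476
theorem D15336 : act 8 n14476 = n15336 := rfl
theorem F60530 : act 0 n15336 = n14934 := d7_1 D15336 F58899 (iv F57081)
theorem F60531 : act 1 n15336 = n15336 := d14_1 D15336 (iv D15336) F57082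
theorem F60532 : act 2 n15336 = n14479 := d20_1 D15336 (iv D14479) (iv F57083)
theorem F60533 : act 4 n15336 = n15336 := d29_1 D15336 (iv D15336) F57084
theorem F60534 : act 5 n15336 = n14488 := d32_1 D15336 (iv D14488) (iv F57085)
theorem F60535 : act 6 n15336 = n14477 := d34_1 D15336 (iv D14477) D14476
theorem F60536 : act 7 n15145 = n15336 := d19_0 F60532 (iv F57102) (iv F59676)
def n15337 : Q := act 7 n14477
theorem D15337 : act 7 n14477 = n15337 := rfl
theorem F60537 : act 0 n15337 = n14922 := d6_1 D15337 F58842 (iv F57087)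
theorem F60538 : act 1 n15337 = n15337 := d13_1 D15337 (iv D15337) F57088
theorem F60539 : act 2 n15337 = n14480 := d19_1 D15337 (iv D14480) (iv F57089)
theorem F60540 : act 4 n15337 = n15337 := d28_1 D15337 (iv D15337) F57090
theorem F60541 : act 5 n15337 = n14478 := d31_1 D15337 (iv D14478) (iv F57091)
theorem F60542 : act 6 n15337 = n15145 := d33_1 D15337 F60536 F60535
theorem F60543 : act 8 n15337 = n15337 := d35_2 D14477 D15337 (iv D15337) (iv D14477) F53293
def n15338 : Q := act 3 n14478
theorem D15338 : act 3 n14478 = n15338 := rfl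
theorem F60544 : act 1 n15338 = n15338 := d9_1 D15338 (iv D15338) F57092
theorem F60545 : act 6 n15338 = n14490 := d23_2 (iv F57095) D15338 (iv D14490)
theorem F60546 : act 8 n15338 = n15338 := d25_2 F57096 D15338 (iv D15338)
def n15339 : Q := act 3 n14480
theorem D15339 : act 3 n14480 = n15339 := rfl
theorem F60547 : act 0 n15339 = n14952 := d2_1 D15339 F58966 (iv F57103)
theorem F60548 : act 1 n15339 = n14531 := d9_1 D15339 (iv D14531) (iv F57104)
theorem F60549 : act 5 n15339 = n14481 := d22_2 (iv F57106) D15339 (iv D14481)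
theorem F60550 : act 6 n15339 = n15127 := d23_2 (iv F57107) D15339 F59616
theorem F60551 : act 8 n15339 = n15339 := d25_2 F57108 D15339 (iv D15339)
def n15340 : Q := act 2 n14481
theorem D15340 : act 2 n14481 = n15340 := rfl
theorem F60552 : act 4 n15340 = n14950 := d16_2 (iv F57110) D15340 (iv D14950)
theorem F60553 : act 6 n15340 = n14494 := d18_2 (iv F57111) D15340 (iv D14494)
theorem F60554 : act 8 n15340 = n15340 := d20_2 F57112 D15340 (iv D15340)
def n15341 : Q := act 8 n14482
theorem D15341 : act 8 n14482 = n15341 := rfl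
theorem F60555 : act 1 n15341 = n15341 := d14_1 D15341 (iv D15341) F57113
theorem F60556 : act 3 n15341 = n14495 := d25_1 D15341 (iv D14495) (iv F57114)
theorem F60557 : act 4 n15341 = n14485 := d29_1 D15341 (iv D14485) D14482
def n15342 : Q := act 8 n14483
theorem D15342 : act 8 n14483 = n15342 := rfl
theorem F60558 : act 1 n15342 = n15342 := d14_1 D15342 (iv D15342) F57115
theorem F60559 : act 3 n15342 = n14488 := d25_1 D15342 (iv D14488) (iv F57116)
theorem F60560 : act 6 n15342 = n14485 := d34_1 D15342 (iv D14485) D14483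
def n15343 : Q := act 8 n14484
theorem D15343 : act 8 n14484 = n15343 := rfl
theorem F60561 : act 1 n15343 = n15343 := d14_1 D15343 (iv D15343) F57117
theorem F60562 : act 3 n15343 = n15343 := d25_1 D15343 (iv D15343) F57118
theorem F60563 : act 5 n15343 = n14486 := d32_1 D15343 (iv D14486) (iv F57119)
def n15344 : Q := act 7 n14485
theorem D15344 : act 7 n14485 = n15344 := rfl
theorem F60564 : act 1 n15344 = n15344 := d13_1 D15344 (iv D15344) F57120
theorem F60565 : act 5 n15344 = n14487 := d31_1 D15344 (iv D14487) (iv F57122)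
def n15345 : Q := act 7 n14486
theorem D15345 : act 7 n14486 = n15345 := rfl
theorem F60566 : act 1 n15345 = n15345 := d13_1 D15345 (iv D15345) F57123
theorem F60567 : act 8 n15345 = n14487 := d35_2 D14486 D15345 (iv D14487) (iv D13538) D13537
def n15346 : Q := act 3 n14487
theorem D15346 : act 3 n14487 = n15346 := rfl
theorem F60568 : act 1 n15346 = n15346 := d9_1 D15346 (iv D15346) F57125
theorem F60569 : act 7 n15346 = n14490 := d24_2 D14487 D15346 (iv D14490) (iv D13541) (iv F53321)
def n15347 : Q := act 7 n14488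
theorem D15347 : act 7 n14488 = n15347 := rfl
theorem F60570 : act 0 n15347 = n15144 := d6_1 D15347 F59941 F59935
theorem F60571 : act 1 n15347 = n15347 := d13_1 D15347 (iv D15347) F57126
theorem F60572 : act 2 n15347 = n14492 := d19_1 D15347 (iv D14492) (iv F57127)
theorem F60573 : act 4 n15347 = n14497 := d28_1 D15347 (iv D14497) (iv F57128)
theorem F60574 : act 5 n15347 = n15145 := d31_1 D15347 F60536 F60534
theorem F60575 : act 6 n15347 = n14489 := d33_1 D15347 (iv D14489) (iv F57129)
theorem F60576 : act 8 n15347 = n15347 := d35_2 D14488 D15347 (iv D15347) (iv D14488) F53325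
def n15348 : Q := act 3 n14489
theorem D15348 : act 3 n14489 = n15348 := rfl
theorem F60577 : act 1 n15348 = n15348 := d9_1 D15348 (iv D15348) F57130
theorem F60578 : act 5 n15348 = n14490 := d22_2 (iv F57133) D15348 (iv D14490)
theorem F60579 : act 8 n15348 = n15348 := d25_2 F57134 D15348 (iv D15348)
def n15349 : Q := act 2 n14490
theorem D15349 : act 2 n14490 = n15349 := rfl
theorem F60580 : act 3 n15349 = n14494 := d15_2 D14490 D15349 (iv D14494) (iv D13545) (iv F53331)
theorem F60581 : act 8 n15349 = n15349 := d20_2 F57136 D15349 (iv D15349)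
def n15350 : Q := act 4 n14490
theorem D15350 : act 4 n14490 = n15350 := rfl
theorem F60582 : act 1 n15350 = n15350 := d10_1 D15350 (iv D15350) F57135
theorem F60583 : act 3 n15350 = n14491 := d21_1 D15350 (iv D14491) (iv D13542) (iv F53332) D14490
theorem F60584 : act 8 n15350 = n15350 := d29_2 F57136 D15350 (iv D15350)
def n15351 : Q := act 2 n14493
theorem D15351 : act 2 n14493 = n15351 := rfl
theorem F60585 : act 5 n15351 = n14494 := d17_2 (iv F57147) D15351 (iv D14494)
theorem F60586 : act 8 n15351 = n15351 := d20_2 F57148 D15351 (iv D15351)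
def n15352 : Q := act 1 n14494
theorem D15352 : act 1 n14494 = n15352 := rfl
theorem F60587 : act 2 n15352 = n14534 := d8_2 D14494 D15352 (iv D14534) (iv D13595) (iv F53345)
theorem F60588 : act 4 n15352 = n15114 := d10_2 (iv F57149) D15352 (iv D15114)
theorem F60589 : act 8 n15352 = n15352 := d14_2 F57150 D15352 (iv D15352)
def n15353 : Q := act 7 n14499
theorem D15353 : act 7 n14499 = n15353 := rfl
theorem F60590 : act 0 n15353 = n14743 := d6_1 D15353 (iv D14743) (iv F57171)
theorem F60591 : act 1 n15353 = n14500 := d13_1 D15353 (iv D14500) (iv F57172)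
theorem F60592 : act 3 n15353 = n14756 := d24_1 D15353 (iv D14756) F54607 (iv F53836) (iv F57173)
theorem F60593 : act 4 n15353 = n15037 := d28_1 D15353 (iv D15037) (iv F57174)
theorem F60594 : act 5 n15353 = n14593 := d31_1 D15353 (iv D14593) (iv F57175)
theorem F60595 : act 6 n15353 = n14505 := d33_1 D15353 (iv D14505) (iv F57176)
theorem F60596 : act 8 n15353 = n14514 := d35_2 D14499 D15353 (iv D14514) (iv D13573) (iv F53396)
def n15354 : Q := act 3 n14501
theorem D15354 : act 3 n14501 = n15354 := rfl
theorem F60597 : act 0 n15354 = n14535 := d2_1 D15354 (iv D14535) (iv F57184)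
theorem F60598 : act 4 n15354 = n14859 := d21_2 (iv F57186) D15354 (iv D14859) F54898 (iv F53410)
theorem F60599 : act 5 n15354 = n15060 := d22_2 (iv F57187) D15354 (iv D15060)
theorem F60600 : act 6 n15354 = n14510 := d23_2 (iv F57188) D15354 (iv D14510)
theorem F60601 : act 7 n15354 = n15354 := d24_2 D14501 D15354 (iv D15354) (iv D14501) F53405
theorem F60602 : act 8 n15354 = n14518 := d25_2 (iv F57189) D15354 (iv D14518)
def n15355 : Q := act 7 n14502
theorem D15355 : act 7 n14502 = n15355 := rfl
theorem F60603 : act 0 n15355 = n14505 := d6_1 D15355 (iv D14505) (iv F57190)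
theorem F60604 : act 1 n15355 = n14536 := d13_1 D15355 (iv D14536) (iv F57191)
theorem F60605 : act 4 n15355 = n15098 := d28_1 D15355 (iv D15098) (iv F57193)
theorem F60606 : act 5 n15355 = n14855 := d31_1 D15355 (iv D14855) (iv F57194)
theorem F60607 : act 6 n15355 = n14743 := d33_1 D15355 (iv D14743) (iv F57195)
theorem F60608 : act 8 n15355 = n14521 := d35_2 D14502 D15355 (iv D14521) (iv D13580) (iv F53417)
def n15356 : Q := act 8 n14503
theorem D15356 : act 8 n14503 = n15356 := rfl
theorem F60609 : act 0 n15356 = n14864 := d7_1 D15356 (iv D14864) (iv F57196)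
theorem F60610 : act 1 n15356 = n14506 := d14_1 D15356 (iv D14506) (iv F57197)
theorem F60611 : act 3 n15356 = n14945 := d25_1 D15356 (iv D14945) (iv F57198)
theorem F60612 : act 4 n15356 = n14856 := d29_1 D15356 (iv D14856) (iv F57199)
theorem F60613 : act 5 n15356 = n14504 := d32_1 D15356 (iv D14504) D14503
theorem F60614 : act 6 n15356 = n14862 := d34_1 D15356 (iv D14862) (iv F57200)
def n15357 : Q := act 7 n14504
theorem D15357 : act 7 n14504 = n15357 := rfl
theorem F60615 : act 0 n15357 = n15098 := d6_1 D15357 (iv D15098) (iv F57202)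
theorem F60616 : act 1 n15357 = n14507 := d13_1 D15357 (iv D14507) (iv F57203)
theorem F60617 : act 4 n15357 = n14505 := d28_1 D15357 (iv D14505) (iv F57205)
theorem F60618 : act 6 n15357 = n15037 := d33_1 D15357 (iv D15037) (iv F57206)
theorem F60619 : act 8 n15357 = n14524 := d35_2 D14504 D15357 (iv D14524) (iv D13582) (iv F53423)
def n15358 : Q := act 7 n14506
theorem D15358 : act 7 n14506 = n15358 := rfl
theorem F60620 : act 0 n15358 = n14537 := d6_1 D15358 (iv D14537) (iv F57210)
theorem F60621 : act 2 n15358 = n14509 := d19_1 D15358 (iv D14509) (iv F57211)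
theorem F60622 : act 4 n15358 = n14858 := d28_1 D15358 (iv D14858) (iv F57213)
theorem F60623 : act 5 n15358 = n14507 := d31_1 D15358 (iv D14507) (iv F57214)
theorem F60624 : act 6 n15358 = n14874 := d33_1 D15358 (iv D14874) (iv F57215)
theorem F60625 : act 8 n15358 = n14526 := d35_2 D14506 D15358 (iv D14526) (iv D13585) (iv F53432)
def n15359 : Q := act 3 n14507
theorem D15359 : act 3 n14507 = n15359 := rfl
theorem F60626 : act 0 n15359 = n14538 := d2_1 D15359 (iv D14538) (iv F57216)
theorem F60627 : act 4 n15359 = n14600 := d21_2 (iv F57218) D15359 (iv D14600) (iv F57167) F57166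
theorem F60628 : act 6 n15359 = n15062 := d23_2 (iv F57219) D15359 (iv D15062)
theorem F60629 : act 7 n15359 = n14605 := d24_2 D14507 D15359 F57688 (iv D14197) (iv F53435)
theorem F60630 : act 8 n15359 = n14527 := d25_2 (iv F57220) D15359 (iv D14527)
theorem F60631 : act 2 n14707 = n15359 := d19_3 F60629 F57687 (iv F58077)
def n15360 : Q := act 7 n14508
theorem D15360 : act 7 n14508 = n15360 := rfl
theorem F60632 : act 0 n15360 = n14539 := d6_1 D15360 (iv D14539) (iv F57221)
theorem F60633 : act 2 n15360 = n14874 := d19_1 D15360 (iv D14874) (iv F57222)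
theorem F60634 : act 4 n15360 = n14860 := d28_1 D15360 (iv D14860) (iv F57224)
theorem F60635 : act 5 n15360 = n14721 := d31_1 D15360 (iv D14721) (iv F57225)
theorem F60636 : act 6 n15360 = n14509 := d33_1 D15360 (iv D14509) (iv F57226)
theorem F60637 : act 8 n15360 = n14528 := d35_2 D14508 D15360 (iv D14528) (iv D13587) (iv F53447)
def n15361 : Q := act 3 n14509
theorem D15361 : act 3 n14509 = n15361 := rfl
theorem F60638 : act 0 n15361 = n14540 := d2_1 D15361 (iv D14540) (iv F57227)
theorem F60639 : act 5 n15361 = n14510 := d22_2 (iv F57229) D15361 (iv D14510)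
theorem F60640 : act 7 n15361 = n15361 := d24_2 D14509 D15361 (iv D15361) (iv D14509) F53449
theorem F60641 : act 8 n15361 = n14529 := d25_2 (iv F57230) D15361 (iv D14529)
def n15362 : Q := act 2 n14510
theorem D15362 : act 2 n14510 = n15362 := rfl
theorem F60642 : act 0 n15362 = n14541 := d1_1 D15362 (iv D14541) (iv F57231)
theorem F60643 : act 3 n15362 = n14707 := d15_2 D14510 D15362 F60631 (iv D15359) F57217
theorem F60644 : act 4 n15362 = n14706 := d16_2 (iv F57232) D15362 F58073
theorem F60645 : act 7 n15362 = n15362 := d19_2 F57233 D15362 (iv D15362)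
theorem F60646 : act 8 n15362 = n14530 := d20_2 (iv F57234) D15362 (iv D14530)
def n15363 : Q := act 3 n14511
theorem D15363 : act 3 n14511 = n15363 := rfl
theorem F60647 : act 0 n15363 = n14542 := d2_1 D15363 (iv D14542) (iv F57235)
theorem F60648 : act 2 n15363 = n14692 := d15_1 D15363 (iv D14692) F54316 (iv F53973) (iv F57236)
theorem F60649 : act 4 n15363 = n14527 := d21_2 (iv F57237) D15363 (iv D14527) F53537 (iv F53463)
theorem F60650 : act 5 n15363 = n15056 := d22_2 (iv F57238) D15363 (iv D15056)
theorem F60651 : act 6 n15363 = n14760 := d23_2 (iv F57239) D15363 (iv D14760)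
theorem F60652 : act 7 n15363 = n15363 := d24_2 D14511 D15363 (iv D15363) (iv D14511) F53457
theorem F60653 : act 8 n15363 = n14600 := d25_2 (iv F57240) D15363 (iv D14600)
def n15364 : Q := act 7 n14512
theorem D15364 : act 7 n14512 = n15364 := rfl
theorem F60654 : act 0 n15364 = n14514 := d6_1 D15364 (iv D14514) (iv F57241)
theorem F60655 : act 1 n15364 = n14543 := d13_1 D15364 (iv D14543) (iv F57242)
theorem F60656 : act 3 n15364 = n14638 := d24_1 D15364 (iv D14638) F54129 (iv F53583) (iv F57243)
theorem F60657 : act 4 n15364 = n15086 := d28_1 D15364 (iv D15086) (iv F57244)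
theorem F60658 : act 5 n15364 = n14587 := d31_1 D15364 (iv D14587) (iv F57245)
theorem F60659 : act 6 n15364 = n14521 := d33_1 D15364 (iv D14521) (iv F57246)
theorem F60660 : act 8 n15364 = n14743 := d35_2 D14512 D15364 (iv D14743) (iv D13830) (iv F53470)
def n15365 : Q := act 7 n14513
theorem D15365 : act 7 n14513 = n15365 := rfl
theorem F60661 : act 0 n15365 = n15086 := d6_1 D15365 (iv D15086) (iv F57247)
theorem F60662 : act 1 n15365 = n14515 := d13_1 D15365 (iv D14515) (iv F57248)
theorem F60663 : act 4 n15365 = n14514 := d28_1 D15365 (iv D14514) (iv F57250)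
theorem F60664 : act 5 n15365 = n15027 := d31_1 D15365 (iv D15027) (iv F57251)
theorem F60665 : act 6 n15365 = n14524 := d33_1 D15365 (iv D14524) (iv F57252)
theorem F60666 : act 8 n15365 = n15037 := d35_2 D14513 D15365 (iv D15037) (iv D14168) (iv F53477)
def n15366 : Q := act 3 n14515
theorem D15366 : act 3 n14515 = n15366 := rfl
theorem F60667 : act 0 n15366 = n14544 := d2_1 D15366 (iv D14544) (iv F57257)
theorem F60668 : act 4 n15366 = n14760 := d21_2 (iv F57259) D15366 (iv D14760) F54628 (iv F53490)
theorem F60669 : act 5 n15366 = n15057 := d22_2 (iv F57260) D15366 (iv D15057)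
theorem F60670 : act 6 n15366 = n14527 := d23_2 (iv F57261) D15366 (iv D14527)
theorem F60671 : act 7 n15366 = n15366 := d24_2 D14515 D15366 (iv D15366) (iv D14515) F53484
theorem F60672 : act 8 n15366 = n15062 := d25_2 (iv F57262) D15366 (iv D15062)
def n15367 : Q := act 7 n14516
theorem D15367 : act 7 n14516 = n15367 := rfl
theorem F60673 : act 0 n15367 = n14545 := d6_1 D15367 (iv D14545) (iv F57263)
theorem F60674 : act 2 n15367 = n14871 := d19_1 D15367 (iv D14871) (iv F57264)
theorem F60675 : act 3 n15367 = n15128 := d24_1 D15367 F59618 F56160 F53553 (iv F57265)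
theorem F60676 : act 4 n15367 = n14716 := d28_1 D15367 (iv D14716) (iv F57266)
theorem F60677 : act 5 n15367 = n14528 := d31_1 D15367 (iv D14528) (iv F57267)
theorem F60678 : act 6 n15367 = n14517 := d33_1 D15367 (iv D14517) (iv F57268)
theorem F60679 : act 8 n15367 = n14721 := d35_2 D14516 D15367 (iv D14721) (iv D13805) (iv F53498)
def n15368 : Q := act 3 n14517
theorem D15368 : act 3 n14517 = n15368 := rfl
theorem F60680 : act 0 n15368 = n14546 := d2_1 D15368 (iv D14546) (iv F57269)
theorem F60681 : act 5 n15368 = n14518 := d22_2 (iv F57272) D15368 (iv D14518)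
theorem F60682 : act 6 n15368 = n15128 := d23_2 F60678 D15368 (iv F60675)
theorem F60683 : act 7 n15368 = n14531 := d24_2 D14517 D15368 (iv D14531) (iv D13591) (iv F53501)
theorem F60684 : act 8 n15368 = n15060 := d25_2 (iv F57273) D15368 (iv D15060)
def n15369 : Q := act 2 n14518
theorem D15369 : act 2 n14518 = n15369 := rfl
theorem F60685 : act 0 n15369 = n14547 := d1_1 D15369 (iv D14547) (iv F57274)
theorem F60686 : act 4 n15369 = n14869 := d16_2 (iv F57275) D15369 (iv D14869)
theorem F60687 : act 6 n15369 = n14530 := d18_2 (iv F57276) D15369 (iv D14530)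
theorem F60688 : act 7 n15369 = n14532 := d19_2 (iv F57277) D15369 (iv D14532)
def n15370 : Q := act 8 n14519
theorem D15370 : act 8 n14519 = n15370 := rfl
theorem F60689 : act 0 n15370 = n14523 := d7_1 D15370 (iv D14523) (iv F57278)
theorem F60690 : act 1 n15370 = n14548 := d14_1 D15370 (iv D14548) (iv F57279)
theorem F60691 : act 3 n15370 = n15370 := d25_1 D15370 (iv D15370) F57280
theorem F60692 : act 4 n15370 = n14862 := d29_1 D15370 (iv D14862) (iv F57281)
theorem F60693 : act 5 n15370 = n14520 := d32_1 D15370 (iv D14520) D14519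
theorem F60694 : act 6 n15370 = n14856 := d34_1 D15370 (iv D14856) (iv F57282)
def n15371 : Q := act 7 n14520
theorem D15371 : act 7 n14520 = n15371 := rfl
theorem F60695 : act 0 n15371 = n14524 := d6_1 D15371 (iv D14524) (iv F57284)
theorem F60696 : act 1 n15371 = n14549 := d13_1 D15371 (iv D14549) (iv F57285)
theorem F60697 : act 4 n15371 = n14521 := d28_1 D15371 (iv D14521) (iv F57287)
theorem F60698 : act 6 n15371 = n15086 := d33_1 D15371 (iv D15086) (iv F57288)
theorem F60699 : act 8 n15371 = n15098 := d35_2 D14520 D15371 (iv D15098) (iv D14227) (iv F53511)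
def n15372 : Q := act 8 n14522
theorem D15372 : act 8 n14522 = n15372 := rfl
theorem F60700 : act 0 n15372 = n14856 := d7_1 D15372 (iv D14856) (iv F57292)
theorem F60701 : act 1 n15372 = n14525 := d14_1 D15372 (iv D14525) (iv F57293)
theorem F60702 : act 3 n15372 = n15372 := d25_1 D15372 (iv D15372) F57294
theorem F60703 : act 4 n15372 = n14864 := d29_1 D15372 (iv D14864) (iv F57295)
theorem F60704 : act 5 n15372 = n14854 := d32_1 D15372 (iv D14854) (iv F57296)
theorem F60705 : act 6 n15372 = n14523 := d34_1 D15372 (iv D14523) D14522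
def n15373 : Q := act 7 n14523
theorem D15373 : act 7 n14523 = n15373 := rfl
theorem F60706 : act 1 n15373 = n14526 := d13_1 D15373 (iv D14526) (iv F57298)
theorem F60707 : act 4 n15373 = n14865 := d28_1 D15373 (iv D14865) (iv F57300)
theorem F60708 : act 5 n15373 = n14524 := d31_1 D15373 (iv D14524) (iv F57301)
def n15374 : Q := act 3 n14524
theorem D15374 : act 3 n14524 = n15374 := rfl
theorem F60709 : act 1 n15374 = n14527 := d9_1 D15374 (iv D14527) (iv F57302)
theorem F60710 : act 7 n15374 = n15374 := d24_2 D14524 D15374 (iv D15374) (iv D14524) F53520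
def n15375 : Q := act 7 n14525
theorem D15375 : act 7 n14525 = n15375 := rfl
theorem F60711 : act 0 n15375 = n14552 := d6_1 D15375 (iv D14552) (iv F57304)
theorem F60712 : act 2 n15375 = n14528 := d19_1 D15375 (iv D14528) (iv F57305)
theorem F60713 : act 4 n15375 = n14867 := d28_1 D15375 (iv D14867) (iv F57307)
theorem F60714 : act 5 n15375 = n14871 := d31_1 D15375 (iv D14871) (iv F57308)
theorem F60715 : act 6 n15375 = n14526 := d33_1 D15375 (iv D14526) (iv F57309)
theorem F60716 : act 8 n15375 = n14874 := d35_2 D14525 D15375 (iv D14874) (iv D13964) (iv F53529)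
def n15376 : Q := act 3 n14526
theorem D15376 : act 3 n14526 = n15376 := rfl
theorem F60717 : act 0 n15376 = n14553 := d2_1 D15376 (iv D14553) (iv F57310)
theorem F60718 : act 5 n15376 = n14527 := d22_2 (iv F57313) D15376 (iv D14527)
theorem F60719 : act 7 n15376 = n15376 := d24_2 D14526 D15376 (iv D15376) (iv D14526) F53532
def n15377 : Q := act 2 n14527
theorem D15377 : act 2 n14527 = n15377 := rfl
theorem F60720 : act 0 n15377 = n14554 := d1_1 D15377 (iv D14554) (iv F57314)
theorem F60721 : act 3 n15377 = n14530 := d15_2 D14527 D15377 (iv D14530) (iv D13589) (iv F53536)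
theorem F60722 : act 4 n15377 = n14692 := d16_2 F60649 D15377 (iv F60648)
theorem F60723 : act 7 n15377 = n15377 := d19_2 F57315 D15377 (iv D15377)
theorem F60724 : act 8 n15377 = n14707 := d20_2 F60630 D15377 F60631
def n15378 : Q := act 2 n14529
theorem D15378 : act 2 n14529 = n15378 := rfl
theorem F60725 : act 0 n15378 = n14555 := d1_1 D15378 (iv D14555) (iv F57319)
theorem F60726 : act 4 n15378 = n14722 := d16_2 F60044 D15378 (iv F60043)
theorem F60727 : act 5 n15378 = n14530 := d17_2 (iv F57320) D15378 (iv D14530)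
theorem F60728 : act 6 n15378 = n15061 := d18_2 F60086 D15378 (iv F60084)
theorem F60729 : act 7 n15378 = n14533 := d19_2 (iv F57321) D15378 (iv D14533)
def n15379 : Q := act 1 n14530
theorem D15379 : act 1 n14530 = n15379 := rfl
theorem F60730 : act 4 n15379 = n15125 := d10_2 (iv F57323) D15379 (iv D15125)
theorem F60731 : act 7 n15379 = n14534 := d13_2 (iv F57324) D15379 (iv D14534)
def n15380 : Q := act 2 n14531
theorem D15380 : act 2 n14531 = n15380 := rfl
theorem F60732 : act 0 n15380 = n14557 := d1_1 D15380 (iv D14557) (iv F57325)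
theorem F60733 : act 3 n15380 = n15380 := d15_2 D14531 D15380 (iv D15380) (iv D14531) F53555
theorem F60734 : act 5 n15380 = n14532 := d17_2 (iv F57326) D15380 (iv D14532)
theorem F60735 : act 6 n15380 = n15067 := d18_2 (iv F57327) D15380 F59441
theorem F60736 : act 8 n15380 = n15380 := d20_2 F57328 D15380 (iv D15380)
theorem F60737 : act 4 n14954 = n15380 := d27_3 F60735 (iv F60226) F60228
def n15381 : Q := act 4 n14531
theorem D15381 : act 4 n14531 = n15381 := rfl
theorem F60738 : act 0 n15381 = n14558 := d3_1 D15381 (iv D14558) (iv F57325)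
theorem F60739 : act 2 n15381 = n14954 := d16_1 D15381 F60737 (iv D15380)
theorem F60740 : act 3 n15381 = n15381 := d21_1 D15381 (iv D15381) (iv D14531) F53556 D14531
theorem F60741 : act 5 n15381 = n14951 := d26_2 (iv F57326) D15381 (iv D14951) F55339 (iv F53561)
theorem F60742 : act 6 n15381 = n14559 := d27_2 (iv F57327) D15381 F57464
theorem F60743 : act 8 n15381 = n15381 := d29_2 F57328 D15381 (iv D15381)
def n15382 : Q := act 1 n14532
theorem D15382 : act 1 n14532 = n15382 := rfl
theorem F60744 : act 3 n15382 = n15382 := d9_2 F57330 D15382 (iv D15382)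
theorem F60745 : act 4 n15382 = n14952 := d10_2 (iv F57331) D15382 (iv D14952)
theorem F60746 : act 6 n15382 = n14534 := d12_2 (iv F57332) D15382 (iv D14534)
theorem F60747 : act 8 n15382 = n15382 := d14_2 F57333 D15382 (iv D15382)
def n15383 : Q := act 1 n14533
theorem D15383 : act 1 n14533 = n15383 := rfl
theorem F60748 : act 0 n15383 = n14714 := d0_1 D15383 F58100 F54422 F53722 (iv F57334)
theorem F60749 : act 3 n15383 = n15383 := d9_2 F57335 D15383 (iv D15383)
theorem F60750 : act 4 n15383 = n14712 := d10_2 (iv F57336) D15383 F58096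
theorem F60751 : act 5 n15383 = n14534 := d11_2 (iv F57337) D15383 (iv D14534)
theorem F60752 : act 6 n15383 = n15066 := d12_2 (iv F57338) D15383 F59437
theorem F60753 : act 8 n15383 = n15383 := d14_2 F57339 D15383 (iv D15383)
def n15384 : Q := act 0 n14534
theorem D15384 : act 0 n14534 = n15384 := rfl
theorem F60754 : act 1 n15384 = n14559 := d0_2 D14534 D15384 (iv D14559) (iv D13628) (iv F53573)
theorem F60755 : act 3 n15384 = n15384 := d2_2 F57340 D15384 (iv D15384)
theorem F60756 : act 4 n15384 = n15127 := d3_2 (iv F57341) D15384 (iv D15127)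
theorem F60757 : act 5 n15384 = n14714 := d4_2 F60751 D15384 (iv F60748)
theorem F60758 : act 8 n15384 = n15384 := d7_2 F57342 D15384 (iv D15384)
def n15385 : Q := act 2 n14535
theorem D15385 : act 2 n14535 = n15385 := rfl
theorem F60759 : act 3 n15385 = n14720 := d15_2 D14535 D15385 F58126 (iv D14206) (iv F53597)
theorem F60760 : act 4 n15385 = n14719 := d16_2 (iv F57343) D15385 F58121
theorem F60761 : act 5 n15385 = n15070 := d17_2 (iv F57344) D15385 (iv D15070)
theorem F60762 : act 6 n15385 = n14541 := d18_2 (iv F57345) D15385 (iv D14541)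
theorem F60763 : act 7 n15385 = n15385 := d19_2 F57346 D15385 (iv D15385)
theorem F60764 : act 8 n15385 = n14547 := d20_2 (iv F57347) D15385 (iv D14547)
theorem F60765 : act 1 n15071 = n15385 := d36_6 D11696 D12705 D13693 F54038 D14205 (iv F59450) (iv D15385) (iv D14535) F53601 (iv D12600) F45528 (iv F45564) F45563 (iv F49562) F49560 (iv D11956) (iv D10483) F32900 (iv D6823) F44662 D9189 F34813 (iv F44658) (iv F34825) F34826 F44660 (iv F44661) (iv F42243) (iv F46348) (iv D11773) (iv D10320) (iv D8495) F23925 F17973 D4681 D6412 F38282 (iv F39772) F39773 F33150 (iv F44980) F32057 F32058 F23717 (iv D4513) (iv D3300) F9808 (iv D1773) (iv D1303) F4143 (iv D898) (iv D666) (iv D494) (iv F1784) (iv D381) (iv F1775) F1777 F1776 F1775 F1349 F1350 F1044 (iv D213) D212 D285 F1367 F1366 (iv D285) F1038 F817 D223 D302 D408 D553 F2507 D752 F3322 (iv F4137) (iv F5501) D1768 F7319 D2413 F9783 (iv F9830) (iv F13152) D4516 (iv F23831) D8457 (iv F40120)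
def n15386 : Q := act 2 n14540
theorem D15386 : act 2 n14540 = n15386 := rfl
theorem F60766 : act 1 n15386 = n14554 := d8_1 D15386 (iv D14554) (iv F57427) (iv F60172) F60171
theorem F60767 : act 3 n15386 = n14556 := d15_2 D14540 D15386 (iv F60217) F60218 F57354
theorem F60768 : act 4 n15386 = n14717 := d16_2 F60139 D15386 (iv F60138)
theorem F60769 : act 5 n15386 = n14541 := d17_2 (iv F57371) D15386 (iv D14541)
theorem F60770 : act 6 n15386 = n15068 := d18_2 F60167 D15386 (iv F60165)
theorem F60771 : act 7 n15386 = n15386 := d19_2 F57372 D15386 (iv D15386)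
theorem F60772 : act 8 n15386 = n14555 := d20_2 (iv F57373) D15386 (iv D14555)
def n15387 : Q := act 1 n14541
theorem D15387 : act 1 n14541 = n15387 := rfl
theorem F60773 : act 2 n15387 = n14553 := d8_2 D14541 D15387 F60184 (iv D15247) F56760
theorem F60774 : act 3 n15387 = n14555 := d9_2 (iv F57374) D15387 F57443
theorem F60775 : act 4 n15387 = n14723 := d10_2 (iv F57375) D15387 F58137
theorem F60776 : act 5 n15387 = n14554 := d11_2 F60769 D15387 (iv F60766)
theorem F60777 : act 6 n15387 = n15071 := d12_2 F60762 D15387 F60765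
theorem F60778 : act 7 n15387 = n15387 := d13_2 F57376 D15387 (iv D15387)
theorem F60779 : act 8 n15387 = n14556 := d14_2 (iv F57377) D15387 (iv D14556)
def n15388 : Q := act 2 n14544
theorem D15388 : act 2 n14544 = n15388 := rfl
theorem F60780 : act 1 n15388 = n15068 := d8_1 D15388 (iv F60165) F60164 F58141 (iv F57390)
theorem F60781 : act 3 n15388 = n14547 := d15_2 D14544 D15388 (iv D14547) (iv D13613) (iv F53652)
theorem F60782 : act 4 n15388 = n14715 := d16_2 (iv F57391) D15388 F58104
theorem F60783 : act 5 n15388 = n15069 := d17_2 (iv F57392) D15388 (iv D15069)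
theorem F60784 : act 6 n15388 = n14554 := d18_2 (iv F57393) D15388 (iv D14554)
theorem F60785 : act 7 n15388 = n15388 := d19_2 F57394 D15388 (iv D15388)
theorem F60786 : act 8 n15388 = n14720 := d20_2 (iv F57395) D15388 F58126
def n15389 : Q := act 2 n14546
theorem D15389 : act 2 n14546 = n15389 := rfl
theorem F60787 : act 1 n15389 = n14877 := d8_1 D15389 (iv D14877) F54991 D13970 (iv F57403)
theorem F60788 : act 3 n15389 = n15069 := d15_2 D14546 D15389 (iv D15069) (iv D14203) (iv F53664)
theorem F60789 : act 5 n15389 = n14547 := d17_2 (iv F57404) D15389 (iv D14547)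
theorem F60790 : act 6 n15389 = n15072 := d18_2 (iv F57405) D15389 F59453
theorem F60791 : act 7 n15389 = n14557 := d19_2 (iv F57406) D15389 (iv D14557)
theorem F60792 : act 8 n15389 = n15070 := d20_2 (iv F57407) D15389 (iv D15070)
theorem F60793 : act 4 n14876 = n15389 := d28_3 F60791 (iv F57456) (iv F58651)
def n15390 : Q := act 4 n14546
theorem D15390 : act 4 n14546 = n15390 := rfl
theorem F60794 : act 1 n15390 = n14547 := d10_1 D15390 F57408 (iv F57403)
theorem F60795 : act 2 n15390 = n14876 := d16_1 D15390 F60793 (iv D15389)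
theorem F60796 : act 3 n15390 = n15068 := d21_1 D15390 (iv D15068) (iv D14202) (iv F53665) D14546
theorem F60797 : act 5 n15390 = n14877 := d26_2 (iv F57404) D15390 F58652 F54997 (iv F53668)
theorem F60798 : act 6 n15390 = n14556 := d27_2 (iv F57405) D15390 F57448
theorem F60799 : act 7 n15390 = n14558 := d28_2 (iv F57406) D15390 (iv D14558)
theorem F60800 : act 8 n15390 = n15071 := d29_2 (iv F57407) D15390 (iv D15071)
def n15391 : Q := act 7 n14548
theorem D15391 : act 7 n14548 = n15391 := rfl
theorem F60801 : act 0 n15391 = n14550 := d6_1 D15391 (iv D14550) (iv F57411)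
theorem F60802 : act 2 n15391 = n14860 := d19_1 D15391 (iv D14860) (iv F57412)
theorem F60803 : act 4 n15391 = n14874 := d28_1 D15391 (iv D14874) (iv F57414)
theorem F60804 : act 5 n15391 = n14549 := d31_1 D15391 (iv D14549) (iv F57415)
theorem F60805 : act 6 n15391 = n14858 := d33_1 D15391 (iv D14858) (iv F57416)
theorem F60806 : act 8 n15391 = n14867 := d35_2 D14548 D15391 (iv D14867) (iv D13949) (iv F53676)
def n15392 : Q := act 3 n14549
theorem D15392 : act 3 n14549 = n15392 := rfl
theorem F60807 : act 0 n15392 = n14551 := d2_1 D15392 (iv D14551) (iv F57417)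
theorem F60808 : act 6 n15392 = n15121 := d23_2 (iv F57419) D15392 (iv D15121)
theorem F60809 : act 7 n15392 = n15392 := d24_2 D14549 D15392 (iv D15392) (iv D14549) F53678
theorem F60810 : act 8 n15392 = n15122 := d25_2 (iv F57420) D15392 (iv D15122)
def n15393 : Q := act 3 n14552
theorem D15393 : act 3 n14552 = n15393 := rfl
theorem F60811 : act 1 n15393 = n14873 := d9_1 D15393 (iv D14873) (iv F57431)
theorem F60812 : act 2 n15393 = n15071 := d15_1 D15393 F59450 (iv F56829) F56830 (iv F57432)
theorem F60813 : act 4 n15393 = n15070 := d21_2 (iv F57433) D15393 F59448 (iv F56847) F56846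
theorem F60814 : act 5 n15393 = n14872 := d22_2 (iv F57434) D15393 (iv D14872)
theorem F60815 : act 6 n15393 = n14553 := d23_2 (iv F57435) D15393 (iv D14553)
theorem F60816 : act 7 n15393 = n15393 := d24_2 D14552 D15393 (iv D15393) (iv D14552) F53695
theorem F60817 : act 8 n15393 = n14876 := d25_2 (iv F57436) D15393 (iv D14876)
def n15394 : Q := act 4 n14553
theorem D15394 : act 4 n14553 = n15394 := rfl
theorem F60818 : act 1 n15394 = n15069 := d10_1 D15394 (iv F60179) (iv F60184)
theorem F60819 : act 2 n15394 = n14723 := d16_1 D15394 (iv F60775) F60773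
theorem F60820 : act 3 n15394 = n14877 := d21_1 D15394 F58652 (iv D13969) (iv F53700) D14553
theorem F60821 : act 5 n15394 = n15068 := d26_2 (iv F57437) D15394 (iv D15068) (iv F57380) F57379
theorem F60822 : act 6 n15394 = n15070 := d27_2 F60815 D15394 (iv F60813)
theorem F60823 : act 7 n15394 = n15394 := d28_2 F57438 D15394 (iv D15394)
theorem F60824 : act 8 n15394 = n15072 := d29_2 F60223 D15394 (iv F60219)
def n15395 : Q := act 0 n14556
theorem D15395 : act 0 n14556 = n15395 := rfl
theorem F60825 : act 4 n15395 = n15128 := d3_2 (iv F57448) D15395 (iv D15128)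
theorem F60826 : act 5 n15395 = n14707 := d4_2 (iv F57449) D15395 F58076
theorem F60827 : act 7 n15395 = n14559 := d6_2 (iv F57450) D15395 (iv D14559)
def n15396 : Q := act 7 n14560
theorem D15396 : act 7 n14560 = n15396 := rfl
theorem F60828 : act 0 n15396 = n15396 := d6_1 D15396 (iv D15396) F57467
theorem F60829 : act 2 n15396 = n14880 := d19_1 D15396 (iv D14880) (iv F57468)
theorem F60830 : act 3 n15396 = n14571 := d24_1 D15396 (iv D14571) F53756 (iv F53735) (iv F57469)
theorem F60831 : act 5 n15396 = n14566 := d31_1 D15396 (iv D14566) (iv F57470)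
theorem F60832 : act 6 n15396 = n14881 := d33_1 D15396 (iv D14881) (iv F57471)
def n15397 : Q := act 4 n14561
theorem D15397 : act 4 n14561 = n15397 := rfl
theorem F60833 : act 0 n15397 = n14744 := d3_1 D15397 (iv D14744) F57476
theorem F60834 : act 1 n15397 = n14562 := d10_1 D15397 (iv D14562) D14561
theorem F60835 : act 3 n15397 = n14595 := d21_1 D15397 (iv D14595) F53963 F53781 (iv F57472)
theorem F60836 : act 5 n15397 = n15197 := d26_2 (iv F57473) D15397 (iv D15197) (iv D14334) (iv F53952)
theorem F60837 : act 6 n15397 = n14568 := d27_2 (iv F57474) D15397 (iv D14568)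
theorem F60838 : act 7 n15397 = n14998 := d28_2 (iv F57475) D15397 F59185
def n15398 : Q := act 8 n14561
theorem D15398 : act 8 n14561 = n15398 := rfl
theorem F60839 : act 0 n15398 = n14746 := d7_1 D15398 (iv D14746) F57476
theorem F60840 : act 1 n15398 = n14563 := d14_1 D15398 (iv D14563) D14561
theorem F60841 : act 3 n15398 = n14575 := d25_1 D15398 (iv D14575) (iv F57472)
theorem F60842 : act 5 n15398 = n14594 := d32_1 D15398 (iv D14594) (iv F57473)
theorem F60843 : act 6 n15398 = n14569 := d34_1 D15398 (iv D14569) (iv F57474)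
def n15399 : Q := act 5 n14562
theorem D15399 : act 5 n14562 = n15399 := rfl
theorem F60844 : act 0 n15399 = n15399 := d4_1 D15399 (iv D15399) F57477
theorem F60845 : act 1 n15399 = n15197 := d11_1 D15399 (iv F60836) F60834
theorem F60846 : act 2 n15399 = n14564 := d17_1 D15399 (iv D14564) (iv F57478)
theorem F60847 : act 3 n15399 = n15009 := d22_1 D15399 F59238 (iv F57479)
theorem F60848 : act 4 n15399 = n14878 := d26_1 D15399 (iv D14878) (iv D13971) (iv F53738) D14562
theorem F60849 : act 6 n15399 = n15011 := d30_2 (iv F57480) D15399 F59248 F55765 F53753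
theorem F60850 : act 7 n15399 = n15013 := d31_2 (iv F57481) D15399 F59255
theorem F60851 : act 8 n15399 = n15146 := d32_2 F58935 D15399 F59680
def n15400 : Q := act 7 n14563
theorem D15400 : act 7 n14563 = n15400 := rfl
theorem F60852 : act 0 n15400 = n15400 := d6_1 D15400 (iv D15400) F57482
theorem F60853 : act 2 n15400 = n14566 := d19_1 D15400 (iv D14566) (iv F57483)
theorem F60854 : act 3 n15400 = n14881 := d24_1 D15400 (iv D14881) F55012 (iv F53792) (iv F57484)
theorem F60855 : act 5 n15400 = n14880 := d31_1 D15400 (iv D14880) (iv F57485)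
theorem F60856 : act 6 n15400 = n14571 := d33_1 D15400 (iv D14571) (iv F57486)
theorem F60857 : act 8 n15400 = n15396 := d35_2 D14563 D15400 (iv D15396) (iv D14560) (iv F53740)
def n15401 : Q := act 8 n14564
theorem D15401 : act 8 n14564 = n15401 := rfl
theorem F60858 : act 0 n15401 = n15401 := d7_1 D15401 (iv D15401) F57487
theorem F60859 : act 2 n15401 = n15146 := d20_1 D15401 (iv F60851) F60846
theorem F60860 : act 3 n15401 = n15401 := d25_1 D15401 (iv D15401) F57488
theorem F60861 : act 5 n15401 = n14565 := d32_1 D15401 (iv D14565) D14564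
def n15402 : Q := act 7 n14565
theorem D15402 : act 7 n14565 = n15402 := rfl
theorem F60862 : act 0 n15402 = n15402 := d6_1 D15402 (iv D15402) F57489
theorem F60863 : act 4 n15402 = n14566 := d28_1 D15402 (iv D14566) (iv F57491)
theorem F60864 : act 6 n15402 = n14574 := d33_1 D15402 (iv D14574) (iv F57492)
def n15403 : Q := act 4 n14567
theorem D15403 : act 4 n14567 = n15403 := rfl
theorem F60865 : act 0 n15403 = n14568 := d3_1 D15403 (iv D14568) D14567
theorem F60866 : act 1 n15403 = n15403 := d10_1 D15403 (iv D15403) F57496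
theorem F60867 : act 3 n15403 = n14750 := d21_1 D15403 F58235 F54576 F53805 (iv F57497)
theorem F60868 : act 6 n15403 = n14744 := d27_2 (iv F57499) D15403 (iv D14744)
theorem F60869 : act 7 n15403 = n14973 := d28_2 F57713 D15403 F59085
theorem F60870 : act 5 n14971 = n15403 := d37_1 (iv F59076) (iv D15403) F57497 F53801 F49756 (iv D11637) F39778 F31885 F24684 F24683 F18304 (iv D3436) F38340 D3323 (iv F17789) F17788 (iv F38392) (iv D6176) (iv F23831) (iv F32180) F32183 F32182 F29629 (iv D7738) (iv F29598) (iv F38691) F38690 (iv D7768) (iv F24003) (iv D6221) F17803 F14157 F14156 F10557 D2634 F10591 F7913 D2635 F10592 (iv F14007) (iv F18824) (iv F23769) (iv F32157) D10240 (iv F46010) (iv F49294) (iv F53195) (iv F56322) F56327 F52684 D13389 F52696 (iv F51590) F51589 F47768 F47769 (iv F47915) F47914 (iv F51921) (iv D13193) (iv F51728) (iv F55496)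
def n15404 : Q := act 8 n14567
theorem D15404 : act 8 n14567 = n15404 := rfl
theorem F60871 : act 0 n15404 = n14569 := d7_1 D15404 (iv D14569) D14567
theorem F60872 : act 1 n15404 = n15404 := d14_1 D15404 (iv D15404) F57496
theorem F60873 : act 3 n15404 = n14576 := d25_1 D15404 (iv D14576) (iv F57497)
theorem F60874 : act 5 n15404 = n14885 := d32_1 D15404 (iv D14885) (iv F57498)
theorem F60875 : act 6 n15404 = n14746 := d34_1 D15404 (iv D14746) (iv F57499)
def n15405 : Q := act 8 n14568
theorem D15405 : act 8 n14568 = n15405 := rfl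
theorem F60876 : act 1 n15405 = n14570 := d14_1 D15405 (iv D14570) (iv F57500)
theorem F60877 : act 3 n15405 = n14995 := d25_1 D15405 F59180 F57502
theorem F60878 : act 4 n15405 = n14569 := d29_1 D15405 (iv D14569) D14568
theorem F60879 : act 5 n15405 = n14996 := d32_1 D15405 F59182 F57503
def n15406 : Q := act 7 n14569
theorem D15406 : act 7 n14569 = n15406 := rfl
theorem F60880 : act 1 n15406 = n14571 := d13_1 D15406 (iv D14571) (iv F57504)
theorem F60881 : act 5 n15406 = n14888 := d31_1 D15406 (iv D14888) (iv F57506)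
def n15407 : Q := act 7 n14570
theorem D15407 : act 7 n14570 = n15407 := rfl
theorem F60882 : act 0 n15407 = n15407 := d6_1 D15407 (iv D15407) F57507
theorem F60883 : act 2 n15407 = n14574 := d19_1 D15407 (iv D14574) (iv F57508)
theorem F60884 : act 3 n15407 = n14937 := d24_1 D15407 (iv D14937) F55245 D14150 (iv F57509)
theorem F60885 : act 4 n15407 = n14571 := d28_1 D15407 (iv D14571) (iv F57510)
theorem F60886 : act 5 n15407 = n14939 := d31_1 D15407 F58916 (iv F57511)
theorem F60887 : act 8 n15407 = n14938 := d35_2 D14570 D15407 F58912 F55264 (iv F53751)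
def n15408 : Q := act 8 n14572
theorem D15408 : act 8 n14572 = n15408 := rfl
theorem F60888 : act 0 n15408 = n15408 := d7_1 D15408 (iv D15408) F57515
theorem F60889 : act 2 n15408 = n15012 := d20_1 D15408 F59252 (iv F57516)
theorem F60890 : act 3 n15408 = n15408 := d25_1 D15408 (iv D15408) F57517
theorem F60891 : act 4 n15408 = n14892 := d29_1 D15408 (iv D14892) (iv F57518)
theorem F60892 : act 6 n15408 = n14573 := d34_1 D15408 (iv D14573) D14572
def n15409 : Q := act 7 n14573
theorem D15409 : act 7 n14573 = n15409 := rfl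
theorem F60893 : act 0 n15409 = n15409 := d6_1 D15409 (iv D15409) F57520
theorem F60894 : act 2 n15409 = n14939 := d19_1 D15409 F58916 (iv F57521)
theorem F60895 : act 4 n15409 = n14893 := d28_1 D15409 (iv D14893) (iv F57523)
theorem F60896 : act 5 n15409 = n14574 := d31_1 D15409 (iv D14574) (iv F57524)
theorem F60897 : act 8 n15409 = n14940 := d35_2 D14573 D15409 F58920 F55268 (iv F53762)
def n15410 : Q := act 3 n14574
theorem D15410 : act 3 n14574 = n15410 := rfl
theorem F60898 : act 0 n15410 = n15410 := d2_1 D15410 (iv D15410) F57525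
theorem F60899 : act 4 n15410 = n15131 := d21_2 (iv F57526) D15410 (iv D15131) F56173 (iv F53767)
theorem F60900 : act 7 n15410 = n15410 := d24_2 D14574 D15410 (iv D15410) (iv D14574) F53764
def n15411 : Q := act 8 n14581
theorem D15411 : act 8 n14581 = n15411 := rfl
theorem F60901 : act 0 n15411 = n14727 := d7_1 D15411 (iv D14727) (iv F57569)
theorem F60902 : act 2 n15411 = n14582 := d20_1 D15411 (iv D14582) D14581
theorem F60903 : act 3 n15411 = n14583 := d25_1 D15411 (iv D14583) (iv F57570)
theorem F60904 : act 4 n15411 = n15301 := d29_1 D15411 (iv D15301) (iv F57571)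
theorem F60905 : act 5 n15411 = n15019 := d32_1 D15411 (iv D15019) (iv F57572)
theorem F60906 : act 6 n15411 = n14739 := d34_1 D15411 (iv D14739) (iv F57573)
def n15412 : Q := act 7 n14582
theorem D15412 : act 7 n14582 = n15412 := rfl
theorem F60907 : act 0 n15412 = n14729 := d6_1 D15412 (iv D14729) (iv F57575)
theorem F60908 : act 1 n15412 = n15412 := d13_1 D15412 (iv D15412) F57576
theorem F60909 : act 3 n15412 = n14620 := d24_1 D15412 (iv D14620) F54082 (iv F53908) (iv F57577)
theorem F60910 : act 4 n15412 = n15335 := d28_1 D15412 (iv D15335) (iv F57578)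
theorem F60911 : act 5 n15412 = n15022 := d31_1 D15412 (iv D15022) (iv F57579)
theorem F60912 : act 6 n15412 = n14748 := d33_1 D15412 (iv D14748) (iv F57580)
theorem F60913 : act 8 n15412 = n15153 := d35_2 D14582 D15412 (iv D15153) (iv D14303) (iv F53901)
def n15413 : Q := act 7 n14583
theorem D15413 : act 7 n14583 = n15413 := rfl
theorem F60914 : act 0 n15413 = n14731 := d6_1 D15413 (iv D14731) (iv F57581)
theorem F60915 : act 2 n15413 = n14584 := d19_1 D15413 (iv D14584) (iv F57582)
theorem F60916 : act 4 n15413 = n14732 := d28_1 D15413 (iv D14732) (iv F57583)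
theorem F60917 : act 5 n15413 = n15026 := d31_1 D15413 (iv D15026) (iv F57584)
theorem F60918 : act 6 n15413 = n14741 := d33_1 D15413 (iv D14741) (iv F57585)
theorem F60919 : act 8 n15413 = n14592 := d35_2 D14583 D15413 (iv D14592) (iv D13669) (iv F53913)
def n15414 : Q := act 8 n14585
theorem D15414 : act 8 n14585 = n15414 := rfl
theorem F60920 : act 1 n15414 = n14586 := d14_1 D15414 (iv D14586) D14585
theorem F60921 : act 2 n15414 = n14596 := d20_1 D15414 (iv D14596) (iv F57593)
theorem F60922 : act 3 n15414 = n15176 := d25_1 D15414 (iv D15176) (iv F57594)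
theorem F60923 : act 4 n15414 = n14730 := d29_1 D15414 (iv D14730) (iv F57595)
theorem F60924 : act 6 n15414 = n14589 := d34_1 D15414 (iv D14589) (iv F57596)
def n15415 : Q := act 7 n14586
theorem D15415 : act 7 n14586 = n15415 := rfl
theorem F60925 : act 0 n15415 = n14732 := d6_1 D15415 (iv D14732) (iv F57598)
theorem F60926 : act 2 n15415 = n14587 := d19_1 D15415 (iv D14587) (iv F57599)
theorem F60927 : act 4 n15415 = n14731 := d28_1 D15415 (iv D14731) (iv F57601)
theorem F60928 : act 6 n15415 = n14592 := d33_1 D15415 (iv D14592) (iv F57602)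
theorem F60929 : act 8 n15415 = n14741 := d35_2 D14586 D15415 (iv D14741) (iv D13828) (iv F53924)
def n15416 : Q := act 8 n14588
theorem D15416 : act 8 n14588 = n15416 := rfl
theorem F60930 : act 0 n15416 = n14589 := d7_1 D15416 (iv D14589) D14588
theorem F60931 : act 1 n15416 = n14636 := d14_1 D15416 (iv D14636) (iv F57609)
theorem F60932 : act 2 n15416 = n14598 := d20_1 D15416 (iv D14598) (iv F57610)
theorem F60933 : act 3 n15416 = n15181 := d25_1 D15416 (iv D15181) (iv F57611)
theorem F60934 : act 5 n15416 = n14640 := d32_1 D15416 (iv D14640) (iv F57612)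
def n15417 : Q := act 7 n14589
theorem D15417 : act 7 n14589 = n15417 := rfl
theorem F60935 : act 1 n15417 = n14592 := d13_1 D15417 (iv D14592) (iv F57613)
theorem F60936 : act 2 n15417 = n14599 := d19_1 D15417 (iv D14599) (iv F57614)
theorem F60937 : act 5 n15417 = n15030 := d31_1 D15417 (iv D15030) (iv F57616)
def n15418 : Q := act 8 n14590
theorem D15418 : act 8 n14590 = n15418 := rfl
theorem F60938 : act 0 n15418 = n14739 := d7_1 D15418 (iv D14739) (iv F57617)
theorem F60939 : act 2 n15418 = n14594 := d20_1 D15418 (iv D14594) (iv F57618)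
theorem F60940 : act 3 n15418 = n14591 := d25_1 D15418 (iv D14591) D14590
theorem F60941 : act 4 n15418 = n15188 := d29_1 D15418 (iv D15188) (iv F57619)
theorem F60942 : act 6 n15418 = n14727 := d34_1 D15418 (iv D14727) (iv F57620)
def n15419 : Q := act 7 n14591
theorem D15419 : act 7 n14591 = n15419 := rfl
theorem F60943 : act 0 n15419 = n14741 := d6_1 D15419 (iv D14741) (iv F57622)
theorem F60944 : act 2 n15419 = n14593 := d19_1 D15419 (iv D14593) (iv F57623)
theorem F60945 : act 4 n15419 = n14592 := d28_1 D15419 (iv D14592) (iv F57624)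
theorem F60946 : act 6 n15419 = n14731 := d33_1 D15419 (iv D14731) (iv F57625)
theorem F60947 : act 8 n15419 = n14732 := d35_2 D14591 D15419 (iv D14732) (iv D13822) (iv F53936)
def n15420 : Q := act 3 n14592
theorem D15420 : act 3 n14592 = n15420 := rfl
theorem F60948 : act 0 n15420 = n14742 := d2_1 D15420 (iv D14742) (iv F57626)
theorem F60949 : act 2 n15420 = n14659 := d15_1 D15420 (iv D14659) F54169 (iv F53948) (iv F57627)
theorem F60950 : act 5 n15420 = n15036 := d22_2 (iv F57628) D15420 (iv D15036)
theorem F60951 : act 7 n15420 = n15192 := d24_2 D14592 D15420 (iv D15192) (iv D14329) (iv F53939)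
def n15421 : Q := act 7 n14594
theorem D15421 : act 7 n14594 = n15421 := rfl
theorem F60952 : act 0 n15421 = n14748 := d6_1 D15421 (iv D14748) (iv F57635)
theorem F60953 : act 1 n15421 = n14880 := d13_1 D15421 (iv D14880) (iv F57636)
theorem F60954 : act 3 n15421 = n14766 := d24_1 D15421 (iv D14766) F54649 (iv F53960) (iv F57637)
theorem F60955 : act 4 n15421 = n15202 := d28_1 D15421 (iv D15202) (iv F57638)
theorem F60956 : act 6 n15421 = n14729 := d33_1 D15421 (iv D14729) (iv F57639)
theorem F60957 : act 8 n15421 = n15259 := d35_2 D14594 D15421 (iv D15259) (iv D14419) (iv F53954)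
def n15422 : Q := act 7 n14596
theorem D15422 : act 7 n14596 = n15422 := rfl
theorem F60958 : act 1 n15422 = n14597 := d13_1 D15422 (iv D14597) (iv F57646)
theorem F60959 : act 4 n15422 = n14756 := d28_1 D15422 (iv D14756) (iv F57648)
theorem F60960 : act 6 n15422 = n14599 := d33_1 D15422 (iv D14599) (iv F57649)
theorem F60961 : act 8 n15422 = n14758 := d35_2 D14596 D15422 (iv D14758) (iv D13848) (iv F53981)
def n15423 : Q := act 3 n14597
theorem D15423 : act 3 n14597 = n15423 := rfl
theorem F60962 : act 0 n15423 = n14606 := d2_1 D15423 (iv D14606) (iv F57650)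
theorem F60963 : act 2 n15423 = n14698 := d15_1 D15423 (iv D14698) F54346 (iv F53988) (iv F57651)
theorem F60964 : act 4 n15423 = n15062 := d21_2 (iv F57652) D15423 (iv D15062) (iv F57180) F57179
theorem F60965 : act 6 n15423 = n14600 := d23_2 (iv F57653) D15423 (iv D14600)
theorem F60966 : act 7 n15423 = n14602 := d24_2 D14597 D15423 (iv D14602) (iv D13686) (iv F53984)
theorem F60967 : act 8 n15423 = n14760 := d25_2 (iv F57654) D15423 (iv D14760)
def n15424 : Q := act 7 n14598
theorem D15424 : act 7 n14598 = n15424 := rfl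
theorem F60968 : act 0 n15424 = n14599 := d6_1 D15424 (iv D14599) (iv F57655)
theorem F60969 : act 1 n15424 = n14607 := d13_1 D15424 (iv D14607) (iv F57656)
theorem F60970 : act 5 n15424 = n14696 := d31_1 D15424 (iv D14696) (iv F57658)
def n15425 : Q := act 3 n14599
theorem D15425 : act 3 n14599 = n15425 := rfl
theorem F60971 : act 1 n15425 = n14600 := d9_1 D15425 (iv D14600) (iv F57659)
theorem F60972 : act 5 n15425 = n15059 := d22_2 (iv F57660) D15425 (iv D15059)
theorem F60973 : act 7 n15425 = n14604 := d24_2 D14599 D15425 (iv D14604) (iv D13688) (iv F53996)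
def n15426 : Q := act 3 n14601
theorem D15426 : act 3 n14601 = n15426 := rfl
theorem F60974 : act 0 n15426 = n15113 := d2_1 D15426 F59554 (iv F57665)
theorem F60975 : act 1 n15426 = n14602 := d9_1 D15426 (iv D14602) (iv F57666)
theorem F60976 : act 4 n15426 = n15050 := d21_2 (iv F57668) D15426 (iv D15050) F55893 D14187
theorem F60977 : act 6 n15426 = n14604 := d23_2 (iv F57669) D15426 (iv D14604)
theorem F60978 : act 8 n15426 = n15426 := d25_2 F57670 D15426 (iv D15426)
def n15427 : Q := act 3 n14603
theorem D15427 : act 3 n14603 = n15427 := rfl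
theorem F60979 : act 0 n15427 = n14604 := d2_1 D15427 (iv D14604) (iv F57676)
theorem F60980 : act 1 n15427 = n14609 := d9_1 D15427 (iv D14609) (iv F57677)
theorem F60981 : act 4 n15427 = n15111 := d21_2 (iv F57679) D15427 (iv D15111) F56069 D14249
theorem F60982 : act 5 n15427 = n14710 := d22_2 (iv F57680) D15427 (iv D14710)
theorem F60983 : act 6 n15427 = n15113 := d23_2 (iv F57681) D15427 F59554
theorem F60984 : act 8 n15427 = n15427 := d25_2 F57682 D15427 (iv D15427)
def n15428 : Q := act 2 n14604
theorem D15428 : act 2 n14604 = n15428 := rfl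
theorem F60985 : act 1 n15428 = n14713 := d8_1 D15428 (iv D14713) F54420 (iv F54023) (iv F57683)
theorem F60986 : act 3 n15428 = n15239 := d15_2 D14604 D15428 (iv D15239) (iv D14387) (iv F54019)
theorem F60987 : act 5 n15428 = n15065 := d17_2 (iv F57684) D15428 (iv D15065)
theorem F60988 : act 8 n15428 = n15428 := d20_2 F57685 D15428 (iv D15428)
def n15429 : Q := act 4 n14604
theorem D15429 : act 4 n14604 = n15429 := rfl
theorem F60989 : act 0 n15429 = n15111 := d3_1 D15429 (iv F60981) F60979
theorem F60990 : act 1 n15429 = n14605 := d10_1 D15429 (iv D14605) (iv F57683)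
theorem F60991 : act 3 n15429 = n15049 := d21_1 D15429 F59383 (iv F57564) F57565 D14604
theorem F60992 : act 6 n15429 = n15050 := d27_2 F60977 D15429 (iv F60976)
theorem F60993 : act 8 n15429 = n15429 := d29_2 F57685 D15429 (iv D15429)
def n15430 : Q := act 3 n14607
theorem D15430 : act 3 n14607 = n15430 := rfl
theorem F60994 : act 0 n15430 = n14608 := d2_1 D15430 (iv D14608) (iv F57697)
theorem F60995 : act 4 n15430 = n15122 := d21_2 F59955 D15430 (iv D15122) (iv F57349) (iv F59954)
theorem F60996 : act 5 n15430 = n14698 := d22_2 (iv F57699) D15430 (iv D14698)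
theorem F60997 : act 6 n15430 = n15124 := d23_2 F60025 D15430 (iv F60022)
theorem F60998 : act 7 n15430 = n14609 := d24_2 D14607 D15430 (iv D14609) (iv D13695) (iv F54032)
def n15431 : Q := act 2 n14610
theorem D15431 : act 2 n14610 = n15431 := rfl
theorem F60999 : act 0 n15431 = n14725 := d1_1 D15431 F58145 (iv F57710)
theorem F61000 : act 3 n15431 = n14621 := d15_2 D14610 D15431 (iv D14621) (iv D13704) (iv F54063)
theorem F61001 : act 5 n15431 = n14612 := d17_2 (iv F57712) D15431 (iv D14612)
theorem F61002 : act 7 n15431 = n15260 := d19_2 (iv F57713) D15431 F60251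
def n15432 : Q := act 8 n14610
theorem D15432 : act 8 n14610 = n15432 := rfl
theorem F61003 : act 0 n15432 = n14762 := d7_1 D15432 (iv D14762) (iv F57710)
theorem F61004 : act 1 n15432 = n15432 := d14_1 D15432 (iv D15432) F57711
theorem F61005 : act 3 n15432 = n14611 := d25_1 D15432 (iv D14611) D14610
theorem F61006 : act 5 n15432 = n14614 := d32_1 D15432 (iv D14614) (iv F57712)
def n15433 : Q := act 1 n14612
theorem D15433 : act 1 n14612 = n15433 := rfl
theorem F61007 : act 0 n15433 = n15017 := d0_1 D15433 (iv D15017) F55808 (iv F54642) (iv F57720)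
theorem F61008 : act 2 n15433 = n15433 := d8_2 D14612 D15433 (iv D15433) (iv D14612) F54067
theorem F61009 : act 3 n15433 = n14623 := d9_2 (iv F57721) D15433 (iv D14623)
theorem F61010 : act 6 n15433 = n14615 := d12_2 (iv F57722) D15433 (iv D14615)
def n15434 : Q := act 4 n14612
theorem D15434 : act 4 n14612 = n15434 := rfl
theorem F61011 : act 0 n15434 = n14763 := d3_1 D15434 (iv D14763) (iv F57720)
theorem F61012 : act 2 n15434 = n14613 := d16_1 D15434 (iv D14613) D14612
theorem F61013 : act 3 n15434 = n15001 := d21_1 D15434 (iv D15001) F55678 (iv F54093) (iv F57721)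
theorem F61014 : act 6 n15434 = n14616 := d27_2 (iv F57722) D15434 (iv D14616)
def n15435 : Q := act 8 n14612
theorem D15435 : act 8 n14612 = n15435 := rfl
theorem F61015 : act 0 n15435 = n14764 := d7_1 D15435 (iv D14764) (iv F57720)
theorem F61016 : act 2 n15435 = n14614 := d20_1 D15435 (iv D14614) D14612
theorem F61017 : act 3 n15435 = n14624 := d25_1 D15435 (iv D14624) (iv F57721)
theorem F61018 : act 6 n15435 = n14617 := d34_1 D15435 (iv D14617) (iv F57722)
def n15436 : Q := act 8 n14613
theorem D15436 : act 8 n14613 = n15436 := rfl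
theorem F61019 : act 0 n15436 = n14765 := d7_1 D15436 (iv D14765) (iv F57723)
theorem F61020 : act 1 n15436 = n15436 := d14_1 D15436 (iv D15436) F57724
theorem F61021 : act 3 n15436 = n14749 := d25_1 D15436 F58231 (iv F57725)
theorem F61022 : act 4 n15436 = n14614 := d29_1 D15436 (iv D14614) D14613
theorem F61023 : act 6 n15436 = n14619 := d34_1 D15436 (iv D14619) (iv F57726)
def n15437 : Q := act 7 n14614
theorem D15437 : act 7 n14614 = n15437 := rfl
theorem F61024 : act 0 n15437 = n14766 := d6_1 D15437 (iv D14766) (iv F57727)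
theorem F61025 : act 1 n15437 = n15437 := d13_1 D15437 (iv D15437) F57728
theorem F61026 : act 3 n15437 = n14748 := d24_1 D15437 (iv D14748) F54558 (iv F54074) (iv F57729)
theorem F61027 : act 6 n15437 = n14620 := d33_1 D15437 (iv D14620) (iv F57730)
def n15438 : Q := act 0 n14615
theorem D15438 : act 0 n14615 = n15438 := rfl
theorem F61028 : act 1 n15438 = n14767 := d0_2 D14615 D15438 (iv D14767) (iv D13860) (iv F54075)
theorem F61029 : act 2 n15438 = n15438 := d1_2 F57731 D15438 (iv D15438)
theorem F61030 : act 3 n15438 = n14626 := d2_2 (iv F57732) D15438 (iv D14626)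
theorem F61031 : act 6 n15438 = n15017 := d5_2 F61010 D15438 (iv F61007)
theorem F61032 : act 7 n15438 = n15433 := d6_2 F59273 D15438 F61007
def n15439 : Q := act 4 n14615
theorem D15439 : act 4 n14615 = n15439 := rfl
theorem F61033 : act 1 n15439 = n14616 := d10_1 D15439 (iv D14616) D14615
theorem F61034 : act 2 n15439 = n15439 := d16_1 D15439 (iv D15439) F57731
def n15440 : Q := act 8 n14615
theorem D15440 : act 8 n14615 = n15440 := rfl
theorem F61035 : act 1 n15440 = n14617 := d14_1 D15440 (iv D14617) D14615
theorem F61036 : act 2 n15440 = n15440 := d20_1 D15440 (iv D15440) F57731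
theorem F61037 : act 3 n15440 = n14628 := d25_1 D15440 (iv D14628) (iv F57732)
def n15441 : Q := act 3 n14616
theorem D15441 : act 3 n14616 = n15441 := rfl
theorem F61038 : act 0 n15441 = n14770 := d2_1 D15441 (iv D14770) (iv F57733)
theorem F61039 : act 2 n15441 = n14955 := d15_1 D15441 (iv D14955) F55394 (iv F54079) (iv F57734)
theorem F61040 : act 4 n15441 = n14629 := d21_2 D14616 D15441 (iv D14629) (iv D13709) (iv F54076)
theorem F61041 : act 6 n15441 = n15001 := d23_2 F61014 D15441 (iv F61013)
def n15442 : Q := act 5 n14616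
theorem D15442 : act 5 n14616 = n15442 := rfl
theorem F61042 : act 0 n15442 = n14771 := d4_1 D15442 (iv D14771) (iv F57733)
theorem F61043 : act 2 n15442 = n14618 := d17_1 D15442 (iv D14618) (iv F57734)
def n15443 : Q := act 8 n14616
theorem D15443 : act 8 n14616 = n15443 := rfl
theorem F61044 : act 0 n15443 = n14772 := d7_1 D15443 (iv D14772) (iv F57733)
theorem F61045 : act 2 n15443 = n14619 := d20_1 D15443 (iv D14619) (iv F57734)
theorem F61046 : act 4 n15443 = n14617 := d29_1 D15443 (iv D14617) D14616
def n15444 : Q := act 7 n14617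
theorem D15444 : act 7 n14617 = n15444 := rfl
theorem F61047 : act 0 n15444 = n14773 := d6_1 D15444 (iv D14773) (iv F57735)
theorem F61048 : act 2 n15444 = n14620 := d19_1 D15444 (iv D14620) (iv F57736)
def n15445 : Q := act 8 n14618
theorem D15445 : act 8 n14618 = n15445 := rfl
theorem F61049 : act 0 n15445 = n14775 := d7_1 D15445 (iv D14775) (iv F57738)
theorem F61050 : act 1 n15445 = n15445 := d14_1 D15445 (iv D15445) F57739
theorem F61051 : act 3 n15445 = n14956 := d25_1 D15445 (iv D14956) (iv F57740)
theorem F61052 : act 5 n15445 = n14619 := d32_1 D15445 (iv D14619) D14618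
def n15446 : Q := act 7 n14619
theorem D15446 : act 7 n14619 = n15446 := rfl
theorem F61053 : act 0 n15446 = n14776 := d6_1 D15446 (iv D14776) (iv F57741)
theorem F61054 : act 1 n15446 = n15446 := d13_1 D15446 (iv D15446) F57742
theorem F61055 : act 4 n15446 = n14620 := d28_1 D15446 (iv D14620) (iv F57744)
def n15447 : Q := act 8 n14621
theorem D15447 : act 8 n14621 = n15447 := rfl
theorem F61056 : act 0 n15447 = n14730 := d7_1 D15447 (iv D14730) (iv F57747)
theorem F61057 : act 2 n15447 = n14622 := d20_1 D15447 (iv D14622) D14621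
theorem F61058 : act 5 n15447 = n14624 := d32_1 D15447 (iv D14624) (iv F57748)
def n15448 : Q := act 7 n14622
theorem D15448 : act 7 n14622 = n15448 := rfl
theorem F61059 : act 0 n15448 = n14756 := d6_1 D15448 (iv D14756) (iv F57750)
theorem F61060 : act 1 n15448 = n14685 := d13_1 D15448 (iv D14685) (iv F57751)
theorem F61061 : act 3 n15448 = n14743 := d24_1 D15448 (iv D14743) F54545 (iv F54091) (iv F57752)
theorem F61062 : act 5 n15448 = n14625 := d31_1 D15448 (iv D14625) (iv F57753)
theorem F61063 : act 8 n15448 = n14638 := d35_2 D14622 D15448 (iv D14638) (iv D13716) (iv F54086)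
def n15449 : Q := act 8 n14623
theorem D15449 : act 8 n14623 = n15449 := rfl
theorem F61064 : act 0 n15449 = n15023 := d7_1 D15449 (iv D15023) (iv F57754)
theorem F61065 : act 1 n15449 = n14624 := d14_1 D15449 (iv D14624) D14623
theorem F61066 : act 2 n15449 = n14686 := d20_1 D15449 (iv D14686) (iv F57755)
theorem F61067 : act 4 n15449 = n14850 := d29_1 D15449 F58554 (iv F57756)
theorem F61068 : act 6 n15449 = n14628 := d34_1 D15449 (iv D14628) (iv F57757)
def n15450 : Q := act 7 n14624
theorem D15450 : act 7 n14624 = n15450 := rfl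
theorem F61069 : act 0 n15450 = n14779 := d6_1 D15450 (iv D14779) (iv F57759)
theorem F61070 : act 2 n15450 = n14625 := d19_1 D15450 (iv D14625) (iv F57760)
theorem F61071 : act 4 n15450 = n14827 := d28_1 D15450 F58470 (iv F57761)
theorem F61072 : act 6 n15450 = n14632 := d33_1 D15450 (iv D14632) (iv F57762)
theorem F61073 : act 8 n15450 = n14644 := d35_2 D14624 D15450 (iv D14644) (iv D13719) (iv F54095)
def n15451 : Q := act 8 n14626
theorem D15451 : act 8 n14626 = n15451 := rfl
theorem F61074 : act 0 n15451 = n14628 := d7_1 D15451 (iv D14628) D14626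
theorem F61075 : act 1 n15451 = n14781 := d14_1 D15451 (iv D14781) (iv F57769)
theorem F61076 : act 2 n15451 = n14688 := d20_1 D15451 (iv D14688) (iv F57770)
theorem F61077 : act 6 n15451 = n15023 := d34_1 D15451 (iv D15023) (iv F57771)
def n15452 : Q := act 3 n14627
theorem D15452 : act 3 n14627 = n15452 := rfl
theorem F61078 : act 1 n15452 = n14629 := d9_1 D15452 (iv D14629) (iv F57773)
theorem F61079 : act 2 n15452 = n15016 := d15_1 D15452 F59269 F55785 F54307 (iv F57774)
theorem F61080 : act 6 n15452 = n15000 := d23_2 (iv F57775) D15452 F59192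
def n15453 : Q := act 8 n14627
theorem D15453 : act 8 n14627 = n15453 := rfl
theorem F61081 : act 1 n15453 = n14631 := d14_1 D15453 (iv D14631) (iv F57773)
theorem F61082 : act 2 n15453 = n14689 := d20_1 D15453 (iv D14689) (iv F57774)
theorem F61083 : act 4 n15453 = n14628 := d29_1 D15453 (iv D14628) D14627
theorem F61084 : act 6 n15453 = n14850 := d34_1 D15453 F58554 (iv F57775)
def n15454 : Q := act 7 n14628
theorem D15454 : act 7 n14628 = n15454 := rfl
theorem F61085 : act 1 n15454 = n14632 := d13_1 D15454 (iv D14632) (iv F57777)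
theorem F61086 : act 2 n15454 = n14690 := d19_1 D15454 (iv D14690) (iv F57778)
theorem F61087 : act 8 n15454 = n14652 := d35_2 D14628 D15454 (iv D14652) (iv D13725) (iv F54102)
def n15455 : Q := act 5 n14629
theorem D15455 : act 5 n14629 = n15455 := rfl
theorem F61088 : act 0 n15455 = n14786 := d4_1 D15455 (iv D14786) (iv F57779)
theorem F61089 : act 2 n15455 = n14958 := d17_1 D15455 (iv D14958) (iv F57780)
theorem F61090 : act 3 n15455 = n14630 := d22_1 D15455 (iv D14630) D14629
def n15456 : Q := act 7 n14629
theorem D15456 : act 7 n14629 = n15456 := rfl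
theorem F61091 : act 0 n15456 = n14787 := d6_1 D15456 (iv D14787) (iv F57779)
theorem F61092 : act 2 n15456 = n14959 := d19_1 D15456 (iv D14959) (iv F57780)
theorem F61093 : act 3 n15456 = n14654 := d24_1 D15456 (iv D14654) (iv D13726) (iv F54106) D14629
theorem F61094 : act 6 n15456 = n14997 := d33_1 D15456 F59183 (iv F57781)
def n15457 : Q := act 8 n14629
theorem D15457 : act 8 n14629 = n15457 := rfl
theorem F61095 : act 0 n15457 = n14788 := d7_1 D15457 (iv D14788) (iv F57779)
theorem F61096 : act 2 n15457 = n14836 := d20_1 D15457 F58507 (iv F57780)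
theorem F61097 : act 3 n15457 = n14631 := d25_1 D15457 (iv D14631) D14629
theorem F61098 : act 6 n15457 = n14847 := d34_1 D15457 F58546 (iv F57781)
def n15458 : Q := act 8 n14630
theorem D15458 : act 8 n14630 = n15458 := rfl
theorem F61099 : act 0 n15458 = n14790 := d7_1 D15458 (iv D14790) (iv F57782)
theorem F61100 : act 2 n15458 = n14633 := d20_1 D15458 (iv D14633) (iv F57783)
theorem F61101 : act 5 n15458 = n14631 := d32_1 D15458 (iv D14631) D14630
def n15459 : Q := act 7 n14631
theorem D15459 : act 7 n14631 = n15459 := rfl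
theorem F61102 : act 0 n15459 = n14791 := d6_1 D15459 (iv D14791) (iv F57785)
theorem F61103 : act 2 n15459 = n14634 := d19_1 D15459 (iv D14634) (iv F57786)
theorem F61104 : act 4 n15459 = n14632 := d28_1 D15459 (iv D14632) (iv F57787)
theorem F61105 : act 6 n15459 = n14827 := d33_1 D15459 F58470 (iv F57788)
theorem F61106 : act 8 n15459 = n14658 := d35_2 D14631 D15459 (iv D14658) (iv D13728) (iv F54106)
def n15460 : Q := act 3 n14632
theorem D15460 : act 3 n14632 = n15460 := rfl
theorem F61107 : act 0 n15460 = n14792 := d2_1 D15460 (iv D14792) (iv F57789)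
theorem F61108 : act 8 n15460 = n14659 := d25_2 (iv F57791) D15460 (iv D14659)
def n15461 : Q := act 7 n14633
theorem D15461 : act 7 n14633 = n15461 := rfl
theorem F61109 : act 0 n15461 = n14794 := d6_1 D15461 (iv D14794) (iv F57792)
theorem F61110 : act 1 n15461 = n14693 := d13_1 D15461 (iv D14693) (iv F57793)
theorem F61111 : act 3 n15461 = n14803 := d24_1 D15461 (iv D14803) F54721 D13911 (iv F57794)
theorem F61112 : act 5 n15461 = n14634 := d31_1 D15461 (iv D14634) (iv F57795)
theorem F61113 : act 8 n15461 = n14661 := d35_2 D14633 D15461 (iv D14661) (iv D13731) (iv F54112)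
def n15462 : Q := act 3 n14635
theorem D15462 : act 3 n14635 = n15462 := rfl
theorem F61114 : act 0 n15462 = n14733 := d2_1 D15462 (iv D14733) (iv F57802)
theorem F61115 : act 2 n15462 = n15462 := d15_1 D15462 (iv D15462) F57803 F54126 (iv F57803)
theorem F61116 : act 4 n15462 = n15309 := d21_2 D14635 D15462 (iv D15309) (iv D14458) (iv F54122)
def n15463 : Q := act 8 n14635
theorem D15463 : act 8 n14635 = n15463 := rfl
theorem F61117 : act 0 n15463 = n14735 := d7_1 D15463 (iv D14735) (iv F57802)
theorem F61118 : act 2 n15463 = n14637 := d20_1 D15463 (iv D14637) (iv F57803)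
theorem F61119 : act 4 n15463 = n14636 := d29_1 D15463 (iv D14636) D14635
def n15464 : Q := act 7 n14636
theorem D15464 : act 7 n14636 = n15464 := rfl
theorem F61120 : act 0 n15464 = n14736 := d6_1 D15464 (iv D14736) (iv F57804)
theorem F61121 : act 2 n15464 = n14638 := d19_1 D15464 (iv D14638) (iv F57805)
theorem F61122 : act 5 n15464 = n14644 := d31_1 D15464 (iv D14644) (iv F57807)
def n15465 : Q := act 7 n14637
theorem D15465 : act 7 n14637 = n15465 := rfl
theorem F61123 : act 0 n15465 = n14758 := d6_1 D15465 (iv D14758) (iv F57808)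
theorem F61124 : act 1 n15465 = n14694 := d13_1 D15465 (iv D14694) (iv F57809)
theorem F61125 : act 4 n15465 = n14638 := d28_1 D15465 (iv D14638) (iv F57811)
def n15466 : Q := act 3 n14639
theorem D15466 : act 3 n14639 = n15466 := rfl
theorem F61126 : act 0 n15466 = n15028 := d2_1 D15466 (iv D15028) (iv F57815)
theorem F61127 : act 1 n15466 = n14641 := d9_1 D15466 (iv D14641) (iv F57816)
theorem F61128 : act 2 n15466 = n15466 := d15_1 D15466 (iv D15466) F57817 F54333 (iv F57817)
theorem F61129 : act 6 n15466 = n14649 := d23_2 (iv F57818) D15466 (iv D14649)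
def n15467 : Q := act 8 n14639
theorem D15467 : act 8 n14639 = n15467 := rfl
theorem F61130 : act 0 n15467 = n15029 := d7_1 D15467 (iv D15029) (iv F57815)
theorem F61131 : act 1 n15467 = n14643 := d14_1 D15467 (iv D14643) (iv F57816)
theorem F61132 : act 2 n15467 = n14695 := d20_1 D15467 (iv D14695) (iv F57817)
theorem F61133 : act 4 n15467 = n14640 := d29_1 D15467 (iv D14640) D14639
theorem F61134 : act 6 n15467 = n14651 := d34_1 D15467 (iv D14651) (iv F57818)
def n15468 : Q := act 7 n14640
theorem D15468 : act 7 n14640 = n15468 := rfl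
theorem F61135 : act 0 n15468 = n15030 := d6_1 D15468 (iv D15030) (iv F57820)
theorem F61136 : act 1 n15468 = n14644 := d13_1 D15468 (iv D14644) (iv F57821)
theorem F61137 : act 2 n15468 = n14696 := d19_1 D15468 (iv D14696) (iv F57822)
theorem F61138 : act 6 n15468 = n14652 := d33_1 D15468 (iv D14652) (iv F57823)
def n15469 : Q := act 5 n14641
theorem D15469 : act 5 n14641 = n15469 := rfl
theorem F61139 : act 0 n15469 = n14795 := d4_1 D15469 (iv D14795) (iv F57824)
theorem F61140 : act 2 n15469 = n14663 := d17_1 D15469 (iv D14663) (iv F57825)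
theorem F61141 : act 3 n15469 = n14642 := d22_1 D15469 (iv D14642) D14641
def n15470 : Q := act 7 n14641
theorem D15470 : act 7 n14641 = n15470 := rfl
theorem F61142 : act 0 n15470 = n14796 := d6_1 D15470 (iv D14796) (iv F57824)
theorem F61143 : act 2 n15470 = n14664 := d19_1 D15470 (iv D14664) (iv F57825)
theorem F61144 : act 3 n15470 = n14997 := d24_1 D15470 F59183 F55678 (iv F54137) D14641
theorem F61145 : act 6 n15470 = n14654 := d33_1 D15470 (iv D14654) (iv F57826)
def n15471 : Q := act 8 n14641
theorem D15471 : act 8 n14641 = n15471 := rfl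
theorem F61146 : act 0 n15471 = n14797 := d7_1 D15471 (iv D14797) (iv F57824)
theorem F61147 : act 2 n15471 = n14665 := d20_1 D15471 (iv D14665) (iv F57825)
theorem F61148 : act 3 n15471 = n14643 := d25_1 D15471 (iv D14643) D14641
theorem F61149 : act 6 n15471 = n14655 := d34_1 D15471 (iv D14655) (iv F57826)
def n15472 : Q := act 8 n14642
theorem D15472 : act 8 n14642 = n15472 := rfl
theorem F61150 : act 0 n15472 = n14799 := d7_1 D15472 (iv D14799) (iv F57827)
theorem F61151 : act 2 n15472 = n14645 := d20_1 D15472 (iv D14645) (iv F57828)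
theorem F61152 : act 5 n15472 = n14643 := d32_1 D15472 (iv D14643) D14642
def n15473 : Q := act 7 n14643
theorem D15473 : act 7 n14643 = n15473 := rfl
theorem F61153 : act 0 n15473 = n14800 := d6_1 D15473 (iv D14800) (iv F57830)
theorem F61154 : act 2 n15473 = n14646 := d19_1 D15473 (iv D14646) (iv F57831)
theorem F61155 : act 4 n15473 = n14644 := d28_1 D15473 (iv D14644) (iv F57832)
theorem F61156 : act 6 n15473 = n14658 := d33_1 D15473 (iv D14658) (iv F57833)
theorem F61157 : act 8 n15473 = n14827 := d35_2 D14643 D15473 F58470 F54837 (iv F54137)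
def n15474 : Q := act 3 n14644
theorem D15474 : act 3 n14644 = n15474 := rfl
theorem F61158 : act 0 n15474 = n14801 := d2_1 D15474 (iv D14801) (iv F57834)
theorem F61159 : act 6 n15474 = n14659 := d23_2 (iv F57836) D15474 (iv D14659)
def n15475 : Q := act 7 n14645
theorem D15475 : act 7 n14645 = n15475 := rfl
theorem F61160 : act 0 n15475 = n14803 := d6_1 D15475 (iv D14803) (iv F57837)
theorem F61161 : act 1 n15475 = n14699 := d13_1 D15475 (iv D14699) (iv F57838)
theorem F61162 : act 3 n15475 = n14794 := d24_1 D15475 (iv D14794) F54700 (iv F54203) (iv F57839)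
theorem F61163 : act 5 n15475 = n14646 := d31_1 D15475 (iv D14646) (iv F57840)
theorem F61164 : act 8 n15475 = n14826 := d35_2 D14645 D15475 F58469 F54836 (iv F54144)
def n15476 : Q := act 3 n14647
theorem D15476 : act 3 n14647 = n15476 := rfl
theorem F61165 : act 0 n15476 = n14649 := d2_1 D15476 (iv D14649) (iv F57847)
theorem F61166 : act 1 n15476 = n14804 := d9_1 D15476 (iv D14804) (iv F57848)
theorem F61167 : act 2 n15476 = n15476 := d15_1 D15476 (iv D15476) F57849 F54358 (iv F57849)
theorem F61168 : act 4 n15476 = n15466 := d21_2 D14647 D15476 (iv D15466) (iv D14639) (iv F54155)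
theorem F61169 : act 6 n15476 = n15028 := d23_2 (iv F57850) D15476 (iv D15028)
def n15477 : Q := act 8 n14647
theorem D15477 : act 8 n14647 = n15477 := rfl
theorem F61170 : act 0 n15477 = n14651 := d7_1 D15477 (iv D14651) (iv F57847)
theorem F61171 : act 1 n15477 = n14806 := d14_1 D15477 (iv D14806) (iv F57848)
theorem F61172 : act 2 n15477 = n14700 := d20_1 D15477 (iv D14700) (iv F57849)
theorem F61173 : act 4 n15477 = n14648 := d29_1 D15477 (iv D14648) D14647
theorem F61174 : act 6 n15477 = n15029 := d34_1 D15477 (iv D15029) (iv F57850)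
def n15478 : Q := act 7 n14648
theorem D15478 : act 7 n14648 = n15478 := rfl
theorem F61175 : act 0 n15478 = n14652 := d6_1 D15478 (iv D14652) (iv F57851)
theorem F61176 : act 1 n15478 = n14807 := d13_1 D15478 (iv D14807) (iv F57852)
theorem F61177 : act 2 n15478 = n14701 := d19_1 D15478 (iv D14701) (iv F57853)
theorem F61178 : act 6 n15478 = n15030 := d33_1 D15478 (iv D15030) (iv F57855)
def n15479 : Q := act 5 n14649
theorem D15479 : act 5 n14649 = n15479 := rfl
theorem F61179 : act 1 n15479 = n14653 := d11_1 D15479 (iv D14653) (iv F57856)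
theorem F61180 : act 2 n15479 = n15479 := d17_1 D15479 (iv D15479) F57857
theorem F61181 : act 3 n15479 = n14650 := d22_1 D15479 (iv D14650) D14649
def n15480 : Q := act 7 n14649
theorem D15480 : act 7 n14649 = n15480 := rfl
theorem F61182 : act 1 n15480 = n14654 := d13_1 D15480 (iv D14654) (iv F57856)
theorem F61183 : act 2 n15480 = n15480 := d19_1 D15480 (iv D15480) F57857
def n15481 : Q := act 8 n14649
theorem D15481 : act 8 n14649 = n15481 := rfl
theorem F61184 : act 1 n15481 = n14655 := d14_1 D15481 (iv D14655) (iv F57856)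
theorem F61185 : act 2 n15481 = n15481 := d20_1 D15481 (iv D15481) F57857
theorem F61186 : act 3 n15481 = n14651 := d25_1 D15481 (iv D14651) D14649
def n15482 : Q := act 8 n14650
theorem D15482 : act 8 n14650 = n15482 := rfl
theorem F61187 : act 1 n15482 = n14657 := d14_1 D15482 (iv D14657) (iv F57858)
theorem F61188 : act 2 n15482 = n14702 := d20_1 D15482 (iv D14702) (iv F57859)
theorem F61189 : act 5 n15482 = n14651 := d32_1 D15482 (iv D14651) D14650
def n15483 : Q := act 7 n14651
theorem D15483 : act 7 n14651 = n15483 := rfl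
theorem F61190 : act 1 n15483 = n14658 := d13_1 D15483 (iv D14658) (iv F57860)
theorem F61191 : act 2 n15483 = n14703 := d19_1 D15483 (iv D14703) (iv F57861)
theorem F61192 : act 4 n15483 = n14652 := d28_1 D15483 (iv D14652) (iv F57862)
def n15484 : Q := act 3 n14652
theorem D15484 : act 3 n14652 = n15484 := rfl
theorem F61193 : act 1 n15484 = n14659 := d9_1 D15484 (iv D14659) (iv F57863)
def n15485 : Q := act 4 n14653
theorem D15485 : act 4 n14653 = n15485 := rfl
theorem F61194 : act 0 n15485 = n14815 := d3_1 D15485 (iv D14815) (iv F57865)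
theorem F61195 : act 2 n15485 = n14669 := d16_1 D15485 (iv D14669) (iv F57866)
def n15486 : Q := act 6 n14653
theorem D15486 : act 6 n14653 = n15486 := rfl
theorem F61196 : act 0 n15486 = n14816 := d5_1 D15486 (iv D14816) (iv F57865)
theorem F61197 : act 2 n15486 = n14670 := d18_1 D15486 (iv D14670) (iv F57866)
theorem F61198 : act 3 n15486 = n14656 := d23_1 D15486 (iv D14656) (iv F57867)
theorem F61199 : act 7 n15485 = n15486 := d19_0 F61197 (iv F57930) (iv F61195)
def n15487 : Q := act 7 n14653
theorem D15487 : act 7 n14653 = n15487 := rfl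
theorem F61200 : act 0 n15487 = n14817 := d6_1 D15487 (iv D14817) (iv F57865)
theorem F61201 : act 2 n15487 = n14671 := d19_1 D15487 (iv D14671) (iv F57866)
theorem F61202 : act 4 n15487 = n15486 := d28_1 D15487 (iv F61199) (iv D15485)
theorem F61203 : act 5 n15487 = n14654 := d31_1 D15487 (iv D14654) D14653
theorem F61204 : act 6 n15487 = n15485 := d33_1 D15487 F61199 (iv D15486)
def n15488 : Q := act 8 n14653
theorem D15488 : act 8 n14653 = n15488 := rfl
theorem F61205 : act 0 n15488 = n14818 := d7_1 D15488 (iv D14818) (iv F57865)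
theorem F61206 : act 2 n15488 = n14672 := d20_1 D15488 (iv D14672) (iv F57866)
theorem F61207 : act 3 n15488 = n14657 := d25_1 D15488 (iv D14657) (iv F57867)
theorem F61208 : act 5 n15488 = n14655 := d32_1 D15488 (iv D14655) D14653
def n15489 : Q := act 8 n14654
theorem D15489 : act 8 n14654 = n15489 := rfl
theorem F61209 : act 0 n15489 = n14819 := d7_1 D15489 (iv D14819) (iv F57868)
theorem F61210 : act 2 n15489 = n14673 := d20_1 D15489 (iv D14673) (iv F57869)
def n15490 : Q := act 7 n14655
theorem D15490 : act 7 n14655 = n15490 := rfl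
theorem F61211 : act 0 n15490 = n14820 := d6_1 D15490 (iv D14820) (iv F57870)
theorem F61212 : act 2 n15490 = n14674 := d19_1 D15490 (iv D14674) (iv F57871)
def n15491 : Q := act 8 n14656
theorem D15491 : act 8 n14656 = n15491 := rfl
theorem F61213 : act 0 n15491 = n14821 := d7_1 D15491 (iv D14821) (iv F57873)
theorem F61214 : act 2 n15491 = n14660 := d20_1 D15491 (iv D14660) (iv F57874)
theorem F61215 : act 6 n15491 = n14657 := d34_1 D15491 (iv D14657) D14656
def n15492 : Q := act 7 n14657
theorem D15492 : act 7 n14657 = n15492 := rfl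
theorem F61216 : act 0 n15492 = n14822 := d6_1 D15492 (iv D14822) (iv F57875)
theorem F61217 : act 2 n15492 = n14661 := d19_1 D15492 (iv D14661) (iv F57876)
theorem F61218 : act 5 n15492 = n14658 := d31_1 D15492 (iv D14658) (iv F57877)
def n15493 : Q := act 3 n14658
theorem D15493 : act 3 n14658 = n15493 := rfl
theorem F61219 : act 0 n15493 = n14823 := d2_1 D15493 (iv D14823) (iv F57878)
def n15494 : Q := act 4 n14659
theorem D15494 : act 4 n14659 = n15494 := rfl
theorem F61220 : act 0 n15494 = n14824 := d3_1 D15494 (iv D14824) (iv F57881)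
def n15495 : Q := act 7 n14660
theorem D15495 : act 7 n14660 = n15495 := rfl
theorem F61221 : act 0 n15495 = n14825 := d6_1 D15495 (iv D14825) (iv F57882)
theorem F61222 : act 1 n15495 = n14708 := d13_1 D15495 (iv D14708) (iv F57883)
theorem F61223 : act 6 n15495 = n14661 := d33_1 D15495 (iv D14661) (iv F57885)
def n15496 : Q := act 3 n14661
theorem D15496 : act 3 n14661 = n15496 := rfl
theorem F61224 : act 0 n15496 = n14826 := d2_1 D15496 (iv D14826) (iv F57886)
theorem F61225 : act 1 n15496 = n14709 := d9_1 D15496 (iv D14709) (iv F57887)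
theorem F61226 : act 5 n15496 = n14662 := d22_2 (iv F57888) D15496 (iv D14662)
theorem F61227 : act 7 n15496 = n14680 := d24_2 D14661 D15496 (iv D14680) (iv D13746) (iv F54175)
theorem F61228 : act 8 n15496 = n14803 := d25_2 F61113 D15496 (iv F61111)
def n15497 : Q := act 2 n14662
theorem D15497 : act 2 n14662 = n15497 := rfl
theorem F61229 : act 0 n15497 = n14827 := d1_1 D15497 (iv D14827) (iv F57889)
theorem F61230 : act 1 n15497 = n15084 := d8_1 D15497 F59484 F56015 F54389 (iv F57890)
theorem F61231 : act 4 n15497 = n14779 := d16_2 (iv F57891) D15497 F58338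
theorem F61232 : act 6 n15497 = n14791 := d18_2 (iv F57892) D15497 F58372
theorem F61233 : act 7 n15497 = n14681 := d19_2 (iv F57893) D15497 (iv D14681)
theorem F61234 : act 8 n15497 = n14800 := d20_2 (iv F57894) D15497 F58399
def n15498 : Q := act 4 n14663
theorem D15498 : act 4 n14663 = n15498 := rfl
theorem F61235 : act 0 n15498 = n14828 := d3_1 D15498 (iv D14828) (iv F57895)
theorem F61236 : act 1 n15498 = n15498 := d10_1 D15498 (iv D15498) F57896
theorem F61237 : act 3 n15498 = n15498 := d21_1 D15498 (iv D15498) F57897 F54186 (iv F57897)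
theorem F61238 : act 6 n15041 = n15498 := d5_0 F61235 (iv F58473) (iv F59345)
theorem F61239 : act 7 n15040 = n15498 := d6_0 F61235 (iv F58474) (iv F59342)
def n15499 : Q := act 6 n14663
theorem D15499 : act 6 n14663 = n15499 := rfl
theorem F61240 : act 0 n15499 = n14829 := d5_1 D15499 (iv D14829) (iv F57895)
theorem F61241 : act 1 n15499 = n15499 := d12_1 D15499 (iv D15499) F57896
theorem F61242 : act 3 n15499 = n14666 := d23_1 D15499 (iv D14666) (iv F57897)
theorem F61243 : act 4 n15499 = n15041 := d27_1 D15499 F61238 (iv D15498)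
theorem F61244 : act 5 n15499 = n14670 := d30_1 D15499 (iv D14670) (iv D13738) (iv F54182) D14663
theorem F61245 : act 7 n15039 = n15499 := d31_0 F61244 (iv F57930) (iv F59341)
def n15500 : Q := act 7 n14663
theorem D15500 : act 7 n14663 = n15500 := rfl
theorem F61246 : act 0 n15500 = n14830 := d6_1 D15500 (iv D14830) (iv F57895)
theorem F61247 : act 1 n15500 = n15500 := d13_1 D15500 (iv D15500) F57896
theorem F61248 : act 3 n15500 = n14967 := d24_1 D15500 (iv D14967) F55443 (iv F54187) (iv F57897)
theorem F61249 : act 4 n15500 = n15040 := d28_1 D15500 F61239 (iv D15498)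
theorem F61250 : act 5 n15500 = n14664 := d31_1 D15500 (iv D14664) D14663
theorem F61251 : act 6 n15500 = n15039 := d33_1 D15500 F61245 (iv D15499)
def n15501 : Q := act 8 n14663
theorem D15501 : act 8 n14663 = n15501 := rfl
theorem F61252 : act 0 n15501 = n14831 := d7_1 D15501 (iv D14831) (iv F57895)
theorem F61253 : act 1 n15501 = n15501 := d14_1 D15501 (iv D15501) F57896
theorem F61254 : act 3 n15501 = n14667 := d25_1 D15501 (iv D14667) (iv F57897)
theorem F61255 : act 5 n15501 = n14665 := d32_1 D15501 (iv D14665) D14663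
def n15502 : Q := act 8 n14664
theorem D15502 : act 8 n14664 = n15502 := rfl
theorem F61256 : act 0 n15502 = n14832 := d7_1 D15502 (iv D14832) (iv F57898)
theorem F61257 : act 1 n15502 = n15502 := d14_1 D15502 (iv D15502) F57899
theorem F61258 : act 3 n15502 = n14968 := d25_1 D15502 (iv D14968) (iv F57900)
theorem F61259 : act 6 n15502 = n14673 := d34_1 D15502 (iv D14673) (iv F57901)
def n15503 : Q := act 7 n14665
theorem D15503 : act 7 n14665 = n15503 := rfl
theorem F61260 : act 0 n15503 = n14833 := d6_1 D15503 (iv D14833) (iv F57902)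
theorem F61261 : act 1 n15503 = n15503 := d13_1 D15503 (iv D15503) F57903
theorem F61262 : act 3 n15503 = n14991 := d24_1 D15503 (iv D14991) F55603 (iv F54193) (iv F57904)
theorem F61263 : act 6 n15503 = n14674 := d33_1 D15503 (iv D14674) (iv F57905)
def n15504 : Q := act 8 n14666
theorem D15504 : act 8 n14666 = n15504 := rfl
theorem F61264 : act 0 n15504 = n14834 := d7_1 D15504 (iv D14834) (iv F57906)
theorem F61265 : act 1 n15504 = n15504 := d14_1 D15504 (iv D15504) F57907
theorem F61266 : act 2 n15504 = n14668 := d20_1 D15504 (iv D14668) (iv F57908)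
theorem F61267 : act 4 n15504 = n15504 := d29_1 D15504 (iv D15504) F57909
theorem F61268 : act 5 n15504 = n14675 := d32_1 D15504 (iv D14675) (iv F57910)
theorem F61269 : act 6 n15504 = n14667 := d34_1 D15504 (iv D14667) D14666
theorem F61270 : act 7 n15504 = n14992 := d35_1 D15504 (iv D14992) F55607 (iv F55455) (iv F57911)
def n15505 : Q := act 8 n14669
theorem D15505 : act 8 n14669 = n15505 := rfl
theorem F61271 : act 0 n15505 = n14839 := d7_1 D15505 (iv D14839) (iv F57924)
theorem F61272 : act 1 n15505 = n15505 := d14_1 D15505 (iv D15505) F57925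
theorem F61273 : act 3 n15505 = n14682 := d25_1 D15505 (iv D14682) (iv F57926)
theorem F61274 : act 4 n15505 = n14672 := d29_1 D15505 (iv D14672) D14669
def n15506 : Q := act 8 n14670
theorem D15506 : act 8 n14670 = n15506 := rfl
theorem F61275 : act 0 n15506 = n14840 := d7_1 D15506 (iv D14840) (iv F57927)
theorem F61276 : act 1 n15506 = n15506 := d14_1 D15506 (iv D15506) F57928
theorem F61277 : act 3 n15506 = n14675 := d25_1 D15506 (iv D14675) (iv F57929)
theorem F61278 : act 6 n15506 = n14672 := d34_1 D15506 (iv D14672) D14670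
def n15507 : Q := act 8 n14671
theorem D15507 : act 8 n14671 = n15507 := rfl
theorem F61279 : act 0 n15507 = n14841 := d7_1 D15507 (iv D14841) (iv F57931)
theorem F61280 : act 1 n15507 = n15507 := d14_1 D15507 (iv D15507) F57932
theorem F61281 : act 3 n15507 = n14969 := d25_1 D15507 (iv D14969) (iv F57933)
theorem F61282 : act 4 n15507 = n15506 := d29_1 D15507 (iv D15506) (iv F57934)
theorem F61283 : act 5 n15507 = n14673 := d32_1 D15507 (iv D14673) (iv F57935)
theorem F61284 : act 6 n15507 = n15505 := d34_1 D15507 (iv D15505) (iv F57936)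
def n15508 : Q := act 7 n14672
theorem D15508 : act 7 n14672 = n15508 := rfl
theorem F61285 : act 0 n15508 = n14842 := d6_1 D15508 (iv D14842) (iv F57937)
theorem F61286 : act 1 n15508 = n15508 := d13_1 D15508 (iv D15508) F57938
theorem F61287 : act 5 n15508 = n14674 := d31_1 D15508 (iv D14674) (iv F57940)
def n15509 : Q := act 7 n14673
theorem D15509 : act 7 n14673 = n15509 := rfl
theorem F61288 : act 0 n15509 = n14843 := d6_1 D15509 (iv D14843) (iv F57941)
theorem F61289 : act 1 n15509 = n15509 := d13_1 D15509 (iv D15509) F57942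
theorem F61290 : act 8 n15509 = n14674 := d35_2 D14673 D15509 (iv D14674) (iv D13740) D13739
def n15510 : Q := act 3 n14674
theorem D15510 : act 3 n14674 = n15510 := rfl
theorem F61291 : act 0 n15510 = n14844 := d2_1 D15510 (iv D14844) (iv F57944)
theorem F61292 : act 1 n15510 = n15510 := d9_1 D15510 (iv D15510) F57945
theorem F61293 : act 6 n15510 = n14991 := d23_2 F61263 D15510 (iv F61262)
theorem F61294 : act 7 n15510 = n14677 := d24_2 D14674 D15510 (iv D14677) (iv D13743) (iv F54212)
def n15511 : Q := act 7 n14675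
theorem D15511 : act 7 n14675 = n15511 := rfl
theorem F61295 : act 0 n15511 = n14845 := d6_1 D15511 (iv D14845) (iv F57946)
theorem F61296 : act 1 n15511 = n15511 := d13_1 D15511 (iv D15511) F57947
theorem F61297 : act 2 n15511 = n14679 := d19_1 D15511 (iv D14679) (iv F57948)
theorem F61298 : act 4 n15511 = n14684 := d28_1 D15511 (iv D14684) (iv F57949)
theorem F61299 : act 5 n15511 = n14992 := d31_1 D15511 (iv F61270) F61268
theorem F61300 : act 6 n15511 = n14676 := d33_1 D15511 (iv D14676) (iv F57950)
theorem F61301 : act 8 n15511 = n14972 := d35_2 D14675 D15511 (iv D14972) (iv D14079) (iv F54217)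
def n15512 : Q := act 3 n14676
theorem D15512 : act 3 n14676 = n15512 := rfl
theorem F61302 : act 0 n15512 = n14846 := d2_1 D15512 (iv D14846) (iv F57951)
theorem F61303 : act 1 n15512 = n15512 := d9_1 D15512 (iv D15512) F57952
theorem F61304 : act 4 n15512 = n15432 := d21_2 (iv F57954) D15512 F61005 F57717 F54594
theorem F61305 : act 5 n15512 = n14677 := d22_2 (iv F57955) D15512 (iv D14677)
theorem F61306 : act 8 n15512 = n14973 := d25_2 (iv F57956) D15512 (iv D14973)
def n15513 : Q := act 2 n14677
theorem D15513 : act 2 n14677 = n15513 := rfl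
theorem F61307 : act 0 n15513 = n14847 := d1_1 D15513 (iv D14847) (iv F57957)
theorem F61308 : act 3 n15513 = n14681 := d15_2 D14677 D15513 (iv D14681) (iv D13747) (iv F54225)
theorem F61309 : act 6 n15513 = n14788 := d18_2 (iv F57959) D15513 F58366
theorem F61310 : act 8 n15513 = n14777 := d20_2 (iv F57960) D15513 F58331
theorem F61311 : act 1 n15082 = n15513 := d14_3 F61310 F58330 D15082
def n15514 : Q := act 4 n14677
theorem D15514 : act 4 n14677 = n15514 := rfl
theorem F61312 : act 0 n15514 = n14848 := d3_1 D15514 (iv D14848) (iv F57957)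
theorem F61313 : act 1 n15514 = n15514 := d10_1 D15514 (iv D15514) F57958
theorem F61314 : act 3 n15514 = n14678 := d21_1 D15514 (iv D14678) (iv D13744) (iv F54226) D14677
theorem F61315 : act 5 n15514 = n15436 := d26_2 F61305 D15514 F61022 (iv F61006) (iv F61304)
theorem F61316 : act 6 n15514 = n14980 := d27_2 (iv F57959) D15514 F59121
theorem F61317 : act 8 n15514 = n14974 := d29_2 (iv F57960) D15514 (iv D14974)
def n15515 : Q := act 2 n14680
theorem D15515 : act 2 n14680 = n15515 := rfl
theorem F61318 : act 0 n15515 = n14849 := d1_1 D15515 (iv D14849) (iv F57972)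
theorem F61319 : act 1 n15515 = n15083 := d8_1 D15515 F59482 F56012 F54405 (iv F57973)
theorem F61320 : act 5 n15515 = n14681 := d17_2 (iv F57974) D15515 (iv D14681)
theorem F61321 : act 8 n15515 = n14778 := d20_2 (iv F57975) D15515 F58335
def n15516 : Q := act 7 n14686
theorem D15516 : act 7 n14686 = n15516 := rfl
theorem F61322 : act 0 n15516 = n15055 := d6_1 D15516 (iv D15055) (iv F57999)
theorem F61323 : act 1 n15516 = n14687 := d13_1 D15516 (iv D14687) (iv F58000)
theorem F61324 : act 4 n15516 = n14870 := d28_1 D15516 F58632 (iv F58002)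
theorem F61325 : act 6 n15516 = n14690 := d33_1 D15516 (iv D14690) (iv F58003)
theorem F61326 : act 8 n15516 = n14696 := d35_2 D14686 D15516 (iv D14696) (iv D13770) (iv F54289)
def n15517 : Q := act 3 n14687
theorem D15517 : act 3 n14687 = n15517 := rfl
theorem F61327 : act 0 n15517 = n14715 := d2_1 D15517 (iv D14715) (iv F58004)
theorem F61328 : act 2 n15517 = n14760 := d15_1 D15517 (iv D14760) F54627 (iv F54296) (iv F58005)
theorem F61329 : act 6 n15517 = n14692 := d23_2 (iv F58007) D15517 (iv D14692)
theorem F61330 : act 7 n15517 = n15517 := d24_2 D14687 D15517 (iv D15517) (iv D14687) F54292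
theorem F61331 : act 8 n15517 = n14698 := d25_2 (iv F58008) D15517 (iv D14698)
def n15518 : Q := act 7 n14688
theorem D15518 : act 7 n14688 = n15518 := rfl
theorem F61332 : act 0 n15518 = n14690 := d6_1 D15518 (iv D14690) (iv F58009)
theorem F61333 : act 1 n15518 = n14716 := d13_1 D15518 (iv D14716) (iv F58010)
theorem F61334 : act 6 n15518 = n15055 := d33_1 D15518 (iv D15055) (iv F58012)
theorem F61335 : act 8 n15518 = n14701 := d35_2 D14688 D15518 (iv D14701) (iv D13776) (iv F54303)
def n15519 : Q := act 7 n14689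
theorem D15519 : act 7 n14689 = n15519 := rfl
theorem F61336 : act 1 n15519 = n14691 := d13_1 D15519 (iv D14691) (iv F58013)
theorem F61337 : act 3 n15519 = n15125 := d24_1 D15519 F59611 F56141 (iv F55351) (iv F58014)
theorem F61338 : act 4 n15519 = n14690 := d28_1 D15519 (iv D14690) (iv F58015)
theorem F61339 : act 6 n15519 = n14870 := d33_1 D15519 F58632 (iv F58016)
theorem F61340 : act 8 n15519 = n14703 := d35_2 D14689 D15519 (iv D14703) (iv D13778) (iv F54306)
def n15520 : Q := act 3 n14690
theorem D15520 : act 3 n14690 = n15520 := rfl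
theorem F61341 : act 1 n15520 = n14692 := d9_1 D15520 (iv D14692) (iv F58017)
theorem F61342 : act 7 n15520 = n15520 := d24_2 D14690 D15520 (iv D15520) (iv D14690) F54309
theorem F61343 : act 8 n15520 = n14704 := d25_2 (iv F58018) D15520 (iv D14704)
def n15521 : Q := act 3 n14694
theorem D15521 : act 3 n14694 = n15521 := rfl
theorem F61344 : act 0 n15521 = n14718 := d2_1 D15521 (iv D14718) (iv F58032)
theorem F61345 : act 4 n15521 = n15121 := d21_2 (iv F58033) D15521 (iv D15121) (iv F57386) F57385
theorem F61346 : act 7 n15521 = n15521 := d24_2 D14694 D15521 (iv D15521) (iv D14694) F54327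
theorem F61347 : act 8 n15521 = n15124 := d25_2 F60026 D15521 (iv F60022)
def n15522 : Q := act 7 n14695
theorem D15522 : act 7 n14695 = n15522 := rfl
theorem F61348 : act 0 n15522 = n15058 := d6_1 D15522 (iv D15058) (iv F58034)
theorem F61349 : act 1 n15522 = n14697 := d13_1 D15522 (iv D14697) (iv F58035)
theorem F61350 : act 4 n15522 = n14696 := d28_1 D15522 (iv D14696) (iv F58037)
theorem F61351 : act 6 n15522 = n14703 := d33_1 D15522 (iv D14703) (iv F58038)
theorem F61352 : act 8 n15522 = n14870 := d35_2 D14695 D15522 F58632 F54960 (iv F54335)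
def n15523 : Q := act 3 n14696
theorem D15523 : act 3 n14696 = n15523 := rfl
theorem F61353 : act 0 n15523 = n15059 := d2_1 D15523 (iv D15059) (iv F58039)
theorem F61354 : act 1 n15523 = n14698 := d9_1 D15523 (iv D14698) (iv F58040)
theorem F61355 : act 6 n15523 = n14704 := d23_2 (iv F58041) D15523 (iv D14704)
theorem F61356 : act 7 n15523 = n14710 := d24_2 D14696 D15523 (iv D14710) (iv D13789) (iv F54338)
def n15524 : Q := act 3 n14697
theorem D15524 : act 3 n14697 = n15524 := rfl
theorem F61357 : act 0 n15524 = n14719 := d2_1 D15524 (iv D14719) (iv F58042)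
theorem F61358 : act 2 n15524 = n14859 := d15_1 D15524 (iv D14859) F54897 (iv F54352) (iv F58043)
theorem F61359 : act 6 n15524 = n14706 := d23_2 (iv F58045) D15524 (iv D14706)
theorem F61360 : act 7 n15524 = n15524 := d24_2 D14697 D15524 (iv D15524) (iv D14697) F54342
theorem F61361 : act 8 n15524 = n14869 := d25_2 (iv F58046) D15524 F58629
def n15525 : Q := act 4 n14698
theorem D15525 : act 4 n14698 = n15525 := rfl
theorem F61362 : act 0 n15525 = n14720 := d3_1 D15525 (iv D14720) (iv F58047)
theorem F61363 : act 2 n15525 = n15062 := d16_1 D15525 (iv F60964) F60963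
theorem F61364 : act 5 n15525 = n15063 := d26_2 F60996 D15525 (iv F60103) F60104 (iv F60995)
theorem F61365 : act 6 n15525 = n14707 := d27_2 (iv F58048) D15525 (iv D14707)
theorem F61366 : act 7 n15525 = n14711 := d28_2 (iv F58049) D15525 (iv D14711)
def n15526 : Q := act 7 n14700
theorem D15526 : act 7 n14700 = n15526 := rfl
theorem F61367 : act 0 n15526 = n14703 := d6_1 D15526 (iv D14703) (iv F58054)
theorem F61368 : act 1 n15526 = n14721 := d13_1 D15526 (iv D14721) (iv F58055)
theorem F61369 : act 4 n15526 = n14701 := d28_1 D15526 (iv D14701) (iv F58057)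
theorem F61370 : act 6 n15526 = n15058 := d33_1 D15526 (iv D15058) (iv F58058)
def n15527 : Q := act 3 n14701
theorem D15527 : act 3 n14701 = n15527 := rfl
theorem F61371 : act 0 n15527 = n14704 := d2_1 D15527 (iv D14704) (iv F58059)
theorem F61372 : act 1 n15527 = n14722 := d9_1 D15527 (iv D14722) (iv F58060)
theorem F61373 : act 6 n15527 = n15059 := d23_2 (iv F58061) D15527 (iv D15059)
theorem F61374 : act 7 n15527 = n14712 := d24_2 D14701 D15527 (iv D14712) (iv D13791) (iv F54362)
def n15528 : Q := act 7 n14702
theorem D15528 : act 7 n14702 = n15528 := rfl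
theorem F61375 : act 1 n15528 = n14705 := d13_1 D15528 (iv D14705) (iv F58062)
theorem F61376 : act 5 n15528 = n14703 := d31_1 D15528 (iv D14703) (iv F58064)
def n15529 : Q := act 3 n14703
theorem D15529 : act 3 n14703 = n15529 := rfl
theorem F61377 : act 1 n15529 = n14706 := d9_1 D15529 (iv D14706) (iv F58065)
theorem F61378 : act 7 n15529 = n15529 := d24_2 D14703 D15529 (iv D15529) (iv D14703) F54367
theorem F61379 : act 8 n15529 = n15125 := d25_2 F61340 D15529 (iv F61337)
def n15530 : Q := act 2 n14704
theorem D15530 : act 2 n14704 = n15530 := rfl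
theorem F61380 : act 7 n15530 = n14713 := d19_2 (iv F58068) D15530 (iv D14713)
def n15531 : Q := act 4 n14704
theorem D15531 : act 4 n14704 = n15531 := rfl
theorem F61381 : act 1 n15531 = n14707 := d10_1 D15531 (iv D14707) (iv F58067)
theorem F61382 : act 7 n15531 = n14714 := d28_2 (iv F58068) D15531 (iv D14714)
def n15532 : Q := act 3 n14705
theorem D15532 : act 3 n14705 = n15532 := rfl
theorem F61383 : act 0 n15532 = n14724 := d2_1 D15532 (iv D14724) (iv F58069)
theorem F61384 : act 2 n15532 = n15121 := d15_1 D15532 (iv D15121) F58084 (iv D14709) (iv F58070)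
theorem F61385 : act 5 n15532 = n14706 := d22_2 (iv F58071) D15532 (iv D14706)
theorem F61386 : act 7 n15532 = n15532 := d24_2 D14705 D15532 (iv D15532) (iv D14705) F54372
theorem F61387 : act 8 n15532 = n15123 := d25_2 F60095 D15532 (iv F60091)
def n15533 : Q := act 2 n14710
theorem D15533 : act 2 n14710 = n15533 := rfl
theorem F61388 : act 0 n15533 = n15065 := d1_1 D15533 (iv D15065) (iv F58085)
theorem F61389 : act 6 n15533 = n14713 := d18_2 (iv F58087) D15533 (iv D14713)
theorem F61390 : act 8 n15533 = n15533 := d20_2 F58088 D15533 (iv D15533)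
def n15534 : Q := act 4 n14710
theorem D15534 : act 4 n14710 = n15534 := rfl
theorem F61391 : act 0 n15534 = n15066 := d3_1 D15534 (iv D15066) (iv F58085)
theorem F61392 : act 1 n15534 = n14711 := d10_1 D15534 (iv D14711) (iv F58086)
theorem F61393 : act 3 n15534 = n15534 := d21_1 D15534 (iv D15534) (iv D14710) F54408 D14710
theorem F61394 : act 5 n15534 = n15064 := d26_2 F60982 D15534 (iv F60114) F60115 (iv F60981)
theorem F61395 : act 6 n15534 = n14714 := d27_2 (iv F58087) D15534 (iv D14714)
theorem F61396 : act 8 n15534 = n15534 := d29_2 F58088 D15534 (iv D15534)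
def n15535 : Q := act 2 n14712
theorem D15535 : act 2 n14712 = n15535 := rfl
theorem F61397 : act 0 n15535 = n14713 := d1_1 D15535 (iv D14713) (iv F58095)
theorem F61398 : act 3 n15535 = n15533 := d15_2 D14712 D15535 (iv D15533) (iv D14710) (iv F54416)
theorem F61399 : act 6 n15535 = n15065 := d18_2 (iv F58097) D15535 (iv D15065)
theorem F61400 : act 8 n15535 = n15535 := d20_2 F58098 D15535 (iv D15535)
def n15536 : Q := act 4 n14713
theorem D15536 : act 4 n14713 = n15536 := rfl
theorem F61401 : act 2 n15536 = n14714 := d16_1 D15536 (iv D14714) D14713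
theorem F61402 : act 8 n15536 = n15536 := d29_2 F58099 D15536 (iv D15536)
def n15537 : Q := act 3 n14716
theorem D15537 : act 3 n14716 = n15537 := rfl
theorem F61403 : act 0 n15537 = n14717 := d2_1 D15537 (iv D14717) (iv F58108)
theorem F61404 : act 6 n15537 = n15056 := d23_2 (iv F58110) D15537 (iv D15056)
theorem F61405 : act 7 n15537 = n15537 := d24_2 D14716 D15537 (iv D15537) (iv D14716) F54436
theorem F61406 : act 8 n15537 = n14722 := d25_2 (iv F58111) D15537 (iv D14722)
def n15538 : Q := act 3 n14721
theorem D15538 : act 3 n14721 = n15538 := rfl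
theorem F61407 : act 0 n15538 = n14723 := d2_1 D15538 (iv D14723) (iv F58130)
theorem F61408 : act 6 n15538 = n15060 := d23_2 (iv F58133) D15538 (iv D15060)
theorem F61409 : act 7 n15538 = n15538 := d24_2 D14721 D15538 (iv D15538) (iv D14721) F54469
theorem F61410 : act 8 n15538 = n15128 := d25_2 F60679 D15538 (iv F60675)
def n15539 : Q := act 8 n14725
theorem D15539 : act 8 n14725 = n15539 := rfl
theorem F61411 : act 1 n15539 = n14727 := d14_1 D15539 (iv D14727) D14725
theorem F61412 : act 2 n15539 = n14762 := d20_1 D15539 (iv D14762) (iv F58145)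
theorem F61413 : act 3 n15539 = n14730 := d25_1 D15539 (iv D14730) (iv F58146)
theorem F61414 : act 5 n15539 = n14764 := d32_1 D15539 (iv D14764) (iv F58147)
def n15540 : Q := act 8 n14726
theorem D15540 : act 8 n14726 = n15540 := rfl
theorem F61415 : act 0 n15540 = n15301 := d7_1 D15540 (iv D15301) (iv F58149)
theorem F61416 : act 2 n15540 = n14728 := d20_1 D15540 (iv D14728) (iv F58150)
theorem F61417 : act 3 n15540 = n15177 := d25_1 D15540 (iv D15177) (iv F58151)
theorem F61418 : act 4 n15540 = n14727 := d29_1 D15540 (iv D14727) D14726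
theorem F61419 : act 6 n15540 = n15188 := d34_1 D15540 (iv D15188) (iv F58152)
def n15541 : Q := act 7 n14727
theorem D15541 : act 7 n14727 = n15541 := rfl
theorem F61420 : act 2 n15541 = n14729 := d19_1 D15541 (iv D14729) (iv F58154)
theorem F61421 : act 5 n15541 = n15076 := d31_1 D15541 (iv D15076) (iv F58156)
theorem F61422 : act 8 n15541 = n15266 := d35_2 D14727 D15541 (iv D15266) (iv D14422) (iv F54506)
def n15542 : Q := act 7 n14728
theorem D15542 : act 7 n14728 = n15542 := rfl
theorem F61423 : act 0 n15542 = n15335 := d6_1 D15542 (iv D15335) (iv F58157)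
theorem F61424 : act 1 n15542 = n14882 := d13_1 D15542 (iv D14882) (iv F58158)
theorem F61425 : act 4 n15542 = n14729 := d28_1 D15542 (iv D14729) (iv F58160)
theorem F61426 : act 6 n15542 = n15202 := d33_1 D15542 (iv D15202) (iv F58161)
theorem F61427 : act 8 n15542 = n15269 := d35_2 D14728 D15542 (iv D15269) (iv D14424) (iv F54511)
def n15543 : Q := act 7 n14730
theorem D15543 : act 7 n14730 = n15543 := rfl
theorem F61428 : act 1 n15543 = n14731 := d13_1 D15543 (iv D14731) (iv F58166)
theorem F61429 : act 2 n15543 = n14756 := d19_1 D15543 (iv D14756) (iv F58167)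
theorem F61430 : act 5 n15543 = n14779 := d31_1 D15543 (iv D14779) (iv F58168)
theorem F61431 : act 8 n15543 = n14736 := d35_2 D14730 D15543 (iv D14736) (iv D13825) (iv F54517)
def n15544 : Q := act 3 n14731
theorem D15544 : act 3 n14731 = n15544 := rfl
theorem F61432 : act 2 n15544 = n14792 := d15_1 D15544 (iv D14792) F54694 (iv F54521) (iv F58169)
theorem F61433 : act 5 n15544 = n15085 := d22_2 (iv F58170) D15544 (iv D15085)
theorem F61434 : act 8 n15544 = n14742 := d25_2 (iv F58171) D15544 (iv D14742)
def n15545 : Q := act 3 n14732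
theorem D15545 : act 3 n14732 = n15545 := rfl
theorem F61435 : act 2 n15545 = n14801 := d15_1 D15545 (iv D14801) F54715 (iv F54528) (iv F58172)
theorem F61436 : act 6 n15545 = n14742 := d23_2 (iv F58173) D15545 (iv D14742)
theorem F61437 : act 7 n15545 = n15305 := d24_2 D14732 D15545 (iv D15305) (iv D14454) (iv F54525)
def n15546 : Q := act 5 n14733
theorem D15546 : act 5 n14733 = n15546 := rfl
theorem F61438 : act 1 n15546 = n14737 := d11_1 D15546 (iv D14737) (iv F58174)
theorem F61439 : act 2 n15546 = n15546 := d17_1 D15546 (iv D15546) F58175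
theorem F61440 : act 3 n15546 = n14734 := d22_1 D15546 (iv D14734) D14733
theorem F61441 : act 7 n15462 = n15546 := d37_0 (iv D15546) F58176 (iv D14460) F53267 F49382 F45376 (iv F45487) D12586 F49503 F46883 F46882 (iv F46347) (iv F50283) F50285 (iv D11749) (iv D10299) (iv D8479) F23885 (iv F21953) F21952 (iv D4158) (iv F13133) (iv D3298) F9808 F7342 F5862 F4412 (iv F5846) (iv D1391) (iv D1020) (iv F4374) (iv D1017) F3311 F3310 F3314 F3312 D1018 F4381 (iv F5820) (iv F7750) (iv F10348) F10352 D3512 F13870 F45127 (iv F15815) (iv F21248) F21247 (iv D5490) D5489 F45117 D9029 D10629 F41478 F34404 (iv F32515) (iv F40473) D11816 D12839 (iv F54536) (iv F58174) (iv F61114)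
def n15547 : Q := act 7 n14733
theorem D15547 : act 7 n14733 = n15547 := rfl
theorem F61442 : act 0 n15547 = n15546 := d6_1 D15547 (iv F61441) F61114
theorem F61443 : act 1 n15547 = n14738 := d13_1 D15547 (iv D14738) (iv F58174)
theorem F61444 : act 2 n15547 = n15547 := d19_1 D15547 (iv D15547) F58175
theorem F61445 : act 3 n15547 = n15156 := d24_1 D15547 F59730 (iv F57594) F57597 D14733
theorem F61446 : act 4 n15547 = n15314 := d28_1 D15547 (iv D15314) (iv F58176)
theorem F61447 : act 5 n15547 = n15462 := d31_1 D15547 F61441 (iv D15546)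
theorem F61448 : act 6 n15547 = n15148 := d33_1 D15547 (iv F60380) F60379
def n15548 : Q := act 8 n14733
theorem D15548 : act 8 n14733 = n15548 := rfl
theorem F61449 : act 1 n15548 = n14739 := d14_1 D15548 (iv D14739) (iv F58174)
theorem F61450 : act 2 n15548 = n15548 := d20_1 D15548 (iv D15548) F58175
theorem F61451 : act 3 n15548 = n14735 := d25_1 D15548 (iv D14735) D14733
theorem F61452 : act 4 n15548 = n15315 := d29_1 D15548 (iv D15315) (iv F58176)
def n15549 : Q := act 8 n14734
theorem D15549 : act 8 n14734 = n15549 := rfl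
theorem F61453 : act 1 n15549 = n14740 := d14_1 D15549 (iv D14740) (iv F58177)
theorem F61454 : act 2 n15549 = n14757 := d20_1 D15549 (iv D14757) (iv F58178)
theorem F61455 : act 4 n15549 = n14799 := d29_1 D15549 (iv D14799) (iv F58179)
theorem F61456 : act 5 n15549 = n14735 := d32_1 D15549 (iv D14735) D14734
def n15550 : Q := act 7 n14735
theorem D15550 : act 7 n14735 = n15550 := rfl
theorem F61457 : act 1 n15550 = n14741 := d13_1 D15550 (iv D14741) (iv F58180)
theorem F61458 : act 2 n15550 = n14758 := d19_1 D15550 (iv D14758) (iv F58181)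
theorem F61459 : act 4 n15550 = n14736 := d28_1 D15550 (iv D14736) (iv F58182)
def n15551 : Q := act 3 n14736
theorem D15551 : act 3 n14736 = n15551 := rfl
theorem F61460 : act 1 n15551 = n14742 := d9_1 D15551 (iv D14742) (iv F58183)
theorem F61461 : act 5 n15551 = n14801 := d22_2 (iv F58185) D15551 (iv D14801)
theorem F61462 : act 7 n15551 = n15319 := d24_2 D14736 D15551 (iv D15319) (iv D14463) (iv F54534)
def n15552 : Q := act 4 n14737
theorem D15552 : act 4 n14737 = n15552 := rfl
theorem F61463 : act 2 n15552 = n14744 := d16_1 D15552 (iv D14744) (iv F58186)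
theorem F61464 : act 3 n15552 = n15088 := d21_1 D15552 (iv D15088) F56019 (iv F54539) (iv F58187)
theorem F61465 : act 5 n15552 = n15320 := d26_2 D14737 D15552 (iv D15320) (iv D14464) (iv F54537)
def n15553 : Q := act 7 n14737
theorem D15553 : act 7 n14737 = n15553 := rfl
theorem F61466 : act 0 n15553 = n15255 := d6_1 D15553 (iv F60243) (iv F60244)
theorem F61467 : act 1 n15553 = n15462 := d13_1 D15553 F61441 F61438
theorem F61468 : act 2 n15553 = n14745 := d19_1 D15553 (iv D14745) (iv F58186)
theorem F61469 : act 3 n15553 = n15154 := d24_1 D15553 F59719 (iv F56991) F56994 (iv F58187)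
theorem F61470 : act 5 n15553 = n14738 := d31_1 D15553 (iv D14738) D14737
theorem F61471 : act 6 n15553 = n15431 := d33_1 D15553 F61002 F60254
def n15554 : Q := act 8 n14737
theorem D15554 : act 8 n14737 = n15554 := rfl
theorem F61472 : act 2 n15554 = n14746 := d20_1 D15554 (iv D14746) (iv F58186)
theorem F61473 : act 3 n15554 = n14740 := d25_1 D15554 (iv D14740) (iv F58187)
theorem F61474 : act 5 n15554 = n14739 := d32_1 D15554 (iv D14739) D14737
def n15555 : Q := act 8 n14738
theorem D15555 : act 8 n14738 = n15555 := rfl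
theorem F61475 : act 0 n15555 = n15258 := d7_1 D15555 (iv D15258) (iv F58188)
theorem F61476 : act 2 n15555 = n14747 := d20_1 D15555 (iv D14747) (iv F58189)
theorem F61477 : act 3 n15555 = n15158 := d25_1 D15555 (iv D15158) (iv F58190)
theorem F61478 : act 4 n15555 = n15324 := d29_1 D15555 (iv D15324) (iv F58191)
theorem F61479 : act 6 n15555 = n15150 := d34_1 D15555 (iv D15150) (iv F58192)
def n15556 : Q := act 7 n14739
theorem D15556 : act 7 n14739 = n15556 := rfl
theorem F61480 : act 2 n15556 = n14748 := d19_1 D15556 (iv D14748) (iv F58193)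
theorem F61481 : act 4 n15556 = n15325 := d28_1 D15556 (iv D15325) (iv F58195)
def n15557 : Q := act 7 n14740
theorem D15557 : act 7 n14740 = n15557 := rfl
theorem F61482 : act 2 n15557 = n14743 := d19_1 D15557 (iv D14743) (iv F58196)
theorem F61483 : act 4 n15557 = n15095 := d28_1 D15557 (iv D15095) (iv F58197)
theorem F61484 : act 5 n15557 = n14741 := d31_1 D15557 (iv D14741) (iv F58198)
def n15558 : Q := act 3 n14741
theorem D15558 : act 3 n14741 = n15558 := rfl
def n15559 : Q := act 4 n14742
theorem D15559 : act 4 n14742 = n15559 := rfl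
theorem F61485 : act 2 n15559 = n14824 := d16_1 D15559 (iv D14824) (iv F58201)
theorem F61486 : act 7 n15559 = n15329 := d28_2 (iv F58203) D15559 (iv D15329)
def n15560 : Q := act 7 n14744
theorem D15560 : act 7 n14744 = n15560 := rfl
theorem F61487 : act 0 n15560 = n14998 := d6_1 D15560 (iv F60838) F60833
theorem F61488 : act 1 n15560 = n15560 := d13_1 D15560 (iv D15560) F58207
theorem F61489 : act 3 n15560 = n14972 := d24_1 D15560 (iv D14972) F58244 (iv D14751) (iv F58208)
theorem F61490 : act 4 n15560 = n14745 := d28_1 D15560 (iv D14745) D14744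
theorem F61491 : act 5 n15560 = n14987 := d31_1 D15560 (iv F59148) (iv F58209)
theorem F61492 : act 6 n15560 = n14973 := d33_1 D15560 (iv F60869) F60868
def n15561 : Q := act 8 n14744
theorem D15561 : act 8 n14744 = n15561 := rfl
theorem F61493 : act 1 n15561 = n15561 := d14_1 D15561 (iv D15561) F58207
theorem F61494 : act 3 n15561 = n14752 := d25_1 D15561 (iv D14752) (iv F58208)
theorem F61495 : act 4 n15561 = n14746 := d29_1 D15561 (iv D14746) D14744
theorem F61496 : act 5 n15561 = n15341 := d32_1 D15561 (iv D15341) (iv F58209)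
def n15562 : Q := act 8 n14745
theorem D15562 : act 8 n14745 = n15562 := rfl
theorem F61497 : act 0 n15562 = n15256 := d7_1 D15562 (iv D15256) (iv F58210)
theorem F61498 : act 1 n15562 = n15562 := d14_1 D15562 (iv D15562) F58211
theorem F61499 : act 3 n15562 = n14976 := d25_1 D15562 (iv D14976) (iv F58212)
theorem F61500 : act 5 n15562 = n14747 := d32_1 D15562 (iv D14747) (iv F58213)
theorem F61501 : act 6 n15562 = n15432 := d34_1 D15562 (iv D15432) (iv F58214)
def n15563 : Q := act 7 n14746
theorem D15563 : act 7 n14746 = n15563 := rfl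
theorem F61502 : act 1 n15563 = n15563 := d13_1 D15563 (iv D15563) F58215
theorem F61503 : act 5 n15563 = n14748 := d31_1 D15563 (iv D14748) (iv F58217)
def n15564 : Q := act 7 n14747
theorem D15564 : act 7 n14747 = n15564 := rfl
theorem F61504 : act 0 n15564 = n15259 := d6_1 D15564 (iv D15259) (iv F58218)
theorem F61505 : act 1 n15564 = n15564 := d13_1 D15564 (iv D15564) F58219
theorem F61506 : act 4 n15564 = n15345 := d28_1 D15564 (iv D15345) (iv F58221)
theorem F61507 : act 6 n15564 = n15153 := d33_1 D15564 (iv D15153) (iv F58222)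
theorem F61508 : act 8 n15564 = n14748 := d35_2 D14747 D15564 (iv D14748) (iv D13834) D13833
def n15565 : Q := act 8 n14750
theorem D15565 : act 8 n14750 = n15565 := rfl
theorem F61509 : act 0 n15565 = n14995 := d7_1 D15565 F59180 (iv F58232)
theorem F61510 : act 1 n15565 = n15565 := d14_1 D15565 (iv D15565) F58233
theorem F61511 : act 2 n15565 = n14994 := d20_1 D15565 (iv D14994) (iv F58234)
theorem F61512 : act 4 n15565 = n14754 := d29_1 D15565 (iv D14754) (iv F58235)
theorem F61513 : act 5 n15565 = n14970 := d32_1 D15565 F59072 (iv F58236)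
theorem F61514 : act 6 n15565 = n14752 := d34_1 D15565 (iv D14752) D14750
theorem F61515 : act 7 n15565 = n14969 := d35_1 D15565 (iv D14969) (iv D14075) D14076 F58237
def n15566 : Q := act 7 n14757
theorem D15566 : act 7 n14757 = n15566 := rfl
theorem F61516 : act 1 n15566 = n14759 := d13_1 D15566 (iv D14759) (iv F58274)
theorem F61517 : act 4 n15566 = n14803 := d28_1 D15566 (iv D14803) (iv F58276)
theorem F61518 : act 5 n15566 = n14758 := d31_1 D15566 (iv D14758) (iv F58277)
def n15567 : Q := act 3 n14758
theorem D15567 : act 3 n14758 = n15567 := rfl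
theorem F61519 : act 1 n15567 = n14760 := d9_1 D15567 (iv D14760) (iv F58278)
theorem F61520 : act 7 n15567 = n15567 := d24_2 D14758 D15567 (iv D15567) (iv D14758) F54617
def n15568 : Q := act 3 n14759
theorem D15568 : act 3 n14759 = n15568 := rfl
theorem F61521 : act 0 n15568 = n14761 := d2_1 D15568 (iv D14761) (iv F58280)
theorem F61522 : act 5 n15568 = n14760 := d22_2 (iv F58283) D15568 (iv D14760)
theorem F61523 : act 7 n15568 = n15568 := d24_2 D14759 D15568 (iv D15568) (iv D14759) F54623
def n15569 : Q := act 7 n14762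
theorem D15569 : act 7 n14762 = n15569 := rfl
theorem F61524 : act 1 n15569 = n14881 := d13_1 D15569 (iv D14881) (iv F58288)
theorem F61525 : act 5 n15569 = n14766 := d31_1 D15569 (iv D14766) (iv F58290)
theorem F61526 : act 8 n15569 = n15406 := d35_2 D14762 D15569 (iv D15406) (iv D14569) (iv F54638)
def n15570 : Q := act 3 n14763
theorem D15570 : act 3 n14763 = n15570 := rfl
theorem F61527 : act 0 n15570 = n15001 := d2_1 D15570 (iv F61013) F61011
theorem F61528 : act 1 n15570 = n15073 := d9_1 D15570 (iv D15073) (iv F58291)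
theorem F61529 : act 2 n15570 = n14974 := d15_1 D15570 F59089 F55501 (iv F54646) (iv F58292)
theorem F61530 : act 4 n15570 = n14777 := d21_2 D14763 D15570 (iv D14777) (iv D13866) (iv F54643)
theorem F61531 : act 5 n15570 = n15434 := d22_2 F59195 D15570 F61013
theorem F61532 : act 6 n15570 = n14770 := d23_2 (iv F58293) D15570 (iv D14770)
def n15571 : Q := act 8 n14763
theorem D15571 : act 8 n14763 = n15571 := rfl
theorem F61533 : act 1 n15571 = n15075 := d14_1 D15571 (iv D15075) (iv F58291)
theorem F61534 : act 2 n15571 = n14765 := d20_1 D15571 (iv D14765) (iv F58292)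
theorem F61535 : act 4 n15571 = n14764 := d29_1 D15571 (iv D14764) D14763
theorem F61536 : act 6 n15571 = n14772 := d34_1 D15571 (iv D14772) (iv F58293)
def n15572 : Q := act 7 n14764
theorem D15572 : act 7 n14764 = n15572 := rfl
theorem F61537 : act 1 n15572 = n15076 := d13_1 D15572 (iv D15076) (iv F58294)
theorem F61538 : act 2 n15572 = n14766 := d19_1 D15572 (iv D14766) (iv F58295)
theorem F61539 : act 6 n15572 = n14773 := d33_1 D15572 (iv D14773) (iv F58297)
def n15573 : Q := act 7 n14765
theorem D15573 : act 7 n14765 = n15573 := rfl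
theorem F61540 : act 1 n15573 = n14883 := d13_1 D15573 (iv D14883) (iv F58298)
theorem F61541 : act 4 n15573 = n14766 := d28_1 D15573 (iv D14766) (iv F58300)
theorem F61542 : act 6 n15573 = n14776 := d33_1 D15573 (iv D14776) (iv F58301)
def n15574 : Q := act 4 n14767
theorem D15574 : act 4 n14767 = n15574 := rfl
theorem F61543 : act 0 n15574 = n14768 := d3_1 D15574 (iv D14768) D14767
theorem F61544 : act 2 n15574 = n14884 := d16_1 D15574 (iv D14884) (iv F58304)
theorem F61545 : act 6 n15574 = n15018 := d27_2 (iv F58306) D15574 (iv D15018)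
theorem F61546 : act 7 n15574 = n15434 := d28_2 (iv F58307) D15574 (iv D15434)
def n15575 : Q := act 8 n14767
theorem D15575 : act 8 n14767 = n15575 := rfl
theorem F61547 : act 0 n15575 = n14769 := d7_1 D15575 (iv D14769) D14767
theorem F61548 : act 2 n15575 = n14885 := d20_1 D15575 (iv D14885) (iv F58304)
theorem F61549 : act 3 n15575 = n14781 := d25_1 D15575 (iv D14781) (iv F58305)
theorem F61550 : act 6 n15575 = n15019 := d34_1 D15575 (iv D15019) (iv F58306)
def n15576 : Q := act 3 n14768
theorem D15576 : act 3 n14768 = n15576 := rfl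
theorem F61551 : act 1 n15576 = n14770 := d9_1 D15576 (iv D14770) (iv F58308)
theorem F61552 : act 2 n15576 = n15576 := d15_1 D15576 (iv D15576) F58309 F55034 (iv F58309)
theorem F61553 : act 4 n15576 = n14782 := d21_2 D14768 D15576 (iv D14782) (iv D13871) (iv F54652)
theorem F61554 : act 6 n15576 = n15073 := d23_2 (iv F58310) D15576 (iv D15073)
def n15577 : Q := act 5 n14768
theorem D15577 : act 5 n14768 = n15577 := rfl
theorem F61555 : act 1 n15577 = n14771 := d11_1 D15577 (iv D14771) (iv F58308)
theorem F61556 : act 2 n15577 = n14886 := d17_1 D15577 (iv D14886) (iv F58309)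
theorem F61557 : act 4 n15577 = n14997 := d26_1 D15577 F60258 (iv D15261) F56883 D14768
theorem F61558 : act 7 n15577 = n15001 := d31_2 (iv F58311) D15577 F59195
def n15578 : Q := act 8 n14768
theorem D15578 : act 8 n14768 = n15578 := rfl
theorem F61559 : act 1 n15578 = n14772 := d14_1 D15578 (iv D14772) (iv F58308)
theorem F61560 : act 2 n15578 = n14887 := d20_1 D15578 (iv D14887) (iv F58309)
theorem F61561 : act 4 n15578 = n14769 := d29_1 D15578 (iv D14769) D14768
theorem F61562 : act 6 n15578 = n15075 := d34_1 D15578 (iv D15075) (iv F58310)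
def n15579 : Q := act 7 n14769
theorem D15579 : act 7 n14769 = n15579 := rfl
theorem F61563 : act 1 n15579 = n14773 := d13_1 D15579 (iv D14773) (iv F58312)
theorem F61564 : act 2 n15579 = n14888 := d19_1 D15579 (iv D14888) (iv F58313)
theorem F61565 : act 6 n15579 = n15076 := d33_1 D15579 (iv D15076) (iv F58315)
theorem F61566 : act 8 n15579 = n15572 := d35_2 D14769 D15579 (iv D15572) (iv D14764) (iv F54654)
def n15580 : Q := act 5 n14770
theorem D15580 : act 5 n14770 = n15580 := rfl
theorem F61567 : act 2 n15580 = n14978 := d17_1 D15580 (iv D14978) (iv F58316)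
theorem F61568 : act 3 n15580 = n14771 := d22_1 D15580 (iv D14771) D14770
theorem F61569 : act 6 n15580 = n15442 := d30_2 F61532 D15580 (iv D15442) (iv F61014) (iv F61531)
def n15581 : Q := act 7 n14770
theorem D15581 : act 7 n14770 = n15581 := rfl
theorem F61570 : act 2 n15581 = n14979 := d19_1 D15581 (iv D14979) (iv F58316)
theorem F61571 : act 4 n15581 = n14787 := d28_1 D15581 (iv D14787) (iv F58317)
def n15582 : Q := act 8 n14770
theorem D15582 : act 8 n14770 = n15582 := rfl
theorem F61572 : act 2 n15582 = n14980 := d20_1 D15582 (iv D14980) (iv F58316)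
theorem F61573 : act 3 n15582 = n14772 := d25_1 D15582 (iv D14772) D14770
theorem F61574 : act 4 n15582 = n14788 := d29_1 D15582 (iv D14788) (iv F58317)
def n15583 : Q := act 6 n14771
theorem D15583 : act 6 n14771 = n15583 := rfl
theorem F61575 : act 0 n15583 = n15580 := d5_1 D15583 F61569 F61042
theorem F61576 : act 2 n15583 = n14774 := d18_1 D15583 (iv D14774) (iv F58318)
theorem F61577 : act 3 n15583 = n15442 := d23_1 D15583 (iv F61569) F61568
theorem F61578 : act 5 n15583 = n15441 := d30_1 D15583 F61041 F59195 F58293 D14771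
def n15584 : Q := act 8 n14771
theorem D15584 : act 8 n14771 = n15584 := rfl
theorem F61579 : act 2 n15584 = n14775 := d20_1 D15584 (iv D14775) (iv F58318)
theorem F61580 : act 5 n15584 = n14772 := d32_1 D15584 (iv D14772) D14771
def n15585 : Q := act 7 n14772
theorem D15585 : act 7 n14772 = n15585 := rfl
theorem F61581 : act 2 n15585 = n14776 := d19_1 D15585 (iv D14776) (iv F58319)
theorem F61582 : act 4 n15585 = n14773 := d28_1 D15585 (iv D14773) (iv F58320)
def n15586 : Q := act 3 n14773
theorem D15586 : act 3 n14773 = n15586 := rfl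
theorem F61583 : act 7 n15586 = n14792 := d24_2 D14773 D15586 (iv D14792) (iv D13876) (iv F54657)
def n15587 : Q := act 8 n14774
theorem D15587 : act 8 n14774 = n15587 := rfl
theorem F61584 : act 1 n15587 = n14892 := d14_1 D15587 (iv D14892) (iv F58322)
theorem F61585 : act 3 n15587 = n14983 := d25_1 D15587 (iv D14983) (iv F58323)
theorem F61586 : act 6 n15587 = n14775 := d34_1 D15587 (iv D14775) D14774
def n15588 : Q := act 7 n14775
theorem D15588 : act 7 n14775 = n15588 := rfl
theorem F61587 : act 1 n15588 = n14893 := d13_1 D15588 (iv D14893) (iv F58324)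
theorem F61588 : act 5 n15588 = n14776 := d31_1 D15588 (iv D14776) (iv F58326)
def n15589 : Q := act 3 n14776
theorem D15589 : act 3 n14776 = n15589 := rfl
theorem F61589 : act 1 n15589 = n14894 := d9_1 D15589 (iv D14894) (iv F58327)
theorem F61590 : act 7 n15589 = n14985 := d24_2 D14776 D15589 (iv D14985) (iv D14100) (iv F54661)
def n15590 : Q := act 5 n14777
theorem D15590 : act 5 n14777 = n15590 := rfl
theorem F61591 : act 0 n15590 = n14999 := d4_1 D15590 F59190 (iv F58329)
theorem F61592 : act 1 n15590 = n15080 := d11_1 D15590 (iv D15080) (iv F58330)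
theorem F61593 : act 2 n15590 = n14973 := d17_1 D15590 F59086 (iv F58331)
theorem F61594 : act 3 n15590 = n14778 := d22_1 D15590 (iv D14778) D14777
theorem F61595 : act 4 n15590 = n15431 := d26_1 D15590 F61001 D15434 (iv F61531) F61530
def n15591 : Q := act 7 n14777
theorem D15591 : act 7 n14777 = n15591 := rfl
theorem F61596 : act 0 n15591 = n14997 := d6_1 D15591 F59183 (iv F58329)
theorem F61597 : act 1 n15591 = n15081 := d13_1 D15591 (iv D15081) (iv F58330)
theorem F61598 : act 2 n15591 = n14971 := d19_1 D15591 F59076 (iv F58331)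
theorem F61599 : act 3 n15591 = n14796 := d24_1 D15591 (iv D14796) (iv D13880) (iv F54668) D14777
theorem F61600 : act 6 n15591 = n14787 := d33_1 D15591 (iv D14787) (iv F58332)
def n15592 : Q := act 3 n14779
theorem D15592 : act 3 n14779 = n15592 := rfl
theorem F61601 : act 1 n15592 = n15085 := d9_1 D15592 (iv D15085) (iv F58337)
theorem F61602 : act 6 n15592 = n14792 := d23_2 (iv F58339) D15592 (iv D14792)
theorem F61603 : act 8 n15592 = n14801 := d25_2 (iv F58340) D15592 (iv D14801)
def n15593 : Q := act 3 n14780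
theorem D15593 : act 3 n14780 = n15593 := rfl
theorem F61604 : act 0 n15593 = n14782 := d2_1 D15593 (iv D14782) (iv F58341)
theorem F61605 : act 2 n15593 = n15593 := d15_1 D15593 (iv D15593) F58342 F54875 (iv F58342)
theorem F61606 : act 6 n15593 = n15024 := d23_2 (iv F58343) D15593 (iv D15024)
def n15594 : Q := act 8 n14780
theorem D15594 : act 8 n14780 = n15594 := rfl
theorem F61607 : act 0 n15594 = n14784 := d7_1 D15594 (iv D14784) (iv F58341)
theorem F61608 : act 2 n15594 = n14854 := d20_1 D15594 (iv D14854) (iv F58342)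
theorem F61609 : act 4 n15594 = n14781 := d29_1 D15594 (iv D14781) D14780
theorem F61610 : act 6 n15594 = n15025 := d34_1 D15594 (iv D15025) (iv F58343)
def n15595 : Q := act 7 n14781
theorem D15595 : act 7 n14781 = n15595 := rfl
theorem F61611 : act 0 n15595 = n14785 := d6_1 D15595 (iv D14785) (iv F58345)
theorem F61612 : act 2 n15595 = n14855 := d19_1 D15595 (iv D14855) (iv F58346)
theorem F61613 : act 6 n15595 = n15026 := d33_1 D15595 (iv D15026) (iv F58347)
theorem F61614 : act 8 n15595 = n14807 := d35_2 D14781 D15595 (iv D14807) (iv D13888) (iv F54681)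
def n15596 : Q := act 5 n14782
theorem D15596 : act 5 n14782 = n15596 := rfl
theorem F61615 : act 1 n15596 = n14786 := d11_1 D15596 (iv D14786) (iv F58348)
theorem F61616 : act 2 n15596 = n15596 := d17_1 D15596 (iv D15596) F58349
theorem F61617 : act 3 n15596 = n14783 := d22_1 D15596 (iv D14783) D14782
def n15597 : Q := act 7 n14782
theorem D15597 : act 7 n14782 = n15597 := rfl
theorem F61618 : act 1 n15597 = n14787 := d13_1 D15597 (iv D14787) (iv F58348)
theorem F61619 : act 2 n15597 = n15597 := d19_1 D15597 (iv D15597) F58349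
theorem F61620 : act 3 n15597 = n14809 := d24_1 D15597 (iv D14809) (iv D13889) (iv F54685) D14782
theorem F61621 : act 6 n15597 = n15081 := d33_1 D15597 (iv D15081) (iv F58350)
def n15598 : Q := act 8 n14782
theorem D15598 : act 8 n14782 = n15598 := rfl
theorem F61622 : act 1 n15598 = n14788 := d14_1 D15598 (iv D14788) (iv F58348)
theorem F61623 : act 2 n15598 = n15598 := d20_1 D15598 (iv D15598) F58349
theorem F61624 : act 3 n15598 = n14784 := d25_1 D15598 (iv D14784) D14782
theorem F61625 : act 6 n15598 = n15082 := d34_1 D15598 (iv D15082) (iv F58350)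
def n15599 : Q := act 8 n14783
theorem D15599 : act 8 n14783 = n15599 := rfl
theorem F61626 : act 1 n15599 = n14790 := d14_1 D15599 (iv D14790) (iv F58351)
theorem F61627 : act 2 n15599 = n14856 := d20_1 D15599 (iv D14856) (iv F58352)
theorem F61628 : act 5 n15599 = n14784 := d32_1 D15599 (iv D14784) D14783
def n15600 : Q := act 7 n14784
theorem D15600 : act 7 n14784 = n15600 := rfl
theorem F61629 : act 1 n15600 = n14791 := d13_1 D15600 (iv D14791) (iv F58354)
theorem F61630 : act 2 n15600 = n14857 := d19_1 D15600 (iv D14857) (iv F58355)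
theorem F61631 : act 4 n15600 = n14785 := d28_1 D15600 (iv D14785) (iv F58356)
theorem F61632 : act 6 n15600 = n15084 := d33_1 D15600 (iv D15084) (iv F58357)
theorem F61633 : act 8 n15600 = n14813 := d35_2 D14784 D15600 (iv D14813) (iv D13891) (iv F54685)
def n15601 : Q := act 3 n14785
theorem D15601 : act 3 n14785 = n15601 := rfl
theorem F61634 : act 1 n15601 = n14792 := d9_1 D15601 (iv D14792) (iv F58358)
theorem F61635 : act 6 n15601 = n15085 := d23_2 (iv F58360) D15601 (iv D15085)
theorem F61636 : act 8 n15601 = n14814 := d25_2 (iv F58361) D15601 (iv D14814)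
def n15602 : Q := act 4 n14786
theorem D15602 : act 4 n14786 = n15602 := rfl
theorem F61637 : act 2 n15602 = n14986 := d16_1 D15602 (iv D14986) (iv F58362)
theorem F61638 : act 6 n15322 = n15602 := d18_0 F61637 F59150 (iv F60498)
theorem F61639 : act 7 n15321 = n15602 := d19_0 F61637 (iv F59151) (iv F60496)
def n15603 : Q := act 6 n14786
theorem D15603 : act 6 n14786 = n15603 := rfl
theorem F61640 : act 2 n15603 = n14987 := d18_1 D15603 (iv D14987) (iv F58362)
theorem F61641 : act 3 n15603 = n14789 := d23_1 D15603 (iv D14789) (iv F58363)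
theorem F61642 : act 4 n15603 = n15322 := d27_1 D15603 F61638 (iv D15602)
theorem F61643 : act 7 n15320 = n15603 := d28_0 F61642 (iv D15322) D15320
def n15604 : Q := act 7 n14786
theorem D15604 : act 7 n14786 = n15604 := rfl
theorem F61644 : act 2 n15604 = n14988 := d19_1 D15604 (iv D14988) (iv F58362)
theorem F61645 : act 3 n15604 = n14817 := d24_1 D15604 (iv D14817) F54747 (iv F54691) (iv F58363)
theorem F61646 : act 4 n15604 = n15321 := d28_1 D15604 F61639 (iv D15602)
theorem F61647 : act 5 n15604 = n14787 := d31_1 D15604 (iv D14787) D14786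
theorem F61648 : act 6 n15604 = n15320 := d33_1 D15604 F61643 (iv D15603)
def n15605 : Q := act 8 n14786
theorem D15605 : act 8 n14786 = n15605 := rfl
theorem F61649 : act 2 n15605 = n14989 := d20_1 D15605 (iv D14989) (iv F58362)
theorem F61650 : act 3 n15605 = n14790 := d25_1 D15605 (iv D14790) (iv F58363)
theorem F61651 : act 5 n15605 = n14788 := d32_1 D15605 (iv D14788) D14786
def n15606 : Q := act 8 n14787
theorem D15606 : act 8 n14787 = n15606 := rfl
theorem F61652 : act 2 n15606 = n14990 := d20_1 D15606 (iv D14990) (iv F58364)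
theorem F61653 : act 3 n15606 = n14819 := d25_1 D15606 (iv D14819) (iv F58365)
def n15607 : Q := act 7 n14788
theorem D15607 : act 7 n14788 = n15607 := rfl
theorem F61654 : act 2 n15607 = n14991 := d19_1 D15607 (iv D14991) (iv F58366)
def n15608 : Q := act 8 n14789
theorem D15608 : act 8 n14789 = n15608 := rfl
theorem F61655 : act 2 n15608 = n14793 := d20_1 D15608 (iv D14793) (iv F58368)
theorem F61656 : act 6 n15608 = n14790 := d34_1 D15608 (iv D14790) D14789
def n15609 : Q := act 7 n14790
theorem D15609 : act 7 n14790 = n15609 := rfl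
theorem F61657 : act 2 n15609 = n14794 := d19_1 D15609 (iv D14794) (iv F58370)
theorem F61658 : act 5 n15609 = n14791 := d31_1 D15609 (iv D14791) (iv F58371)
theorem F61659 : act 8 n15609 = n14822 := d35_2 D14790 D15609 (iv D14822) (iv D13897) (iv F54691)
def n15610 : Q := act 3 n14791
theorem D15610 : act 3 n14791 = n15610 := rfl
theorem F61660 : act 8 n15610 = n14823 := d25_2 (iv F58374) D15610 (iv D14823)
def n15611 : Q := act 4 n14792
theorem D15611 : act 4 n14792 = n15611 := rfl
theorem F61661 : act 8 n15611 = n14824 := d29_2 (iv F58375) D15611 (iv D14824)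
def n15612 : Q := act 7 n14793
theorem D15612 : act 7 n14793 = n15612 := rfl
theorem F61662 : act 1 n15612 = n14860 := d13_1 D15612 (iv D14860) (iv F58376)
theorem F61663 : act 6 n15612 = n14794 := d33_1 D15612 (iv D14794) (iv F58378)
theorem F61664 : act 8 n15612 = n14825 := d35_2 D14793 D15612 (iv D14825) (iv D13900) (iv F54698)
def n15613 : Q := act 4 n14795
theorem D15613 : act 4 n14795 = n15613 := rfl
theorem F61665 : act 1 n15613 = n15088 := d10_1 D15613 (iv D15088) (iv F58382)
theorem F61666 : act 2 n15613 = n14828 := d16_1 D15613 (iv D14828) (iv F58383)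
theorem F61667 : act 6 n15090 = n15613 := d18_0 F61666 (iv F58473) (iv F59498)
theorem F61668 : act 7 n15089 = n15613 := d19_0 F61666 (iv F58474) (iv F59496)
def n15614 : Q := act 6 n14795
theorem D15614 : act 6 n14795 = n15614 := rfl
theorem F61669 : act 1 n15614 = n15089 := d12_1 D15614 (iv D15089) (iv F58382)
theorem F61670 : act 2 n15614 = n14829 := d18_1 D15614 (iv D14829) (iv F58383)
theorem F61671 : act 3 n15614 = n14798 := d23_1 D15614 (iv D14798) (iv F58384)
theorem F61672 : act 4 n15614 = n15090 := d27_1 D15614 F61667 (iv D15613)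
theorem F61673 : act 5 n15614 = n14816 := d30_1 D15614 (iv D14816) (iv D13893) (iv F54707) D14795
theorem F61674 : act 7 n15088 = n15614 := d31_0 F61673 (iv F58451) (iv F59495)
def n15615 : Q := act 7 n14795
theorem D15615 : act 7 n14795 = n15615 := rfl
theorem F61675 : act 1 n15615 = n15090 := d13_1 D15615 (iv D15090) (iv F58382)
theorem F61676 : act 2 n15615 = n14830 := d19_1 D15615 (iv D14830) (iv F58383)
theorem F61677 : act 4 n15615 = n15089 := d28_1 D15615 F61668 (iv D15613)
theorem F61678 : act 5 n15615 = n14796 := d31_1 D15615 (iv D14796) D14795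
theorem F61679 : act 6 n15615 = n15088 := d33_1 D15615 F61674 (iv D15614)
def n15616 : Q := act 8 n14795
theorem D15616 : act 8 n14795 = n15616 := rfl
theorem F61680 : act 1 n15616 = n15091 := d14_1 D15616 (iv D15091) (iv F58382)
theorem F61681 : act 2 n15616 = n14831 := d20_1 D15616 (iv D14831) (iv F58383)
theorem F61682 : act 3 n15616 = n14799 := d25_1 D15616 (iv D14799) (iv F58384)
theorem F61683 : act 5 n15616 = n14797 := d32_1 D15616 (iv D14797) D14795
def n15617 : Q := act 8 n14796
theorem D15617 : act 8 n14796 = n15617 := rfl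
theorem F61684 : act 1 n15617 = n15092 := d14_1 D15617 (iv D15092) (iv F58385)
theorem F61685 : act 2 n15617 = n14832 := d20_1 D15617 (iv D14832) (iv F58386)
theorem F61686 : act 6 n15617 = n14819 := d34_1 D15617 (iv D14819) (iv F58387)
def n15618 : Q := act 7 n14797
theorem D15618 : act 7 n14797 = n15618 := rfl
theorem F61687 : act 1 n15618 = n15093 := d13_1 D15618 (iv D15093) (iv F58388)
theorem F61688 : act 2 n15618 = n14833 := d19_1 D15618 (iv D14833) (iv F58389)
theorem F61689 : act 6 n15618 = n14820 := d33_1 D15618 (iv D14820) (iv F58391)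
def n15619 : Q := act 8 n14798
theorem D15619 : act 8 n14798 = n15619 := rfl
theorem F61690 : act 1 n15619 = n15094 := d14_1 D15619 (iv D15094) (iv F58392)
theorem F61691 : act 2 n15619 = n14802 := d20_1 D15619 (iv D14802) (iv F58393)
theorem F61692 : act 5 n15619 = n14821 := d32_1 D15619 (iv D14821) (iv F58394)
theorem F61693 : act 6 n15619 = n14799 := d34_1 D15619 (iv D14799) D14798
def n15620 : Q := act 7 n14799
theorem D15620 : act 7 n14799 = n15620 := rfl
theorem F61694 : act 1 n15620 = n15095 := d13_1 D15620 (iv D15095) (iv F58395)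
theorem F61695 : act 2 n15620 = n14803 := d19_1 D15620 (iv D14803) (iv F58396)
theorem F61696 : act 5 n15620 = n14800 := d31_1 D15620 (iv D14800) (iv F58397)
def n15621 : Q := act 3 n14800
theorem D15621 : act 3 n14800 = n15621 := rfl
theorem F61697 : act 1 n15621 = n15096 := d9_1 D15621 (iv D15096) (iv F58398)
theorem F61698 : act 6 n15621 = n14823 := d23_2 (iv F58401) D15621 (iv D14823)
def n15622 : Q := act 4 n14801
theorem D15622 : act 4 n14801 = n15622 := rfl
theorem F61699 : act 1 n15622 = n15097 := d10_1 D15622 (iv D15097) (iv F58402)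
theorem F61700 : act 6 n15622 = n14824 := d27_2 (iv F58403) D15622 (iv D14824)
def n15623 : Q := act 7 n14802
theorem D15623 : act 7 n14802 = n15623 := rfl
theorem F61701 : act 1 n15623 = n14861 := d13_1 D15623 (iv D14861) (iv F58404)
theorem F61702 : act 5 n15623 = n14825 := d31_1 D15623 (iv D14825) (iv F58406)
theorem F61703 : act 6 n15623 = n14803 := d33_1 D15623 (iv D14803) (iv F58407)
def n15624 : Q := act 5 n14804
theorem D15624 : act 5 n14804 = n15624 := rfl
theorem F61704 : act 0 n15624 = n14808 := d4_1 D15624 (iv D14808) (iv F58410)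
theorem F61705 : act 2 n15624 = n14895 := d17_1 D15624 (iv D14895) (iv F58411)
theorem F61706 : act 3 n15624 = n14805 := d22_1 D15624 (iv D14805) D14804
def n15625 : Q := act 7 n14804
theorem D15625 : act 7 n14804 = n15625 := rfl
theorem F61707 : act 0 n15625 = n14809 := d6_1 D15625 (iv D14809) (iv F58410)
theorem F61708 : act 2 n15625 = n14896 := d19_1 D15625 (iv D14896) (iv F58411)
theorem F61709 : act 4 n15625 = n15470 := d28_1 D15625 (iv D15470) (iv F58412)
theorem F61710 : act 6 n15625 = n15032 := d33_1 D15625 (iv D15032) (iv F58413)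
def n15626 : Q := act 8 n14804
theorem D15626 : act 8 n14804 = n15626 := rfl
theorem F61711 : act 0 n15626 = n14810 := d7_1 D15626 (iv D14810) (iv F58410)
theorem F61712 : act 2 n15626 = n14897 := d20_1 D15626 (iv D14897) (iv F58411)
theorem F61713 : act 3 n15626 = n14806 := d25_1 D15626 (iv D14806) D14804
theorem F61714 : act 4 n15626 = n15471 := d29_1 D15626 (iv D15471) (iv F58412)
theorem F61715 : act 6 n15626 = n15033 := d34_1 D15626 (iv D15033) (iv F58413)
def n15627 : Q := act 8 n14805
theorem D15627 : act 8 n14805 = n15627 := rfl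
theorem F61716 : act 0 n15627 = n14812 := d7_1 D15627 (iv D14812) (iv F58414)
theorem F61717 : act 2 n15627 = n14862 := d20_1 D15627 (iv D14862) (iv F58415)
theorem F61718 : act 5 n15627 = n14806 := d32_1 D15627 (iv D14806) D14805
def n15628 : Q := act 7 n14806
theorem D15628 : act 7 n14806 = n15628 := rfl
theorem F61719 : act 0 n15628 = n14813 := d6_1 D15628 (iv D14813) (iv F58416)
theorem F61720 : act 2 n15628 = n14863 := d19_1 D15628 (iv D14863) (iv F58417)
theorem F61721 : act 4 n15628 = n14807 := d28_1 D15628 (iv D14807) (iv F58418)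
theorem F61722 : act 6 n15628 = n15035 := d33_1 D15628 (iv D15035) (iv F58419)
def n15629 : Q := act 3 n14807
theorem D15629 : act 3 n14807 = n15629 := rfl
theorem F61723 : act 0 n15629 = n14814 := d2_1 D15629 (iv D14814) (iv F58420)
theorem F61724 : act 6 n15629 = n15036 := d23_2 (iv F58422) D15629 (iv D15036)
theorem F61725 : act 7 n15629 = n15474 := d24_2 D14807 D15629 (iv D15474) (iv D14644) (iv F54731)
def n15630 : Q := act 4 n14808
theorem D15630 : act 4 n14808 = n15630 := rfl
theorem F61726 : act 1 n15630 = n14815 := d10_1 D15630 (iv D14815) (iv F58423)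
theorem F61727 : act 2 n15630 = n14901 := d16_1 D15630 (iv D14901) (iv F58424)
theorem F61728 : act 5 n15630 = n15613 := d26_2 D14808 D15630 (iv D15613) (iv D14795) (iv F54735)
def n15631 : Q := act 6 n14808
theorem D15631 : act 6 n14808 = n15631 := rfl
theorem F61729 : act 1 n15631 = n14816 := d12_1 D15631 (iv D14816) (iv F58423)
theorem F61730 : act 2 n15631 = n14902 := d18_1 D15631 (iv D14902) (iv F58424)
theorem F61731 : act 3 n15631 = n14811 := d23_1 D15631 (iv D14811) (iv F58425)
theorem F61732 : act 5 n15631 = n15089 := d30_1 D15631 (iv D15089) (iv D14220) (iv F54736) D14808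
theorem F61733 : act 7 n15630 = n15631 := d31_0 F61732 F61668 (iv F61728)
def n15632 : Q := act 7 n14808
theorem D15632 : act 7 n14808 = n15632 := rfl
theorem F61734 : act 1 n15632 = n14817 := d13_1 D15632 (iv D14817) (iv F58423)
theorem F61735 : act 2 n15632 = n14903 := d19_1 D15632 (iv D14903) (iv F58424)
theorem F61736 : act 4 n15632 = n15631 := d28_1 D15632 (iv F61733) (iv D15630)
theorem F61737 : act 5 n15632 = n14809 := d31_1 D15632 (iv D14809) D14808
theorem F61738 : act 6 n15632 = n15630 := d33_1 D15632 F61733 (iv D15631)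
def n15633 : Q := act 8 n14808
theorem D15633 : act 8 n14808 = n15633 := rfl
theorem F61739 : act 1 n15633 = n14818 := d14_1 D15633 (iv D14818) (iv F58423)
theorem F61740 : act 2 n15633 = n14904 := d20_1 D15633 (iv D14904) (iv F58424)
theorem F61741 : act 3 n15633 = n14812 := d25_1 D15633 (iv D14812) (iv F58425)
theorem F61742 : act 5 n15633 = n14810 := d32_1 D15633 (iv D14810) D14808
def n15634 : Q := act 8 n14809
theorem D15634 : act 8 n14809 = n15634 := rfl
theorem F61743 : act 1 n15634 = n14819 := d14_1 D15634 (iv D14819) (iv F58426)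
theorem F61744 : act 2 n15634 = n14905 := d20_1 D15634 (iv D14905) (iv F58427)
theorem F61745 : act 4 n15634 = n15617 := d29_1 D15634 (iv D15617) (iv F58428)
theorem F61746 : act 6 n15634 = n15092 := d34_1 D15634 (iv D15092) (iv F58429)
def n15635 : Q := act 7 n14810
theorem D15635 : act 7 n14810 = n15635 := rfl
theorem F61747 : act 1 n15635 = n14820 := d13_1 D15635 (iv D14820) (iv F58430)
theorem F61748 : act 2 n15635 = n14906 := d19_1 D15635 (iv D14906) (iv F58431)
theorem F61749 : act 4 n15635 = n15618 := d28_1 D15635 (iv D15618) (iv F58433)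
theorem F61750 : act 6 n15635 = n15093 := d33_1 D15635 (iv D15093) (iv F58434)
def n15636 : Q := act 8 n14811
theorem D15636 : act 8 n14811 = n15636 := rfl
theorem F61751 : act 1 n15636 = n14821 := d14_1 D15636 (iv D14821) (iv F58435)
theorem F61752 : act 2 n15636 = n14864 := d20_1 D15636 (iv D14864) (iv F58436)
theorem F61753 : act 5 n15636 = n15094 := d32_1 D15636 (iv D15094) (iv F58437)
theorem F61754 : act 6 n15636 = n14812 := d34_1 D15636 (iv D14812) D14811
def n15637 : Q := act 7 n14812
theorem D15637 : act 7 n14812 = n15637 := rfl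
theorem F61755 : act 1 n15637 = n14822 := d13_1 D15637 (iv D14822) (iv F58438)
theorem F61756 : act 2 n15637 = n14865 := d19_1 D15637 (iv D14865) (iv F58439)
theorem F61757 : act 5 n15637 = n14813 := d31_1 D15637 (iv D14813) (iv F58440)
def n15638 : Q := act 3 n14813
theorem D15638 : act 3 n14813 = n15638 := rfl
theorem F61758 : act 1 n15638 = n14823 := d9_1 D15638 (iv D14823) (iv F58441)
theorem F61759 : act 6 n15638 = n15096 := d23_2 (iv F58444) D15638 (iv D15096)
def n15639 : Q := act 4 n14814
theorem D15639 : act 4 n14814 = n15639 := rfl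
theorem F61760 : act 1 n15639 = n14824 := d10_1 D15639 (iv D14824) (iv F58445)
theorem F61761 : act 6 n15639 = n15097 := d27_2 (iv F58446) D15639 (iv D15097)
theorem F61762 : act 7 n15639 = n15622 := d28_2 (iv F58447) D15639 (iv D15622)
def n15640 : Q := act 8 n14815
theorem D15640 : act 8 n14815 = n15640 := rfl
theorem F61763 : act 2 n15640 = n14839 := d20_1 D15640 (iv D14839) (iv F58448)
theorem F61764 : act 4 n15640 = n14818 := d29_1 D15640 (iv D14818) D14815
def n15641 : Q := act 8 n14816
theorem D15641 : act 8 n14816 = n15641 := rfl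
theorem F61765 : act 2 n15641 = n14840 := d20_1 D15641 (iv D14840) (iv F58449)
theorem F61766 : act 3 n15641 = n14821 := d25_1 D15641 (iv D14821) (iv F58450)
theorem F61767 : act 6 n15641 = n14818 := d34_1 D15641 (iv D14818) D14816
def n15642 : Q := act 8 n14817
theorem D15642 : act 8 n14817 = n15642 := rfl
theorem F61768 : act 2 n15642 = n14841 := d20_1 D15642 (iv D14841) (iv F58452)
theorem F61769 : act 4 n15642 = n15641 := d29_1 D15642 (iv D15641) (iv F58453)
theorem F61770 : act 5 n15642 = n14819 := d32_1 D15642 (iv D14819) (iv F58454)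
theorem F61771 : act 6 n15642 = n15640 := d34_1 D15642 (iv D15640) (iv F58455)
def n15643 : Q := act 7 n14818
theorem D15643 : act 7 n14818 = n15643 := rfl
theorem F61772 : act 2 n15643 = n14842 := d19_1 D15643 (iv D14842) (iv F58456)
theorem F61773 : act 5 n15643 = n14820 := d31_1 D15643 (iv D14820) (iv F58458)
def n15644 : Q := act 7 n14819
theorem D15644 : act 7 n14819 = n15644 := rfl
theorem F61774 : act 2 n15644 = n14843 := d19_1 D15644 (iv D14843) (iv F58459)
theorem F61775 : act 8 n15644 = n14820 := d35_2 D14819 D15644 (iv D14820) (iv D13895) D13894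
def n15645 : Q := act 3 n14820
theorem D15645 : act 3 n14820 = n15645 := rfl
theorem F61776 : act 7 n15645 = n14823 := d24_2 D14820 D15645 (iv D14823) (iv D13898) (iv F54750)
def n15646 : Q := act 7 n14821
theorem D15646 : act 7 n14821 = n15646 := rfl
theorem F61777 : act 2 n15646 = n14825 := d19_1 D15646 (iv D14825) (iv F58461)
theorem F61778 : act 6 n15646 = n14822 := d33_1 D15646 (iv D14822) (iv F58462)
def n15647 : Q := act 3 n14822
theorem D15647 : act 3 n14822 = n15647 := rfl
theorem F61779 : act 5 n15647 = n14823 := d22_2 (iv F58464) D15647 (iv D14823)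
def n15648 : Q := act 2 n14823
theorem D15648 : act 2 n14823 = n15648 := rfl
theorem F61780 : act 3 n15648 = n14827 := d15_2 D14823 D15648 (iv D14827) (iv D13902) (iv F54754)
def n15649 : Q := act 4 n14823
theorem D15649 : act 4 n14823 = n15649 := rfl
theorem F61781 : act 3 n15649 = n14824 := d21_1 D15649 (iv D14824) (iv D13899) (iv F54755) D14823
def n15650 : Q := act 5 n14824
theorem D15650 : act 5 n14824 = n15650 := rfl
def n15651 : Q := act 2 n14826
theorem D15651 : act 2 n14826 = n15651 := rfl
theorem F61782 : act 5 n15651 = n14827 := d17_2 (iv F58468) D15651 (iv D14827)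
theorem F61783 : act 7 n15651 = n14849 := d19_2 (iv F58469) D15651 (iv D14849)
def n15652 : Q := act 1 n14827
theorem D15652 : act 1 n14827 = n15652 := rfl
theorem F61784 : act 2 n15652 = n14870 := d8_2 D14827 D15652 (iv D14870) (iv D13954) (iv F54761)
theorem F61785 : act 7 n15652 = n14850 := d13_2 (iv F58470) D15652 (iv D14850)
def n15653 : Q := act 8 n14828
theorem D15653 : act 8 n14828 = n15653 := rfl
theorem F61786 : act 1 n15653 = n14923 := d14_1 D15653 (iv D14923) (iv F58471)
theorem F61787 : act 3 n15653 = n15653 := d25_1 D15653 (iv D15653) F58472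
theorem F61788 : act 4 n15653 = n14831 := d29_1 D15653 (iv D14831) D14828
theorem F61789 : act 6 n15653 = n15103 := d34_1 D15653 (iv D15103) F58473
def n15654 : Q := act 8 n14829
theorem D15654 : act 8 n14829 = n15654 := rfl
theorem F61790 : act 1 n15654 = n14924 := d14_1 D15654 (iv D14924) (iv F58475)
theorem F61791 : act 3 n15654 = n14834 := d25_1 D15654 (iv D14834) (iv F58476)
theorem F61792 : act 4 n15654 = n15103 := d29_1 D15654 (iv D15103) (iv F58477)
theorem F61793 : act 5 n15654 = n14840 := d32_1 D15654 (iv D14840) (iv F58478)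
theorem F61794 : act 6 n15654 = n14831 := d34_1 D15654 (iv D14831) D14829
def n15655 : Q := act 8 n14830
theorem D15655 : act 8 n14830 = n15655 := rfl
theorem F61795 : act 1 n15655 = n14925 := d14_1 D15655 (iv D14925) (iv F58480)
theorem F61796 : act 3 n15655 = n14994 := d25_1 D15655 (iv D14994) (iv F58481)
theorem F61797 : act 4 n15655 = n15102 := d29_1 D15655 (iv D15102) (iv F58482)
theorem F61798 : act 5 n15655 = n14832 := d32_1 D15655 (iv D14832) (iv F58483)
theorem F61799 : act 6 n15655 = n15101 := d34_1 D15655 (iv D15101) (iv F58484)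
def n15656 : Q := act 7 n14831
theorem D15656 : act 7 n14831 = n15656 := rfl
theorem F61800 : act 1 n15656 = n14926 := d13_1 D15656 (iv D14926) (iv F58485)
theorem F61801 : act 5 n15656 = n14833 := d31_1 D15656 (iv D14833) (iv F58487)
def n15657 : Q := act 7 n14832
theorem D15657 : act 7 n14832 = n15657 := rfl
theorem F61802 : act 1 n15657 = n14927 := d13_1 D15657 (iv D14927) (iv F58488)
theorem F61803 : act 6 n15657 = n14843 := d33_1 D15657 (iv D14843) (iv F58490)
theorem F61804 : act 8 n15657 = n14833 := d35_2 D14832 D15657 (iv D14833) (iv D13905) D13904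
def n15658 : Q := act 3 n14833
theorem D15658 : act 3 n14833 = n15658 := rfl
theorem F61805 : act 0 n15658 = n14991 := d2_1 D15658 (iv F61262) F61260
theorem F61806 : act 1 n15658 = n14928 := d9_1 D15658 (iv D14928) (iv F58491)
theorem F61807 : act 6 n15658 = n14844 := d23_2 (iv F58492) D15658 (iv D14844)
theorem F61808 : act 7 n15658 = n14836 := d24_2 D14833 D15658 (iv D14836) (iv D13908) (iv F54769)
def n15659 : Q := act 7 n14834
theorem D15659 : act 7 n14834 = n15659 := rfl
theorem F61809 : act 0 n15659 = n14992 := d6_1 D15659 (iv F61270) F61264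
theorem F61810 : act 1 n15659 = n14929 := d13_1 D15659 (iv D14929) (iv F58493)
theorem F61811 : act 2 n15659 = n14838 := d19_1 D15659 (iv D14838) (iv F58494)
theorem F61812 : act 4 n15659 = n15659 := d28_1 D15659 (iv D15659) F58495
theorem F61813 : act 5 n15659 = n14845 := d31_1 D15659 (iv D14845) (iv F58496)
theorem F61814 : act 6 n15659 = n14835 := d33_1 D15659 (iv D14835) (iv F58497)
theorem F61815 : act 8 n15659 = n14960 := d35_2 D14834 D15659 F59005 F55439 (iv F54775)
def n15660 : Q := act 3 n14835
theorem D15660 : act 3 n14835 = n15660 := rfl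
theorem F61816 : act 0 n15660 = n14989 := d2_1 D15660 F59158 (iv F58498)
theorem F61817 : act 1 n15660 = n14930 := d9_1 D15660 (iv D14930) (iv F58499)
theorem F61818 : act 5 n15660 = n14836 := d22_2 (iv F58502) D15660 (iv D14836)
theorem F61819 : act 8 n15660 = n14958 := d25_2 (iv F58503) D15660 F58995
def n15661 : Q := act 4 n14836
theorem D15661 : act 4 n14836 = n15661 := rfl
theorem F61820 : act 0 n15661 = n14980 := d3_1 D15661 F59121 (iv F58504)
theorem F61821 : act 1 n15661 = n14932 := d10_1 D15661 (iv D14932) (iv F58505)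
theorem F61822 : act 3 n15661 = n14837 := d21_1 D15661 (iv D14837) (iv D13909) (iv F54783) D14836
theorem F61823 : act 6 n15661 = n14848 := d27_2 (iv F58506) D15661 (iv D14848)
theorem F61824 : act 8 n15661 = n14955 := d29_2 (iv F58507) D15661 F58980
theorem F61825 : act 5 n15587 = n15661 := d32_3 F61824 F58981 D15587
def n15662 : Q := act 7 n14839
theorem D15662 : act 7 n14839 = n15662 := rfl
theorem F61826 : act 1 n15662 = n14935 := d13_1 D15662 (iv D14935) (iv F58519)
theorem F61827 : act 4 n15662 = n14842 := d28_1 D15662 (iv D14842) (iv F58521)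
def n15663 : Q := act 7 n14840
theorem D15663 : act 7 n14840 = n15663 := rfl
theorem F61828 : act 1 n15663 = n14936 := d13_1 D15663 (iv D14936) (iv F58522)
theorem F61829 : act 6 n15663 = n14842 := d33_1 D15663 (iv D14842) (iv F58524)
theorem F61830 : act 8 n15663 = n15662 := d35_2 D14840 D15663 (iv D15662) (iv D14839) F54805
def n15664 : Q := act 7 n14841
theorem D15664 : act 7 n14841 = n15664 := rfl
theorem F61831 : act 1 n15664 = n14937 := d13_1 D15664 (iv D14937) (iv F58525)
theorem F61832 : act 4 n15664 = n15663 := d28_1 D15664 (iv D15663) (iv F58527)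
theorem F61833 : act 5 n15664 = n14843 := d31_1 D15664 (iv D14843) (iv F58528)
theorem F61834 : act 6 n15664 = n15662 := d33_1 D15664 (iv D15662) (iv F58529)
theorem F61835 : act 8 n15664 = n14842 := d35_2 D14841 D15664 (iv D14842) (iv D13915) D13914
def n15665 : Q := act 3 n14842
theorem D15665 : act 3 n14842 = n15665 := rfl
theorem F61836 : act 1 n15665 = n14938 := d9_1 D15665 (iv D14938) (iv F58530)
theorem F61837 : act 5 n15665 = n14844 := d22_2 (iv F58531) D15665 (iv D14844)
theorem F61838 : act 7 n15665 = n14846 := d24_2 D14842 D15665 (iv D14846) (iv D13919) (iv F54812)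
theorem F61839 : act 4 n15569 = n15665 := d28_3 F61838 F58542 D15569
def n15666 : Q := act 3 n14843
theorem D15666 : act 3 n14843 = n15666 := rfl
theorem F61840 : act 1 n15666 = n14939 := d9_1 D15666 (iv D14939) (iv F58532)
theorem F61841 : act 7 n15666 = n14996 := d24_2 D14843 D15666 (iv D14996) (iv D14119) (iv F54815)
theorem F61842 : act 8 n15666 = n14844 := d25_2 (iv F58533) D15666 (iv D14844)
def n15667 : Q := act 2 n14844
theorem D15667 : act 2 n14844 = n15667 := rfl
theorem F61843 : act 7 n15667 = n14847 := d19_2 (iv F58535) D15667 (iv D14847)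
def n15668 : Q := act 4 n14844
theorem D15668 : act 4 n14844 = n15668 := rfl
theorem F61844 : act 1 n15668 = n14941 := d10_1 D15668 (iv D14941) (iv F58534)
theorem F61845 : act 5 n15668 = n15573 := d26_2 F61837 D15668 F61541 (iv F61525) F61839
theorem F61846 : act 7 n15668 = n14848 := d28_2 (iv F58535) D15668 (iv D14848)
def n15669 : Q := act 3 n14845
theorem D15669 : act 3 n14845 = n15669 := rfl
theorem F61847 : act 1 n15669 = n14942 := d9_1 D15669 (iv D14942) (iv F58536)
theorem F61848 : act 4 n15669 = n15256 := d21_2 (iv F58538) D15669 F60236 F58572 (iv D14853)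
theorem F61849 : act 6 n15669 = n14846 := d23_2 (iv F58539) D15669 (iv D14846)
theorem F61850 : act 8 n15669 = n14998 := d25_2 (iv F58540) D15669 (iv D14998)
def n15670 : Q := act 2 n14846
theorem D15670 : act 2 n14846 = n15670 := rfl
theorem F61851 : act 1 n15670 = n15540 := d8_1 D15670 F61416 F58158 (iv F55261) (iv F58541)
theorem F61852 : act 3 n15670 = n14849 := d15_2 D14846 D15670 (iv D14849) (iv D13923) (iv F54822)
theorem F61853 : act 4 n15670 = n15539 := d16_2 (iv F58542) D15670 F61412
theorem F61854 : act 5 n15670 = n14847 := d17_2 (iv F58543) D15670 (iv D14847)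
theorem F61855 : act 8 n15670 = n14999 := d20_2 (iv F58544) D15670 (iv D14999)
def n15671 : Q := act 1 n14847
theorem D15671 : act 1 n14847 = n15671 := rfl
theorem F61856 : act 2 n15671 = n14943 := d8_2 D14847 D15671 (iv D14943) (iv D14033) (iv F54826)
theorem F61857 : act 3 n15671 = n14850 := d9_2 (iv F58545) D15671 (iv D14850)
theorem F61858 : act 5 n15671 = n15540 := d11_2 F61854 D15671 (iv F61851)
theorem F61859 : act 8 n15671 = n15000 := d14_2 (iv F58546) D15671 (iv D15000)
def n15672 : Q := act 4 n14847
theorem D15672 : act 4 n14847 = n15672 := rfl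
theorem F61860 : act 2 n15672 = n14848 := d16_1 D15672 (iv D14848) D14847
theorem F61861 : act 5 n15672 = n15571 := d26_2 F61854 D15672 F61535 (iv F61414) (iv F61853)
theorem F61862 : act 8 n15672 = n15001 := d29_2 (iv F58546) D15672 (iv D15001)
def n15673 : Q := act 3 n14851
theorem D15673 : act 3 n14851 = n15673 := rfl
theorem F61863 : act 0 n15673 = n15561 := d2_1 D15673 F61494 (iv F58555)
theorem F61864 : act 1 n15673 = n14944 := d9_1 D15673 (iv D14944) (iv F58556)
theorem F61865 : act 4 n15673 = n15398 := d21_2 (iv F58557) D15673 F60841 F57530 F54853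
theorem F61866 : act 6 n15673 = n15405 := d23_2 F59179 D15673 F60877
theorem F61867 : act 8 n15673 = n15397 := d25_2 (iv F58558) D15673 F60835
def n15674 : Q := act 7 n14854
theorem D15674 : act 7 n14854 = n15674 := rfl
theorem F61868 : act 0 n15674 = n14857 := d6_1 D15674 (iv D14857) (iv F58573)
theorem F61869 : act 1 n15674 = n14871 := d13_1 D15674 (iv D14871) (iv F58574)
theorem F61870 : act 4 n15674 = n14855 := d28_1 D15674 (iv D14855) (iv F58576)
theorem F61871 : act 6 n15674 = n15027 := d33_1 D15674 (iv D15027) (iv F58577)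
theorem F61872 : act 8 n15674 = n14863 := d35_2 D14854 D15674 (iv D14863) (iv D13944) (iv F54877)
def n15675 : Q := act 7 n14856
theorem D15675 : act 7 n14856 = n15675 := rfl
theorem F61873 : act 1 n15675 = n14858 := d13_1 D15675 (iv D14858) (iv F58582)
theorem F61874 : act 5 n15675 = n14857 := d31_1 D15675 (iv D14857) (iv F58584)
theorem F61875 : act 8 n15675 = n14865 := d35_2 D14856 D15675 (iv D14865) (iv D13947) (iv F54884)
def n15676 : Q := act 3 n14857
theorem D15676 : act 3 n14857 = n15676 := rfl
theorem F61876 : act 1 n15676 = n14859 := d9_1 D15676 (iv D14859) (iv F58585)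
theorem F61877 : act 6 n15676 = n15087 := d23_2 (iv F58587) D15676 (iv D15087)
theorem F61878 : act 7 n15676 = n15676 := d24_2 D14857 D15676 (iv D15676) (iv D14857) F54886
theorem F61879 : act 8 n15676 = n14866 := d25_2 (iv F58588) D15676 (iv D14866)
def n15677 : Q := act 3 n14858
theorem D15677 : act 3 n14858 = n15677 := rfl
theorem F61880 : act 0 n15677 = n14873 := d2_1 D15677 (iv D14873) (iv F58589)
theorem F61881 : act 5 n15677 = n14859 := d22_2 (iv F58591) D15677 (iv D14859)
theorem F61882 : act 7 n15677 = n15677 := d24_2 D14858 D15677 (iv D15677) (iv D14858) F54894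
theorem F61883 : act 8 n15677 = n14868 := d25_2 (iv F58592) D15677 (iv D14868)
def n15678 : Q := act 7 n14862
theorem D15678 : act 7 n14862 = n15678 := rfl
theorem F61884 : act 0 n15678 = n14865 := d6_1 D15678 (iv D14865) (iv F58604)
theorem F61885 : act 1 n15678 = n14874 := d13_1 D15678 (iv D14874) (iv F58605)
theorem F61886 : act 5 n15678 = n14863 := d31_1 D15678 (iv D14863) (iv F58607)
def n15679 : Q := act 3 n14863
theorem D15679 : act 3 n14863 = n15679 := rfl
theorem F61887 : act 0 n15679 = n14866 := d2_1 D15679 (iv D14866) (iv F58608)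
theorem F61888 : act 1 n15679 = n14875 := d9_1 D15679 (iv D14875) (iv F58609)
theorem F61889 : act 6 n15679 = n15038 := d23_2 (iv F58611) D15679 (iv D15038)
theorem F61890 : act 7 n15679 = n14947 := d24_2 D14863 D15679 (iv D14947) (iv D14043) (iv F54920)
def n15680 : Q := act 7 n14864
theorem D15680 : act 7 n14864 = n15680 := rfl
theorem F61891 : act 1 n15680 = n14867 := d13_1 D15680 (iv D14867) (iv F58612)
theorem F61892 : act 5 n15680 = n15098 := d31_1 D15680 (iv D15098) (iv F58614)
theorem F61893 : act 6 n15680 = n14865 := d33_1 D15680 (iv D14865) (iv F58615)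
def n15681 : Q := act 3 n14865
theorem D15681 : act 3 n14865 = n15681 := rfl
theorem F61894 : act 1 n15681 = n14868 := d9_1 D15681 (iv D14868) (iv F58616)
theorem F61895 : act 5 n15681 = n14866 := d22_2 (iv F58617) D15681 (iv D14866)
theorem F61896 : act 7 n15681 = n14949 := d24_2 D14865 D15681 (iv D14949) (iv D14045) (iv F54930)
def n15682 : Q := act 2 n14866
theorem D15682 : act 2 n14866 = n15682 := rfl
theorem F61897 : act 6 n15682 = n15100 := d18_2 (iv F58619) D15682 (iv D15100)
theorem F61898 : act 7 n15682 = n14950 := d19_2 (iv F58620) D15682 (iv D14950)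
def n15683 : Q := act 4 n14868
theorem D15683 : act 4 n14868 = n15683 := rfl
theorem F61899 : act 0 n15683 = n14877 := d3_1 D15683 F58652 (iv F58625)
theorem F61900 : act 2 n15683 = n14875 := d16_1 D15683 (iv F60050) F60049
theorem F61901 : act 6 n15683 = n15063 := d27_2 F60105 D15683 (iv F60103)
theorem F61902 : act 7 n15683 = n14951 := d28_2 (iv F58627) D15683 (iv D14951)
def n15684 : Q := act 1 n14869
theorem D15684 : act 1 n14869 = n15684 := rfl
theorem F61903 : act 3 n15684 = n14870 := d9_2 (iv F58629) D15684 (iv D14870)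
theorem F61904 : act 6 n15684 = n15125 := d12_2 (iv F58630) D15684 (iv D15125)
theorem F61905 : act 7 n15684 = n14952 := d13_2 (iv F58631) D15684 (iv D14952)
def n15685 : Q := act 3 n14871
theorem D15685 : act 3 n14871 = n15685 := rfl
theorem F61906 : act 0 n15685 = n14872 := d2_1 D15685 (iv D14872) (iv F58633)
theorem F61907 : act 6 n15685 = n15057 := d23_2 (iv F58635) D15685 (iv D15057)
theorem F61908 : act 7 n15685 = n15685 := d24_2 D14871 D15685 (iv D15685) (iv D14871) F54962
theorem F61909 : act 8 n15685 = n14875 := d25_2 (iv F58636) D15685 (iv D14875)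
def n15686 : Q := act 2 n14872
theorem D15686 : act 2 n14872 = n15686 := rfl
theorem F61910 : act 1 n15686 = n15070 := d8_1 D15686 (iv D15070) (iv F58120) F58121 (iv F58637)
theorem F61911 : act 3 n15686 = n15072 := d15_2 D14872 D15686 F59453 (iv F57398) F57397
theorem F61912 : act 4 n15686 = n14873 := d16_2 F60146 D15686 (iv F60145)
theorem F61913 : act 5 n15686 = n15071 := d17_2 F60814 D15686 (iv F60812)
theorem F61914 : act 6 n15686 = n15069 := d18_2 (iv F58638) D15686 (iv D15069)
theorem F61915 : act 7 n15686 = n15686 := d19_2 F58639 D15686 (iv D15686)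
theorem F61916 : act 8 n15686 = n14877 := d20_2 (iv F58640) D15686 (iv D14877)
def n15687 : Q := act 3 n14874
theorem D15687 : act 3 n14874 = n15687 := rfl
theorem F61917 : act 0 n15687 = n14876 := d2_1 D15687 (iv D14876) (iv F58644)
theorem F61918 : act 5 n15687 = n14875 := d22_2 (iv F58645) D15687 (iv D14875)
theorem F61919 : act 7 n15687 = n14954 := d24_2 D14874 D15687 (iv D14954) (iv D14053) (iv F54984)
def n15688 : Q := act 8 n14878
theorem D15688 : act 8 n14878 = n15688 := rfl
theorem F61920 : act 0 n15688 = n15688 := d7_1 D15688 (iv D15688) F58655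
theorem F61921 : act 1 n15688 = n15200 := d14_1 D15688 (iv D15200) (iv F58656)
theorem F61922 : act 3 n15688 = n15002 := d25_1 D15688 (iv D15002) (iv F58657)
theorem F61923 : act 4 n15688 = n15146 := d29_1 D15688 (iv F60851) F60848
theorem F61924 : act 5 n15688 = n14879 := d32_1 D15688 (iv D14879) D14878
def n15689 : Q := act 7 n14879
theorem D15689 : act 7 n14879 = n15689 := rfl
theorem F61925 : act 0 n15689 = n15689 := d6_1 D15689 (iv D15689) F58659
theorem F61926 : act 1 n15689 = n15202 := d13_1 D15689 (iv D15202) (iv F58660)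
theorem F61927 : act 4 n15689 = n14880 := d28_1 D15689 (iv D14880) (iv F58662)
theorem F61928 : act 6 n15689 = n14882 := d33_1 D15689 (iv D14882) (iv F58663)
theorem F61929 : act 8 n15689 = n15402 := d35_2 D14879 D15689 (iv D15402) (iv D14565) (iv F55006)
def n15690 : Q := act 3 n14882
theorem D15690 : act 3 n14882 = n15690 := rfl
theorem F61930 : act 0 n15690 = n15690 := d2_1 D15690 (iv D15690) F58672
theorem F61931 : act 4 n15690 = n14894 := d21_2 (iv F58673) D15690 (iv D14894) F55060 (iv F55018)
theorem F61932 : act 7 n15690 = n15004 := d24_2 D14882 D15690 (iv D15004) (iv D14132) (iv F55015)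
theorem F61933 : act 8 n15690 = n15410 := d25_2 (iv F58674) D15690 (iv D15410)
def n15691 : Q := act 3 n14883
theorem D15691 : act 3 n14883 = n15691 := rfl
theorem F61934 : act 0 n15691 = n15691 := d2_1 D15691 (iv D15691) F58675
theorem F61935 : act 5 n15691 = n15138 := d22_2 F58922 D15691 F59649
theorem F61936 : act 6 n15691 = n14894 := d23_2 (iv F58678) D15691 (iv D14894)
theorem F61937 : act 7 n15691 = n15005 := d24_2 D14883 D15691 (iv D15005) (iv D14133) (iv F55023)
def n15692 : Q := act 5 n14884
theorem D15692 : act 5 n14884 = n15692 := rfl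
theorem F61938 : act 0 n15692 = n14886 := d4_1 D15692 (iv D14886) (iv F58679)
theorem F61939 : act 1 n15692 = n15692 := d11_1 D15692 (iv D15692) F58680
theorem F61940 : act 3 n15692 = n15692 := d22_1 D15692 (iv D15692) F58681
theorem F61941 : act 4 n15692 = n14971 := d26_1 D15692 F60870 (iv D15403) F57498 D14884
theorem F61942 : act 7 n15692 = n14974 := d31_2 (iv F58683) D15692 F59090
theorem F61943 : act 6 n14979 = n15692 := d33_3 F61942 F59091 D14979
def n15693 : Q := act 8 n14884
theorem D15693 : act 8 n14884 = n15693 := rfl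
theorem F61944 : act 0 n15693 = n14887 := d7_1 D15693 (iv D14887) (iv F58679)
theorem F61945 : act 1 n15693 = n15693 := d14_1 D15693 (iv D15693) F58680
theorem F61946 : act 3 n15693 = n15693 := d25_1 D15693 (iv D15693) F58681
theorem F61947 : act 4 n15693 = n14885 := d29_1 D15693 (iv D14885) D14884
theorem F61948 : act 6 n15693 = n15021 := d34_1 D15693 (iv D15021) (iv F58682)
def n15694 : Q := act 7 n14885
theorem D15694 : act 7 n14885 = n15694 := rfl
theorem F61949 : act 0 n15694 = n14888 := d6_1 D15694 (iv D14888) (iv F58684)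
theorem F61950 : act 1 n15694 = n15694 := d13_1 D15694 (iv D15694) F58685
theorem F61951 : act 3 n15694 = n15564 := d24_1 D15694 (iv D15564) F58220 F55553 (iv F58686)
theorem F61952 : act 6 n15694 = n15022 := d33_1 D15694 (iv D15022) (iv F58687)
theorem F61953 : act 8 n15694 = n15437 := d35_2 D14885 D15694 (iv D15437) (iv D14614) (iv F55032)
def n15695 : Q := act 6 n14886
theorem D15695 : act 6 n14886 = n15695 := rfl
theorem F61954 : act 0 n15695 = n14979 := d5_1 D15695 F61943 F61938
theorem F61955 : act 1 n15695 = n14889 := d12_1 D15695 (iv D14889) (iv F58688)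
theorem F61956 : act 3 n15695 = n15695 := d23_1 D15695 (iv D15695) F58689
theorem F61957 : act 4 n15695 = n14959 := d27_1 D15695 F58999 (iv F58690)
theorem F61958 : act 5 n15695 = n15077 := d30_1 D15695 (iv D15077) (iv D14211) (iv F55035) D14886
theorem F61959 : act 7 n15695 = n14955 := d33_2 (iv F58691) D15695 F58982
def n15696 : Q := act 8 n14886
theorem D15696 : act 8 n14886 = n15696 := rfl
theorem F61960 : act 1 n15696 = n14890 := d14_1 D15696 (iv D14890) (iv F58688)
theorem F61961 : act 3 n15696 = n15696 := d25_1 D15696 (iv D15696) F58689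
theorem F61962 : act 4 n15696 = n14996 := d29_1 D15696 F59182 (iv F58690)
theorem F61963 : act 5 n15696 = n14887 := d32_1 D15696 (iv D14887) D14886
def n15697 : Q := act 7 n14887
theorem D15697 : act 7 n14887 = n15697 := rfl
theorem F61964 : act 1 n15697 = n14891 := d13_1 D15697 (iv D14891) (iv F58692)
theorem F61965 : act 4 n15697 = n14888 := d28_1 D15697 (iv D14888) (iv F58694)
theorem F61966 : act 6 n15697 = n15079 := d33_1 D15697 (iv D15079) (iv F58695)
theorem F61967 : act 8 n15697 = n15573 := d35_2 D14887 D15697 (iv D15573) (iv D14765) (iv F55036)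
def n15698 : Q := act 8 n14889
theorem D15698 : act 8 n14889 = n15698 := rfl
theorem F61968 : act 0 n15698 = n15698 := d7_1 D15698 (iv D15698) F58699
theorem F61969 : act 2 n15698 = n14892 := d20_1 D15698 (iv D14892) (iv F58700)
theorem F61970 : act 3 n15698 = n15698 := d25_1 D15698 (iv D15698) F58701
theorem F61971 : act 4 n15698 = n15012 := d29_1 D15698 F59252 (iv F58702)
theorem F61972 : act 5 n15698 = n15129 := d32_1 D15698 (iv D15129) (iv F58703)
theorem F61973 : act 6 n15698 = n14890 := d34_1 D15698 (iv D14890) D14889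
def n15699 : Q := act 7 n14890
theorem D15699 : act 7 n14890 = n15699 := rfl
theorem F61974 : act 0 n15699 = n15699 := d6_1 D15699 (iv D15699) F58705
theorem F61975 : act 2 n15699 = n14893 := d19_1 D15699 (iv D14893) (iv F58706)
theorem F61976 : act 4 n15699 = n14939 := d28_1 D15699 F58916 (iv F58708)
theorem F61977 : act 5 n15699 = n14891 := d31_1 D15699 (iv D14891) (iv F58709)
theorem F61978 : act 8 n15699 = n14941 := d35_2 D14890 D15699 F58923 F55272 (iv F55044)
def n15700 : Q := act 3 n14891
theorem D15700 : act 3 n14891 = n15700 := rfl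
theorem F61979 : act 0 n15700 = n15700 := d2_1 D15700 (iv D15700) F58710
theorem F61980 : act 6 n15700 = n15131 := d23_2 (iv F58713) D15700 (iv D15131)
theorem F61981 : act 7 n15700 = n15700 := d24_2 D14891 D15700 (iv D15700) (iv D14891) F55047
theorem F61982 : act 8 n15700 = n15691 := d25_2 (iv F58714) D15700 (iv D15691)
def n15701 : Q := act 7 n14892
theorem D15701 : act 7 n14892 = n15701 := rfl
theorem F61983 : act 0 n15701 = n15701 := d6_1 D15701 (iv D15701) F58715
theorem F61984 : act 6 n15701 = n14893 := d33_1 D15701 (iv D14893) (iv F58717)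
def n15702 : Q := act 3 n14893
theorem D15702 : act 3 n14893 = n15702 := rfl
theorem F61985 : act 0 n15702 = n15702 := d2_1 D15702 (iv D15702) F58718
theorem F61986 : act 5 n15702 = n14894 := d22_2 (iv F58719) D15702 (iv D14894)
theorem F61987 : act 7 n15702 = n15006 := d24_2 D14893 D15702 (iv D15006) (iv D14135) (iv F55057)
def n15703 : Q := act 2 n14894
theorem D15703 : act 2 n14894 = n15703 := rfl
theorem F61988 : act 0 n15703 = n15703 := d1_1 D15703 (iv D15703) F58720
theorem F61989 : act 7 n15703 = n15007 := d19_2 (iv F58721) D15703 (iv D15007)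
def n15704 : Q := act 4 n14895
theorem D15704 : act 4 n14895 = n15704 := rfl
theorem F61990 : act 0 n15704 = n14901 := d3_1 D15704 (iv D14901) (iv F58722)
theorem F61991 : act 1 n15704 = n15704 := d10_1 D15704 (iv D15704) F58723
theorem F61992 : act 3 n15704 = n15704 := d21_1 D15704 (iv D15704) F58724 F55073 (iv F58724)
theorem F61993 : act 5 n15704 = n15498 := d26_2 D14895 D15704 (iv D15498) (iv D14663) (iv F55068)
def n15705 : Q := act 6 n14895
theorem D15705 : act 6 n14895 = n15705 := rfl
theorem F61994 : act 0 n15705 = n14902 := d5_1 D15705 (iv D14902) (iv F58722)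
theorem F61995 : act 1 n15705 = n15705 := d12_1 D15705 (iv D15705) F58723
theorem F61996 : act 3 n15705 = n14898 := d23_1 D15705 (iv D14898) (iv F58724)
theorem F61997 : act 5 n15705 = n15040 := d30_1 D15705 (iv D15040) (iv D14170) (iv F55069) D14895
theorem F61998 : act 7 n15704 = n15705 := d31_0 F61997 F61239 (iv F61993)
def n15706 : Q := act 7 n14895
theorem D15706 : act 7 n14895 = n15706 := rfl
theorem F61999 : act 0 n15706 = n14903 := d6_1 D15706 (iv D14903) (iv F58722)
theorem F62000 : act 1 n15706 = n15706 := d13_1 D15706 (iv D15706) F58723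
theorem F62001 : act 3 n15706 = n15706 := d24_1 D15706 (iv D15706) F58724 F55074 (iv F58724)
theorem F62002 : act 4 n15706 = n15705 := d28_1 D15706 (iv F61998) (iv D15704)
theorem F62003 : act 5 n15706 = n14896 := d31_1 D15706 (iv D14896) D14895
theorem F62004 : act 6 n15706 = n15704 := d33_1 D15706 F61998 (iv D15705)
def n15707 : Q := act 8 n14895
theorem D15707 : act 8 n14895 = n15707 := rfl
theorem F62005 : act 0 n15707 = n14904 := d7_1 D15707 (iv D14904) (iv F58722)
theorem F62006 : act 1 n15707 = n15707 := d14_1 D15707 (iv D15707) F58723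
theorem F62007 : act 3 n15707 = n14899 := d25_1 D15707 (iv D14899) (iv F58724)
theorem F62008 : act 5 n15707 = n14897 := d32_1 D15707 (iv D14897) D14895
def n15708 : Q := act 8 n14896
theorem D15708 : act 8 n14896 = n15708 := rfl
theorem F62009 : act 0 n15708 = n14905 := d7_1 D15708 (iv D14905) (iv F58725)
theorem F62010 : act 1 n15708 = n15708 := d14_1 D15708 (iv D15708) F58726
theorem F62011 : act 3 n15708 = n15708 := d25_1 D15708 (iv D15708) F58727
theorem F62012 : act 4 n15708 = n15502 := d29_1 D15708 (iv D15502) (iv F58728)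
theorem F62013 : act 6 n15708 = n15043 := d34_1 D15708 (iv D15043) (iv F58729)
def n15709 : Q := act 7 n14897
theorem D15709 : act 7 n14897 = n15709 := rfl
theorem F62014 : act 0 n15709 = n14906 := d6_1 D15709 (iv D14906) (iv F58730)
theorem F62015 : act 1 n15709 = n15709 := d13_1 D15709 (iv D15709) F58731
theorem F62016 : act 4 n15709 = n15503 := d28_1 D15709 (iv D15503) (iv F58733)
theorem F62017 : act 6 n15709 = n15044 := d33_1 D15709 (iv D15044) (iv F58734)
def n15710 : Q := act 8 n14898
theorem D15710 : act 8 n14898 = n15710 := rfl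
theorem F62018 : act 0 n15710 = n14907 := d7_1 D15710 (iv D14907) (iv F58735)
theorem F62019 : act 1 n15710 = n15710 := d14_1 D15710 (iv D15710) F58736
theorem F62020 : act 2 n15710 = n14945 := d20_1 D15710 (iv D14945) (iv F58737)
theorem F62021 : act 4 n15710 = n15710 := d29_1 D15710 (iv D15710) F58738
theorem F62022 : act 5 n15710 = n15045 := d32_1 D15710 (iv D15045) (iv F58739)
theorem F62023 : act 6 n15710 = n14899 := d34_1 D15710 (iv D14899) D14898
def n15711 : Q := act 7 n14899
theorem D15711 : act 7 n14899 = n15711 := rfl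
theorem F62024 : act 0 n15711 = n14908 := d6_1 D15711 (iv D14908) (iv F58741)
theorem F62025 : act 1 n15711 = n15711 := d13_1 D15711 (iv D15711) F58742
theorem F62026 : act 2 n15711 = n14946 := d19_1 D15711 (iv D14946) (iv F58743)
theorem F62027 : act 4 n15711 = n15711 := d28_1 D15711 (iv D15711) F58744
theorem F62028 : act 5 n15711 = n14900 := d31_1 D15711 (iv D14900) (iv F58745)
theorem F62029 : act 8 n15711 = n15711 := d35_2 D14899 D15711 (iv D15711) (iv D14899) F55074
def n15712 : Q := act 3 n14900
theorem D15712 : act 3 n14900 = n15712 := rfl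
theorem F62030 : act 0 n15712 = n14909 := d2_1 D15712 (iv D14909) (iv F58746)
theorem F62031 : act 1 n15712 = n15712 := d9_1 D15712 (iv D15712) F58747
theorem F62032 : act 6 n15712 = n15047 := d23_2 (iv F58750) D15712 (iv D15047)
theorem F62033 : act 8 n15712 = n15712 := d25_2 F58751 D15712 (iv D15712)
def n15713 : Q := act 8 n14901
theorem D15713 : act 8 n14901 = n15713 := rfl
theorem F62034 : act 1 n15713 = n14911 := d14_1 D15713 (iv D14911) (iv F58752)
theorem F62035 : act 3 n15713 = n15713 := d25_1 D15713 (iv D15713) F58753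
theorem F62036 : act 4 n15713 = n14904 := d29_1 D15713 (iv D14904) D14901
theorem F62037 : act 5 n15713 = n15653 := d32_1 D15713 (iv D15653) (iv F58754)
def n15714 : Q := act 8 n14902
theorem D15714 : act 8 n14902 = n15714 := rfl
theorem F62038 : act 1 n15714 = n14912 := d14_1 D15714 (iv D14912) (iv F58755)
theorem F62039 : act 3 n15714 = n14907 := d25_1 D15714 (iv D14907) (iv F58756)
theorem F62040 : act 5 n15714 = n15102 := d32_1 D15714 (iv D15102) (iv F58757)
theorem F62041 : act 6 n15714 = n14904 := d34_1 D15714 (iv D14904) D14902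
def n15715 : Q := act 8 n14903
theorem D15715 : act 8 n14903 = n15715 := rfl
theorem F62042 : act 1 n15715 = n14913 := d14_1 D15715 (iv D14913) (iv F58759)
theorem F62043 : act 3 n15715 = n15715 := d25_1 D15715 (iv D15715) F58760
theorem F62044 : act 4 n15715 = n15714 := d29_1 D15715 (iv D15714) (iv F58761)
theorem F62045 : act 5 n15715 = n14905 := d32_1 D15715 (iv D14905) (iv F58762)
theorem F62046 : act 6 n15715 = n15713 := d34_1 D15715 (iv D15713) (iv F58763)
def n15716 : Q := act 7 n14904
theorem D15716 : act 7 n14904 = n15716 := rfl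
theorem F62047 : act 1 n15716 = n14914 := d13_1 D15716 (iv D14914) (iv F58764)
theorem F62048 : act 5 n15716 = n14906 := d31_1 D15716 (iv D14906) (iv F58766)
def n15717 : Q := act 7 n14905
theorem D15717 : act 7 n14905 = n15717 := rfl
theorem F62049 : act 1 n15717 = n14915 := d13_1 D15717 (iv D14915) (iv F58767)
theorem F62050 : act 4 n15717 = n15657 := d28_1 D15717 (iv D15657) (iv F58769)
theorem F62051 : act 6 n15717 = n15105 := d33_1 D15717 (iv D15105) (iv F58770)
theorem F62052 : act 8 n15717 = n14906 := d35_2 D14905 D15717 (iv D14906) (iv D13994) D13993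
def n15718 : Q := act 3 n14906
theorem D15718 : act 3 n14906 = n15718 := rfl
theorem F62053 : act 1 n15718 = n14916 := d9_1 D15718 (iv D14916) (iv F58771)
theorem F62054 : act 6 n15718 = n15106 := d23_2 (iv F58773) D15718 (iv D15106)
theorem F62055 : act 7 n15718 = n14909 := d24_2 D14906 D15718 (iv D14909) (iv D13997) (iv F55093)
def n15719 : Q := act 7 n14907
theorem D15719 : act 7 n14907 = n15719 := rfl
theorem F62056 : act 1 n15719 = n14917 := d13_1 D15719 (iv D14917) (iv F58774)
theorem F62057 : act 2 n15719 = n14948 := d19_1 D15719 (iv D14948) (iv F58775)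
theorem F62058 : act 4 n15719 = n15719 := d28_1 D15719 (iv D15719) F58776
theorem F62059 : act 5 n15719 = n15107 := d31_1 D15719 (iv D15107) (iv F58777)
theorem F62060 : act 6 n15719 = n14908 := d33_1 D15719 (iv D14908) (iv F58778)
theorem F62061 : act 8 n15719 = n15719 := d35_2 D14907 D15719 (iv D15719) (iv D14907) F55100
def n15720 : Q := act 3 n14908
theorem D15720 : act 3 n14908 = n15720 := rfl
theorem F62062 : act 1 n15720 = n14918 := d9_1 D15720 (iv D14918) (iv F58779)
theorem F62063 : act 5 n15720 = n14909 := d22_2 (iv F58782) D15720 (iv D14909)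
theorem F62064 : act 8 n15720 = n15720 := d25_2 F58783 D15720 (iv D15720)
def n15721 : Q := act 2 n14909
theorem D15721 : act 2 n14909 = n15721 := rfl
theorem F62065 : act 3 n15721 = n14950 := d15_2 D14909 D15721 (iv D14950) (iv D14046) (iv F55106)
theorem F62066 : act 6 n15721 = n15109 := d18_2 (iv F58785) D15721 (iv D15109)
theorem F62067 : act 8 n15721 = n15721 := d20_2 F58786 D15721 (iv D15721)
def n15722 : Q := act 4 n14909
theorem D15722 : act 4 n14909 = n15722 := rfl
theorem F62068 : act 1 n15722 = n14920 := d10_1 D15722 (iv D14920) (iv F58784)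
theorem F62069 : act 3 n15722 = n14910 := d21_1 D15722 (iv D14910) (iv D13998) (iv F55107) D14909
theorem F62070 : act 6 n15722 = n15110 := d27_2 (iv F58785) D15722 (iv D15110)
theorem F62071 : act 8 n15722 = n15722 := d29_2 F58786 D15722 (iv D15722)
def n15723 : Q := act 5 n14910
theorem D15723 : act 5 n14910 = n15723 := rfl
theorem F62072 : act 1 n15723 = n14921 := d11_1 D15723 (iv D14921) (iv F58787)
theorem F62073 : act 4 n15723 = n15723 := d26_1 D15723 (iv D15723) (iv D14910) F55111 D14910
theorem F62074 : act 6 n15723 = n14984 := d30_2 (iv F58788) D15723 F59140 (iv F59110) F59109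
theorem F62075 : act 7 n15723 = n14983 := d31_2 (iv F58789) D15723 F59136
theorem F62076 : act 8 n15723 = n15723 := d32_2 F58790 D15723 (iv D15723)
def n15724 : Q := act 7 n14911
theorem D15724 : act 7 n14911 = n15724 := rfl
theorem F62077 : act 0 n15724 = n15724 := d6_1 D15724 (iv D15724) F58791
theorem F62078 : act 2 n15724 = n14935 := d19_1 D15724 (iv D14935) (iv F58792)
theorem F62079 : act 4 n15724 = n14914 := d28_1 D15724 (iv D14914) (iv F58794)
def n15725 : Q := act 7 n14912
theorem D15725 : act 7 n14912 = n15725 := rfl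
theorem F62080 : act 0 n15725 = n15725 := d6_1 D15725 (iv D15725) F58795
theorem F62081 : act 2 n15725 = n14936 := d19_1 D15725 (iv D14936) (iv F58796)
theorem F62082 : act 5 n15725 = n15133 := d31_1 D15725 (iv D15133) (iv F58798)
theorem F62083 : act 6 n15725 = n14914 := d33_1 D15725 (iv D14914) (iv F58799)
theorem F62084 : act 8 n15725 = n15724 := d35_2 D14912 D15725 (iv D15724) (iv D14911) F55122
def n15726 : Q := act 7 n14913
theorem D15726 : act 7 n14913 = n15726 := rfl
theorem F62085 : act 0 n15726 = n15726 := d6_1 D15726 (iv D15726) F58800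
theorem F62086 : act 2 n15726 = n14937 := d19_1 D15726 (iv D14937) (iv F58801)
theorem F62087 : act 4 n15726 = n15725 := d28_1 D15726 (iv D15725) (iv F58803)
theorem F62088 : act 5 n15726 = n14915 := d31_1 D15726 (iv D14915) (iv F58804)
theorem F62089 : act 6 n15726 = n15724 := d33_1 D15726 (iv D15724) (iv F58805)
theorem F62090 : act 8 n15726 = n14914 := d35_2 D14913 D15726 (iv D14914) (iv D14002) D14001
def n15727 : Q := act 3 n14914
theorem D15727 : act 3 n14914 = n15727 := rfl
theorem F62091 : act 0 n15727 = n15727 := d2_1 D15727 (iv D15727) F58806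
theorem F62092 : act 2 n15727 = n15690 := d15_1 D15727 (iv D15690) F58913 (iv D14938) (iv F58807)
theorem F62093 : act 5 n15727 = n14916 := d22_2 (iv F58808) D15727 (iv D14916)
theorem F62094 : act 7 n15727 = n14918 := d24_2 D14914 D15727 (iv D14918) (iv D14006) (iv F55131)
theorem F62095 : act 4 n15703 = n15727 := d28_3 F62094 (iv F59224) (iv F61989)
def n15728 : Q := act 3 n14915
theorem D15728 : act 3 n14915 = n15728 := rfl
theorem F62096 : act 0 n15728 = n15728 := d2_1 D15728 (iv D15728) F58809
theorem F62097 : act 6 n15728 = n15136 := d23_2 (iv F58811) D15728 (iv D15136)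
theorem F62098 : act 7 n15728 = n15728 := d24_2 D14915 D15728 (iv D15728) (iv D14915) F55135
theorem F62099 : act 8 n15728 = n14916 := d25_2 (iv F58812) D15728 (iv D14916)
def n15729 : Q := act 2 n14916
theorem D15729 : act 2 n14916 = n15729 := rfl
theorem F62100 : act 0 n15729 = n15729 := d1_1 D15729 (iv D15729) F58813
theorem F62101 : act 3 n15729 = n14940 := d15_2 D14916 D15729 (iv D14940) (iv D14030) (iv F55138)
theorem F62102 : act 5 n15729 = n15690 := d17_2 F62093 D15729 (iv F62092)
theorem F62103 : act 6 n15729 = n15137 := d18_2 (iv F58814) D15729 (iv D15137)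
theorem F62104 : act 7 n15729 = n14919 := d19_2 (iv F58815) D15729 (iv D14919)
def n15730 : Q := act 4 n14916
theorem D15730 : act 4 n14916 = n15730 := rfl
theorem F62105 : act 0 n15730 = n15730 := d3_1 D15730 (iv D15730) F58813
theorem F62106 : act 6 n15730 = n15138 := d27_2 (iv F58814) D15730 (iv D15138)
theorem F62107 : act 7 n15730 = n14920 := d28_2 (iv F58815) D15730 (iv D14920)
def n15731 : Q := act 3 n14917
theorem D15731 : act 3 n14917 = n15731 := rfl
theorem F62108 : act 0 n15731 = n15731 := d2_1 D15731 (iv D15731) F58816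
theorem F62109 : act 5 n15731 = n15139 := d22_2 (iv F58819) D15731 (iv D15139)
theorem F62110 : act 6 n15731 = n14918 := d23_2 (iv F58820) D15731 (iv D14918)
theorem F62111 : act 8 n15731 = n15731 := d25_2 F58821 D15731 (iv D15731)
def n15732 : Q := act 1 n14919
theorem D15732 : act 1 n14919 = n15732 := rfl
theorem F62112 : act 3 n15732 = n14922 := d9_2 (iv F58826) D15732 (iv D14922)
theorem F62113 : act 6 n15732 = n15142 := d12_2 (iv F58827) D15732 (iv D15142)
theorem F62114 : act 8 n15732 = n15732 := d14_2 F58828 D15732 (iv D15732)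
def n15733 : Q := act 4 n14919
theorem D15733 : act 4 n14919 = n15733 := rfl
theorem F62115 : act 0 n15733 = n15733 := d3_1 D15733 (iv D15733) F58825
theorem F62116 : act 2 n15733 = n14920 := d16_1 D15733 (iv D14920) D14919
theorem F62117 : act 3 n15733 = n15733 := d21_1 D15733 (iv D15733) F58826 F55169 (iv F58826)
theorem F62118 : act 6 n15733 = n15143 := d27_2 (iv F58827) D15733 (iv D15143)
theorem F62119 : act 8 n15733 = n15733 := d29_2 F58828 D15733 (iv D15733)
def n15734 : Q := act 5 n14920
theorem D15734 : act 5 n14920 = n15734 := rfl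
theorem F62120 : act 0 n15734 = n15734 := d4_1 D15734 (iv D15734) F58829
theorem F62121 : act 3 n15734 = n14921 := d22_1 D15734 (iv D14921) (iv F58830)
theorem F62122 : act 6 n15734 = n15006 := d30_2 (iv F58831) D15734 F59220 (iv F59217) F59216
theorem F62123 : act 8 n15734 = n15734 := d32_2 F58832 D15734 (iv D15734)
def n15735 : Q := act 7 n14923
theorem D15735 : act 7 n14923 = n15735 := rfl
theorem F62124 : act 0 n15735 = n15735 := d6_1 D15735 (iv D15735) F58844
theorem F62125 : act 2 n15735 = n15132 := d19_1 D15735 (iv D15132) (iv F58845)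
theorem F62126 : act 4 n15735 = n14926 := d28_1 D15735 (iv D14926) (iv F58847)
theorem F62127 : act 5 n15735 = n15724 := d31_1 D15735 (iv D15724) (iv F58848)
theorem F62128 : act 6 n15735 = n15134 := d33_1 D15735 (iv D15134) (iv F58849)
theorem F62129 : act 8 n15735 = n15133 := d35_2 D14923 D15735 (iv D15133) (iv D14272) F55178
def n15736 : Q := act 7 n14924
theorem D15736 : act 7 n14924 = n15736 := rfl
theorem F62130 : act 0 n15736 = n15736 := d6_1 D15736 (iv D15736) F58850
theorem F62131 : act 2 n15736 = n15133 := d19_1 D15736 (iv D15133) (iv F58851)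
theorem F62132 : act 4 n15736 = n15134 := d28_1 D15736 (iv D15134) (iv F58853)
theorem F62133 : act 5 n15736 = n14936 := d31_1 D15736 (iv D14936) (iv F58854)
theorem F62134 : act 6 n15736 = n14926 := d33_1 D15736 (iv D14926) (iv F58855)
theorem F62135 : act 8 n15736 = n15132 := d35_2 D14924 D15736 (iv D15132) (iv D14271) F55184
def n15737 : Q := act 7 n14925
theorem D15737 : act 7 n14925 = n15737 := rfl
theorem F62136 : act 0 n15737 = n15737 := d6_1 D15737 (iv D15737) F58856
theorem F62137 : act 2 n15737 = n15134 := d19_1 D15737 (iv D15134) (iv F58857)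
theorem F62138 : act 4 n15737 = n15133 := d28_1 D15737 (iv D15133) (iv F58859)
theorem F62139 : act 5 n15737 = n14927 := d31_1 D15737 (iv D14927) (iv F58860)
theorem F62140 : act 6 n15737 = n15132 := d33_1 D15737 (iv D15132) (iv F58861)
theorem F62141 : act 8 n15737 = n14926 := d35_2 D14925 D15737 (iv D14926) (iv D14015) D14014
def n15738 : Q := act 3 n14926
theorem D15738 : act 3 n14926 = n15738 := rfl
theorem F62142 : act 0 n15738 = n15738 := d2_1 D15738 (iv D15738) F58862
theorem F62143 : act 5 n15738 = n14928 := d22_2 (iv F58864) D15738 (iv D14928)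
theorem F62144 : act 7 n15738 = n14930 := d24_2 D14926 D15738 (iv D14930) (iv D14019) (iv F55193)
def n15739 : Q := act 3 n14927
theorem D15739 : act 3 n14927 = n15739 := rfl
theorem F62145 : act 0 n15739 = n15739 := d2_1 D15739 (iv D15739) F58865
theorem F62146 : act 6 n15739 = n14939 := d23_2 (iv F58868) D15739 (iv D14939)
theorem F62147 : act 7 n15739 = n15012 := d24_2 D14927 D15739 (iv D15012) (iv D14141) (iv F55197)
theorem F62148 : act 8 n15739 = n14928 := d25_2 (iv F58869) D15739 (iv D14928)
def n15740 : Q := act 2 n14928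
theorem D15740 : act 2 n14928 = n15740 := rfl
theorem F62149 : act 0 n15740 = n15740 := d1_1 D15740 (iv D15740) F58870
theorem F62150 : act 3 n15740 = n15137 := d15_2 D14928 D15740 (iv D15137) (iv D14276) (iv F55201)
theorem F62151 : act 6 n15740 = n14940 := d18_2 (iv F58871) D15740 (iv D14940)
theorem F62152 : act 7 n15740 = n14931 := d19_2 (iv F58872) D15740 (iv D14931)
def n15741 : Q := act 4 n14928
theorem D15741 : act 4 n14928 = n15741 := rfl
theorem F62153 : act 0 n15741 = n15741 := d3_1 D15741 (iv D15741) F58870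
theorem F62154 : act 3 n15741 = n15730 := d21_1 D15741 (iv D15730) (iv D14916) (iv F55202) D14928
theorem F62155 : act 6 n15741 = n14941 := d27_2 (iv F58871) D15741 (iv D14941)
theorem F62156 : act 7 n15741 = n14932 := d28_2 (iv F58872) D15741 (iv D14932)
theorem F62157 : act 5 n15701 = n15741 := d31_3 F62156 (iv F58890) D15701
def n15742 : Q := act 3 n14929
theorem D15742 : act 3 n14929 = n15742 := rfl
theorem F62158 : act 0 n15742 = n15742 := d2_1 D15742 (iv D15742) F58873
theorem F62159 : act 2 n15742 = n15688 := d15_1 D15742 F61922 F59198 F56266 (iv F58874)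
theorem F62160 : act 5 n15742 = n14942 := d22_2 (iv F58876) D15742 (iv D14942)
theorem F62161 : act 6 n15742 = n14930 := d23_2 (iv F58877) D15742 (iv D14930)
theorem F62162 : act 8 n15742 = n15013 := d25_2 (iv F58878) D15742 (iv D15013)
theorem F62163 : act 4 n15401 = n15742 := d29_3 F62162 (iv F59257) D15401
def n15743 : Q := act 2 n14930
theorem D15743 : act 2 n14930 = n15743 := rfl
theorem F62164 : act 0 n15743 = n15743 := d1_1 D15743 (iv D15743) F58879
theorem F62165 : act 3 n15743 = n14933 := d15_2 D14930 D15743 (iv D14933) (iv D14023) (iv F55210)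
theorem F62166 : act 5 n15743 = n14931 := d17_2 (iv F58880) D15743 (iv D14931)
theorem F62167 : act 6 n15743 = n15688 := d18_2 F62161 D15743 (iv F62159)
theorem F62168 : act 8 n15743 = n15014 := d20_2 (iv F58881) D15743 (iv D15014)
def n15744 : Q := act 4 n14930
theorem D15744 : act 4 n14930 = n15744 := rfl
theorem F62169 : act 0 n15744 = n15744 := d3_1 D15744 (iv D15744) F58879
theorem F62170 : act 3 n15744 = n15744 := d21_1 D15744 (iv D15744) (iv D14930) F55211 D14930
theorem F62171 : act 5 n15744 = n15408 := d26_2 (iv F58880) D15744 F60891 F58890 (iv D14932)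
theorem F62172 : act 6 n15744 = n15401 := d27_2 F62161 D15744 F62163
theorem F62173 : act 8 n15744 = n15015 := d29_2 (iv F58881) D15744 (iv D15015)
def n15745 : Q := act 1 n14931
theorem D15745 : act 1 n14931 = n15745 := rfl
theorem F62174 : act 3 n15745 = n14934 := d9_2 (iv F58883) D15745 (iv D14934)
theorem F62175 : act 6 n15745 = n14943 := d12_2 (iv F58884) D15745 (iv D14943)
theorem F62176 : act 8 n15745 = n15016 := d14_2 (iv F58885) D15745 (iv D15016)
def n15746 : Q := act 3 n14935
theorem D15746 : act 3 n14935 = n15746 := rfl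
theorem F62177 : act 0 n15746 = n15746 := d2_1 D15746 (iv D15746) F58900
theorem F62178 : act 4 n15746 = n15400 := d21_2 (iv F58901) D15746 F60854 F58914 (iv D14938)
theorem F62179 : act 6 n15746 = n15407 := d23_2 F58908 D15746 F60884
theorem F62180 : act 7 n15746 = n14944 := d24_2 D14935 D15746 (iv D14944) (iv D14036) (iv F55239)
theorem F62181 : act 2 n15402 = n15746 := d19_3 F62180 (iv F58936) D15402
def n15747 : Q := act 3 n14936
theorem D15747 : act 3 n14936 = n15747 := rfl
theorem F62182 : act 0 n15747 = n15747 := d2_1 D15747 (iv D15747) F58902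
theorem F62183 : act 4 n15747 = n15396 := d21_2 F58906 D15747 F60830 (iv F60885) F60884
theorem F62184 : act 6 n15747 = n14938 := d23_2 (iv F58903) D15747 (iv D14938)
theorem F62185 : act 7 n15747 = n14942 := d24_2 D14936 D15747 (iv D14942) (iv D14031) (iv F55242)
theorem F62186 : act 8 n15747 = n15746 := d25_2 (iv F58904) D15747 (iv D15746)
theorem F62187 : act 2 n15689 = n15747 := d20_3 F62186 (iv F62181) (iv F61929)
def n15748 : Q := act 1 n14940
theorem D15748 : act 1 n14940 = n15748 := rfl
theorem F62188 : act 5 n15748 = n15542 := d11_2 (iv F58919) D15748 F61424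
theorem F62189 : act 7 n15748 = n14943 := d13_2 (iv F58920) D15748 (iv D14943)
def n15749 : Q := act 7 n14945
theorem D15749 : act 7 n14945 = n15749 := rfl
theorem F62190 : act 0 n15749 = n14948 := d6_1 D15749 (iv D14948) (iv F58937)
theorem F62191 : act 1 n15749 = n14953 := d13_1 D15749 (iv D14953) (iv F58938)
theorem F62192 : act 4 n15749 = n15749 := d28_1 D15749 (iv D15749) F58939
theorem F62193 : act 5 n15749 = n15049 := d31_1 D15749 (iv D15049) (iv F58940)
theorem F62194 : act 6 n15749 = n14946 := d33_1 D15749 (iv D14946) (iv F58941)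
theorem F62195 : act 8 n15749 = n15749 := d35_2 D14945 D15749 (iv D15749) (iv D14945) F55311
def n15750 : Q := act 3 n14946
theorem D15750 : act 3 n14946 = n15750 := rfl
theorem F62196 : act 0 n15750 = n14949 := d2_1 D15750 (iv D14949) (iv F58942)
theorem F62197 : act 1 n15750 = n14954 := d9_1 D15750 (iv D14954) (iv F58943)
theorem F62198 : act 5 n15750 = n14947 := d22_2 (iv F58945) D15750 (iv D14947)
theorem F62199 : act 8 n15750 = n15750 := d25_2 F58946 D15750 (iv D15750)
def n15751 : Q := act 2 n14947
theorem D15751 : act 2 n14947 = n15751 := rfl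
theorem F62200 : act 0 n15751 = n14950 := d1_1 D15751 (iv D14950) (iv F58947)
theorem F62201 : act 6 n15751 = n15051 := d18_2 (iv F58949) D15751 (iv D15051)
theorem F62202 : act 8 n15751 = n15751 := d20_2 F58950 D15751 (iv D15751)
def n15752 : Q := act 2 n14949
theorem D15752 : act 2 n14949 = n15752 := rfl
theorem F62203 : act 5 n15752 = n14950 := d17_2 (iv F58957) D15752 (iv D14950)
theorem F62204 : act 8 n15752 = n15752 := d20_2 F58958 D15752 (iv D15752)
def n15753 : Q := act 4 n14949
theorem D15753 : act 4 n14949 = n15753 := rfl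
theorem F62205 : act 1 n15753 = n14951 := d10_1 D15753 (iv D14951) (iv F58956)
theorem F62206 : act 3 n15753 = n15753 := d21_1 D15753 (iv D15753) (iv D14949) F55326 D14949
theorem F62207 : act 6 n15753 = n15064 := d27_2 F60116 D15753 (iv F60114)
theorem F62208 : act 8 n15753 = n15753 := d29_2 F58958 D15753 (iv D15753)
def n15754 : Q := act 1 n14950
theorem D15754 : act 1 n14950 = n15754 := rfl
theorem F62209 : act 2 n15754 = n14952 := d8_2 D14950 D15754 (iv D14952) (iv D14049) (iv F55329)
theorem F62210 : act 6 n15754 = n15114 := d12_2 (iv F58959) D15754 (iv D15114)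
theorem F62211 : act 8 n15754 = n15754 := d14_2 F58960 D15754 (iv D15754)
def n15755 : Q := act 7 n14956
theorem D15755 : act 7 n14956 = n15755 := rfl
theorem F62212 : act 0 n15755 = n14984 := d6_1 D15755 (iv D14984) (iv F58983)
theorem F62213 : act 1 n15755 = n15755 := d13_1 D15755 (iv D15755) F58984
theorem F62214 : act 2 n15755 = n15723 := d19_1 D15755 F62075 F59134
theorem F62215 : act 4 n15755 = n15755 := d28_1 D15755 (iv D15755) F58985
theorem F62216 : act 5 n15755 = n14957 := d31_1 D15755 (iv D14957) (iv F58986)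
theorem F62217 : act 8 n15755 = n15755 := d35_2 D14956 D15755 (iv D15755) (iv D14956) F55400
def n15756 : Q := act 3 n14957
theorem D15756 : act 3 n14957 = n15756 := rfl
theorem F62218 : act 0 n15756 = n14985 := d2_1 D15756 (iv D14985) (iv F58987)
theorem F62219 : act 1 n15756 = n15756 := d9_1 D15756 (iv D15756) F58988
theorem F62220 : act 4 n15756 = n15338 := d21_2 (iv F58990) D15756 (iv D15338) F57094 (iv F55407)
theorem F62221 : act 6 n15756 = n15350 := d23_2 (iv F58991) D15756 F60583
theorem F62222 : act 8 n15756 = n15756 := d25_2 F58992 D15756 (iv D15756)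
def n15757 : Q := act 4 n14958
theorem D15757 : act 4 n14958 = n15757 := rfl
theorem F62223 : act 0 n15757 = n14986 := d3_1 D15757 (iv D14986) (iv F58993)
theorem F62224 : act 1 n15757 = n15015 := d10_1 D15757 (iv D15015) (iv F58994)
theorem F62225 : act 3 n15757 = n15757 := d21_1 D15757 (iv D15757) F58995 F55417 (iv F58995)
theorem F62226 : act 5 n15757 = n15267 := d26_2 D14958 D15757 F60275 (iv F58981) F58980
theorem F62227 : act 6 n15199 = n15757 := d30_0 F62226 (iv D15267) (iv D14423) (iv F56452) (iv F59925)
theorem F62228 : act 7 n15198 = n15757 := d31_0 F62226 F60276 (iv F59921)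
def n15758 : Q := act 6 n14958
theorem D15758 : act 6 n14958 = n15758 := rfl
theorem F62229 : act 0 n15758 = n14987 := d5_1 D15758 (iv D14987) (iv F58993)
theorem F62230 : act 1 n15758 = n15013 := d12_1 D15758 F59256 (iv F58994)
theorem F62231 : act 3 n15758 = n14960 := d23_1 D15758 (iv D14960) (iv F58995)
theorem F62232 : act 4 n15758 = n15199 := d27_1 D15758 F62227 (iv D15757)
theorem F62233 : act 5 n15758 = n14998 := d30_1 D15758 F59186 F55677 (iv F55413) D14958
theorem F62234 : act 7 n15197 = n15758 := d31_0 F62233 (iv F60838) F60836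
def n15759 : Q := act 7 n14958
theorem D15759 : act 7 n14958 = n15759 := rfl
theorem F62235 : act 0 n15759 = n14988 := d6_1 D15759 (iv D14988) (iv F58993)
theorem F62236 : act 1 n15759 = n15011 := d13_1 D15759 F59249 (iv F58994)
theorem F62237 : act 3 n15759 = n14963 := d24_1 D15759 (iv D14963) F55427 (iv F55418) (iv F58995)
theorem F62238 : act 4 n15759 = n15198 := d28_1 D15759 F62228 (iv D15757)
theorem F62239 : act 5 n15759 = n14959 := d31_1 D15759 (iv D14959) D14958
theorem F62240 : act 6 n15759 = n15197 := d33_1 D15759 F62234 (iv D15758)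
def n15760 : Q := act 8 n14959
theorem D15760 : act 8 n14959 = n15760 := rfl
theorem F62241 : act 0 n15760 = n14990 := d7_1 D15760 (iv D14990) (iv F58996)
theorem F62242 : act 1 n15760 = n15012 := d14_1 D15760 F59252 (iv F58997)
theorem F62243 : act 3 n15760 = n14964 := d25_1 D15760 (iv D14964) (iv F58998)
theorem F62244 : act 6 n15760 = n14996 := d34_1 D15760 F59182 (iv F58999)
def n15761 : Q := act 8 n14963
theorem D15761 : act 8 n14963 = n15761 := rfl
theorem F62245 : act 0 n15761 = n14993 := d7_1 D15761 (iv D14993) (iv F59022)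
theorem F62246 : act 1 n15761 = n15010 := d14_1 D15761 F59246 (iv F59023)
theorem F62247 : act 2 n15761 = n14969 := d20_1 D15761 (iv D14969) (iv F59024)
theorem F62248 : act 4 n15761 = n15116 := d29_1 D15761 F59569 (iv F59025)
theorem F62249 : act 5 n15761 = n14964 := d32_1 D15761 (iv D14964) (iv F59026)
theorem F62250 : act 6 n15761 = n15115 := d34_1 D15761 F59563 (iv F59027)
theorem F62251 : act 7 n15761 = n14994 := d35_1 D15761 (iv D14994) (iv D14113) (iv F55428) D14963
def n15762 : Q := act 8 n14967
theorem D15762 : act 8 n14967 = n15762 := rfl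
theorem F62252 : act 0 n15762 = n14994 := d7_1 D15762 (iv D14994) (iv F59050)
theorem F62253 : act 1 n15762 = n15762 := d14_1 D15762 (iv D15762) F59051
theorem F62254 : act 2 n15762 = n14995 := d20_1 D15762 F59180 (iv F59052)
theorem F62255 : act 4 n15762 = n15053 := d29_1 D15762 (iv D15053) (iv F59053)
theorem F62256 : act 5 n15762 = n14968 := d32_1 D15762 (iv D14968) (iv F59054)
theorem F62257 : act 6 n15762 = n15052 := d34_1 D15762 (iv D15052) (iv F59055)
theorem F62258 : act 7 n15762 = n14993 := d35_1 D15762 (iv D14993) (iv D14109) (iv F55444) D14967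
def n15763 : Q := act 3 n14970
theorem D15763 : act 3 n14970 = n15763 := rfl
theorem F62259 : act 0 n15763 = n14996 := d2_1 D15763 (iv D14996) (iv F59067)
theorem F62260 : act 1 n15763 = n15763 := d9_1 D15763 (iv D15763) F59068
theorem F62261 : act 6 n15763 = n14990 := d23_2 (iv F59071) D15763 F59161
theorem F62262 : act 8 n15763 = n14971 := d25_2 (iv F59072) D15763 (iv D14971)
def n15764 : Q := act 3 n14975
theorem D15764 : act 3 n14975 = n15764 := rfl
theorem F62263 : act 0 n15764 = n15338 := d2_1 D15764 (iv D15338) (iv F59092)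
theorem F62264 : act 1 n15764 = n15004 := d9_1 D15764 (iv D15004) (iv F59093)
theorem F62265 : act 4 n15764 = n14985 := d21_2 (iv F59095) D15764 (iv D14985) F55596 (iv F55539)
theorem F62266 : act 5 n15764 = n15732 := d22_2 (iv F59096) D15764 F62112
theorem F62267 : act 6 n15764 = n15204 := d23_2 (iv F59097) D15764 (iv D15204)
theorem F62268 : act 8 n15764 = n15764 := d25_2 F59098 D15764 (iv D15764)
def n15765 : Q := act 3 n14977
theorem D15765 : act 3 n14977 = n15765 := rfl
theorem F62269 : act 0 n15765 = n15350 := d2_1 D15765 F60583 (iv F59106)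
theorem F62270 : act 1 n15765 = n15005 := d9_1 D15765 (iv D15005) (iv F59107)
theorem F62271 : act 4 n15765 = n15204 := d21_2 (iv F59108) D15765 (iv D15204) F56467 (iv F55566)
theorem F62272 : act 5 n15765 = n15110 := d22_2 (iv F59109) D15765 F59546
theorem F62273 : act 6 n15765 = n14985 := d23_2 (iv F59110) D15765 (iv D14985)
theorem F62274 : act 8 n15765 = n15765 := d25_2 F59111 D15765 (iv D15765)
def n15766 : Q := act 4 n14978
theorem D15766 : act 4 n14978 = n15766 := rfl
theorem F62275 : act 0 n15766 = n15267 := d3_1 D15766 F60275 (iv F59112)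
theorem F62276 : act 1 n15766 = n15766 := d10_1 D15766 (iv D15766) F59113
theorem F62277 : act 3 n15766 = n15766 := d21_1 D15766 (iv D15766) F59114 F55574 (iv F59114)
theorem F62278 : act 5 n15766 = n14986 := d26_2 D14978 D15766 (iv D14986) (iv D14101) (iv F55571)
theorem F62279 : act 6 n15766 = n15151 := d27_2 (iv F59115) D15766 F59703
theorem F62280 : act 7 n15333 = n15766 := d33_0 F62279 F59704 D15333
def n15767 : Q := act 7 n14978
theorem D15767 : act 7 n14978 = n15767 := rfl
theorem F62281 : act 0 n15767 = n15077 := d6_1 D15767 F59468 (iv F59112)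
theorem F62282 : act 1 n15767 = n15767 := d13_1 D15767 (iv D15767) F59113
theorem F62283 : act 3 n15767 = n15767 := d24_1 D15767 (iv D15767) F59114 F55576 (iv F59114)
theorem F62284 : act 4 n15767 = n15333 := d28_1 D15767 F62280 (iv D15766)
theorem F62285 : act 5 n15767 = n14979 := d31_1 D15767 (iv D14979) D14978
theorem F62286 : act 6 n15767 = n15020 := d33_1 D15767 F59284 (iv F59115)
def n15768 : Q := act 8 n14978
theorem D15768 : act 8 n14978 = n15768 := rfl
theorem F62287 : act 0 n15768 = n15587 := d7_1 D15768 (iv D15587) (iv F59112)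
theorem F62288 : act 1 n15768 = n15768 := d14_1 D15768 (iv D15768) F59113
theorem F62289 : act 3 n15768 = n14981 := d25_1 D15768 (iv D14981) (iv F59114)
theorem F62290 : act 5 n15768 = n14980 := d32_1 D15768 (iv D14980) D14978
theorem F62291 : act 6 n15768 = n15445 := d34_1 D15768 (iv D15445) (iv F59115)
def n15769 : Q := act 8 n14979
theorem D15769 : act 8 n14979 = n15769 := rfl
theorem F62292 : act 1 n15769 = n15769 := d14_1 D15769 (iv D15769) F59116
theorem F62293 : act 3 n15769 = n15769 := d25_1 D15769 (iv D15769) F59117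
theorem F62294 : act 4 n15769 = n14990 := d29_1 D15769 (iv D14990) (iv F59118)
def n15770 : Q := act 7 n14980
theorem D15770 : act 7 n14980 = n15770 := rfl
theorem F62295 : act 1 n15770 = n15770 := d13_1 D15770 (iv D15770) F59119
theorem F62296 : act 4 n15770 = n14991 := d28_1 D15770 (iv D14991) (iv F59121)
def n15771 : Q := act 7 n14981
theorem D15771 : act 7 n14981 = n15771 := rfl
theorem F62297 : act 0 n15771 = n15723 := d6_1 D15771 F62075 F59132
theorem F62298 : act 1 n15771 = n15771 := d13_1 D15771 (iv D15771) F59122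
theorem F62299 : act 2 n15771 = n14984 := d19_1 D15771 (iv D14984) (iv F59123)
theorem F62300 : act 4 n15771 = n15771 := d28_1 D15771 (iv D15771) F59124
theorem F62301 : act 5 n15771 = n14982 := d31_1 D15771 (iv D14982) (iv F59125)
theorem F62302 : act 6 n15771 = n15755 := d33_1 D15771 (iv D15755) (iv F59126)
theorem F62303 : act 8 n15771 = n15771 := d35_2 D14981 D15771 (iv D15771) (iv D14981) F55576
def n15772 : Q := act 3 n14982
theorem D15772 : act 3 n14982 = n15772 := rfl
theorem F62304 : act 0 n15772 = n15722 := d2_1 D15772 F62069 (iv F59127)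
theorem F62305 : act 1 n15772 = n15772 := d9_1 D15772 (iv D15772) F59128
theorem F62306 : act 4 n15772 = n15712 := d21_2 (iv F59130) D15772 (iv D15712) F58749 (iv F55583)
theorem F62307 : act 8 n15772 = n15772 := d25_2 F59131 D15772 (iv D15772)
def n15773 : Q := act 3 n14984
theorem D15773 : act 3 n14984 = n15773 := rfl
theorem F62308 : act 1 n15773 = n15006 := d9_1 D15773 (iv D15006) (iv F59138)
theorem F62309 : act 5 n15773 = n14985 := d22_2 (iv F59140) D15773 (iv D14985)
theorem F62310 : act 8 n15773 = n15773 := d25_2 F59141 D15773 (iv D15773)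
def n15774 : Q := act 2 n14985
theorem D15774 : act 2 n14985 = n15774 := rfl
theorem F62311 : act 8 n15774 = n15774 := d20_2 F59143 D15774 (iv D15774)
def n15775 : Q := act 8 n14986
theorem D15775 : act 8 n14986 = n15775 := rfl
theorem F62312 : act 1 n15775 = n15775 := d14_1 D15775 (iv D15775) F59144
theorem F62313 : act 3 n15775 = n15775 := d25_1 D15775 (iv D15775) F59145
theorem F62314 : act 4 n15775 = n14989 := d29_1 D15775 (iv D14989) D14986
theorem F62315 : act 6 n15775 = n15343 := d34_1 D15775 (iv D15343) (iv F59150)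
def n15776 : Q := act 8 n14987
theorem D15776 : act 8 n14987 = n15776 := rfl
theorem F62316 : act 1 n15776 = n15776 := d14_1 D15776 (iv D15776) F59146
theorem F62317 : act 3 n15776 = n14992 := d25_1 D15776 (iv D14992) (iv F59147)
theorem F62318 : act 4 n15776 = n15343 := d29_1 D15776 (iv D15343) F59149
theorem F62319 : act 6 n15776 = n14989 := d34_1 D15776 (iv D14989) D14987
def n15777 : Q := act 8 n14988
theorem D15777 : act 8 n14988 = n15777 := rfl
theorem F62320 : act 1 n15777 = n15777 := d14_1 D15777 (iv D15777) F59152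
theorem F62321 : act 3 n15777 = n14993 := d25_1 D15777 (iv D14993) (iv F59153)
theorem F62322 : act 4 n15777 = n15342 := d29_1 D15777 (iv D15342) (iv F59154)
theorem F62323 : act 5 n15777 = n14990 := d32_1 D15777 (iv D14990) (iv F59155)
theorem F62324 : act 6 n15777 = n15341 := d34_1 D15777 (iv D15341) (iv F59156)
def n15778 : Q := act 7 n14989
theorem D15778 : act 7 n14989 = n15778 := rfl
theorem F62325 : act 1 n15778 = n15778 := d13_1 D15778 (iv D15778) F59157
theorem F62326 : act 5 n15778 = n14991 := d31_1 D15778 (iv D14991) (iv F59159)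
def n15779 : Q := act 7 n14990
theorem D15779 : act 7 n14990 = n15779 := rfl
theorem F62327 : act 1 n15779 = n15779 := d13_1 D15779 (iv D15779) F59160
theorem F62328 : act 8 n15779 = n14991 := d35_2 D14990 D15779 (iv D14991) (iv D14103) D14102
def n15780 : Q := act 2 n14996
theorem D15780 : act 2 n14996 = n15780 := rfl
theorem F62329 : act 8 n15780 = n14997 := d20_2 (iv F59182) D15780 (iv D14997)
def n15781 : Q := act 3 n15003
theorem D15781 : act 3 n15003 = n15781 := rfl
theorem F62330 : act 0 n15781 = n15781 := d2_1 D15781 (iv D15781) F59203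
theorem F62331 : act 1 n15781 = n15204 := d9_1 D15781 (iv D15204) (iv F59204)
theorem F62332 : act 2 n15781 = n15731 := d15_1 D15781 (iv D15731) F58817 (iv F56273) (iv F59205)
theorem F62333 : act 4 n15781 = n15005 := d21_2 (iv F59206) D15781 (iv D15005) F55723 (iv F55704)
theorem F62334 : act 5 n15781 = n15141 := d22_2 (iv F59207) D15781 F59661
theorem F62335 : act 6 n15781 = n15004 := d23_2 (iv F59208) D15781 (iv D15004)
theorem F62336 : act 8 n15781 = n15781 := d25_2 F59209 D15781 (iv D15781)
def n15782 : Q := act 2 n15005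
theorem D15782 : act 2 n15005 = n15782 := rfl
theorem F62337 : act 0 n15782 = n15782 := d1_1 D15782 (iv D15782) F59215
theorem F62338 : act 3 n15782 = n15782 := d15_2 D15005 D15782 (iv D15782) (iv D15005) F55722
theorem F62339 : act 4 n15782 = n15731 := d16_2 F62333 D15782 (iv F62332)
theorem F62340 : act 5 n15782 = n15143 := d17_2 (iv F59216) D15782 F59667
theorem F62341 : act 6 n15782 = n15007 := d18_2 (iv F59217) D15782 (iv D15007)
theorem F62342 : act 8 n15782 = n15782 := d20_2 F59218 D15782 (iv D15782)
def n15783 : Q := act 2 n15006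
theorem D15783 : act 2 n15006 = n15783 := rfl
theorem F62343 : act 0 n15783 = n15783 := d1_1 D15783 (iv D15783) F59219
theorem F62344 : act 3 n15783 = n15783 := d15_2 D15006 D15783 (iv D15783) (iv D15006) F55733
theorem F62345 : act 5 n15783 = n15007 := d17_2 (iv F59220) D15783 (iv D15007)
theorem F62346 : act 8 n15783 = n15783 := d20_2 F59221 D15783 (iv D15783)
theorem F62347 : act 4 n15734 = n15783 := d26_5 F62345 F59224 F58823 D14920 D15734
def n15784 : Q := act 4 n15006
theorem D15784 : act 4 n15006 = n15784 := rfl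
theorem F62348 : act 0 n15784 = n15784 := d3_1 D15784 (iv D15784) F59219
theorem F62349 : act 2 n15784 = n15734 := d16_1 D15784 F62347 (iv D15783)
theorem F62350 : act 3 n15784 = n15784 := d21_1 D15784 (iv D15784) (iv D15006) F55734 D15006
theorem F62351 : act 5 n15784 = n15733 := d26_2 (iv F59220) D15784 (iv D15733) (iv F59213) F59212
theorem F62352 : act 6 n15784 = n15783 := d27_2 F62122 D15784 (iv F62347)
theorem F62353 : act 8 n15784 = n15784 := d29_2 F59221 D15784 (iv D15784)
def n15785 : Q := act 1 n15007
theorem D15785 : act 1 n15007 = n15785 := rfl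
theorem F62354 : act 3 n15785 = n15785 := d9_2 F59223 D15785 (iv D15785)
theorem F62355 : act 4 n15785 = n15720 := d10_2 (iv F59224) D15785 F62062
theorem F62356 : act 8 n15785 = n15785 := d14_2 F59225 D15785 (iv D15785)
def n15786 : Q := act 3 n15010
theorem D15786 : act 3 n15010 = n15786 := rfl
theorem F62357 : act 0 n15786 = n15786 := d2_1 D15786 (iv D15786) F59241
theorem F62358 : act 4 n15786 = n15743 := d21_2 (iv F59243) D15786 F62165 (iv F59688) (iv D15147)
theorem F62359 : act 5 n15786 = n15012 := d22_2 (iv F59244) D15786 (iv D15012)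
theorem F62360 : act 6 n15786 = n15146 := d23_2 (iv F59245) D15786 (iv D15146)
theorem F62361 : act 8 n15786 = n15011 := d25_2 (iv F59246) D15786 (iv D15011)
theorem F62362 : act 2 n15744 = n15786 := d20_3 F62361 (iv F59264) (iv F62173)
def n15787 : Q := act 4 n15017
theorem D15787 : act 4 n15017 = n15787 := rfl
theorem F62363 : act 1 n15787 = n15018 := d10_1 D15787 (iv D15018) D15017
theorem F62364 : act 2 n15787 = n15787 := d16_1 D15787 (iv D15787) F59271
theorem F62365 : act 7 n15787 = n15439 := d28_2 (iv F59273) D15787 (iv D15439)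
def n15788 : Q := act 8 n15017
theorem D15788 : act 8 n15017 = n15788 := rfl
theorem F62366 : act 1 n15788 = n15019 := d14_1 D15788 (iv D15019) D15017
theorem F62367 : act 2 n15788 = n15788 := d20_1 D15788 (iv D15788) F59271
theorem F62368 : act 3 n15788 = n15023 := d25_1 D15788 (iv D15023) (iv F59272)
def n15789 : Q := act 3 n15018
theorem D15789 : act 3 n15018 = n15789 := rfl
theorem F62369 : act 0 n15789 = n15073 := d2_1 D15789 (iv D15073) (iv F59274)
theorem F62370 : act 2 n15789 = n15789 := d15_1 D15789 (iv D15789) F59275 F55813 (iv F59275)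
theorem F62371 : act 4 n15789 = n15024 := d21_2 D15018 D15789 (iv D15024) (iv D14158) (iv F55809)
theorem F62372 : act 5 n15787 = n15789 := d26_0 F62371 (iv F60405) F60404 F60378 D15787
def n15790 : Q := act 5 n15018
theorem D15790 : act 5 n15018 = n15790 := rfl
theorem F62373 : act 0 n15790 = n15074 := d4_1 D15790 (iv D15074) (iv F59274)
theorem F62374 : act 1 n15790 = n15789 := d11_1 D15790 (iv F62372) F62363
theorem F62375 : act 2 n15790 = n15020 := d17_1 D15790 (iv D15020) (iv F59275)
theorem F62376 : act 3 n15790 = n15787 := d22_1 D15790 F62372 (iv D15789)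
theorem F62377 : act 4 n15790 = n15300 := d26_1 D15790 (iv D15300) (iv F57571) F57572 D15018
theorem F62378 : act 7 n15790 = n15442 := d31_2 (iv F59276) D15790 (iv D15442)
def n15791 : Q := act 8 n15018
theorem D15791 : act 8 n15018 = n15791 := rfl
theorem F62379 : act 0 n15791 = n15075 := d7_1 D15791 (iv D15075) (iv F59274)
theorem F62380 : act 2 n15791 = n15021 := d20_1 D15791 (iv D15021) (iv F59275)
theorem F62381 : act 4 n15791 = n15019 := d29_1 D15791 (iv D15019) D15018
def n15792 : Q := act 7 n15019
theorem D15792 : act 7 n15019 = n15792 := rfl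
theorem F62382 : act 0 n15792 = n15076 := d6_1 D15792 (iv D15076) (iv F59277)
theorem F62383 : act 2 n15792 = n15022 := d19_1 D15792 (iv D15022) (iv F59278)
theorem F62384 : act 8 n15792 = n15444 := d35_2 D15019 D15792 (iv D15444) (iv D14617) (iv F55810)
def n15793 : Q := act 8 n15020
theorem D15793 : act 8 n15020 = n15793 := rfl
theorem F62385 : act 0 n15793 = n15078 := d7_1 D15793 (iv D15078) (iv F59280)
theorem F62386 : act 1 n15793 = n15793 := d14_1 D15793 (iv D15793) F59281
theorem F62387 : act 3 n15793 = n15793 := d25_1 D15793 (iv D15793) F59282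
theorem F62388 : act 4 n15793 = n15334 := d29_1 D15793 (iv D15334) (iv F59283)
theorem F62389 : act 5 n15793 = n15021 := d32_1 D15793 (iv D15021) D15020
def n15794 : Q := act 7 n15021
theorem D15794 : act 7 n15021 = n15794 := rfl
theorem F62390 : act 0 n15794 = n15079 := d6_1 D15794 (iv D15079) (iv F59285)
theorem F62391 : act 1 n15794 = n15794 := d13_1 D15794 (iv D15794) F59286
theorem F62392 : act 4 n15794 = n15022 := d28_1 D15794 (iv D15022) (iv F59288)
theorem F62393 : act 8 n15794 = n15446 := d35_2 D15021 D15794 (iv D15446) (iv D14619) (iv F55814)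
def n15795 : Q := act 7 n15023
theorem D15795 : act 7 n15023 = n15795 := rfl
theorem F62394 : act 1 n15795 = n15026 := d13_1 D15795 (iv D15026) (iv F59292)
theorem F62395 : act 2 n15795 = n15055 := d19_1 D15795 (iv D15055) (iv F59293)
theorem F62396 : act 8 n15795 = n15030 := d35_2 D15023 D15795 (iv D15030) (iv D14163) (iv F55819)
def n15796 : Q := act 7 n15024
theorem D15796 : act 7 n15024 = n15796 := rfl
theorem F62397 : act 0 n15796 = n15081 := d6_1 D15796 (iv D15081) (iv F59294)
theorem F62398 : act 2 n15796 = n15796 := d19_1 D15796 (iv D15796) F59295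
theorem F62399 : act 3 n15796 = n15032 := d24_1 D15796 (iv D15032) (iv D14164) (iv F55822) D15024
def n15797 : Q := act 8 n15024
theorem D15797 : act 8 n15024 = n15797 := rfl
theorem F62400 : act 0 n15797 = n15082 := d7_1 D15797 (iv D15082) (iv F59294)
theorem F62401 : act 2 n15797 = n15797 := d20_1 D15797 (iv D15797) F59295
theorem F62402 : act 3 n15797 = n15025 := d25_1 D15797 (iv D15025) D15024
def n15798 : Q := act 7 n15025
theorem D15798 : act 7 n15025 = n15798 := rfl
theorem F62403 : act 0 n15798 = n15084 := d6_1 D15798 (iv D15084) (iv F59296)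
theorem F62404 : act 2 n15798 = n15027 := d19_1 D15798 (iv D15027) (iv F59297)
theorem F62405 : act 4 n15798 = n15026 := d28_1 D15798 (iv D15026) (iv F59298)
theorem F62406 : act 8 n15798 = n15035 := d35_2 D15025 D15798 (iv D15035) (iv D14166) (iv F55822)
def n15799 : Q := act 3 n15026
theorem D15799 : act 3 n15026 = n15799 := rfl
theorem F62407 : act 0 n15799 = n15085 := d2_1 D15799 (iv D15085) (iv F59299)
theorem F62408 : act 8 n15799 = n15036 := d25_2 (iv F59301) D15799 (iv D15036)
def n15800 : Q := act 3 n15027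
theorem D15800 : act 3 n15027 = n15800 := rfl
theorem F62409 : act 0 n15800 = n15087 := d2_1 D15800 (iv D15087) (iv F59302)
theorem F62410 : act 1 n15800 = n15057 := d9_1 D15800 (iv D15057) (iv F59303)
theorem F62411 : act 7 n15800 = n15800 := d24_2 D15027 D15800 (iv D15800) (iv D15027) F55827
theorem F62412 : act 8 n15800 = n15038 := d25_2 (iv F59305) D15800 (iv D15038)
def n15801 : Q := act 7 n15028
theorem D15801 : act 7 n15028 = n15801 := rfl
theorem F62413 : act 1 n15801 = n15032 := d13_1 D15801 (iv D15032) (iv F59306)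
theorem F62414 : act 2 n15801 = n15801 := d19_1 D15801 (iv D15801) F59307
theorem F62415 : act 4 n15801 = n15480 := d28_1 D15801 (iv D15480) (iv F59308)
def n15802 : Q := act 8 n15028
theorem D15802 : act 8 n15028 = n15802 := rfl
theorem F62416 : act 1 n15802 = n15033 := d14_1 D15802 (iv D15033) (iv F59306)
theorem F62417 : act 2 n15802 = n15802 := d20_1 D15802 (iv D15802) F59307
theorem F62418 : act 3 n15802 = n15029 := d25_1 D15802 (iv D15029) D15028
theorem F62419 : act 4 n15802 = n15481 := d29_1 D15802 (iv D15481) (iv F59308)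
def n15803 : Q := act 7 n15029
theorem D15803 : act 7 n15029 = n15803 := rfl
theorem F62420 : act 1 n15803 = n15035 := d13_1 D15803 (iv D15035) (iv F59309)
theorem F62421 : act 2 n15803 = n15058 := d19_1 D15803 (iv D15058) (iv F59310)
theorem F62422 : act 4 n15803 = n15030 := d28_1 D15803 (iv D15030) (iv F59311)
def n15804 : Q := act 3 n15030
theorem D15804 : act 3 n15030 = n15804 := rfl
theorem F62423 : act 1 n15804 = n15036 := d9_1 D15804 (iv D15036) (iv F59312)
theorem F62424 : act 7 n15804 = n15484 := d24_2 D15030 D15804 (iv D15484) (iv D14652) (iv F55836)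
def n15805 : Q := act 4 n15031
theorem D15805 : act 4 n15031 = n15805 := rfl
theorem F62425 : act 0 n15805 = n15088 := d3_1 D15805 (iv D15088) (iv F59314)
theorem F62426 : act 2 n15805 = n15039 := d16_1 D15805 (iv D15039) (iv F59315)
theorem F62427 : act 5 n15805 = n15485 := d26_2 D15031 D15805 (iv D15485) (iv D14653) (iv F55839)
def n15806 : Q := act 7 n15031
theorem D15806 : act 7 n15031 = n15806 := rfl
theorem F62428 : act 0 n15806 = n15090 := d6_1 D15806 (iv D15090) (iv F59314)
theorem F62429 : act 2 n15806 = n15041 := d19_1 D15806 (iv D15041) (iv F59315)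
theorem F62430 : act 5 n15806 = n15032 := d31_1 D15806 (iv D15032) D15031
def n15807 : Q := act 8 n15031
theorem D15807 : act 8 n15031 = n15807 := rfl
theorem F62431 : act 0 n15807 = n15091 := d7_1 D15807 (iv D15091) (iv F59314)
theorem F62432 : act 2 n15807 = n15042 := d20_1 D15807 (iv D15042) (iv F59315)
theorem F62433 : act 3 n15807 = n15034 := d25_1 D15807 (iv D15034) (iv F59316)
theorem F62434 : act 5 n15807 = n15033 := d32_1 D15807 (iv D15033) D15031
def n15808 : Q := act 8 n15032
theorem D15808 : act 8 n15032 = n15808 := rfl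
theorem F62435 : act 0 n15808 = n15092 := d7_1 D15808 (iv D15092) (iv F59317)
theorem F62436 : act 2 n15808 = n15043 := d20_1 D15808 (iv D15043) (iv F59318)
theorem F62437 : act 4 n15808 = n15489 := d29_1 D15808 (iv D15489) (iv F59319)
def n15809 : Q := act 7 n15033
theorem D15809 : act 7 n15033 = n15809 := rfl
theorem F62438 : act 0 n15809 = n15093 := d6_1 D15809 (iv D15093) (iv F59320)
theorem F62439 : act 2 n15809 = n15044 := d19_1 D15809 (iv D15044) (iv F59321)
theorem F62440 : act 4 n15809 = n15490 := d28_1 D15809 (iv D15490) (iv F59323)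
def n15810 : Q := act 7 n15034
theorem D15810 : act 7 n15034 = n15810 := rfl
theorem F62441 : act 0 n15810 = n15095 := d6_1 D15810 (iv D15095) (iv F59324)
theorem F62442 : act 2 n15810 = n15037 := d19_1 D15810 (iv D15037) (iv F59325)
theorem F62443 : act 5 n15810 = n15035 := d31_1 D15810 (iv D15035) (iv F59326)
def n15811 : Q := act 3 n15035
theorem D15811 : act 3 n15035 = n15811 := rfl
theorem F62444 : act 0 n15811 = n15096 := d2_1 D15811 (iv D15096) (iv F59327)
def n15812 : Q := act 4 n15036
theorem D15812 : act 4 n15036 = n15812 := rfl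
theorem F62445 : act 0 n15812 = n15097 := d3_1 D15812 (iv D15097) (iv F59330)
theorem F62446 : act 7 n15812 = n15494 := d28_2 (iv F59331) D15812 (iv D15494)
def n15813 : Q := act 3 n15037
theorem D15813 : act 3 n15037 = n15813 := rfl
theorem F62447 : act 0 n15813 = n15099 := d2_1 D15813 (iv D15099) (iv F59332)
theorem F62448 : act 1 n15813 = n15062 := d9_1 D15813 (iv D15062) (iv F59333)
theorem F62449 : act 5 n15813 = n15038 := d22_2 (iv F59334) D15813 (iv D15038)
theorem F62450 : act 7 n15813 = n15050 := d24_2 D15037 D15813 (iv D15050) (iv D14178) (iv F55849)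
def n15814 : Q := act 2 n15038
theorem D15814 : act 2 n15038 = n15814 := rfl
theorem F62451 : act 0 n15814 = n15100 := d1_1 D15814 (iv D15100) (iv F59335)
theorem F62452 : act 7 n15814 = n15051 := d19_2 (iv F59337) D15814 (iv D15051)
def n15815 : Q := act 8 n15039
theorem D15815 : act 8 n15039 = n15815 := rfl
theorem F62453 : act 0 n15815 = n15101 := d7_1 D15815 (iv D15101) (iv F59338)
theorem F62454 : act 1 n15815 = n15815 := d14_1 D15815 (iv D15815) F59339
theorem F62455 : act 3 n15815 = n15052 := d25_1 D15815 (iv D15052) (iv F59340)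
theorem F62456 : act 4 n15815 = n15042 := d29_1 D15815 (iv D15042) D15039
theorem F62457 : act 5 n15815 = n15505 := d32_1 D15815 (iv D15505) (iv F59341)
def n15816 : Q := act 8 n15040
theorem D15816 : act 8 n15040 = n15816 := rfl
theorem F62458 : act 0 n15816 = n15102 := d7_1 D15816 (iv D15102) (iv F59342)
theorem F62459 : act 1 n15816 = n15816 := d14_1 D15816 (iv D15816) F59343
theorem F62460 : act 3 n15816 = n15045 := d25_1 D15816 (iv D15045) (iv F59344)
theorem F62461 : act 6 n15816 = n15042 := d34_1 D15816 (iv D15042) D15040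
def n15817 : Q := act 8 n15041
theorem D15817 : act 8 n15041 = n15817 := rfl
theorem F62462 : act 0 n15817 = n15103 := d7_1 D15817 (iv D15103) (iv F59345)
theorem F62463 : act 1 n15817 = n15817 := d14_1 D15817 (iv D15817) F59346
theorem F62464 : act 3 n15817 = n15817 := d25_1 D15817 (iv D15817) F59347
theorem F62465 : act 5 n15817 = n15043 := d32_1 D15817 (iv D15043) (iv F59348)
def n15818 : Q := act 7 n15042
theorem D15818 : act 7 n15042 = n15818 := rfl
theorem F62466 : act 0 n15818 = n15104 := d6_1 D15818 (iv D15104) (iv F59349)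
theorem F62467 : act 1 n15818 = n15818 := d13_1 D15818 (iv D15818) F59350
theorem F62468 : act 5 n15818 = n15044 := d31_1 D15818 (iv D15044) (iv F59352)
def n15819 : Q := act 7 n15043
theorem D15819 : act 7 n15043 = n15819 := rfl
theorem F62469 : act 0 n15819 = n15105 := d6_1 D15819 (iv D15105) (iv F59353)
theorem F62470 : act 1 n15819 = n15819 := d13_1 D15819 (iv D15819) F59354
theorem F62471 : act 4 n15819 = n15509 := d28_1 D15819 (iv D15509) (iv F59356)
theorem F62472 : act 8 n15819 = n15044 := d35_2 D15043 D15819 (iv D15044) (iv D14172) D14171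
def n15820 : Q := act 3 n15044
theorem D15820 : act 3 n15044 = n15820 := rfl
theorem F62473 : act 0 n15820 = n15106 := d2_1 D15820 (iv D15106) (iv F59357)
theorem F62474 : act 1 n15820 = n15820 := d9_1 D15820 (iv D15820) F59358
theorem F62475 : act 7 n15820 = n15047 := d24_2 D15044 D15820 (iv D15047) (iv D14175) (iv F55863)
def n15821 : Q := act 7 n15045
theorem D15821 : act 7 n15045 = n15821 := rfl
theorem F62476 : act 0 n15821 = n15107 := d6_1 D15821 (iv D15107) (iv F59360)
theorem F62477 : act 1 n15821 = n15821 := d13_1 D15821 (iv D15821) F59361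
theorem F62478 : act 2 n15821 = n15049 := d19_1 D15821 (iv D15049) (iv F59362)
theorem F62479 : act 4 n15821 = n15054 := d28_1 D15821 (iv D15054) (iv F59363)
theorem F62480 : act 6 n15821 = n15046 := d33_1 D15821 (iv D15046) (iv F59364)
theorem F62481 : act 8 n15821 = n15821 := d35_2 D15045 D15821 (iv D15821) (iv D15045) F55869
def n15822 : Q := act 3 n15046
theorem D15822 : act 3 n15046 = n15822 := rfl
theorem F62482 : act 0 n15822 = n15108 := d2_1 D15822 (iv D15108) (iv F59365)
theorem F62483 : act 1 n15822 = n15822 := d9_1 D15822 (iv D15822) F59366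
theorem F62484 : act 4 n15822 = n15348 := d21_2 (iv F59368) D15822 (iv D15348) F57132 (iv F55926)
theorem F62485 : act 5 n15822 = n15047 := d22_2 (iv F59369) D15822 (iv D15047)
theorem F62486 : act 8 n15822 = n15822 := d25_2 F59370 D15822 (iv D15822)
def n15823 : Q := act 2 n15047
theorem D15823 : act 2 n15047 = n15823 := rfl
theorem F62487 : act 0 n15823 = n15109 := d1_1 D15823 (iv D15109) (iv F59371)
theorem F62488 : act 3 n15823 = n15051 := d15_2 D15047 D15823 (iv D15051) (iv D14179) (iv F55877)
theorem F62489 : act 8 n15823 = n15823 := d20_2 F59373 D15823 (iv D15823)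
def n15824 : Q := act 4 n15047
theorem D15824 : act 4 n15047 = n15824 := rfl
theorem F62490 : act 0 n15824 = n15110 := d3_1 D15824 (iv D15110) (iv F59371)
theorem F62491 : act 1 n15824 = n15824 := d10_1 D15824 (iv D15824) F59372
theorem F62492 : act 3 n15824 = n15048 := d21_1 D15824 (iv D15048) (iv D14176) (iv F55878) D15047
theorem F62493 : act 5 n15824 = n15350 := d26_2 F62485 D15824 (iv D15350) (iv F60578) (iv F62484)
theorem F62494 : act 6 n15824 = n15772 := d27_2 F62032 D15824 F62306
theorem F62495 : act 8 n15824 = n15824 := d29_2 F59373 D15824 (iv D15824)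
def n15825 : Q := act 2 n15050
theorem D15825 : act 2 n15050 = n15825 := rfl
theorem F62496 : act 0 n15825 = n15112 := d1_1 D15825 (iv D15112) (iv F59386)
theorem F62497 : act 5 n15825 = n15051 := d17_2 (iv F59388) D15825 (iv D15051)
theorem F62498 : act 8 n15825 = n15825 := d20_2 F59389 D15825 (iv D15825)
def n15826 : Q := act 1 n15051
theorem D15826 : act 1 n15051 = n15826 := rfl
theorem F62499 : act 2 n15826 = n15064 := d8_2 D15051 D15826 (iv D15064) (iv D14199) (iv F55897)
theorem F62500 : act 8 n15826 = n15826 := d14_2 F59391 D15826 (iv D15826)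
def n15827 : Q := act 3 n15055
theorem D15827 : act 3 n15055 = n15827 := rfl
theorem F62501 : act 1 n15827 = n15056 := d9_1 D15827 (iv D15056) (iv F59412)
theorem F62502 : act 7 n15827 = n15827 := d24_2 D15055 D15827 (iv D15827) (iv D15055) F55941
theorem F62503 : act 8 n15827 = n15059 := d25_2 (iv F59413) D15827 (iv D15059)
def n15828 : Q := act 4 n15056
theorem D15828 : act 4 n15056 = n15828 := rfl
theorem F62504 : act 0 n15828 = n15068 := d3_1 D15828 (iv D15068) (iv F59414)
theorem F62505 : act 7 n15828 = n15828 := d28_2 F59415 D15828 (iv D15828)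
theorem F62506 : act 8 n15828 = n15061 := d29_2 (iv F59416) D15828 (iv D15061)
def n15829 : Q := act 2 n15057
theorem D15829 : act 2 n15057 = n15829 := rfl
theorem F62507 : act 0 n15829 = n15069 := d1_1 D15829 (iv D15069) (iv F59417)
theorem F62508 : act 7 n15829 = n15829 := d19_2 F59418 D15829 (iv D15829)
theorem F62509 : act 8 n15829 = n15063 := d20_2 (iv F59419) D15829 (iv D15063)
def n15830 : Q := act 3 n15058
theorem D15830 : act 3 n15058 = n15830 := rfl
theorem F62510 : act 1 n15830 = n15060 := d9_1 D15830 (iv D15060) (iv F59420)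
theorem F62511 : act 7 n15830 = n15830 := d24_2 D15058 D15830 (iv D15830) (iv D15058) F55949
def n15831 : Q := act 2 n15059
theorem D15831 : act 2 n15059 = n15831 := rfl
theorem F62512 : act 7 n15831 = n15065 := d19_2 (iv F59423) D15831 (iv D15065)
def n15832 : Q := act 4 n15059
theorem D15832 : act 4 n15059 = n15832 := rfl
theorem F62513 : act 1 n15832 = n15061 := d10_1 D15832 (iv D15061) (iv F59422)
theorem F62514 : act 7 n15832 = n15066 := d28_2 (iv F59423) D15832 (iv D15066)
def n15833 : Q := act 2 n15060
theorem D15833 : act 2 n15060 = n15833 := rfl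
theorem F62515 : act 0 n15833 = n15070 := d1_1 D15833 (iv D15070) (iv F59424)
theorem F62516 : act 3 n15833 = n15063 := d15_2 D15060 D15833 (iv D15063) (iv D14196) (iv F55953)
theorem F62517 : act 7 n15833 = n15833 := d19_2 F59425 D15833 (iv D15833)
def n15834 : Q := act 4 n15060
theorem D15834 : act 4 n15060 = n15834 := rfl
theorem F62518 : act 0 n15834 = n15071 := d3_1 D15834 (iv D15071) (iv F59424)
theorem F62519 : act 3 n15834 = n15061 := d21_1 D15834 (iv D15061) (iv D14194) (iv F55954) D15060
theorem F62520 : act 7 n15834 = n15834 := d28_2 F59425 D15834 (iv D15834)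
def n15835 : Q := act 5 n15061
theorem D15835 : act 5 n15061 = n15835 := rfl
theorem F62521 : act 0 n15835 = n15072 := d4_1 D15835 (iv D15072) (iv F59426)
theorem F62522 : act 2 n15835 = n15128 := d17_1 D15835 F60088 F60084
theorem F62523 : act 7 n15835 = n15067 := d31_2 (iv F59427) D15835 (iv D15067)
def n15836 : Q := act 1 n15063
theorem D15836 : act 1 n15063 = n15836 := rfl
theorem F62524 : act 7 n15836 = n15064 := d13_2 (iv F59432) D15836 (iv D15064)
def n15837 : Q := act 0 n15064
theorem D15837 : act 0 n15064 = n15837 := rfl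
theorem F62525 : act 1 n15837 = n15067 := d0_2 D15064 D15837 F59440 (iv D14208) (iv F55969)
theorem F62526 : act 3 n15837 = n15837 := d2_2 F59433 D15837 (iv D15837)
theorem F62527 : act 5 n15837 = n15066 := d4_2 F61394 D15837 (iv F61391)
theorem F62528 : act 8 n15837 = n15837 := d7_2 F59434 D15837 (iv D15837)
def n15838 : Q := act 4 n15065
theorem D15838 : act 4 n15065 = n15838 := rfl
theorem F62529 : act 2 n15838 = n15066 := d16_1 D15838 (iv D15066) D15065
theorem F62530 : act 8 n15838 = n15838 := d29_2 F59436 D15838 (iv D15838)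
def n15839 : Q := act 5 n15073
theorem D15839 : act 5 n15073 = n15839 := rfl
theorem F62531 : act 0 n15839 = n15787 := d4_1 D15839 F62372 F62369
theorem F62532 : act 1 n15839 = n15434 := d11_1 D15839 (iv F61531) F61528
theorem F62533 : act 2 n15839 = n15839 := d17_1 D15839 (iv D15839) F59455
theorem F62534 : act 3 n15839 = n15074 := d22_1 D15839 (iv D15074) D15073
theorem F62535 : act 4 n15433 = n15839 := d21_0 F62534 F59459 F59192 (iv F57756) (iv F61009)
theorem F62536 : act 6 n15839 = n15439 := d27_2 (iv F61010) F62535 (iv D15439)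
def n15840 : Q := act 7 n15073
theorem D15840 : act 7 n15073 = n15840 := rfl
theorem F62537 : act 2 n15840 = n15840 := d19_1 D15840 (iv D15840) F59455
theorem F62538 : act 3 n15840 = n15581 := d24_1 D15840 (iv D15581) (iv D14770) (iv F55993) D15073
theorem F62539 : act 4 n15840 = n15081 := d28_1 D15840 (iv D15081) (iv F59456)
def n15841 : Q := act 8 n15073
theorem D15841 : act 8 n15073 = n15841 := rfl
theorem F62540 : act 2 n15841 = n15841 := d20_1 D15841 (iv D15841) F59455
theorem F62541 : act 3 n15841 = n15075 := d25_1 D15841 (iv D15075) D15073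
theorem F62542 : act 4 n15841 = n15082 := d29_1 D15841 (iv D15082) (iv F59456)
def n15842 : Q := act 6 n15074
theorem D15842 : act 6 n15074 = n15842 := rfl
theorem F62543 : act 1 n15842 = n15441 := d12_1 D15842 F61041 (iv F59457)
theorem F62544 : act 2 n15842 = n15077 := d18_1 D15842 (iv D15077) (iv F59458)
theorem F62545 : act 3 n15842 = n15439 := d23_1 D15842 (iv F62536) F62534
theorem F62546 : act 4 n15842 = n15452 := d27_1 D15842 F61080 (iv F59459)
theorem F62547 : act 7 n15842 = n15583 := d33_2 (iv F59460) D15842 (iv D15583)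
def n15843 : Q := act 8 n15074
theorem D15843 : act 8 n15074 = n15843 := rfl
theorem F62548 : act 1 n15843 = n15672 := d14_1 D15843 F61862 (iv F59457)
theorem F62549 : act 2 n15843 = n15078 := d20_1 D15843 (iv D15078) (iv F59458)
theorem F62550 : act 4 n15843 = n15671 := d29_1 D15843 F61859 (iv F59459)
theorem F62551 : act 5 n15843 = n15075 := d32_1 D15843 (iv D15075) D15074
def n15844 : Q := act 7 n15075
theorem D15844 : act 7 n15075 = n15844 := rfl
theorem F62552 : act 2 n15844 = n15079 := d19_1 D15844 (iv D15079) (iv F59461)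
theorem F62553 : act 4 n15844 = n15076 := d28_1 D15844 (iv D15076) (iv F59462)
theorem F62554 : act 8 n15844 = n15585 := d35_2 D15075 D15844 (iv D15585) (iv D14772) (iv F55993)
def n15845 : Q := act 3 n15076
theorem D15845 : act 3 n15076 = n15845 := rfl
theorem F62555 : act 7 n15845 = n15085 := d24_2 D15076 D15845 (iv D15085) (iv D14217) (iv F55995)
theorem F62556 : act 8 n15845 = n15586 := d25_2 (iv F59464) D15845 (iv D15586)
def n15846 : Q := act 8 n15077
theorem D15846 : act 8 n15077 = n15846 := rfl
theorem F62557 : act 1 n15846 = n15129 := d14_1 D15846 (iv D15129) (iv F59465)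
theorem F62558 : act 3 n15846 = n15846 := d25_1 D15846 (iv D15846) F59466
theorem F62559 : act 4 n15846 = n15745 := d29_1 D15846 F62176 (iv F59467)
theorem F62560 : act 6 n15846 = n15078 := d34_1 D15846 (iv D15078) D15077
def n15847 : Q := act 7 n15078
theorem D15847 : act 7 n15078 = n15847 := rfl
theorem F62561 : act 1 n15847 = n15130 := d13_1 D15847 (iv D15130) (iv F59469)
theorem F62562 : act 4 n15847 = n15748 := d28_1 D15847 F62189 (iv F59471)
theorem F62563 : act 5 n15847 = n15079 := d31_1 D15847 (iv D15079) (iv F59472)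
theorem F62564 : act 8 n15847 = n15588 := d35_2 D15078 D15847 (iv D15588) (iv D14775) (iv F55999)
def n15848 : Q := act 3 n15079
theorem D15848 : act 3 n15079 = n15848 := rfl
theorem F62565 : act 1 n15848 = n15131 := d9_1 D15848 (iv D15131) (iv F59473)
theorem F62566 : act 7 n15848 = n15848 := d24_2 D15079 D15848 (iv D15848) (iv D15079) F56001
theorem F62567 : act 8 n15848 = n15589 := d25_2 (iv F59475) D15848 (iv D15589)
def n15849 : Q := act 4 n15080
theorem D15849 : act 4 n15080 = n15849 := rfl
theorem F62568 : act 0 n15849 = n15292 := d3_1 D15849 (iv F60404) F60401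
theorem F62569 : act 1 n15849 = n15431 := d10_1 D15849 (iv F61595) F61592
theorem F62570 : act 2 n15849 = n15849 := d16_1 D15849 (iv D15849) F59476
theorem F62571 : act 3 n15849 = n15171 := d21_1 D15849 (iv D15171) (iv F56991) (iv F56995) (iv F59477)
theorem F62572 : act 5 n15849 = n15433 := d26_2 D15080 D15849 F62535 (iv D15839) F59456
theorem F62573 : act 6 n15849 = n15462 := d27_2 F60457 D15849 F61116
def n15850 : Q := act 7 n15080
theorem D15850 : act 7 n15080 = n15850 := rfl
theorem F62574 : act 2 n15850 = n15850 := d19_1 D15850 (iv D15850) F59476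
theorem F62575 : act 3 n15850 = n15090 := d24_1 D15850 (iv D15090) F56019 (iv F56007) (iv F59477)
theorem F62576 : act 5 n15850 = n15081 := d31_1 D15850 (iv D15081) D15080
def n15851 : Q := act 8 n15080
theorem D15851 : act 8 n15080 = n15851 := rfl
theorem F62577 : act 2 n15851 = n15851 := d20_1 D15851 (iv D15851) F59476
theorem F62578 : act 3 n15851 = n15083 := d25_1 D15851 (iv D15083) (iv F59477)
theorem F62579 : act 5 n15851 = n15082 := d32_1 D15851 (iv D15082) D15080
def n15852 : Q := act 8 n15081
theorem D15852 : act 8 n15081 = n15852 := rfl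
theorem F62580 : act 2 n15852 = n15852 := d20_1 D15852 (iv D15852) F59478
theorem F62581 : act 3 n15852 = n15092 := d25_1 D15852 (iv D15092) (iv F59479)
def n15853 : Q := act 7 n15082
theorem D15853 : act 7 n15082 = n15853 := rfl
theorem F62582 : act 2 n15853 = n15853 := d19_1 D15853 (iv D15853) F59480
def n15854 : Q := act 7 n15083
theorem D15854 : act 7 n15083 = n15854 := rfl
theorem F62583 : act 2 n15854 = n15086 := d19_1 D15854 (iv D15086) (iv F59482)
theorem F62584 : act 5 n15854 = n15084 := d31_1 D15854 (iv D15084) (iv F59483)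
theorem F62585 : act 8 n15854 = n15095 := d35_2 D15083 D15854 (iv D15095) (iv D14224) (iv F56007)
def n15855 : Q := act 3 n15084
theorem D15855 : act 3 n15084 = n15855 := rfl
theorem F62586 : act 8 n15855 = n15096 := d25_2 (iv F59486) D15855 (iv D15096)
def n15856 : Q := act 4 n15085
theorem D15856 : act 4 n15085 = n15856 := rfl
theorem F62587 : act 8 n15856 = n15097 := d29_2 (iv F59487) D15856 (iv D15097)
def n15857 : Q := act 3 n15086
theorem D15857 : act 3 n15086 = n15857 := rfl
theorem F62588 : act 1 n15857 = n15121 := d9_1 D15857 (iv D15121) (iv F59488)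
theorem F62589 : act 5 n15857 = n15087 := d22_2 (iv F59489) D15857 (iv D15087)
theorem F62590 : act 7 n15857 = n15857 := d24_2 D15086 D15857 (iv D15857) (iv D15086) F56013
theorem F62591 : act 8 n15857 = n15099 := d25_2 (iv F59490) D15857 (iv D15099)
def n15858 : Q := act 2 n15087
theorem D15858 : act 2 n15087 = n15858 := rfl
theorem F62592 : act 7 n15858 = n15858 := d19_2 F59492 D15858 (iv D15858)
theorem F62593 : act 8 n15858 = n15100 := d20_2 (iv F59493) D15858 (iv D15100)
def n15859 : Q := act 8 n15088
theorem D15859 : act 8 n15088 = n15859 := rfl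
theorem F62594 : act 2 n15859 = n15101 := d20_1 D15859 (iv D15101) (iv F59494)
theorem F62595 : act 4 n15859 = n15091 := d29_1 D15859 (iv D15091) D15088
theorem F62596 : act 5 n15859 = n15640 := d32_1 D15859 (iv D15640) (iv F59495)
def n15860 : Q := act 8 n15089
theorem D15860 : act 8 n15089 = n15860 := rfl
theorem F62597 : act 2 n15860 = n15102 := d20_1 D15860 (iv D15102) (iv F59496)
theorem F62598 : act 3 n15860 = n15094 := d25_1 D15860 (iv D15094) (iv F59497)
theorem F62599 : act 6 n15860 = n15091 := d34_1 D15860 (iv D15091) D15089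
def n15861 : Q := act 8 n15090
theorem D15861 : act 8 n15090 = n15861 := rfl
theorem F62600 : act 2 n15861 = n15103 := d20_1 D15861 (iv D15103) (iv F59498)
theorem F62601 : act 5 n15861 = n15092 := d32_1 D15861 (iv D15092) (iv F59499)
def n15862 : Q := act 7 n15091
theorem D15862 : act 7 n15091 = n15862 := rfl
theorem F62602 : act 2 n15862 = n15104 := d19_1 D15862 (iv D15104) (iv F59500)
theorem F62603 : act 5 n15862 = n15093 := d31_1 D15862 (iv D15093) (iv F59502)
def n15863 : Q := act 7 n15092
theorem D15863 : act 7 n15092 = n15863 := rfl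
theorem F62604 : act 2 n15863 = n15105 := d19_1 D15863 (iv D15105) (iv F59503)
theorem F62605 : act 4 n15863 = n15644 := d28_1 D15863 (iv D15644) (iv F59504)
theorem F62606 : act 8 n15863 = n15093 := d35_2 D15092 D15863 (iv D15093) (iv D14222) D14221
def n15864 : Q := act 3 n15093
theorem D15864 : act 3 n15093 = n15864 := rfl
theorem F62607 : act 7 n15864 = n15096 := d24_2 D15093 D15864 (iv D15096) (iv D14225) (iv F56023)
def n15865 : Q := act 7 n15094
theorem D15865 : act 7 n15094 = n15865 := rfl
theorem F62608 : act 2 n15865 = n15098 := d19_1 D15865 (iv D15098) (iv F59507)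
theorem F62609 : act 6 n15865 = n15095 := d33_1 D15865 (iv D15095) (iv F59508)
def n15866 : Q := act 3 n15095
theorem D15866 : act 3 n15095 = n15866 := rfl
theorem F62610 : act 5 n15866 = n15096 := d22_2 (iv F59510) D15866 (iv D15096)
def n15867 : Q := act 2 n15096
theorem D15867 : act 2 n15096 = n15867 := rfl
theorem F62611 : act 3 n15867 = n15100 := d15_2 D15096 D15867 (iv D15100) (iv D14229) (iv F56028)
def n15868 : Q := act 4 n15096
theorem D15868 : act 4 n15096 = n15868 := rfl
theorem F62612 : act 3 n15868 = n15097 := d21_1 D15868 (iv D15097) (iv D14226) (iv F56029) D15096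
def n15869 : Q := act 5 n15097
theorem D15869 : act 5 n15097 = n15869 := rfl
theorem F62613 : act 7 n15869 = n15650 := d31_2 (iv F59511) D15869 (iv D15650)
def n15870 : Q := act 3 n15098
theorem D15870 : act 3 n15098 = n15870 := rfl
theorem F62614 : act 1 n15870 = n15122 := d9_1 D15870 (iv D15122) (iv F59512)
theorem F62615 : act 6 n15870 = n15099 := d23_2 (iv F59513) D15870 (iv D15099)
theorem F62616 : act 7 n15870 = n15111 := d24_2 D15098 D15870 (iv D15111) (iv D14240) (iv F56032)
def n15871 : Q := act 2 n15099
theorem D15871 : act 2 n15099 = n15871 := rfl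
theorem F62617 : act 5 n15871 = n15100 := d17_2 (iv F59515) D15871 (iv D15100)
theorem F62618 : act 7 n15871 = n15112 := d19_2 (iv F59516) D15871 (iv D15112)
def n15872 : Q := act 4 n15099
theorem D15872 : act 4 n15099 = n15872 := rfl
theorem F62619 : act 1 n15872 = n15124 := d10_1 D15872 (iv D15124) (iv F59514)
theorem F62620 : act 7 n15872 = n15113 := d28_2 (iv F59516) D15872 (iv D15113)
def n15873 : Q := act 1 n15100
theorem D15873 : act 1 n15100 = n15873 := rfl
theorem F62621 : act 2 n15873 = n15125 := d8_2 D15100 D15873 (iv D15125) (iv D14256) (iv F56036)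
theorem F62622 : act 7 n15873 = n15114 := d13_2 (iv F59517) D15873 (iv D15114)
def n15874 : Q := act 7 n15101
theorem D15874 : act 7 n15101 = n15874 := rfl
theorem F62623 : act 1 n15874 = n15132 := d13_1 D15874 (iv D15132) (iv F59518)
theorem F62624 : act 4 n15874 = n15104 := d28_1 D15874 (iv D15104) (iv F59520)
theorem F62625 : act 5 n15874 = n15662 := d31_1 D15874 (iv D15662) (iv F59521)
def n15875 : Q := act 7 n15102
theorem D15875 : act 7 n15102 = n15875 := rfl
theorem F62626 : act 1 n15875 = n15133 := d13_1 D15875 (iv D15133) (iv F59522)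
theorem F62627 : act 6 n15875 = n15104 := d33_1 D15875 (iv D15104) (iv F59524)
def n15876 : Q := act 7 n15103
theorem D15876 : act 7 n15103 = n15876 := rfl
theorem F62628 : act 1 n15876 = n15134 := d13_1 D15876 (iv D15134) (iv F59525)
theorem F62629 : act 5 n15876 = n15105 := d31_1 D15876 (iv D15105) (iv F59527)
theorem F62630 : act 8 n15876 = n15104 := d35_2 D15103 D15876 (iv D15104) (iv D14233) D14232
def n15877 : Q := act 3 n15104
theorem D15877 : act 3 n15104 = n15877 := rfl
theorem F62631 : act 1 n15877 = n15135 := d9_1 D15877 (iv D15135) (iv F59528)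
theorem F62632 : act 5 n15877 = n15106 := d22_2 (iv F59529) D15877 (iv D15106)
theorem F62633 : act 7 n15877 = n15108 := d24_2 D15104 D15877 (iv D15108) (iv D14237) (iv F56047)
def n15878 : Q := act 3 n15105
theorem D15878 : act 3 n15105 = n15878 := rfl
theorem F62634 : act 1 n15878 = n15136 := d9_1 D15878 (iv D15136) (iv F59530)
theorem F62635 : act 7 n15878 = n15878 := d24_2 D15105 D15878 (iv D15878) (iv D15105) F56050
theorem F62636 : act 8 n15878 = n15106 := d25_2 (iv F59532) D15878 (iv D15106)
def n15879 : Q := act 2 n15106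
theorem D15879 : act 2 n15106 = n15879 := rfl
theorem F62637 : act 7 n15879 = n15109 := d19_2 (iv F59534) D15879 (iv D15109)
def n15880 : Q := act 4 n15106
theorem D15880 : act 4 n15106 = n15880 := rfl
theorem F62638 : act 1 n15880 = n15138 := d10_1 D15880 (iv D15138) (iv F59533)
theorem F62639 : act 3 n15880 = n15668 := d21_1 D15880 (iv D15668) (iv D14844) (iv F56053) D15106
theorem F62640 : act 7 n15880 = n15110 := d28_2 (iv F59534) D15880 (iv D15110)
def n15881 : Q := act 3 n15107
theorem D15881 : act 3 n15107 = n15881 := rfl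
theorem F62641 : act 1 n15881 = n15139 := d9_1 D15881 (iv D15139) (iv F59535)
theorem F62642 : act 6 n15881 = n15108 := d23_2 (iv F59538) D15881 (iv D15108)
theorem F62643 : act 8 n15881 = n15881 := d25_2 F59539 D15881 (iv D15881)
def n15882 : Q := act 2 n15108
theorem D15882 : act 2 n15108 = n15882 := rfl
theorem F62644 : act 3 n15882 = n15112 := d15_2 D15108 D15882 (iv D15112) (iv D14241) (iv F56059)
theorem F62645 : act 5 n15882 = n15109 := d17_2 (iv F59541) D15882 (iv D15109)
theorem F62646 : act 8 n15882 = n15882 := d20_2 F59542 D15882 (iv D15882)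
def n15883 : Q := act 4 n15108
theorem D15883 : act 4 n15108 = n15883 := rfl
theorem F62647 : act 0 n15883 = n15348 := d3_1 D15883 (iv F62484) F62482
theorem F62648 : act 1 n15883 = n15141 := d10_1 D15883 (iv D15141) (iv F59540)
theorem F62649 : act 3 n15883 = n15118 := d21_1 D15883 (iv D15118) (iv D14248) (iv F56060) D15108
theorem F62650 : act 5 n15883 = n15204 := d26_2 (iv F59541) D15883 (iv F62271) F62272 (iv D15110)
theorem F62651 : act 8 n15883 = n15883 := d29_2 F59542 D15883 (iv D15883)
def n15884 : Q := act 1 n15109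
theorem D15884 : act 1 n15109 = n15884 := rfl
theorem F62652 : act 2 n15884 = n15142 := d8_2 D15109 D15884 (iv D15142) (iv D14279) (iv F56063)
theorem F62653 : act 3 n15884 = n15114 := d9_2 (iv F59543) D15884 (iv D15114)
theorem F62654 : act 8 n15884 = n15884 := d14_2 F59544 D15884 (iv D15884)
def n15885 : Q := act 4 n15109
theorem D15885 : act 4 n15109 = n15885 := rfl
theorem F62655 : act 2 n15885 = n15110 := d16_1 D15885 (iv D15110) D15109
theorem F62656 : act 8 n15885 = n15885 := d29_2 F59544 D15885 (iv D15885)
def n15886 : Q := act 2 n15111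
theorem D15886 : act 2 n15111 = n15886 := rfl
theorem F62657 : act 6 n15886 = n15112 := d18_2 (iv F59549) D15886 (iv D15112)
theorem F62658 : act 8 n15886 = n15886 := d20_2 F59550 D15886 (iv D15886)
def n15887 : Q := act 1 n15112
theorem D15887 : act 1 n15112 = n15887 := rfl
theorem F62659 : act 2 n15887 = n15126 := d8_2 D15112 D15887 (iv D15126) (iv D14258) (iv F56072)
theorem F62660 : act 5 n15887 = n15114 := d11_2 (iv F59551) D15887 (iv D15114)
theorem F62661 : act 8 n15887 = n15887 := d14_2 F59552 D15887 (iv D15887)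
def n15888 : Q := act 4 n15112
theorem D15888 : act 4 n15112 = n15888 := rfl
theorem F62662 : act 2 n15888 = n15113 := d16_1 D15888 (iv D15113) D15112
theorem F62663 : act 8 n15888 = n15888 := d29_2 F59552 D15888 (iv D15888)
def n15889 : Q := act 0 n15114
theorem D15889 : act 0 n15114 = n15889 := rfl
theorem F62664 : act 2 n15889 = n15127 := d1_2 (iv F59556) D15889 (iv D15127)
theorem F62665 : act 8 n15889 = n15889 := d7_2 F59557 D15889 (iv D15889)
def n15890 : Q := act 3 n15115
theorem D15890 : act 3 n15115 = n15890 := rfl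
theorem F62666 : act 0 n15890 = n15341 := d2_1 D15890 F60556 (iv F59558)
theorem F62667 : act 1 n15890 = n15146 := d9_1 D15890 (iv D15146) (iv F59559)
theorem F62668 : act 4 n15890 = n15200 := d21_2 (iv F59561) D15890 F59927 F56463 F56094
theorem F62669 : act 5 n15890 = n15673 := d22_2 (iv F59562) D15890 (iv D15673)
theorem F62670 : act 8 n15890 = n15197 := d25_2 (iv F59563) D15890 F59917
def n15891 : Q := act 3 n15120
theorem D15891 : act 3 n15120 = n15891 := rfl
theorem F62671 : act 0 n15891 = n15237 := d2_1 D15891 (iv D15237) (iv F59592)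
theorem F62672 : act 1 n15891 = n15235 := d9_1 D15891 F60109 (iv F59593)
theorem F62673 : act 4 n15891 = n15205 := d21_2 D15120 D15891 (iv D15205) F56477 (iv F56111)
theorem F62674 : act 5 n15891 = n15426 := d22_2 (iv F59595) D15891 (iv D15426)
theorem F62675 : act 6 n15891 = n15238 := d23_2 (iv F59596) D15891 (iv D15238)
theorem F62676 : act 8 n15891 = n15891 := d25_2 F59598 D15891 (iv D15891)
def n15892 : Q := act 1 n15123
theorem D15892 : act 1 n15123 = n15892 := rfl
theorem F62677 : act 5 n15892 = n15125 := d11_2 (iv F59607) D15892 (iv D15125)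
theorem F62678 : act 7 n15892 = n15126 := d13_2 (iv F59608) D15892 (iv D15126)
def n15893 : Q := act 0 n15125
theorem D15893 : act 0 n15125 = n15893 := rfl
theorem F62679 : act 1 n15893 = n15128 := d0_2 D15125 D15893 (iv D15128) (iv D14266) (iv F56129)
theorem F62680 : act 7 n15893 = n15127 := d6_2 (iv F59611) D15893 (iv D15127)
def n15894 : Q := act 7 n15129
theorem D15894 : act 7 n15129 = n15894 := rfl
theorem F62681 : act 0 n15894 = n15894 := d6_1 D15894 (iv D15894) F59619
theorem F62682 : act 2 n15894 = n15741 := d19_1 D15894 F62156 (iv F59620)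
theorem F62683 : act 4 n15894 = n15740 := d28_1 D15894 F62152 (iv F59622)
theorem F62684 : act 6 n15894 = n15130 := d33_1 D15894 (iv D15130) (iv F59623)
theorem F62685 : act 8 n15894 = n15701 := d35_2 D15129 D15894 (iv D15701) (iv D14892) (iv F56166)
def n15895 : Q := act 3 n15130
theorem D15895 : act 3 n15130 = n15895 := rfl
theorem F62686 : act 0 n15895 = n15895 := d2_1 D15895 (iv D15895) F59624
theorem F62687 : act 5 n15895 = n15131 := d22_2 (iv F59627) D15895 (iv D15131)
theorem F62688 : act 7 n15895 = n15895 := d24_2 D15130 D15895 (iv D15895) (iv D15130) F56169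
theorem F62689 : act 8 n15895 = n15702 := d25_2 (iv F59628) D15895 (iv D15702)
def n15896 : Q := act 2 n15131
theorem D15896 : act 2 n15131 = n15896 := rfl
theorem F62690 : act 0 n15896 = n15896 := d1_1 D15896 (iv D15896) F59629
theorem F62691 : act 7 n15896 = n15896 := d19_2 F59630 D15896 (iv D15896)
theorem F62692 : act 8 n15896 = n15703 := d20_2 (iv F59631) D15896 (iv D15703)
def n15897 : Q := act 3 n15132
theorem D15897 : act 3 n15132 = n15897 := rfl
theorem F62693 : act 0 n15897 = n15897 := d2_1 D15897 (iv D15897) F59632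
theorem F62694 : act 5 n15897 = n15746 := d22_2 (iv F59634) D15897 (iv D15746)
theorem F62695 : act 7 n15897 = n15146 := d24_2 D15132 D15897 (iv D15146) (iv D14285) (iv F56176)
def n15898 : Q := act 3 n15133
theorem D15898 : act 3 n15133 = n15898 := rfl
theorem F62696 : act 0 n15898 = n15898 := d2_1 D15898 (iv D15898) F59635
theorem F62697 : act 6 n15898 = n15135 := d23_2 (iv F59636) D15898 (iv D15135)
theorem F62698 : act 7 n15898 = n15139 := d24_2 D15133 D15898 (iv D15139) (iv D14277) (iv F56180)
def n15899 : Q := act 3 n15134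
theorem D15899 : act 3 n15134 = n15899 := rfl
theorem F62699 : act 0 n15899 = n15899 := d2_1 D15899 (iv D15899) F59637
theorem F62700 : act 5 n15899 = n15136 := d22_2 (iv F59638) D15899 (iv D15136)
theorem F62701 : act 7 n15899 = n15899 := d24_2 D15134 D15899 (iv D15899) (iv D15134) F56183
theorem F62702 : act 8 n15899 = n15135 := d25_2 (iv F59639) D15899 (iv D15135)
def n15900 : Q := act 2 n15135
theorem D15900 : act 2 n15135 = n15900 := rfl
theorem F62703 : act 0 n15900 = n15900 := d1_1 D15900 (iv D15900) F59640
theorem F62704 : act 5 n15900 = n15137 := d17_2 (iv F59641) D15900 (iv D15137)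
theorem F62705 : act 7 n15900 = n15140 := d19_2 (iv F59642) D15900 (iv D15140)
theorem F62706 : act 4 n15898 = n15900 := d28_3 F62705 (iv F59658) (iv F62698)
def n15901 : Q := act 4 n15135
theorem D15901 : act 4 n15135 = n15901 := rfl
theorem F62707 : act 0 n15901 = n15901 := d3_1 D15901 (iv D15901) F59640
theorem F62708 : act 2 n15901 = n15898 := d16_1 D15901 F62706 (iv D15900)
theorem F62709 : act 6 n15901 = n15900 := d27_2 F62697 D15901 (iv F62706)
theorem F62710 : act 7 n15901 = n15141 := d28_2 (iv F59642) D15901 (iv D15141)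
def n15902 : Q := act 2 n15136
theorem D15902 : act 2 n15136 = n15902 := rfl
theorem F62711 : act 0 n15902 = n15902 := d1_1 D15902 (iv D15902) F59643
theorem F62712 : act 7 n15902 = n15902 := d19_2 F59644 D15902 (iv D15902)
theorem F62713 : act 8 n15902 = n15137 := d20_2 (iv F59645) D15902 (iv D15137)
def n15903 : Q := act 4 n15136
theorem D15903 : act 4 n15136 = n15903 := rfl
theorem F62714 : act 0 n15903 = n15903 := d3_1 D15903 (iv D15903) F59643
theorem F62715 : act 3 n15903 = n15699 := d21_1 D15903 F61976 (iv D14939) (iv F56188) D15136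
theorem F62716 : act 7 n15903 = n15903 := d28_2 F59644 D15903 (iv D15903)
theorem F62717 : act 8 n15903 = n15138 := d29_2 (iv F59645) D15903 (iv D15138)
theorem F62718 : act 5 n15700 = n15903 := d32_3 F62717 (iv F61935) (iv F61982)
def n15904 : Q := act 1 n15137
theorem D15904 : act 1 n15137 = n15904 := rfl
theorem F62719 : act 7 n15904 = n15142 := d13_2 (iv F59647) D15904 (iv D15142)
def n15905 : Q := act 4 n15137
theorem D15905 : act 4 n15137 = n15905 := rfl
theorem F62720 : act 0 n15905 = n15905 := d3_1 D15905 (iv D15905) F59646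
theorem F62721 : act 2 n15905 = n15138 := d16_1 D15905 (iv D15138) D15137
theorem F62722 : act 7 n15905 = n15143 := d28_2 (iv F59647) D15905 (iv D15143)
def n15906 : Q := act 1 n15140
theorem D15906 : act 1 n15140 = n15906 := rfl
theorem F62723 : act 3 n15906 = n15144 := d9_2 (iv F59655) D15906 (iv D15144)
theorem F62724 : act 4 n15906 = n15881 := d10_2 F59658 D15906 F62641
theorem F62725 : act 5 n15906 = n15142 := d11_2 (iv F59656) D15906 (iv D15142)
theorem F62726 : act 6 n15906 = n15883 := d12_2 F59662 D15906 F62648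
theorem F62727 : act 8 n15906 = n15906 := d14_2 F59657 D15906 (iv D15906)
def n15907 : Q := act 0 n15142
theorem D15907 : act 0 n15142 = n15907 := rfl
theorem F62728 : act 1 n15907 = n15907 := d0_2 D15142 D15907 (iv D15907) (iv D15142) F56200
theorem F62729 : act 3 n15907 = n15145 := d2_2 (iv F59664) D15907 (iv D15145)
theorem F62730 : act 8 n15907 = n15907 := d7_2 F59665 D15907 (iv D15907)
def n15908 : Q := act 4 n15142
theorem D15908 : act 4 n15142 = n15908 := rfl
theorem F62731 : act 1 n15908 = n15143 := d10_1 D15908 (iv D15143) D15142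
theorem F62732 : act 3 n15908 = n15908 := d21_1 D15908 (iv D15908) F59664 F56219 (iv F59664)
theorem F62733 : act 8 n15908 = n15908 := d29_2 F59665 D15908 (iv D15908)
def n15909 : Q := act 0 n15148
theorem D15909 : act 0 n15148 = n15909 := rfl
theorem F62734 : act 1 n15909 = n15260 := d0_2 D15148 D15909 (iv D15260) (iv D14420) (iv F56310)
theorem F62735 : act 2 n15909 = n15909 := d1_2 F59689 D15909 (iv D15909)
theorem F62736 : act 3 n15909 = n15161 := d2_2 (iv F59690) D15909 (iv D15161)
theorem F62737 : act 5 n15909 = n15438 := d4_2 (iv F59691) D15909 (iv D15438)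
theorem F62738 : act 6 n15909 = n15546 := d5_2 F61448 D15909 (iv F61442)
theorem F62739 : act 7 n15909 = n15849 := d6_2 F60380 D15909 F62568
theorem F62740 : act 4 n15850 = n15909 := d28_3 F62739 (iv D15849) D15850
def n15910 : Q := act 4 n15148
theorem D15910 : act 4 n15148 = n15910 := rfl
theorem F62741 : act 0 n15910 = n15850 := d3_1 D15910 F62740 (iv D15909)
theorem F62742 : act 1 n15910 = n15149 := d10_1 D15910 (iv D15149) D15148
theorem F62743 : act 2 n15910 = n15910 := d16_1 D15910 (iv D15910) F59689
theorem F62744 : act 6 n15910 = n15314 := d27_2 F61448 D15910 (iv F61446)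
theorem F62745 : act 7 n15910 = n15297 := d28_2 F60380 D15910 F60404
theorem F62746 : act 3 n15910 = n15806 := d37_3 F59273 (iv F59691) D15910 F62429 F59346 F59345 (iv D14232) (iv D13271) F48184 (iv D11878) F40664 F32747 F24222 F17990 D4979 F19343 F14355 F14354 F10902 (iv F14558) (iv F18399) (iv D4720) (iv D3449) (iv D2525) F7596 (iv F6956) F6955 (iv D1241) D1240 F38377 F5723 F4293 F3478 F2626 (iv F3403) F3402 F3401 (iv F3455) F3454 (iv F4560) (iv F6069) F6073 F6072 (iv F6680) F6679 (iv F8900) (iv F11883) F11882 F11886 D4058 (iv F19525) (iv F26333) (iv F35644) (iv F44988) F41722 D10898 (iv F47364) (iv F50099) D13699 D14612 D15433 F61007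
theorem F62747 : act 5 n15796 = n15910 := d36_3 (iv D15033) D15032 (iv F62399) (iv D15910) F59690 (iv D14309) (iv D13383) (iv D12391) D12392 F48697 (iv F51968) (iv F53918) F53917 F50530 F46477 F40514 (iv F39500) (iv D10102) (iv D8279) F23340 (iv D4456) F12978 F9697 (iv F7483) F7484 (iv F8032) F8034 F6073 F6071 F4552 F3793 (iv F5025) F5024 (iv F6675) (iv F8638) (iv F11447) F37850 (iv F17449) (iv F23520) (iv F31810) (iv F39703) (iv F45627) (iv F49638) F51935 F51934 (iv F49731) (iv F51889) F51891 F51890 F47882 (iv F47650) F47651 (iv F47400) F47402 (iv F47619) (iv F50726) (iv D12887) (iv D11862) (iv D10408) F32727 F24200 D6393 D8775 (iv F39718) (iv F45716) F45717 F40914 (iv F45044) (iv F45800) F45801 (iv F48476) (iv D12352) F44073 (iv D11361) F38982 F31214 D9967 F38984 F31229 (iv D6007) D6008 F23210 (iv F29617) (iv F38728) (iv F43749) (iv F48091) (iv F51980) (iv F55843) (iv F59322)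
def n15911 : Q := act 8 n15148
theorem D15911 : act 8 n15148 = n15911 := rfl
theorem F62748 : act 1 n15911 = n15150 := d14_1 D15911 (iv D15150) D15148
theorem F62749 : act 2 n15911 = n15911 := d20_1 D15911 (iv D15911) F59689
theorem F62750 : act 3 n15911 = n15163 := d25_1 D15911 (iv D15163) (iv F59690)
theorem F62751 : act 5 n15911 = n15440 := d32_1 D15911 (iv D15440) (iv F59691)
def n15912 : Q := act 3 n15149
theorem D15912 : act 3 n15149 = n15912 := rfl
theorem F62752 : act 0 n15912 = n15263 := d2_1 D15912 (iv D15263) (iv F59692)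
theorem F62753 : act 1 n15912 = n15806 := d9_1 D15912 (iv F62746) F62742
theorem F62754 : act 2 n15912 = n15912 := d15_1 D15912 (iv D15912) F59693 F56315 (iv F59693)
theorem F62755 : act 4 n15912 = n15164 := d21_2 D15149 D15912 (iv D15164) (iv D14310) (iv F56311)
theorem F62756 : act 6 n15912 = n15283 := d23_2 (iv F59694) D15912 F60344
theorem F62757 : act 7 n15912 = n15273 := d24_2 (iv F59695) D15912 (iv D15273) F56925 D14451
theorem F62758 : act 5 n15801 = n15912 := d31_3 F62757 F60302 D15801
def n15913 : Q := act 5 n15149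
theorem D15913 : act 5 n15149 = n15913 := rfl
theorem F62759 : act 0 n15913 = n15264 := d4_1 D15913 (iv D15264) (iv F59692)
theorem F62760 : act 1 n15913 = n15796 := d11_1 D15913 F62747 F62742
theorem F62761 : act 2 n15913 = n15151 := d17_1 D15913 (iv D15151) (iv F59693)
theorem F62762 : act 3 n15913 = n15801 := d22_1 D15913 F62758 (iv D15912)
theorem F62763 : act 4 n15913 = n15442 := d26_1 D15913 (iv D15442) (iv D14616) (iv F56312) D15149
theorem F62764 : act 7 n15913 = n15300 := d31_2 (iv F59695) D15913 (iv D15300)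
def n15914 : Q := act 8 n15149
theorem D15914 : act 8 n15149 = n15914 := rfl
theorem F62765 : act 0 n15914 = n15265 := d7_1 D15914 (iv D15265) (iv F59692)
theorem F62766 : act 2 n15914 = n15152 := d20_1 D15914 (iv D15152) (iv F59693)
theorem F62767 : act 4 n15914 = n15150 := d29_1 D15914 (iv D15150) D15149
theorem F62768 : act 6 n15914 = n15324 := d34_1 D15914 (iv D15324) (iv F59694)
def n15915 : Q := act 7 n15150
theorem D15915 : act 7 n15150 = n15915 := rfl
theorem F62769 : act 0 n15915 = n15266 := d6_1 D15915 (iv D15266) (iv F59696)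
theorem F62770 : act 2 n15915 = n15153 := d19_1 D15915 (iv D15153) (iv F59697)
theorem F62771 : act 5 n15915 = n15444 := d31_1 D15915 (iv D15444) (iv F59699)
def n15916 : Q := act 8 n15151
theorem D15916 : act 8 n15151 = n15916 := rfl
theorem F62772 : act 0 n15916 = n15268 := d7_1 D15916 (iv D15268) (iv F59700)
theorem F62773 : act 1 n15916 = n15916 := d14_1 D15916 (iv D15916) F59701
theorem F62774 : act 3 n15916 = n15916 := d25_1 D15916 (iv D15916) F59702
theorem F62775 : act 4 n15916 = n15445 := d29_1 D15916 (iv D15445) (iv F59703)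
theorem F62776 : act 5 n15916 = n15152 := d32_1 D15916 (iv D15152) D15151
def n15917 : Q := act 7 n15152
theorem D15917 : act 7 n15152 = n15917 := rfl
theorem F62777 : act 0 n15917 = n15269 := d6_1 D15917 (iv D15269) (iv F59705)
theorem F62778 : act 1 n15917 = n15917 := d13_1 D15917 (iv D15917) F59706
theorem F62779 : act 4 n15917 = n15153 := d28_1 D15917 (iv D15153) (iv F59708)
theorem F62780 : act 6 n15917 = n15345 := d33_1 D15917 (iv D15345) (iv F59709)
theorem F62781 : act 8 n15917 = n15335 := d35_2 D15152 D15917 (iv D15335) (iv D14475) (iv F56317)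
def n15918 : Q := act 8 n15154
theorem D15918 : act 8 n15154 = n15918 := rfl
theorem F62782 : act 0 n15918 = n15270 := d7_1 D15918 (iv D15270) (iv F59714)
theorem F62783 : act 1 n15918 = n15463 := d14_1 D15918 (iv D15463) (iv F59715)
theorem F62784 : act 2 n15918 = n15155 := d20_1 D15918 (iv D15155) D15154
theorem F62785 : act 4 n15918 = n15416 := d29_1 D15918 (iv D15416) (iv F59716)
theorem F62786 : act 5 n15918 = n15158 := d32_1 D15918 (iv D15158) (iv F59717)
theorem F62787 : act 6 n15918 = n15447 := d34_1 D15918 (iv D15447) (iv F59718)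
def n15919 : Q := act 7 n15155
theorem D15919 : act 7 n15155 = n15919 := rfl
theorem F62788 : act 0 n15919 = n15271 := d6_1 D15919 (iv D15271) (iv F59720)
theorem F62789 : act 1 n15919 = n15207 := d13_1 D15919 (iv D15207) (iv F59721)
theorem F62790 : act 3 n15919 = n15355 := d24_1 D15919 (iv D15355) F57192 (iv F56333) (iv F59722)
theorem F62791 : act 4 n15919 = n15424 := d28_1 D15919 (iv D15424) (iv F59723)
theorem F62792 : act 5 n15919 = n15160 := d31_1 D15919 (iv D15160) (iv F59724)
theorem F62793 : act 6 n15919 = n15448 := d33_1 D15919 (iv D15448) (iv F59725)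
theorem F62794 : act 8 n15919 = n15174 := d35_2 D15155 D15919 (iv D15174) (iv D14317) (iv F56327)
def n15920 : Q := act 8 n15156
theorem D15920 : act 8 n15156 = n15920 := rfl
theorem F62795 : act 0 n15920 = n15549 := d7_1 D15920 (iv D15549) (iv F59726)
theorem F62796 : act 1 n15920 = n15158 := d14_1 D15920 (iv D15158) D15156
theorem F62797 : act 2 n15920 = n15208 := d20_1 D15920 (iv D15208) (iv F59727)
theorem F62798 : act 4 n15920 = n15472 := d29_1 D15920 (iv D15472) F59731
theorem F62799 : act 5 n15920 = n15463 := d32_1 D15920 (iv D15463) (iv F59728)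
theorem F62800 : act 6 n15920 = n15163 := d34_1 D15920 (iv D15163) (iv F59729)
def n15921 : Q := act 3 n15157
theorem D15921 : act 3 n15157 = n15921 := rfl
theorem F62801 : act 0 n15921 = n15273 := d2_1 D15921 (iv D15273) (iv F59732)
theorem F62802 : act 1 n15921 = n15469 := d9_1 D15921 F61141 (iv F59733)
theorem F62803 : act 2 n15921 = n15921 := d15_1 D15921 (iv D15921) F59734 F56339 (iv F59734)
theorem F62804 : act 4 n15921 = n15283 := d21_2 D15157 D15921 F60344 (iv F58191) F58190
theorem F62805 : act 5 n15921 = n15466 := d22_2 (iv F59735) D15921 (iv D15466)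
theorem F62806 : act 6 n15921 = n15164 := d23_2 (iv F59736) D15921 (iv D15164)
theorem F62807 : act 7 n15921 = n15263 := d24_2 (iv F59737) D15921 (iv D15263) (iv F58153) F58151
def n15922 : Q := act 8 n15157
theorem D15922 : act 8 n15157 = n15922 := rfl
theorem F62808 : act 0 n15922 = n15274 := d7_1 D15922 (iv D15274) (iv F59732)
theorem F62809 : act 1 n15922 = n15472 := d14_1 D15922 (iv D15472) (iv F59733)
theorem F62810 : act 2 n15922 = n15159 := d20_1 D15922 (iv D15159) (iv F59734)
theorem F62811 : act 4 n15922 = n15158 := d29_1 D15922 (iv D15158) D15157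
theorem F62812 : act 5 n15922 = n15467 := d32_1 D15922 (iv D15467) (iv F59735)
theorem F62813 : act 6 n15922 = n15166 := d34_1 D15922 (iv D15166) (iv F59736)
def n15923 : Q := act 7 n15158
theorem D15923 : act 7 n15158 = n15923 := rfl
theorem F62814 : act 0 n15923 = n15275 := d6_1 D15923 (iv D15275) (iv F59738)
theorem F62815 : act 2 n15923 = n15160 := d19_1 D15923 (iv D15160) (iv F59739)
theorem F62816 : act 6 n15923 = n15167 := d33_1 D15923 (iv D15167) (iv F59740)
theorem F62817 : act 8 n15923 = n15178 := d35_2 D15158 D15923 (iv D15178) (iv D14320) (iv F56336)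
def n15924 : Q := act 7 n15159
theorem D15924 : act 7 n15159 = n15924 := rfl
theorem F62818 : act 0 n15924 = n15276 := d6_1 D15924 (iv D15276) (iv F59741)
theorem F62819 : act 1 n15924 = n15210 := d13_1 D15924 (iv D15210) (iv F59742)
theorem F62820 : act 4 n15924 = n15160 := d28_1 D15924 (iv D15160) (iv F59744)
theorem F62821 : act 5 n15924 = n15522 := d31_1 D15924 (iv D15522) (iv F59745)
theorem F62822 : act 6 n15924 = n15169 := d33_1 D15924 (iv D15169) (iv F59746)
theorem F62823 : act 8 n15924 = n15179 := d35_2 D15159 D15924 (iv D15179) (iv D14321) (iv F56342)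
def n15925 : Q := act 8 n15161
theorem D15925 : act 8 n15161 = n15925 := rfl
theorem F62824 : act 0 n15925 = n15163 := d7_1 D15925 (iv D15163) D15161
theorem F62825 : act 1 n15925 = n15277 := d14_1 D15925 (iv D15277) (iv F59752)
theorem F62826 : act 2 n15925 = n15211 := d20_1 D15925 (iv D15211) (iv F59753)
theorem F62827 : act 4 n15925 = n15619 := d29_1 D15925 (iv D15619) F59757
theorem F62828 : act 5 n15925 = n15451 := d32_1 D15925 (iv D15451) (iv F59754)
theorem F62829 : act 6 n15925 = n15549 := d34_1 D15925 (iv D15549) (iv F59755)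
def n15926 : Q := act 3 n15162
theorem D15926 : act 3 n15162 = n15926 := rfl
theorem F62830 : act 0 n15926 = n15614 := d2_1 D15926 F61671 (iv F59758)
theorem F62831 : act 1 n15926 = n15164 := d9_1 D15926 (iv D15164) (iv F59759)
theorem F62832 : act 2 n15926 = n15499 := d15_1 D15926 F61242 F57908 F56540 (iv F59760)
theorem F62833 : act 4 n15926 = n15806 := d21_2 D15162 D15926 (iv F62746) (iv D15910) F59690
theorem F62834 : act 5 n15926 = n15486 := d22_2 F59763 D15926 F61198
theorem F62835 : act 6 n15926 = n15469 := d23_2 (iv F59761) D15926 F61141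
theorem F62836 : act 7 n15805 = n15926 := d31_0 F62834 (iv F61199) (iv F62427)
def n15927 : Q := act 8 n15162
theorem D15927 : act 8 n15162 = n15927 := rfl
theorem F62837 : act 0 n15927 = n15619 := d7_1 D15927 (iv D15619) (iv F59758)
theorem F62838 : act 1 n15927 = n15166 := d14_1 D15927 (iv D15166) (iv F59759)
theorem F62839 : act 2 n15927 = n15212 := d20_1 D15927 (iv D15212) (iv F59760)
theorem F62840 : act 4 n15927 = n15163 := d29_1 D15927 (iv D15163) D15162
theorem F62841 : act 5 n15927 = n15491 := d32_1 D15927 (iv D15491) F59763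
theorem F62842 : act 6 n15927 = n15472 := d34_1 D15927 (iv D15472) (iv F59761)
def n15928 : Q := act 7 n15163
theorem D15928 : act 7 n15163 = n15928 := rfl
theorem F62843 : act 1 n15928 = n15167 := d13_1 D15928 (iv D15167) (iv F59764)
theorem F62844 : act 2 n15928 = n15213 := d19_1 D15928 (iv D15213) (iv F59765)
theorem F62845 : act 5 n15928 = n15454 := d31_1 D15928 (iv D15454) (iv F59766)
theorem F62846 : act 8 n15928 = n15185 := d35_2 D15163 D15928 (iv D15185) (iv D14325) (iv F56349)
def n15929 : Q := act 5 n15164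
theorem D15929 : act 5 n15164 = n15929 := rfl
theorem F62847 : act 0 n15929 = n15282 := d4_1 D15929 (iv D15282) (iv F59767)
theorem F62848 : act 1 n15929 = n15486 := d11_1 D15929 (iv F62834) F62831
theorem F62849 : act 2 n15929 = n15929 := d17_1 D15929 (iv D15929) F59768
theorem F62850 : act 3 n15929 = n15165 := d22_1 D15929 (iv D15165) D15164
theorem F62851 : act 6 n15929 = n15479 := d30_2 F62806 D15929 (iv D15479) (iv F61129) (iv F62805)
def n15930 : Q := act 7 n15164
theorem D15930 : act 7 n15164 = n15930 := rfl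
theorem F62852 : act 0 n15930 = n15283 := d6_1 D15930 (iv D15283) (iv F59767)
theorem F62853 : act 1 n15930 = n15805 := d13_1 D15930 F62836 F62831
theorem F62854 : act 2 n15930 = n15930 := d19_1 D15930 (iv D15930) F59768
theorem F62855 : act 3 n15930 = n15187 := d24_1 D15930 (iv D15187) (iv D14326) (iv F56352) D15164
theorem F62856 : act 4 n15930 = n15273 := d28_1 D15930 (iv F62757) F62755
theorem F62857 : act 6 n15930 = n15263 := d33_1 D15930 (iv F62807) F62806
def n15931 : Q := act 8 n15164
theorem D15931 : act 8 n15164 = n15931 := rfl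
theorem F62858 : act 0 n15931 = n15284 := d7_1 D15931 (iv D15284) (iv F59767)
theorem F62859 : act 2 n15931 = n15931 := d20_1 D15931 (iv D15931) F59768
theorem F62860 : act 3 n15931 = n15166 := d25_1 D15931 (iv D15166) D15164
def n15932 : Q := act 8 n15165
theorem D15932 : act 8 n15165 = n15932 := rfl
theorem F62861 : act 0 n15932 = n15286 := d7_1 D15932 (iv D15286) (iv F59769)
theorem F62862 : act 1 n15932 = n15491 := d14_1 D15932 (iv D15491) (iv F59770)
theorem F62863 : act 2 n15932 = n15168 := d20_1 D15932 (iv D15168) (iv F59771)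
theorem F62864 : act 4 n15932 = n15458 := d29_1 D15932 (iv D15458) (iv F59772)
theorem F62865 : act 5 n15932 = n15166 := d32_1 D15932 (iv D15166) D15165
theorem F62866 : act 6 n15932 = n15482 := d34_1 D15932 (iv D15482) (iv F59773)
def n15933 : Q := act 7 n15166
theorem D15933 : act 7 n15166 = n15933 := rfl
theorem F62867 : act 0 n15933 = n15287 := d6_1 D15933 (iv D15287) (iv F59775)
theorem F62868 : act 2 n15933 = n15169 := d19_1 D15933 (iv D15169) (iv F59776)
theorem F62869 : act 4 n15933 = n15167 := d28_1 D15933 (iv D15167) (iv F59777)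
theorem F62870 : act 8 n15933 = n15191 := d35_2 D15166 D15933 (iv D15191) (iv D14328) (iv F56352)
def n15934 : Q := act 3 n15167
theorem D15934 : act 3 n15167 = n15934 := rfl
theorem F62871 : act 0 n15934 = n15288 := d2_1 D15934 (iv D15288) (iv F59778)
theorem F62872 : act 2 n15934 = n15799 := d15_1 D15934 (iv D15799) F59300 (iv F56368) (iv F59779)
theorem F62873 : act 5 n15934 = n15460 := d22_2 (iv F59780) D15934 (iv D15460)
theorem F62874 : act 8 n15934 = n15192 := d25_2 (iv F59781) D15934 (iv D15192)
def n15935 : Q := act 7 n15168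
theorem D15935 : act 7 n15168 = n15935 := rfl
theorem F62875 : act 0 n15935 = n15290 := d6_1 D15935 (iv D15290) (iv F59782)
theorem F62876 : act 1 n15935 = n15216 := d13_1 D15935 (iv D15216) (iv F59783)
theorem F62877 : act 4 n15935 = n15461 := d28_1 D15935 (iv D15461) (iv F59785)
theorem F62878 : act 5 n15935 = n15169 := d31_1 D15935 (iv D15169) (iv F59786)
theorem F62879 : act 6 n15935 = n15528 := d33_1 D15935 (iv D15528) (iv F59787)
theorem F62880 : act 8 n15935 = n15194 := d35_2 D15168 D15935 (iv D15194) (iv D14331) (iv F56361)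
def n15936 : Q := act 3 n15169
theorem D15936 : act 3 n15169 = n15936 := rfl
theorem F62881 : act 0 n15936 = n15291 := d2_1 D15936 (iv D15291) (iv F59788)
theorem F62882 : act 1 n15936 = n15217 := d9_1 D15936 (iv D15217) (iv F59789)
theorem F62883 : act 4 n15936 = n15800 := d21_2 (iv F59790) D15936 (iv D15800) F59304 (iv F56368)
theorem F62884 : act 7 n15936 = n15936 := d24_2 D15169 D15936 (iv D15936) (iv D15169) F56364
theorem F62885 : act 8 n15936 = n15195 := d25_2 (iv F59791) D15936 (iv D15195)
def n15937 : Q := act 8 n15170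
theorem D15937 : act 8 n15170 = n15937 := rfl
theorem F62886 : act 0 n15937 = n15414 := d7_1 D15937 (iv D15414) (iv F59792)
theorem F62887 : act 1 n15937 = n15172 := d14_1 D15937 (iv D15172) D15170
theorem F62888 : act 2 n15937 = n15218 := d20_1 D15937 (iv D15218) (iv F59793)
theorem F62889 : act 4 n15937 = n15447 := d29_1 D15937 (iv D15447) F59797
theorem F62890 : act 5 n15937 = n15176 := d32_1 D15937 (iv D15176) (iv F59794)
theorem F62891 : act 6 n15937 = n15416 := d34_1 D15937 (iv D15416) (iv F59795)
def n15938 : Q := act 8 n15171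
theorem D15938 : act 8 n15171 = n15938 := rfl
theorem F62892 : act 0 n15938 = n15293 := d7_1 D15938 (iv D15293) (iv F59798)
theorem F62893 : act 1 n15938 = n15447 := d14_1 D15938 (iv D15447) (iv F59799)
theorem F62894 : act 2 n15938 = n15173 := d20_1 D15938 (iv D15173) (iv F59800)
theorem F62895 : act 4 n15938 = n15172 := d29_1 D15938 (iv D15172) D15171
theorem F62896 : act 5 n15938 = n15449 := d32_1 D15938 (iv D15449) (iv F59801)
theorem F62897 : act 6 n15938 = n15463 := d34_1 D15938 (iv D15463) (iv F59802)
def n15939 : Q := act 7 n15172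
theorem D15939 : act 7 n15172 = n15939 := rfl
theorem F62898 : act 0 n15939 = n15294 := d6_1 D15939 (iv D15294) (iv F59804)
theorem F62899 : act 2 n15939 = n15174 := d19_1 D15939 (iv D15174) (iv F59805)
theorem F62900 : act 5 n15939 = n15178 := d31_1 D15939 (iv D15178) (iv F59806)
theorem F62901 : act 6 n15939 = n15464 := d33_1 D15939 (iv D15464) (iv F59807)
def n15940 : Q := act 7 n15173
theorem D15940 : act 7 n15173 = n15940 := rfl
theorem F62902 : act 0 n15940 = n15295 := d6_1 D15940 (iv D15295) (iv F59808)
theorem F62903 : act 1 n15940 = n15220 := d13_1 D15940 (iv D15220) (iv F59809)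
theorem F62904 : act 4 n15940 = n15174 := d28_1 D15940 (iv D15174) (iv F59811)
theorem F62905 : act 5 n15940 = n15516 := d31_1 D15940 (iv D15516) (iv F59812)
theorem F62906 : act 6 n15940 = n15465 := d33_1 D15940 (iv D15465) (iv F59813)
theorem F62907 : act 8 n15940 = n15424 := d35_2 D15173 D15940 (iv D15424) (iv D14598) (iv F56379)
def n15941 : Q := act 8 n15175
theorem D15941 : act 8 n15175 = n15941 := rfl
theorem F62908 : act 0 n15941 = n15176 := d7_1 D15941 (iv D15176) D15175
theorem F62909 : act 1 n15941 = n15296 := d14_1 D15941 (iv D15296) (iv F59819)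
theorem F62910 : act 2 n15941 = n15221 := d20_1 D15941 (iv D15221) (iv F59820)
theorem F62911 : act 3 n15941 = n15937 := d25_1 D15941 (iv D15937) (iv F59821)
theorem F62912 : act 4 n15941 = n15515 := d29_1 D15941 F61321 (iv F59822)
theorem F62913 : act 5 n15941 = n15414 := d32_1 D15941 (iv D15414) (iv F59823)
theorem F62914 : act 6 n15941 = n15181 := d34_1 D15941 (iv D15181) (iv F59824)
def n15942 : Q := act 7 n15176
theorem D15942 : act 7 n15176 = n15942 := rfl
theorem F62915 : act 1 n15942 = n15178 := d13_1 D15942 (iv D15178) (iv F59826)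
theorem F62916 : act 2 n15942 = n15222 := d19_1 D15942 (iv D15222) (iv F59827)
theorem F62917 : act 4 n15942 = n15651 := d28_1 D15942 F61783 (iv F59828)
theorem F62918 : act 6 n15942 = n15185 := d33_1 D15942 (iv D15185) (iv F59829)
def n15943 : Q := act 7 n15177
theorem D15943 : act 7 n15177 = n15943 := rfl
theorem F62919 : act 0 n15943 = n15304 := d6_1 D15943 (iv D15304) (iv F59830)
theorem F62920 : act 1 n15943 = n15651 := d13_1 D15943 F61783 (iv F59831)
theorem F62921 : act 2 n15943 = n15179 := d19_1 D15943 (iv D15179) (iv F59832)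
theorem F62922 : act 4 n15943 = n15178 := d28_1 D15943 (iv D15178) (iv F59833)
theorem F62923 : act 5 n15943 = n15652 := d31_1 D15943 F61785 (iv F59834)
theorem F62924 : act 6 n15943 = n15191 := d33_1 D15943 (iv D15191) (iv F59835)
def n15944 : Q := act 3 n15178
theorem D15944 : act 3 n15178 = n15944 := rfl
theorem F62925 : act 0 n15944 = n15305 := d2_1 D15944 (iv D15305) (iv F59836)
theorem F62926 : act 2 n15944 = n15629 := d15_1 D15944 (iv D15629) F58421 (iv F56404) (iv F59837)
theorem F62927 : act 6 n15944 = n15192 := d23_2 (iv F59838) D15944 (iv D15192)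
def n15945 : Q := act 3 n15179
theorem D15945 : act 3 n15179 = n15945 := rfl
theorem F62928 : act 0 n15945 = n15308 := d2_1 D15945 (iv D15308) (iv F59839)
theorem F62929 : act 1 n15945 = n15224 := d9_1 D15945 (iv D15224) (iv F59840)
theorem F62930 : act 4 n15945 = n15679 := d21_2 (iv F59841) D15945 (iv D15679) F58610 (iv F56404)
theorem F62931 : act 5 n15945 = n15684 := d22_2 (iv F59842) D15945 F61903
theorem F62932 : act 6 n15945 = n15195 := d23_2 (iv F59843) D15945 (iv D15195)
theorem F62933 : act 7 n15945 = n15196 := d24_2 D15179 D15945 (iv D15196) (iv D14333) (iv F56398)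
def n15946 : Q := act 3 n15180
theorem D15946 : act 3 n15180 = n15946 := rfl
theorem F62934 : act 0 n15946 = n15182 := d2_1 D15946 (iv D15182) (iv F59844)
theorem F62935 : act 1 n15946 = n15309 := d9_1 D15946 (iv D15309) (iv F59845)
theorem F62936 : act 2 n15946 = n15560 := d15_1 D15946 F61489 F59079 (iv F56606) (iv F59846)
theorem F62937 : act 4 n15946 = n15553 := d21_2 D15180 D15946 F61469 F59716 F57611
theorem F62938 : act 5 n15946 = n15603 := d22_2 F59849 D15946 F61641
theorem F62939 : act 6 n15946 = n15590 := d23_2 (iv F59847) D15946 F61594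
theorem F62940 : act 7 n15946 = n15552 := d24_2 (iv F59848) D15946 F61464 F61674 F61671
def n15947 : Q := act 8 n15180
theorem D15947 : act 8 n15180 = n15947 := rfl
theorem F62941 : act 0 n15947 = n15184 := d7_1 D15947 (iv D15184) (iv F59844)
theorem F62942 : act 1 n15947 = n15311 := d14_1 D15947 (iv D15311) (iv F59845)
theorem F62943 : act 2 n15947 = n15225 := d20_1 D15947 (iv D15225) (iv F59846)
theorem F62944 : act 4 n15947 = n15181 := d29_1 D15947 (iv D15181) D15180
theorem F62945 : act 5 n15947 = n15608 := d32_1 D15947 (iv D15608) F59849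
theorem F62946 : act 6 n15947 = n15515 := d34_1 D15947 F61321 (iv F59847)
def n15948 : Q := act 7 n15181
theorem D15948 : act 7 n15181 = n15948 := rfl
theorem F62947 : act 0 n15948 = n15185 := d6_1 D15948 (iv D15185) (iv F59850)
theorem F62948 : act 1 n15948 = n15312 := d13_1 D15948 (iv D15312) (iv F59851)
theorem F62949 : act 2 n15948 = n15226 := d19_1 D15948 (iv D15226) (iv F59852)
theorem F62950 : act 5 n15948 = n15478 := d31_1 D15948 (iv D15478) (iv F59853)
def n15949 : Q := act 5 n15182
theorem D15949 : act 5 n15182 = n15949 := rfl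
theorem F62951 : act 0 n15949 = n15603 := d4_1 D15949 (iv F62938) F62934
theorem F62952 : act 1 n15949 = n15186 := d11_1 D15949 (iv D15186) (iv F59854)
theorem F62953 : act 2 n15949 = n15758 := d17_1 D15949 F62233 (iv F59855)
theorem F62954 : act 3 n15949 = n15183 := d22_1 D15949 (iv D15183) D15182
theorem F62955 : act 6 n15949 = n15455 := d30_2 (iv F59856) D15949 (iv D15455) F57781 (iv F59190)
def n15950 : Q := act 7 n15182
theorem D15950 : act 7 n15182 = n15950 := rfl
theorem F62956 : act 0 n15950 = n15552 := d6_1 D15950 (iv F62940) F62934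
theorem F62957 : act 1 n15950 = n15187 := d13_1 D15950 (iv D15187) (iv F59854)
theorem F62958 : act 2 n15950 = n15397 := d19_1 D15950 F60838 (iv F59855)
theorem F62959 : act 3 n15950 = n15805 := d24_1 D15950 F62836 (iv D15926) F59762 D15182
theorem F62960 : act 4 n15950 = n15257 := d28_1 D15950 F60243 F60232
theorem F62961 : act 6 n15950 = n15261 := d33_1 D15950 F60257 (iv F59856)
def n15951 : Q := act 8 n15182
theorem D15951 : act 8 n15182 = n15951 := rfl
theorem F62962 : act 1 n15951 = n15188 := d14_1 D15951 (iv D15188) (iv F59854)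
theorem F62963 : act 2 n15951 = n15669 := d20_1 D15951 F61850 (iv F59855)
theorem F62964 : act 3 n15951 = n15184 := d25_1 D15951 (iv D15184) D15182
theorem F62965 : act 6 n15951 = n15670 := d34_1 D15951 F61855 (iv F59856)
def n15952 : Q := act 8 n15183
theorem D15952 : act 8 n15183 = n15952 := rfl
theorem F62966 : act 0 n15952 = n15608 := d7_1 D15952 (iv D15608) (iv F59857)
theorem F62967 : act 1 n15952 = n15190 := d14_1 D15952 (iv D15190) (iv F59858)
theorem F62968 : act 2 n15952 = n15227 := d20_1 D15952 (iv D15227) (iv F59859)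
theorem F62969 : act 4 n15952 = n15482 := d29_1 D15952 (iv D15482) (iv F59860)
theorem F62970 : act 5 n15952 = n15184 := d32_1 D15952 (iv D15184) D15183
theorem F62971 : act 6 n15952 = n15458 := d34_1 D15952 (iv D15458) (iv F59861)
def n15953 : Q := act 7 n15184
theorem D15953 : act 7 n15184 = n15953 := rfl
theorem F62972 : act 1 n15953 = n15191 := d13_1 D15953 (iv D15191) (iv F59863)
theorem F62973 : act 2 n15953 = n15228 := d19_1 D15953 (iv D15228) (iv F59864)
theorem F62974 : act 4 n15953 = n15185 := d28_1 D15953 (iv D15185) (iv F59865)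
theorem F62975 : act 6 n15953 = n15651 := d33_1 D15953 F61783 (iv F59866)
def n15954 : Q := act 3 n15185
theorem D15954 : act 3 n15185 = n15954 := rfl
theorem F62976 : act 1 n15954 = n15192 := d9_1 D15954 (iv D15192) (iv F59867)
theorem F62977 : act 5 n15954 = n15484 := d22_2 (iv F59869) D15954 (iv D15484)
def n15955 : Q := act 4 n15186
theorem D15955 : act 4 n15186 = n15955 := rfl
theorem F62978 : act 0 n15955 = n15320 := d3_1 D15955 (iv D15320) (iv F59870)
theorem F62979 : act 2 n15955 = n15197 := d16_1 D15955 (iv D15197) (iv F59871)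
theorem F62980 : act 3 n15955 = n15485 := d21_1 D15955 (iv D15485) F57867 (iv F56419) (iv F59872)
theorem F62981 : act 5 n15955 = n15950 := d26_2 D15186 D15955 F62960 F60241 F57619
theorem F62982 : act 7 n15949 = n15955 := d31_0 F62981 (iv D15950) D15949
def n15956 : Q := act 6 n15186
theorem D15956 : act 6 n15186 = n15956 := rfl
theorem F62983 : act 0 n15956 = n15321 := d5_1 D15956 (iv D15321) (iv F59870)
theorem F62984 : act 1 n15956 = n15455 := d12_1 D15956 (iv F62955) F62952
theorem F62985 : act 2 n15956 = n15198 := d18_1 D15956 (iv D15198) (iv F59871)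
theorem F62986 : act 3 n15956 = n15189 := d23_1 D15956 (iv D15189) (iv F59872)
theorem F62987 : act 5 n15956 = n15452 := d30_1 D15956 F61080 F59193 F58152 D15186
def n15957 : Q := act 7 n15186
theorem D15957 : act 7 n15186 = n15957 := rfl
theorem F62988 : act 0 n15957 = n15322 := d6_1 D15957 (iv D15322) (iv F59870)
theorem F62989 : act 1 n15957 = n15955 := d13_1 D15957 (iv F62982) F62952
theorem F62990 : act 2 n15957 = n15199 := d19_1 D15957 (iv D15199) (iv F59871)
theorem F62991 : act 4 n15957 = n15949 := d28_1 D15957 F62982 (iv D15955)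
theorem F62992 : act 5 n15957 = n15187 := d31_1 D15957 (iv D15187) D15186
def n15958 : Q := act 8 n15186
theorem D15958 : act 8 n15186 = n15958 := rfl
theorem F62993 : act 0 n15958 = n15323 := d7_1 D15958 (iv D15323) (iv F59870)
theorem F62994 : act 2 n15958 = n15200 := d20_1 D15958 (iv D15200) (iv F59871)
theorem F62995 : act 3 n15958 = n15190 := d25_1 D15958 (iv D15190) (iv F59872)
theorem F62996 : act 5 n15958 = n15188 := d32_1 D15958 (iv D15188) D15186
def n15959 : Q := act 8 n15187
theorem D15959 : act 8 n15187 = n15959 := rfl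
theorem F62997 : act 0 n15959 = n15324 := d7_1 D15959 (iv D15324) (iv F59873)
theorem F62998 : act 2 n15959 = n15201 := d20_1 D15959 (iv D15201) (iv F59874)
theorem F62999 : act 4 n15959 = n15258 := d29_1 D15959 (iv D15258) (iv F59875)
theorem F63000 : act 6 n15959 = n15265 := d34_1 D15959 (iv D15265) (iv F59876)
def n15960 : Q := act 7 n15188
theorem D15960 : act 7 n15188 = n15960 := rfl
theorem F63001 : act 0 n15960 = n15325 := d6_1 D15960 (iv D15325) (iv F59877)
theorem F63002 : act 2 n15960 = n15202 := d19_1 D15960 (iv D15202) (iv F59878)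
def n15961 : Q := act 8 n15189
theorem D15961 : act 8 n15189 = n15961 := rfl
theorem F63003 : act 0 n15961 = n15326 := d7_1 D15961 (iv D15326) (iv F59880)
theorem F63004 : act 1 n15961 = n15458 := d14_1 D15961 (iv D15458) (iv F59881)
theorem F63005 : act 2 n15961 = n15193 := d20_1 D15961 (iv D15193) (iv F59882)
theorem F63006 : act 4 n15961 = n15491 := d29_1 D15961 (iv D15491) (iv F59883)
theorem F63007 : act 5 n15961 = n15453 := d32_1 D15961 (iv D15453) (iv F59884)
theorem F63008 : act 6 n15961 = n15190 := d34_1 D15961 (iv D15190) D15189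
def n15962 : Q := act 7 n15190
theorem D15962 : act 7 n15190 = n15962 := rfl
theorem F63009 : act 0 n15962 = n15327 := d6_1 D15962 (iv D15327) (iv F59886)
theorem F63010 : act 2 n15962 = n15194 := d19_1 D15962 (iv D15194) (iv F59887)
theorem F63011 : act 4 n15962 = n15492 := d28_1 D15962 (iv D15492) (iv F59888)
theorem F63012 : act 5 n15962 = n15191 := d31_1 D15962 (iv D15191) (iv F59889)
def n15963 : Q := act 3 n15191
theorem D15963 : act 3 n15191 = n15963 := rfl
theorem F63013 : act 0 n15963 = n15328 := d2_1 D15963 (iv D15328) (iv F59890)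
def n15964 : Q := act 4 n15192
theorem D15964 : act 4 n15192 = n15964 := rfl
theorem F63014 : act 0 n15964 = n15329 := d3_1 D15964 (iv D15329) (iv F59893)
theorem F63015 : act 2 n15964 = n15812 := d16_1 D15964 (iv D15812) (iv F59894)
def n15965 : Q := act 7 n15193
theorem D15965 : act 7 n15193 = n15965 := rfl
theorem F63016 : act 0 n15965 = n15330 := d6_1 D15965 (iv D15330) (iv F59896)
theorem F63017 : act 1 n15965 = n15232 := d13_1 D15965 (iv D15232) (iv F59897)
theorem F63018 : act 3 n15965 = n15892 := d24_1 D15965 F62678 F59612 F56474 (iv F59898)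
theorem F63019 : act 4 n15965 = n15495 := d28_1 D15965 (iv D15495) (iv F59899)
theorem F63020 : act 5 n15965 = n15519 := d31_1 D15965 (iv D15519) (iv F59900)
theorem F63021 : act 6 n15965 = n15194 := d33_1 D15965 (iv D15194) (iv F59901)
theorem F63022 : act 8 n15965 = n15528 := d35_2 D15193 D15965 (iv D15528) (iv D14702) (iv F56431)
def n15966 : Q := act 3 n15194
theorem D15966 : act 3 n15194 = n15966 := rfl
theorem F63023 : act 0 n15966 = n15331 := d2_1 D15966 (iv D15331) (iv F59902)
theorem F63024 : act 1 n15966 = n15233 := d9_1 D15966 (iv D15233) (iv F59903)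
theorem F63025 : act 5 n15966 = n15195 := d22_2 (iv F59905) D15966 (iv D15195)
theorem F63026 : act 6 n15966 = n15892 := d23_2 F63021 D15966 (iv F63018)
theorem F63027 : act 7 n15966 = n15205 := d24_2 D15194 D15966 (iv D15205) (iv D14341) (iv F56434)
def n15967 : Q := act 2 n15195
theorem D15967 : act 2 n15195 = n15967 := rfl
theorem F63028 : act 0 n15967 = n15332 := d1_1 D15967 (iv D15332) (iv F59906)
theorem F63029 : act 4 n15967 = n15814 := d16_2 (iv F59908) D15967 (iv D15814)
theorem F63030 : act 7 n15967 = n15206 := d19_2 (iv F59909) D15967 (iv D15206)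
def n15968 : Q := act 2 n15196
theorem D15968 : act 2 n15196 = n15968 := rfl
theorem F63031 : act 0 n15968 = n15340 := d1_1 D15968 (iv D15340) (iv F59910)
theorem F63032 : act 1 n15968 = n15752 := d8_1 D15968 (iv D15752) F58956 (iv F56654) (iv F59911)
theorem F63033 : act 4 n15968 = n15751 := d16_2 (iv F59912) D15968 (iv D15751)
theorem F63034 : act 5 n15968 = n15754 := d17_2 (iv F59913) D15968 F62209
theorem F63035 : act 6 n15968 = n15206 := d18_2 (iv F59914) D15968 (iv D15206)
theorem F63036 : act 8 n15968 = n15968 := d20_2 F59915 D15968 (iv D15968)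
def n15969 : Q := act 8 n15198
theorem D15969 : act 8 n15198 = n15969 := rfl
theorem F63037 : act 0 n15969 = n15342 := d7_1 D15969 (iv D15342) (iv F59918)
theorem F63038 : act 1 n15969 = n15743 := d14_1 D15969 F62168 (iv F59919)
theorem F63039 : act 3 n15969 = n15203 := d25_1 D15969 (iv D15203) (iv F59920)
theorem F63040 : act 5 n15969 = n15745 := d32_1 D15969 F62176 (iv F59921)
theorem F63041 : act 6 n15969 = n15200 := d34_1 D15969 (iv D15200) D15198
def n15970 : Q := act 8 n15199
theorem D15970 : act 8 n15199 = n15970 := rfl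
theorem F63042 : act 0 n15970 = n15343 := d7_1 D15970 (iv D15343) (iv F59922)
theorem F63043 : act 1 n15970 = n15401 := d14_1 D15970 (iv D15401) (iv F59923)
theorem F63044 : act 3 n15970 = n15970 := d25_1 D15970 (iv D15970) F59924
theorem F63045 : act 5 n15970 = n15201 := d32_1 D15970 (iv D15201) (iv F59925)
def n15971 : Q := act 7 n15200
theorem D15971 : act 7 n15200 = n15971 := rfl
theorem F63046 : act 0 n15971 = n15344 := d6_1 D15971 (iv D15344) (iv F59926)
theorem F63047 : act 5 n15971 = n15202 := d31_1 D15971 (iv D15202) (iv F59928)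
def n15972 : Q := act 7 n15201
theorem D15972 : act 7 n15201 = n15972 := rfl
theorem F63048 : act 0 n15972 = n15345 := d6_1 D15972 (iv D15345) (iv F59929)
theorem F63049 : act 1 n15972 = n15402 := d13_1 D15972 (iv D15402) (iv F59930)
theorem F63050 : act 4 n15972 = n15259 := d28_1 D15972 (iv D15259) (iv F59932)
theorem F63051 : act 6 n15972 = n15269 := d33_1 D15972 (iv D15269) (iv F59933)
theorem F63052 : act 8 n15972 = n15202 := d35_2 D15201 D15972 (iv D15202) (iv D14336) D14335
def n15973 : Q := act 3 n15202
theorem D15973 : act 3 n15202 = n15973 := rfl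
theorem F63053 : act 0 n15973 = n15346 := d2_1 D15973 (iv D15346) (iv F59934)
theorem F63054 : act 7 n15973 = n15204 := d24_2 D15202 D15973 (iv D15204) (iv D14339) (iv F56454)
def n15974 : Q := act 2 n15204
theorem D15974 : act 2 n15204 = n15974 := rfl
theorem F63055 : act 0 n15974 = n15349 := d1_1 D15974 (iv D15349) (iv F59942)
theorem F63056 : act 3 n15974 = n15206 := d15_2 D15204 D15974 (iv D15206) (iv D14342) (iv F56466)
theorem F63057 : act 8 n15974 = n15974 := d20_2 F59943 D15974 (iv D15974)
def n15975 : Q := act 2 n15205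
theorem D15975 : act 2 n15205 = n15975 := rfl
theorem F63058 : act 0 n15975 = n15351 := d1_1 D15975 (iv D15351) (iv F59944)
theorem F63059 : act 1 n15975 = n15886 := d8_1 D15975 (iv D15886) F59548 (iv F56660) (iv F59945)
theorem F63060 : act 5 n15975 = n15206 := d17_2 (iv F59946) D15975 (iv D15206)
theorem F63061 : act 6 n15975 = n15887 := d18_2 (iv F59947) D15975 F62659
theorem F63062 : act 8 n15975 = n15975 := d20_2 F59948 D15975 (iv D15975)
def n15976 : Q := act 1 n15206
theorem D15976 : act 1 n15206 = n15976 := rfl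
theorem F63063 : act 2 n15976 = n15236 := d8_2 D15206 D15976 (iv D15236) (iv D14380) (iv F56482)
theorem F63064 : act 4 n15976 = n15826 := d10_2 (iv F59950) D15976 (iv D15826)
theorem F63065 : act 5 n15976 = n15886 := d11_2 F63060 D15976 (iv F63059)
theorem F63066 : act 6 n15976 = n15752 := d12_2 F63035 D15976 (iv F63032)
theorem F63067 : act 8 n15976 = n15976 := d14_2 F59951 D15976 (iv D15976)
def n15977 : Q := act 7 n15208
theorem D15977 : act 7 n15208 = n15977 := rfl
theorem F63068 : act 0 n15977 = n15566 := d6_1 D15977 (iv D15566) (iv F59959)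
theorem F63069 : act 1 n15977 = n15209 := d13_1 D15977 (iv D15209) (iv F59960)
theorem F63070 : act 4 n15977 = n15475 := d28_1 D15977 (iv D15475) (iv F59962)
theorem F63071 : act 5 n15977 = n15465 := d31_1 D15977 (iv D15465) (iv F59963)
theorem F63072 : act 6 n15977 = n15213 := d33_1 D15977 (iv D15213) (iv F59964)
theorem F63073 : act 8 n15977 = n15222 := d35_2 D15208 D15977 (iv D15222) (iv D14364) (iv F56512)
def n15978 : Q := act 3 n15209
theorem D15978 : act 3 n15209 = n15978 := rfl
theorem F63074 : act 0 n15978 = n15241 := d2_1 D15978 (iv D15241) (iv F59965)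
theorem F63075 : act 2 n15978 = n15537 := d15_1 D15978 (iv D15537) F58109 (iv F56526) (iv F59966)
theorem F63076 : act 4 n15978 = n15361 := d21_2 (iv F59967) D15978 (iv D15361) F57228 (iv F58051)
theorem F63077 : act 5 n15978 = n15521 := d22_2 (iv F59968) D15978 (iv D15521)
theorem F63078 : act 6 n15978 = n15215 := d23_2 (iv F59969) D15978 (iv D15215)
theorem F63079 : act 7 n15978 = n15978 := d24_2 D15209 D15978 (iv D15978) (iv D15209) F56515
theorem F63080 : act 8 n15978 = n15223 := d25_2 (iv F59970) D15978 (iv D15223)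
def n15979 : Q := act 3 n15210
theorem D15979 : act 3 n15210 = n15979 := rfl
theorem F63081 : act 0 n15979 = n15242 := d2_1 D15979 (iv D15242) (iv F59971)
theorem F63082 : act 2 n15979 = n15677 := d15_1 D15979 (iv D15677) F58590 (iv F58051) (iv F59972)
theorem F63083 : act 4 n15979 = n15685 := d21_2 (iv F59973) D15979 (iv D15685) F58634 (iv F56526)
theorem F63084 : act 5 n15979 = n15524 := d22_2 (iv F59974) D15979 (iv D15524)
theorem F63085 : act 6 n15979 = n15217 := d23_2 (iv F59975) D15979 (iv D15217)
theorem F63086 : act 7 n15979 = n15979 := d24_2 D15210 D15979 (iv D15979) (iv D15210) F56521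
theorem F63087 : act 8 n15979 = n15224 := d25_2 (iv F59976) D15979 (iv D15224)
def n15980 : Q := act 7 n15211
theorem D15980 : act 7 n15211 = n15980 := rfl
theorem F63088 : act 0 n15980 = n15213 := d6_1 D15980 (iv D15213) (iv F59977)
theorem F63089 : act 1 n15980 = n15243 := d13_1 D15980 (iv D15243) (iv F59978)
theorem F63090 : act 4 n15980 = n15623 := d28_1 D15980 (iv D15623) (iv F59980)
theorem F63091 : act 5 n15980 = n15518 := d31_1 D15980 (iv D15518) (iv F59981)
theorem F63092 : act 6 n15980 = n15566 := d33_1 D15980 (iv D15566) (iv F59982)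
theorem F63093 : act 8 n15980 = n15226 := d35_2 D15211 D15980 (iv D15226) (iv D14368) (iv F56533)
def n15981 : Q := act 7 n15212
theorem D15981 : act 7 n15212 = n15981 := rfl
theorem F63094 : act 0 n15981 = n15623 := d6_1 D15981 (iv D15623) (iv F59983)
theorem F63095 : act 1 n15981 = n15214 := d13_1 D15981 (iv D15214) (iv F59984)
theorem F63096 : act 3 n15981 = n15612 := d24_1 D15981 (iv D15612) F58377 (iv F57923) (iv F59985)
theorem F63097 : act 4 n15981 = n15213 := d28_1 D15981 (iv D15213) (iv F59986)
theorem F63098 : act 5 n15981 = n15495 := d31_1 D15981 (iv D15495) (iv F59987)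
theorem F63099 : act 6 n15981 = n15475 := d33_1 D15981 (iv D15475) (iv F59988)
theorem F63100 : act 8 n15981 = n15228 := d35_2 D15212 D15981 (iv D15228) (iv D14370) (iv F56539)
def n15982 : Q := act 3 n15213
theorem D15982 : act 3 n15213 = n15982 := rfl
theorem F63101 : act 1 n15982 = n15215 := d9_1 D15982 (iv D15215) (iv F59989)
theorem F63102 : act 5 n15982 = n15520 := d22_2 (iv F59990) D15982 (iv D15520)
theorem F63103 : act 7 n15982 = n15982 := d24_2 D15213 D15982 (iv D15982) (iv D15213) F56542
theorem F63104 : act 8 n15982 = n15229 := d25_2 (iv F59991) D15982 (iv D15229)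
def n15983 : Q := act 4 n15215
theorem D15983 : act 4 n15215 = n15983 := rfl
theorem F63105 : act 0 n15983 = n15245 := d3_1 D15983 (iv D15245) (iv F59999)
theorem F63106 : act 2 n15983 = n15828 := d16_1 D15983 (iv D15828) (iv F60000)
theorem F63107 : act 3 n15983 = n15360 := d21_1 D15983 F60634 (iv F59994) F59995 D15215
theorem F63108 : act 6 n15983 = n15361 := d27_2 F63078 D15983 (iv F63076)
theorem F63109 : act 7 n15983 = n15983 := d28_2 F60002 D15983 (iv D15983)
theorem F63110 : act 8 n15983 = n15231 := d29_2 (iv F60003) D15983 (iv D15231)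
theorem F63111 : act 5 n15538 = n15983 := d32_3 F63110 (iv F60088) (iv F61410)
def n15984 : Q := act 3 n15216
theorem D15984 : act 3 n15216 = n15984 := rfl
theorem F63112 : act 0 n15984 = n15246 := d2_1 D15984 (iv D15246) (iv F60004)
theorem F63113 : act 2 n15984 = n15392 := d15_1 D15984 (iv D15392) (iv F60206) F60207 (iv F60005)
theorem F63114 : act 4 n15984 = n15568 := d21_2 (iv F60006) D15984 (iv D15568) F58282 (iv F58029)
theorem F63115 : act 5 n15984 = n15217 := d22_2 (iv F60007) D15984 (iv D15217)
theorem F63116 : act 6 n15984 = n15532 := d23_2 (iv F60008) D15984 (iv D15532)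
theorem F63117 : act 7 n15984 = n15984 := d24_2 D15216 D15984 (iv D15984) (iv D15216) F56556
theorem F63118 : act 8 n15984 = n15233 := d25_2 (iv F60009) D15984 (iv D15233)
def n15985 : Q := act 2 n15217
theorem D15985 : act 2 n15217 = n15985 := rfl
theorem F63119 : act 0 n15985 = n15247 := d1_1 D15985 (iv D15247) (iv F60010)
theorem F63120 : act 3 n15985 = n15391 := d15_2 D15217 D15985 F60802 (iv F59994) F59993
theorem F63121 : act 4 n15985 = n15829 := d16_2 (iv F60011) D15985 (iv D15829)
theorem F63122 : act 5 n15985 = n15392 := d17_2 F63115 D15985 (iv F63113)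
theorem F63123 : act 6 n15985 = n15677 := d18_2 F63085 D15985 (iv F63082)
theorem F63124 : act 7 n15985 = n15985 := d19_2 F60012 D15985 (iv D15985)
theorem F63125 : act 8 n15985 = n15234 := d20_2 (iv F60013) D15985 (iv D15234)
def n15986 : Q := act 7 n15218
theorem D15986 : act 7 n15218 = n15986 := rfl
theorem F63126 : act 0 n15986 = n15422 := d6_1 D15986 (iv D15422) (iv F60014)
theorem F63127 : act 1 n15986 = n15219 := d13_1 D15986 (iv D15219) (iv F60015)
theorem F63128 : act 3 n15986 = n15872 := d24_1 D15986 F62620 F59554 F56681 (iv F60016)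
theorem F63129 : act 4 n15986 = n15448 := d28_1 D15986 (iv D15448) (iv F60017)
theorem F63130 : act 5 n15986 = n15222 := d31_1 D15986 (iv D15222) (iv F60018)
theorem F63131 : act 6 n15986 = n15424 := d33_1 D15986 (iv D15424) (iv F60019)
theorem F63132 : act 8 n15986 = n15465 := d35_2 D15218 D15986 (iv D15465) (iv D14637) (iv F56568)
def n15987 : Q := act 3 n15220
theorem D15987 : act 3 n15220 = n15987 := rfl
theorem F63133 : act 0 n15987 = n15248 := d2_1 D15987 (iv D15248) (iv F60027)
theorem F63134 : act 2 n15987 = n15568 := d15_1 D15987 (iv D15568) F58281 (iv F57996) (iv F60028)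
theorem F63135 : act 4 n15987 = n15392 := d21_2 (iv F60029) D15987 (iv D15392) F57418 (iv F56582)
theorem F63136 : act 5 n15987 = n15517 := d22_2 (iv F60030) D15987 (iv D15517)
theorem F63137 : act 6 n15987 = n15521 := d23_2 (iv F60031) D15987 (iv D15521)
theorem F63138 : act 7 n15987 = n15987 := d24_2 D15220 D15987 (iv D15987) (iv D15220) F56577
theorem F63139 : act 8 n15987 = n15430 := d25_2 (iv F60032) D15987 (iv D15430)
def n15988 : Q := act 7 n15221
theorem D15988 : act 7 n15221 = n15988 := rfl
theorem F63140 : act 0 n15988 = n15222 := d6_1 D15988 (iv D15222) (iv F60033)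
theorem F63141 : act 1 n15988 = n15249 := d13_1 D15988 (iv D15249) (iv F60034)
theorem F63142 : act 4 n15988 = n15496 := d28_1 D15988 F61227 (iv F60036)
theorem F63143 : act 5 n15988 = n15422 := d31_1 D15988 (iv D15422) (iv F60037)
theorem F63144 : act 6 n15988 = n15226 := d33_1 D15988 (iv D15226) (iv F60038)
theorem F63145 : act 8 n15988 = n15566 := d35_2 D15221 D15988 (iv D15566) (iv D14757) (iv F56590)
def n15989 : Q := act 3 n15222
theorem D15989 : act 3 n15222 = n15989 := rfl
theorem F63146 : act 1 n15989 = n15223 := d9_1 D15989 (iv D15223) (iv F60039)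
theorem F63147 : act 4 n15989 = n15331 := d21_2 (iv F60040) D15989 (iv D15331) F57070 D14826
theorem F63148 : act 5 n15989 = n15872 := d22_2 F63130 D15989 (iv F63128)
theorem F63149 : act 6 n15989 = n15229 := d23_2 (iv F60041) D15989 (iv D15229)
theorem F63150 : act 7 n15989 = n15237 := d24_2 D15222 D15989 (iv D15237) (iv D14384) (iv F56592)
def n15990 : Q := act 7 n15225
theorem D15990 : act 7 n15225 = n15990 := rfl
theorem F63151 : act 0 n15990 = n15228 := d6_1 D15990 (iv D15228) (iv F60054)
theorem F63152 : act 1 n15990 = n15251 := d13_1 D15990 (iv D15251) (iv F60055)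
theorem F63153 : act 3 n15990 = n15495 := d24_1 D15990 (iv D15495) F57884 D14679 (iv F60056)
theorem F63154 : act 4 n15990 = n15226 := d28_1 D15990 (iv D15226) (iv F60057)
theorem F63155 : act 5 n15990 = n15612 := d31_1 D15990 (iv D15612) (iv F60058)
theorem F63156 : act 6 n15990 = n15496 := d33_1 D15990 F61227 (iv F60059)
theorem F63157 : act 8 n15990 = n15623 := d35_2 D15225 D15990 (iv D15623) (iv D14802) (iv F56608)
def n15991 : Q := act 3 n15226
theorem D15991 : act 3 n15226 = n15991 := rfl
theorem F63158 : act 0 n15991 = n15229 := d2_1 D15991 (iv D15229) (iv F60060)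
theorem F63159 : act 1 n15991 = n15252 := d9_1 D15991 (iv D15252) (iv F60061)
theorem F63160 : act 4 n15991 = n15892 := d21_2 F63154 D15991 (iv F63018) F63019 (iv F63153)
theorem F63161 : act 5 n15991 = n15527 := d22_2 (iv F60062) D15991 (iv D15527)
theorem F63162 : act 7 n15991 = n15238 := d24_2 D15226 D15991 (iv D15238) (iv D14386) (iv F56612)
def n15992 : Q := act 7 n15227
theorem D15992 : act 7 n15227 = n15992 := rfl
theorem F63163 : act 0 n15992 = n15612 := d6_1 D15992 (iv D15612) (iv F60063)
theorem F63164 : act 1 n15992 = n15230 := d13_1 D15992 (iv D15230) (iv F60064)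
theorem F63165 : act 3 n15992 = n15623 := d24_1 D15992 (iv D15623) F58405 D14838 (iv F60065)
theorem F63166 : act 4 n15992 = n15528 := d28_1 D15992 (iv D15528) (iv F60066)
theorem F63167 : act 5 n15992 = n15228 := d31_1 D15992 (iv D15228) (iv F60067)
theorem F63168 : act 6 n15992 = n15461 := d33_1 D15992 (iv D15461) (iv F60068)
theorem F63169 : act 8 n15992 = n15495 := d35_2 D15227 D15992 (iv D15495) (iv D14660) (iv F56619)
def n15993 : Q := act 2 n15229
theorem D15993 : act 2 n15229 = n15993 := rfl
theorem F63170 : act 1 n15993 = n15831 := d8_1 D15993 (iv D15831) F59422 (iv F56638) (iv F60073)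
theorem F63171 : act 5 n15993 = n15530 := d17_2 (iv F60074) D15993 (iv D15530)
theorem F63172 : act 7 n15993 = n15239 := d19_2 (iv F60075) D15993 (iv D15239)
def n15994 : Q := act 4 n15229
theorem D15994 : act 4 n15229 = n15994 := rfl
theorem F63173 : act 0 n15994 = n15892 := d3_1 D15994 (iv F63160) F63158
theorem F63174 : act 1 n15994 = n15231 := d10_1 D15994 (iv D15231) (iv F60073)
theorem F63175 : act 3 n15994 = n15330 := d21_1 D15994 F60513 (iv F60070) F60071 D15229
theorem F63176 : act 6 n15994 = n15331 := d27_2 F63149 D15994 (iv F63147)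
theorem F63177 : act 7 n15994 = n15240 := d28_2 (iv F60075) D15994 (iv D15240)
theorem F63178 : act 5 n15893 = n15994 := d37_1 (iv F62680) (iv D15994) (iv D15229) (iv F59868) F59867 F56423 (iv D13525) F49197 (iv F50760) (iv F54750) F54749 F50801 F47110 D13037 (iv F55250) (iv F58901) D15746 (iv F62181) (iv F63049) F63048 (iv D15345) (iv F60563) (iv F62318) F62317 F59164 F55612 F51776 (iv F50490) F50488 F46415 (iv F44545) (iv F48582) F48581 (iv F52578) (iv F52584) F52473 (iv D13348) (iv D12335) (iv F48260) (iv F52205) (iv F55891) (iv D14178) F52009 F48038 F43709 F38700 F32306 F23895 (iv F23815) F23814 F17671 (iv F21990) F21989 F21988 (iv F22065) D7787 (iv F38837) (iv F43890) D12293 D13301 D14260 D15127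
def n15995 : Q := act 4 n15233
theorem D15995 : act 4 n15233 = n15995 := rfl
theorem F63179 : act 0 n15995 = n15250 := d3_1 D15995 F60200 (iv F60096)
theorem F63180 : act 2 n15995 = n15430 := d16_1 D15995 F60995 (iv F60097)
theorem F63181 : act 3 n15995 = n15249 := d21_1 D15995 F60194 (iv D14709) (iv F56648) D15233
theorem F63182 : act 5 n15995 = n15423 := d26_2 (iv F60098) D15995 F60964 F59429 (iv F56651)
theorem F63183 : act 6 n15995 = n15252 := d27_2 (iv F60099) D15995 F60214
theorem F63184 : act 7 n15995 = n15235 := d28_2 (iv F60100) D15995 (iv D15235)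
theorem F63185 : act 8 n15995 = n15568 := d29_2 F63118 D15995 (iv F63114)
def n15996 : Q := act 1 n15234
theorem D15996 : act 1 n15234 = n15996 := rfl
theorem F63186 : act 3 n15996 = n15680 := d9_2 (iv F60102) D15996 F61891
theorem F63187 : act 4 n15996 = n15836 := d10_2 (iv F60103) D15996 (iv D15836)
theorem F63188 : act 5 n15996 = n15870 := d11_2 (iv F60104) D15996 F62614
theorem F63189 : act 6 n15996 = n15681 := d12_2 (iv F60105) D15996 F61894
theorem F63190 : act 7 n15996 = n15236 := d13_2 (iv F60106) D15996 (iv D15236)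
def n15997 : Q := act 0 n15236
theorem D15997 : act 0 n15236 = n15997 := rfl
theorem F63191 : act 1 n15997 = n15254 := d0_2 D15236 D15997 (iv D15254) (iv D14414) (iv F56664)
theorem F63192 : act 3 n15997 = n15749 := d2_2 (iv F60113) D15997 F62190
theorem F63193 : act 4 n15997 = n15837 := d3_2 (iv F60114) D15997 (iv D15837)
theorem F63194 : act 5 n15997 = n15429 := d4_2 (iv F60115) D15997 F60989
theorem F63195 : act 6 n15997 = n15750 := d5_2 (iv F60116) D15997 F62196
theorem F63196 : act 8 n15997 = n15997 := d7_2 F60117 D15997 (iv D15997)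
def n15998 : Q := act 2 n15237
theorem D15998 : act 2 n15237 = n15998 := rfl
theorem F63197 : act 1 n15998 = n15535 := d8_1 D15998 (iv D15535) F58096 (iv F56694) (iv F60118)
theorem F63198 : act 4 n15998 = n15351 := d16_2 (iv F60119) D15998 (iv D15351)
theorem F63199 : act 5 n15998 = n15888 := d17_2 (iv F60120) D15998 F62662
theorem F63200 : act 6 n15998 = n15239 := d18_2 (iv F60121) D15998 (iv D15239)
theorem F63201 : act 8 n15998 = n15998 := d20_2 F60122 D15998 (iv D15998)
def n15999 : Q := act 2 n15238
theorem D15999 : act 2 n15238 = n15999 := rfl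
theorem F63202 : act 0 n15999 = n15239 := d1_1 D15999 (iv D15239) (iv F60123)
theorem F63203 : act 1 n15999 = n15888 := d8_1 D15999 F62662 F59553 (iv F56864) (iv F60124)
theorem F63204 : act 4 n15999 = n15887 := d16_2 (iv F60125) D15999 F62659
theorem F63205 : act 5 n15999 = n15535 := d17_2 (iv F60126) D15999 (iv D15535)
theorem F63206 : act 8 n15999 = n15999 := d20_2 F60127 D15999 (iv D15999)
def n16000 : Q := act 4 n15239
theorem D16000 : act 4 n15239 = n16000 := rfl
theorem F63207 : act 0 n16000 = n15887 := d3_1 D16000 (iv F63204) F63202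
theorem F63208 : act 1 n16000 = n15838 := d10_1 D16000 (iv D15838) (iv F60128)
theorem F63209 : act 2 n16000 = n15240 := d16_1 D16000 (iv D15240) D15239
theorem F63210 : act 6 n16000 = n15351 := d27_2 F63200 D16000 (iv F63198)
theorem F63211 : act 8 n16000 = n16000 := d29_2 F60130 D16000 (iv D16000)
theorem F63212 : act 5 n15889 = n16000 := d17_0 F63209 (iv F60136) (iv F62664)
def n16001 : Q := act 3 n15243
theorem D16001 : act 3 n15243 = n16001 := rfl
theorem F63213 : act 0 n16001 = n15244 := d2_1 D16001 (iv D15244) (iv F60151)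
theorem F63214 : act 2 n16001 = n15521 := d15_1 D16001 (iv D15521) (iv F59953) F59954 (iv F60152)
theorem F63215 : act 4 n16001 = n15532 := d21_2 (iv F60153) D16001 (iv D15532) (iv F60079) F60078
theorem F63216 : act 5 n16001 = n15537 := d22_2 (iv F60154) D16001 (iv D15537)
theorem F63217 : act 6 n16001 = n15568 := d23_2 (iv F60155) D16001 (iv D15568)
theorem F63218 : act 7 n16001 = n16001 := d24_2 D15243 D16001 (iv D16001) (iv D15243) F56733
theorem F63219 : act 8 n16001 = n15252 := d25_2 (iv F60156) D16001 (iv D15252)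
def n16002 : Q := act 0 n15253
theorem D16002 : act 0 n15253 = n16002 := rfl
theorem F63220 : act 2 n16002 = n15395 := d1_2 (iv F60217) D16002 (iv D15395)
theorem F63221 : act 3 n16002 = n15358 := d2_2 (iv F60218) D16002 F60620
theorem F63222 : act 4 n16002 = n15835 := d3_2 (iv F60219) D16002 F62521
theorem F63223 : act 5 n16002 = n15359 := d4_2 (iv F60220) D16002 F60626
theorem F63224 : act 6 n16002 = n15687 := d5_2 (iv F60221) D16002 F61917
theorem F63225 : act 7 n16002 = n15254 := d6_2 (iv F60222) D16002 (iv D15254)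
theorem F63226 : act 8 n16002 = n15376 := d7_2 (iv F60223) D16002 F60717
def n16003 : Q := act 8 n15255
theorem D16003 : act 8 n15255 = n16003 := rfl
theorem F63227 : act 1 n16003 = n15418 := d14_1 D16003 (iv D15418) (iv F60230)
theorem F63228 : act 2 n16003 = n15256 := d20_1 D16003 (iv D15256) D15255
theorem F63229 : act 3 n16003 = n15270 := d25_1 D16003 (iv D15270) (iv F60231)
theorem F63230 : act 4 n16003 = n15951 := d29_1 D16003 (iv D15951) (iv F60232)
theorem F63231 : act 5 n16003 = n15258 := d32_1 D16003 (iv D15258) (iv F60233)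
theorem F63232 : act 6 n16003 = n15539 := d34_1 D16003 (iv D15539) (iv F60234)
def n16004 : Q := act 7 n15256
theorem D16004 : act 7 n15256 = n16004 := rfl
theorem F63233 : act 1 n16004 = n15396 := d13_1 D16004 (iv D15396) (iv F60235)
theorem F63234 : act 3 n16004 = n15406 := d24_1 D16004 (iv D15406) F57505 (iv F56875) (iv F60236)
theorem F63235 : act 5 n16004 = n15259 := d31_1 D16004 (iv D15259) (iv F60237)
theorem F63236 : act 6 n16004 = n15569 := d33_1 D16004 (iv D15569) (iv F60238)
def n16005 : Q := act 8 n15257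
theorem D16005 : act 8 n15257 = n16005 := rfl
theorem F63237 : act 0 n16005 = n15554 := d7_1 D16005 (iv D15554) F60244
theorem F63238 : act 1 n16005 = n15258 := d14_1 D16005 (iv D15258) D15257
theorem F63239 : act 2 n16005 = n15398 := d20_1 D16005 (iv D15398) (iv F60239)
theorem F63240 : act 3 n16005 = n15272 := d25_1 D16005 (iv D15272) (iv F60240)
theorem F63241 : act 5 n16005 = n15418 := d32_1 D16005 (iv D15418) (iv F60241)
theorem F63242 : act 6 n16005 = n15262 := d34_1 D16005 (iv D15262) (iv F60242)
def n16006 : Q := act 7 n15258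
theorem D16006 : act 7 n15258 = n16006 := rfl
theorem F63243 : act 2 n16006 = n15259 := d19_1 D16006 (iv D15259) (iv F60245)
theorem F63244 : act 6 n16006 = n15266 := d33_1 D16006 (iv D15266) (iv F60247)
def n16007 : Q := act 4 n15260
theorem D16007 : act 4 n15260 = n16007 := rfl
theorem F63245 : act 0 n16007 = n15261 := d3_1 D16007 (iv D15261) D15260
theorem F63246 : act 1 n16007 = n15850 := d10_1 D16007 F62740 F62734
theorem F63247 : act 2 n16007 = n15403 := d16_1 D16007 (iv D15403) (iv F60251)
theorem F63248 : act 3 n16007 = n15615 := d21_1 D16007 F61677 F59497 F56941 (iv F60252)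
theorem F63249 : act 6 n16007 = n15552 := d27_2 (iv F60254) D16007 (iv D15552)
theorem F63250 : act 7 n16007 = n15590 := d28_2 F61002 D16007 F61595
theorem F63251 : act 5 n15591 = n16007 := d37_1 D15591 (iv D16007) F60252 F56937 F53413 (iv D12584) F45481 F39561 D10470 F40830 F33733 F33732 (iv F33615) F33617 D10543 F41107 (iv F46807) F46806 (iv F46670) (iv F50155) (iv F54112) (iv D13711) (iv D12720) (iv D11712) (iv F46112) F46111 F46110 (iv D10405) (iv F39371) F39370 (iv F40440) (iv D10349) F32489 F24021 D6240 F24087 F22093 D7795 F38626 (iv F40333) (iv F46217) F46220 (iv F46236) D12764 F50293 F52782 (iv F56323) F56322 F53199 F49179 D12508 F49188 (iv F49208) F49207 (iv F51588) F51592 (iv F51928) F51927 (iv F55806) (iv F59191) (iv D15000) (iv F58329)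
def n16008 : Q := act 8 n15260
theorem D16008 : act 8 n15260 = n16008 := rfl
theorem F63252 : act 0 n16008 = n15262 := d7_1 D16008 (iv D15262) D15260
theorem F63253 : act 2 n16008 = n15404 := d20_1 D16008 (iv D15404) (iv F60251)
theorem F63254 : act 3 n16008 = n15277 := d25_1 D16008 (iv D15277) (iv F60252)
theorem F63255 : act 5 n16008 = n15575 := d32_1 D16008 (iv D15575) (iv F60253)
theorem F63256 : act 6 n16008 = n15554 := d34_1 D16008 (iv D15554) (iv F60254)
def n16009 : Q := act 3 n15261
theorem D16009 : act 3 n15261 = n16009 := rfl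
theorem F63257 : act 0 n16009 = n15615 := d2_1 D16009 (iv F63248) F63245
theorem F63258 : act 1 n16009 = n15263 := d9_1 D16009 (iv D15263) (iv F60255)
theorem F63259 : act 2 n16009 = n15500 := d15_1 D16009 F61248 F59052 F57502 (iv F60256)
theorem F63260 : act 4 n16009 = n15278 := d21_2 D15261 D16009 (iv D15278) (iv D14435) (iv F56882)
theorem F63261 : act 5 n16009 = n15470 := d22_2 F60258 D16009 F61144
theorem F63262 : act 6 n16009 = n15805 := d23_2 F62961 D16009 (iv F62959)
theorem F63263 : act 7 n16009 = n15469 := d24_2 (iv F60257) D16009 F61141 F57829 (iv F59188)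
def n16010 : Q := act 8 n15261
theorem D16010 : act 8 n15261 = n16010 := rfl
theorem F63264 : act 1 n16010 = n15265 := d14_1 D16010 (iv D15265) (iv F60255)
theorem F63265 : act 2 n16010 = n15405 := d20_1 D16010 (iv D15405) (iv F60256)
theorem F63266 : act 4 n16010 = n15262 := d29_1 D16010 (iv D15262) D15261
theorem F63267 : act 5 n16010 = n15780 := d32_1 D16010 F62329 F60258
def n16011 : Q := act 7 n15262
theorem D16011 : act 7 n15262 = n16011 := rfl
theorem F63268 : act 1 n16011 = n15266 := d13_1 D16011 (iv D15266) (iv F60259)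
theorem F63269 : act 2 n16011 = n15406 := d19_1 D16011 (iv D15406) (iv F60260)
theorem F63270 : act 5 n16011 = n15579 := d31_1 D16011 (iv D15579) (iv F60262)
def n16012 : Q := act 5 n15263
theorem D16012 : act 5 n15263 = n16012 := rfl
theorem F63271 : act 0 n16012 = n15801 := d4_1 D16012 F62758 F62752
theorem F63272 : act 1 n16012 = n15470 := d11_1 D16012 (iv F63261) F63258
theorem F63273 : act 2 n16012 = n16012 := d17_1 D16012 (iv D16012) F60263
theorem F63274 : act 3 n16012 = n15264 := d22_1 D16012 (iv D15264) D15263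
theorem F63275 : act 7 n16012 = n15466 := d31_2 F62807 D16012 (iv F62805)
theorem F63276 : act 6 n15480 = n16012 := d33_3 F63275 F61129 D15480
def n16013 : Q := act 8 n15263
theorem D16013 : act 8 n15263 = n16013 := rfl
theorem F63277 : act 2 n16013 = n16013 := d20_1 D16013 (iv D16013) F60263
theorem F63278 : act 3 n16013 = n15265 := d25_1 D16013 (iv D15265) D15263
theorem F63279 : act 4 n16013 = n15284 := d29_1 D16013 (iv D15284) (iv F60264)
def n16014 : Q := act 6 n15264
theorem D16014 : act 6 n15264 = n16014 := rfl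
theorem F63280 : act 1 n16014 = n15456 := d12_1 D16014 F61094 (iv F60265)
theorem F63281 : act 2 n16014 = n15267 := d18_1 D16014 (iv D15267) (iv F60266)
theorem F63282 : act 3 n16014 = n15480 := d23_1 D16014 F63276 F63274
theorem F63283 : act 4 n16014 = n15583 := d27_1 D16014 (iv D15583) (iv F60267)
theorem F63284 : act 7 n16014 = n15452 := d33_2 (iv F60268) D16014 F61080
def n16015 : Q := act 8 n15264
theorem D16015 : act 8 n15264 = n16015 := rfl
theorem F63285 : act 1 n16015 = n15780 := d14_1 D16015 F62329 (iv F60265)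
theorem F63286 : act 2 n16015 = n15268 := d20_1 D16015 (iv D15268) (iv F60266)
theorem F63287 : act 4 n16015 = n15584 := d29_1 D16015 (iv D15584) (iv F60267)
theorem F63288 : act 5 n16015 = n15265 := d32_1 D16015 (iv D15265) D15264
def n16016 : Q := act 7 n15265
theorem D16016 : act 7 n15265 = n16016 := rfl
theorem F63289 : act 2 n16016 = n15269 := d19_1 D16016 (iv D15269) (iv F60269)
theorem F63290 : act 4 n16016 = n15266 := d28_1 D16016 (iv D15266) (iv F60270)
def n16017 : Q := act 3 n15266
theorem D16017 : act 3 n15266 = n16017 := rfl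
theorem F63291 : act 2 n16017 = n15845 := d15_1 D16017 (iv D15845) F59463 (iv F56896) (iv F60271)
theorem F63292 : act 5 n16017 = n15586 := d22_2 (iv F60272) D16017 (iv D15586)
theorem F63293 : act 7 n16017 = n15288 := d24_2 D15266 D16017 (iv D15288) (iv D14440) (iv F56886)
def n16018 : Q := act 8 n15267
theorem D16018 : act 8 n15267 = n16018 := rfl
theorem F63294 : act 1 n16018 = n15408 := d14_1 D16018 (iv D15408) (iv F60273)
theorem F63295 : act 3 n16018 = n16018 := d25_1 D16018 (iv D16018) F60274
theorem F63296 : act 4 n16018 = n15587 := d29_1 D16018 (iv D15587) (iv F60275)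
theorem F63297 : act 6 n16018 = n15268 := d34_1 D16018 (iv D15268) D15267
def n16019 : Q := act 7 n15268
theorem D16019 : act 7 n15268 = n16019 := rfl
theorem F63298 : act 1 n16019 = n15409 := d13_1 D16019 (iv D15409) (iv F60277)
theorem F63299 : act 4 n16019 = n15588 := d28_1 D16019 (iv D15588) (iv F60279)
theorem F63300 : act 5 n16019 = n15269 := d31_1 D16019 (iv D15269) (iv F60280)
theorem F63301 : act 8 n16019 = n15748 := d35_2 D15268 D16019 F62189 F58931 (iv F56891)
def n16020 : Q := act 3 n15269
theorem D16020 : act 3 n15269 = n16020 := rfl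
theorem F63302 : act 1 n16020 = n15410 := d9_1 D16020 (iv D15410) (iv F60281)
theorem F63303 : act 4 n16020 = n15848 := d21_2 (iv F60282) D16020 (iv D15848) F59474 (iv F56896)
theorem F63304 : act 7 n16020 = n16020 := d24_2 D15269 D16020 (iv D16020) (iv D15269) F56893
def n16021 : Q := act 7 n15270
theorem D16021 : act 7 n15270 = n16021 := rfl
theorem F63305 : act 1 n16021 = n15419 := d13_1 D16021 (iv D15419) (iv F60283)
theorem F63306 : act 2 n16021 = n15271 := d19_1 D16021 (iv D15271) (iv F60284)
theorem F63307 : act 4 n16021 = n15417 := d28_1 D16021 (iv D15417) (iv F60285)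
theorem F63308 : act 5 n16021 = n15275 := d31_1 D16021 (iv D15275) (iv F60286)
theorem F63309 : act 6 n16021 = n15543 := d33_1 D16021 (iv D15543) (iv F60287)
theorem F63310 : act 8 n16021 = n15294 := d35_2 D15270 D16021 (iv D15294) (iv D14445) (iv F56909)
def n16022 : Q := act 7 n15272
theorem D16022 : act 7 n15272 = n16022 := rfl
theorem F63311 : act 0 n16022 = n15557 := d6_1 D16022 (iv D15557) (iv F60294)
theorem F63312 : act 1 n16022 = n15275 := d13_1 D16022 (iv D15275) (iv F60295)
theorem F63313 : act 2 n16022 = n15353 := d19_1 D16022 (iv D15353) (iv F60296)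
theorem F63314 : act 4 n16022 = n15810 := d28_1 D16022 (iv D15810) (iv F60297)
theorem F63315 : act 5 n16022 = n15419 := d31_1 D16022 (iv D15419) (iv F60298)
theorem F63316 : act 6 n16022 = n15281 := d33_1 D16022 (iv D15281) (iv F60299)
theorem F63317 : act 8 n16022 = n15299 := d35_2 D15272 D16022 (iv D15299) (iv D14450) (iv F56918)
def n16023 : Q := act 8 n15273
theorem D16023 : act 8 n15273 = n16023 := rfl
theorem F63318 : act 1 n16023 = n15807 := d14_1 D16023 (iv D15807) (iv F60300)
theorem F63319 : act 2 n16023 = n16023 := d20_1 D16023 (iv D16023) F60301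
theorem F63320 : act 3 n16023 = n15274 := d25_1 D16023 (iv D15274) D15273
theorem F63321 : act 5 n16023 = n15802 := d32_1 D16023 (iv D15802) (iv F60302)
theorem F63322 : act 6 n16023 = n15284 := d34_1 D16023 (iv D15284) (iv F60303)
def n16024 : Q := act 7 n15274
theorem D16024 : act 7 n15274 = n16024 := rfl
theorem F63323 : act 1 n16024 = n15810 := d13_1 D16024 (iv D15810) (iv F60304)
theorem F63324 : act 2 n16024 = n15276 := d19_1 D16024 (iv D15276) (iv F60305)
theorem F63325 : act 4 n16024 = n15275 := d28_1 D16024 (iv D15275) (iv F60306)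
theorem F63326 : act 5 n16024 = n15803 := d31_1 D16024 (iv D15803) (iv F60307)
theorem F63327 : act 6 n16024 = n15287 := d33_1 D16024 (iv D15287) (iv F60308)
theorem F63328 : act 8 n16024 = n15304 := d35_2 D15274 D16024 (iv D15304) (iv D14453) (iv F56925)
def n16025 : Q := act 3 n15275
theorem D16025 : act 3 n15275 = n16025 := rfl
theorem F63329 : act 2 n16025 = n15601 := d15_1 D16025 (iv D15601) F58359 (iv F56934) (iv F60309)
theorem F63330 : act 6 n16025 = n15288 := d23_2 (iv F60310) D16025 (iv D15288)
theorem F63331 : act 8 n16025 = n15305 := d25_2 (iv F60311) D16025 (iv D15305)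
def n16026 : Q := act 3 n15276
theorem D16026 : act 3 n15276 = n16026 := rfl
theorem F63332 : act 1 n16026 = n15354 := d9_1 D16026 (iv D15354) (iv F60312)
theorem F63333 : act 4 n16026 = n15676 := d21_2 (iv F60313) D16026 (iv D15676) F58586 (iv F56934)
theorem F63334 : act 5 n16026 = n15830 := d22_2 (iv F60314) D16026 (iv D15830)
theorem F63335 : act 6 n16026 = n15291 := d23_2 (iv F60315) D16026 (iv D15291)
theorem F63336 : act 7 n16026 = n16026 := d24_2 D15276 D16026 (iv D16026) (iv D15276) F56929
theorem F63337 : act 8 n16026 = n15308 := d25_2 (iv F60316) D16026 (iv D15308)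
def n16027 : Q := act 7 n15277
theorem D16027 : act 7 n15277 = n16027 := rfl
theorem F63338 : act 0 n16027 = n15281 := d6_1 D16027 (iv D15281) (iv F60317)
theorem F63339 : act 2 n16027 = n15355 := d19_1 D16027 (iv D15355) (iv F60318)
theorem F63340 : act 4 n16027 = n15865 := d28_1 D16027 (iv D15865) (iv F60319)
theorem F63341 : act 5 n16027 = n15595 := d31_1 D16027 (iv D15595) (iv F60320)
theorem F63342 : act 6 n16027 = n15557 := d33_1 D16027 (iv D15557) (iv F60321)
theorem F63343 : act 8 n16027 = n15312 := d35_2 D15277 D16027 (iv D15312) (iv D14459) (iv F56940)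
def n16028 : Q := act 5 n15278
theorem D16028 : act 5 n15278 = n16028 := rfl
theorem F63344 : act 0 n16028 = n15631 := d4_1 D16028 F61732 (iv F60322)
theorem F63345 : act 1 n16028 = n15282 := d11_1 D16028 (iv D15282) (iv F60323)
theorem F63346 : act 2 n16028 = n15705 := d17_1 D16028 F61997 (iv F60324)
theorem F63347 : act 3 n16028 = n15279 := d22_1 D16028 (iv D15279) D15278
theorem F63348 : act 6 n16028 = n15624 := d30_2 (iv F60325) D16028 (iv D15624) F58413 D15031
def n16029 : Q := act 7 n15278
theorem D16029 : act 7 n15278 = n16029 := rfl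
theorem F63349 : act 0 n16029 = n15613 := d6_1 D16029 (iv F61668) (iv F60322)
theorem F63350 : act 1 n16029 = n15283 := d13_1 D16029 (iv D15283) (iv F60323)
theorem F63351 : act 2 n16029 = n15498 := d19_1 D16029 (iv F61239) (iv F60324)
theorem F63352 : act 3 n16029 = n15314 := d24_1 D16029 (iv D15314) (iv D14460) (iv F56946) D15278
theorem F63353 : act 4 n16029 = n15469 := d28_1 D16029 (iv F63263) F63260
theorem F63354 : act 6 n16029 = n15806 := d33_1 D16029 (iv D15806) (iv F60325)
def n16030 : Q := act 8 n15278
theorem D16030 : act 8 n15278 = n16030 := rfl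
theorem F63355 : act 0 n16030 = n15860 := d7_1 D16030 (iv D15860) (iv F60322)
theorem F63356 : act 1 n16030 = n15284 := d14_1 D16030 (iv D15284) (iv F60323)
theorem F63357 : act 2 n16030 = n15816 := d20_1 D16030 (iv D15816) (iv F60324)
theorem F63358 : act 3 n16030 = n15280 := d25_1 D16030 (iv D15280) D15278
theorem F63359 : act 6 n16030 = n15807 := d34_1 D16030 (iv D15807) (iv F60325)
def n16031 : Q := act 8 n15279
theorem D16031 : act 8 n15279 = n16031 := rfl
theorem F63360 : act 0 n16031 = n15636 := d7_1 D16031 (iv D15636) (iv F60326)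
theorem F63361 : act 1 n16031 = n15286 := d14_1 D16031 (iv D15286) (iv F60327)
theorem F63362 : act 2 n16031 = n15356 := d20_1 D16031 (iv D15356) (iv F60328)
theorem F63363 : act 4 n16031 = n15599 := d29_1 D16031 (iv D15599) (iv F60329)
theorem F63364 : act 5 n16031 = n15280 := d32_1 D16031 (iv D15280) D15279
theorem F63365 : act 6 n16031 = n15627 := d34_1 D16031 (iv D15627) (iv F60330)
def n16032 : Q := act 7 n15280
theorem D16032 : act 7 n15280 = n16032 := rfl
theorem F63366 : act 0 n16032 = n15865 := d6_1 D16032 (iv D15865) (iv F60332)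
theorem F63367 : act 1 n16032 = n15287 := d13_1 D16032 (iv D15287) (iv F60333)
theorem F63368 : act 2 n16032 = n15357 := d19_1 D16032 (iv D15357) (iv F60334)
theorem F63369 : act 4 n16032 = n15281 := d28_1 D16032 (iv D15281) (iv F60335)
theorem F63370 : act 6 n16032 = n15810 := d33_1 D16032 (iv D15810) (iv F60336)
theorem F63371 : act 8 n16032 = n15318 := d35_2 D15280 D16032 (iv D15318) (iv D14462) (iv F56946)
def n16033 : Q := act 3 n15281
theorem D16033 : act 3 n15281 = n16033 := rfl
theorem F63372 : act 1 n16033 = n15288 := d9_1 D16033 (iv D15288) (iv F60337)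
theorem F63373 : act 5 n16033 = n15601 := d22_2 (iv F60339) D16033 (iv D15601)
theorem F63374 : act 8 n16033 = n15319 := d25_2 (iv F60340) D16033 (iv D15319)
def n16034 : Q := act 4 n15282
theorem D16034 : act 4 n15282 = n16034 := rfl
theorem F63375 : act 2 n16034 = n16034 := d16_1 D16034 (iv D16034) F60341
theorem F63376 : act 3 n16034 = n15602 := d21_1 D16034 (iv D15602) F58363 (iv F56952) (iv F60342)
def n16035 : Q := act 6 n15282
theorem D16035 : act 6 n15282 = n16035 := rfl
theorem F63377 : act 0 n16035 = n15479 := d5_1 D16035 (iv F62851) F62847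
theorem F63378 : act 1 n16035 = n15624 := d12_1 D16035 (iv F63348) F63345
theorem F63379 : act 2 n16035 = n16035 := d18_1 D16035 (iv D16035) F60341
theorem F63380 : act 3 n16035 = n15285 := d23_1 D16035 (iv D15285) (iv F60342)
theorem F63381 : act 5 n16035 = n15476 := d30_1 D16035 F61169 (iv F60302) F60303 D15282
theorem F63382 : act 7 n16034 = n16035 := d24_0 F63380 F60352 (iv F60497) F61639 (iv F63376)
def n16036 : Q := act 7 n15282
theorem D16036 : act 7 n15282 = n16036 := rfl
theorem F63383 : act 2 n16036 = n16036 := d19_1 D16036 (iv D16036) F60341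
theorem F63384 : act 3 n16036 = n15322 := d24_1 D16036 (iv D15322) F57052 (iv F56953) (iv F60342)
theorem F63385 : act 4 n16036 = n16035 := d28_1 D16036 (iv F63382) (iv D16034)
theorem F63386 : act 5 n16036 = n15283 := d31_1 D16036 (iv D15283) D15282
theorem F63387 : act 6 n16036 = n16034 := d33_1 D16036 F63382 (iv D16035)
def n16037 : Q := act 8 n15282
theorem D16037 : act 8 n15282 = n16037 := rfl
theorem F63388 : act 2 n16037 = n16037 := d20_1 D16037 (iv D16037) F60341
theorem F63389 : act 3 n16037 = n15286 := d25_1 D16037 (iv D15286) (iv F60342)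
theorem F63390 : act 5 n16037 = n15284 := d32_1 D16037 (iv D15284) D15282
def n16038 : Q := act 8 n15283
theorem D16038 : act 8 n15283 = n16038 := rfl
theorem F63391 : act 2 n16038 = n16038 := d20_1 D16038 (iv D16038) F60343
theorem F63392 : act 3 n16038 = n15324 := d25_1 D16038 (iv D15324) (iv F60344)
def n16039 : Q := act 7 n15284
theorem D16039 : act 7 n15284 = n16039 := rfl
theorem F63393 : act 2 n16039 = n16039 := d19_1 D16039 (iv D16039) F60345
def n16040 : Q := act 8 n15285
theorem D16040 : act 8 n15285 = n16040 := rfl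
theorem F63394 : act 0 n16040 = n15482 := d7_1 D16040 (iv D15482) (iv F60347)
theorem F63395 : act 1 n16040 = n15627 := d14_1 D16040 (iv D15627) (iv F60348)
theorem F63396 : act 2 n16040 = n15289 := d20_1 D16040 (iv D15289) (iv F60349)
theorem F63397 : act 4 n16040 = n15608 := d29_1 D16040 (iv D15608) (iv F60350)
theorem F63398 : act 5 n16040 = n15477 := d32_1 D16040 (iv D15477) (iv F60351)
theorem F63399 : act 6 n16040 = n15286 := d34_1 D16040 (iv D15286) D15285
def n16041 : Q := act 7 n15286
theorem D16041 : act 7 n15286 = n16041 := rfl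
theorem F63400 : act 2 n16041 = n15290 := d19_1 D16041 (iv D15290) (iv F60353)
theorem F63401 : act 4 n16041 = n15609 := d28_1 D16041 (iv D15609) (iv F60354)
theorem F63402 : act 5 n16041 = n15287 := d31_1 D16041 (iv D15287) (iv F60355)
theorem F63403 : act 8 n16041 = n15327 := d35_2 D15286 D16041 (iv D15327) (iv D14468) (iv F56953)
def n16042 : Q := act 3 n15287
theorem D16042 : act 3 n15287 = n16042 := rfl
theorem F63404 : act 8 n16042 = n15328 := d25_2 (iv F60358) D16042 (iv D15328)
def n16043 : Q := act 4 n15288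
theorem D16043 : act 4 n15288 = n16043 := rfl
theorem F63405 : act 2 n16043 = n15856 := d16_1 D16043 (iv D15856) (iv F60359)
theorem F63406 : act 8 n16043 = n15329 := d29_2 (iv F60361) D16043 (iv D15329)
def n16044 : Q := act 7 n15289
theorem D16044 : act 7 n15289 = n16044 := rfl
theorem F63407 : act 0 n16044 = n15528 := d6_1 D16044 (iv D15528) (iv F60362)
theorem F63408 : act 1 n16044 = n15360 := d13_1 D16044 (iv D15360) (iv F60363)
theorem F63409 : act 4 n16044 = n15612 := d28_1 D16044 (iv D15612) (iv F60365)
theorem F63410 : act 5 n16044 = n15526 := d31_1 D16044 (iv D15526) (iv F60366)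
theorem F63411 : act 6 n16044 = n15290 := d33_1 D16044 (iv D15290) (iv F60367)
theorem F63412 : act 8 n16044 = n15330 := d35_2 D15289 D16044 (iv D15330) (iv D14471) (iv F56964)
def n16045 : Q := act 3 n15290
theorem D16045 : act 3 n15290 = n16045 := rfl
theorem F63413 : act 1 n16045 = n15361 := d9_1 D16045 (iv D15361) (iv F60368)
theorem F63414 : act 5 n16045 = n15291 := d22_2 (iv F60370) D16045 (iv D15291)
theorem F63415 : act 7 n16045 = n16045 := d24_2 D15290 D16045 (iv D16045) (iv D15290) F56966
theorem F63416 : act 8 n16045 = n15331 := d25_2 (iv F60371) D16045 (iv D15331)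
def n16046 : Q := act 2 n15291
theorem D16046 : act 2 n15291 = n16046 := rfl
theorem F63417 : act 4 n16046 = n15858 := d16_2 (iv F60373) D16046 (iv D15858)
theorem F63418 : act 7 n16046 = n16046 := d19_2 F60374 D16046 (iv D16046)
theorem F63419 : act 8 n16046 = n15332 := d20_2 (iv F60375) D16046 (iv D15332)
def n16047 : Q := act 8 n15292
theorem D16047 : act 8 n15292 = n16047 := rfl
theorem F63420 : act 1 n16047 = n15411 := d14_1 D16047 (iv D15411) (iv F60376)
theorem F63421 : act 2 n16047 = n16047 := d20_1 D16047 (iv D16047) F60377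
theorem F63422 : act 3 n16047 = n15293 := d25_1 D16047 (iv D15293) D15292
theorem F63423 : act 5 n16047 = n15788 := d32_1 D16047 (iv D15788) (iv F60378)
theorem F63424 : act 6 n16047 = n15548 := d34_1 D16047 (iv D15548) (iv F60379)
def n16048 : Q := act 7 n15293
theorem D16048 : act 7 n15293 = n16048 := rfl
theorem F63425 : act 1 n16048 = n15413 := d13_1 D16048 (iv D15413) (iv F60381)
theorem F63426 : act 2 n16048 = n15295 := d19_1 D16048 (iv D15295) (iv F60382)
theorem F63427 : act 4 n16048 = n15294 := d28_1 D16048 (iv D15294) (iv F60383)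
theorem F63428 : act 5 n16048 = n15795 := d31_1 D16048 (iv D15795) (iv F60384)
theorem F63429 : act 6 n16048 = n15550 := d33_1 D16048 (iv D15550) (iv F60385)
theorem F63430 : act 8 n16048 = n15417 := d35_2 D15293 D16048 (iv D15417) (iv D14589) (iv F56975)
def n16049 : Q := act 3 n15294
theorem D16049 : act 3 n15294 = n16049 := rfl
theorem F63431 : act 1 n16049 = n15545 := d9_1 D16049 (iv D15545) (iv F60386)
theorem F63432 : act 2 n16049 = n15319 := d15_1 D16049 (iv D15319) F57049 (iv F56987) (iv F60387)
theorem F63433 : act 5 n16049 = n15305 := d22_2 (iv F60388) D16049 (iv D15305)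
theorem F63434 : act 6 n16049 = n15551 := d23_2 (iv F60389) D16049 (iv D15551)
def n16050 : Q := act 3 n15295
theorem D16050 : act 3 n15295 = n16050 := rfl
theorem F63435 : act 1 n16050 = n15363 := d9_1 D16050 (iv D15363) (iv F60390)
theorem F63436 : act 4 n16050 = n15374 := d21_2 (iv F60391) D16050 (iv D15374) F57303 (iv F56987)
theorem F63437 : act 5 n16050 = n15827 := d22_2 (iv F60392) D16050 (iv D15827)
theorem F63438 : act 6 n16050 = n15567 := d23_2 (iv F60393) D16050 (iv D15567)
theorem F63439 : act 7 n16050 = n16050 := d24_2 D15295 D16050 (iv D16050) (iv D15295) F56982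
theorem F63440 : act 8 n16050 = n15425 := d25_2 (iv F60394) D16050 (iv D15425)
def n16051 : Q := act 7 n15296
theorem D16051 : act 7 n15296 = n16051 := rfl
theorem F63441 : act 0 n16051 = n15299 := d6_1 D16051 (iv D15299) (iv F60395)
theorem F63442 : act 2 n16051 = n15364 := d19_1 D16051 (iv D15364) (iv F60396)
theorem F63443 : act 4 n16051 = n15854 := d28_1 D16051 (iv D15854) (iv F60398)
theorem F63444 : act 5 n16051 = n15415 := d31_1 D16051 (iv D15415) (iv F60399)
theorem F63445 : act 6 n16051 = n15312 := d33_1 D16051 (iv D15312) (iv F60400)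
theorem F63446 : act 8 n16051 = n15557 := d35_2 D15296 D16051 (iv D15557) (iv D14740) (iv F56994)
def n16052 : Q := act 8 n15297
theorem D16052 : act 8 n15297 = n16052 := rfl
theorem F63447 : act 0 n16052 = n15851 := d7_1 D16052 (iv D15851) (iv F60401)
theorem F63448 : act 1 n16052 = n15301 := d14_1 D16052 (iv D15301) (iv F60402)
theorem F63449 : act 2 n16052 = n16052 := d20_1 D16052 (iv D16052) F60403
theorem F63450 : act 3 n16052 = n15298 := d25_1 D16052 (iv D15298) D15297
theorem F63451 : act 4 n16052 = n16047 := d29_1 D16052 (iv D16047) (iv F60404)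
theorem F63452 : act 5 n16052 = n15797 := d32_1 D16052 (iv D15797) (iv F60405)
theorem F63453 : act 6 n16052 = n15315 := d34_1 D16052 (iv D15315) (iv F60406)
def n16053 : Q := act 7 n15298
theorem D16053 : act 7 n15298 = n16053 := rfl
theorem F63454 : act 0 n16053 = n15854 := d6_1 D16053 (iv D15854) (iv F60407)
theorem F63455 : act 1 n16053 = n15304 := d13_1 D16053 (iv D15304) (iv F60408)
theorem F63456 : act 2 n16053 = n15365 := d19_1 D16053 (iv D15365) (iv F60409)
theorem F63457 : act 4 n16053 = n15299 := d28_1 D16053 (iv D15299) (iv F60410)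
theorem F63458 : act 5 n16053 = n15798 := d31_1 D16053 (iv D15798) (iv F60411)
theorem F63459 : act 6 n16053 = n15318 := d33_1 D16053 (iv D15318) (iv F60412)
theorem F63460 : act 8 n16053 = n15810 := d35_2 D15298 D16053 (iv D15810) (iv D15034) (iv F57001)
def n16054 : Q := act 3 n15299
theorem D16054 : act 3 n15299 = n16054 := rfl
theorem F63461 : act 1 n16054 = n15305 := d9_1 D16054 (iv D15305) (iv F60413)
theorem F63462 : act 2 n16054 = n15551 := d15_1 D16054 (iv D15551) F58184 (iv F57254) (iv F60414)
theorem F63463 : act 5 n16054 = n15545 := d22_2 (iv F60415) D16054 (iv D15545)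
theorem F63464 : act 6 n16054 = n15319 := d23_2 (iv F60416) D16054 (iv D15319)
theorem F63465 : act 7 n16054 = n16049 := d24_2 D15299 D16054 (iv D16049) (iv D15294) (iv F57004)
def n16055 : Q := act 6 n15300
theorem D16055 : act 6 n15300 = n16055 := rfl
theorem F63466 : act 0 n16055 = n15452 := d5_1 D16055 F61080 (iv F60417)
theorem F63467 : act 1 n16055 = n15593 := d12_1 D16055 F61606 (iv F60418)
theorem F63468 : act 2 n16055 = n15333 := d18_1 D16055 (iv D15333) (iv F60419)
theorem F63469 : act 3 n16055 = n15302 := d23_1 D16055 (iv D15302) (iv F60420)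
theorem F63470 : act 5 n16055 = n15321 := d30_1 D16055 (iv D15321) (iv D14464) (iv F57008) D15300
def n16056 : Q := act 8 n15300
theorem D16056 : act 8 n15300 = n16056 := rfl
theorem F63471 : act 0 n16056 = n15671 := d7_1 D16056 F61859 (iv F60417)
theorem F63472 : act 1 n16056 = n15797 := d14_1 D16056 (iv D15797) (iv F60418)
theorem F63473 : act 2 n16056 = n15334 := d20_1 D16056 (iv D15334) (iv F60419)
theorem F63474 : act 3 n16056 = n15303 := d25_1 D16056 (iv D15303) (iv F60420)
theorem F63475 : act 5 n16056 = n15301 := d32_1 D16056 (iv D15301) D15300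
def n16057 : Q := act 7 n15301
theorem D16057 : act 7 n15301 = n16057 := rfl
theorem F63476 : act 2 n16057 = n15335 := d19_1 D16057 (iv D15335) (iv F60421)
theorem F63477 : act 6 n16057 = n15325 := d33_1 D16057 (iv D15325) (iv F60423)
def n16058 : Q := act 8 n15302
theorem D16058 : act 8 n15302 = n16058 := rfl
theorem F63478 : act 0 n16058 = n15453 := d7_1 D16058 (iv D15453) (iv F60424)
theorem F63479 : act 1 n16058 = n15594 := d14_1 D16058 (iv D15594) (iv F60425)
theorem F63480 : act 2 n16058 = n15306 := d20_1 D16058 (iv D15306) (iv F60426)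
theorem F63481 : act 4 n16058 = n15451 := d29_1 D16058 (iv D15451) (iv F60427)
theorem F63482 : act 5 n16058 = n15326 := d32_1 D16058 (iv D15326) (iv F60428)
theorem F63483 : act 6 n16058 = n15303 := d34_1 D16058 (iv D15303) D15302
def n16059 : Q := act 7 n15303
theorem D16059 : act 7 n15303 = n16059 := rfl
theorem F63484 : act 0 n16059 = n15652 := d6_1 D16059 F61785 (iv F60430)
theorem F63485 : act 1 n16059 = n15798 := d13_1 D16059 (iv D15798) (iv F60431)
theorem F63486 : act 2 n16059 = n15307 := d19_1 D16059 (iv D15307) (iv F60432)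
theorem F63487 : act 4 n16059 = n15795 := d28_1 D16059 (iv D15795) (iv F60433)
theorem F63488 : act 5 n16059 = n15304 := d31_1 D16059 (iv D15304) (iv F60434)
theorem F63489 : act 8 n16059 = n15803 := d35_2 D15303 D16059 (iv D15803) (iv D15029) (iv F57013)
def n16060 : Q := act 3 n15304
theorem D16060 : act 3 n15304 = n16060 := rfl
theorem F63490 : act 6 n16060 = n15328 := d23_2 (iv F60437) D16060 (iv D15328)
def n16061 : Q := act 4 n15305
theorem D16061 : act 4 n15305 = n16061 := rfl
theorem F63491 : act 2 n16061 = n15639 := d16_1 D16061 (iv D15639) (iv F60438)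
theorem F63492 : act 6 n16061 = n15329 := d27_2 (iv F60439) D16061 (iv D15329)
def n16062 : Q := act 7 n15306
theorem D16062 : act 7 n15306 = n16062 := rfl
theorem F63493 : act 0 n16062 = n15519 := d6_1 D16062 (iv D15519) (iv F60440)
theorem F63494 : act 1 n16062 = n15367 := d13_1 D16062 (iv D15367) (iv F60441)
theorem F63495 : act 3 n16062 = n15893 := d24_1 D16062 F62680 F59616 F57102 (iv F60442)
theorem F63496 : act 4 n16062 = n15518 := d28_1 D16062 (iv D15518) (iv F60443)
theorem F63497 : act 5 n16062 = n15330 := d31_1 D16062 (iv D15330) (iv F60444)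
theorem F63498 : act 6 n16062 = n15307 := d33_1 D16062 (iv D15307) (iv F60445)
theorem F63499 : act 8 n16062 = n15526 := d35_2 D15306 D16062 (iv D15526) (iv D14700) (iv F57024)
def n16063 : Q := act 3 n15307
theorem D16063 : act 3 n15307 = n16063 := rfl
theorem F63500 : act 0 n16063 = n15684 := d2_1 D16063 F61903 (iv F60446)
theorem F63501 : act 1 n16063 = n15368 := d9_1 D16063 (iv D15368) (iv F60447)
theorem F63502 : act 5 n16063 = n15308 := d22_2 (iv F60449) D16063 (iv D15308)
theorem F63503 : act 6 n16063 = n15893 := d23_2 F63498 D16063 (iv F63495)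
theorem F63504 : act 7 n16063 = n15339 := d24_2 D15307 D16063 (iv D15339) (iv D14480) (iv F57027)
theorem F63505 : act 8 n16063 = n15830 := d25_2 (iv F60450) D16063 (iv D15830)
def n16064 : Q := act 2 n15308
theorem D16064 : act 2 n15308 = n16064 := rfl
theorem F63506 : act 4 n16064 = n15682 := d16_2 (iv F60452) D16064 (iv D15682)
theorem F63507 : act 6 n16064 = n15332 := d18_2 (iv F60453) D16064 (iv D15332)
theorem F63508 : act 7 n16064 = n15340 := d19_2 (iv F60454) D16064 (iv D15340)
def n16065 : Q := act 5 n15309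
theorem D16065 : act 5 n15309 = n16065 := rfl
theorem F63509 : act 0 n16065 = n15313 := d4_1 D16065 (iv D15313) (iv F60455)
theorem F63510 : act 1 n16065 = n15603 := d11_1 D16065 (iv F62938) F62935
theorem F63511 : act 2 n16065 = n16065 := d17_1 D16065 (iv D16065) F60456
theorem F63512 : act 3 n16065 = n15310 := d22_1 D16065 (iv D15310) D15309
theorem F63513 : act 6 n16065 = n15596 := d30_2 (iv F60457) D16065 (iv D15596) F58350 D15080
def n16066 : Q := act 7 n15309
theorem D16066 : act 7 n15309 = n16066 := rfl
theorem F63514 : act 0 n16066 = n15314 := d6_1 D16066 (iv D15314) (iv F60455)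
theorem F63515 : act 1 n16066 = n15552 := d13_1 D16066 (iv F62940) F62935
theorem F63516 : act 2 n16066 = n16066 := d19_1 D16066 (iv D16066) F60456
theorem F63517 : act 3 n16066 = n15613 := d24_1 D16066 (iv F61668) F59497 (iv F57036) D15309
theorem F63518 : act 4 n16066 = n15546 := d28_1 D16066 (iv F61441) F61116
theorem F63519 : act 6 n16066 = n15850 := d33_1 D16066 (iv D15850) (iv F60457)
def n16067 : Q := act 8 n15309
theorem D16067 : act 8 n15309 = n16067 := rfl
theorem F63520 : act 0 n16067 = n15315 := d7_1 D16067 (iv D15315) (iv F60455)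
theorem F63521 : act 2 n16067 = n16067 := d20_1 D16067 (iv D16067) F60456
theorem F63522 : act 3 n16067 = n15311 := d25_1 D16067 (iv D15311) D15309
theorem F63523 : act 6 n16067 = n15851 := d34_1 D16067 (iv D15851) (iv F60457)
def n16068 : Q := act 8 n15310
theorem D16068 : act 8 n15310 = n16068 := rfl
theorem F63524 : act 0 n16068 = n15317 := d7_1 D16068 (iv D15317) (iv F60458)
theorem F63525 : act 1 n16068 = n15608 := d14_1 D16068 (iv D15608) (iv F60459)
theorem F63526 : act 2 n16068 = n15370 := d20_1 D16068 (iv D15370) (iv F60460)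
theorem F63527 : act 4 n16068 = n15627 := d29_1 D16068 (iv D15627) (iv F60461)
theorem F63528 : act 5 n16068 = n15311 := d32_1 D16068 (iv D15311) D15310
theorem F63529 : act 6 n16068 = n15599 := d34_1 D16068 (iv D15599) (iv F60462)
def n16069 : Q := act 7 n15311
theorem D16069 : act 7 n15311 = n16069 := rfl
theorem F63530 : act 0 n16069 = n15318 := d6_1 D16069 (iv D15318) (iv F60464)
theorem F63531 : act 2 n16069 = n15371 := d19_1 D16069 (iv D15371) (iv F60465)
theorem F63532 : act 4 n16069 = n15312 := d28_1 D16069 (iv D15312) (iv F60466)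
theorem F63533 : act 6 n16069 = n15854 := d33_1 D16069 (iv D15854) (iv F60467)
theorem F63534 : act 8 n16069 = n15865 := d35_2 D15311 D16069 (iv D15865) (iv D15094) (iv F57036)
def n16070 : Q := act 3 n15312
theorem D16070 : act 3 n15312 = n16070 := rfl
theorem F63535 : act 0 n16070 = n15319 := d2_1 D16070 (iv D15319) (iv F60468)
theorem F63536 : act 5 n16070 = n15629 := d22_2 (iv F60470) D16070 (iv D15629)
def n16071 : Q := act 4 n15313
theorem D16071 : act 4 n15313 = n16071 := rfl
theorem F63537 : act 1 n16071 = n15320 := d10_1 D16071 (iv D15320) (iv F60471)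
theorem F63538 : act 2 n16071 = n16071 := d16_1 D16071 (iv D16071) F60472
theorem F63539 : act 3 n16071 = n15630 := d21_1 D16071 (iv D15630) F58425 (iv F57044) (iv F60473)
theorem F63540 : act 5 n16071 = n16066 := d26_2 D15313 D16071 F63518 (iv D15546) F58176
theorem F63541 : act 7 n16065 = n16071 := d31_0 F63540 (iv D16066) D16065
def n16072 : Q := act 6 n15313
theorem D16072 : act 6 n15313 = n16072 := rfl
theorem F63542 : act 0 n16072 = n15596 := d5_1 D16072 (iv F63513) F63509
theorem F63543 : act 1 n16072 = n15321 := d12_1 D16072 (iv D15321) (iv F60471)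
theorem F63544 : act 2 n16072 = n16072 := d18_1 D16072 (iv D16072) F60472
theorem F63545 : act 3 n16072 = n15316 := d23_1 D16072 (iv D15316) (iv F60473)
theorem F63546 : act 5 n16072 = n15593 := d30_1 D16072 F61606 (iv F60405) F60406 D15313
def n16073 : Q := act 7 n15313
theorem D16073 : act 7 n15313 = n16073 := rfl
theorem F63547 : act 0 n16073 = n16071 := d6_1 D16073 (iv F63541) F63509
theorem F63548 : act 1 n16073 = n15322 := d13_1 D16073 (iv D15322) (iv F60471)
theorem F63549 : act 2 n16073 = n16073 := d19_1 D16073 (iv D16073) F60472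
theorem F63550 : act 4 n16073 = n16065 := d28_1 D16073 F63541 (iv D16071)
theorem F63551 : act 5 n16073 = n15314 := d31_1 D16073 (iv D15314) D15313
def n16074 : Q := act 8 n15313
theorem D16074 : act 8 n15313 = n16074 := rfl
theorem F63552 : act 1 n16074 = n15323 := d14_1 D16074 (iv D15323) (iv F60471)
theorem F63553 : act 2 n16074 = n16074 := d20_1 D16074 (iv D16074) F60472
theorem F63554 : act 3 n16074 = n15317 := d25_1 D16074 (iv D15317) (iv F60473)
theorem F63555 : act 5 n16074 = n15315 := d32_1 D16074 (iv D15315) D15313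
def n16075 : Q := act 8 n15314
theorem D16075 : act 8 n15314 = n16075 := rfl
theorem F63556 : act 1 n16075 = n15324 := d14_1 D16075 (iv D15324) (iv F60474)
theorem F63557 : act 2 n16075 = n16075 := d20_1 D16075 (iv D16075) F60475
def n16076 : Q := act 7 n15315
theorem D16076 : act 7 n15315 = n16076 := rfl
theorem F63558 : act 1 n16076 = n15325 := d13_1 D16076 (iv D15325) (iv F60476)
theorem F63559 : act 2 n16076 = n16076 := d19_1 D16076 (iv D16076) F60477
def n16077 : Q := act 8 n15316
theorem D16077 : act 8 n15316 = n16077 := rfl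
theorem F63560 : act 0 n16077 = n15599 := d7_1 D16077 (iv D15599) (iv F60479)
theorem F63561 : act 1 n16077 = n15326 := d14_1 D16077 (iv D15326) (iv F60480)
theorem F63562 : act 2 n16077 = n15372 := d20_1 D16077 (iv D15372) (iv F60481)
theorem F63563 : act 4 n16077 = n15636 := d29_1 D16077 (iv D15636) (iv F60482)
theorem F63564 : act 5 n16077 = n15594 := d32_1 D16077 (iv D15594) (iv F60483)
theorem F63565 : act 6 n16077 = n15317 := d34_1 D16077 (iv D15317) D15316
def n16078 : Q := act 7 n15317
theorem D16078 : act 7 n15317 = n16078 := rfl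
theorem F63566 : act 1 n16078 = n15327 := d13_1 D16078 (iv D15327) (iv F60485)
theorem F63567 : act 2 n16078 = n15373 := d19_1 D16078 (iv D15373) (iv F60486)
theorem F63568 : act 4 n16078 = n15637 := d28_1 D16078 (iv D15637) (iv F60487)
theorem F63569 : act 5 n16078 = n15318 := d31_1 D16078 (iv D15318) (iv F60488)
def n16079 : Q := act 3 n15318
theorem D16079 : act 3 n15318 = n16079 := rfl
theorem F63570 : act 1 n16079 = n15328 := d9_1 D16079 (iv D15328) (iv F60489)
def n16080 : Q := act 4 n15319
theorem D16080 : act 4 n15319 = n16080 := rfl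
theorem F63571 : act 1 n16080 = n15329 := d10_1 D16080 (iv D15329) (iv F60492)
def n16081 : Q := act 8 n15320
theorem D16081 : act 8 n15320 = n16081 := rfl
theorem F63572 : act 2 n16081 = n15341 := d20_1 D16081 (iv D15341) (iv F60494)
theorem F63573 : act 3 n16081 = n15640 := d25_1 D16081 (iv D15640) (iv F60495)
theorem F63574 : act 4 n16081 = n15323 := d29_1 D16081 (iv D15323) D15320
def n16082 : Q := act 8 n15321
theorem D16082 : act 8 n15321 = n16082 := rfl
theorem F63575 : act 2 n16082 = n15342 := d20_1 D16082 (iv D15342) (iv F60496)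
theorem F63576 : act 3 n16082 = n15326 := d25_1 D16082 (iv D15326) (iv F60497)
theorem F63577 : act 6 n16082 = n15323 := d34_1 D16082 (iv D15323) D15321
def n16083 : Q := act 8 n15322
theorem D16083 : act 8 n15322 = n16083 := rfl
theorem F63578 : act 2 n16083 = n15343 := d20_1 D16083 (iv D15343) (iv F60498)
theorem F63579 : act 5 n16083 = n15324 := d32_1 D16083 (iv D15324) (iv F60499)
def n16084 : Q := act 7 n15323
theorem D16084 : act 7 n15323 = n16084 := rfl
theorem F63580 : act 2 n16084 = n15344 := d19_1 D16084 (iv D15344) (iv F60500)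
theorem F63581 : act 5 n16084 = n15325 := d31_1 D16084 (iv D15325) (iv F60502)
def n16085 : Q := act 7 n15324
theorem D16085 : act 7 n15324 = n16085 := rfl
theorem F63582 : act 2 n16085 = n15345 := d19_1 D16085 (iv D15345) (iv F60503)
theorem F63583 : act 8 n16085 = n15325 := d35_2 D15324 D16085 (iv D15325) (iv D14466) D14465
def n16086 : Q := act 3 n15325
theorem D16086 : act 3 n15325 = n16086 := rfl
theorem F63584 : act 7 n16086 = n15328 := d24_2 D15325 D16086 (iv D15328) (iv D14469) (iv F57055)
def n16087 : Q := act 7 n15326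
theorem D16087 : act 7 n15326 = n16087 := rfl
theorem F63585 : act 2 n16087 = n15330 := d19_1 D16087 (iv D15330) (iv F60505)
theorem F63586 : act 4 n16087 = n15646 := d28_1 D16087 (iv D15646) (iv F60506)
theorem F63587 : act 6 n16087 = n15327 := d33_1 D16087 (iv D15327) (iv F60507)
def n16088 : Q := act 3 n15327
theorem D16088 : act 3 n15327 = n16088 := rfl
theorem F63588 : act 5 n16088 = n15328 := d22_2 (iv F60510) D16088 (iv D15328)
def n16089 : Q := act 2 n15328
theorem D16089 : act 2 n15328 = n16089 := rfl
theorem F63589 : act 3 n16089 = n15332 := d15_2 D15328 D16089 (iv D15332) (iv D14473) (iv F57061)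
def n16090 : Q := act 4 n15328
theorem D16090 : act 4 n15328 = n16090 := rfl
theorem F63590 : act 3 n16090 = n15329 := d21_1 D16090 (iv D15329) (iv D14470) (iv F57062) D15328
def n16091 : Q := act 5 n15329
theorem D16091 : act 5 n15329 = n16091 := rfl
theorem F63591 : act 2 n16091 = n15869 := d17_1 D16091 (iv D15869) (iv F60511)
theorem F63592 : act 4 n16091 = n15650 := d26_1 D16091 (iv D15650) (iv D14824) (iv F57064) D15329
def n16092 : Q := act 2 n15331
theorem D16092 : act 2 n15331 = n16092 := rfl
theorem F63593 : act 5 n16092 = n15332 := d17_2 (iv F60516) D16092 (iv D15332)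
theorem F63594 : act 7 n16092 = n15351 := d19_2 (iv F60517) D16092 (iv D15351)
def n16093 : Q := act 1 n15332
theorem D16093 : act 1 n15332 = n16093 := rfl
theorem F63595 : act 2 n16093 = n15379 := d8_2 D15332 D16093 (iv D15379) (iv D14530) (iv F57072)
theorem F63596 : act 4 n16093 = n15873 := d10_2 (iv F60518) D16093 (iv D15873)
theorem F63597 : act 7 n16093 = n15352 := d13_2 (iv F60519) D16093 (iv D15352)
def n16094 : Q := act 8 n15333
theorem D16094 : act 8 n15333 = n16094 := rfl
theorem F63598 : act 0 n16094 = n15745 := d7_1 D16094 F62176 (iv F60520)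
theorem F63599 : act 1 n16094 = n16094 := d14_1 D16094 (iv D16094) F60521
theorem F63600 : act 3 n16094 = n15336 := d25_1 D16094 (iv D15336) (iv F60522)
theorem F63601 : act 5 n16094 = n15342 := d32_1 D16094 (iv D15342) (iv F60523)
theorem F63602 : act 6 n16094 = n15334 := d34_1 D16094 (iv D15334) D15333
def n16095 : Q := act 7 n15334
theorem D16095 : act 7 n15334 = n16095 := rfl
theorem F63603 : act 0 n16095 = n15748 := d6_1 D16095 F62189 (iv F60524)
theorem F63604 : act 1 n16095 = n16095 := d13_1 D16095 (iv D16095) F60525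
theorem F63605 : act 5 n16095 = n15335 := d31_1 D16095 (iv D15335) (iv F60527)
def n16096 : Q := act 3 n15335
theorem D16096 : act 3 n15335 = n16096 := rfl
theorem F63606 : act 1 n16096 = n16096 := d9_1 D16096 (iv D16096) F60528
theorem F63607 : act 6 n16096 = n15346 := d23_2 (iv F60529) D16096 (iv D15346)
theorem F63608 : act 7 n16096 = n15338 := d24_2 D15335 D16096 (iv D15338) (iv D14478) (iv F57079)
def n16097 : Q := act 3 n15337
theorem D16097 : act 3 n15337 = n16097 := rfl
theorem F63609 : act 0 n16097 = n15732 := d2_1 D16097 F62112 (iv F60537)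
theorem F63610 : act 1 n16097 = n16097 := d9_1 D16097 (iv D16097) F60538
theorem F63611 : act 5 n16097 = n15338 := d22_2 (iv F60541) D16097 (iv D15338)
theorem F63612 : act 6 n16097 = n15907 := d23_2 (iv F60542) D16097 F62729
theorem F63613 : act 8 n16097 = n16097 := d25_2 F60543 D16097 (iv D16097)
def n16098 : Q := act 2 n15338
theorem D16098 : act 2 n15338 = n16098 := rfl
theorem F63614 : act 3 n16098 = n15340 := d15_2 D15338 D16098 (iv D15340) (iv D14481) (iv F57093)
theorem F63615 : act 6 n16098 = n15349 := d18_2 (iv F60545) D16098 (iv D15349)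
theorem F63616 : act 8 n16098 = n16098 := d20_2 F60546 D16098 (iv D16098)
def n16099 : Q := act 2 n15339
theorem D16099 : act 2 n15339 = n16099 := rfl
theorem F63617 : act 0 n16099 = n15754 := d1_1 D16099 F62209 (iv F60547)
theorem F63618 : act 5 n16099 = n15340 := d17_2 (iv F60549) D16099 (iv D15340)
theorem F63619 : act 6 n16099 = n15889 := d18_2 (iv F60550) D16099 F62664
theorem F63620 : act 8 n16099 = n16099 := d20_2 F60551 D16099 (iv D16099)
def n16100 : Q := act 4 n15339
theorem D16100 : act 4 n15339 = n16100 := rfl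
theorem F63621 : act 0 n16100 = n15382 := d3_1 D16100 F60745 (iv F60547)
theorem F63622 : act 1 n16100 = n15381 := d10_1 D16100 (iv D15381) (iv F60548)
theorem F63623 : act 3 n16100 = n16100 := d21_1 D16100 (iv D16100) (iv D15339) F57105 D15339
theorem F63624 : act 5 n16100 = n15753 := d26_2 (iv F60549) D16100 (iv D15753) F58957 (iv F57110)
theorem F63625 : act 6 n16100 = n15384 := d27_2 (iv F60550) D16100 F60756
theorem F63626 : act 8 n16100 = n16100 := d29_2 F60551 D16100 (iv D16100)
def n16101 : Q := act 1 n15340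
theorem D16101 : act 1 n15340 = n16101 := rfl
theorem F63627 : act 2 n16101 = n15382 := d8_2 D15340 D16101 (iv D15382) (iv D14532) (iv F57109)
theorem F63628 : act 4 n16101 = n15754 := d10_2 (iv F60552) D16101 (iv D15754)
theorem F63629 : act 6 n16101 = n15352 := d12_2 (iv F60553) D16101 (iv D15352)
theorem F63630 : act 8 n16101 = n16101 := d14_2 F60554 D16101 (iv D16101)
def n16102 : Q := act 7 n15341
theorem D16102 : act 7 n15341 = n16102 := rfl
theorem F63631 : act 1 n16102 = n16102 := d13_1 D16102 (iv D16102) F60555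
theorem F63632 : act 4 n16102 = n15344 := d28_1 D16102 (iv D15344) (iv F60557)
def n16103 : Q := act 7 n15342
theorem D16103 : act 7 n15342 = n16103 := rfl
theorem F63633 : act 1 n16103 = n16103 := d13_1 D16103 (iv D16103) F60558
theorem F63634 : act 6 n16103 = n15344 := d33_1 D16103 (iv D15344) (iv F60560)
def n16104 : Q := act 7 n15343
theorem D16104 : act 7 n15343 = n16104 := rfl
theorem F63635 : act 1 n16104 = n16104 := d13_1 D16104 (iv D16104) F60561
theorem F63636 : act 5 n16104 = n15345 := d31_1 D16104 (iv D15345) (iv F60563)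
theorem F63637 : act 8 n16104 = n15344 := d35_2 D15343 D16104 (iv D15344) (iv D14485) D14484
def n16105 : Q := act 3 n15344
theorem D16105 : act 3 n15344 = n16105 := rfl
theorem F63638 : act 1 n16105 = n16105 := d9_1 D16105 (iv D16105) F60564
theorem F63639 : act 5 n16105 = n15346 := d22_2 (iv F60565) D16105 (iv D15346)
theorem F63640 : act 7 n16105 = n15348 := d24_2 D15344 D16105 (iv D15348) (iv D14489) (iv F57121)
def n16106 : Q := act 3 n15345
theorem D16106 : act 3 n15345 = n16106 := rfl
theorem F63641 : act 1 n16106 = n16106 := d9_1 D16106 (iv D16106) F60566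
theorem F63642 : act 7 n16106 = n16106 := d24_2 D15345 D16106 (iv D16106) (iv D15345) F57124
theorem F63643 : act 8 n16106 = n15346 := d25_2 (iv F60567) D16106 (iv D15346)
def n16107 : Q := act 2 n15346
theorem D16107 : act 2 n15346 = n16107 := rfl
theorem F63644 : act 7 n16107 = n15349 := d19_2 (iv F60569) D16107 (iv D15349)
def n16108 : Q := act 4 n15346
theorem D16108 : act 4 n15346 = n16108 := rfl
theorem F63645 : act 1 n16108 = n16108 := d10_1 D16108 (iv D16108) F60568
theorem F63646 : act 7 n16108 = n15350 := d28_2 (iv F60569) D16108 (iv D15350)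
def n16109 : Q := act 3 n15347
theorem D16109 : act 3 n15347 = n16109 := rfl
theorem F63647 : act 0 n16109 = n15906 := d2_1 D16109 F62723 (iv F60570)
theorem F63648 : act 1 n16109 = n16109 := d9_1 D16109 (iv D16109) F60571
theorem F63649 : act 5 n16109 = n15907 := d22_2 (iv F60574) D16109 F62729
theorem F63650 : act 6 n16109 = n15348 := d23_2 (iv F60575) D16109 (iv D15348)
theorem F63651 : act 8 n16109 = n16109 := d25_2 F60576 D16109 (iv D16109)
def n16110 : Q := act 2 n15348
theorem D16110 : act 2 n15348 = n16110 := rfl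
theorem F63652 : act 3 n16110 = n15351 := d15_2 D15348 D16110 (iv D15351) (iv D14493) (iv F57131)
theorem F63653 : act 5 n16110 = n15349 := d17_2 (iv F60578) D16110 (iv D15349)
theorem F63654 : act 8 n16110 = n16110 := d20_2 F60579 D16110 (iv D16110)
def n16111 : Q := act 1 n15349
theorem D16111 : act 1 n15349 = n16111 := rfl
theorem F63655 : act 2 n16111 = n16111 := d8_2 D15349 D16111 (iv D16111) (iv D15349) F57135
theorem F63656 : act 3 n16111 = n15352 := d9_2 (iv F60580) D16111 (iv D15352)
theorem F63657 : act 8 n16111 = n16111 := d14_2 F60581 D16111 (iv D16111)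
def n16112 : Q := act 4 n15349
theorem D16112 : act 4 n15349 = n16112 := rfl
theorem F63658 : act 2 n16112 = n15350 := d16_1 D16112 (iv D15350) D15349
theorem F63659 : act 3 n16112 = n15885 := d21_1 D16112 (iv D15885) F59543 (iv F57149) (iv F60580)
theorem F63660 : act 8 n16112 = n16112 := d29_2 F60581 D16112 (iv D16112)
def n16113 : Q := act 1 n15351
theorem D16113 : act 1 n15351 = n16113 := rfl
theorem F63661 : act 2 n16113 = n15383 := d8_2 D15351 D16113 (iv D15383) (iv D14533) (iv F57146)
theorem F63662 : act 4 n16113 = n15535 := d10_2 F63198 D16113 (iv F63197)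
theorem F63663 : act 5 n16113 = n15352 := d11_2 (iv F60585) D16113 (iv D15352)
theorem F63664 : act 6 n16113 = n15838 := d12_2 F63210 D16113 (iv F63208)
theorem F63665 : act 8 n16113 = n16113 := d14_2 F60586 D16113 (iv D16113)
theorem F63666 : act 0 n15536 = n16113 := d3_3 F63662 F61397 D15536
def n16114 : Q := act 0 n15352
theorem D16114 : act 0 n15352 = n16114 := rfl
theorem F63667 : act 2 n16114 = n15384 := d1_2 (iv F60587) D16114 (iv D15384)
theorem F63668 : act 4 n16114 = n15889 := d3_2 (iv F60588) D16114 (iv D15889)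
theorem F63669 : act 5 n16114 = n15536 := d4_2 F63663 D16114 F63666
theorem F63670 : act 8 n16114 = n16114 := d7_2 F60589 D16114 (iv D16114)
def n16115 : Q := act 2 n15354
theorem D16115 : act 2 n15354 = n16115 := rfl
theorem F63671 : act 0 n16115 = n15385 := d1_1 D16115 (iv D15385) (iv F60597)
theorem F63672 : act 3 n16115 = n15525 := d15_2 D15354 D16115 F61363 (iv D15062) (iv F57185)
theorem F63673 : act 4 n16115 = n15524 := d16_2 (iv F60598) D16115 F61358
theorem F63674 : act 5 n16115 = n15833 := d17_2 (iv F60599) D16115 (iv D15833)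
theorem F63675 : act 6 n16115 = n15362 := d18_2 (iv F60600) D16115 (iv D15362)
theorem F63676 : act 7 n16115 = n16115 := d19_2 F60601 D16115 (iv D16115)
theorem F63677 : act 8 n16115 = n15369 := d20_2 (iv F60602) D16115 (iv D15369)
def n16116 : Q := act 7 n15356
theorem D16116 : act 7 n15356 = n16116 := rfl
theorem F63678 : act 0 n16116 = n15680 := d6_1 D16116 (iv D15680) (iv F60609)
theorem F63679 : act 1 n16116 = n15358 := d13_1 D16116 (iv D15358) (iv F60610)
theorem F63680 : act 4 n16116 = n15675 := d28_1 D16116 (iv D15675) (iv F60612)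
theorem F63681 : act 5 n16116 = n15357 := d31_1 D16116 (iv D15357) (iv F60613)
theorem F63682 : act 6 n16116 = n15678 := d33_1 D16116 (iv D15678) (iv F60614)
theorem F63683 : act 8 n16116 = n15373 := d35_2 D15356 D16116 (iv D15373) (iv D14523) (iv F57201)
def n16117 : Q := act 3 n15357
theorem D16117 : act 3 n15357 = n16117 := rfl
theorem F63684 : act 0 n16117 = n15870 := d2_1 D16117 (iv D15870) (iv F60615)
theorem F63685 : act 1 n16117 = n15359 := d9_1 D16117 (iv D15359) (iv F60616)
theorem F63686 : act 4 n16117 = n15425 := d21_2 (iv F60617) D16117 (iv D15425) (iv F60290) F60289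
theorem F63687 : act 6 n16117 = n15813 := d23_2 (iv F60618) D16117 (iv D15813)
theorem F63688 : act 7 n16117 = n15429 := d24_2 D15357 D16117 F60991 (iv D15049) (iv F57204)
theorem F63689 : act 8 n16117 = n15374 := d25_2 (iv F60619) D16117 (iv D15374)
def n16118 : Q := act 2 n15361
theorem D16118 : act 2 n15361 = n16118 := rfl
theorem F63690 : act 0 n16118 = n15386 := d1_1 D16118 (iv D15386) (iv F60638)
theorem F63691 : act 3 n16118 = n15395 := d15_2 D15361 D16118 (iv F63220) F63221 F60621
theorem F63692 : act 4 n16118 = n15537 := d16_2 F63076 D16118 (iv F63075)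
theorem F63693 : act 5 n16118 = n15362 := d17_2 (iv F60639) D16118 (iv D15362)
theorem F63694 : act 6 n16118 = n15828 := d18_2 F63108 D16118 (iv F63106)
theorem F63695 : act 7 n16118 = n16118 := d19_2 F60640 D16118 (iv D16118)
theorem F63696 : act 8 n16118 = n15378 := d20_2 (iv F60641) D16118 (iv D15378)
def n16119 : Q := act 1 n15362
theorem D16119 : act 1 n15362 = n16119 := rfl
theorem F63697 : act 3 n16119 = n15531 := d9_2 (iv F60643) D16119 F61381
theorem F63698 : act 4 n16119 = n15529 := d10_2 (iv F60644) D16119 F61377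
theorem F63699 : act 7 n16119 = n16119 := d13_2 F60645 D16119 (iv D16119)
theorem F63700 : act 8 n16119 = n15379 := d14_2 (iv F60646) D16119 (iv D15379)
def n16120 : Q := act 3 n15365
theorem D16120 : act 3 n15365 = n16120 := rfl
theorem F63701 : act 0 n16120 = n15857 := d2_1 D16120 (iv D15857) (iv F60661)
theorem F63702 : act 1 n16120 = n15366 := d9_1 D16120 (iv D15366) (iv F60662)
theorem F63703 : act 4 n16120 = n15567 := d21_2 (iv F60663) D16120 (iv D15567) F58279 (iv F57254)
theorem F63704 : act 5 n16120 = n15800 := d22_2 (iv F60664) D16120 (iv D15800)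
theorem F63705 : act 6 n16120 = n15374 := d23_2 (iv F60665) D16120 (iv D15374)
theorem F63706 : act 7 n16120 = n16120 := d24_2 D15365 D16120 (iv D16120) (iv D15365) F57249
theorem F63707 : act 8 n16120 = n15813 := d25_2 (iv F60666) D16120 (iv D15813)
def n16121 : Q := act 2 n15366
theorem D16121 : act 2 n15366 = n16121 := rfl
theorem F63708 : act 0 n16121 = n15388 := d1_1 D16121 (iv D15388) (iv F60667)
theorem F63709 : act 3 n16121 = n15369 := d15_2 D15366 D16121 (iv D15369) (iv D14518) (iv F57258)
theorem F63710 : act 4 n16121 = n15517 := d16_2 (iv F60668) D16121 F61328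
theorem F63711 : act 5 n16121 = n15829 := d17_2 (iv F60669) D16121 (iv D15829)
theorem F63712 : act 6 n16121 = n15377 := d18_2 (iv F60670) D16121 (iv D15377)
theorem F63713 : act 7 n16121 = n16121 := d19_2 F60671 D16121 (iv D16121)
theorem F63714 : act 8 n16121 = n15525 := d20_2 (iv F60672) D16121 F61363
def n16122 : Q := act 2 n15368
theorem D16122 : act 2 n15368 = n16122 := rfl
theorem F63715 : act 0 n16122 = n15389 := d1_1 D16122 (iv D15389) (iv F60680)
theorem F63716 : act 3 n16122 = n15829 := d15_2 D15368 D16122 (iv D15829) (iv D15057) (iv F57270)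
theorem F63717 : act 5 n16122 = n15369 := d17_2 (iv F60681) D16122 (iv D15369)
theorem F63718 : act 6 n16122 = n15835 := d18_2 (iv F60682) D16122 F62522
theorem F63719 : act 7 n16122 = n15380 := d19_2 (iv F60683) D16122 (iv D15380)
theorem F63720 : act 8 n16122 = n15833 := d20_2 (iv F60684) D16122 (iv D15833)
theorem F63721 : act 4 n15687 = n16122 := d28_3 F63719 (iv F60737) (iv F61919)
def n16123 : Q := act 4 n15368
theorem D16123 : act 4 n15368 = n16123 := rfl
theorem F63722 : act 0 n16123 = n15390 := d3_1 D16123 (iv D15390) (iv F60680)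
theorem F63723 : act 2 n16123 = n15687 := d16_1 D16123 F63721 (iv D16122)
theorem F63724 : act 3 n16123 = n15828 := d21_1 D16123 (iv D15828) (iv D15056) (iv F57271) D15368
theorem F63725 : act 5 n16123 = n15683 := d26_2 (iv F60681) D16123 (iv D15683) F58626 (iv F57275)
theorem F63726 : act 6 n16123 = n15395 := d27_2 (iv F60682) D16123 F60825
theorem F63727 : act 7 n16123 = n15381 := d28_2 (iv F60683) D16123 (iv D15381)
theorem F63728 : act 8 n16123 = n15834 := d29_2 (iv F60684) D16123 (iv D15834)
def n16124 : Q := act 1 n15369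
theorem D16124 : act 1 n15369 = n16124 := rfl
theorem F63729 : act 4 n16124 = n15684 := d10_2 (iv F60686) D16124 (iv D15684)
theorem F63730 : act 6 n16124 = n15379 := d12_2 (iv F60687) D16124 (iv D15379)
theorem F63731 : act 7 n16124 = n15382 := d13_2 (iv F60688) D16124 (iv D15382)
def n16125 : Q := act 7 n15370
theorem D16125 : act 7 n15370 = n16125 := rfl
theorem F63732 : act 0 n16125 = n15373 := d6_1 D16125 (iv D15373) (iv F60689)
theorem F63733 : act 1 n16125 = n15391 := d13_1 D16125 (iv D15391) (iv F60690)
theorem F63734 : act 4 n16125 = n15678 := d28_1 D16125 (iv D15678) (iv F60692)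
theorem F63735 : act 5 n16125 = n15371 := d31_1 D16125 (iv D15371) (iv F60693)
theorem F63736 : act 6 n16125 = n15675 := d33_1 D16125 (iv D15675) (iv F60694)
theorem F63737 : act 8 n16125 = n15680 := d35_2 D15370 D16125 (iv D15680) (iv D14864) (iv F57283)
def n16126 : Q := act 3 n15371
theorem D16126 : act 3 n15371 = n16126 := rfl
theorem F63738 : act 0 n16126 = n15374 := d2_1 D16126 (iv D15374) (iv F60695)
theorem F63739 : act 1 n16126 = n15392 := d9_1 D16126 (iv D15392) (iv F60696)
theorem F63740 : act 6 n16126 = n15857 := d23_2 (iv F60698) D16126 (iv D15857)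
theorem F63741 : act 7 n16126 = n16126 := d24_2 D15371 D16126 (iv D16126) (iv D15371) F57286
theorem F63742 : act 8 n16126 = n15870 := d25_2 (iv F60699) D16126 (iv D15870)
def n16127 : Q := act 7 n15372
theorem D16127 : act 7 n15372 = n16127 := rfl
theorem F63743 : act 0 n16127 = n15675 := d6_1 D16127 (iv D15675) (iv F60700)
theorem F63744 : act 1 n16127 = n15375 := d13_1 D16127 (iv D15375) (iv F60701)
theorem F63745 : act 4 n16127 = n15680 := d28_1 D16127 (iv D15680) (iv F60703)
theorem F63746 : act 5 n16127 = n15674 := d31_1 D16127 (iv D15674) (iv F60704)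
theorem F63747 : act 6 n16127 = n15373 := d33_1 D16127 (iv D15373) (iv F60705)
theorem F63748 : act 8 n16127 = n15678 := d35_2 D15372 D16127 (iv D15678) (iv D14862) (iv F57297)
def n16128 : Q := act 3 n15373
theorem D16128 : act 3 n15373 = n16128 := rfl
theorem F63749 : act 1 n16128 = n15376 := d9_1 D16128 (iv D15376) (iv F60706)
theorem F63750 : act 5 n16128 = n15374 := d22_2 (iv F60708) D16128 (iv D15374)
theorem F63751 : act 7 n16128 = n16128 := d24_2 D15373 D16128 (iv D16128) (iv D15373) F57299
def n16129 : Q := act 2 n15374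
theorem D16129 : act 2 n15374 = n16129 := rfl
theorem F63752 : act 7 n16129 = n16129 := d19_2 F60710 D16129 (iv D16129)
def n16130 : Q := act 3 n15375
theorem D16130 : act 3 n15375 = n16130 := rfl
theorem F63753 : act 0 n16130 = n15393 := d2_1 D16130 (iv D15393) (iv F60711)
theorem F63754 : act 2 n16130 = n15834 := d15_1 D16130 F62519 (iv F60084) F60085 (iv F60712)
theorem F63755 : act 4 n16130 = n15833 := d21_2 (iv F60713) D16130 F62516 (iv F60103) F60102
theorem F63756 : act 5 n16130 = n15685 := d22_2 (iv F60714) D16130 (iv D15685)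
theorem F63757 : act 6 n16130 = n15376 := d23_2 (iv F60715) D16130 (iv D15376)
theorem F63758 : act 7 n16130 = n16130 := d24_2 D15375 D16130 (iv D16130) (iv D15375) F57306
theorem F63759 : act 8 n16130 = n15687 := d25_2 (iv F60716) D16130 (iv D15687)
def n16131 : Q := act 2 n15376
theorem D16131 : act 2 n15376 = n16131 := rfl
theorem F63760 : act 0 n16131 = n15387 := d1_1 D16131 F60773 (iv F60717)
theorem F63761 : act 3 n16131 = n15378 := d15_2 D15376 D16131 (iv D15378) (iv D14529) (iv F57311)
theorem F63762 : act 5 n16131 = n15377 := d17_2 (iv F60718) D16131 (iv D15377)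
theorem F63763 : act 6 n16131 = n15834 := d18_2 F63757 D16131 (iv F63754)
theorem F63764 : act 7 n16131 = n16131 := d19_2 F60719 D16131 (iv D16131)
theorem F63765 : act 8 n16131 = n15395 := d20_2 F63226 D16131 (iv F63220)
theorem F63766 : act 4 n15538 = n16131 := d29_3 F63765 F60825 (iv F61410)
def n16132 : Q := act 4 n15376
theorem D16132 : act 4 n15376 = n16132 := rfl
theorem F63767 : act 0 n16132 = n15394 := d3_1 D16132 (iv D15394) (iv F60717)
theorem F63768 : act 2 n16132 = n15538 := d16_1 D16132 F63766 (iv D16131)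
theorem F63769 : act 3 n16132 = n15683 := d21_1 D16132 (iv D15683) (iv D14868) (iv F57312) D15376
theorem F63770 : act 5 n16132 = n15828 := d26_2 (iv F60718) D16132 (iv D15828) (iv F60650) F60649
theorem F63771 : act 6 n16132 = n15833 := d27_2 F63757 D16132 (iv F63755)
theorem F63772 : act 7 n16132 = n16132 := d28_2 F60719 D16132 (iv D16132)
theorem F63773 : act 8 n16132 = n15835 := d29_2 F63226 D16132 (iv F63222)
def n16133 : Q := act 1 n15377
theorem D16133 : act 1 n15377 = n16133 := rfl
theorem F63774 : act 3 n16133 = n15379 := d9_2 (iv F60721) D16133 (iv D15379)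
theorem F63775 : act 4 n16133 = n15520 := d10_2 (iv F60722) D16133 F61341
theorem F63776 : act 7 n16133 = n16133 := d13_2 F60723 D16133 (iv D16133)
theorem F63777 : act 8 n16133 = n15531 := d14_2 (iv F60724) D16133 F61381
def n16134 : Q := act 1 n15378
theorem D16134 : act 1 n15378 = n16134 := rfl
theorem F63778 : act 0 n16134 = n15531 := d0_1 D16134 F61381 F58076 (iv F57443) (iv F60725)
theorem F63779 : act 4 n16134 = n15527 := d10_2 (iv F60726) D16134 F61372
theorem F63780 : act 5 n16134 = n15379 := d11_2 (iv F60727) D16134 (iv D15379)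
theorem F63781 : act 6 n16134 = n15832 := d12_2 (iv F60728) D16134 F62513
theorem F63782 : act 7 n16134 = n15383 := d13_2 (iv F60729) D16134 (iv D15383)
def n16135 : Q := act 0 n15379
theorem D16135 : act 0 n15379 = n16135 := rfl
theorem F63783 : act 1 n16135 = n15395 := d0_2 D15379 D16135 (iv D15395) (iv D14556) (iv F57322)
theorem F63784 : act 4 n16135 = n15893 := d3_2 (iv F60730) D16135 (iv D15893)
theorem F63785 : act 5 n16135 = n15531 := d4_2 F63780 D16135 (iv F63778)
theorem F63786 : act 7 n16135 = n15384 := d6_2 (iv F60731) D16135 (iv D15384)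
def n16136 : Q := act 1 n15380
theorem D16136 : act 1 n15380 = n16136 := rfl
theorem F63787 : act 0 n16136 = n15753 := d0_1 D16136 F62205 F58961 (iv F57451) (iv F60732)
theorem F63788 : act 3 n16136 = n16136 := d9_2 F60733 D16136 (iv D16136)
theorem F63789 : act 4 n16136 = n15750 := d10_2 F60737 D16136 F62197
theorem F63790 : act 5 n16136 = n15382 := d11_2 (iv F60734) D16136 (iv D15382)
theorem F63791 : act 6 n16136 = n15837 := d12_2 (iv F60735) D16136 F62525
theorem F63792 : act 8 n16136 = n16136 := d14_2 F60736 D16136 (iv D16136)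
def n16137 : Q := act 7 n15398
theorem D16137 : act 7 n15398 = n16137 := rfl
theorem F63793 : act 0 n16137 = n15563 := d6_1 D16137 (iv D15563) (iv F60839)
theorem F63794 : act 1 n16137 = n15400 := d13_1 D16137 (iv D15400) (iv F60840)
theorem F63795 : act 3 n16137 = n15569 := d24_1 D16137 (iv D15569) F58289 (iv F57533) (iv F60841)
theorem F63796 : act 5 n16137 = n15421 := d31_1 D16137 (iv D15421) (iv F60842)
theorem F63797 : act 6 n16137 = n15406 := d33_1 D16137 (iv D15406) (iv F60843)
theorem F63798 : act 8 n16137 = n16004 := d35_2 D15398 D16137 (iv D16004) (iv D15256) (iv F57475)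
def n16138 : Q := act 7 n15401
theorem D16138 : act 7 n15401 = n16138 := rfl
theorem F63799 : act 0 n16138 = n16138 := d6_1 D16138 (iv D16138) F60858
theorem F63800 : act 2 n16138 = n15897 := d19_1 D16138 F62695 (iv F60859)
theorem F63801 : act 5 n16138 = n15402 := d31_1 D16138 (iv D15402) (iv F60861)
def n16139 : Q := act 3 n15402
theorem D16139 : act 3 n15402 = n16139 := rfl
theorem F63802 : act 0 n16139 = n16139 := d2_1 D16139 (iv D16139) F60862
theorem F63803 : act 4 n16139 = n15700 := d21_2 (iv F60863) D16139 (iv D15700) F58712 (iv F57494)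
theorem F63804 : act 6 n16139 = n15410 := d23_2 (iv F60864) D16139 (iv D15410)
theorem F63805 : act 7 n16139 = n16139 := d24_2 D15402 D16139 (iv D16139) (iv D15402) F57490
def n16140 : Q := act 8 n15403
theorem D16140 : act 8 n15403 = n16140 := rfl
theorem F63806 : act 0 n16140 = n15405 := d7_1 D16140 (iv D15405) (iv F60865)
theorem F63807 : act 1 n16140 = n16140 := d14_1 D16140 (iv D16140) F60866
theorem F63808 : act 3 n16140 = n15565 := d25_1 D16140 (iv D15565) (iv F60867)
theorem F63809 : act 4 n16140 = n15404 := d29_1 D16140 (iv D15404) D15403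
theorem F63810 : act 5 n16140 = n15763 := d32_1 D16140 F62262 F60870
theorem F63811 : act 6 n16140 = n15561 := d34_1 D16140 (iv D15561) (iv F60868)
def n16141 : Q := act 7 n15404
theorem D16141 : act 7 n15404 = n16141 := rfl
theorem F63812 : act 0 n16141 = n15406 := d6_1 D16141 (iv D15406) (iv F60871)
theorem F63813 : act 1 n16141 = n16141 := d13_1 D16141 (iv D16141) F60872
theorem F63814 : act 5 n16141 = n15694 := d31_1 D16141 (iv D15694) (iv F60874)
theorem F63815 : act 6 n16141 = n15563 := d33_1 D16141 (iv D15563) (iv F60875)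
def n16142 : Q := act 7 n15405
theorem D16142 : act 7 n15405 = n16142 := rfl
theorem F63816 : act 1 n16142 = n15407 := d13_1 D16142 (iv D15407) (iv F60876)
theorem F63817 : act 3 n16142 = n15664 := d24_1 D16142 (iv D15664) F58526 D14995 (iv F60877)
theorem F63818 : act 4 n16142 = n15406 := d28_1 D16142 (iv D15406) (iv F60878)
theorem F63819 : act 5 n16142 = n15666 := d31_1 D16142 F61841 (iv F60879)
theorem F63820 : act 8 n16142 = n15665 := d35_2 D15405 D16142 F61838 F58544 (iv F57501)
def n16143 : Q := act 7 n15408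
theorem D16143 : act 7 n15408 = n16143 := rfl
theorem F63821 : act 0 n16143 = n16143 := d6_1 D16143 (iv D16143) F60888
theorem F63822 : act 2 n16143 = n15739 := d19_1 D16143 F62147 (iv F60889)
theorem F63823 : act 4 n16143 = n15701 := d28_1 D16143 (iv D15701) (iv F60891)
theorem F63824 : act 6 n16143 = n15409 := d33_1 D16143 (iv D15409) (iv F60892)
theorem F63825 : act 8 n16143 = n15740 := d35_2 D15408 D16143 F62152 F58885 (iv F57519)
theorem F63826 : act 3 n15902 = n16143 := d25_3 F63825 F62150 (iv F62713)
def n16144 : Q := act 3 n15409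
theorem D16144 : act 3 n15409 = n16144 := rfl
theorem F63827 : act 0 n16144 = n16144 := d2_1 D16144 (iv D16144) F60893
theorem F63828 : act 2 n16144 = n15728 := d15_1 D16144 (iv D15728) F58810 D14939 (iv F60894)
theorem F63829 : act 5 n16144 = n15410 := d22_2 (iv F60896) D16144 (iv D15410)
theorem F63830 : act 6 n16144 = n15902 := d23_2 F63824 D16144 F63826
theorem F63831 : act 7 n16144 = n16144 := d24_2 D15409 D16144 (iv D16144) (iv D15409) F57522
theorem F63832 : act 8 n16144 = n15729 := d25_2 (iv F60897) D16144 F62101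
def n16145 : Q := act 2 n15410
theorem D16145 : act 2 n15410 = n16145 := rfl
theorem F63833 : act 0 n16145 = n16145 := d1_1 D16145 (iv D16145) F60898
theorem F63834 : act 3 n16145 = n15726 := d15_2 D15410 D16145 F62086 (iv F60884) F60883
theorem F63835 : act 4 n16145 = n15896 := d16_2 (iv F60899) D16145 (iv D15896)
theorem F63836 : act 5 n16145 = n15728 := d17_2 F63829 D16145 (iv F63828)
theorem F63837 : act 7 n16145 = n16145 := d19_2 F60900 D16145 (iv D16145)
theorem F63838 : act 8 n16145 = n15727 := d20_2 F61933 D16145 F62092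
def n16146 : Q := act 7 n15411
theorem D16146 : act 7 n15411 = n16146 := rfl
theorem F63839 : act 0 n16146 = n15541 := d6_1 D16146 (iv D15541) (iv F60901)
theorem F63840 : act 2 n16146 = n15412 := d19_1 D16146 (iv D15412) (iv F60902)
theorem F63841 : act 4 n16146 = n16057 := d28_1 D16146 (iv D16057) (iv F60904)
theorem F63842 : act 5 n16146 = n15792 := d31_1 D16146 (iv D15792) (iv F60905)
theorem F63843 : act 6 n16146 = n15556 := d33_1 D16146 (iv D15556) (iv F60906)
theorem F63844 : act 8 n16146 = n15915 := d35_2 D15411 D16146 (iv D15915) (iv D15150) (iv F57574)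
def n16147 : Q := act 3 n15413
theorem D16147 : act 3 n15413 = n16147 := rfl
theorem F63845 : act 0 n16147 = n15544 := d2_1 D16147 (iv D15544) (iv F60914)
theorem F63846 : act 2 n16147 = n15460 := d15_1 D16147 (iv D15460) F57790 (iv F57588) (iv F60915)
theorem F63847 : act 5 n16147 = n15799 := d22_2 (iv F60917) D16147 (iv D15799)
theorem F63848 : act 6 n16147 = n15558 := d23_2 (iv F60918) D16147 (iv D15558)
theorem F63849 : act 8 n16147 = n15420 := d25_2 (iv F60919) D16147 (iv D15420)
def n16148 : Q := act 7 n15414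
theorem D16148 : act 7 n15414 = n16148 := rfl
theorem F63850 : act 1 n16148 = n15415 := d13_1 D16148 (iv D15415) (iv F60920)
theorem F63851 : act 2 n16148 = n15422 := d19_1 D16148 (iv D15422) (iv F60921)
theorem F63852 : act 4 n16148 = n15543 := d28_1 D16148 (iv D15543) (iv F60923)
theorem F63853 : act 6 n16148 = n15417 := d33_1 D16148 (iv D15417) (iv F60924)
theorem F63854 : act 8 n16148 = n15550 := d35_2 D15414 D16148 (iv D15550) (iv D14735) (iv F57597)
def n16149 : Q := act 3 n15415
theorem D16149 : act 3 n15415 = n16149 := rfl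
theorem F63855 : act 0 n16149 = n15545 := d2_1 D16149 (iv D15545) (iv F60925)
theorem F63856 : act 2 n16149 = n15474 := d15_1 D16149 (iv D15474) F57835 (iv F57605) (iv F60926)
theorem F63857 : act 6 n16149 = n15420 := d23_2 (iv F60928) D16149 (iv D15420)
theorem F63858 : act 7 n16149 = n15944 := d24_2 D15415 D16149 (iv D15944) (iv D15178) (iv F57600)
theorem F63859 : act 8 n16149 = n15558 := d25_2 (iv F60929) D16149 (iv D15558)
def n16150 : Q := act 7 n15416
theorem D16150 : act 7 n15416 = n16150 := rfl
theorem F63860 : act 0 n16150 = n15417 := d6_1 D16150 (iv D15417) (iv F60930)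
theorem F63861 : act 1 n16150 = n15464 := d13_1 D16150 (iv D15464) (iv F60931)
theorem F63862 : act 2 n16150 = n15424 := d19_1 D16150 (iv D15424) (iv F60932)
theorem F63863 : act 5 n16150 = n15468 := d31_1 D16150 (iv D15468) (iv F60934)
def n16151 : Q := act 3 n15417
theorem D16151 : act 3 n15417 = n16151 := rfl
theorem F63864 : act 1 n16151 = n15420 := d9_1 D16151 (iv D15420) (iv F60935)
theorem F63865 : act 5 n16151 = n15804 := d22_2 (iv F60937) D16151 (iv D15804)
theorem F63866 : act 7 n16151 = n15954 := d24_2 D15417 D16151 (iv D15954) (iv D15185) (iv F57615)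
def n16152 : Q := act 7 n15418
theorem D16152 : act 7 n15418 = n16152 := rfl
theorem F63867 : act 0 n16152 = n15556 := d6_1 D16152 (iv D15556) (iv F60938)
theorem F63868 : act 2 n16152 = n15421 := d19_1 D16152 (iv D15421) (iv F60939)
theorem F63869 : act 4 n16152 = n15960 := d28_1 D16152 (iv D15960) (iv F60941)
theorem F63870 : act 6 n16152 = n15541 := d33_1 D16152 (iv D15541) (iv F60942)
theorem F63871 : act 8 n16152 = n16006 := d35_2 D15418 D16152 (iv D16006) (iv D15258) (iv F57621)
def n16153 : Q := act 3 n15419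
theorem D16153 : act 3 n15419 = n16153 := rfl
theorem F63872 : act 0 n16153 = n15558 := d2_1 D16153 (iv D15558) (iv F60943)
theorem F63873 : act 2 n16153 = n15592 := d15_1 D16153 (iv D15592) F58338 (iv F57631) (iv F60944)
theorem F63874 : act 6 n16153 = n15544 := d23_2 (iv F60946) D16153 (iv D15544)
theorem F63875 : act 8 n16153 = n15545 := d25_2 (iv F60947) D16153 (iv D15545)
def n16154 : Q := act 4 n15420
theorem D16154 : act 4 n15420 = n16154 := rfl
theorem F63876 : act 0 n16154 = n15559 := d3_1 D16154 (iv D15559) (iv F60948)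
theorem F63877 : act 2 n16154 = n15494 := d16_1 D16154 (iv D15494) (iv F60949)
theorem F63878 : act 7 n16154 = n15964 := d28_2 (iv F60951) D16154 (iv D15964)
def n16155 : Q := act 3 n15422
theorem D16155 : act 3 n15422 = n16155 := rfl
theorem F63879 : act 0 n16155 = n15872 := d2_1 D16155 (iv F63128) F63126
theorem F63880 : act 1 n16155 = n15423 := d9_1 D16155 (iv D15423) (iv F60958)
theorem F63881 : act 4 n16155 = n15813 := d21_2 (iv F60959) D16155 (iv D15813) (iv F60593) F60592
theorem F63882 : act 6 n16155 = n15425 := d23_2 (iv F60960) D16155 (iv D15425)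
theorem F63883 : act 7 n16155 = n15426 := d24_2 D15422 D16155 (iv D15426) (iv D14601) (iv F57647)
theorem F63884 : act 8 n16155 = n15567 := d25_2 (iv F60961) D16155 (iv D15567)
def n16156 : Q := act 3 n15424
theorem D16156 : act 3 n15424 = n16156 := rfl
theorem F63885 : act 0 n16156 = n15425 := d2_1 D16156 (iv D15425) (iv F60968)
theorem F63886 : act 1 n16156 = n15430 := d9_1 D16156 (iv D15430) (iv F60969)
theorem F63887 : act 4 n16156 = n15870 := d21_2 F62791 D16156 (iv D15870) (iv F60605) (iv F62790)
theorem F63888 : act 5 n16156 = n15523 := d22_2 (iv F60970) D16156 (iv D15523)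
theorem F63889 : act 6 n16156 = n15872 := d23_2 F63131 D16156 (iv F63128)
theorem F63890 : act 7 n16156 = n15427 := d24_2 D15424 D16156 (iv D15427) (iv D14603) (iv F57657)
def n16157 : Q := act 2 n15425
theorem D16157 : act 2 n15425 = n16157 := rfl
theorem F63891 : act 1 n16157 = n15530 := d8_1 D16157 (iv D15530) F58067 (iv F57662) (iv F60971)
theorem F63892 : act 5 n16157 = n15831 := d17_2 (iv F60972) D16157 (iv D15831)
theorem F63893 : act 7 n16157 = n15428 := d19_2 (iv F60973) D16157 (iv D15428)
def n16158 : Q := act 2 n15426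
theorem D16158 : act 2 n15426 = n16158 := rfl
theorem F63894 : act 0 n16158 = n15888 := d1_1 D16158 F62662 (iv F60974)
theorem F63895 : act 1 n16158 = n15533 := d8_1 D16158 (iv D15533) F58086 (iv F57672) (iv F60975)
theorem F63896 : act 3 n16158 = n15998 := d15_2 D15426 D16158 (iv D15998) (iv D15237) (iv F57667)
theorem F63897 : act 4 n16158 = n15825 := d16_2 (iv F60976) D16158 (iv D15825)
theorem F63898 : act 6 n16158 = n15428 := d18_2 (iv F60977) D16158 (iv D15428)
theorem F63899 : act 8 n16158 = n16158 := d20_2 F60978 D16158 (iv D16158)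
def n16159 : Q := act 2 n15427
theorem D16159 : act 2 n15427 = n16159 := rfl
theorem F63900 : act 0 n16159 = n15428 := d1_1 D16159 (iv D15428) (iv F60979)
theorem F63901 : act 3 n16159 = n15999 := d15_2 D15427 D16159 (iv D15999) (iv D15238) (iv F57678)
theorem F63902 : act 4 n16159 = n15886 := d16_2 (iv F60981) D16159 (iv D15886)
theorem F63903 : act 5 n16159 = n15533 := d17_2 (iv F60982) D16159 (iv D15533)
theorem F63904 : act 6 n16159 = n15888 := d18_2 (iv F60983) D16159 F62662
theorem F63905 : act 8 n16159 = n16159 := d20_2 F60984 D16159 (iv D16159)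
def n16160 : Q := act 4 n15428
theorem D16160 : act 4 n15428 = n16160 := rfl
theorem F63906 : act 0 n16160 = n15886 := d3_1 D16160 (iv F63902) F63900
theorem F63907 : act 1 n16160 = n15536 := d10_1 D16160 (iv D15536) (iv F60985)
theorem F63908 : act 2 n16160 = n15429 := d16_1 D16160 (iv D15429) D15428
theorem F63909 : act 6 n16160 = n15825 := d27_2 F63898 D16160 (iv F63897)
theorem F63910 : act 8 n16160 = n16160 := d29_2 F60988 D16160 (iv D16160)
def n16161 : Q := act 8 n15431
theorem D16161 : act 8 n15431 = n16161 := rfl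
theorem F63911 : act 0 n16161 = n15539 := d7_1 D16161 (iv D15539) (iv F60999)
theorem F63912 : act 2 n16161 = n15432 := d20_1 D16161 (iv D15432) D15431
theorem F63913 : act 3 n16161 = n15447 := d25_1 D16161 (iv D15447) (iv F61000)
theorem F63914 : act 5 n16161 = n15435 := d32_1 D16161 (iv D15435) (iv F61001)
def n16162 : Q := act 7 n15432
theorem D16162 : act 7 n15432 = n16162 := rfl
theorem F63915 : act 0 n16162 = n15569 := d6_1 D16162 (iv D15569) (iv F61003)
theorem F63916 : act 1 n16162 = n16162 := d13_1 D16162 (iv D16162) F61004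
theorem F63917 : act 3 n16162 = n15563 := d24_1 D16162 (iv D15563) F58216 (iv F57719) (iv F61005)
theorem F63918 : act 5 n16162 = n15437 := d31_1 D16162 (iv D15437) (iv F61006)
theorem F63919 : act 8 n16162 = n16141 := d35_2 D15432 D16162 (iv D16141) (iv D15404) (iv F57713)
def n16163 : Q := act 8 n15433
theorem D16163 : act 8 n15433 = n16163 := rfl
theorem F63920 : act 0 n16163 = n15788 := d7_1 D16163 (iv D15788) (iv F61007)
theorem F63921 : act 1 n16163 = n15435 := d14_1 D16163 (iv D15435) D15433
theorem F63922 : act 2 n16163 = n16163 := d20_1 D16163 (iv D16163) F61008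
theorem F63923 : act 3 n16163 = n15449 := d25_1 D16163 (iv D15449) (iv F61009)
theorem F63924 : act 6 n16163 = n15440 := d34_1 D16163 (iv D15440) (iv F61010)
def n16164 : Q := act 8 n15434
theorem D16164 : act 8 n15434 = n16164 := rfl
theorem F63925 : act 0 n16164 = n15571 := d7_1 D16164 (iv D15571) (iv F61011)
theorem F63926 : act 2 n16164 = n15436 := d20_1 D16164 (iv D15436) (iv F61012)
theorem F63927 : act 3 n16164 = n15672 := d25_1 D16164 F61862 (iv F61013)
theorem F63928 : act 4 n16164 = n15435 := d29_1 D16164 (iv D15435) D15434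
theorem F63929 : act 6 n16164 = n15443 := d34_1 D16164 (iv D15443) (iv F61014)
def n16165 : Q := act 7 n15435
theorem D16165 : act 7 n15435 = n16165 := rfl
theorem F63930 : act 0 n16165 = n15572 := d6_1 D16165 (iv D15572) (iv F61015)
theorem F63931 : act 2 n16165 = n15437 := d19_1 D16165 (iv D15437) (iv F61016)
theorem F63932 : act 6 n16165 = n15444 := d33_1 D16165 (iv D15444) (iv F61018)
def n16166 : Q := act 7 n15436
theorem D16166 : act 7 n15436 = n16166 := rfl
theorem F63933 : act 0 n16166 = n15573 := d6_1 D16166 (iv D15573) (iv F61019)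
theorem F63934 : act 1 n16166 = n16166 := d13_1 D16166 (iv D16166) F61020
theorem F63935 : act 3 n16166 = n16108 := d24_1 D16166 F63646 F60583 (iv F58230) (iv F61021)
theorem F63936 : act 4 n16166 = n15437 := d28_1 D16166 (iv D15437) (iv F61022)
theorem F63937 : act 6 n16166 = n15446 := d33_1 D16166 (iv D15446) (iv F61023)
def n16167 : Q := act 4 n15438
theorem D16167 : act 4 n15438 = n16167 := rfl
theorem F63938 : act 0 n16167 = n15439 := d3_1 D16167 (iv D15439) D15438
theorem F63939 : act 1 n16167 = n15574 := d10_1 D16167 (iv D15574) (iv F61028)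
theorem F63940 : act 2 n16167 = n16167 := d16_1 D16167 (iv D16167) F61029
theorem F63941 : act 5 n16167 = n15840 := d26_2 F62737 D16167 F62539 (iv F62576) F62740
theorem F63942 : act 6 n16167 = n15787 := d27_2 (iv F61031) D16167 (iv D15787)
theorem F63943 : act 7 n16167 = n15839 := d28_2 (iv F61032) D16167 (iv F62535)
def n16168 : Q := act 8 n15438
theorem D16168 : act 8 n15438 = n16168 := rfl
theorem F63944 : act 0 n16168 = n15440 := d7_1 D16168 (iv D15440) D15438
theorem F63945 : act 1 n16168 = n15575 := d14_1 D16168 (iv D15575) (iv F61028)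
theorem F63946 : act 2 n16168 = n16168 := d20_1 D16168 (iv D16168) F61029
theorem F63947 : act 3 n16168 = n15451 := d25_1 D16168 (iv D15451) (iv F61030)
theorem F63948 : act 6 n16168 = n15788 := d34_1 D16168 (iv D15788) (iv F61031)
def n16169 : Q := act 5 n15439
theorem D16169 : act 5 n15439 = n16169 := rfl
theorem F63949 : act 0 n16169 = n15840 := d4_1 D16169 (iv F63941) F63938
theorem F63950 : act 1 n16169 = n15442 := d11_1 D16169 (iv D15442) (iv F61033)
theorem F63951 : act 2 n16169 = n16169 := d17_1 D16169 (iv D16169) F61034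
theorem F63952 : act 4 n16169 = n15796 := d26_1 D16169 F62747 (iv D15910) F59691 D15439
theorem F63953 : act 7 n16169 = n15789 := d31_2 F62365 D16169 (iv F62372)
def n16170 : Q := act 8 n15439
theorem D16170 : act 8 n15439 = n16170 := rfl
theorem F63954 : act 1 n16170 = n15443 := d14_1 D16170 (iv D15443) (iv F61033)
theorem F63955 : act 2 n16170 = n16170 := d20_1 D16170 (iv D16170) F61034
theorem F63956 : act 4 n16170 = n15440 := d29_1 D16170 (iv D15440) D15439
def n16171 : Q := act 7 n15440
theorem D16171 : act 7 n15440 = n16171 := rfl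
theorem F63957 : act 1 n16171 = n15444 := d13_1 D16171 (iv D15444) (iv F61035)
theorem F63958 : act 2 n16171 = n16171 := d19_1 D16171 (iv D16171) F61036
def n16172 : Q := act 7 n15441
theorem D16172 : act 7 n15441 = n16172 := rfl
theorem F63959 : act 0 n16172 = n15581 := d6_1 D16172 (iv D15581) (iv F61038)
theorem F63960 : act 1 n16172 = n15583 := d13_1 D16172 (iv F62547) F62543
theorem F63961 : act 2 n16172 = n15695 := d19_1 D16172 F61959 (iv F61039)
theorem F63962 : act 3 n16172 = n16169 := d24_1 D16172 F63953 (iv D15789) F59276 D15441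
theorem F63963 : act 4 n16172 = n15456 := d28_1 D16172 (iv D15456) (iv F61040)
theorem F63964 : act 5 n16172 = n15842 := d31_1 D16172 F62547 F61578
theorem F63965 : act 6 n16172 = n15577 := d33_1 D16172 F61558 (iv F61041)
def n16173 : Q := act 8 n15441
theorem D16173 : act 8 n15441 = n16173 := rfl
theorem F63966 : act 0 n16173 = n15582 := d7_1 D16173 (iv D15582) (iv F61038)
theorem F63967 : act 2 n16173 = n15661 := d20_1 D16173 F61824 (iv F61039)
theorem F63968 : act 3 n16173 = n15443 := d25_1 D16173 (iv D15443) D15441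
theorem F63969 : act 4 n16173 = n15457 := d29_1 D16173 (iv D15457) (iv F61040)
theorem F63970 : act 6 n16173 = n15672 := d34_1 D16173 F61862 (iv F61041)
def n16174 : Q := act 8 n15442
theorem D16174 : act 8 n15442 = n16174 := rfl
theorem F63971 : act 0 n16174 = n15584 := d7_1 D16174 (iv D15584) (iv F61042)
theorem F63972 : act 2 n16174 = n15445 := d20_1 D16174 (iv D15445) (iv F61043)
theorem F63973 : act 5 n16174 = n15443 := d32_1 D16174 (iv D15443) D15442
def n16175 : Q := act 7 n15443
theorem D16175 : act 7 n15443 = n16175 := rfl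
theorem F63974 : act 0 n16175 = n15585 := d6_1 D16175 (iv D15585) (iv F61044)
theorem F63975 : act 2 n16175 = n15446 := d19_1 D16175 (iv D15446) (iv F61045)
theorem F63976 : act 4 n16175 = n15444 := d28_1 D16175 (iv D15444) (iv F61046)
def n16176 : Q := act 3 n15444
theorem D16176 : act 3 n15444 = n16176 := rfl
theorem F63977 : act 0 n16176 = n15586 := d2_1 D16176 (iv D15586) (iv F61047)
theorem F63978 : act 7 n16176 = n15460 := d24_2 D15444 D16176 (iv D15460) (iv D14632) (iv F57737)
def n16177 : Q := act 7 n15445
theorem D16177 : act 7 n15445 = n16177 := rfl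
theorem F63979 : act 0 n16177 = n15588 := d6_1 D16177 (iv D15588) (iv F61049)
theorem F63980 : act 1 n16177 = n16177 := d13_1 D16177 (iv D16177) F61050
theorem F63981 : act 5 n16177 = n15446 := d31_1 D16177 (iv D15446) (iv F61052)
def n16178 : Q := act 3 n15446
theorem D16178 : act 3 n15446 = n16178 := rfl
theorem F63982 : act 0 n16178 = n15589 := d2_1 D16178 (iv D15589) (iv F61053)
theorem F63983 : act 1 n16178 = n16178 := d9_1 D16178 (iv D16178) F61054
theorem F63984 : act 4 n16178 = n16096 := d21_2 (iv F61055) D16178 (iv D16096) (iv F60910) F60909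
theorem F63985 : act 6 n16178 = n16108 := d23_2 F63937 D16178 (iv F63935)
theorem F63986 : act 7 n16178 = n15756 := d24_2 D15446 D16178 (iv D15756) (iv D14957) (iv F57743)
def n16179 : Q := act 7 n15447
theorem D16179 : act 7 n15447 = n16179 := rfl
theorem F63987 : act 0 n16179 = n15543 := d6_1 D16179 (iv D15543) (iv F61056)
theorem F63988 : act 2 n16179 = n15448 := d19_1 D16179 (iv D15448) (iv F61057)
theorem F63989 : act 5 n16179 = n15450 := d31_1 D16179 (iv D15450) (iv F61058)
theorem F63990 : act 8 n16179 = n15464 := d35_2 D15447 D16179 (iv D15464) (iv D14636) (iv F57749)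
def n16180 : Q := act 7 n15449
theorem D16180 : act 7 n15449 = n16180 := rfl
theorem F63991 : act 0 n16180 = n15795 := d6_1 D16180 (iv D15795) (iv F61064)
theorem F63992 : act 1 n16180 = n15450 := d13_1 D16180 (iv D15450) (iv F61065)
theorem F63993 : act 2 n16180 = n15516 := d19_1 D16180 (iv D15516) (iv F61066)
theorem F63994 : act 4 n16180 = n15652 := d28_1 D16180 F61785 (iv F61067)
theorem F63995 : act 6 n16180 = n15454 := d33_1 D16180 (iv D15454) (iv F61068)
theorem F63996 : act 8 n16180 = n15468 := d35_2 D15449 D16180 (iv D15468) (iv D14640) (iv F57758)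
def n16181 : Q := act 3 n15450
theorem D16181 : act 3 n15450 = n16181 := rfl
theorem F63997 : act 0 n16181 = n15592 := d2_1 D16181 (iv D15592) (iv F61069)
theorem F63998 : act 2 n16181 = n15558 := d15_1 D16181 (iv D15558) F58199 (iv F57765) (iv F61070)
theorem F63999 : act 6 n16181 = n15460 := d23_2 (iv F61072) D16181 (iv D15460)
theorem F64000 : act 8 n16181 = n15474 := d25_2 (iv F61073) D16181 (iv D15474)
def n16182 : Q := act 7 n15451
theorem D16182 : act 7 n15451 = n16182 := rfl
theorem F64001 : act 0 n16182 = n15454 := d6_1 D16182 (iv D15454) (iv F61074)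
theorem F64002 : act 1 n16182 = n15595 := d13_1 D16182 (iv D15595) (iv F61075)
theorem F64003 : act 2 n16182 = n15518 := d19_1 D16182 (iv D15518) (iv F61076)
theorem F64004 : act 6 n16182 = n15795 := d33_1 D16182 (iv D15795) (iv F61077)
theorem F64005 : act 8 n16182 = n15478 := d35_2 D15451 D16182 (iv D15478) (iv D14648) (iv F57772)
def n16183 : Q := act 8 n15452
theorem D16183 : act 8 n15452 = n16183 := rfl
theorem F64006 : act 1 n16183 = n15457 := d14_1 D16183 (iv D15457) (iv F61078)
theorem F64007 : act 2 n16183 = n15745 := d20_1 D16183 F62176 (iv F61079)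
theorem F64008 : act 3 n16183 = n15453 := d25_1 D16183 (iv D15453) D15452
theorem F64009 : act 6 n16183 = n15671 := d34_1 D16183 F61859 (iv F61080)
def n16184 : Q := act 7 n15453
theorem D16184 : act 7 n15453 = n16184 := rfl
theorem F64010 : act 1 n16184 = n15459 := d13_1 D16184 (iv D15459) (iv F61081)
theorem F64011 : act 2 n16184 = n15519 := d19_1 D16184 (iv D15519) (iv F61082)
theorem F64012 : act 4 n16184 = n15454 := d28_1 D16184 (iv D15454) (iv F61083)
theorem F64013 : act 6 n16184 = n15652 := d33_1 D16184 F61785 (iv F61084)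
theorem F64014 : act 8 n16184 = n15483 := d35_2 D15453 D16184 (iv D15483) (iv D14651) (iv F57776)
def n16185 : Q := act 3 n15454
theorem D16185 : act 3 n15454 = n16185 := rfl
theorem F64015 : act 1 n16185 = n15460 := d9_1 D16185 (iv D15460) (iv F61085)
theorem F64016 : act 8 n16185 = n15484 := d25_2 (iv F61087) D16185 (iv D15484)
def n16186 : Q := act 4 n15455
theorem D16186 : act 4 n15455 = n16186 := rfl
theorem F64017 : act 0 n16186 = n15602 := d3_1 D16186 (iv D15602) (iv F61088)
theorem F64018 : act 2 n16186 = n15757 := d16_1 D16186 (iv D15757) (iv F61089)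
theorem F64019 : act 5 n16186 = n16014 := d26_2 D15455 D16186 F63283 F61578 F61040
theorem F64020 : act 6 n16186 = n15957 := d27_2 F62955 D16186 F62991
theorem F64021 : act 7 n15956 = n16186 := d33_0 F64020 (iv D15957) D15956
def n16187 : Q := act 7 n15455
theorem D16187 : act 7 n15455 = n16187 := rfl
theorem F64022 : act 0 n16187 = n15604 := d6_1 D16187 (iv D15604) (iv F61088)
theorem F64023 : act 1 n16187 = n16186 := d13_1 D16187 (iv F64021) F62984
theorem F64024 : act 2 n16187 = n15759 := d19_1 D16187 (iv D15759) (iv F61089)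
theorem F64025 : act 3 n16187 = n15487 := d24_1 D16187 (iv D15487) F57867 (iv F57784) (iv F61090)
theorem F64026 : act 4 n16187 = n15956 := d28_1 D16187 F64021 (iv D16186)
theorem F64027 : act 5 n16187 = n15456 := d31_1 D16187 (iv D15456) D15455
theorem F64028 : act 6 n16187 = n15955 := d33_1 D16187 (iv F62982) F62955
def n16188 : Q := act 8 n15455
theorem D16188 : act 8 n15455 = n16188 := rfl
theorem F64029 : act 0 n16188 = n15605 := d7_1 D16188 (iv D15605) (iv F61088)
theorem F64030 : act 2 n16188 = n15660 := d20_1 D16188 F61819 (iv F61089)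
theorem F64031 : act 3 n16188 = n15458 := d25_1 D16188 (iv D15458) (iv F61090)
theorem F64032 : act 5 n16188 = n15457 := d32_1 D16188 (iv D15457) D15455
def n16189 : Q := act 8 n15456
theorem D16189 : act 8 n15456 = n16189 := rfl
theorem F64033 : act 0 n16189 = n15606 := d7_1 D16189 (iv D15606) (iv F61091)
theorem F64034 : act 2 n16189 = n15760 := d20_1 D16189 (iv D15760) (iv F61092)
theorem F64035 : act 3 n16189 = n15489 := d25_1 D16189 (iv D15489) (iv F61093)
theorem F64036 : act 6 n16189 = n15780 := d34_1 D16189 F62329 (iv F61094)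
def n16190 : Q := act 7 n15457
theorem D16190 : act 7 n15457 = n16190 := rfl
theorem F64037 : act 0 n16190 = n15607 := d6_1 D16190 (iv D15607) (iv F61095)
theorem F64038 : act 2 n16190 = n15658 := d19_1 D16190 F61808 (iv F61096)
theorem F64039 : act 6 n16190 = n15667 := d33_1 D16190 F61843 (iv F61098)
def n16191 : Q := act 7 n15458
theorem D16191 : act 7 n15458 = n16191 := rfl
theorem F64040 : act 0 n16191 = n15609 := d6_1 D16191 (iv D15609) (iv F61099)
theorem F64041 : act 2 n16191 = n15461 := d19_1 D16191 (iv D15461) (iv F61100)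
theorem F64042 : act 5 n16191 = n15459 := d31_1 D16191 (iv D15459) (iv F61101)
theorem F64043 : act 8 n16191 = n15492 := d35_2 D15458 D16191 (iv D15492) (iv D14657) (iv F57784)
def n16192 : Q := act 3 n15459
theorem D16192 : act 3 n15459 = n16192 := rfl
theorem F64044 : act 0 n16192 = n15610 := d2_1 D16192 (iv D15610) (iv F61102)
theorem F64045 : act 2 n16192 = n15621 := d15_1 D16192 (iv D15621) F58399 (iv F57798) (iv F61103)
theorem F64046 : act 6 n16192 = n15648 := d23_2 (iv F61105) D16192 F61780
theorem F64047 : act 8 n16192 = n15493 := d25_2 (iv F61106) D16192 (iv D15493)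
def n16193 : Q := act 4 n15460
theorem D16193 : act 4 n15460 = n16193 := rfl
theorem F64048 : act 0 n16193 = n15611 := d3_1 D16193 (iv D15611) (iv F61107)
theorem F64049 : act 8 n16193 = n15494 := d29_2 (iv F61108) D16193 (iv D15494)
def n16194 : Q := act 8 n15462
theorem D16194 : act 8 n15462 = n16194 := rfl
theorem F64050 : act 0 n16194 = n15548 := d7_1 D16194 (iv D15548) (iv F61114)
theorem F64051 : act 2 n16194 = n16194 := d20_1 D16194 (iv D16194) F61115
theorem F64052 : act 3 n16194 = n15463 := d25_1 D16194 (iv D15463) D15462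
theorem F64053 : act 4 n16194 = n16067 := d29_1 D16194 (iv D16067) (iv F61116)
def n16195 : Q := act 7 n15463
theorem D16195 : act 7 n15463 = n16195 := rfl
theorem F64054 : act 0 n16195 = n15550 := d6_1 D16195 (iv D15550) (iv F61117)
theorem F64055 : act 2 n16195 = n15465 := d19_1 D16195 (iv D15465) (iv F61118)
theorem F64056 : act 4 n16195 = n15464 := d28_1 D16195 (iv D15464) (iv F61119)
def n16196 : Q := act 3 n15464
theorem D16196 : act 3 n15464 = n16196 := rfl
theorem F64057 : act 0 n16196 = n15551 := d2_1 D16196 (iv D15551) (iv F61120)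
theorem F64058 : act 5 n16196 = n15474 := d22_2 (iv F61122) D16196 (iv D15474)
theorem F64059 : act 7 n16196 = n16070 := d24_2 D15464 D16196 (iv D16070) (iv D15312) (iv F57806)
def n16197 : Q := act 3 n15465
theorem D16197 : act 3 n15465 = n16197 := rfl
theorem F64060 : act 0 n16197 = n15567 := d2_1 D16197 (iv D15567) (iv F61123)
theorem F64061 : act 1 n16197 = n15521 := d9_1 D16197 (iv D15521) (iv F61124)
theorem F64062 : act 4 n16197 = n15857 := d21_2 (iv F61125) D16197 (iv D15857) (iv F60657) F60656
theorem F64063 : act 7 n16197 = n16197 := d24_2 D15465 D16197 (iv D16197) (iv D15465) F57810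
theorem F64064 : act 8 n16197 = n15872 := d25_2 F63132 D16197 (iv F63128)
def n16198 : Q := act 8 n15466
theorem D16198 : act 8 n15466 = n16198 := rfl
theorem F64065 : act 0 n16198 = n15802 := d7_1 D16198 (iv D15802) (iv F61126)
theorem F64066 : act 1 n16198 = n15471 := d14_1 D16198 (iv D15471) (iv F61127)
theorem F64067 : act 2 n16198 = n16198 := d20_1 D16198 (iv D16198) F61128
theorem F64068 : act 3 n16198 = n15467 := d25_1 D16198 (iv D15467) D15466
theorem F64069 : act 6 n16198 = n15481 := d34_1 D16198 (iv D15481) (iv F61129)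
def n16199 : Q := act 7 n15467
theorem D16199 : act 7 n15467 = n16199 := rfl
theorem F64070 : act 0 n16199 = n15803 := d6_1 D16199 (iv D15803) (iv F61130)
theorem F64071 : act 1 n16199 = n15473 := d13_1 D16199 (iv D15473) (iv F61131)
theorem F64072 : act 2 n16199 = n15522 := d19_1 D16199 (iv D15522) (iv F61132)
theorem F64073 : act 4 n16199 = n15468 := d28_1 D16199 (iv D15468) (iv F61133)
theorem F64074 : act 6 n16199 = n15483 := d33_1 D16199 (iv D15483) (iv F61134)
theorem F64075 : act 8 n16199 = n15652 := d35_2 D15467 D16199 F61785 F58554 (iv F57819)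
def n16200 : Q := act 3 n15468
theorem D16200 : act 3 n15468 = n16200 := rfl
theorem F64076 : act 0 n16200 = n15804 := d2_1 D16200 (iv D15804) (iv F61135)
theorem F64077 : act 1 n16200 = n15474 := d9_1 D16200 (iv D15474) (iv F61136)
theorem F64078 : act 6 n16200 = n15484 := d23_2 (iv F61138) D16200 (iv D15484)
def n16201 : Q := act 8 n15469
theorem D16201 : act 8 n15469 = n16201 := rfl
theorem F64079 : act 0 n16201 = n15616 := d7_1 D16201 (iv D15616) (iv F61139)
theorem F64080 : act 2 n16201 = n15501 := d20_1 D16201 (iv D15501) (iv F61140)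
theorem F64081 : act 3 n16201 = n15472 := d25_1 D16201 (iv D15472) (iv F61141)
theorem F64082 : act 5 n16201 = n15471 := d32_1 D16201 (iv D15471) D15469
def n16202 : Q := act 8 n15470
theorem D16202 : act 8 n15470 = n16202 := rfl
theorem F64083 : act 0 n16202 = n15617 := d7_1 D16202 (iv D15617) (iv F61142)
theorem F64084 : act 2 n16202 = n15502 := d20_1 D16202 (iv D15502) (iv F61143)
theorem F64085 : act 3 n16202 = n15780 := d25_1 D16202 F62329 (iv F61144)
theorem F64086 : act 6 n16202 = n15489 := d34_1 D16202 (iv D15489) (iv F61145)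
def n16203 : Q := act 7 n15471
theorem D16203 : act 7 n15471 = n16203 := rfl
theorem F64087 : act 0 n16203 = n15618 := d6_1 D16203 (iv D15618) (iv F61146)
theorem F64088 : act 2 n16203 = n15503 := d19_1 D16203 (iv D15503) (iv F61147)
theorem F64089 : act 6 n16203 = n15490 := d33_1 D16203 (iv D15490) (iv F61149)
def n16204 : Q := act 7 n15472
theorem D16204 : act 7 n15472 = n16204 := rfl
theorem F64090 : act 0 n16204 = n15620 := d6_1 D16204 (iv D15620) (iv F61150)
theorem F64091 : act 2 n16204 = n15475 := d19_1 D16204 (iv D15475) (iv F61151)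
theorem F64092 : act 5 n16204 = n15473 := d31_1 D16204 (iv D15473) (iv F61152)
theorem F64093 : act 8 n16204 = n15651 := d35_2 D15472 D16204 F61783 F58552 (iv F57829)
def n16205 : Q := act 3 n15473
theorem D16205 : act 3 n15473 = n16205 := rfl
theorem F64094 : act 0 n16205 = n15621 := d2_1 D16205 (iv D15621) (iv F61153)
theorem F64095 : act 2 n16205 = n15610 := d15_1 D16205 (iv D15610) F58372 (iv F57843) (iv F61154)
theorem F64096 : act 6 n16205 = n15493 := d23_2 (iv F61156) D16205 (iv D15493)
theorem F64097 : act 8 n16205 = n15648 := d25_2 (iv F61157) D16205 F61780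
def n16206 : Q := act 4 n15474
theorem D16206 : act 4 n15474 = n16206 := rfl
theorem F64098 : act 0 n16206 = n15622 := d3_1 D16206 (iv D15622) (iv F61158)
theorem F64099 : act 6 n16206 = n15494 := d27_2 (iv F61159) D16206 (iv D15494)
def n16207 : Q := act 7 n15476
theorem D16207 : act 7 n15476 = n16207 := rfl
theorem F64100 : act 0 n16207 = n15480 := d6_1 D16207 (iv D15480) (iv F61165)
theorem F64101 : act 1 n16207 = n15625 := d13_1 D16207 (iv D15625) (iv F61166)
theorem F64102 : act 2 n16207 = n16207 := d19_1 D16207 (iv D16207) F61167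
theorem F64103 : act 4 n16207 = n16012 := d28_1 D16207 F63275 (iv F61168)
theorem F64104 : act 5 n16207 = n16034 := d31_1 D16207 F63382 F63381
theorem F64105 : act 6 n16207 = n15801 := d33_1 D16207 (iv D15801) (iv F61169)
def n16208 : Q := act 8 n15476
theorem D16208 : act 8 n15476 = n16208 := rfl
theorem F64106 : act 0 n16208 = n15481 := d7_1 D16208 (iv D15481) (iv F61165)
theorem F64107 : act 1 n16208 = n15626 := d14_1 D16208 (iv D15626) (iv F61166)
theorem F64108 : act 2 n16208 = n16208 := d20_1 D16208 (iv D16208) F61167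
theorem F64109 : act 3 n16208 = n15477 := d25_1 D16208 (iv D15477) D15476
theorem F64110 : act 4 n16208 = n16198 := d29_1 D16208 (iv D16198) (iv F61168)
theorem F64111 : act 6 n16208 = n15802 := d34_1 D16208 (iv D15802) (iv F61169)
def n16209 : Q := act 7 n15477
theorem D16209 : act 7 n15477 = n16209 := rfl
theorem F64112 : act 0 n16209 = n15483 := d6_1 D16209 (iv D15483) (iv F61170)
theorem F64113 : act 1 n16209 = n15628 := d13_1 D16209 (iv D15628) (iv F61171)
theorem F64114 : act 2 n16209 = n15526 := d19_1 D16209 (iv D15526) (iv F61172)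
theorem F64115 : act 4 n16209 = n15478 := d28_1 D16209 (iv D15478) (iv F61173)
theorem F64116 : act 6 n16209 = n15803 := d33_1 D16209 (iv D15803) (iv F61174)
def n16210 : Q := act 3 n15478
theorem D16210 : act 3 n15478 = n16210 := rfl
theorem F64117 : act 0 n16210 = n15484 := d2_1 D16210 (iv D15484) (iv F61175)
theorem F64118 : act 1 n16210 = n15629 := d9_1 D16210 (iv D15629) (iv F61176)
theorem F64119 : act 6 n16210 = n15804 := d23_2 (iv F61178) D16210 (iv D15804)
theorem F64120 : act 7 n16210 = n16200 := d24_2 D15478 D16210 (iv D16200) (iv D15468) (iv F57854)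
def n16211 : Q := act 4 n15479
theorem D16211 : act 4 n15479 = n16211 := rfl
theorem F64121 : act 0 n16211 = n16036 := d3_1 D16211 F63385 F63377
theorem F64122 : act 1 n16211 = n15485 := d10_1 D16211 (iv D15485) (iv F61179)
theorem F64123 : act 2 n16211 = n16211 := d16_1 D16211 (iv D16211) F61180
theorem F64124 : act 3 n16211 = n15957 := d21_1 D16211 F62991 F62954 F59860 (iv F61181)
theorem F64125 : act 5 n16211 = n15930 := d26_2 D15479 D16211 F62856 F60302 F59308
theorem F64126 : act 7 n15929 = n16211 := d31_0 F64125 (iv D15930) D15929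
def n16212 : Q := act 7 n15479
theorem D16212 : act 7 n15479 = n16212 := rfl
theorem F64127 : act 0 n16212 = n16034 := d6_1 D16212 F63382 F63377
theorem F64128 : act 1 n16212 = n15487 := d13_1 D16212 (iv D15487) (iv F61179)
theorem F64129 : act 2 n16212 = n16212 := d19_1 D16212 (iv D16212) F61180
theorem F64130 : act 3 n16212 = n16186 := d24_1 D16212 (iv F64021) F62986 F59885 (iv F61181)
theorem F64131 : act 4 n16212 = n15929 := d28_1 D16212 F64126 (iv D16211)
theorem F64132 : act 5 n16212 = n15480 := d31_1 D16212 (iv D15480) D15479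
theorem F64133 : act 6 n16212 = n16211 := d33_1 D16212 (iv F64126) F62851
def n16213 : Q := act 8 n15479
theorem D16213 : act 8 n15479 = n16213 := rfl
theorem F64134 : act 1 n16213 = n15488 := d14_1 D16213 (iv D15488) (iv F61179)
theorem F64135 : act 2 n16213 = n16213 := d20_1 D16213 (iv D16213) F61180
theorem F64136 : act 3 n16213 = n15482 := d25_1 D16213 (iv D15482) (iv F61181)
theorem F64137 : act 5 n16213 = n15481 := d32_1 D16213 (iv D15481) D15479
def n16214 : Q := act 8 n15480
theorem D16214 : act 8 n15480 = n16214 := rfl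
theorem F64138 : act 1 n16214 = n15489 := d14_1 D16214 (iv D15489) (iv F61182)
theorem F64139 : act 2 n16214 = n16214 := d20_1 D16214 (iv D16214) F61183
def n16215 : Q := act 7 n15481
theorem D16215 : act 7 n15481 = n16215 := rfl
theorem F64140 : act 1 n16215 = n15490 := d13_1 D16215 (iv D15490) (iv F61184)
theorem F64141 : act 2 n16215 = n16215 := d19_1 D16215 (iv D16215) F61185
def n16216 : Q := act 7 n15482
theorem D16216 : act 7 n15482 = n16216 := rfl
theorem F64142 : act 1 n16216 = n15492 := d13_1 D16216 (iv D15492) (iv F61187)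
theorem F64143 : act 2 n16216 = n15528 := d19_1 D16216 (iv D15528) (iv F61188)
theorem F64144 : act 5 n16216 = n15483 := d31_1 D16216 (iv D15483) (iv F61189)
def n16217 : Q := act 3 n15483
theorem D16217 : act 3 n15483 = n16217 := rfl
theorem F64145 : act 1 n16217 = n15493 := d9_1 D16217 (iv D15493) (iv F61190)
def n16218 : Q := act 2 n15484
theorem D16218 : act 2 n15484 = n16218 := rfl
theorem F64146 : act 3 n16218 = n15530 := d15_2 D15484 D16218 (iv D15530) (iv D14704) (iv F57864)
def n16219 : Q := act 4 n15484
theorem D16219 : act 4 n15484 = n16219 := rfl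
theorem F64147 : act 1 n16219 = n15494 := d10_1 D16219 (iv D15494) (iv F61193)
def n16220 : Q := act 8 n15485
theorem D16220 : act 8 n15485 = n16220 := rfl
theorem F64148 : act 0 n16220 = n15640 := d7_1 D16220 (iv D15640) (iv F61194)
theorem F64149 : act 2 n16220 = n15505 := d20_1 D16220 (iv D15505) (iv F61195)
theorem F64150 : act 4 n16220 = n15488 := d29_1 D16220 (iv D15488) D15485
def n16221 : Q := act 8 n15486
theorem D16221 : act 8 n15486 = n16221 := rfl
theorem F64151 : act 0 n16221 = n15641 := d7_1 D16221 (iv D15641) (iv F61196)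
theorem F64152 : act 2 n16221 = n15506 := d20_1 D16221 (iv D15506) (iv F61197)
theorem F64153 : act 3 n16221 = n15491 := d25_1 D16221 (iv D15491) (iv F61198)
theorem F64154 : act 6 n16221 = n15488 := d34_1 D16221 (iv D15488) D15486
def n16222 : Q := act 8 n15487
theorem D16222 : act 8 n15487 = n16222 := rfl
theorem F64155 : act 0 n16222 = n15642 := d7_1 D16222 (iv D15642) (iv F61200)
theorem F64156 : act 2 n16222 = n15507 := d20_1 D16222 (iv D15507) (iv F61201)
theorem F64157 : act 4 n16222 = n16221 := d29_1 D16222 (iv D16221) (iv F61202)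
theorem F64158 : act 5 n16222 = n15489 := d32_1 D16222 (iv D15489) (iv F61203)
theorem F64159 : act 6 n16222 = n16220 := d34_1 D16222 (iv D16220) (iv F61204)
def n16223 : Q := act 7 n15488
theorem D16223 : act 7 n15488 = n16223 := rfl
theorem F64160 : act 0 n16223 = n15643 := d6_1 D16223 (iv D15643) (iv F61205)
theorem F64161 : act 2 n16223 = n15508 := d19_1 D16223 (iv D15508) (iv F61206)
theorem F64162 : act 5 n16223 = n15490 := d31_1 D16223 (iv D15490) (iv F61208)
def n16224 : Q := act 7 n15489
theorem D16224 : act 7 n15489 = n16224 := rfl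
theorem F64163 : act 0 n16224 = n15644 := d6_1 D16224 (iv D15644) (iv F61209)
theorem F64164 : act 2 n16224 = n15509 := d19_1 D16224 (iv D15509) (iv F61210)
theorem F64165 : act 8 n16224 = n15490 := d35_2 D15489 D16224 (iv D15490) (iv D14655) D14654
def n16225 : Q := act 3 n15490
theorem D16225 : act 3 n15490 = n16225 := rfl
theorem F64166 : act 0 n16225 = n15645 := d2_1 D16225 (iv D15645) (iv F61211)
theorem F64167 : act 7 n16225 = n15493 := d24_2 D15490 D16225 (iv D15493) (iv D14658) (iv F57872)
def n16226 : Q := act 7 n15491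
theorem D16226 : act 7 n15491 = n16226 := rfl
theorem F64168 : act 0 n16226 = n15646 := d6_1 D16226 (iv D15646) (iv F61213)
theorem F64169 : act 2 n16226 = n15495 := d19_1 D16226 (iv D15495) (iv F61214)
theorem F64170 : act 6 n16226 = n15492 := d33_1 D16226 (iv D15492) (iv F61215)
def n16227 : Q := act 3 n15492
theorem D16227 : act 3 n15492 = n16227 := rfl
theorem F64171 : act 0 n16227 = n15647 := d2_1 D16227 (iv D15647) (iv F61216)
theorem F64172 : act 5 n16227 = n15493 := d22_2 (iv F61218) D16227 (iv D15493)
def n16228 : Q := act 2 n15493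
theorem D16228 : act 2 n15493 = n16228 := rfl
theorem F64173 : act 0 n16228 = n15648 := d1_1 D16228 (iv D15648) (iv F61219)
theorem F64174 : act 3 n16228 = n15497 := d15_2 D15493 D16228 (iv D15497) (iv D14662) (iv F57879)
theorem F64175 : act 6 n16228 = n15610 := d18_2 F64096 D16228 (iv F64095)
theorem F64176 : act 8 n16228 = n15621 := d20_2 F64047 D16228 (iv F64045)
theorem F64177 : act 1 n15855 = n16228 := d14_3 F64176 F61697 (iv F62586)
def n16229 : Q := act 4 n15493
theorem D16229 : act 4 n15493 = n16229 := rfl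
theorem F64178 : act 0 n16229 = n15649 := d3_1 D16229 (iv D15649) (iv F61219)
theorem F64179 : act 3 n16229 = n15494 := d21_1 D16229 (iv D15494) (iv D14659) (iv F57880) D15493
def n16230 : Q := act 5 n15494
theorem D16230 : act 5 n15494 = n16230 := rfl
theorem F64180 : act 0 n16230 = n15650 := d4_1 D16230 (iv D15650) (iv F61220)
def n16231 : Q := act 2 n15496
theorem D16231 : act 2 n15496 = n16231 := rfl
theorem F64181 : act 0 n16231 = n15651 := d1_1 D16231 (iv D15651) (iv F61224)
theorem F64182 : act 1 n16231 = n15854 := d8_1 D16231 F62583 F59488 F58084 (iv F61225)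
theorem F64183 : act 5 n16231 = n15497 := d17_2 (iv F61226) D16231 (iv D15497)
theorem F64184 : act 7 n16231 = n15515 := d19_2 (iv F61227) D16231 (iv D15515)
theorem F64185 : act 8 n16231 = n15620 := d20_2 (iv F61228) D16231 F61695
def n16232 : Q := act 8 n15498
theorem D16232 : act 8 n15498 = n16232 := rfl
theorem F64186 : act 0 n16232 = n15653 := d7_1 D16232 (iv D15653) (iv F61235)
theorem F64187 : act 1 n16232 = n16232 := d14_1 D16232 (iv D16232) F61236
theorem F64188 : act 3 n16232 = n16232 := d25_1 D16232 (iv D16232) F61237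
theorem F64189 : act 4 n16232 = n15501 := d29_1 D16232 (iv D15501) D15498
theorem F64190 : act 6 n16232 = n15817 := d34_1 D16232 (iv D15817) F61238
def n16233 : Q := act 8 n15499
theorem D16233 : act 8 n15499 = n16233 := rfl
theorem F64191 : act 0 n16233 = n15654 := d7_1 D16233 (iv D15654) (iv F61240)
theorem F64192 : act 1 n16233 = n16233 := d14_1 D16233 (iv D16233) F61241
theorem F64193 : act 3 n16233 = n15504 := d25_1 D16233 (iv D15504) (iv F61242)
theorem F64194 : act 4 n16233 = n15817 := d29_1 D16233 (iv D15817) (iv F61243)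
theorem F64195 : act 5 n16233 = n15506 := d32_1 D16233 (iv D15506) (iv F61244)
theorem F64196 : act 6 n16233 = n15501 := d34_1 D16233 (iv D15501) D15499
def n16234 : Q := act 8 n15500
theorem D16234 : act 8 n15500 = n16234 := rfl
theorem F64197 : act 0 n16234 = n15655 := d7_1 D16234 (iv D15655) (iv F61246)
theorem F64198 : act 1 n16234 = n16234 := d14_1 D16234 (iv D16234) F61247
theorem F64199 : act 3 n16234 = n15762 := d25_1 D16234 (iv D15762) (iv F61248)
theorem F64200 : act 4 n16234 = n15816 := d29_1 D16234 (iv D15816) (iv F61249)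
theorem F64201 : act 5 n16234 = n15502 := d32_1 D16234 (iv D15502) (iv F61250)
theorem F64202 : act 6 n16234 = n15815 := d34_1 D16234 (iv D15815) (iv F61251)
def n16235 : Q := act 7 n15501
theorem D16235 : act 7 n15501 = n16235 := rfl
theorem F64203 : act 0 n16235 = n15656 := d6_1 D16235 (iv D15656) (iv F61252)
theorem F64204 : act 1 n16235 = n16235 := d13_1 D16235 (iv D16235) F61253
theorem F64205 : act 3 n16235 = n15778 := d24_1 D16235 (iv D15778) F59158 (iv F57917) (iv F61254)
theorem F64206 : act 5 n16235 = n15503 := d31_1 D16235 (iv D15503) (iv F61255)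
def n16236 : Q := act 7 n15502
theorem D16236 : act 7 n15502 = n16236 := rfl
theorem F64207 : act 0 n16236 = n15657 := d6_1 D16236 (iv D15657) (iv F61256)
theorem F64208 : act 1 n16236 = n16236 := d13_1 D16236 (iv D16236) F61257
theorem F64209 : act 3 n16236 = n15779 := d24_1 D16236 (iv D15779) F59161 (iv F59061) (iv F61258)
theorem F64210 : act 6 n16236 = n15509 := d33_1 D16236 (iv D15509) (iv F61259)
theorem F64211 : act 8 n16236 = n15503 := d35_2 D15502 D16236 (iv D15503) (iv D14665) D14664
def n16237 : Q := act 7 n15505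
theorem D16237 : act 7 n15505 = n16237 := rfl
theorem F64212 : act 0 n16237 = n15662 := d6_1 D16237 (iv D15662) (iv F61271)
theorem F64213 : act 1 n16237 = n16237 := d13_1 D16237 (iv D16237) F61272
theorem F64214 : act 4 n16237 = n15508 := d28_1 D16237 (iv D15508) (iv F61274)
def n16238 : Q := act 7 n15506
theorem D16238 : act 7 n15506 = n16238 := rfl
theorem F64215 : act 0 n16238 = n15663 := d6_1 D16238 (iv D15663) (iv F61275)
theorem F64216 : act 1 n16238 = n16238 := d13_1 D16238 (iv D16238) F61276
theorem F64217 : act 6 n16238 = n15508 := d33_1 D16238 (iv D15508) (iv F61278)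
theorem F64218 : act 8 n16238 = n16237 := d35_2 D15506 D16238 (iv D16237) (iv D15505) F57930
def n16239 : Q := act 7 n15507
theorem D16239 : act 7 n15507 = n16239 := rfl
theorem F64219 : act 0 n16239 = n15664 := d6_1 D16239 (iv D15664) (iv F61279)
theorem F64220 : act 1 n16239 = n16239 := d13_1 D16239 (iv D16239) F61280
theorem F64221 : act 4 n16239 = n16238 := d28_1 D16239 (iv D16238) (iv F61282)
theorem F64222 : act 5 n16239 = n15509 := d31_1 D16239 (iv D15509) (iv F61283)
theorem F64223 : act 6 n16239 = n16237 := d33_1 D16239 (iv D16237) (iv F61284)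
theorem F64224 : act 8 n16239 = n15508 := d35_2 D15507 D16239 (iv D15508) (iv D14672) D14671
def n16240 : Q := act 3 n15508
theorem D16240 : act 3 n15508 = n16240 := rfl
theorem F64225 : act 0 n16240 = n15665 := d2_1 D16240 (iv D15665) (iv F61285)
theorem F64226 : act 1 n16240 = n16240 := d9_1 D16240 (iv D16240) F61286
theorem F64227 : act 5 n16240 = n15510 := d22_2 (iv F61287) D16240 (iv D15510)
theorem F64228 : act 7 n16240 = n15512 := d24_2 D15508 D16240 (iv D15512) (iv D14676) (iv F57939)
theorem F64229 : act 4 n16162 = n16240 := d28_3 F64228 F61304 D16162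
def n16241 : Q := act 3 n15509
theorem D16241 : act 3 n15509 = n16241 := rfl
theorem F64230 : act 0 n16241 = n15666 := d2_1 D16241 (iv D15666) (iv F61288)
theorem F64231 : act 1 n16241 = n16241 := d9_1 D16241 (iv D16241) F61289
theorem F64232 : act 6 n16241 = n15779 := d23_2 F64210 D16241 (iv F64209)
theorem F64233 : act 7 n16241 = n15763 := d24_2 D15509 D16241 (iv D15763) (iv D14970) (iv F57943)
theorem F64234 : act 8 n16241 = n15510 := d25_2 (iv F61290) D16241 (iv D15510)
def n16242 : Q := act 2 n15510
theorem D16242 : act 2 n15510 = n16242 := rfl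
theorem F64235 : act 0 n16242 = n15667 := d1_1 D16242 (iv D15667) (iv F61291)
theorem F64236 : act 6 n16242 = n15607 := d18_2 (iv F61293) D16242 F61654
theorem F64237 : act 7 n16242 = n15513 := d19_2 (iv F61294) D16242 (iv D15513)
theorem F64238 : act 1 n15853 = n16242 := d13_3 F64237 (iv F61311) D15853
def n16243 : Q := act 4 n15510
theorem D16243 : act 4 n15510 = n16243 := rfl
theorem F64239 : act 0 n16243 = n15668 := d3_1 D16243 (iv D15668) (iv F61291)
theorem F64240 : act 1 n16243 = n16243 := d10_1 D16243 (iv D16243) F61292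
theorem F64241 : act 5 n16243 = n16166 := d26_2 F64227 D16243 F63936 (iv F63918) F64229
theorem F64242 : act 6 n16243 = n15770 := d27_2 (iv F61293) D16243 F62296
theorem F64243 : act 7 n16243 = n15514 := d28_2 (iv F61294) D16243 (iv D15514)
def n16244 : Q := act 3 n15511
theorem D16244 : act 3 n15511 = n16244 := rfl
theorem F64244 : act 0 n16244 = n15669 := d2_1 D16244 (iv D15669) (iv F61295)
theorem F64245 : act 1 n16244 = n16244 := d9_1 D16244 (iv D16244) F61296
theorem F64246 : act 4 n16244 = n15562 := d21_2 (iv F61298) D16244 F61499 F59102 F58267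
theorem F64247 : act 5 n16244 = n15776 := d22_2 (iv F61299) D16244 F62317
theorem F64248 : act 6 n16244 = n15512 := d23_2 (iv F61300) D16244 (iv D15512)
theorem F64249 : act 8 n16244 = n15560 := d25_2 (iv F61301) D16244 F61489
def n16245 : Q := act 2 n15512
theorem D16245 : act 2 n15512 = n16245 := rfl
theorem F64250 : act 0 n16245 = n15670 := d1_1 D16245 (iv D15670) (iv F61302)
theorem F64251 : act 3 n16245 = n15515 := d15_2 D15512 D16245 (iv D15515) (iv D14680) (iv F57953)
theorem F64252 : act 4 n16245 = n16161 := d16_2 (iv F61304) D16245 F63912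
theorem F64253 : act 5 n16245 = n15513 := d17_2 (iv F61305) D16245 (iv D15513)
theorem F64254 : act 8 n16245 = n15590 := d20_2 (iv F61306) D16245 F61593
theorem F64255 : act 1 n15851 = n16245 := d14_3 F64254 F61592 D15851
def n16246 : Q := act 4 n15513
theorem D16246 : act 4 n15513 = n16246 := rfl
theorem F64256 : act 0 n16246 = n15672 := d3_1 D16246 (iv D15672) (iv F61307)
theorem F64257 : act 1 n16246 = n15841 := d10_1 D16246 F62542 F61311
theorem F64258 : act 2 n16246 = n15514 := d16_1 D16246 (iv D15514) D15513
theorem F64259 : act 3 n16246 = n15571 := d21_1 D16246 F61535 F58296 (iv F57978) (iv F61308)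
theorem F64260 : act 5 n16246 = n16164 := d26_2 F64253 D16246 F63928 (iv F63914) (iv F64252)
theorem F64261 : act 6 n16246 = n15582 := d27_2 (iv F61309) D16246 F61574
theorem F64262 : act 8 n16246 = n15570 := d29_2 (iv F61310) D16246 F61530
def n16247 : Q := act 3 n15516
theorem D16247 : act 3 n15516 = n16247 := rfl
theorem F64263 : act 0 n16247 = n15827 := d2_1 D16247 (iv D15827) (iv F61322)
theorem F64264 : act 1 n16247 = n15517 := d9_1 D16247 (iv D15517) (iv F61323)
theorem F64265 : act 6 n16247 = n15520 := d23_2 (iv F61325) D16247 (iv D15520)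
theorem F64266 : act 7 n16247 = n16247 := d24_2 D15516 D16247 (iv D16247) (iv D15516) F58001
theorem F64267 : act 8 n16247 = n15523 := d25_2 (iv F61326) D16247 (iv D15523)
def n16248 : Q := act 3 n15518
theorem D16248 : act 3 n15518 = n16248 := rfl
theorem F64268 : act 0 n16248 = n15520 := d2_1 D16248 (iv D15520) (iv F61332)
theorem F64269 : act 1 n16248 = n15537 := d9_1 D16248 (iv D15537) (iv F61333)
theorem F64270 : act 6 n16248 = n15827 := d23_2 (iv F61334) D16248 (iv D15827)
theorem F64271 : act 7 n16248 = n16248 := d24_2 D15518 D16248 (iv D16248) (iv D15518) F58011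
theorem F64272 : act 8 n16248 = n15527 := d25_2 (iv F61335) D16248 (iv D15527)
def n16249 : Q := act 2 n15520
theorem D16249 : act 2 n15520 = n16249 := rfl
theorem F64273 : act 7 n16249 = n16249 := d19_2 F61342 D16249 (iv D16249)
theorem F64274 : act 8 n16249 = n15530 := d20_2 (iv F61343) D16249 (iv D15530)
def n16250 : Q := act 3 n15522
theorem D16250 : act 3 n15522 = n16250 := rfl
theorem F64275 : act 0 n16250 = n15830 := d2_1 D16250 (iv D15830) (iv F61348)
theorem F64276 : act 1 n16250 = n15524 := d9_1 D16250 (iv D15524) (iv F61349)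
theorem F64277 : act 6 n16250 = n15529 := d23_2 (iv F61351) D16250 (iv D15529)
theorem F64278 : act 7 n16250 = n16250 := d24_2 D15522 D16250 (iv D16250) (iv D15522) F58036
theorem F64279 : act 8 n16250 = n15684 := d25_2 (iv F61352) D16250 F61903
def n16251 : Q := act 2 n15523
theorem D16251 : act 2 n15523 = n16251 := rfl
theorem F64280 : act 0 n16251 = n15831 := d1_1 D16251 (iv D15831) (iv F61353)
theorem F64281 : act 6 n16251 = n15530 := d18_2 (iv F61355) D16251 (iv D15530)
theorem F64282 : act 7 n16251 = n15533 := d19_2 (iv F61356) D16251 (iv D15533)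
def n16252 : Q := act 4 n15523
theorem D16252 : act 4 n15523 = n16252 := rfl
theorem F64283 : act 0 n16252 = n15832 := d3_1 D16252 (iv D15832) (iv F61353)
theorem F64284 : act 1 n16252 = n15525 := d10_1 D16252 (iv D15525) (iv F61354)
theorem F64285 : act 5 n16252 = n15836 := d26_2 F63888 D16252 (iv F63187) F63188 (iv F63887)
theorem F64286 : act 6 n16252 = n15531 := d27_2 (iv F61355) D16252 (iv D15531)
theorem F64287 : act 7 n16252 = n15534 := d28_2 (iv F61356) D16252 (iv D15534)
def n16253 : Q := act 3 n15526
theorem D16253 : act 3 n15526 = n16253 := rfl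
theorem F64288 : act 0 n16253 = n15529 := d2_1 D16253 (iv D15529) (iv F61367)
theorem F64289 : act 1 n16253 = n15538 := d9_1 D16253 (iv D15538) (iv F61368)
theorem F64290 : act 6 n16253 = n15830 := d23_2 (iv F61370) D16253 (iv D15830)
theorem F64291 : act 7 n16253 = n16253 := d24_2 D15526 D16253 (iv D16253) (iv D15526) F58056
theorem F64292 : act 8 n16253 = n15893 := d25_2 F63499 D16253 (iv F63495)
def n16254 : Q := act 2 n15527
theorem D16254 : act 2 n15527 = n16254 := rfl
theorem F64293 : act 0 n16254 = n15530 := d1_1 D16254 (iv D15530) (iv F61371)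
theorem F64294 : act 6 n16254 = n15831 := d18_2 (iv F61373) D16254 (iv D15831)
theorem F64295 : act 7 n16254 = n15535 := d19_2 (iv F61374) D16254 (iv D15535)
def n16255 : Q := act 3 n15528
theorem D16255 : act 3 n15528 = n16255 := rfl
theorem F64296 : act 1 n16255 = n15532 := d9_1 D16255 (iv D15532) (iv F61375)
theorem F64297 : act 5 n16255 = n15529 := d22_2 (iv F61376) D16255 (iv D15529)
theorem F64298 : act 7 n16255 = n16255 := d24_2 D15528 D16255 (iv D16255) (iv D15528) F58063
theorem F64299 : act 8 n16255 = n15892 := d25_2 F63022 D16255 (iv F63018)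
def n16256 : Q := act 2 n15529
theorem D16256 : act 2 n15529 = n16256 := rfl
theorem F64300 : act 1 n16256 = n15858 := d8_1 D16256 (iv D15858) F59491 (iv F58073) (iv F61377)
theorem F64301 : act 7 n16256 = n16256 := d19_2 F61378 D16256 (iv D16256)
theorem F64302 : act 8 n16256 = n15873 := d20_2 (iv F61379) D16256 F62621
def n16257 : Q := act 4 n15530
theorem D16257 : act 4 n15530 = n16257 := rfl
theorem F64303 : act 2 n16257 = n15531 := d16_1 D16257 (iv D15531) D15530
theorem F64304 : act 7 n16257 = n15536 := d28_2 (iv F61380) D16257 (iv D15536)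
def n16258 : Q := act 4 n15533
theorem D16258 : act 4 n15533 = n16258 := rfl
theorem F64305 : act 0 n16258 = n15838 := d3_1 D16258 (iv D15838) (iv F61388)
theorem F64306 : act 1 n16258 = n15825 := d10_1 D16258 (iv F63897) F63895
theorem F64307 : act 2 n16258 = n15534 := d16_1 D16258 (iv D15534) D15533
theorem F64308 : act 5 n16258 = n15826 := d26_2 F63903 D16258 (iv F63064) F63065 (iv F63902)
theorem F64309 : act 6 n16258 = n15536 := d27_2 (iv F61389) D16258 (iv D15536)
theorem F64310 : act 8 n16258 = n16258 := d29_2 F61390 D16258 (iv D16258)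
def n16259 : Q := act 3 n15536
theorem D16259 : act 3 n15536 = n16259 := rfl
theorem F64311 : act 2 n16259 = n16259 := d15_1 D16259 (iv D16259) F61401 F58101 (iv F61401)
theorem F64312 : act 8 n16259 = n16259 := d25_2 F61402 D16259 (iv D16259)
def n16260 : Q := act 7 n15539
theorem D16260 : act 7 n15539 = n16260 := rfl
theorem F64313 : act 1 n16260 = n15541 := d13_1 D16260 (iv D15541) (iv F61411)
theorem F64314 : act 2 n16260 = n15569 := d19_1 D16260 (iv D15569) (iv F61412)
theorem F64315 : act 5 n16260 = n15572 := d31_1 D16260 (iv D15572) (iv F61414)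
theorem F64316 : act 8 n16260 = n16011 := d35_2 D15539 D16260 (iv D16011) (iv D15262) (iv F58148)
def n16261 : Q := act 7 n15540
theorem D16261 : act 7 n15540 = n16261 := rfl
theorem F64317 : act 0 n16261 = n16057 := d6_1 D16261 (iv D16057) (iv F61415)
theorem F64318 : act 2 n16261 = n15542 := d19_1 D16261 (iv D15542) (iv F61416)
theorem F64319 : act 4 n16261 = n15541 := d28_1 D16261 (iv D15541) (iv F61418)
theorem F64320 : act 6 n16261 = n15960 := d33_1 D16261 (iv D15960) (iv F61419)
theorem F64321 : act 8 n16261 = n16016 := d35_2 D15540 D16261 (iv D16016) (iv D15265) (iv F58153)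
def n16262 : Q := act 3 n15541
theorem D16262 : act 3 n15541 = n16262 := rfl
theorem F64322 : act 2 n16262 = n15586 := d15_1 D16262 (iv D15586) F58321 (iv F58163) (iv F61420)
theorem F64323 : act 5 n16262 = n15845 := d22_2 (iv F61421) D16262 (iv D15845)
theorem F64324 : act 7 n16262 = n15544 := d24_2 D15541 D16262 (iv D15544) (iv D14731) (iv F58155)
theorem F64325 : act 8 n16262 = n16017 := d25_2 (iv F61422) D16262 (iv D16017)
def n16263 : Q := act 3 n15542
theorem D16263 : act 3 n15542 = n16263 := rfl
theorem F64326 : act 0 n16263 = n16096 := d2_1 D16263 (iv D16096) (iv F61423)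
theorem F64327 : act 1 n16263 = n15690 := d9_1 D16263 (iv D15690) (iv F61424)
theorem F64328 : act 4 n16263 = n15589 := d21_2 (iv F61425) D16263 (iv D15589) F58328 (iv F58163)
theorem F64329 : act 6 n16263 = n15973 := d23_2 (iv F61426) D16263 (iv D15973)
theorem F64330 : act 7 n16263 = n15764 := d24_2 D15542 D16263 (iv D15764) (iv D14975) (iv F58159)
theorem F64331 : act 8 n16263 = n16020 := d25_2 (iv F61427) D16263 (iv D16020)
def n16264 : Q := act 3 n15543
theorem D16264 : act 3 n15543 = n16264 := rfl
theorem F64332 : act 1 n16264 = n15544 := d9_1 D16264 (iv D15544) (iv F61428)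
theorem F64333 : act 5 n16264 = n15592 := d22_2 (iv F61430) D16264 (iv D15592)
theorem F64334 : act 8 n16264 = n15551 := d25_2 (iv F61431) D16264 (iv D15551)
def n16265 : Q := act 4 n15544
theorem D16265 : act 4 n15544 = n16265 := rfl
theorem F64335 : act 2 n16265 = n15611 := d16_1 D16265 (iv D15611) (iv F61432)
theorem F64336 : act 8 n16265 = n15559 := d29_2 (iv F61434) D16265 (iv D15559)
def n16266 : Q := act 4 n15545
theorem D16266 : act 4 n15545 = n16266 := rfl
theorem F64337 : act 2 n16266 = n15622 := d16_1 D16266 (iv D15622) (iv F61435)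
theorem F64338 : act 6 n16266 = n15559 := d27_2 (iv F61436) D16266 (iv D15559)
theorem F64339 : act 7 n16266 = n16061 := d28_2 (iv F61437) D16266 (iv D16061)
def n16267 : Q := act 8 n15546
theorem D16267 : act 8 n15546 = n16267 := rfl
theorem F64340 : act 1 n16267 = n15554 := d14_1 D16267 (iv D15554) (iv F61438)
theorem F64341 : act 2 n16267 = n16267 := d20_1 D16267 (iv D16267) F61439
theorem F64342 : act 3 n16267 = n15549 := d25_1 D16267 (iv D15549) (iv F61440)
theorem F64343 : act 5 n16267 = n15548 := d32_1 D16267 (iv D15548) D15546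
def n16268 : Q := act 8 n15547
theorem D16268 : act 8 n15547 = n16268 := rfl
theorem F64344 : act 0 n16268 = n16267 := d7_1 D16268 (iv D16267) (iv F61442)
theorem F64345 : act 1 n16268 = n15555 := d14_1 D16268 (iv D15555) (iv F61443)
theorem F64346 : act 2 n16268 = n16268 := d20_1 D16268 (iv D16268) F61444
theorem F64347 : act 3 n16268 = n15920 := d25_1 D16268 (iv D15920) (iv F61445)
theorem F64348 : act 4 n16268 = n16075 := d29_1 D16268 (iv D16075) (iv F61446)
theorem F64349 : act 5 n16268 = n16194 := d32_1 D16268 (iv D16194) (iv F61447)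
theorem F64350 : act 6 n16268 = n15911 := d34_1 D16268 (iv D15911) (iv F61448)
def n16269 : Q := act 7 n15548
theorem D16269 : act 7 n15548 = n16269 := rfl
theorem F64351 : act 1 n16269 = n15556 := d13_1 D16269 (iv D15556) (iv F61449)
theorem F64352 : act 2 n16269 = n16269 := d19_1 D16269 (iv D16269) F61450
theorem F64353 : act 4 n16269 = n16076 := d28_1 D16269 (iv D16076) (iv F61452)
def n16270 : Q := act 7 n15549
theorem D16270 : act 7 n15549 = n16270 := rfl
theorem F64354 : act 1 n16270 = n15557 := d13_1 D16270 (iv D15557) (iv F61453)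
theorem F64355 : act 2 n16270 = n15566 := d19_1 D16270 (iv D15566) (iv F61454)
theorem F64356 : act 4 n16270 = n15620 := d28_1 D16270 (iv D15620) (iv F61455)
theorem F64357 : act 5 n16270 = n15550 := d31_1 D16270 (iv D15550) (iv F61456)
def n16271 : Q := act 3 n15550
theorem D16271 : act 3 n15550 = n16271 := rfl
theorem F64358 : act 1 n16271 = n15558 := d9_1 D16271 (iv D15558) (iv F61457)
def n16272 : Q := act 4 n15551
theorem D16272 : act 4 n15551 = n16272 := rfl
theorem F64359 : act 1 n16272 = n15559 := d10_1 D16272 (iv D15559) (iv F61460)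
theorem F64360 : act 7 n16272 = n16080 := d28_2 (iv F61462) D16272 (iv D16080)
def n16273 : Q := act 8 n15552
theorem D16273 : act 8 n15552 = n16273 := rfl
theorem F64361 : act 2 n16273 = n15561 := d20_1 D16273 (iv D15561) (iv F61463)
theorem F64362 : act 3 n16273 = n15859 := d25_1 D16273 (iv D15859) (iv F61464)
theorem F64363 : act 4 n16273 = n15554 := d29_1 D16273 (iv D15554) D15552
theorem F64364 : act 5 n16273 = n16081 := d32_1 D16273 (iv D16081) (iv F61465)
def n16274 : Q := act 8 n15553
theorem D16274 : act 8 n15553 = n16274 := rfl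
theorem F64365 : act 0 n16274 = n16003 := d7_1 D16274 (iv D16003) (iv F61466)
theorem F64366 : act 1 n16274 = n16194 := d14_1 D16274 (iv D16194) (iv F61467)
theorem F64367 : act 2 n16274 = n15562 := d20_1 D16274 (iv D15562) (iv F61468)
theorem F64368 : act 3 n16274 = n15918 := d25_1 D16274 (iv D15918) (iv F61469)
theorem F64369 : act 5 n16274 = n15555 := d32_1 D16274 (iv D15555) (iv F61470)
theorem F64370 : act 6 n16274 = n16161 := d34_1 D16274 (iv D16161) (iv F61471)
def n16275 : Q := act 7 n15554
theorem D16275 : act 7 n15554 = n16275 := rfl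
theorem F64371 : act 2 n16275 = n15563 := d19_1 D16275 (iv D15563) (iv F61472)
theorem F64372 : act 5 n16275 = n15556 := d31_1 D16275 (iv D15556) (iv F61474)
def n16276 : Q := act 7 n15555
theorem D16276 : act 7 n15555 = n16276 := rfl
theorem F64373 : act 0 n16276 = n16006 := d6_1 D16276 (iv D16006) (iv F61475)
theorem F64374 : act 2 n16276 = n15564 := d19_1 D16276 (iv D15564) (iv F61476)
theorem F64375 : act 4 n16276 = n16085 := d28_1 D16276 (iv D16085) (iv F61478)
theorem F64376 : act 6 n16276 = n15915 := d33_1 D16276 (iv D15915) (iv F61479)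
theorem F64377 : act 8 n16276 = n15556 := d35_2 D15555 D16276 (iv D15556) (iv D14739) D14738
def n16277 : Q := act 3 n15556
theorem D16277 : act 3 n15556 = n16277 := rfl
theorem F64378 : act 7 n16277 = n15558 := d24_2 D15556 D16277 (iv D15558) (iv D14741) (iv F58194)
def n16278 : Q := act 3 n15557
theorem D16278 : act 3 n15557 = n16278 := rfl
theorem F64379 : act 5 n16278 = n15558 := d22_2 (iv F61484) D16278 (iv D15558)
def n16279 : Q := act 4 n15558
theorem D16279 : act 4 n15558 = n16279 := rfl
theorem F64380 : act 3 n16279 = n15559 := d21_1 D16279 (iv D15559) (iv D14742) (iv F58200) D15558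
def n16280 : Q := act 5 n15559
theorem D16280 : act 5 n15559 = n16280 := rfl
theorem F64381 : act 2 n16280 = n15650 := d17_1 D16280 (iv D15650) (iv F61485)
theorem F64382 : act 4 n16280 = n15869 := d26_1 D16280 (iv D15869) (iv D15097) (iv F58202) D15559
theorem F64383 : act 7 n16280 = n16091 := d31_2 (iv F61486) D16280 (iv D16091)
def n16281 : Q := act 7 n15561
theorem D16281 : act 7 n15561 = n16281 := rfl
theorem F64384 : act 1 n16281 = n16281 := d13_1 D16281 (iv D16281) F61493
theorem F64385 : act 3 n16281 = n16237 := d24_1 D16281 (iv D16237) F61273 (iv F58250) (iv F61494)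
theorem F64386 : act 4 n16281 = n15563 := d28_1 D16281 (iv D15563) (iv F61495)
theorem F64387 : act 5 n16281 = n16102 := d31_1 D16281 (iv D16102) (iv F61496)
def n16282 : Q := act 7 n15562
theorem D16282 : act 7 n15562 = n16282 := rfl
theorem F64388 : act 0 n16282 = n16004 := d6_1 D16282 (iv D16004) (iv F61497)
theorem F64389 : act 1 n16282 = n16282 := d13_1 D16282 (iv D16282) F61498
theorem F64390 : act 3 n16282 = n16141 := d24_1 D16282 (iv D16141) F60873 (iv F59105) (iv F61499)
theorem F64391 : act 5 n16282 = n15564 := d31_1 D16282 (iv D15564) (iv F61500)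
theorem F64392 : act 6 n16282 = n16162 := d33_1 D16282 (iv D16162) (iv F61501)
theorem F64393 : act 8 n16282 = n15563 := d35_2 D15562 D16282 (iv D15563) (iv D14746) D14745
def n16283 : Q := act 3 n15566
theorem D16283 : act 3 n15566 = n16283 := rfl
theorem F64394 : act 1 n16283 = n15568 := d9_1 D16283 (iv D15568) (iv F61516)
theorem F64395 : act 5 n16283 = n15567 := d22_2 (iv F61518) D16283 (iv D15567)
theorem F64396 : act 7 n16283 = n16283 := d24_2 D15566 D16283 (iv D16283) (iv D15566) F58275
def n16284 : Q := act 2 n15567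
theorem D16284 : act 2 n15567 = n16284 := rfl
theorem F64397 : act 7 n16284 = n16284 := d19_2 F61520 D16284 (iv D16284)
def n16285 : Q := act 7 n15570
theorem D16285 : act 7 n15570 = n16285 := rfl
theorem F64398 : act 0 n16285 = n15577 := d6_1 D16285 F61558 (iv F61527)
theorem F64399 : act 1 n16285 = n15840 := d13_1 D16285 (iv D15840) (iv F61528)
theorem F64400 : act 2 n16285 = n15692 := d19_1 D16285 F61942 (iv F61529)
theorem F64401 : act 4 n16285 = n15591 := d28_1 D16285 (iv D15591) (iv F61530)
theorem F64402 : act 5 n16285 = n15574 := d31_1 D16285 F61546 (iv F61531)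
theorem F64403 : act 6 n16285 = n15581 := d33_1 D16285 (iv D15581) (iv F61532)
def n16286 : Q := act 7 n15571
theorem D16286 : act 7 n15571 = n16286 := rfl
theorem F64404 : act 1 n16286 = n15844 := d13_1 D16286 (iv D15844) (iv F61533)
theorem F64405 : act 2 n16286 = n15573 := d19_1 D16286 (iv D15573) (iv F61534)
theorem F64406 : act 4 n16286 = n15572 := d28_1 D16286 (iv D15572) (iv F61535)
theorem F64407 : act 6 n16286 = n15585 := d33_1 D16286 (iv D15585) (iv F61536)
def n16287 : Q := act 3 n15572
theorem D16287 : act 3 n15572 = n16287 := rfl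
theorem F64408 : act 1 n16287 = n15845 := d9_1 D16287 (iv D15845) (iv F61537)
theorem F64409 : act 6 n16287 = n15586 := d23_2 (iv F61539) D16287 (iv D15586)
theorem F64410 : act 7 n16287 = n15592 := d24_2 D15572 D16287 (iv D15592) (iv D14779) (iv F58296)
def n16288 : Q := act 3 n15573
theorem D16288 : act 3 n15573 = n16288 := rfl
theorem F64411 : act 0 n16288 = n16108 := d2_1 D16288 (iv F63935) F63933
theorem F64412 : act 1 n16288 = n15691 := d9_1 D16288 (iv D15691) (iv F61540)
theorem F64413 : act 4 n16288 = n15973 := d21_2 (iv F61541) D16288 (iv D15973) (iv F60955) F60954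
theorem F64414 : act 5 n16288 = n15880 := d22_2 F61845 D16288 F62639
theorem F64415 : act 6 n16288 = n15589 := d23_2 (iv F61542) D16288 (iv D15589)
theorem F64416 : act 7 n16288 = n15765 := d24_2 D15573 D16288 (iv D15765) (iv D14977) (iv F58299)
def n16289 : Q := act 3 n15574
theorem D16289 : act 3 n15574 = n16289 := rfl
theorem F64417 : act 0 n16289 = n15576 := d2_1 D16289 (iv D15576) (iv F61543)
theorem F64418 : act 2 n16289 = n16289 := d15_1 D16289 (iv D16289) F61544 F58681 (iv F61544)
theorem F64419 : act 4 n16289 = n15593 := d21_2 D15574 D16289 (iv D15593) (iv D14780) (iv F58305)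
theorem F64420 : act 6 n16289 = n15789 := d23_2 (iv F61545) D16289 (iv D15789)
def n16290 : Q := act 8 n15574
theorem D16290 : act 8 n15574 = n16290 := rfl
theorem F64421 : act 0 n16290 = n15578 := d7_1 D16290 (iv D15578) (iv F61543)
theorem F64422 : act 2 n16290 = n15693 := d20_1 D16290 (iv D15693) (iv F61544)
theorem F64423 : act 4 n16290 = n15575 := d29_1 D16290 (iv D15575) D15574
theorem F64424 : act 6 n16290 = n15791 := d34_1 D16290 (iv D15791) (iv F61545)
def n16291 : Q := act 7 n15575
theorem D16291 : act 7 n15575 = n16291 := rfl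
theorem F64425 : act 0 n16291 = n15579 := d6_1 D16291 (iv D15579) (iv F61547)
theorem F64426 : act 2 n16291 = n15694 := d19_1 D16291 (iv D15694) (iv F61548)
theorem F64427 : act 6 n16291 = n15792 := d33_1 D16291 (iv D15792) (iv F61550)
theorem F64428 : act 8 n16291 = n16165 := d35_2 D15575 D16291 (iv D16165) (iv D15435) (iv F58307)
def n16292 : Q := act 5 n15576
theorem D16292 : act 5 n15576 = n16292 := rfl
theorem F64429 : act 1 n16292 = n15580 := d11_1 D16292 (iv D15580) (iv F61551)
theorem F64430 : act 2 n16292 = n16292 := d17_1 D16292 (iv D16292) F61552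
theorem F64431 : act 3 n16292 = n15577 := d22_1 D16292 (iv D15577) D15576
theorem F64432 : act 6 n16292 = n16169 := d30_2 (iv F61554) D16292 (iv D16169) (iv F62536) (iv D15839)
theorem F64433 : act 7 n16289 = n16292 := d37_0 (iv D16292) F61553 (iv D14782) F54683 F50893 F46768 F40810 D10472 (iv F45544) F45543 F45542 (iv F44515) (iv F48830) (iv F52822) (iv D13419) (iv D12417) (iv D11437) F39192 (iv F44315) F44314 (iv D10069) F31486 F24173 (iv D4944) F14267 F14266 F10640 D2659 F10680 F10679 D2661 F10684 F8149 (iv F10869) (iv F13642) F13641 D3449 F13648 (iv F17948) (iv F24189) (iv F32312) F32315 D9144 (iv F42047) (iv F47390) (iv F51472) F51471 F47842 D13179 F51866 F47848 D12176 F47851 F51447 F51442 F47605 F47604 D13124 D14094 (iv F58316) (iv F61551) (iv F64417)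
def n16293 : Q := act 7 n15576
theorem D16293 : act 7 n15576 = n16293 := rfl
theorem F64434 : act 0 n16293 = n16292 := d6_1 D16293 (iv F64433) F64417
theorem F64435 : act 1 n16293 = n15581 := d13_1 D16293 (iv D15581) (iv F61551)
theorem F64436 : act 2 n16293 = n16293 := d19_1 D16293 (iv D16293) F61552
theorem F64437 : act 3 n16293 = n16285 := d24_1 D16293 (iv D16285) (iv D15570) (iv F58311) D15576
theorem F64438 : act 4 n16293 = n15597 := d28_1 D16293 (iv D15597) (iv F61553)
theorem F64439 : act 5 n16293 = n16289 := d31_1 D16293 F64433 (iv D16292)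
theorem F64440 : act 6 n16293 = n15840 := d33_1 D16293 (iv D15840) (iv F61554)
def n16294 : Q := act 8 n15576
theorem D16294 : act 8 n15576 = n16294 := rfl
theorem F64441 : act 1 n16294 = n15582 := d14_1 D16294 (iv D15582) (iv F61551)
theorem F64442 : act 2 n16294 = n16294 := d20_1 D16294 (iv D16294) F61552
theorem F64443 : act 3 n16294 = n15578 := d25_1 D16294 (iv D15578) D15576
theorem F64444 : act 4 n16294 = n15598 := d29_1 D16294 (iv D15598) (iv F61553)
theorem F64445 : act 6 n16294 = n15841 := d34_1 D16294 (iv D15841) (iv F61554)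
def n16295 : Q := act 8 n15577
theorem D16295 : act 8 n15577 = n16295 := rfl
theorem F64446 : act 1 n16295 = n15584 := d14_1 D16295 (iv D15584) (iv F61555)
theorem F64447 : act 2 n16295 = n15696 := d20_1 D16295 (iv D15696) (iv F61556)
theorem F64448 : act 4 n16295 = n15780 := d29_1 D16295 F62329 (iv F61557)
theorem F64449 : act 5 n16295 = n15578 := d32_1 D16295 (iv D15578) D15577
def n16296 : Q := act 7 n15578
theorem D16296 : act 7 n15578 = n16296 := rfl
theorem F64450 : act 1 n16296 = n15585 := d13_1 D16296 (iv D15585) (iv F61559)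
theorem F64451 : act 2 n16296 = n15697 := d19_1 D16296 (iv D15697) (iv F61560)
theorem F64452 : act 4 n16296 = n15579 := d28_1 D16296 (iv D15579) (iv F61561)
theorem F64453 : act 6 n16296 = n15844 := d33_1 D16296 (iv D15844) (iv F61562)
theorem F64454 : act 8 n16296 = n16286 := d35_2 D15578 D16296 (iv D16286) (iv D15571) (iv F58311)
def n16297 : Q := act 3 n15579
theorem D16297 : act 3 n15579 = n16297 := rfl
theorem F64455 : act 1 n16297 = n15586 := d9_1 D16297 (iv D15586) (iv F61563)
theorem F64456 : act 6 n16297 = n15845 := d23_2 (iv F61565) D16297 (iv D15845)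
theorem F64457 : act 7 n16297 = n15601 := d24_2 D15579 D16297 (iv D15601) (iv D14785) (iv F58314)
theorem F64458 : act 8 n16297 = n16287 := d25_2 (iv F61566) D16297 (iv D16287)
def n16298 : Q := act 4 n15580
theorem D16298 : act 4 n15580 = n16298 := rfl
theorem F64459 : act 0 n16298 = n16014 := d3_1 D16298 F63283 F61575
theorem F64460 : act 2 n16298 = n15766 := d16_1 D16298 (iv D15766) (iv F61567)
theorem F64461 : act 3 n16298 = n16207 := d21_1 D16298 F64103 F63274 F60267 (iv F61568)
theorem F64462 : act 5 n16298 = n15602 := d26_2 D15580 D16298 (iv D15602) (iv D14786) (iv F58317)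
theorem F64463 : act 6 n16298 = n15913 := d27_2 (iv F61569) D16298 F62763
theorem F64464 : act 7 n16055 = n16298 := d33_0 F64463 F62764 D16055
def n16299 : Q := act 7 n15580
theorem D16299 : act 7 n15580 = n16299 := rfl
theorem F64465 : act 0 n16299 = n15842 := d6_1 D16299 F62547 F61575
theorem F64466 : act 1 n16299 = n16289 := d13_1 D16299 F64433 F64429
theorem F64467 : act 2 n16299 = n15767 := d19_1 D16299 (iv D15767) (iv F61567)
theorem F64468 : act 3 n16299 = n16167 := d24_1 D16299 F63943 F62534 F59460 (iv F61568)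
theorem F64469 : act 4 n16299 = n16055 := d28_1 D16299 F64464 (iv D16298)
theorem F64470 : act 5 n16299 = n15581 := d31_1 D16299 (iv D15581) D15580
theorem F64471 : act 6 n16299 = n15790 := d33_1 D16299 F62378 (iv F61569)
def n16300 : Q := act 8 n15580
theorem D16300 : act 8 n15580 = n16300 := rfl
theorem F64472 : act 2 n16300 = n15768 := d20_1 D16300 (iv D15768) (iv F61567)
theorem F64473 : act 3 n16300 = n15584 := d25_1 D16300 (iv D15584) (iv F61568)
theorem F64474 : act 5 n16300 = n15582 := d32_1 D16300 (iv D15582) D15580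
theorem F64475 : act 6 n16300 = n16174 := d34_1 D16300 (iv D16174) (iv F61569)
def n16301 : Q := act 8 n15581
theorem D16301 : act 8 n15581 = n16301 := rfl
theorem F64476 : act 2 n16301 = n15769 := d20_1 D16301 (iv D15769) (iv F61570)
theorem F64477 : act 4 n16301 = n15606 := d29_1 D16301 (iv D15606) (iv F61571)
def n16302 : Q := act 7 n15582
theorem D16302 : act 7 n15582 = n16302 := rfl
theorem F64478 : act 2 n16302 = n15770 := d19_1 D16302 (iv D15770) (iv F61572)
theorem F64479 : act 4 n16302 = n15607 := d28_1 D16302 (iv D15607) (iv F61574)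
def n16303 : Q := act 8 n15583
theorem D16303 : act 8 n15583 = n16303 := rfl
theorem F64480 : act 0 n16303 = n16300 := d7_1 D16303 (iv D16300) (iv F61575)
theorem F64481 : act 2 n16303 = n15587 := d20_1 D16303 (iv D15587) (iv F61576)
theorem F64482 : act 3 n16303 = n16174 := d25_1 D16303 (iv D16174) (iv F61577)
theorem F64483 : act 5 n16303 = n16173 := d32_1 D16303 (iv D16173) (iv F61578)
theorem F64484 : act 6 n16303 = n15584 := d34_1 D16303 (iv D15584) D15583
def n16304 : Q := act 7 n15584
theorem D16304 : act 7 n15584 = n16304 := rfl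
theorem F64485 : act 2 n16304 = n15588 := d19_1 D16304 (iv D15588) (iv F61579)
theorem F64486 : act 5 n16304 = n15585 := d31_1 D16304 (iv D15585) (iv F61580)
def n16305 : Q := act 3 n15585
theorem D16305 : act 3 n15585 = n16305 := rfl
def n16306 : Q := act 4 n15586
theorem D16306 : act 4 n15586 = n16306 := rfl
theorem F64487 : act 7 n16306 = n15611 := d28_2 (iv F61583) D16306 (iv D15611)
def n16307 : Q := act 7 n15587
theorem D16307 : act 7 n15587 = n16307 := rfl
theorem F64488 : act 1 n16307 = n15701 := d13_1 D16307 (iv D15701) (iv F61584)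
theorem F64489 : act 6 n16307 = n15588 := d33_1 D16307 (iv D15588) (iv F61586)
def n16308 : Q := act 3 n15588
theorem D16308 : act 3 n15588 = n16308 := rfl
theorem F64490 : act 1 n16308 = n15702 := d9_1 D16308 (iv D15702) (iv F61587)
theorem F64491 : act 5 n16308 = n15589 := d22_2 (iv F61588) D16308 (iv D15589)
theorem F64492 : act 7 n16308 = n15773 := d24_2 D15588 D16308 (iv D15773) (iv D14984) (iv F58325)
def n16309 : Q := act 2 n15589
theorem D16309 : act 2 n15589 = n16309 := rfl
theorem F64493 : act 7 n16309 = n15774 := d19_2 (iv F61590) D16309 (iv D15774)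
def n16310 : Q := act 8 n15591
theorem D16310 : act 8 n15591 = n16310 := rfl
theorem F64494 : act 0 n16310 = n15780 := d7_1 D16310 F62329 (iv F61596)
theorem F64495 : act 1 n16310 = n15852 := d14_1 D16310 (iv D15852) (iv F61597)
theorem F64496 : act 2 n16310 = n15763 := d20_1 D16310 F62262 (iv F61598)
theorem F64497 : act 3 n16310 = n15617 := d25_1 D16310 (iv D15617) (iv F61599)
theorem F64498 : act 6 n16310 = n15606 := d34_1 D16310 (iv D15606) (iv F61600)
def n16311 : Q := act 4 n15592
theorem D16311 : act 4 n15592 = n16311 := rfl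
theorem F64499 : act 1 n16311 = n15856 := d10_1 D16311 (iv D15856) (iv F61601)
theorem F64500 : act 6 n16311 = n15611 := d27_2 (iv F61602) D16311 (iv D15611)
theorem F64501 : act 8 n16311 = n15622 := d29_2 (iv F61603) D16311 (iv D15622)
def n16312 : Q := act 7 n15593
theorem D16312 : act 7 n15593 = n16312 := rfl
theorem F64502 : act 0 n16312 = n15597 := d6_1 D16312 (iv D15597) (iv F61604)
theorem F64503 : act 1 n16312 = n16298 := d13_1 D16312 (iv F64464) F63467
theorem F64504 : act 2 n16312 = n16312 := d19_1 D16312 (iv D16312) F61605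
theorem F64505 : act 3 n16312 = n15625 := d24_1 D16312 (iv D15625) (iv D14804) (iv F58344) D15593
theorem F64506 : act 4 n16312 = n16292 := d28_1 D16312 (iv F64433) F64419
theorem F64507 : act 6 n16312 = n15796 := d33_1 D16312 (iv D15796) (iv F61606)
def n16313 : Q := act 8 n15593
theorem D16313 : act 8 n15593 = n16313 := rfl
theorem F64508 : act 0 n16313 = n15598 := d7_1 D16313 (iv D15598) (iv F61604)
theorem F64509 : act 2 n16313 = n16313 := d20_1 D16313 (iv D16313) F61605
theorem F64510 : act 3 n16313 = n15594 := d25_1 D16313 (iv D15594) D15593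
theorem F64511 : act 6 n16313 = n15797 := d34_1 D16313 (iv D15797) (iv F61606)
def n16314 : Q := act 7 n15594
theorem D16314 : act 7 n15594 = n16314 := rfl
theorem F64512 : act 0 n16314 = n15600 := d6_1 D16314 (iv D15600) (iv F61607)
theorem F64513 : act 2 n16314 = n15674 := d19_1 D16314 (iv D15674) (iv F61608)
theorem F64514 : act 4 n16314 = n15595 := d28_1 D16314 (iv D15595) (iv F61609)
theorem F64515 : act 6 n16314 = n15798 := d33_1 D16314 (iv D15798) (iv F61610)
theorem F64516 : act 8 n16314 = n15628 := d35_2 D15594 D16314 (iv D15628) (iv D14806) (iv F58344)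
def n16315 : Q := act 3 n15595
theorem D16315 : act 3 n15595 = n16315 := rfl
theorem F64517 : act 0 n16315 = n15601 := d2_1 D16315 (iv D15601) (iv F61611)
theorem F64518 : act 6 n16315 = n15799 := d23_2 (iv F61613) D16315 (iv D15799)
theorem F64519 : act 8 n16315 = n15629 := d25_2 (iv F61614) D16315 (iv D15629)
def n16316 : Q := act 4 n15596
theorem D16316 : act 4 n15596 = n16316 := rfl
theorem F64520 : act 1 n16316 = n15602 := d10_1 D16316 (iv D15602) (iv F61615)
theorem F64521 : act 2 n16316 = n16316 := d16_1 D16316 (iv D16316) F61616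
theorem F64522 : act 5 n16316 = n16312 := d26_2 D15596 D16316 F64506 (iv D16292) F61553
theorem F64523 : act 6 n16316 = n16073 := d27_2 F63513 D16316 F63550
theorem F64524 : act 7 n16072 = n16316 := d33_0 F64523 (iv D16073) D16072
def n16317 : Q := act 7 n15596
theorem D16317 : act 7 n15596 = n16317 := rfl
theorem F64525 : act 0 n16317 = n16316 := d6_1 D16317 (iv F64524) F63542
theorem F64526 : act 1 n16317 = n15604 := d13_1 D16317 (iv D15604) (iv F61615)
theorem F64527 : act 2 n16317 = n16317 := d19_1 D16317 (iv D16317) F61616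
theorem F64528 : act 3 n16317 = n15632 := d24_1 D16317 (iv D15632) F58425 (iv F58353) (iv F61617)
theorem F64529 : act 4 n16317 = n16072 := d28_1 D16317 F64524 (iv D16316)
theorem F64530 : act 5 n16317 = n15597 := d31_1 D16317 (iv D15597) D15596
theorem F64531 : act 6 n16317 = n16071 := d33_1 D16317 (iv F63541) F63513
def n16318 : Q := act 8 n15596
theorem D16318 : act 8 n15596 = n16318 := rfl
theorem F64532 : act 1 n16318 = n15605 := d14_1 D16318 (iv D15605) (iv F61615)
theorem F64533 : act 2 n16318 = n16318 := d20_1 D16318 (iv D16318) F61616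
theorem F64534 : act 3 n16318 = n15599 := d25_1 D16318 (iv D15599) (iv F61617)
theorem F64535 : act 5 n16318 = n15598 := d32_1 D16318 (iv D15598) D15596
def n16319 : Q := act 8 n15597
theorem D16319 : act 8 n15597 = n16319 := rfl
theorem F64536 : act 1 n16319 = n15606 := d14_1 D16319 (iv D15606) (iv F61618)
theorem F64537 : act 2 n16319 = n16319 := d20_1 D16319 (iv D16319) F61619
theorem F64538 : act 3 n16319 = n15634 := d25_1 D16319 (iv D15634) (iv F61620)
theorem F64539 : act 6 n16319 = n15852 := d34_1 D16319 (iv D15852) (iv F61621)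
def n16320 : Q := act 7 n15598
theorem D16320 : act 7 n15598 = n16320 := rfl
theorem F64540 : act 1 n16320 = n15607 := d13_1 D16320 (iv D15607) (iv F61622)
theorem F64541 : act 2 n16320 = n16320 := d19_1 D16320 (iv D16320) F61623
theorem F64542 : act 6 n16320 = n15853 := d33_1 D16320 (iv D15853) (iv F61625)
def n16321 : Q := act 7 n15599
theorem D16321 : act 7 n15599 = n16321 := rfl
theorem F64543 : act 1 n16321 = n15609 := d13_1 D16321 (iv D15609) (iv F61626)
theorem F64544 : act 2 n16321 = n15675 := d19_1 D16321 (iv D15675) (iv F61627)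
theorem F64545 : act 5 n16321 = n15600 := d31_1 D16321 (iv D15600) (iv F61628)
theorem F64546 : act 8 n16321 = n15637 := d35_2 D15599 D16321 (iv D15637) (iv D14812) (iv F58353)
def n16322 : Q := act 3 n15600
theorem D16322 : act 3 n15600 = n16322 := rfl
theorem F64547 : act 1 n16322 = n15610 := d9_1 D16322 (iv D15610) (iv F61629)
theorem F64548 : act 6 n16322 = n15855 := d23_2 (iv F61632) D16322 (iv D15855)
theorem F64549 : act 8 n16322 = n15638 := d25_2 (iv F61633) D16322 (iv D15638)
def n16323 : Q := act 4 n15601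
theorem D16323 : act 4 n15601 = n16323 := rfl
theorem F64550 : act 1 n16323 = n15611 := d10_1 D16323 (iv D15611) (iv F61634)
theorem F64551 : act 6 n16323 = n15856 := d27_2 (iv F61635) D16323 (iv D15856)
theorem F64552 : act 8 n16323 = n15639 := d29_2 (iv F61636) D16323 (iv D15639)
def n16324 : Q := act 8 n15602
theorem D16324 : act 8 n15602 = n16324 := rfl
theorem F64553 : act 2 n16324 = n15775 := d20_1 D16324 (iv D15775) (iv F61637)
theorem F64554 : act 4 n16324 = n15605 := d29_1 D16324 (iv D15605) D15602
theorem F64555 : act 6 n16324 = n16083 := d34_1 D16324 (iv D16083) F61638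
def n16325 : Q := act 8 n15603
theorem D16325 : act 8 n15603 = n16325 := rfl
theorem F64556 : act 2 n16325 = n15776 := d20_1 D16325 (iv D15776) (iv F61640)
theorem F64557 : act 3 n16325 = n15608 := d25_1 D16325 (iv D15608) (iv F61641)
theorem F64558 : act 4 n16325 = n16083 := d29_1 D16325 (iv D16083) (iv F61642)
theorem F64559 : act 6 n16325 = n15605 := d34_1 D16325 (iv D15605) D15603
def n16326 : Q := act 8 n15604
theorem D16326 : act 8 n15604 = n16326 := rfl
theorem F64560 : act 2 n16326 = n15777 := d20_1 D16326 (iv D15777) (iv F61644)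
theorem F64561 : act 3 n16326 = n15642 := d25_1 D16326 (iv D15642) (iv F61645)
theorem F64562 : act 4 n16326 = n16082 := d29_1 D16326 (iv D16082) (iv F61646)
theorem F64563 : act 5 n16326 = n15606 := d32_1 D16326 (iv D15606) (iv F61647)
theorem F64564 : act 6 n16326 = n16081 := d34_1 D16326 (iv D16081) (iv F61648)
def n16327 : Q := act 7 n15605
theorem D16327 : act 7 n15605 = n16327 := rfl
theorem F64565 : act 2 n16327 = n15778 := d19_1 D16327 (iv D15778) (iv F61649)
theorem F64566 : act 5 n16327 = n15607 := d31_1 D16327 (iv D15607) (iv F61651)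
def n16328 : Q := act 7 n15606
theorem D16328 : act 7 n15606 = n16328 := rfl
theorem F64567 : act 2 n16328 = n15779 := d19_1 D16328 (iv D15779) (iv F61652)
theorem F64568 : act 8 n16328 = n15607 := d35_2 D15606 D16328 (iv D15607) (iv D14788) D14787
def n16329 : Q := act 3 n15607
theorem D16329 : act 3 n15607 = n16329 := rfl
theorem F64569 : act 7 n16329 = n15610 := d24_2 D15607 D16329 (iv D15610) (iv D14791) (iv F58367)
def n16330 : Q := act 7 n15608
theorem D16330 : act 7 n15608 = n16330 := rfl
theorem F64570 : act 2 n16330 = n15612 := d19_1 D16330 (iv D15612) (iv F61655)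
theorem F64571 : act 6 n16330 = n15609 := d33_1 D16330 (iv D15609) (iv F61656)
theorem F64572 : act 8 n16330 = n15646 := d35_2 D15608 D16330 (iv D15646) (iv D14821) (iv F58369)
def n16331 : Q := act 3 n15609
theorem D16331 : act 3 n15609 = n16331 := rfl
theorem F64573 : act 5 n16331 = n15610 := d22_2 (iv F61658) D16331 (iv D15610)
theorem F64574 : act 8 n16331 = n15647 := d25_2 (iv F61659) D16331 (iv D15647)
def n16332 : Q := act 4 n15610
theorem D16332 : act 4 n15610 = n16332 := rfl
theorem F64575 : act 3 n16332 = n15611 := d21_1 D16332 (iv D15611) (iv D14792) (iv F58373) D15610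
theorem F64576 : act 8 n16332 = n15649 := d29_2 (iv F61660) D16332 (iv D15649)
def n16333 : Q := act 5 n15611
theorem D16333 : act 5 n15611 = n16333 := rfl
theorem F64577 : act 8 n16333 = n15650 := d32_2 (iv F61661) D16333 (iv D15650)
def n16334 : Q := act 8 n15613
theorem D16334 : act 8 n15613 = n16334 := rfl
theorem F64578 : act 1 n16334 = n15859 := d14_1 D16334 (iv D15859) (iv F61665)
theorem F64579 : act 2 n16334 = n15653 := d20_1 D16334 (iv D15653) (iv F61666)
theorem F64580 : act 4 n16334 = n15616 := d29_1 D16334 (iv D15616) D15613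
theorem F64581 : act 6 n16334 = n15861 := d34_1 D16334 (iv D15861) F61667
def n16335 : Q := act 8 n15614
theorem D16335 : act 8 n15614 = n16335 := rfl
theorem F64582 : act 1 n16335 = n15860 := d14_1 D16335 (iv D15860) (iv F61669)
theorem F64583 : act 2 n16335 = n15654 := d20_1 D16335 (iv D15654) (iv F61670)
theorem F64584 : act 3 n16335 = n15619 := d25_1 D16335 (iv D15619) (iv F61671)
theorem F64585 : act 4 n16335 = n15861 := d29_1 D16335 (iv D15861) (iv F61672)
theorem F64586 : act 5 n16335 = n15641 := d32_1 D16335 (iv D15641) (iv F61673)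
theorem F64587 : act 6 n16335 = n15616 := d34_1 D16335 (iv D15616) D15614
def n16336 : Q := act 8 n15615
theorem D16336 : act 8 n15615 = n16336 := rfl
theorem F64588 : act 1 n16336 = n15861 := d14_1 D16336 (iv D15861) (iv F61675)
theorem F64589 : act 2 n16336 = n15655 := d20_1 D16336 (iv D15655) (iv F61676)
theorem F64590 : act 4 n16336 = n15860 := d29_1 D16336 (iv D15860) (iv F61677)
theorem F64591 : act 5 n16336 = n15617 := d32_1 D16336 (iv D15617) (iv F61678)
theorem F64592 : act 6 n16336 = n15859 := d34_1 D16336 (iv D15859) (iv F61679)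
def n16337 : Q := act 7 n15616
theorem D16337 : act 7 n15616 = n16337 := rfl
theorem F64593 : act 1 n16337 = n15862 := d13_1 D16337 (iv D15862) (iv F61680)
theorem F64594 : act 2 n16337 = n15656 := d19_1 D16337 (iv D15656) (iv F61681)
theorem F64595 : act 5 n16337 = n15618 := d31_1 D16337 (iv D15618) (iv F61683)
def n16338 : Q := act 7 n15617
theorem D16338 : act 7 n15617 = n16338 := rfl
theorem F64596 : act 1 n16338 = n15863 := d13_1 D16338 (iv D15863) (iv F61684)
theorem F64597 : act 2 n16338 = n15657 := d19_1 D16338 (iv D15657) (iv F61685)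
theorem F64598 : act 6 n16338 = n15644 := d33_1 D16338 (iv D15644) (iv F61686)
theorem F64599 : act 8 n16338 = n15618 := d35_2 D15617 D16338 (iv D15618) (iv D14797) D14796
def n16339 : Q := act 3 n15618
theorem D16339 : act 3 n15618 = n16339 := rfl
theorem F64600 : act 1 n16339 = n15864 := d9_1 D16339 (iv D15864) (iv F61687)
theorem F64601 : act 6 n16339 = n15645 := d23_2 (iv F61689) D16339 (iv D15645)
theorem F64602 : act 7 n16339 = n15621 := d24_2 D15618 D16339 (iv D15621) (iv D14800) (iv F58390)
def n16340 : Q := act 7 n15619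
theorem D16340 : act 7 n15619 = n16340 := rfl
theorem F64603 : act 1 n16340 = n15865 := d13_1 D16340 (iv D15865) (iv F61690)
theorem F64604 : act 2 n16340 = n15623 := d19_1 D16340 (iv D15623) (iv F61691)
theorem F64605 : act 5 n16340 = n15646 := d31_1 D16340 (iv D15646) (iv F61692)
theorem F64606 : act 6 n16340 = n15620 := d33_1 D16340 (iv D15620) (iv F61693)
def n16341 : Q := act 3 n15620
theorem D16341 : act 3 n15620 = n16341 := rfl
theorem F64607 : act 1 n16341 = n15866 := d9_1 D16341 (iv D15866) (iv F61694)
theorem F64608 : act 5 n16341 = n15621 := d22_2 (iv F61696) D16341 (iv D15621)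
def n16342 : Q := act 4 n15621
theorem D16342 : act 4 n15621 = n16342 := rfl
theorem F64609 : act 1 n16342 = n15868 := d10_1 D16342 (iv D15868) (iv F61697)
theorem F64610 : act 3 n16342 = n15622 := d21_1 D16342 (iv D15622) (iv D14801) (iv F58400) D15621
theorem F64611 : act 6 n16342 = n15649 := d27_2 (iv F61698) D16342 (iv D15649)
def n16343 : Q := act 5 n15622
theorem D16343 : act 5 n15622 = n16343 := rfl
theorem F64612 : act 1 n16343 = n15869 := d11_1 D16343 (iv D15869) (iv F61699)
def n16344 : Q := act 4 n15624
theorem D16344 : act 4 n15624 = n16344 := rfl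
theorem F64613 : act 0 n16344 = n15630 := d3_1 D16344 (iv D15630) (iv F61704)
theorem F64614 : act 1 n16344 = n16036 := d10_1 D16344 F63385 F63378
theorem F64615 : act 2 n16344 = n15704 := d16_1 D16344 (iv D15704) (iv F61705)
theorem F64616 : act 3 n16344 = n16073 := d21_1 D16344 F63550 F63512 F60461 (iv F61706)
theorem F64617 : act 5 n16344 = n16029 := d26_2 D15624 D16344 F63353 (iv D15469) (iv F58412)
theorem F64618 : act 7 n16028 = n16344 := d31_0 F64617 (iv D16029) D16028
def n16345 : Q := act 7 n15624
theorem D16345 : act 7 n15624 = n16345 := rfl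
theorem F64619 : act 0 n16345 = n15632 := d6_1 D16345 (iv D15632) (iv F61704)
theorem F64620 : act 1 n16345 = n16034 := d13_1 D16345 F63382 F63378
theorem F64621 : act 2 n16345 = n15706 := d19_1 D16345 (iv D15706) (iv F61705)
theorem F64622 : act 3 n16345 = n16316 := d24_1 D16345 (iv F64524) F63545 F60484 (iv F61706)
theorem F64623 : act 4 n16345 = n16028 := d28_1 D16345 F64618 (iv D16344)
theorem F64624 : act 5 n16345 = n15625 := d31_1 D16345 (iv D15625) D15624
theorem F64625 : act 6 n16345 = n16344 := d33_1 D16345 (iv F64618) F63348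
def n16346 : Q := act 8 n15624
theorem D16346 : act 8 n15624 = n16346 := rfl
theorem F64626 : act 0 n16346 = n15633 := d7_1 D16346 (iv D15633) (iv F61704)
theorem F64627 : act 2 n16346 = n15707 := d20_1 D16346 (iv D15707) (iv F61705)
theorem F64628 : act 3 n16346 = n15627 := d25_1 D16346 (iv D15627) (iv F61706)
theorem F64629 : act 5 n16346 = n15626 := d32_1 D16346 (iv D15626) D15624
def n16347 : Q := act 8 n15625
theorem D16347 : act 8 n15625 = n16347 := rfl
theorem F64630 : act 0 n16347 = n15634 := d7_1 D16347 (iv D15634) (iv F61707)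
theorem F64631 : act 2 n16347 = n15708 := d20_1 D16347 (iv D15708) (iv F61708)
theorem F64632 : act 4 n16347 = n16202 := d29_1 D16347 (iv D16202) (iv F61709)
theorem F64633 : act 6 n16347 = n15808 := d34_1 D16347 (iv D15808) (iv F61710)
def n16348 : Q := act 7 n15626
theorem D16348 : act 7 n15626 = n16348 := rfl
theorem F64634 : act 0 n16348 = n15635 := d6_1 D16348 (iv D15635) (iv F61711)
theorem F64635 : act 2 n16348 = n15709 := d19_1 D16348 (iv D15709) (iv F61712)
theorem F64636 : act 4 n16348 = n16203 := d28_1 D16348 (iv D16203) (iv F61714)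
theorem F64637 : act 6 n16348 = n15809 := d33_1 D16348 (iv D15809) (iv F61715)
def n16349 : Q := act 7 n15627
theorem D16349 : act 7 n15627 = n16349 := rfl
theorem F64638 : act 0 n16349 = n15637 := d6_1 D16349 (iv D15637) (iv F61716)
theorem F64639 : act 2 n16349 = n15678 := d19_1 D16349 (iv D15678) (iv F61717)
theorem F64640 : act 5 n16349 = n15628 := d31_1 D16349 (iv D15628) (iv F61718)
def n16350 : Q := act 3 n15628
theorem D16350 : act 3 n15628 = n16350 := rfl
theorem F64641 : act 0 n16350 = n15638 := d2_1 D16350 (iv D15638) (iv F61719)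
theorem F64642 : act 6 n16350 = n15811 := d23_2 (iv F61722) D16350 (iv D15811)
def n16351 : Q := act 4 n15629
theorem D16351 : act 4 n15629 = n16351 := rfl
theorem F64643 : act 0 n16351 = n15639 := d3_1 D16351 (iv D15639) (iv F61723)
theorem F64644 : act 6 n16351 = n15812 := d27_2 (iv F61724) D16351 (iv D15812)
theorem F64645 : act 7 n16351 = n16206 := d28_2 (iv F61725) D16351 (iv D16206)
def n16352 : Q := act 8 n15630
theorem D16352 : act 8 n15630 = n16352 := rfl
theorem F64646 : act 1 n16352 = n15640 := d14_1 D16352 (iv D15640) (iv F61726)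
theorem F64647 : act 2 n16352 = n15713 := d20_1 D16352 (iv D15713) (iv F61727)
theorem F64648 : act 4 n16352 = n15633 := d29_1 D16352 (iv D15633) D15630
theorem F64649 : act 5 n16352 = n16334 := d32_1 D16352 (iv D16334) (iv F61728)
def n16353 : Q := act 8 n15631
theorem D16353 : act 8 n15631 = n16353 := rfl
theorem F64650 : act 1 n16353 = n15641 := d14_1 D16353 (iv D15641) (iv F61729)
theorem F64651 : act 2 n16353 = n15714 := d20_1 D16353 (iv D15714) (iv F61730)
theorem F64652 : act 3 n16353 = n15636 := d25_1 D16353 (iv D15636) (iv F61731)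
theorem F64653 : act 5 n16353 = n15860 := d32_1 D16353 (iv D15860) (iv F61732)
theorem F64654 : act 6 n16353 = n15633 := d34_1 D16353 (iv D15633) D15631
def n16354 : Q := act 8 n15632
theorem D16354 : act 8 n15632 = n16354 := rfl
theorem F64655 : act 1 n16354 = n15642 := d14_1 D16354 (iv D15642) (iv F61734)
theorem F64656 : act 2 n16354 = n15715 := d20_1 D16354 (iv D15715) (iv F61735)
theorem F64657 : act 4 n16354 = n16353 := d29_1 D16354 (iv D16353) (iv F61736)
theorem F64658 : act 5 n16354 = n15634 := d32_1 D16354 (iv D15634) (iv F61737)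
theorem F64659 : act 6 n16354 = n16352 := d34_1 D16354 (iv D16352) (iv F61738)
def n16355 : Q := act 7 n15633
theorem D16355 : act 7 n15633 = n16355 := rfl
theorem F64660 : act 1 n16355 = n15643 := d13_1 D16355 (iv D15643) (iv F61739)
theorem F64661 : act 2 n16355 = n15716 := d19_1 D16355 (iv D15716) (iv F61740)
theorem F64662 : act 5 n16355 = n15635 := d31_1 D16355 (iv D15635) (iv F61742)
def n16356 : Q := act 7 n15634
theorem D16356 : act 7 n15634 = n16356 := rfl
theorem F64663 : act 1 n16356 = n15644 := d13_1 D16356 (iv D15644) (iv F61743)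
theorem F64664 : act 2 n16356 = n15717 := d19_1 D16356 (iv D15717) (iv F61744)
theorem F64665 : act 4 n16356 = n16338 := d28_1 D16356 (iv D16338) (iv F61745)
theorem F64666 : act 6 n16356 = n15863 := d33_1 D16356 (iv D15863) (iv F61746)
theorem F64667 : act 8 n16356 = n15635 := d35_2 D15634 D16356 (iv D15635) (iv D14810) D14809
def n16357 : Q := act 3 n15635
theorem D16357 : act 3 n15635 = n16357 := rfl
theorem F64668 : act 1 n16357 = n15645 := d9_1 D16357 (iv D15645) (iv F61747)
theorem F64669 : act 6 n16357 = n15864 := d23_2 (iv F61750) D16357 (iv D15864)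
theorem F64670 : act 7 n16357 = n15638 := d24_2 D15635 D16357 (iv D15638) (iv D14813) (iv F58432)
def n16358 : Q := act 7 n15636
theorem D16358 : act 7 n15636 = n16358 := rfl
theorem F64671 : act 1 n16358 = n15646 := d13_1 D16358 (iv D15646) (iv F61751)
theorem F64672 : act 2 n16358 = n15680 := d19_1 D16358 (iv D15680) (iv F61752)
theorem F64673 : act 5 n16358 = n15865 := d31_1 D16358 (iv D15865) (iv F61753)
theorem F64674 : act 6 n16358 = n15637 := d33_1 D16358 (iv D15637) (iv F61754)
def n16359 : Q := act 3 n15637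
theorem D16359 : act 3 n15637 = n16359 := rfl
theorem F64675 : act 1 n16359 = n15647 := d9_1 D16359 (iv D15647) (iv F61755)
theorem F64676 : act 5 n16359 = n15638 := d22_2 (iv F61757) D16359 (iv D15638)
def n16360 : Q := act 2 n15638
theorem D16360 : act 2 n15638 = n16360 := rfl
theorem F64677 : act 3 n16360 = n15682 := d15_2 D15638 D16360 (iv D15682) (iv D14866) (iv F58442)
theorem F64678 : act 6 n16360 = n15867 := d18_2 (iv F61759) D16360 (iv D15867)
def n16361 : Q := act 4 n15638
theorem D16361 : act 4 n15638 = n16361 := rfl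
theorem F64679 : act 1 n16361 = n15649 := d10_1 D16361 (iv D15649) (iv F61758)
theorem F64680 : act 3 n16361 = n15639 := d21_1 D16361 (iv D15639) (iv D14814) (iv F58443) D15638
theorem F64681 : act 6 n16361 = n15868 := d27_2 (iv F61759) D16361 (iv D15868)
def n16362 : Q := act 5 n15639
theorem D16362 : act 5 n15639 = n16362 := rfl
theorem F64682 : act 1 n16362 = n15650 := d11_1 D16362 (iv D15650) (iv F61760)
theorem F64683 : act 7 n16362 = n16343 := d31_2 (iv F61762) D16362 (iv D16343)
def n16363 : Q := act 7 n15640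
theorem D16363 : act 7 n15640 = n16363 := rfl
theorem F64684 : act 2 n16363 = n15662 := d19_1 D16363 (iv D15662) (iv F61763)
theorem F64685 : act 4 n16363 = n15643 := d28_1 D16363 (iv D15643) (iv F61764)
def n16364 : Q := act 7 n15641
theorem D16364 : act 7 n15641 = n16364 := rfl
theorem F64686 : act 2 n16364 = n15663 := d19_1 D16364 (iv D15663) (iv F61765)
theorem F64687 : act 6 n16364 = n15643 := d33_1 D16364 (iv D15643) (iv F61767)
theorem F64688 : act 8 n16364 = n16363 := d35_2 D15641 D16364 (iv D16363) (iv D15640) F58451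
def n16365 : Q := act 7 n15642
theorem D16365 : act 7 n15642 = n16365 := rfl
theorem F64689 : act 2 n16365 = n15664 := d19_1 D16365 (iv D15664) (iv F61768)
theorem F64690 : act 4 n16365 = n16364 := d28_1 D16365 (iv D16364) (iv F61769)
theorem F64691 : act 5 n16365 = n15644 := d31_1 D16365 (iv D15644) (iv F61770)
theorem F64692 : act 6 n16365 = n16363 := d33_1 D16365 (iv D16363) (iv F61771)
theorem F64693 : act 8 n16365 = n15643 := d35_2 D15642 D16365 (iv D15643) (iv D14818) D14817
def n16366 : Q := act 3 n15643
theorem D16366 : act 3 n15643 = n16366 := rfl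
theorem F64694 : act 5 n16366 = n15645 := d22_2 (iv F61773) D16366 (iv D15645)
theorem F64695 : act 7 n16366 = n15647 := d24_2 D15643 D16366 (iv D15647) (iv D14822) (iv F58457)
def n16367 : Q := act 3 n15644
theorem D16367 : act 3 n15644 = n16367 := rfl
theorem F64696 : act 8 n16367 = n15645 := d25_2 (iv F61775) D16367 (iv D15645)
def n16368 : Q := act 2 n15645
theorem D16368 : act 2 n15645 = n16368 := rfl
theorem F64697 : act 3 n16368 = n15667 := d15_2 D15645 D16368 (iv D15667) (iv D14844) (iv F58460)
theorem F64698 : act 7 n16368 = n15648 := d19_2 (iv F61776) D16368 (iv D15648)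
def n16369 : Q := act 4 n15645
theorem D16369 : act 4 n15645 = n16369 := rfl
theorem F64699 : act 7 n16369 = n15649 := d28_2 (iv F61776) D16369 (iv D15649)
def n16370 : Q := act 3 n15646
theorem D16370 : act 3 n15646 = n16370 := rfl
theorem F64700 : act 6 n16370 = n15647 := d23_2 (iv F61778) D16370 (iv D15647)
def n16371 : Q := act 2 n15647
theorem D16371 : act 2 n15647 = n16371 := rfl
theorem F64701 : act 3 n16371 = n15651 := d15_2 D15647 D16371 (iv D15651) (iv D14826) (iv F58463)
theorem F64702 : act 5 n16371 = n15648 := d17_2 (iv F61779) D16371 (iv D15648)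
def n16372 : Q := act 4 n15647
theorem D16372 : act 4 n15647 = n16372 := rfl
def n16373 : Q := act 1 n15648
theorem D16373 : act 1 n15648 = n16373 := rfl
theorem F64703 : act 3 n16373 = n15652 := d9_2 (iv F61780) D16373 (iv D15652)
def n16374 : Q := act 4 n15648
theorem D16374 : act 4 n15648 = n16374 := rfl
theorem F64704 : act 2 n16374 = n15649 := d16_1 D16374 (iv D15649) D15648
def n16375 : Q := act 5 n15649
theorem D16375 : act 5 n15649 = n16375 := rfl
theorem F64705 : act 3 n16375 = n15650 := d22_1 D16375 (iv D15650) (iv F61781)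
def n16376 : Q := act 6 n15650
theorem D16376 : act 6 n15650 = n16376 := rfl
def n16377 : Q := act 7 n15653
theorem D16377 : act 7 n15653 = n16377 := rfl
theorem F64706 : act 1 n16377 = n15735 := d13_1 D16377 (iv D15735) (iv F61786)
theorem F64707 : act 4 n16377 = n15656 := d28_1 D16377 (iv D15656) (iv F61788)
theorem F64708 : act 6 n16377 = n15876 := d33_1 D16377 (iv D15876) (iv F61789)
theorem F64709 : act 8 n16377 = n15875 := d35_2 D15653 D16377 (iv D15875) (iv D15102) F58474
def n16378 : Q := act 7 n15654
theorem D16378 : act 7 n15654 = n16378 := rfl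
theorem F64710 : act 1 n16378 = n15736 := d13_1 D16378 (iv D15736) (iv F61790)
theorem F64711 : act 4 n16378 = n15876 := d28_1 D16378 (iv D15876) (iv F61792)
theorem F64712 : act 5 n16378 = n15663 := d31_1 D16378 (iv D15663) (iv F61793)
theorem F64713 : act 6 n16378 = n15656 := d33_1 D16378 (iv D15656) (iv F61794)
theorem F64714 : act 8 n16378 = n15874 := d35_2 D15654 D16378 (iv D15874) (iv D15101) F58479
def n16379 : Q := act 7 n15655
theorem D16379 : act 7 n15655 = n16379 := rfl
theorem F64715 : act 1 n16379 = n15737 := d13_1 D16379 (iv D15737) (iv F61795)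
theorem F64716 : act 4 n16379 = n15875 := d28_1 D16379 (iv D15875) (iv F61797)
theorem F64717 : act 5 n16379 = n15657 := d31_1 D16379 (iv D15657) (iv F61798)
theorem F64718 : act 6 n16379 = n15874 := d33_1 D16379 (iv D15874) (iv F61799)
theorem F64719 : act 8 n16379 = n15656 := d35_2 D15655 D16379 (iv D15656) (iv D14831) D14830
def n16380 : Q := act 3 n15656
theorem D16380 : act 3 n15656 = n16380 := rfl
theorem F64720 : act 0 n16380 = n15778 := d2_1 D16380 (iv F64205) F64203
theorem F64721 : act 1 n16380 = n15738 := d9_1 D16380 (iv D15738) (iv F61800)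
theorem F64722 : act 5 n16380 = n15658 := d22_2 (iv F61801) D16380 (iv D15658)
theorem F64723 : act 7 n16380 = n15660 := d24_2 D15656 D16380 (iv D15660) (iv D14835) (iv F58486)
def n16381 : Q := act 3 n15657
theorem D16381 : act 3 n15657 = n16381 := rfl
theorem F64724 : act 0 n16381 = n15779 := d2_1 D16381 (iv F64209) F64207
theorem F64725 : act 1 n16381 = n15739 := d9_1 D16381 (iv D15739) (iv F61802)
theorem F64726 : act 6 n16381 = n15666 := d23_2 (iv F61803) D16381 (iv D15666)
theorem F64727 : act 7 n16381 = n15760 := d24_2 D15657 D16381 F62243 F59033 (iv F58489)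
theorem F64728 : act 8 n16381 = n15658 := d25_2 (iv F61804) D16381 (iv D15658)
def n16382 : Q := act 4 n15658
theorem D16382 : act 4 n15658 = n16382 := rfl
theorem F64729 : act 0 n16382 = n15770 := d3_1 D16382 F62296 (iv F61805)
theorem F64730 : act 1 n16382 = n15741 := d10_1 D16382 (iv D15741) (iv F61806)
theorem F64731 : act 6 n16382 = n15668 := d27_2 (iv F61807) D16382 (iv D15668)
theorem F64732 : act 7 n16382 = n15661 := d28_2 (iv F61808) D16382 (iv D15661)
theorem F64733 : act 5 n16307 = n16382 := d31_3 F64732 (iv F61825) D16307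
def n16383 : Q := act 3 n15659
theorem D16383 : act 3 n15659 = n16383 := rfl
theorem F64734 : act 0 n16383 = n15776 := d2_1 D16383 F62317 (iv F61809)
theorem F64735 : act 1 n16383 = n15742 := d9_1 D16383 (iv D15742) (iv F61810)
theorem F64736 : act 5 n16383 = n15669 := d22_2 (iv F61813) D16383 (iv D15669)
theorem F64737 : act 6 n16383 = n15660 := d23_2 (iv F61814) D16383 (iv D15660)
theorem F64738 : act 8 n16383 = n15758 := d25_2 (iv F61815) D16383 F62231
theorem F64739 : act 4 n15970 = n16383 := d29_3 F64738 F62232 D15970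
def n16384 : Q := act 4 n15660
theorem D16384 : act 4 n15660 = n16384 := rfl
theorem F64740 : act 0 n16384 = n15775 := d3_1 D16384 F62314 (iv F61816)
theorem F64741 : act 1 n16384 = n15744 := d10_1 D16384 (iv D15744) (iv F61817)
theorem F64742 : act 3 n16384 = n16384 := d21_1 D16384 (iv D16384) (iv D15660) F58501 D15660
theorem F64743 : act 5 n16384 = n16018 := d26_2 (iv F61818) D16384 F63296 F61825 (iv D15661)
theorem F64744 : act 6 n16384 = n15970 := d27_2 F64737 D16384 F64739
theorem F64745 : act 8 n16384 = n15757 := d29_2 (iv F61819) D16384 (iv D15757)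
def n16385 : Q := act 3 n15662
theorem D16385 : act 3 n15662 = n16385 := rfl
theorem F64746 : act 0 n16385 = n16281 := d2_1 D16385 F64385 F64212
theorem F64747 : act 1 n16385 = n15746 := d9_1 D16385 (iv D15746) (iv F61826)
theorem F64748 : act 4 n16385 = n16137 := d21_2 (iv F61827) D16385 F63795 F61839 (iv D15665)
theorem F64749 : act 6 n16385 = n16142 := d23_2 F61834 D16385 F63817
theorem F64750 : act 7 n16385 = n15673 := d24_2 D15662 D16385 (iv D15673) (iv D14851) (iv F58520)
def n16386 : Q := act 3 n15663
theorem D16386 : act 3 n15663 = n16386 := rfl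
theorem F64751 : act 1 n16386 = n15747 := d9_1 D16386 (iv D15747) (iv F61828)
theorem F64752 : act 4 n16386 = n16004 := d21_2 F61832 D16386 F63234 (iv F63818) F63817
theorem F64753 : act 6 n16386 = n15665 := d23_2 (iv F61829) D16386 (iv D15665)
theorem F64754 : act 7 n16386 = n15669 := d24_2 D15663 D16386 (iv D15669) (iv D14845) (iv F58523)
theorem F64755 : act 8 n16386 = n16385 := d25_2 (iv F61830) D16386 (iv D16385)
def n16387 : Q := act 2 n15665
theorem D16387 : act 2 n15665 = n16387 := rfl
theorem F64756 : act 1 n16387 = n16261 := d8_1 D16387 F64318 F61424 F58913 (iv F61836)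
theorem F64757 : act 4 n16387 = n16260 := d16_2 F61839 D16387 F64314
theorem F64758 : act 5 n16387 = n15667 := d17_2 (iv F61837) D16387 (iv D15667)
theorem F64759 : act 7 n16387 = n15670 := d19_2 (iv F61838) D16387 (iv D15670)
def n16388 : Q := act 2 n15666
theorem D16388 : act 2 n15666 = n16388 := rfl
theorem F64760 : act 7 n16388 = n15780 := d19_2 (iv F61841) D16388 (iv D15780)
theorem F64761 : act 8 n16388 = n15667 := d20_2 (iv F61842) D16388 (iv D15667)
def n16389 : Q := act 4 n15666
theorem D16389 : act 4 n15666 = n16389 := rfl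
theorem F64762 : act 1 n16389 = n15699 := d10_1 D16389 F61976 (iv F61840)
theorem F64763 : act 5 n16389 = n15697 := d26_2 F63819 D16389 F61965 (iv F60881) (iv F63818)
theorem F64764 : act 7 n16389 = n15696 := d28_2 (iv F61841) D16389 F61962
theorem F64765 : act 8 n16389 = n15668 := d29_2 (iv F61842) D16389 (iv D15668)
def n16390 : Q := act 1 n15667
theorem D16390 : act 1 n15667 = n16390 := rfl
theorem F64766 : act 2 n16390 = n15748 := d8_2 D15667 D16390 (iv D15748) (iv D14940) (iv F58534)
theorem F64767 : act 5 n16390 = n16261 := d11_2 F64758 D16390 (iv F64756)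
theorem F64768 : act 7 n16390 = n15671 := d13_2 (iv F61843) D16390 (iv D15671)
def n16391 : Q := act 4 n15667
theorem D16391 : act 4 n15667 = n16391 := rfl
theorem F64769 : act 2 n16391 = n15668 := d16_1 D16391 (iv D15668) D15667
theorem F64770 : act 5 n16391 = n16286 := d26_2 F64758 D16391 F64406 (iv F64315) (iv F64757)
theorem F64771 : act 7 n16391 = n15672 := d28_2 (iv F61843) D16391 (iv D15672)
def n16392 : Q := act 2 n15673
theorem D16392 : act 2 n15673 = n16392 := rfl
theorem F64772 : act 0 n16392 = n16273 := d1_1 D16392 F64361 (iv F61863)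
theorem F64773 : act 1 n16392 = n15959 := d8_1 D16392 F62998 F59930 F58936 (iv F61864)
theorem F64774 : act 4 n16392 = n16005 := d16_2 (iv F61865) D16392 F63239
theorem F64775 : act 6 n16392 = n16010 := d18_2 (iv F61866) D16392 F63265
theorem F64776 : act 8 n16392 = n15950 := d20_2 (iv F61867) D16392 F62958
def n16393 : Q := act 3 n15674
theorem D16393 : act 3 n15674 = n16393 := rfl
theorem F64777 : act 0 n16393 = n15676 := d2_1 D16393 (iv D15676) (iv F61868)
theorem F64778 : act 1 n16393 = n15685 := d9_1 D16393 (iv D15685) (iv F61869)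
theorem F64779 : act 6 n16393 = n15800 := d23_2 (iv F61871) D16393 (iv D15800)
theorem F64780 : act 7 n16393 = n16393 := d24_2 D15674 D16393 (iv D16393) (iv D15674) F58575
theorem F64781 : act 8 n16393 = n15679 := d25_2 (iv F61872) D16393 (iv D15679)
def n16394 : Q := act 3 n15675
theorem D16394 : act 3 n15675 = n16394 := rfl
theorem F64782 : act 1 n16394 = n15677 := d9_1 D16394 (iv D15677) (iv F61873)
theorem F64783 : act 5 n16394 = n15676 := d22_2 (iv F61874) D16394 (iv D15676)
theorem F64784 : act 7 n16394 = n16394 := d24_2 D15675 D16394 (iv D16394) (iv D15675) F58583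
theorem F64785 : act 8 n16394 = n15681 := d25_2 (iv F61875) D16394 (iv D15681)
def n16395 : Q := act 2 n15676
theorem D16395 : act 2 n15676 = n16395 := rfl
theorem F64786 : act 6 n16395 = n15858 := d18_2 (iv F61877) D16395 (iv D15858)
theorem F64787 : act 7 n16395 = n16395 := d19_2 F61878 D16395 (iv D16395)
theorem F64788 : act 8 n16395 = n15682 := d20_2 (iv F61879) D16395 (iv D15682)
def n16396 : Q := act 4 n15677
theorem D16396 : act 4 n15677 = n16396 := rfl
theorem F64789 : act 0 n16396 = n15686 := d3_1 D16396 F61912 (iv F61880)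
theorem F64790 : act 2 n16396 = n15685 := d16_1 D16396 (iv F63083) F63082
theorem F64791 : act 3 n16396 = n15835 := d21_1 D16396 (iv F63222) F63221 F60622 D15677
theorem F64792 : act 5 n16396 = n15834 := d26_2 (iv F61881) D16396 (iv D15834) (iv F60599) F60598
theorem F64793 : act 6 n16396 = n15829 := d27_2 F63123 D16396 (iv F63121)
theorem F64794 : act 7 n16396 = n16396 := d28_2 F61882 D16396 (iv D16396)
theorem F64795 : act 8 n16396 = n15683 := d29_2 (iv F61883) D16396 (iv D15683)
def n16397 : Q := act 3 n15678
theorem D16397 : act 3 n15678 = n16397 := rfl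
theorem F64796 : act 0 n16397 = n15681 := d2_1 D16397 (iv D15681) (iv F61884)
theorem F64797 : act 1 n16397 = n15687 := d9_1 D16397 (iv D15687) (iv F61885)
theorem F64798 : act 5 n16397 = n15679 := d22_2 (iv F61886) D16397 (iv D15679)
theorem F64799 : act 7 n16397 = n15750 := d24_2 D15678 D16397 (iv D15750) (iv D14946) (iv F58606)
def n16398 : Q := act 2 n15679
theorem D16398 : act 2 n15679 = n16398 := rfl
theorem F64800 : act 0 n16398 = n15682 := d1_1 D16398 (iv D15682) (iv F61887)
theorem F64801 : act 6 n16398 = n15814 := d18_2 (iv F61889) D16398 (iv D15814)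
theorem F64802 : act 7 n16398 = n15751 := d19_2 (iv F61890) D16398 (iv D15751)
def n16399 : Q := act 2 n15681
theorem D16399 : act 2 n15681 = n16399 := rfl
theorem F64803 : act 5 n16399 = n15682 := d17_2 (iv F61895) D16399 (iv D15682)
theorem F64804 : act 7 n16399 = n15752 := d19_2 (iv F61896) D16399 (iv D15752)
def n16400 : Q := act 4 n15681
theorem D16400 : act 4 n15681 = n16400 := rfl
theorem F64805 : act 1 n16400 = n15683 := d10_1 D16400 (iv D15683) (iv F61894)
theorem F64806 : act 6 n16400 = n15836 := d27_2 F63189 D16400 (iv F63187)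
theorem F64807 : act 7 n16400 = n15753 := d28_2 (iv F61896) D16400 (iv D15753)
def n16401 : Q := act 1 n15682
theorem D16401 : act 1 n15682 = n16401 := rfl
theorem F64808 : act 2 n16401 = n15684 := d8_2 D15682 D16401 (iv D15684) (iv D14869) (iv F58618)
theorem F64809 : act 6 n16401 = n15873 := d12_2 (iv F61897) D16401 (iv D15873)
theorem F64810 : act 7 n16401 = n15754 := d13_2 (iv F61898) D16401 (iv D15754)
def n16402 : Q := act 7 n15688
theorem D16402 : act 7 n15688 = n16402 := rfl
theorem F64811 : act 0 n16402 = n16402 := d6_1 D16402 (iv D16402) F61920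
theorem F64812 : act 1 n16402 = n15971 := d13_1 D16402 (iv D15971) (iv F61921)
theorem F64813 : act 3 n16402 = n15901 := d24_1 D16402 F62710 F59661 F59202 (iv F61922)
theorem F64814 : act 4 n16402 = n15897 := d28_1 D16402 F62695 (iv F61923)
theorem F64815 : act 5 n16402 = n15689 := d31_1 D16402 (iv D15689) (iv F61924)
theorem F64816 : act 8 n16402 = n16138 := d35_2 D15688 D16402 (iv D16138) (iv D15401) (iv F58658)
def n16403 : Q := act 3 n15689
theorem D16403 : act 3 n15689 = n16403 := rfl
theorem F64817 : act 0 n16403 = n16403 := d2_1 D16403 (iv D16403) F61925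
theorem F64818 : act 1 n16403 = n15973 := d9_1 D16403 (iv D15973) (iv F61926)
theorem F64819 : act 4 n16403 = n15691 := d21_2 (iv F61927) D16403 (iv D15691) F58677 (iv F58665)
theorem F64820 : act 5 n16403 = n15901 := d22_2 F64815 D16403 (iv F64813)
theorem F64821 : act 6 n16403 = n15690 := d23_2 (iv F61928) D16403 (iv D15690)
theorem F64822 : act 7 n16403 = n15781 := d24_2 D15689 D16403 (iv D15781) (iv D15003) (iv F58661)
theorem F64823 : act 8 n16403 = n16139 := d25_2 (iv F61929) D16403 (iv D16139)
def n16404 : Q := act 2 n15691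
theorem D16404 : act 2 n15691 = n16404 := rfl
theorem F64824 : act 0 n16404 = n16404 := d1_1 D16404 (iv D16404) F61934
theorem F64825 : act 3 n16404 = n15896 := d15_2 D15691 D16404 (iv D15896) (iv D15131) (iv F58676)
theorem F64826 : act 5 n16404 = n15905 := d17_2 (iv F61935) D16404 F62721
theorem F64827 : act 6 n16404 = n15703 := d18_2 (iv F61936) D16404 (iv D15703)
theorem F64828 : act 7 n16404 = n15782 := d19_2 (iv F61937) D16404 (iv D15782)
def n16405 : Q := act 8 n15692
theorem D16405 : act 8 n15692 = n16405 := rfl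
theorem F64829 : act 0 n16405 = n15696 := d7_1 D16405 (iv D15696) (iv F61938)
theorem F64830 : act 1 n16405 = n16405 := d14_1 D16405 (iv D16405) F61939
theorem F64831 : act 3 n16405 = n16405 := d25_1 D16405 (iv D16405) F61940
theorem F64832 : act 4 n16405 = n15763 := d29_1 D16405 F62262 (iv F61941)
theorem F64833 : act 5 n16405 = n15693 := d32_1 D16405 (iv D15693) D15692
theorem F64834 : act 6 n16405 = n15769 := d34_1 D16405 (iv D15769) F61943
def n16406 : Q := act 7 n15693
theorem D16406 : act 7 n15693 = n16406 := rfl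
theorem F64835 : act 0 n16406 = n15697 := d6_1 D16406 (iv D15697) (iv F61944)
theorem F64836 : act 1 n16406 = n16406 := d13_1 D16406 (iv D16406) F61945
theorem F64837 : act 4 n16406 = n15694 := d28_1 D16406 (iv D15694) (iv F61947)
theorem F64838 : act 6 n16406 = n15794 := d33_1 D16406 (iv D15794) (iv F61948)
theorem F64839 : act 8 n16406 = n16166 := d35_2 D15693 D16406 (iv D16166) (iv D15436) (iv F58683)
def n16407 : Q := act 8 n15695
theorem D16407 : act 8 n15695 = n16407 := rfl
theorem F64840 : act 0 n16407 = n15769 := d7_1 D16407 (iv D15769) (iv F61954)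
theorem F64841 : act 1 n16407 = n15698 := d14_1 D16407 (iv D15698) (iv F61955)
theorem F64842 : act 3 n16407 = n16407 := d25_1 D16407 (iv D16407) F61956
theorem F64843 : act 4 n16407 = n15760 := d29_1 D16407 (iv D15760) (iv F61957)
theorem F64844 : act 5 n16407 = n15846 := d32_1 D16407 (iv D15846) (iv F61958)
theorem F64845 : act 6 n16407 = n15696 := d34_1 D16407 (iv D15696) D15695
def n16408 : Q := act 3 n15697
theorem D16408 : act 3 n15697 = n16408 := rfl
theorem F64846 : act 1 n16408 = n15700 := d9_1 D16408 (iv D15700) (iv F61964)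
theorem F64847 : act 6 n16408 = n15848 := d23_2 (iv F61966) D16408 (iv D15848)
theorem F64848 : act 7 n16408 = n16408 := d24_2 D15697 D16408 (iv D16408) (iv D15697) F58693
theorem F64849 : act 8 n16408 = n16288 := d25_2 (iv F61967) D16408 (iv D16288)
def n16409 : Q := act 7 n15698
theorem D16409 : act 7 n15698 = n16409 := rfl
theorem F64850 : act 0 n16409 = n16409 := d6_1 D16409 (iv D16409) F61968
theorem F64851 : act 2 n16409 = n15701 := d19_1 D16409 (iv D15701) (iv F61969)
theorem F64852 : act 4 n16409 = n15739 := d28_1 D16409 F62147 (iv F61971)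
theorem F64853 : act 5 n16409 = n15894 := d31_1 D16409 (iv D15894) (iv F61972)
theorem F64854 : act 6 n16409 = n15699 := d33_1 D16409 (iv D15699) (iv F61973)
theorem F64855 : act 8 n16409 = n15741 := d35_2 D15698 D16409 F62156 F58889 (iv F58704)
def n16410 : Q := act 2 n15700
theorem D16410 : act 2 n15700 = n16410 := rfl
theorem F64856 : act 0 n16410 = n16410 := d1_1 D16410 (iv D16410) F61979
theorem F64857 : act 3 n16410 = n15703 := d15_2 D15700 D16410 (iv D15703) (iv D14894) (iv F58711)
theorem F64858 : act 6 n16410 = n15896 := d18_2 (iv F61980) D16410 (iv D15896)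
theorem F64859 : act 7 n16410 = n16410 := d19_2 F61981 D16410 (iv D16410)
theorem F64860 : act 8 n16410 = n16404 := d20_2 (iv F61982) D16410 (iv D16404)
def n16411 : Q := act 3 n15701
theorem D16411 : act 3 n15701 = n16411 := rfl
theorem F64861 : act 0 n16411 = n16411 := d2_1 D16411 (iv D16411) F61983
theorem F64862 : act 5 n16411 = n15730 := d22_2 (iv F62157) D16411 (iv F62154)
theorem F64863 : act 6 n16411 = n15702 := d23_2 (iv F61984) D16411 (iv D15702)
theorem F64864 : act 7 n16411 = n15734 := d24_2 D15701 D16411 F62121 F58837 (iv F58716)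
def n16412 : Q := act 2 n15702
theorem D16412 : act 2 n15702 = n16412 := rfl
theorem F64865 : act 0 n16412 = n16412 := d1_1 D16412 (iv D16412) F61985
theorem F64866 : act 5 n16412 = n15703 := d17_2 (iv F61986) D16412 (iv D15703)
theorem F64867 : act 7 n16412 = n15783 := d19_2 (iv F61987) D16412 (iv D15783)
theorem F64868 : act 4 n16411 = n16412 := d28_3 F64867 (iv F62347) (iv F64864)
def n16413 : Q := act 4 n15702
theorem D16413 : act 4 n15702 = n16413 := rfl
theorem F64869 : act 0 n16413 = n16413 := d3_1 D16413 (iv D16413) F61985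
theorem F64870 : act 2 n16413 = n16411 := d16_1 D16413 F64868 (iv D16412)
theorem F64871 : act 6 n16413 = n16412 := d27_2 F64863 D16413 (iv F64868)
theorem F64872 : act 7 n16413 = n15784 := d28_2 (iv F61987) D16413 (iv D15784)
def n16414 : Q := act 1 n15703
theorem D16414 : act 1 n15703 = n16414 := rfl
theorem F64873 : act 7 n16414 = n15785 := d13_2 (iv F61989) D16414 (iv D15785)
def n16415 : Q := act 8 n15704
theorem D16415 : act 8 n15704 = n16415 := rfl
theorem F64874 : act 0 n16415 = n15713 := d7_1 D16415 (iv D15713) (iv F61990)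
theorem F64875 : act 1 n16415 = n16415 := d14_1 D16415 (iv D16415) F61991
theorem F64876 : act 3 n16415 = n16415 := d25_1 D16415 (iv D16415) F61992
theorem F64877 : act 4 n16415 = n15707 := d29_1 D16415 (iv D15707) D15704
theorem F64878 : act 5 n16415 = n16232 := d32_1 D16415 (iv D16232) (iv F61993)
def n16416 : Q := act 8 n15705
theorem D16416 : act 8 n15705 = n16416 := rfl
theorem F64879 : act 0 n16416 = n15714 := d7_1 D16416 (iv D15714) (iv F61994)
theorem F64880 : act 1 n16416 = n16416 := d14_1 D16416 (iv D16416) F61995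
theorem F64881 : act 3 n16416 = n15710 := d25_1 D16416 (iv D15710) (iv F61996)
theorem F64882 : act 5 n16416 = n15816 := d32_1 D16416 (iv D15816) (iv F61997)
theorem F64883 : act 6 n16416 = n15707 := d34_1 D16416 (iv D15707) D15705
def n16417 : Q := act 8 n15706
theorem D16417 : act 8 n15706 = n16417 := rfl
theorem F64884 : act 0 n16417 = n15715 := d7_1 D16417 (iv D15715) (iv F61999)
theorem F64885 : act 1 n16417 = n16417 := d14_1 D16417 (iv D16417) F62000
theorem F64886 : act 3 n16417 = n16417 := d25_1 D16417 (iv D16417) F62001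
theorem F64887 : act 4 n16417 = n16416 := d29_1 D16417 (iv D16416) (iv F62002)
theorem F64888 : act 5 n16417 = n15708 := d32_1 D16417 (iv D15708) (iv F62003)
theorem F64889 : act 6 n16417 = n16415 := d34_1 D16417 (iv D16415) (iv F62004)
def n16418 : Q := act 7 n15707
theorem D16418 : act 7 n15707 = n16418 := rfl
theorem F64890 : act 0 n16418 = n15716 := d6_1 D16418 (iv D15716) (iv F62005)
theorem F64891 : act 1 n16418 = n16418 := d13_1 D16418 (iv D16418) F62006
theorem F64892 : act 5 n16418 = n15709 := d31_1 D16418 (iv D15709) (iv F62008)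
def n16419 : Q := act 7 n15708
theorem D16419 : act 7 n15708 = n16419 := rfl
theorem F64893 : act 0 n16419 = n15717 := d6_1 D16419 (iv D15717) (iv F62009)
theorem F64894 : act 1 n16419 = n16419 := d13_1 D16419 (iv D16419) F62010
theorem F64895 : act 4 n16419 = n16236 := d28_1 D16419 (iv D16236) (iv F62012)
theorem F64896 : act 6 n16419 = n15819 := d33_1 D16419 (iv D15819) (iv F62013)
theorem F64897 : act 8 n16419 = n15709 := d35_2 D15708 D16419 (iv D15709) (iv D14897) D14896
def n16420 : Q := act 3 n15709
theorem D16420 : act 3 n15709 = n16420 := rfl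
theorem F64898 : act 0 n16420 = n15718 := d2_1 D16420 (iv D15718) (iv F62014)
theorem F64899 : act 1 n16420 = n16420 := d9_1 D16420 (iv D16420) F62015
theorem F64900 : act 6 n16420 = n15820 := d23_2 (iv F62017) D16420 (iv D15820)
theorem F64901 : act 7 n16420 = n15712 := d24_2 D15709 D16420 (iv D15712) (iv D14900) (iv F58732)
def n16421 : Q := act 7 n15710
theorem D16421 : act 7 n15710 = n16421 := rfl
theorem F64902 : act 0 n16421 = n15719 := d6_1 D16421 (iv D15719) (iv F62018)
theorem F64903 : act 1 n16421 = n16421 := d13_1 D16421 (iv D16421) F62019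
theorem F64904 : act 2 n16421 = n15749 := d19_1 D16421 (iv D15749) (iv F62020)
theorem F64905 : act 4 n16421 = n16421 := d28_1 D16421 (iv D16421) F62021
theorem F64906 : act 5 n16421 = n15821 := d31_1 D16421 (iv D15821) (iv F62022)
theorem F64907 : act 6 n16421 = n15711 := d33_1 D16421 (iv D15711) (iv F62023)
theorem F64908 : act 8 n16421 = n16421 := d35_2 D15710 D16421 (iv D16421) (iv D15710) F58740
def n16422 : Q := act 3 n15711
theorem D16422 : act 3 n15711 = n16422 := rfl
theorem F64909 : act 0 n16422 = n15720 := d2_1 D16422 (iv D15720) (iv F62024)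
theorem F64910 : act 1 n16422 = n16422 := d9_1 D16422 (iv D16422) F62025
theorem F64911 : act 5 n16422 = n15712 := d22_2 (iv F62028) D16422 (iv D15712)
theorem F64912 : act 8 n16422 = n16422 := d25_2 F62029 D16422 (iv D16422)
def n16423 : Q := act 2 n15712
theorem D16423 : act 2 n15712 = n16423 := rfl
theorem F64913 : act 0 n16423 = n15721 := d1_1 D16423 (iv D15721) (iv F62030)
theorem F64914 : act 3 n16423 = n15751 := d15_2 D15712 D16423 (iv D15751) (iv D14947) (iv F58748)
theorem F64915 : act 6 n16423 = n15823 := d18_2 (iv F62032) D16423 (iv D15823)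
theorem F64916 : act 8 n16423 = n16423 := d20_2 F62033 D16423 (iv D16423)
def n16424 : Q := act 7 n15713
theorem D16424 : act 7 n15713 = n16424 := rfl
theorem F64917 : act 1 n16424 = n15724 := d13_1 D16424 (iv D15724) (iv F62034)
theorem F64918 : act 4 n16424 = n15716 := d28_1 D16424 (iv D15716) (iv F62036)
theorem F64919 : act 5 n16424 = n16377 := d31_1 D16424 (iv D16377) (iv F62037)
def n16425 : Q := act 7 n15714
theorem D16425 : act 7 n15714 = n16425 := rfl
theorem F64920 : act 1 n16425 = n15725 := d13_1 D16425 (iv D15725) (iv F62038)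
theorem F64921 : act 5 n16425 = n15875 := d31_1 D16425 (iv D15875) (iv F62040)
theorem F64922 : act 6 n16425 = n15716 := d33_1 D16425 (iv D15716) (iv F62041)
theorem F64923 : act 8 n16425 = n16424 := d35_2 D15714 D16425 (iv D16424) (iv D15713) F58758
def n16426 : Q := act 7 n15715
theorem D16426 : act 7 n15715 = n16426 := rfl
theorem F64924 : act 1 n16426 = n15726 := d13_1 D16426 (iv D15726) (iv F62042)
theorem F64925 : act 4 n16426 = n16425 := d28_1 D16426 (iv D16425) (iv F62044)
theorem F64926 : act 5 n16426 = n15717 := d31_1 D16426 (iv D15717) (iv F62045)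
theorem F64927 : act 6 n16426 = n16424 := d33_1 D16426 (iv D16424) (iv F62046)
theorem F64928 : act 8 n16426 = n15716 := d35_2 D15715 D16426 (iv D15716) (iv D14904) D14903
def n16427 : Q := act 3 n15716
theorem D16427 : act 3 n15716 = n16427 := rfl
theorem F64929 : act 1 n16427 = n15727 := d9_1 D16427 (iv D15727) (iv F62047)
theorem F64930 : act 5 n16427 = n15718 := d22_2 (iv F62048) D16427 (iv D15718)
theorem F64931 : act 7 n16427 = n15720 := d24_2 D15716 D16427 (iv D15720) (iv D14908) (iv F58765)
theorem F64932 : act 4 n16414 = n16427 := d28_3 F64931 (iv F62355) (iv F64873)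
def n16428 : Q := act 3 n15717
theorem D16428 : act 3 n15717 = n16428 := rfl
theorem F64933 : act 1 n16428 = n15728 := d9_1 D16428 (iv D15728) (iv F62049)
theorem F64934 : act 6 n16428 = n15878 := d23_2 (iv F62051) D16428 (iv D15878)
theorem F64935 : act 7 n16428 = n16428 := d24_2 D15717 D16428 (iv D16428) (iv D15717) F58768
theorem F64936 : act 8 n16428 = n15718 := d25_2 (iv F62052) D16428 (iv D15718)
def n16429 : Q := act 2 n15718
theorem D16429 : act 2 n15718 = n16429 := rfl
theorem F64937 : act 6 n16429 = n15879 := d18_2 (iv F62054) D16429 (iv D15879)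
theorem F64938 : act 7 n16429 = n15721 := d19_2 (iv F62055) D16429 (iv D15721)
def n16430 : Q := act 4 n15718
theorem D16430 : act 4 n15718 = n16430 := rfl
theorem F64939 : act 1 n16430 = n15730 := d10_1 D16430 (iv D15730) (iv F62053)
theorem F64940 : act 3 n16430 = n16382 := d21_1 D16430 (iv D16382) (iv D15658) (iv F58772) D15718
theorem F64941 : act 6 n16430 = n15880 := d27_2 (iv F62054) D16430 (iv D15880)
theorem F64942 : act 7 n16430 = n15722 := d28_2 (iv F62055) D16430 (iv D15722)
def n16431 : Q := act 3 n15719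
theorem D16431 : act 3 n15719 = n16431 := rfl
theorem F64943 : act 1 n16431 = n15731 := d9_1 D16431 (iv D15731) (iv F62056)
theorem F64944 : act 5 n16431 = n15881 := d22_2 (iv F62059) D16431 (iv D15881)
theorem F64945 : act 6 n16431 = n15720 := d23_2 (iv F62060) D16431 (iv D15720)
theorem F64946 : act 8 n16431 = n16431 := d25_2 F62061 D16431 (iv D16431)
def n16432 : Q := act 2 n15720
theorem D16432 : act 2 n15720 = n16432 := rfl
theorem F64947 : act 3 n16432 = n15752 := d15_2 D15720 D16432 (iv D15752) (iv D14949) (iv F58780)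
theorem F64948 : act 5 n16432 = n15721 := d17_2 (iv F62063) D16432 (iv D15721)
theorem F64949 : act 8 n16432 = n16432 := d20_2 F62064 D16432 (iv D16432)
def n16433 : Q := act 1 n15721
theorem D16433 : act 1 n15721 = n16433 := rfl
theorem F64950 : act 2 n16433 = n15732 := d8_2 D15721 D16433 (iv D15732) (iv D14919) (iv F58784)
theorem F64951 : act 3 n16433 = n15754 := d9_2 (iv F62065) D16433 (iv D15754)
theorem F64952 : act 6 n16433 = n15884 := d12_2 (iv F62066) D16433 (iv D15884)
theorem F64953 : act 8 n16433 = n16433 := d14_2 F62067 D16433 (iv D16433)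
def n16434 : Q := act 4 n15721
theorem D16434 : act 4 n15721 = n16434 := rfl
theorem F64954 : act 2 n16434 = n15722 := d16_1 D16434 (iv D15722) D15721
theorem F64955 : act 6 n16434 = n15885 := d27_2 (iv F62066) D16434 (iv D15885)
theorem F64956 : act 8 n16434 = n16434 := d29_2 F62067 D16434 (iv D16434)
def n16435 : Q := act 5 n15722
theorem D16435 : act 5 n15722 = n16435 := rfl
theorem F64957 : act 1 n16435 = n15734 := d11_1 D16435 (iv D15734) (iv F62068)
theorem F64958 : act 3 n16435 = n15723 := d22_1 D16435 (iv D15723) (iv F62069)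
theorem F64959 : act 6 n16435 = n15773 := d30_2 (iv F62070) D16435 F62309 (iv F62273) F62272
theorem F64960 : act 8 n16435 = n16435 := d32_2 F62071 D16435 (iv D16435)
def n16436 : Q := act 3 n15724
theorem D16436 : act 3 n15724 = n16436 := rfl
theorem F64961 : act 0 n16436 = n16436 := d2_1 D16436 (iv D16436) F62077
theorem F64962 : act 2 n16436 = n16139 := d15_1 D16436 (iv D16139) F62181 (iv D15746) (iv F62078)
theorem F64963 : act 4 n16436 = n16410 := d21_2 (iv F62079) D16436 F64857 F62095 (iv D15727)
theorem F64964 : act 6 n16436 = n16145 := d23_2 F62089 D16436 F63834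
theorem F64965 : act 7 n16436 = n16436 := d24_2 D15724 D16436 (iv D16436) (iv D15724) F58793
def n16437 : Q := act 3 n15725
theorem D16437 : act 3 n15725 = n16437 := rfl
theorem F64966 : act 0 n16437 = n16437 := d2_1 D16437 (iv D16437) F62080
theorem F64967 : act 2 n16437 = n16403 := d15_1 D16437 (iv D16403) F62187 (iv D15747) (iv F62081)
theorem F64968 : act 4 n16437 = n16404 := d21_2 F62087 D16437 F64825 (iv F63835) F63834
theorem F64969 : act 5 n16437 = n15898 := d22_2 (iv F62082) D16437 (iv D15898)
theorem F64970 : act 6 n16437 = n15727 := d23_2 (iv F62083) D16437 (iv D15727)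
theorem F64971 : act 7 n16437 = n15731 := d24_2 D15725 D16437 (iv D15731) (iv D14917) (iv F58797)
theorem F64972 : act 8 n16437 = n16436 := d25_2 (iv F62084) D16437 (iv D16436)
def n16438 : Q := act 4 n15728
theorem D16438 : act 4 n15728 = n16438 := rfl
theorem F64973 : act 0 n16438 = n16438 := d3_1 D16438 (iv D16438) F62096
theorem F64974 : act 3 n16438 = n16409 := d21_1 D16438 F64852 (iv D15739) F58867 D15728
theorem F64975 : act 6 n16438 = n15903 := d27_2 (iv F62097) D16438 (iv D15903)
theorem F64976 : act 7 n16438 = n16438 := d28_2 F62098 D16438 (iv D16438)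
theorem F64977 : act 8 n16438 = n15730 := d29_2 (iv F62099) D16438 (iv D15730)
def n16439 : Q := act 1 n15729
theorem D16439 : act 1 n15729 = n16439 := rfl
theorem F64978 : act 3 n16439 = n15748 := d9_2 (iv F62101) D16439 (iv D15748)
theorem F64979 : act 5 n16439 = n16263 := d11_2 (iv F62102) D16439 F64327
theorem F64980 : act 6 n16439 = n15904 := d12_2 (iv F62103) D16439 (iv D15904)
theorem F64981 : act 7 n16439 = n15732 := d13_2 (iv F62104) D16439 (iv D15732)
def n16440 : Q := act 4 n15729
theorem D16440 : act 4 n15729 = n16440 := rfl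
theorem F64982 : act 0 n16440 = n16440 := d3_1 D16440 (iv D16440) F62100
theorem F64983 : act 2 n16440 = n15730 := d16_1 D16440 (iv D15730) D15729
theorem F64984 : act 5 n16440 = n16413 := d26_2 (iv F62102) D16440 (iv D16413) F61986 (iv F61931)
theorem F64985 : act 6 n16440 = n15905 := d27_2 (iv F62103) D16440 (iv D15905)
theorem F64986 : act 7 n16440 = n15733 := d28_2 (iv F62104) D16440 (iv D15733)
def n16441 : Q := act 4 n15732
theorem D16441 : act 4 n15732 = n16441 := rfl
theorem F64987 : act 1 n16441 = n15733 := d10_1 D16441 (iv D15733) D15732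
theorem F64988 : act 3 n16441 = n16441 := d21_1 D16441 (iv D16441) F62112 F58840 (iv F62112)
theorem F64989 : act 6 n16441 = n15908 := d27_2 (iv F62113) D16441 (iv D15908)
theorem F64990 : act 8 n16441 = n16441 := d29_2 F62114 D16441 (iv D16441)
def n16442 : Q := act 3 n15735
theorem D16442 : act 3 n15735 = n16442 := rfl
theorem F64991 : act 0 n16442 = n16442 := d2_1 D16442 (iv D16442) F62124
theorem F64992 : act 5 n16442 = n16436 := d22_2 (iv F62127) D16442 (iv D16436)
theorem F64993 : act 6 n16442 = n15899 := d23_2 (iv F62128) D16442 (iv D15899)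
theorem F64994 : act 7 n16442 = n16442 := d24_2 D15735 D16442 (iv D16442) (iv D15735) F58846
theorem F64995 : act 8 n16442 = n15898 := d25_2 (iv F62129) D16442 (iv D15898)
def n16443 : Q := act 3 n15736
theorem D16443 : act 3 n15736 = n16443 := rfl
theorem F64996 : act 0 n16443 = n16443 := d2_1 D16443 (iv D16443) F62130
theorem F64997 : act 2 n16443 = n16402 := d15_1 D16443 F64813 F62708 (iv D15898) (iv F62131)
theorem F64998 : act 5 n16443 = n15747 := d22_2 (iv F62133) D16443 (iv D15747)
theorem F64999 : act 6 n16443 = n15738 := d23_2 (iv F62134) D16443 (iv D15738)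
theorem F65000 : act 7 n16443 = n15742 := d24_2 D15736 D16443 (iv D15742) (iv D14929) (iv F58852)
theorem F65001 : act 8 n16443 = n15897 := d25_2 (iv F62135) D16443 (iv D15897)
theorem F65002 : act 4 n16138 = n16443 := d29_3 F65001 (iv F64814) F64816
def n16444 : Q := act 3 n15737
theorem D16444 : act 3 n15737 = n16444 := rfl
theorem F65003 : act 0 n16444 = n16444 := d2_1 D16444 (iv D16444) F62136
theorem F65004 : act 5 n16444 = n15739 := d22_2 (iv F62139) D16444 (iv D15739)
theorem F65005 : act 6 n16444 = n15897 := d23_2 (iv F62140) D16444 (iv D15897)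
theorem F65006 : act 7 n16444 = n15786 := d24_2 D15737 D16444 (iv D15786) (iv D15010) (iv F58858)
theorem F65007 : act 8 n16444 = n15738 := d25_2 (iv F62141) D16444 (iv D15738)
def n16445 : Q := act 2 n15738
theorem D16445 : act 2 n15738 = n16445 := rfl
theorem F65008 : act 0 n16445 = n16445 := d1_1 D16445 (iv D16445) F62142
theorem F65009 : act 3 n16445 = n15900 := d15_2 D15738 D16445 (iv D15900) (iv D15135) (iv F58863)
theorem F65010 : act 5 n16445 = n15740 := d17_2 (iv F62143) D16445 (iv D15740)
theorem F65011 : act 6 n16445 = n16402 := d18_2 F64999 D16445 (iv F64997)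
theorem F65012 : act 7 n16445 = n15743 := d19_2 (iv F62144) D16445 (iv D15743)
theorem F65013 : act 4 n16444 = n16445 := d28_3 F65012 (iv F62358) (iv F65006)
def n16446 : Q := act 4 n15738
theorem D16446 : act 4 n15738 = n16446 := rfl
theorem F65014 : act 0 n16446 = n16446 := d3_1 D16446 (iv D16446) F62142
theorem F65015 : act 2 n16446 = n16444 := d16_1 D16446 F65013 (iv D16445)
theorem F65016 : act 5 n16446 = n16143 := d26_2 (iv F62143) D16446 F63823 F62157 (iv D15741)
theorem F65017 : act 6 n16446 = n16138 := d27_2 F64999 D16446 F65002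
theorem F65018 : act 7 n16446 = n15744 := d28_2 (iv F62144) D16446 (iv D15744)
theorem F65019 : act 8 n16446 = n16445 := d29_2 F65007 D16446 (iv F65013)
def n16447 : Q := act 1 n15740
theorem D16447 : act 1 n15740 = n16447 := rfl
theorem F65020 : act 3 n16447 = n15904 := d9_2 (iv F62150) D16447 (iv D15904)
theorem F65021 : act 6 n16447 = n15748 := d12_2 (iv F62151) D16447 (iv D15748)
theorem F65022 : act 7 n16447 = n15745 := d13_2 (iv F62152) D16447 (iv D15745)
def n16448 : Q := act 2 n15750
theorem D16448 : act 2 n15750 = n16448 := rfl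
theorem F65023 : act 0 n16448 = n15752 := d1_1 D16448 (iv D15752) (iv F62196)
theorem F65024 : act 5 n16448 = n15751 := d17_2 (iv F62198) D16448 (iv D15751)
theorem F65025 : act 8 n16448 = n16448 := d20_2 F62199 D16448 (iv D16448)
def n16449 : Q := act 1 n15751
theorem D16449 : act 1 n15751 = n16449 := rfl
theorem F65026 : act 2 n16449 = n15753 := d8_2 D15751 D16449 F62205 F58962 (iv F58948)
theorem F65027 : act 4 n16449 = n15752 := d10_2 F63033 D16449 (iv F63032)
theorem F65028 : act 6 n16449 = n15826 := d12_2 (iv F62201) D16449 (iv D15826)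
theorem F65029 : act 8 n16449 = n16449 := d14_2 F62202 D16449 (iv D16449)
def n16450 : Q := act 3 n15755
theorem D16450 : act 3 n15755 = n16450 := rfl
theorem F65030 : act 0 n16450 = n15773 := d2_1 D16450 (iv D15773) (iv F62212)
theorem F65031 : act 1 n16450 = n16450 := d9_1 D16450 (iv D16450) F62213
theorem F65032 : act 5 n16450 = n15756 := d22_2 (iv F62216) D16450 (iv D15756)
theorem F65033 : act 8 n16450 = n16450 := d25_2 F62217 D16450 (iv D16450)
def n16451 : Q := act 2 n15756
theorem D16451 : act 2 n15756 = n16451 := rfl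
theorem F65034 : act 0 n16451 = n15774 := d1_1 D16451 (iv D15774) (iv F62218)
theorem F65035 : act 3 n16451 = n16434 := d15_2 D15756 D16451 F64954 F62069 (iv F58989)
theorem F65036 : act 4 n16451 = n16098 := d16_2 (iv F62220) D16451 (iv D16098)
theorem F65037 : act 6 n16451 = n16112 := d18_2 (iv F62221) D16451 F63658
theorem F65038 : act 8 n16451 = n16451 := d20_2 F62222 D16451 (iv D16451)
def n16452 : Q := act 8 n15759
theorem D16452 : act 8 n15759 = n16452 := rfl
theorem F65039 : act 0 n16452 = n15777 := d7_1 D16452 (iv D15777) (iv F62235)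
theorem F65040 : act 1 n16452 = n15786 := d14_1 D16452 F62361 (iv F62236)
theorem F65041 : act 3 n16452 = n15761 := d25_1 D16452 (iv D15761) (iv F62237)
theorem F65042 : act 4 n16452 = n15969 := d29_1 D16452 (iv D15969) (iv F62238)
theorem F65043 : act 5 n16452 = n15760 := d32_1 D16452 (iv D15760) (iv F62239)
theorem F65044 : act 6 n16452 = n15890 := d34_1 D16452 F62670 (iv F62240)
def n16453 : Q := act 2 n15764
theorem D16453 : act 2 n15764 = n16453 := rfl
theorem F65045 : act 0 n16453 = n16098 := d1_1 D16453 (iv D16098) (iv F62263)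
theorem F65046 : act 1 n16453 = n16432 := d8_1 D16453 (iv D16432) F62062 (iv F59211) (iv F62264)
theorem F65047 : act 3 n16453 = n15968 := d15_2 D15764 D16453 (iv D15968) (iv D15196) (iv F59094)
theorem F65048 : act 4 n16453 = n15774 := d16_2 (iv F62265) D16453 (iv D15774)
theorem F65049 : act 5 n16453 = n16433 := d17_2 (iv F62266) D16453 F64950
theorem F65050 : act 6 n16453 = n15974 := d18_2 (iv F62267) D16453 (iv D15974)
theorem F65051 : act 8 n16453 = n16453 := d20_2 F62268 D16453 (iv D16453)
def n16454 : Q := act 2 n15765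
theorem D16454 : act 2 n15765 = n16454 := rfl
theorem F65052 : act 0 n16454 = n16112 := d1_1 D16454 F63658 (iv F62269)
theorem F65053 : act 4 n16454 = n15974 := d16_2 (iv F62271) D16454 (iv D15974)
theorem F65054 : act 5 n16454 = n15885 := d17_2 (iv F62272) D16454 F62655
theorem F65055 : act 6 n16454 = n15774 := d18_2 (iv F62273) D16454 (iv D15774)
theorem F65056 : act 8 n16454 = n16454 := d20_2 F62274 D16454 (iv D16454)
def n16455 : Q := act 8 n15766
theorem D16455 : act 8 n15766 = n16455 := rfl
theorem F65057 : act 0 n16455 = n16018 := d7_1 D16455 (iv D16018) (iv F62275)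
theorem F65058 : act 1 n16455 = n16455 := d14_1 D16455 (iv D16455) F62276
theorem F65059 : act 3 n16455 = n16455 := d25_1 D16455 (iv D16455) F62277
theorem F65060 : act 4 n16455 = n15768 := d29_1 D16455 (iv D15768) D15766
theorem F65061 : act 5 n16455 = n15775 := d32_1 D16455 (iv D15775) (iv F62278)
theorem F65062 : act 6 n16455 = n15916 := d34_1 D16455 (iv D15916) (iv F62279)
def n16456 : Q := act 8 n15767
theorem D16456 : act 8 n15767 = n16456 := rfl
theorem F65063 : act 0 n16456 = n15846 := d7_1 D16456 (iv D15846) (iv F62281)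
theorem F65064 : act 1 n16456 = n16456 := d14_1 D16456 (iv D16456) F62282
theorem F65065 : act 3 n16456 = n16456 := d25_1 D16456 (iv D16456) F62283
theorem F65066 : act 4 n16456 = n16094 := d29_1 D16456 (iv D16094) (iv F62284)
theorem F65067 : act 5 n16456 = n15769 := d32_1 D16456 (iv D15769) (iv F62285)
theorem F65068 : act 6 n16456 = n15793 := d34_1 D16456 (iv D15793) (iv F62286)
def n16457 : Q := act 7 n15768
theorem D16457 : act 7 n15768 = n16457 := rfl
theorem F65069 : act 0 n16457 = n16307 := d6_1 D16457 (iv D16307) (iv F62287)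
theorem F65070 : act 1 n16457 = n16457 := d13_1 D16457 (iv D16457) F62288
theorem F65071 : act 5 n16457 = n15770 := d31_1 D16457 (iv D15770) (iv F62290)
theorem F65072 : act 6 n16457 = n16177 := d33_1 D16457 (iv D16177) (iv F62291)
def n16458 : Q := act 7 n15769
theorem D16458 : act 7 n15769 = n16458 := rfl
theorem F65073 : act 1 n16458 = n16458 := d13_1 D16458 (iv D16458) F62292
theorem F65074 : act 4 n16458 = n15779 := d28_1 D16458 (iv D15779) (iv F62294)
theorem F65075 : act 8 n16458 = n15770 := d35_2 D15769 D16458 (iv D15770) (iv D14980) D14979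
def n16459 : Q := act 3 n15770
theorem D16459 : act 3 n15770 = n16459 := rfl
theorem F65076 : act 0 n16459 = n16430 := d2_1 D16459 F64940 F64729
theorem F65077 : act 1 n16459 = n16459 := d9_1 D16459 (iv D16459) F62295
theorem F65078 : act 4 n16459 = n16420 := d21_2 (iv F62296) D16459 (iv D16420) F62016 F61262
theorem F65079 : act 7 n16459 = n15772 := d24_2 D15770 D16459 (iv D15772) (iv D14982) (iv F59120)
def n16460 : Q := act 3 n15771
theorem D16460 : act 3 n15771 = n16460 := rfl
theorem F65080 : act 0 n16460 = n16435 := d2_1 D16460 F64958 (iv F62297)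
theorem F65081 : act 1 n16460 = n16460 := d9_1 D16460 (iv D16460) F62298
theorem F65082 : act 5 n16460 = n15772 := d22_2 (iv F62301) D16460 (iv D15772)
theorem F65083 : act 6 n16460 = n16450 := d23_2 (iv F62302) D16460 (iv D16450)
theorem F65084 : act 8 n16460 = n16460 := d25_2 F62303 D16460 (iv D16460)
def n16461 : Q := act 2 n15772
theorem D16461 : act 2 n15772 = n16461 := rfl
theorem F65085 : act 0 n16461 = n16434 := d1_1 D16461 F64954 (iv F62304)
theorem F65086 : act 3 n16461 = n15774 := d15_2 D15772 D16461 (iv D15774) (iv D14985) (iv F59129)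
theorem F65087 : act 4 n16461 = n16423 := d16_2 (iv F62306) D16461 (iv D16423)
theorem F65088 : act 8 n16461 = n16461 := d20_2 F62307 D16461 (iv D16461)
def n16462 : Q := act 2 n15773
theorem D16462 : act 2 n15773 = n16462 := rfl
theorem F65089 : act 5 n16462 = n15774 := d17_2 (iv F62309) D16462 (iv D15774)
theorem F65090 : act 8 n16462 = n16462 := d20_2 F62310 D16462 (iv D16462)
def n16463 : Q := act 4 n15773
theorem D16463 : act 4 n15773 = n16463 := rfl
theorem F65091 : act 1 n16463 = n15784 := d10_1 D16463 (iv D15784) (iv F62308)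
theorem F65092 : act 3 n16463 = n16463 := d21_1 D16463 (iv D16463) (iv D15773) F59139 D15773
theorem F65093 : act 5 n16463 = n16441 := d26_2 (iv F62309) D16463 (iv D16441) (iv F62266) F62265
theorem F65094 : act 8 n16463 = n16463 := d29_2 F62310 D16463 (iv D16463)
def n16464 : Q := act 1 n15774
theorem D16464 : act 1 n15774 = n16464 := rfl
theorem F65095 : act 2 n16464 = n15785 := d8_2 D15774 D16464 (iv D15785) (iv D15007) (iv F59142)
theorem F65096 : act 4 n16464 = n16432 := d10_2 F65048 D16464 (iv F65046)
theorem F65097 : act 8 n16464 = n16464 := d14_2 F62311 D16464 (iv D16464)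
def n16465 : Q := act 7 n15775
theorem D16465 : act 7 n15775 = n16465 := rfl
theorem F65098 : act 1 n16465 = n16465 := d13_1 D16465 (iv D16465) F62312
theorem F65099 : act 4 n16465 = n15778 := d28_1 D16465 (iv D15778) (iv F62314)
theorem F65100 : act 6 n16465 = n16104 := d33_1 D16465 (iv D16104) (iv F62315)
theorem F65101 : act 8 n16465 = n16103 := d35_2 D15775 D16465 (iv D16103) (iv D15342) F59151
def n16466 : Q := act 7 n15776
theorem D16466 : act 7 n15776 = n16466 := rfl
theorem F65102 : act 1 n16466 = n16466 := d13_1 D16466 (iv D16466) F62316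
theorem F65103 : act 4 n16466 = n16104 := d28_1 D16466 (iv D16104) (iv F62318)
theorem F65104 : act 6 n16466 = n15778 := d33_1 D16466 (iv D15778) (iv F62319)
theorem F65105 : act 8 n16466 = n16102 := d35_2 D15776 D16466 (iv D16102) (iv D15341) F59148
def n16467 : Q := act 7 n15777
theorem D16467 : act 7 n15777 = n16467 := rfl
theorem F65106 : act 1 n16467 = n16467 := d13_1 D16467 (iv D16467) F62320
theorem F65107 : act 4 n16467 = n16103 := d28_1 D16467 (iv D16103) (iv F62322)
theorem F65108 : act 5 n16467 = n15779 := d31_1 D16467 (iv D15779) (iv F62323)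
theorem F65109 : act 6 n16467 = n16102 := d33_1 D16467 (iv D16102) (iv F62324)
theorem F65110 : act 8 n16467 = n15778 := d35_2 D15777 D16467 (iv D15778) (iv D14989) D14988
def n16468 : Q := act 1 n15782
theorem D16468 : act 1 n15782 = n16468 := rfl
theorem F65111 : act 3 n16468 = n16468 := d9_2 F62338 D16468 (iv D16468)
theorem F65112 : act 4 n16468 = n16431 := d10_2 (iv F62339) D16468 F64943
theorem F65113 : act 5 n16468 = n15908 := d11_2 (iv F62340) D16468 F62731
theorem F65114 : act 6 n16468 = n15785 := d12_2 (iv F62341) D16468 (iv D15785)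
theorem F65115 : act 8 n16468 = n16468 := d14_2 F62342 D16468 (iv D16468)
def n16469 : Q := act 1 n15783
theorem D16469 : act 1 n15783 = n16469 := rfl
theorem F65116 : act 3 n16469 = n16469 := d9_2 F62344 D16469 (iv D16469)
theorem F65117 : act 4 n16469 = n16435 := d10_2 F62347 D16469 F64957
theorem F65118 : act 5 n16469 = n15785 := d11_2 (iv F62345) D16469 (iv D15785)
theorem F65119 : act 6 n16469 = n16463 := d12_2 F62352 D16469 F65091
theorem F65120 : act 8 n16469 = n16469 := d14_2 F62346 D16469 (iv D16469)
def n16470 : Q := act 0 n15785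
theorem D16470 : act 0 n15785 = n16470 := rfl
theorem F65121 : act 1 n16470 = n16470 := d0_2 D15785 D16470 (iv D16470) (iv D15785) F59222
theorem F65122 : act 3 n16470 = n16470 := d2_2 F62354 D16470 (iv D16470)
theorem F65123 : act 4 n16470 = n16422 := d3_2 (iv F62355) D16470 F64909
theorem F65124 : act 8 n16470 = n16470 := d7_2 F62356 D16470 (iv D16470)
def n16471 : Q := act 8 n15787
theorem D16471 : act 8 n15787 = n16471 := rfl
theorem F65125 : act 1 n16471 = n15791 := d14_1 D16471 (iv D15791) (iv F62363)
theorem F65126 : act 2 n16471 = n16471 := d20_1 D16471 (iv D16471) F62364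
theorem F65127 : act 4 n16471 = n15788 := d29_1 D16471 (iv D15788) D15787
def n16472 : Q := act 7 n15788
theorem D16472 : act 7 n15788 = n16472 := rfl
theorem F65128 : act 1 n16472 = n15792 := d13_1 D16472 (iv D15792) (iv F62366)
theorem F65129 : act 2 n16472 = n16472 := d19_1 D16472 (iv D16472) F62367
theorem F65130 : act 8 n16472 = n16171 := d35_2 D15788 D16472 (iv D16171) (iv D15440) (iv F59273)
def n16473 : Q := act 8 n15789
theorem D16473 : act 8 n15789 = n16473 := rfl
theorem F65131 : act 0 n16473 = n15841 := d7_1 D16473 (iv D15841) (iv F62369)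
theorem F65132 : act 2 n16473 = n16473 := d20_1 D16473 (iv D16473) F62370
theorem F65133 : act 3 n16473 = n15791 := d25_1 D16473 (iv D15791) D15789
theorem F65134 : act 4 n16473 = n15797 := d29_1 D16473 (iv D15797) (iv F62371)
theorem F65135 : act 5 n16473 = n16471 := d32_1 D16473 (iv D16471) F62372
def n16474 : Q := act 8 n15790
theorem D16474 : act 8 n15790 = n16474 := rfl
theorem F65136 : act 0 n16474 = n15843 := d7_1 D16474 (iv D15843) (iv F62373)
theorem F65137 : act 1 n16474 = n16473 := d14_1 D16474 (iv D16473) (iv F62374)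
theorem F65138 : act 2 n16474 = n15793 := d20_1 D16474 (iv D15793) (iv F62375)
theorem F65139 : act 3 n16474 = n16471 := d25_1 D16474 (iv D16471) (iv F62376)
theorem F65140 : act 4 n16474 = n16056 := d29_1 D16474 (iv D16056) (iv F62377)
theorem F65141 : act 5 n16474 = n15791 := d32_1 D16474 (iv D15791) D15790
def n16475 : Q := act 7 n15791
theorem D16475 : act 7 n15791 = n16475 := rfl
theorem F65142 : act 0 n16475 = n15844 := d6_1 D16475 (iv D15844) (iv F62379)
theorem F65143 : act 2 n16475 = n15794 := d19_1 D16475 (iv D15794) (iv F62380)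
theorem F65144 : act 4 n16475 = n15792 := d28_1 D16475 (iv D15792) (iv F62381)
theorem F65145 : act 8 n16475 = n16175 := d35_2 D15791 D16475 (iv D16175) (iv D15443) (iv F59276)
def n16476 : Q := act 3 n15792
theorem D16476 : act 3 n15792 = n16476 := rfl
theorem F65146 : act 0 n16476 = n15845 := d2_1 D16476 (iv D15845) (iv F62382)
theorem F65147 : act 7 n16476 = n15799 := d24_2 D15792 D16476 (iv D15799) (iv D15026) (iv F59279)
theorem F65148 : act 8 n16476 = n16176 := d25_2 (iv F62384) D16476 (iv D16176)
def n16477 : Q := act 7 n15793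
theorem D16477 : act 7 n15793 = n16477 := rfl
theorem F65149 : act 0 n16477 = n15847 := d6_1 D16477 (iv D15847) (iv F62385)
theorem F65150 : act 1 n16477 = n16477 := d13_1 D16477 (iv D16477) F62386
theorem F65151 : act 4 n16477 = n16095 := d28_1 D16477 (iv D16095) (iv F62388)
theorem F65152 : act 5 n16477 = n15794 := d31_1 D16477 (iv D15794) (iv F62389)
theorem F65153 : act 8 n16477 = n16177 := d35_2 D15793 D16477 (iv D16177) (iv D15445) (iv F59284)
def n16478 : Q := act 3 n15794
theorem D16478 : act 3 n15794 = n16478 := rfl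
theorem F65154 : act 0 n16478 = n15848 := d2_1 D16478 (iv D15848) (iv F62390)
theorem F65155 : act 1 n16478 = n16478 := d9_1 D16478 (iv D16478) F62391
theorem F65156 : act 7 n16478 = n16478 := d24_2 D15794 D16478 (iv D16478) (iv D15794) F59287
theorem F65157 : act 8 n16478 = n16178 := d25_2 (iv F62393) D16478 (iv D16178)
def n16479 : Q := act 3 n15795
theorem D16479 : act 3 n15795 = n16479 := rfl
theorem F65158 : act 1 n16479 = n15799 := d9_1 D16479 (iv D15799) (iv F62394)
theorem F65159 : act 8 n16479 = n15804 := d25_2 (iv F62396) D16479 (iv D15804)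
def n16480 : Q := act 8 n15796
theorem D16480 : act 8 n15796 = n16480 := rfl
theorem F65160 : act 0 n16480 = n15852 := d7_1 D16480 (iv D15852) (iv F62397)
theorem F65161 : act 2 n16480 = n16480 := d20_1 D16480 (iv D16480) F62398
theorem F65162 : act 3 n16480 = n15808 := d25_1 D16480 (iv D15808) (iv F62399)
def n16481 : Q := act 7 n15797
theorem D16481 : act 7 n15797 = n16481 := rfl
theorem F65163 : act 0 n16481 = n15853 := d6_1 D16481 (iv D15853) (iv F62400)
theorem F65164 : act 2 n16481 = n16481 := d19_1 D16481 (iv D16481) F62401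
def n16482 : Q := act 3 n15798
theorem D16482 : act 3 n15798 = n16482 := rfl
theorem F65165 : act 0 n16482 = n15855 := d2_1 D16482 (iv D15855) (iv F62403)
theorem F65166 : act 8 n16482 = n15811 := d25_2 (iv F62406) D16482 (iv D15811)
def n16483 : Q := act 4 n15799
theorem D16483 : act 4 n15799 = n16483 := rfl
theorem F65167 : act 0 n16483 = n15856 := d3_1 D16483 (iv D15856) (iv F62407)
theorem F65168 : act 8 n16483 = n15812 := d29_2 (iv F62408) D16483 (iv D15812)
def n16484 : Q := act 2 n15800
theorem D16484 : act 2 n15800 = n16484 := rfl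
theorem F65169 : act 0 n16484 = n15858 := d1_1 D16484 (iv D15858) (iv F62409)
theorem F65170 : act 7 n16484 = n16484 := d19_2 F62411 D16484 (iv D16484)
theorem F65171 : act 8 n16484 = n15814 := d20_2 (iv F62412) D16484 (iv D15814)
def n16485 : Q := act 8 n15801
theorem D16485 : act 8 n15801 = n16485 := rfl
theorem F65172 : act 1 n16485 = n15808 := d14_1 D16485 (iv D15808) (iv F62413)
theorem F65173 : act 2 n16485 = n16485 := d20_1 D16485 (iv D16485) F62414
theorem F65174 : act 4 n16485 = n16214 := d29_1 D16485 (iv D16214) (iv F62415)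
def n16486 : Q := act 7 n15802
theorem D16486 : act 7 n15802 = n16486 := rfl
theorem F65175 : act 1 n16486 = n15809 := d13_1 D16486 (iv D15809) (iv F62416)
theorem F65176 : act 2 n16486 = n16486 := d19_1 D16486 (iv D16486) F62417
theorem F65177 : act 4 n16486 = n16215 := d28_1 D16486 (iv D16215) (iv F62419)
def n16487 : Q := act 3 n15803
theorem D16487 : act 3 n15803 = n16487 := rfl
theorem F65178 : act 1 n16487 = n15811 := d9_1 D16487 (iv D15811) (iv F62420)
def n16488 : Q := act 2 n15804
theorem D16488 : act 2 n15804 = n16488 := rfl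
theorem F65179 : act 3 n16488 = n15831 := d15_2 D15804 D16488 (iv D15831) (iv D15059) (iv F59313)
theorem F65180 : act 7 n16488 = n16218 := d19_2 (iv F62424) D16488 (iv D16218)
def n16489 : Q := act 4 n15804
theorem D16489 : act 4 n15804 = n16489 := rfl
theorem F65181 : act 1 n16489 = n15812 := d10_1 D16489 (iv D15812) (iv F62423)
theorem F65182 : act 7 n16489 = n16219 := d28_2 (iv F62424) D16489 (iv D16219)
def n16490 : Q := act 8 n15805
theorem D16490 : act 8 n15805 = n16490 := rfl
theorem F65183 : act 0 n16490 = n15859 := d7_1 D16490 (iv D15859) (iv F62425)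
theorem F65184 : act 2 n16490 = n15815 := d20_1 D16490 (iv D15815) (iv F62426)
theorem F65185 : act 3 n16490 = n16392 := d25_1 D16490 F64776 F62959
theorem F65186 : act 4 n16490 = n15807 := d29_1 D16490 (iv D15807) D15805
theorem F65187 : act 5 n16490 = n16220 := d32_1 D16490 (iv D16220) (iv F62427)
def n16491 : Q := act 8 n15806
theorem D16491 : act 8 n15806 = n16491 := rfl
theorem F65188 : act 0 n16491 = n15861 := d7_1 D16491 (iv D15861) (iv F62428)
theorem F65189 : act 2 n16491 = n15817 := d20_1 D16491 (iv D15817) (iv F62429)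
theorem F65190 : act 5 n16491 = n15808 := d32_1 D16491 (iv D15808) (iv F62430)
def n16492 : Q := act 7 n15807
theorem D16492 : act 7 n15807 = n16492 := rfl
theorem F65191 : act 0 n16492 = n15862 := d6_1 D16492 (iv D15862) (iv F62431)
theorem F65192 : act 2 n16492 = n15818 := d19_1 D16492 (iv D15818) (iv F62432)
theorem F65193 : act 5 n16492 = n15809 := d31_1 D16492 (iv D15809) (iv F62434)
def n16493 : Q := act 7 n15808
theorem D16493 : act 7 n15808 = n16493 := rfl
theorem F65194 : act 0 n16493 = n15863 := d6_1 D16493 (iv D15863) (iv F62435)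
theorem F65195 : act 2 n16493 = n15819 := d19_1 D16493 (iv D15819) (iv F62436)
theorem F65196 : act 4 n16493 = n16224 := d28_1 D16493 (iv D16224) (iv F62437)
theorem F65197 : act 8 n16493 = n15809 := d35_2 D15808 D16493 (iv D15809) (iv D15033) D15032
def n16494 : Q := act 3 n15809
theorem D16494 : act 3 n15809 = n16494 := rfl
theorem F65198 : act 0 n16494 = n15864 := d2_1 D16494 (iv D15864) (iv F62438)
theorem F65199 : act 7 n16494 = n15811 := d24_2 D15809 D16494 (iv D15811) (iv D15035) (iv F59322)
def n16495 : Q := act 3 n15810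
theorem D16495 : act 3 n15810 = n16495 := rfl
theorem F65200 : act 0 n16495 = n15866 := d2_1 D16495 (iv D15866) (iv F62441)
theorem F65201 : act 5 n16495 = n15811 := d22_2 (iv F62443) D16495 (iv D15811)
def n16496 : Q := act 2 n15811
theorem D16496 : act 2 n15811 = n16496 := rfl
theorem F65202 : act 0 n16496 = n15867 := d1_1 D16496 (iv D15867) (iv F62444)
theorem F65203 : act 3 n16496 = n15814 := d15_2 D15811 D16496 (iv D15814) (iv D15038) (iv F59328)
def n16497 : Q := act 4 n15811
theorem D16497 : act 4 n15811 = n16497 := rfl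
theorem F65204 : act 0 n16497 = n15868 := d3_1 D16497 (iv D15868) (iv F62444)
theorem F65205 : act 3 n16497 = n15812 := d21_1 D16497 (iv D15812) (iv D15036) (iv F59329) D15811
def n16498 : Q := act 5 n15812
theorem D16498 : act 5 n15812 = n16498 := rfl
theorem F65206 : act 0 n16498 = n15869 := d4_1 D16498 (iv D15869) (iv F62445)
theorem F65207 : act 7 n16498 = n16230 := d31_2 (iv F62446) D16498 (iv D16230)
def n16499 : Q := act 2 n15813
theorem D16499 : act 2 n15813 = n16499 := rfl
theorem F65208 : act 0 n16499 = n15871 := d1_1 D16499 (iv D15871) (iv F62447)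
theorem F65209 : act 5 n16499 = n15814 := d17_2 (iv F62449) D16499 (iv D15814)
theorem F65210 : act 7 n16499 = n15825 := d19_2 (iv F62450) D16499 (iv D15825)
def n16500 : Q := act 1 n15814
theorem D16500 : act 1 n15814 = n16500 := rfl
theorem F65211 : act 2 n16500 = n15836 := d8_2 D15814 D16500 (iv D15836) (iv D15063) (iv F59336)
theorem F65212 : act 7 n16500 = n15826 := d13_2 (iv F62452) D16500 (iv D15826)
def n16501 : Q := act 7 n15815
theorem D16501 : act 7 n15815 = n16501 := rfl
theorem F65213 : act 0 n16501 = n15874 := d6_1 D16501 (iv D15874) (iv F62453)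
theorem F65214 : act 1 n16501 = n16501 := d13_1 D16501 (iv D16501) F62454
theorem F65215 : act 3 n16501 = n16102 := d24_1 D16501 (iv D16102) F60556 (iv F59397) (iv F62455)
theorem F65216 : act 4 n16501 = n15818 := d28_1 D16501 (iv D15818) (iv F62456)
theorem F65217 : act 5 n16501 = n16237 := d31_1 D16501 (iv D16237) (iv F62457)
def n16502 : Q := act 7 n15816
theorem D16502 : act 7 n15816 = n16502 := rfl
theorem F65218 : act 0 n16502 = n15875 := d6_1 D16502 (iv D15875) (iv F62458)
theorem F65219 : act 1 n16502 = n16502 := d13_1 D16502 (iv D16502) F62459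
theorem F65220 : act 6 n16502 = n15818 := d33_1 D16502 (iv D15818) (iv F62461)
def n16503 : Q := act 7 n15817
theorem D16503 : act 7 n15817 = n16503 := rfl
theorem F65221 : act 0 n16503 = n15876 := d6_1 D16503 (iv D15876) (iv F62462)
theorem F65222 : act 1 n16503 = n16503 := d13_1 D16503 (iv D16503) F62463
theorem F65223 : act 5 n16503 = n15819 := d31_1 D16503 (iv D15819) (iv F62465)
theorem F65224 : act 8 n16503 = n15818 := d35_2 D15817 D16503 (iv D15818) (iv D15042) D15041
def n16504 : Q := act 3 n15818
theorem D16504 : act 3 n15818 = n16504 := rfl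
theorem F65225 : act 0 n16504 = n15877 := d2_1 D16504 (iv D15877) (iv F62466)
theorem F65226 : act 1 n16504 = n16504 := d9_1 D16504 (iv D16504) F62467
theorem F65227 : act 4 n16504 = n16105 := d21_2 F65216 D16504 (iv D16105) (iv F63632) (iv F65215)
theorem F65228 : act 5 n16504 = n15820 := d22_2 (iv F62468) D16504 (iv D15820)
theorem F65229 : act 7 n16504 = n15822 := d24_2 D15818 D16504 (iv D15822) (iv D15046) (iv F59351)
def n16505 : Q := act 3 n15819
theorem D16505 : act 3 n15819 = n16505 := rfl
theorem F65230 : act 0 n16505 = n15878 := d2_1 D16505 (iv D15878) (iv F62469)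
theorem F65231 : act 1 n16505 = n16505 := d9_1 D16505 (iv D16505) F62470
theorem F65232 : act 7 n16505 = n16505 := d24_2 D15819 D16505 (iv D16505) (iv D15819) F59355
theorem F65233 : act 8 n16505 = n15820 := d25_2 (iv F62472) D16505 (iv D15820)
def n16506 : Q := act 2 n15820
theorem D16506 : act 2 n15820 = n16506 := rfl
theorem F65234 : act 0 n16506 = n15879 := d1_1 D16506 (iv D15879) (iv F62473)
theorem F65235 : act 7 n16506 = n15823 := d19_2 (iv F62475) D16506 (iv D15823)
def n16507 : Q := act 4 n15820
theorem D16507 : act 4 n15820 = n16507 := rfl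
theorem F65236 : act 0 n16507 = n15880 := d3_1 D16507 (iv D15880) (iv F62473)
theorem F65237 : act 1 n16507 = n16507 := d10_1 D16507 (iv D16507) F62474
theorem F65238 : act 3 n16507 = n16243 := d21_1 D16507 (iv D16243) (iv D15510) (iv F59359) D15820
theorem F65239 : act 5 n16507 = n16108 := d26_2 F65228 D16507 (iv D16108) (iv F63639) (iv F65227)
theorem F65240 : act 6 n16507 = n16459 := d27_2 F64900 D16507 F65078
theorem F65241 : act 7 n16507 = n15824 := d28_2 (iv F62475) D16507 (iv D15824)
def n16508 : Q := act 3 n15821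
theorem D16508 : act 3 n15821 = n16508 := rfl
theorem F65242 : act 0 n16508 = n15881 := d2_1 D16508 (iv D15881) (iv F62476)
theorem F65243 : act 1 n16508 = n16508 := d9_1 D16508 (iv D16508) F62477
theorem F65244 : act 4 n16508 = n16109 := d21_2 (iv F62479) D16508 (iv D16109) F60573 (iv F59408)
theorem F65245 : act 6 n16508 = n15822 := d23_2 (iv F62480) D16508 (iv D15822)
theorem F65246 : act 8 n16508 = n16508 := d25_2 F62481 D16508 (iv D16508)
def n16509 : Q := act 2 n15822
theorem D16509 : act 2 n15822 = n16509 := rfl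
theorem F65247 : act 0 n16509 = n15882 := d1_1 D16509 (iv D15882) (iv F62482)
theorem F65248 : act 3 n16509 = n15825 := d15_2 D15822 D16509 (iv D15825) (iv D15050) (iv F59367)
theorem F65249 : act 4 n16509 = n16110 := d16_2 (iv F62484) D16509 (iv D16110)
theorem F65250 : act 5 n16509 = n15823 := d17_2 (iv F62485) D16509 (iv D15823)
theorem F65251 : act 8 n16509 = n16509 := d20_2 F62486 D16509 (iv D16509)
def n16510 : Q := act 1 n15823
theorem D16510 : act 1 n15823 = n16510 := rfl
theorem F65252 : act 2 n16510 = n16510 := d8_2 D15823 D16510 (iv D16510) (iv D15823) F59372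
theorem F65253 : act 3 n16510 = n15826 := d9_2 (iv F62488) D16510 (iv D15826)
theorem F65254 : act 8 n16510 = n16510 := d14_2 F62489 D16510 (iv D16510)
def n16511 : Q := act 4 n15823
theorem D16511 : act 4 n15823 = n16511 := rfl
theorem F65255 : act 0 n16511 = n15885 := d3_1 D16511 (iv D15885) (iv F62487)
theorem F65256 : act 2 n16511 = n15824 := d16_1 D16511 (iv D15824) D15823
theorem F65257 : act 3 n16511 = n16454 := d21_1 D16511 F65053 F63056 F59950 (iv F62488)
theorem F65258 : act 5 n16511 = n16112 := d26_2 F65250 D16511 (iv D16112) (iv F63653) (iv F65249)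
theorem F65259 : act 6 n16511 = n16461 := d27_2 F64915 D16511 F65087
theorem F65260 : act 8 n16511 = n16511 := d29_2 F62489 D16511 (iv D16511)
def n16512 : Q := act 0 n15826
theorem D16512 : act 0 n15826 = n16512 := rfl
theorem F65261 : act 1 n16512 = n15889 := d0_2 D15826 D16512 (iv D15889) (iv D15114) (iv F59390)
theorem F65262 : act 2 n16512 = n15837 := d1_2 (iv F62499) D16512 (iv D15837)
theorem F65263 : act 5 n16512 = n15838 := d4_2 F64308 D16512 (iv F64305)
theorem F65264 : act 8 n16512 = n16512 := d7_2 F62500 D16512 (iv D16512)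
def n16513 : Q := act 2 n15827
theorem D16513 : act 2 n15827 = n16513 := rfl
theorem F65265 : act 7 n16513 = n16513 := d19_2 F62502 D16513 (iv D16513)
theorem F65266 : act 8 n16513 = n15831 := d20_2 (iv F62503) D16513 (iv D15831)
def n16514 : Q := act 4 n15827
theorem D16514 : act 4 n15827 = n16514 := rfl
theorem F65267 : act 1 n16514 = n15828 := d10_1 D16514 (iv D15828) (iv F62501)
theorem F65268 : act 7 n16514 = n16514 := d28_2 F62502 D16514 (iv D16514)
theorem F65269 : act 8 n16514 = n15832 := d29_2 (iv F62503) D16514 (iv D15832)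
def n16515 : Q := act 1 n15829
theorem D16515 : act 1 n15829 = n16515 := rfl
theorem F65270 : act 7 n16515 = n16515 := d13_2 F62508 D16515 (iv D16515)
theorem F65271 : act 8 n16515 = n15836 := d14_2 (iv F62509) D16515 (iv D15836)
def n16516 : Q := act 2 n15830
theorem D16516 : act 2 n15830 = n16516 := rfl
theorem F65272 : act 7 n16516 = n16516 := d19_2 F62511 D16516 (iv D16516)
def n16517 : Q := act 4 n15830
theorem D16517 : act 4 n15830 = n16517 := rfl
theorem F65273 : act 1 n16517 = n15834 := d10_1 D16517 (iv D15834) (iv F62510)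
theorem F65274 : act 3 n16517 = n15832 := d21_1 D16517 (iv D15832) (iv D15059) (iv F59421) D15830
theorem F65275 : act 7 n16517 = n16517 := d28_2 F62511 D16517 (iv D16517)
def n16518 : Q := act 4 n15831
theorem D16518 : act 4 n15831 = n16518 := rfl
theorem F65276 : act 2 n16518 = n15832 := d16_1 D16518 (iv D15832) D15831
theorem F65277 : act 7 n16518 = n15838 := d28_2 (iv F62512) D16518 (iv D15838)
def n16519 : Q := act 5 n15832
theorem D16519 : act 5 n15832 = n16519 := rfl
theorem F65278 : act 0 n16519 = n15836 := d4_1 D16519 (iv F64285) F64283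
theorem F65279 : act 1 n16519 = n15835 := d11_1 D16519 (iv D15835) (iv F62513)
theorem F65280 : act 7 n16519 = n15837 := d31_2 (iv F62514) D16519 F62527
def n16520 : Q := act 1 n15833
theorem D16520 : act 1 n15833 = n16520 := rfl
theorem F65281 : act 3 n16520 = n15836 := d9_2 (iv F62516) D16520 (iv D15836)
theorem F65282 : act 7 n16520 = n16520 := d13_2 F62517 D16520 (iv D16520)
def n16521 : Q := act 3 n15838
theorem D16521 : act 3 n15838 = n16521 := rfl
theorem F65283 : act 2 n16521 = n16521 := d15_1 D16521 (iv D16521) F62529 F59438 (iv F62529)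
theorem F65284 : act 4 n16521 = n16259 := d21_2 D15838 D16521 (iv D16259) (iv D15536) (iv F59435)
theorem F65285 : act 8 n16521 = n16521 := d25_2 F62530 D16521 (iv D16521)
def n16522 : Q := act 8 n15839
theorem D16522 : act 8 n15839 = n16522 := rfl
theorem F65286 : act 0 n16522 = n16471 := d7_1 D16522 (iv D16471) (iv F62531)
theorem F65287 : act 1 n16522 = n16164 := d14_1 D16522 (iv D16164) (iv F62532)
theorem F65288 : act 2 n16522 = n16522 := d20_1 D16522 (iv D16522) F62533
theorem F65289 : act 3 n16522 = n15843 := d25_1 D16522 (iv D15843) (iv F62534)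
theorem F65290 : act 4 n16522 = n16163 := d29_1 D16522 (iv D16163) F62535
theorem F65291 : act 5 n16522 = n15841 := d32_1 D16522 (iv D15841) D15839
theorem F65292 : act 6 n16522 = n16170 := d34_1 D16522 (iv D16170) (iv F62536)
def n16523 : Q := act 8 n15840
theorem D16523 : act 8 n15840 = n16523 := rfl
theorem F65293 : act 2 n16523 = n16523 := d20_1 D16523 (iv D16523) F62537
theorem F65294 : act 3 n16523 = n16301 := d25_1 D16523 (iv D16301) (iv F62538)
theorem F65295 : act 4 n16523 = n15852 := d29_1 D16523 (iv D15852) (iv F62539)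
def n16524 : Q := act 7 n15841
theorem D16524 : act 7 n15841 = n16524 := rfl
theorem F65296 : act 2 n16524 = n16524 := d19_1 D16524 (iv D16524) F62540
theorem F65297 : act 4 n16524 = n15853 := d28_1 D16524 (iv D15853) (iv F62542)
def n16525 : Q := act 8 n15842
theorem D16525 : act 8 n15842 = n16525 := rfl
theorem F65298 : act 1 n16525 = n16173 := d14_1 D16525 (iv D16173) (iv F62543)
theorem F65299 : act 2 n16525 = n15846 := d20_1 D16525 (iv D15846) (iv F62544)
theorem F65300 : act 3 n16525 = n16170 := d25_1 D16525 (iv D16170) (iv F62545)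
theorem F65301 : act 4 n16525 = n16183 := d29_1 D16525 (iv D16183) (iv F62546)
theorem F65302 : act 6 n16525 = n15843 := d34_1 D16525 (iv D15843) D15842
def n16526 : Q := act 7 n15843
theorem D16526 : act 7 n15843 = n16526 := rfl
theorem F65303 : act 1 n16526 = n16391 := d13_1 D16526 F64771 (iv F62548)
theorem F65304 : act 2 n16526 = n15847 := d19_1 D16526 (iv D15847) (iv F62549)
theorem F65305 : act 4 n16526 = n16390 := d28_1 D16526 F64768 (iv F62550)
theorem F65306 : act 5 n16526 = n15844 := d31_1 D16526 (iv D15844) (iv F62551)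
theorem F65307 : act 8 n16526 = n16304 := d35_2 D15843 D16526 (iv D16304) (iv D15584) (iv F59460)
def n16527 : Q := act 3 n15844
theorem D16527 : act 3 n15844 = n16527 := rfl
theorem F65308 : act 8 n16527 = n16305 := d25_2 (iv F62554) D16527 (iv D16305)
def n16528 : Q := act 4 n15845
theorem D16528 : act 4 n15845 = n16528 := rfl
theorem F65309 : act 7 n16528 = n15856 := d28_2 (iv F62555) D16528 (iv D15856)
theorem F65310 : act 8 n16528 = n16306 := d29_2 (iv F62556) D16528 (iv D16306)
def n16529 : Q := act 7 n15846
theorem D16529 : act 7 n15846 = n16529 := rfl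
theorem F65311 : act 1 n16529 = n15894 := d13_1 D16529 (iv D15894) (iv F62557)
theorem F65312 : act 4 n16529 = n16447 := d28_1 D16529 F65022 (iv F62559)
theorem F65313 : act 6 n16529 = n15847 := d33_1 D16529 (iv D15847) (iv F62560)
theorem F65314 : act 8 n16529 = n16307 := d35_2 D15846 D16529 (iv D16307) (iv D15587) (iv F59468)
def n16530 : Q := act 3 n15847
theorem D16530 : act 3 n15847 = n16530 := rfl
theorem F65315 : act 1 n16530 = n15895 := d9_1 D16530 (iv D15895) (iv F62561)
theorem F65316 : act 5 n16530 = n15848 := d22_2 (iv F62563) D16530 (iv D15848)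
theorem F65317 : act 7 n16530 = n16530 := d24_2 D15847 D16530 (iv D16530) (iv D15847) F59470
theorem F65318 : act 8 n16530 = n16308 := d25_2 (iv F62564) D16530 (iv D16308)
def n16531 : Q := act 2 n15848
theorem D16531 : act 2 n15848 = n16531 := rfl
theorem F65319 : act 7 n16531 = n16531 := d19_2 F62566 D16531 (iv D16531)
theorem F65320 : act 8 n16531 = n16309 := d20_2 (iv F62567) D16531 (iv D16309)
def n16532 : Q := act 8 n15849
theorem D16532 : act 8 n15849 = n16532 := rfl
theorem F65321 : act 0 n16532 = n16047 := d7_1 D16532 (iv D16047) (iv F62568)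
theorem F65322 : act 1 n16532 = n16161 := d14_1 D16532 (iv D16161) (iv F62569)
theorem F65323 : act 2 n16532 = n16532 := d20_1 D16532 (iv D16532) F62570
theorem F65324 : act 3 n16532 = n15938 := d25_1 D16532 (iv D15938) (iv F62571)
theorem F65325 : act 4 n16532 = n15851 := d29_1 D16532 (iv D15851) D15849
theorem F65326 : act 5 n16532 = n16163 := d32_1 D16532 (iv D16163) (iv F62572)
theorem F65327 : act 6 n16532 = n16194 := d34_1 D16532 (iv D16194) (iv F62573)
def n16533 : Q := act 8 n15850
theorem D16533 : act 8 n15850 = n16533 := rfl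
theorem F65328 : act 2 n16533 = n16533 := d20_1 D16533 (iv D16533) F62574
theorem F65329 : act 3 n16533 = n15861 := d25_1 D16533 (iv D15861) (iv F62575)
theorem F65330 : act 5 n16533 = n15852 := d32_1 D16533 (iv D15852) (iv F62576)
def n16534 : Q := act 7 n15851
theorem D16534 : act 7 n15851 = n16534 := rfl
theorem F65331 : act 2 n16534 = n16534 := d19_1 D16534 (iv D16534) F62577
theorem F65332 : act 5 n16534 = n15853 := d31_1 D16534 (iv D15853) (iv F62579)
def n16535 : Q := act 7 n15852
theorem D16535 : act 7 n15852 = n16535 := rfl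
theorem F65333 : act 2 n16535 = n16535 := d19_1 D16535 (iv D16535) F62580
theorem F65334 : act 8 n16535 = n15853 := d35_2 D15852 D16535 (iv D15853) (iv D15082) D15081
def n16536 : Q := act 3 n15853
theorem D16536 : act 3 n15853 = n16536 := rfl
theorem F65335 : act 7 n16536 = n15855 := d24_2 D15853 D16536 (iv D15855) (iv D15084) (iv F59481)
def n16537 : Q := act 3 n15854
theorem D16537 : act 3 n15854 = n16537 := rfl
theorem F65336 : act 5 n16537 = n15855 := d22_2 (iv F62584) D16537 (iv D15855)
theorem F65337 : act 8 n16537 = n15866 := d25_2 (iv F62585) D16537 (iv D15866)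
def n16538 : Q := act 2 n15855
theorem D16538 : act 2 n15855 = n16538 := rfl
theorem F65338 : act 3 n16538 = n15858 := d15_2 D15855 D16538 (iv D15858) (iv D15087) (iv F59484)
theorem F65339 : act 8 n16538 = n15867 := d20_2 (iv F62586) D16538 (iv D15867)
def n16539 : Q := act 4 n15855
theorem D16539 : act 4 n15855 = n16539 := rfl
theorem F65340 : act 3 n16539 = n15856 := d21_1 D16539 (iv D15856) (iv D15085) (iv F59485) D15855
theorem F65341 : act 8 n16539 = n15868 := d29_2 (iv F62586) D16539 (iv D15868)
def n16540 : Q := act 5 n15856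
theorem D16540 : act 5 n15856 = n16540 := rfl
theorem F65342 : act 8 n16540 = n15869 := d32_2 (iv F62587) D16540 (iv D15869)
def n16541 : Q := act 2 n15857
theorem D16541 : act 2 n15857 = n16541 := rfl
theorem F65343 : act 5 n16541 = n15858 := d17_2 (iv F62589) D16541 (iv D15858)
theorem F65344 : act 7 n16541 = n16541 := d19_2 F62590 D16541 (iv D16541)
theorem F65345 : act 8 n16541 = n15871 := d20_2 (iv F62591) D16541 (iv D15871)
def n16542 : Q := act 7 n15859
theorem D16542 : act 7 n15859 = n16542 := rfl
theorem F65346 : act 2 n16542 = n15874 := d19_1 D16542 (iv D15874) (iv F62594)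
theorem F65347 : act 4 n16542 = n15862 := d28_1 D16542 (iv D15862) (iv F62595)
theorem F65348 : act 5 n16542 = n16363 := d31_1 D16542 (iv D16363) (iv F62596)
def n16543 : Q := act 7 n15860
theorem D16543 : act 7 n15860 = n16543 := rfl
theorem F65349 : act 2 n16543 = n15875 := d19_1 D16543 (iv D15875) (iv F62597)
theorem F65350 : act 6 n16543 = n15862 := d33_1 D16543 (iv D15862) (iv F62599)
def n16544 : Q := act 7 n15861
theorem D16544 : act 7 n15861 = n16544 := rfl
theorem F65351 : act 2 n16544 = n15876 := d19_1 D16544 (iv D15876) (iv F62600)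
theorem F65352 : act 5 n16544 = n15863 := d31_1 D16544 (iv D15863) (iv F62601)
theorem F65353 : act 8 n16544 = n15862 := d35_2 D15861 D16544 (iv D15862) (iv D15091) D15090
def n16545 : Q := act 3 n15862
theorem D16545 : act 3 n15862 = n16545 := rfl
theorem F65354 : act 5 n16545 = n15864 := d22_2 (iv F62603) D16545 (iv D15864)
theorem F65355 : act 7 n16545 = n15866 := d24_2 D15862 D16545 (iv D15866) (iv D15095) (iv F59501)
def n16546 : Q := act 3 n15863
theorem D16546 : act 3 n15863 = n16546 := rfl
theorem F65356 : act 8 n16546 = n15864 := d25_2 (iv F62606) D16546 (iv D15864)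
def n16547 : Q := act 2 n15864
theorem D16547 : act 2 n15864 = n16547 := rfl
theorem F65357 : act 3 n16547 = n15879 := d15_2 D15864 D16547 (iv D15879) (iv D15106) (iv F59505)
theorem F65358 : act 7 n16547 = n15867 := d19_2 (iv F62607) D16547 (iv D15867)
def n16548 : Q := act 4 n15864
theorem D16548 : act 4 n15864 = n16548 := rfl
theorem F65359 : act 3 n16548 = n16369 := d21_1 D16548 (iv D16369) (iv D15645) (iv F59506) D15864
theorem F65360 : act 7 n16548 = n15868 := d28_2 (iv F62607) D16548 (iv D15868)
def n16549 : Q := act 3 n15865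
theorem D16549 : act 3 n15865 = n16549 := rfl
theorem F65361 : act 6 n16549 = n15866 := d23_2 (iv F62609) D16549 (iv D15866)
def n16550 : Q := act 2 n15866
theorem D16550 : act 2 n15866 = n16550 := rfl
theorem F65362 : act 3 n16550 = n15871 := d15_2 D15866 D16550 (iv D15871) (iv D15099) (iv F59509)
theorem F65363 : act 5 n16550 = n15867 := d17_2 (iv F62610) D16550 (iv D15867)
def n16551 : Q := act 4 n15866
theorem D16551 : act 4 n15866 = n16551 := rfl
def n16552 : Q := act 1 n15867
theorem D16552 : act 1 n15867 = n16552 := rfl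
theorem F65364 : act 3 n16552 = n15873 := d9_2 (iv F62611) D16552 (iv D15873)
def n16553 : Q := act 4 n15867
theorem D16553 : act 4 n15867 = n16553 := rfl
theorem F65365 : act 2 n16553 = n15868 := d16_1 D16553 (iv D15868) D15867
def n16554 : Q := act 5 n15868
theorem D16554 : act 5 n15868 = n16554 := rfl
theorem F65366 : act 3 n16554 = n15869 := d22_1 D16554 (iv D15869) (iv F62612)
def n16555 : Q := act 6 n15869
theorem D16555 : act 6 n15869 = n16555 := rfl
theorem F65367 : act 7 n16555 = n16376 := d33_2 (iv F62613) D16555 (iv D16376)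
def n16556 : Q := act 2 n15870
theorem D16556 : act 2 n15870 = n16556 := rfl
theorem F65368 : act 6 n16556 = n15871 := d18_2 (iv F62615) D16556 (iv D15871)
theorem F65369 : act 7 n16556 = n15886 := d19_2 (iv F62616) D16556 (iv D15886)
def n16557 : Q := act 1 n15871
theorem D16557 : act 1 n15871 = n16557 := rfl
theorem F65370 : act 2 n16557 = n15892 := d8_2 D15871 D16557 (iv D15892) (iv D15123) (iv F59514)
theorem F65371 : act 5 n16557 = n15873 := d11_2 (iv F62617) D16557 (iv D15873)
theorem F65372 : act 7 n16557 = n15887 := d13_2 (iv F62618) D16557 (iv D15887)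
def n16558 : Q := act 4 n15871
theorem D16558 : act 4 n15871 = n16558 := rfl
theorem F65373 : act 2 n16558 = n15872 := d16_1 D16558 (iv D15872) D15871
theorem F65374 : act 7 n16558 = n15888 := d28_2 (iv F62618) D16558 (iv D15888)
def n16559 : Q := act 0 n15873
theorem D16559 : act 0 n15873 = n16559 := rfl
theorem F65375 : act 2 n16559 = n15893 := d1_2 (iv F62621) D16559 (iv D15893)
theorem F65376 : act 7 n16559 = n15889 := d6_2 (iv F62622) D16559 (iv D15889)
def n16560 : Q := act 3 n15874
theorem D16560 : act 3 n15874 = n16560 := rfl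
theorem F65377 : act 0 n16560 = n16102 := d2_1 D16560 (iv F65215) F65213
theorem F65378 : act 1 n16560 = n15897 := d9_1 D16560 (iv D15897) (iv F62623)
theorem F65379 : act 5 n16560 = n16385 := d22_2 (iv F62625) D16560 (iv D16385)
theorem F65380 : act 7 n16560 = n15890 := d24_2 D15874 D16560 (iv D15890) (iv D15115) (iv F59519)
theorem F65381 : act 4 n15971 = n16560 := d28_3 F65380 F62668 D15971
def n16561 : Q := act 3 n15875
theorem D16561 : act 3 n15875 = n16561 := rfl
theorem F65382 : act 1 n16561 = n15898 := d9_1 D16561 (iv D15898) (iv F62626)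
theorem F65383 : act 6 n16561 = n15877 := d23_2 (iv F62627) D16561 (iv D15877)
theorem F65384 : act 7 n16561 = n15881 := d24_2 D15875 D16561 (iv D15881) (iv D15107) (iv F59523)
def n16562 : Q := act 3 n15876
theorem D16562 : act 3 n15876 = n16562 := rfl
theorem F65385 : act 1 n16562 = n15899 := d9_1 D16562 (iv D15899) (iv F62628)
theorem F65386 : act 5 n16562 = n15878 := d22_2 (iv F62629) D16562 (iv D15878)
theorem F65387 : act 7 n16562 = n16562 := d24_2 D15876 D16562 (iv D16562) (iv D15876) F59526
theorem F65388 : act 8 n16562 = n15877 := d25_2 (iv F62630) D16562 (iv D15877)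
def n16563 : Q := act 2 n15877
theorem D16563 : act 2 n15877 = n16563 := rfl
theorem F65389 : act 5 n16563 = n15879 := d17_2 (iv F62632) D16563 (iv D15879)
theorem F65390 : act 7 n16563 = n15882 := d19_2 (iv F62633) D16563 (iv D15882)
def n16564 : Q := act 4 n15877
theorem D16564 : act 4 n15877 = n16564 := rfl
theorem F65391 : act 0 n16564 = n16105 := d3_1 D16564 (iv F65227) F65225
theorem F65392 : act 1 n16564 = n15901 := d10_1 D16564 (iv D15901) (iv F62631)
theorem F65393 : act 3 n16564 = n15971 := d21_1 D16564 F65381 (iv D16560) F62624 D15877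
theorem F65394 : act 5 n16564 = n15973 := d26_2 (iv F62632) D16564 (iv F64413) F64414 (iv D15880)
theorem F65395 : act 7 n16564 = n15883 := d28_2 (iv F62633) D16564 (iv D15883)
def n16565 : Q := act 2 n15878
theorem D16565 : act 2 n15878 = n16565 := rfl
theorem F65396 : act 7 n16565 = n16565 := d19_2 F62635 D16565 (iv D16565)
theorem F65397 : act 8 n16565 = n15879 := d20_2 (iv F62636) D16565 (iv D15879)
def n16566 : Q := act 4 n15878
theorem D16566 : act 4 n15878 = n16566 := rfl
theorem F65398 : act 1 n16566 = n15903 := d10_1 D16566 (iv D15903) (iv F62634)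
theorem F65399 : act 3 n16566 = n16389 := d21_1 D16566 (iv D16389) (iv D15666) (iv F59531) D15878
theorem F65400 : act 7 n16566 = n16566 := d28_2 F62635 D16566 (iv D16566)
theorem F65401 : act 8 n16566 = n15880 := d29_2 (iv F62636) D16566 (iv D15880)
theorem F65402 : act 5 n16408 = n16566 := d36_3 D14887 D15697 D16408 (iv D16566) (iv D15878) F59530 (iv F58866) D15739 F62148 F58872 (iv D14020) (iv F55212) F55211 D14930 (iv F61817) (iv F64030) F64031 (iv D15458) F57784 (iv F57867) (iv D14653) (iv F55839) (iv D14164) (iv F55832) F55833 F52078 D14191 D15058 D15830 (iv F63334) F63333 (iv D15676) F58585 F54897 (iv F54352) F54355 F50968 (iv D11922) (iv F46844) F46843 D11924 (iv F50872) D13931 F54868 F53971 (iv D12879) F46640 F46641 F41732 F34413 F25406 F18827 (iv F44956) (iv F45003) (iv D3523) (iv D2580) D2581 F10384 (iv F13916) F13915 (iv F18728) (iv F23658) F23659 D8398 F45068 (iv F45067) D10193 F39862 (iv F45813) (iv F49789) (iv F51309) F51311 (iv D12009) F41060 (iv F41068) (iv F47118) (iv F51260) (iv F54811) (iv F58456) F58457 (iv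 D13897) (iv F54691) (iv F58363) (iv D14786) (iv F58317) (iv D14770) (iv F58308) F58309 F55034
def n16567 : Q := act 1 n15879
theorem D16567 : act 1 n15879 = n16567 := rfl
theorem F65403 : act 2 n16567 = n15904 := d8_2 D15879 D16567 (iv D15904) (iv D15137) (iv F59533)
theorem F65404 : act 7 n16567 = n15884 := d13_2 (iv F62637) D16567 (iv D15884)
def n16568 : Q := act 4 n15879
theorem D16568 : act 4 n15879 = n16568 := rfl
theorem F65405 : act 2 n16568 = n15880 := d16_1 D16568 (iv D15880) D15879
theorem F65406 : act 7 n16568 = n15885 := d28_2 (iv F62637) D16568 (iv D15885)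
def n16569 : Q := act 2 n15881
theorem D16569 : act 2 n15881 = n16569 := rfl
theorem F65407 : act 3 n16569 = n15886 := d15_2 D15881 D16569 (iv D15886) (iv D15111) (iv F59536)
theorem F65408 : act 6 n16569 = n15882 := d18_2 (iv F62642) D16569 (iv D15882)
theorem F65409 : act 8 n16569 = n16569 := d20_2 F62643 D16569 (iv D16569)
def n16570 : Q := act 1 n15882
theorem D16570 : act 1 n15882 = n16570 := rfl
theorem F65410 : act 2 n16570 = n15906 := d8_2 D15882 D16570 (iv D15906) (iv D15140) (iv F59540)
theorem F65411 : act 3 n16570 = n15887 := d9_2 (iv F62644) D16570 (iv D15887)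
theorem F65412 : act 5 n16570 = n15884 := d11_2 (iv F62645) D16570 (iv D15884)
theorem F65413 : act 8 n16570 = n16570 := d14_2 F62646 D16570 (iv D16570)
theorem F65414 : act 4 n16569 = n16570 := d21_0 F65411 (iv F63204) (iv F63901) F63902 (iv F65407)
def n16571 : Q := act 4 n15882
theorem D16571 : act 4 n15882 = n16571 := rfl
theorem F65415 : act 0 n16571 = n16110 := d3_1 D16571 (iv F65249) F65247
theorem F65416 : act 1 n16571 = n16569 := d10_1 D16571 F65414 (iv D16570)
theorem F65417 : act 2 n16571 = n15883 := d16_1 D16571 (iv D15883) D15882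
theorem F65418 : act 5 n16571 = n15974 := d26_2 (iv F62645) D16571 (iv F65053) F65054 (iv D15885)
theorem F65419 : act 6 n16571 = n16570 := d27_2 F65408 D16571 (iv F65414)
theorem F65420 : act 8 n16571 = n16571 := d29_2 F62646 D16571 (iv D16571)
theorem F65421 : act 3 n15975 = n16571 := d23_3 F65419 F65411 (iv F63061)
def n16572 : Q := act 0 n15884
theorem D16572 : act 0 n15884 = n16572 := rfl
theorem F65422 : act 2 n16572 = n15907 := d1_2 (iv F62652) D16572 (iv D15907)
theorem F65423 : act 3 n16572 = n15889 := d2_2 (iv F62653) D16572 (iv D15889)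
theorem F65424 : act 8 n16572 = n16572 := d7_2 F62654 D16572 (iv D16572)
def n16573 : Q := act 4 n15884
theorem D16573 : act 4 n15884 = n16573 := rfl
theorem F65425 : act 1 n16573 = n15885 := d10_1 D16573 (iv D15885) D15884
theorem F65426 : act 2 n16573 = n15908 := d16_1 D16573 (iv D15908) (iv F62652)
theorem F65427 : act 8 n16573 = n16573 := d29_2 F62654 D16573 (iv D16573)
def n16574 : Q := act 3 n15888
theorem D16574 : act 3 n15888 = n16574 := rfl
theorem F65428 : act 0 n16574 = n15998 := d2_1 D16574 (iv F63896) F63894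
theorem F65429 : act 1 n16574 = n16159 := d9_1 D16574 F63901 F63203
theorem F65430 : act 2 n16574 = n15891 := d15_1 D16574 (iv D15891) F59594 (iv F59554) (iv F62662)
theorem F65431 : act 4 n16574 = n15975 := d21_2 D15888 D16574 F65421 (iv D16571) F62644
theorem F65432 : act 5 n16574 = n16158 := d22_2 F63199 D16574 F63896
theorem F65433 : act 6 n16574 = n15999 := d23_2 F63904 D16574 (iv F63901)
theorem F65434 : act 8 n16574 = n16574 := d25_2 F62663 D16574 (iv D16574)
def n16575 : Q := act 2 n15890
theorem D16575 : act 2 n15890 = n16575 := rfl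
theorem F65435 : act 0 n16575 = n16081 := d1_1 D16575 F63572 (iv F62666)
theorem F65436 : act 3 n16575 = n16220 := d15_2 D15890 D16575 F64149 F61273 (iv F59560)
theorem F65437 : act 4 n16575 = n15958 := d16_2 (iv F62668) D16575 F62994
theorem F65438 : act 5 n16575 = n16392 := d17_2 (iv F62669) D16575 (iv D16392)
theorem F65439 : act 8 n16575 = n15955 := d20_2 (iv F62670) D16575 F62979
def n16576 : Q := act 7 n15891
theorem D16576 : act 7 n15891 = n16576 := rfl
theorem F65440 : act 0 n16576 = n15989 := d6_1 D16576 F63150 (iv F62671)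
theorem F65441 : act 1 n16576 = n15995 := d13_1 D16576 F63184 (iv F62672)
theorem F65442 : act 3 n16576 = n15988 := d24_1 D16576 (iv D15988) F60035 (iv F59597) D15891
theorem F65443 : act 4 n16576 = n15966 := d28_1 D16576 F63027 (iv F62673)
theorem F65444 : act 5 n16576 = n16155 := d31_1 D16576 F63883 (iv F62674)
theorem F65445 : act 6 n16576 = n15991 := d33_1 D16576 F63162 (iv F62675)
theorem F65446 : act 8 n16283 = n16576 := d32_0 F65444 F63884 (iv F64395)
def n16577 : Q := act 3 n15894
theorem D16577 : act 3 n15894 = n16577 := rfl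
theorem F65447 : act 0 n16577 = n16577 := d2_1 D16577 (iv D16577) F62681
theorem F65448 : act 5 n16577 = n16438 := d22_2 F64853 D16577 F64974
theorem F65449 : act 6 n16577 = n15895 := d23_2 (iv F62684) D16577 (iv D15895)
theorem F65450 : act 7 n16577 = n16577 := d24_2 D15894 D16577 (iv D16577) (iv D15894) F59621
theorem F65451 : act 8 n16577 = n16411 := d25_2 (iv F62685) D16577 (iv D16411)
def n16578 : Q := act 2 n15895
theorem D16578 : act 2 n15895 = n16578 := rfl
theorem F65452 : act 0 n16578 = n16578 := d1_1 D16578 (iv D16578) F62686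
theorem F65453 : act 3 n16578 = n15905 := d15_2 D15895 D16578 F62721 F59649 (iv F59625)
theorem F65454 : act 5 n16578 = n15896 := d17_2 (iv F62687) D16578 (iv D15896)
theorem F65455 : act 7 n16578 = n16578 := d19_2 F62688 D16578 (iv D16578)
theorem F65456 : act 8 n16578 = n16412 := d20_2 (iv F62689) D16578 (iv D16412)
theorem F65457 : act 4 n16577 = n16578 := d29_3 F65456 (iv F64868) (iv F65451)
def n16579 : Q := act 4 n15895
theorem D16579 : act 4 n15895 = n16579 := rfl
theorem F65458 : act 0 n16579 = n16579 := d3_1 D16579 (iv D16579) F62686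
theorem F65459 : act 2 n16579 = n16577 := d16_1 D16579 F65457 (iv D16578)
theorem F65460 : act 3 n16579 = n16440 := d21_1 D16579 (iv D16440) F62101 (iv F59626) D15895
theorem F65461 : act 6 n16579 = n16578 := d27_2 F65449 D16579 (iv F65457)
theorem F65462 : act 7 n16579 = n16579 := d28_2 F62688 D16579 (iv D16579)
theorem F65463 : act 8 n16579 = n16413 := d29_2 (iv F62689) D16579 (iv D16413)
def n16580 : Q := act 1 n15896
theorem D16580 : act 1 n15896 = n16580 := rfl
theorem F65464 : act 7 n16580 = n16580 := d13_2 F62691 D16580 (iv D16580)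
theorem F65465 : act 8 n16580 = n16414 := d14_2 (iv F62692) D16580 (iv D16414)
def n16581 : Q := act 2 n15899
theorem D16581 : act 2 n15899 = n16581 := rfl
theorem F65466 : act 0 n16581 = n16581 := d1_1 D16581 (iv D16581) F62699
theorem F65467 : act 3 n16581 = n16446 := d15_2 D15899 D16581 F65015 (iv D16444) F62137
theorem F65468 : act 5 n16581 = n15902 := d17_2 (iv F62700) D16581 (iv D15902)
theorem F65469 : act 7 n16581 = n16581 := d19_2 F62701 D16581 (iv D16581)
theorem F65470 : act 8 n16581 = n15900 := d20_2 (iv F62702) D16581 (iv D15900)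
theorem F65471 : act 4 n16442 = n16581 := d29_3 F65470 (iv F62706) (iv F64995)
def n16582 : Q := act 4 n15899
theorem D16582 : act 4 n15899 = n16582 := rfl
theorem F65472 : act 0 n16582 = n16582 := d3_1 D16582 (iv D16582) F62699
theorem F65473 : act 2 n16582 = n16442 := d16_1 D16582 F65471 (iv D16581)
theorem F65474 : act 3 n16582 = n16138 := d21_1 D16582 F65002 (iv D16443) F62132 D15899
theorem F65475 : act 5 n16582 = n16139 := d26_2 (iv F62700) D16582 F63803 F62718 (iv D15903)
theorem F65476 : act 6 n16582 = n16581 := d27_2 F64993 D16582 (iv F65471)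
theorem F65477 : act 7 n16582 = n16582 := d28_2 F62701 D16582 (iv D16582)
theorem F65478 : act 8 n16582 = n15901 := d29_2 (iv F62702) D16582 (iv D15901)
def n16583 : Q := act 1 n15900
theorem D16583 : act 1 n15900 = n16583 := rfl
theorem F65479 : act 4 n16583 = n16561 := d10_2 F62706 D16583 F65382
theorem F65480 : act 5 n16583 = n15904 := d11_2 (iv F62704) D16583 (iv D15904)
theorem F65481 : act 6 n16583 = n16564 := d12_2 F62709 D16583 F65392
theorem F65482 : act 7 n16583 = n15906 := d13_2 (iv F62705) D16583 (iv D15906)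
def n16584 : Q := act 1 n15902
theorem D16584 : act 1 n15902 = n16584 := rfl
theorem F65483 : act 7 n16584 = n16584 := d13_2 F62712 D16584 (iv D16584)
theorem F65484 : act 8 n16584 = n15904 := d14_2 (iv F62713) D16584 (iv D15904)
def n16585 : Q := act 4 n15902
theorem D16585 : act 4 n15902 = n16585 := rfl
theorem F65485 : act 0 n16585 = n16585 := d3_1 D16585 (iv D16585) F62711
theorem F65486 : act 2 n16585 = n15903 := d16_1 D16585 (iv D15903) D15902
theorem F65487 : act 3 n16585 = n16412 := d21_1 D16585 (iv F64868) (iv D16411) (iv F63823) (iv F63826)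
theorem F65488 : act 5 n16585 = n16410 := d26_2 F65468 D16585 (iv F64963) (iv F64992) F65471
theorem F65489 : act 7 n16585 = n16585 := d28_2 F62712 D16585 (iv D16585)
theorem F65490 : act 8 n16585 = n15905 := d29_2 (iv F62713) D16585 (iv D15905)
def n16586 : Q := act 0 n15904
theorem D16586 : act 0 n15904 = n16586 := rfl
theorem F65491 : act 1 n16586 = n16586 := d0_2 D15904 D16586 (iv D16586) (iv D15904) F59646
theorem F65492 : act 7 n16586 = n15907 := d6_2 (iv F62719) D16586 (iv D15907)
def n16587 : Q := act 4 n15904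
theorem D16587 : act 4 n15904 = n16587 := rfl
theorem F65493 : act 1 n16587 = n15905 := d10_1 D16587 (iv D15905) D15904
theorem F65494 : act 7 n16587 = n15908 := d28_2 (iv F62719) D16587 (iv D15908)
def n16588 : Q := act 4 n15907
theorem D16588 : act 4 n15907 = n16588 := rfl
theorem F65495 : act 0 n16588 = n15908 := d3_1 D16588 (iv D15908) D15907
theorem F65496 : act 1 n16588 = n16588 := d10_1 D16588 (iv D16588) F62728
theorem F65497 : act 3 n16588 = n16588 := d21_1 D16588 (iv D16588) F62729 F59677 (iv F62729)
theorem F65498 : act 8 n16588 = n16588 := d29_2 F62730 D16588 (iv D16588)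
def n16589 : Q := act 8 n15909
theorem D16589 : act 8 n15909 = n16589 := rfl
theorem F65499 : act 0 n16589 = n15911 := d7_1 D16589 (iv D15911) D15909
theorem F65500 : act 1 n16589 = n16008 := d14_1 D16589 (iv D16008) (iv F62734)
theorem F65501 : act 2 n16589 = n16589 := d20_1 D16589 (iv D16589) F62735
theorem F65502 : act 3 n16589 = n15925 := d25_1 D16589 (iv D15925) (iv F62736)
theorem F65503 : act 4 n16589 = n16533 := d29_1 D16589 (iv D16533) F62740
theorem F65504 : act 5 n16589 = n16168 := d32_1 D16589 (iv D16168) (iv F62737)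
theorem F65505 : act 6 n16589 = n16267 := d34_1 D16589 (iv D16267) (iv F62738)
def n16590 : Q := act 8 n15910
theorem D16590 : act 8 n15910 = n16590 := rfl
theorem F65506 : act 0 n16590 = n16533 := d7_1 D16590 (iv D16533) (iv F62741)
theorem F65507 : act 1 n16590 = n15914 := d14_1 D16590 (iv D15914) (iv F62742)
theorem F65508 : act 2 n16590 = n16590 := d20_1 D16590 (iv D16590) F62743
theorem F65509 : act 3 n16590 = n16491 := d25_1 D16590 (iv D16491) (iv F62746)
theorem F65510 : act 4 n16590 = n15911 := d29_1 D16590 (iv D15911) D15910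
theorem F65511 : act 5 n16590 = n16480 := d32_1 D16590 (iv D16480) F62747
theorem F65512 : act 6 n16590 = n16075 := d34_1 D16590 (iv D16075) (iv F62744)
def n16591 : Q := act 7 n15911
theorem D16591 : act 7 n15911 = n16591 := rfl
theorem F65513 : act 1 n16591 = n15915 := d13_1 D16591 (iv D15915) (iv F62748)
theorem F65514 : act 2 n16591 = n16591 := d19_1 D16591 (iv D16591) F62749
theorem F65515 : act 5 n16591 = n16171 := d31_1 D16591 (iv D16171) (iv F62751)
def n16592 : Q := act 8 n15912
theorem D16592 : act 8 n15912 = n16592 := rfl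
theorem F65516 : act 0 n16592 = n16013 := d7_1 D16592 (iv D16013) (iv F62752)
theorem F65517 : act 1 n16592 = n16491 := d14_1 D16592 (iv D16491) (iv F62753)
theorem F65518 : act 2 n16592 = n16592 := d20_1 D16592 (iv D16592) F62754
theorem F65519 : act 3 n16592 = n15914 := d25_1 D16592 (iv D15914) D15912
theorem F65520 : act 4 n16592 = n15931 := d29_1 D16592 (iv D15931) (iv F62755)
theorem F65521 : act 5 n16592 = n16485 := d32_1 D16592 (iv D16485) F62758
theorem F65522 : act 6 n16592 = n16038 := d34_1 D16592 (iv D16038) (iv F62756)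
def n16593 : Q := act 8 n15913
theorem D16593 : act 8 n15913 = n16593 := rfl
theorem F65523 : act 0 n16593 = n16015 := d7_1 D16593 (iv D16015) (iv F62759)
theorem F65524 : act 1 n16593 = n16480 := d14_1 D16593 (iv D16480) (iv F62760)
theorem F65525 : act 2 n16593 = n15916 := d20_1 D16593 (iv D15916) (iv F62761)
theorem F65526 : act 3 n16593 = n16485 := d25_1 D16593 (iv D16485) (iv F62762)
theorem F65527 : act 4 n16593 = n16174 := d29_1 D16593 (iv D16174) (iv F62763)
theorem F65528 : act 5 n16593 = n15914 := d32_1 D16593 (iv D15914) D15913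
def n16594 : Q := act 7 n15914
theorem D16594 : act 7 n15914 = n16594 := rfl
theorem F65529 : act 0 n16594 = n16016 := d6_1 D16594 (iv D16016) (iv F62765)
theorem F65530 : act 2 n16594 = n15917 := d19_1 D16594 (iv D15917) (iv F62766)
theorem F65531 : act 4 n16594 = n15915 := d28_1 D16594 (iv D15915) (iv F62767)
theorem F65532 : act 6 n16594 = n16085 := d33_1 D16594 (iv D16085) (iv F62768)
theorem F65533 : act 8 n16594 = n16057 := d35_2 D15914 D16594 (iv D16057) (iv D15301) (iv F59695)
def n16595 : Q := act 3 n15915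
theorem D16595 : act 3 n15915 = n16595 := rfl
theorem F65534 : act 0 n16595 = n16017 := d2_1 D16595 (iv D16017) (iv F62769)
theorem F65535 : act 2 n16595 = n16476 := d15_1 D16595 (iv D16476) F62383 (iv F59712) (iv F62770)
theorem F65536 : act 5 n16595 = n16176 := d22_2 (iv F62771) D16595 (iv D16176)
theorem F65537 : act 7 n16595 = n15934 := d24_2 D15915 D16595 (iv D15934) (iv D15167) (iv F59698)
def n16596 : Q := act 7 n15916
theorem D16596 : act 7 n15916 = n16596 := rfl
theorem F65538 : act 0 n16596 = n16019 := d6_1 D16596 (iv D16019) (iv F62772)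
theorem F65539 : act 1 n16596 = n16596 := d13_1 D16596 (iv D16596) F62773
theorem F65540 : act 4 n16596 = n16177 := d28_1 D16596 (iv D16177) (iv F62775)
theorem F65541 : act 5 n16596 = n15917 := d31_1 D16596 (iv D15917) (iv F62776)
theorem F65542 : act 8 n16596 = n16095 := d35_2 D15916 D16596 (iv D16095) (iv D15334) (iv F59704)
def n16597 : Q := act 3 n15917
theorem D16597 : act 3 n15917 = n16597 := rfl
theorem F65543 : act 0 n16597 = n16020 := d2_1 D16597 (iv D16020) (iv F62777)
theorem F65544 : act 1 n16597 = n16597 := d9_1 D16597 (iv D16597) F62778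
theorem F65545 : act 4 n16597 = n16478 := d21_2 (iv F62779) D16597 (iv D16478) F62392 (iv F59712)
theorem F65546 : act 6 n16597 = n16106 := d23_2 (iv F62780) D16597 (iv D16106)
theorem F65547 : act 7 n16597 = n16597 := d24_2 D15917 D16597 (iv D16597) (iv D15917) F59707
theorem F65548 : act 8 n16597 = n16096 := d25_2 (iv F62781) D16597 (iv D16096)
def n16598 : Q := act 7 n15918
theorem D16598 : act 7 n15918 = n16598 := rfl
theorem F65549 : act 0 n16598 = n16021 := d6_1 D16598 (iv D16021) (iv F62782)
theorem F65550 : act 1 n16598 = n16195 := d13_1 D16598 (iv D16195) (iv F62783)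
theorem F65551 : act 2 n16598 = n15919 := d19_1 D16598 (iv D15919) (iv F62784)
theorem F65552 : act 4 n16598 = n16150 := d28_1 D16598 (iv D16150) (iv F62785)
theorem F65553 : act 5 n16598 = n15923 := d31_1 D16598 (iv D15923) (iv F62786)
theorem F65554 : act 6 n16598 = n16179 := d33_1 D16598 (iv D16179) (iv F62787)
theorem F65555 : act 8 n16598 = n15939 := d35_2 D15918 D16598 (iv D15939) (iv D15172) (iv F59719)
def n16599 : Q := act 7 n15920
theorem D16599 : act 7 n15920 = n16599 := rfl
theorem F65556 : act 0 n16599 = n16270 := d6_1 D16599 (iv D16270) (iv F62795)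
theorem F65557 : act 1 n16599 = n15923 := d13_1 D16599 (iv D15923) (iv F62796)
theorem F65558 : act 2 n16599 = n15977 := d19_1 D16599 (iv D15977) (iv F62797)
theorem F65559 : act 4 n16599 = n16204 := d28_1 D16599 (iv D16204) (iv F62798)
theorem F65560 : act 5 n16599 = n16195 := d31_1 D16599 (iv D16195) (iv F62799)
theorem F65561 : act 6 n16599 = n15928 := d33_1 D16599 (iv D15928) (iv F62800)
theorem F65562 : act 8 n16599 = n15942 := d35_2 D15920 D16599 (iv D15942) (iv D15176) (iv F59730)
def n16600 : Q := act 8 n15921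
theorem D16600 : act 8 n15921 = n16600 := rfl
theorem F65563 : act 0 n16600 = n16023 := d7_1 D16600 (iv D16023) (iv F62801)
theorem F65564 : act 1 n16600 = n16201 := d14_1 D16600 (iv D16201) (iv F62802)
theorem F65565 : act 2 n16600 = n16600 := d20_1 D16600 (iv D16600) F62803
theorem F65566 : act 3 n16600 = n15922 := d25_1 D16600 (iv D15922) D15921
theorem F65567 : act 4 n16600 = n16038 := d29_1 D16600 (iv D16038) (iv F62804)
theorem F65568 : act 5 n16600 = n16198 := d32_1 D16600 (iv D16198) (iv F62805)
theorem F65569 : act 6 n16600 = n15931 := d34_1 D16600 (iv D15931) (iv F62806)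
def n16601 : Q := act 7 n15922
theorem D16601 : act 7 n15922 = n16601 := rfl
theorem F65570 : act 0 n16601 = n16024 := d6_1 D16601 (iv D16024) (iv F62808)
theorem F65571 : act 1 n16601 = n16204 := d13_1 D16601 (iv D16204) (iv F62809)
theorem F65572 : act 2 n16601 = n15924 := d19_1 D16601 (iv D15924) (iv F62810)
theorem F65573 : act 4 n16601 = n15923 := d28_1 D16601 (iv D15923) (iv F62811)
theorem F65574 : act 5 n16601 = n16199 := d31_1 D16601 (iv D16199) (iv F62812)
theorem F65575 : act 6 n16601 = n15933 := d33_1 D16601 (iv D15933) (iv F62813)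
theorem F65576 : act 8 n16601 = n15943 := d35_2 D15922 D16601 (iv D15943) (iv D15177) (iv F59737)
def n16602 : Q := act 3 n15923
theorem D16602 : act 3 n15923 = n16602 := rfl
theorem F65577 : act 0 n16602 = n16025 := d2_1 D16602 (iv D16025) (iv F62814)
theorem F65578 : act 2 n16602 = n16315 := d15_1 D16602 (iv D16315) F61612 (iv F59749) (iv F62815)
theorem F65579 : act 6 n16602 = n15934 := d23_2 (iv F62816) D16602 (iv D15934)
theorem F65580 : act 8 n16602 = n15944 := d25_2 (iv F62817) D16602 (iv D15944)
def n16603 : Q := act 3 n15924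
theorem D16603 : act 3 n15924 = n16603 := rfl
theorem F65581 : act 0 n16603 = n16026 := d2_1 D16603 (iv D16026) (iv F62818)
theorem F65582 : act 1 n16603 = n15979 := d9_1 D16603 (iv D15979) (iv F62819)
theorem F65583 : act 4 n16603 = n16393 := d21_2 (iv F62820) D16603 (iv D16393) F61870 (iv F59749)
theorem F65584 : act 5 n16603 = n16250 := d22_2 (iv F62821) D16603 (iv D16250)
theorem F65585 : act 6 n16603 = n15936 := d23_2 (iv F62822) D16603 (iv D15936)
theorem F65586 : act 7 n16603 = n16603 := d24_2 D15924 D16603 (iv D16603) (iv D15924) F59743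
theorem F65587 : act 8 n16603 = n15945 := d25_2 (iv F62823) D16603 (iv D15945)
def n16604 : Q := act 7 n15925
theorem D16604 : act 7 n15925 = n16604 := rfl
theorem F65588 : act 0 n16604 = n15928 := d6_1 D16604 (iv D15928) (iv F62824)
theorem F65589 : act 1 n16604 = n16027 := d13_1 D16604 (iv D16027) (iv F62825)
theorem F65590 : act 2 n16604 = n15980 := d19_1 D16604 (iv D15980) (iv F62826)
theorem F65591 : act 4 n16604 = n16340 := d28_1 D16604 (iv D16340) (iv F62827)
theorem F65592 : act 5 n16604 = n16182 := d31_1 D16604 (iv D16182) (iv F62828)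
theorem F65593 : act 6 n16604 = n16270 := d33_1 D16604 (iv D16270) (iv F62829)
theorem F65594 : act 8 n16604 = n15948 := d35_2 D15925 D16604 (iv D15948) (iv D15181) (iv F59756)
def n16605 : Q := act 8 n15926
theorem D16605 : act 8 n15926 = n16605 := rfl
theorem F65595 : act 0 n16605 = n16335 := d7_1 D16605 (iv D16335) (iv F62830)
theorem F65596 : act 1 n16605 = n15931 := d14_1 D16605 (iv D15931) (iv F62831)
theorem F65597 : act 2 n16605 = n16233 := d20_1 D16605 (iv D16233) (iv F62832)
theorem F65598 : act 3 n16605 = n15927 := d25_1 D16605 (iv D15927) D15926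
theorem F65599 : act 4 n16605 = n16491 := d29_1 D16605 (iv D16491) (iv F62833)
theorem F65600 : act 5 n16605 = n16221 := d32_1 D16605 (iv D16221) (iv F62834)
theorem F65601 : act 6 n16605 = n16201 := d34_1 D16605 (iv D16201) (iv F62835)
def n16606 : Q := act 7 n15927
theorem D16606 : act 7 n15927 = n16606 := rfl
theorem F65602 : act 0 n16606 = n16340 := d6_1 D16606 (iv D16340) (iv F62837)
theorem F65603 : act 1 n16606 = n15933 := d13_1 D16606 (iv D15933) (iv F62838)
theorem F65604 : act 2 n16606 = n15981 := d19_1 D16606 (iv D15981) (iv F62839)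
theorem F65605 : act 4 n16606 = n15928 := d28_1 D16606 (iv D15928) (iv F62840)
theorem F65606 : act 5 n16606 = n16226 := d31_1 D16606 (iv D16226) (iv F62841)
theorem F65607 : act 6 n16606 = n16204 := d33_1 D16606 (iv D16204) (iv F62842)
theorem F65608 : act 8 n16606 = n15953 := d35_2 D15927 D16606 (iv D15953) (iv D15184) (iv F59762)
def n16607 : Q := act 3 n15928
theorem D16607 : act 3 n15928 = n16607 := rfl
theorem F65609 : act 1 n16607 = n15934 := d9_1 D16607 (iv D15934) (iv F62843)
theorem F65610 : act 5 n16607 = n16185 := d22_2 (iv F62845) D16607 (iv D16185)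
theorem F65611 : act 8 n16607 = n15954 := d25_2 (iv F62846) D16607 (iv D15954)
def n16608 : Q := act 8 n15929
theorem D16608 : act 8 n15929 = n16608 := rfl
theorem F65612 : act 0 n16608 = n16037 := d7_1 D16608 (iv D16037) (iv F62847)
theorem F65613 : act 1 n16608 = n16221 := d14_1 D16608 (iv D16221) (iv F62848)
theorem F65614 : act 2 n16608 = n16608 := d20_1 D16608 (iv D16608) F62849
theorem F65615 : act 3 n16608 = n15932 := d25_1 D16608 (iv D15932) (iv F62850)
theorem F65616 : act 5 n16608 = n15931 := d32_1 D16608 (iv D15931) D15929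
theorem F65617 : act 6 n16608 = n16213 := d34_1 D16608 (iv D16213) (iv F62851)
def n16609 : Q := act 8 n15930
theorem D16609 : act 8 n15930 = n16609 := rfl
theorem F65618 : act 0 n16609 = n16038 := d7_1 D16609 (iv D16038) (iv F62852)
theorem F65619 : act 1 n16609 = n16490 := d14_1 D16609 (iv D16490) (iv F62853)
theorem F65620 : act 2 n16609 = n16609 := d20_1 D16609 (iv D16609) F62854
theorem F65621 : act 3 n16609 = n15959 := d25_1 D16609 (iv D15959) (iv F62855)
theorem F65622 : act 4 n16609 = n16023 := d29_1 D16609 (iv D16023) (iv F62856)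
theorem F65623 : act 6 n16609 = n16013 := d34_1 D16609 (iv D16013) (iv F62857)
def n16610 : Q := act 7 n15931
theorem D16610 : act 7 n15931 = n16610 := rfl
theorem F65624 : act 0 n16610 = n16039 := d6_1 D16610 (iv D16039) (iv F62858)
theorem F65625 : act 2 n16610 = n16610 := d19_1 D16610 (iv D16610) F62859
def n16611 : Q := act 7 n15932
theorem D16611 : act 7 n15932 = n16611 := rfl
theorem F65626 : act 0 n16611 = n16041 := d6_1 D16611 (iv D16041) (iv F62861)
theorem F65627 : act 1 n16611 = n16226 := d13_1 D16611 (iv D16226) (iv F62862)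
theorem F65628 : act 2 n16611 = n15935 := d19_1 D16611 (iv D15935) (iv F62863)
theorem F65629 : act 4 n16611 = n16191 := d28_1 D16611 (iv D16191) (iv F62864)
theorem F65630 : act 5 n16611 = n15933 := d31_1 D16611 (iv D15933) (iv F62865)
theorem F65631 : act 6 n16611 = n16216 := d33_1 D16611 (iv D16216) (iv F62866)
theorem F65632 : act 8 n16611 = n15962 := d35_2 D15932 D16611 (iv D15962) (iv D15190) (iv F59774)
def n16612 : Q := act 3 n15933
theorem D16612 : act 3 n15933 = n16612 := rfl
theorem F65633 : act 0 n16612 = n16042 := d2_1 D16612 (iv D16042) (iv F62867)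
theorem F65634 : act 8 n16612 = n15963 := d25_2 (iv F62870) D16612 (iv D15963)
def n16613 : Q := act 4 n15934
theorem D16613 : act 4 n15934 = n16613 := rfl
theorem F65635 : act 0 n16613 = n16043 := d3_1 D16613 (iv D16043) (iv F62871)
theorem F65636 : act 2 n16613 = n16483 := d16_1 D16613 (iv D16483) (iv F62872)
theorem F65637 : act 8 n16613 = n15964 := d29_2 (iv F62874) D16613 (iv D15964)
def n16614 : Q := act 3 n15935
theorem D16614 : act 3 n15935 = n16614 := rfl
theorem F65638 : act 0 n16614 = n16045 := d2_1 D16614 (iv D16045) (iv F62875)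
theorem F65639 : act 1 n16614 = n15984 := d9_1 D16614 (iv D15984) (iv F62876)
theorem F65640 : act 4 n16614 = n16283 := d21_2 (iv F62877) D16614 (iv D16283) F61517 (iv F61111)
theorem F65641 : act 5 n16614 = n15936 := d22_2 (iv F62878) D16614 (iv D15936)
theorem F65642 : act 6 n16614 = n16255 := d23_2 (iv F62879) D16614 (iv D16255)
theorem F65643 : act 7 n16614 = n16614 := d24_2 D15935 D16614 (iv D16614) (iv D15935) F59784
theorem F65644 : act 8 n16614 = n15966 := d25_2 (iv F62880) D16614 (iv D15966)
def n16615 : Q := act 2 n15936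
theorem D16615 : act 2 n15936 = n16615 := rfl
theorem F65645 : act 0 n16615 = n16046 := d1_1 D16615 (iv D16046) (iv F62881)
theorem F65646 : act 4 n16615 = n16484 := d16_2 (iv F62883) D16615 (iv D16484)
theorem F65647 : act 7 n16615 = n16615 := d19_2 F62884 D16615 (iv D16615)
theorem F65648 : act 8 n16615 = n15967 := d20_2 (iv F62885) D16615 (iv D15967)
def n16616 : Q := act 7 n15937
theorem D16616 : act 7 n15937 = n16616 := rfl
theorem F65649 : act 0 n16616 = n16148 := d6_1 D16616 (iv D16148) (iv F62886)
theorem F65650 : act 1 n16616 = n15939 := d13_1 D16616 (iv D15939) (iv F62887)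
theorem F65651 : act 2 n16616 = n15986 := d19_1 D16616 (iv D15986) (iv F62888)
theorem F65652 : act 4 n16616 = n16179 := d28_1 D16616 (iv D16179) (iv F62889)
theorem F65653 : act 5 n16616 = n15942 := d31_1 D16616 (iv D15942) (iv F62890)
theorem F65654 : act 6 n16616 = n16150 := d33_1 D16616 (iv D16150) (iv F62891)
theorem F65655 : act 8 n16616 = n16195 := d35_2 D15937 D16616 (iv D16195) (iv D15463) (iv F59796)
def n16617 : Q := act 7 n15938
theorem D16617 : act 7 n15938 = n16617 := rfl
theorem F65656 : act 0 n16617 = n16048 := d6_1 D16617 (iv D16048) (iv F62892)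
theorem F65657 : act 1 n16617 = n16179 := d13_1 D16617 (iv D16179) (iv F62893)
theorem F65658 : act 2 n16617 = n15940 := d19_1 D16617 (iv D15940) (iv F62894)
theorem F65659 : act 4 n16617 = n15939 := d28_1 D16617 (iv D15939) (iv F62895)
theorem F65660 : act 5 n16617 = n16180 := d31_1 D16617 (iv D16180) (iv F62896)
theorem F65661 : act 6 n16617 = n16195 := d33_1 D16617 (iv D16195) (iv F62897)
theorem F65662 : act 8 n16617 = n16150 := d35_2 D15938 D16617 (iv D16150) (iv D15416) (iv F59803)
def n16618 : Q := act 3 n15939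
theorem D16618 : act 3 n15939 = n16618 := rfl
theorem F65663 : act 0 n16618 = n16049 := d2_1 D16618 (iv D16049) (iv F62898)
theorem F65664 : act 2 n16618 = n16070 := d15_1 D16618 (iv D16070) F60469 (iv F59816) (iv F62899)
theorem F65665 : act 5 n16618 = n15944 := d22_2 (iv F62900) D16618 (iv D15944)
theorem F65666 : act 6 n16618 = n16196 := d23_2 (iv F62901) D16618 (iv D16196)
def n16619 : Q := act 3 n15940
theorem D16619 : act 3 n15940 = n16619 := rfl
theorem F65667 : act 0 n16619 = n16050 := d2_1 D16619 (iv D16050) (iv F62902)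
theorem F65668 : act 1 n16619 = n15987 := d9_1 D16619 (iv D15987) (iv F62903)
theorem F65669 : act 4 n16619 = n16126 := d21_2 (iv F62904) D16619 (iv D16126) F60697 (iv F59816)
theorem F65670 : act 5 n16619 = n16247 := d22_2 (iv F62905) D16619 (iv D16247)
theorem F65671 : act 6 n16619 = n16197 := d23_2 (iv F62906) D16619 (iv D16197)
theorem F65672 : act 7 n16619 = n16619 := d24_2 D15940 D16619 (iv D16619) (iv D15940) F59810
theorem F65673 : act 8 n16619 = n16156 := d25_2 (iv F62907) D16619 (iv D16156)
def n16620 : Q := act 7 n15941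
theorem D16620 : act 7 n15941 = n16620 := rfl
theorem F65674 : act 0 n16620 = n15942 := d6_1 D16620 (iv D15942) (iv F62908)
theorem F65675 : act 1 n16620 = n16051 := d13_1 D16620 (iv D16051) (iv F62909)
theorem F65676 : act 2 n16620 = n15988 := d19_1 D16620 (iv D15988) (iv F62910)
theorem F65677 : act 4 n16620 = n16231 := d28_1 D16620 F64184 (iv F62912)
theorem F65678 : act 5 n16620 = n16148 := d31_1 D16620 (iv D16148) (iv F62913)
theorem F65679 : act 6 n16620 = n15948 := d33_1 D16620 (iv D15948) (iv F62914)
theorem F65680 : act 8 n16620 = n16270 := d35_2 D15941 D16620 (iv D16270) (iv D15549) (iv F59825)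
def n16621 : Q := act 3 n15942
theorem D16621 : act 3 n15942 = n16621 := rfl
theorem F65681 : act 1 n16621 = n15944 := d9_1 D16621 (iv D15944) (iv F62915)
theorem F65682 : act 6 n16621 = n15954 := d23_2 (iv F62918) D16621 (iv D15954)
def n16622 : Q := act 3 n15943
theorem D16622 : act 3 n15943 = n16622 := rfl
theorem F65683 : act 0 n16622 = n16060 := d2_1 D16622 (iv D16060) (iv F62919)
theorem F65684 : act 1 n16622 = n16371 := d9_1 D16622 F64701 (iv F62920)
theorem F65685 : act 5 n16622 = n16373 := d22_2 (iv F62923) D16622 F64703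
theorem F65686 : act 6 n16622 = n15963 := d23_2 (iv F62924) D16622 (iv D15963)
def n16623 : Q := act 4 n15944
theorem D16623 : act 4 n15944 = n16623 := rfl
theorem F65687 : act 0 n16623 = n16061 := d3_1 D16623 (iv D16061) (iv F62925)
theorem F65688 : act 2 n16623 = n16351 := d16_1 D16623 (iv D16351) (iv F62926)
theorem F65689 : act 6 n16623 = n15964 := d27_2 (iv F62927) D16623 (iv D15964)
def n16624 : Q := act 2 n15945
theorem D16624 : act 2 n15945 = n16624 := rfl
theorem F65690 : act 0 n16624 = n16064 := d1_1 D16624 (iv D16064) (iv F62928)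
theorem F65691 : act 1 n16624 = n16399 := d8_1 D16624 (iv D16399) F61894 (iv F60049) (iv F62929)
theorem F65692 : act 4 n16624 = n16398 := d16_2 (iv F62930) D16624 (iv D16398)
theorem F65693 : act 5 n16624 = n16401 := d17_2 (iv F62931) D16624 F64808
theorem F65694 : act 6 n16624 = n15967 := d18_2 (iv F62932) D16624 (iv D15967)
theorem F65695 : act 7 n16624 = n15968 := d19_2 (iv F62933) D16624 (iv D15968)
def n16625 : Q := act 8 n15946
theorem D16625 : act 8 n15946 = n16625 := rfl
theorem F65696 : act 0 n16625 = n15951 := d7_1 D16625 (iv D15951) (iv F62934)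
theorem F65697 : act 1 n16625 = n16067 := d14_1 D16625 (iv D16067) (iv F62935)
theorem F65698 : act 2 n16625 = n16244 := d20_1 D16625 F64249 (iv F62936)
theorem F65699 : act 3 n16625 = n15947 := d25_1 D16625 (iv D15947) D15946
theorem F65700 : act 4 n16625 = n16274 := d29_1 D16625 (iv D16274) (iv F62937)
theorem F65701 : act 5 n16625 = n16325 := d32_1 D16625 (iv D16325) (iv F62938)
theorem F65702 : act 6 n16625 = n16245 := d34_1 D16625 F64254 (iv F62939)
def n16626 : Q := act 7 n15947
theorem D16626 : act 7 n15947 = n16626 := rfl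
theorem F65703 : act 0 n16626 = n15953 := d6_1 D16626 (iv D15953) (iv F62941)
theorem F65704 : act 1 n16626 = n16069 := d13_1 D16626 (iv D16069) (iv F62942)
theorem F65705 : act 2 n16626 = n15990 := d19_1 D16626 (iv D15990) (iv F62943)
theorem F65706 : act 4 n16626 = n15948 := d28_1 D16626 (iv D15948) (iv F62944)
theorem F65707 : act 5 n16626 = n16330 := d31_1 D16626 (iv D16330) (iv F62945)
theorem F65708 : act 6 n16626 = n16231 := d33_1 D16626 F64184 (iv F62946)
theorem F65709 : act 8 n16626 = n16340 := d35_2 D15947 D16626 (iv D16340) (iv D15619) (iv F59848)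
def n16627 : Q := act 3 n15948
theorem D16627 : act 3 n15948 = n16627 := rfl
theorem F65710 : act 0 n16627 = n15954 := d2_1 D16627 (iv D15954) (iv F62947)
theorem F65711 : act 1 n16627 = n16070 := d9_1 D16627 (iv D16070) (iv F62948)
theorem F65712 : act 5 n16627 = n16210 := d22_2 (iv F62950) D16627 (iv D16210)
def n16628 : Q := act 8 n15949
theorem D16628 : act 8 n15949 = n16628 := rfl
theorem F65713 : act 0 n16628 = n16325 := d7_1 D16628 (iv D16325) (iv F62951)
theorem F65714 : act 1 n16628 = n15958 := d14_1 D16628 (iv D15958) (iv F62952)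
theorem F65715 : act 2 n16628 = n16383 := d20_1 D16628 F64738 (iv F62953)
theorem F65716 : act 3 n16628 = n15952 := d25_1 D16628 (iv D15952) (iv F62954)
theorem F65717 : act 5 n16628 = n15951 := d32_1 D16628 (iv D15951) D15949
theorem F65718 : act 6 n16628 = n16188 := d34_1 D16628 (iv D16188) (iv F62955)
def n16629 : Q := act 7 n15951
theorem D16629 : act 7 n15951 = n16629 := rfl
theorem F65719 : act 1 n16629 = n15960 := d13_1 D16629 (iv D15960) (iv F62962)
theorem F65720 : act 2 n16629 = n16386 := d19_1 D16629 F64754 (iv F62963)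
theorem F65721 : act 6 n16629 = n16387 := d33_1 D16629 F64759 (iv F62965)
def n16630 : Q := act 7 n15952
theorem D16630 : act 7 n15952 = n16630 := rfl
theorem F65722 : act 0 n16630 = n16330 := d6_1 D16630 (iv D16330) (iv F62966)
theorem F65723 : act 1 n16630 = n15962 := d13_1 D16630 (iv D15962) (iv F62967)
theorem F65724 : act 2 n16630 = n15992 := d19_1 D16630 (iv D15992) (iv F62968)
theorem F65725 : act 4 n16630 = n16216 := d28_1 D16630 (iv D16216) (iv F62969)
theorem F65726 : act 5 n16630 = n15953 := d31_1 D16630 (iv D15953) (iv F62970)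
theorem F65727 : act 6 n16630 = n16191 := d33_1 D16630 (iv D16191) (iv F62971)
theorem F65728 : act 8 n16630 = n16226 := d35_2 D15952 D16630 (iv D16226) (iv D15491) (iv F59862)
def n16631 : Q := act 3 n15953
theorem D16631 : act 3 n15953 = n16631 := rfl
theorem F65729 : act 1 n16631 = n15963 := d9_1 D16631 (iv D15963) (iv F62972)
theorem F65730 : act 2 n16631 = n16370 := d15_1 D16631 (iv D16370) F61777 (iv F60070) (iv F62973)
theorem F65731 : act 6 n16631 = n16371 := d23_2 (iv F62975) D16631 F64701
def n16632 : Q := act 2 n15954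
theorem D16632 : act 2 n15954 = n16632 := rfl
theorem F65732 : act 1 n16632 = n16488 := d8_1 D16632 (iv D16488) F62423 (iv F59894) (iv F62976)
theorem F65733 : act 3 n16632 = n15993 := d15_2 D15954 D16632 (iv D15993) (iv D15229) (iv F59868)
theorem F65734 : act 5 n16632 = n16218 := d17_2 (iv F62977) D16632 (iv D16218)
def n16633 : Q := act 4 n15954
theorem D16633 : act 4 n15954 = n16633 := rfl
theorem F65735 : act 1 n16633 = n15964 := d10_1 D16633 (iv D15964) (iv F62976)
def n16634 : Q := act 8 n15956
theorem D16634 : act 8 n15956 = n16634 := rfl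
theorem F65736 : act 0 n16634 = n16082 := d7_1 D16634 (iv D16082) (iv F62983)
theorem F65737 : act 1 n16634 = n16188 := d14_1 D16634 (iv D16188) (iv F62984)
theorem F65738 : act 2 n16634 = n15969 := d20_1 D16634 (iv D15969) (iv F62985)
theorem F65739 : act 3 n16634 = n15961 := d25_1 D16634 (iv D15961) (iv F62986)
theorem F65740 : act 5 n16634 = n16183 := d32_1 D16634 (iv D16183) (iv F62987)
theorem F65741 : act 6 n16634 = n15958 := d34_1 D16634 (iv D15958) D15956
def n16635 : Q := act 8 n15957
theorem D16635 : act 8 n15957 = n16635 := rfl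
theorem F65742 : act 0 n16635 = n16083 := d7_1 D16635 (iv D16083) (iv F62988)
theorem F65743 : act 1 n16635 = n16575 := d14_1 D16635 F65439 (iv F62989)
theorem F65744 : act 2 n16635 = n15970 := d20_1 D16635 (iv D15970) (iv F62990)
theorem F65745 : act 4 n16635 = n16628 := d29_1 D16635 (iv D16628) (iv F62991)
theorem F65746 : act 5 n16635 = n15959 := d32_1 D16635 (iv D15959) (iv F62992)
def n16636 : Q := act 7 n15958
theorem D16636 : act 7 n15958 = n16636 := rfl
theorem F65747 : act 0 n16636 = n16084 := d6_1 D16636 (iv D16084) (iv F62993)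
theorem F65748 : act 2 n16636 = n15971 := d19_1 D16636 (iv D15971) (iv F62994)
theorem F65749 : act 5 n16636 = n15960 := d31_1 D16636 (iv D15960) (iv F62996)
def n16637 : Q := act 7 n15959
theorem D16637 : act 7 n15959 = n16637 := rfl
theorem F65750 : act 0 n16637 = n16085 := d6_1 D16637 (iv D16085) (iv F62997)
theorem F65751 : act 2 n16637 = n15972 := d19_1 D16637 (iv D15972) (iv F62998)
theorem F65752 : act 4 n16637 = n16006 := d28_1 D16637 (iv D16006) (iv F62999)
theorem F65753 : act 6 n16637 = n16016 := d33_1 D16637 (iv D16016) (iv F63000)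
theorem F65754 : act 8 n16637 = n15960 := d35_2 D15959 D16637 (iv D15960) (iv D15188) D15187
def n16638 : Q := act 3 n15960
theorem D16638 : act 3 n15960 = n16638 := rfl
theorem F65755 : act 0 n16638 = n16086 := d2_1 D16638 (iv D16086) (iv F63001)
theorem F65756 : act 7 n16638 = n15963 := d24_2 D15960 D16638 (iv D15963) (iv D15191) (iv F59879)
def n16639 : Q := act 7 n15961
theorem D16639 : act 7 n15961 = n16639 := rfl
theorem F65757 : act 0 n16639 = n16087 := d6_1 D16639 (iv D16087) (iv F63003)
theorem F65758 : act 1 n16639 = n16191 := d13_1 D16639 (iv D16191) (iv F63004)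
theorem F65759 : act 2 n16639 = n15965 := d19_1 D16639 (iv D15965) (iv F63005)
theorem F65760 : act 4 n16639 = n16226 := d28_1 D16639 (iv D16226) (iv F63006)
theorem F65761 : act 5 n16639 = n16184 := d31_1 D16639 (iv D16184) (iv F63007)
theorem F65762 : act 6 n16639 = n15962 := d33_1 D16639 (iv D15962) (iv F63008)
theorem F65763 : act 8 n16639 = n16216 := d35_2 D15961 D16639 (iv D16216) (iv D15482) (iv F59885)
def n16640 : Q := act 3 n15962
theorem D16640 : act 3 n15962 = n16640 := rfl
theorem F65764 : act 0 n16640 = n16088 := d2_1 D16640 (iv D16088) (iv F63009)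
theorem F65765 : act 5 n16640 = n15963 := d22_2 (iv F63012) D16640 (iv D15963)
def n16641 : Q := act 2 n15963
theorem D16641 : act 2 n15963 = n16641 := rfl
theorem F65766 : act 0 n16641 = n16089 := d1_1 D16641 (iv D16089) (iv F63013)
theorem F65767 : act 3 n16641 = n15967 := d15_2 D15963 D16641 (iv D15967) (iv D15195) (iv F59891)
def n16642 : Q := act 4 n15963
theorem D16642 : act 4 n15963 = n16642 := rfl
theorem F65768 : act 0 n16642 = n16090 := d3_1 D16642 (iv D16090) (iv F63013)
theorem F65769 : act 3 n16642 = n15964 := d21_1 D16642 (iv D15964) (iv D15192) (iv F59892) D15963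
def n16643 : Q := act 5 n15964
theorem D16643 : act 5 n15964 = n16643 := rfl
theorem F65770 : act 0 n16643 = n16091 := d4_1 D16643 (iv D16091) (iv F63014)
theorem F65771 : act 2 n16643 = n16498 := d17_1 D16643 (iv D16498) (iv F63015)
theorem F65772 : act 4 n16643 = n16230 := d26_1 D16643 (iv D16230) (iv D15494) (iv F59895) D15964
def n16644 : Q := act 2 n15966
theorem D16644 : act 2 n15966 = n16644 := rfl
theorem F65773 : act 0 n16644 = n16092 := d1_1 D16644 (iv D16092) (iv F63023)
theorem F65774 : act 1 n16644 = n16556 := d8_1 D16644 (iv D16556) F62614 (iv F60097) (iv F63024)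
theorem F65775 : act 5 n16644 = n15967 := d17_2 (iv F63025) D16644 (iv D15967)
theorem F65776 : act 6 n16644 = n16557 := d18_2 (iv F63026) D16644 F65370
theorem F65777 : act 7 n16644 = n15975 := d19_2 (iv F63027) D16644 (iv D15975)
def n16645 : Q := act 1 n15967
theorem D16645 : act 1 n15967 = n16645 := rfl
theorem F65778 : act 2 n16645 = n15996 := d8_2 D15967 D16645 (iv D15996) (iv D15234) (iv F59907)
theorem F65779 : act 4 n16645 = n16500 := d10_2 (iv F63029) D16645 (iv D16500)
theorem F65780 : act 5 n16645 = n16556 := d11_2 F65775 D16645 (iv F65774)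
theorem F65781 : act 6 n16645 = n16399 := d12_2 F65694 D16645 (iv F65691)
theorem F65782 : act 7 n16645 = n15976 := d13_2 (iv F63030) D16645 (iv D15976)
def n16646 : Q := act 7 n15969
theorem D16646 : act 7 n15969 = n16646 := rfl
theorem F65783 : act 0 n16646 = n16103 := d6_1 D16646 (iv D16103) (iv F63037)
theorem F65784 : act 1 n16646 = n16445 := d13_1 D16646 F65012 (iv F63038)
theorem F65785 : act 3 n16646 = n16583 := d24_1 D16646 F65482 F62723 F59941 (iv F63039)
theorem F65786 : act 5 n16646 = n16447 := d31_1 D16646 F65022 (iv F63040)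
theorem F65787 : act 6 n16646 = n15971 := d33_1 D16646 (iv D15971) (iv F63041)
def n16647 : Q := act 7 n15970
theorem D16647 : act 7 n15970 = n16647 := rfl
theorem F65788 : act 0 n16647 = n16104 := d6_1 D16647 (iv D16104) (iv F63042)
theorem F65789 : act 1 n16647 = n16138 := d13_1 D16647 (iv D16138) (iv F63043)
theorem F65790 : act 5 n16647 = n15972 := d31_1 D16647 (iv D15972) (iv F63045)
theorem F65791 : act 8 n16647 = n15971 := d35_2 D15970 D16647 (iv D15971) (iv D15200) D15199
def n16648 : Q := act 3 n15972
theorem D16648 : act 3 n15972 = n16648 := rfl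
theorem F65792 : act 0 n16648 = n16106 := d2_1 D16648 (iv D16106) (iv F63048)
theorem F65793 : act 1 n16648 = n16139 := d9_1 D16648 (iv D16139) (iv F63049)
theorem F65794 : act 4 n16648 = n16408 := d21_2 (iv F63050) D16648 (iv D16408) F61965 (iv F60249)
theorem F65795 : act 6 n16648 = n16020 := d23_2 (iv F63051) D16648 (iv D16020)
theorem F65796 : act 7 n16648 = n16648 := d24_2 D15972 D16648 (iv D16648) (iv D15972) F59931
theorem F65797 : act 8 n16648 = n15973 := d25_2 (iv F63052) D16648 (iv D15973)
def n16649 : Q := act 2 n15973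
theorem D16649 : act 2 n15973 = n16649 := rfl
theorem F65798 : act 0 n16649 = n16107 := d1_1 D16649 (iv D16107) (iv F63053)
theorem F65799 : act 7 n16649 = n15974 := d19_2 (iv F63054) D16649 (iv D15974)
def n16650 : Q := act 1 n15974
theorem D16650 : act 1 n15974 = n16650 := rfl
theorem F65800 : act 2 n16650 = n16431 := d8_2 D15974 D16650 F64943 (iv F62332) F62331
theorem F65801 : act 3 n16650 = n15976 := d9_2 (iv F63056) D16650 (iv D15976)
theorem F65802 : act 5 n16650 = n16569 := d11_2 F65418 D16650 (iv F65416)
theorem F65803 : act 6 n16650 = n16432 := d12_2 F65050 D16650 (iv F65046)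
theorem F65804 : act 8 n16650 = n16650 := d14_2 F63057 D16650 (iv D16650)
def n16651 : Q := act 0 n15976
theorem D16651 : act 0 n15976 = n16651 := rfl
theorem F65805 : act 1 n16651 = n16114 := d0_2 D15976 D16651 (iv D16114) (iv D15352) (iv F59949)
theorem F65806 : act 2 n16651 = n15997 := d1_2 (iv F63063) D16651 (iv D15997)
theorem F65807 : act 4 n16651 = n16512 := d3_2 (iv F63064) D16651 (iv D16512)
theorem F65808 : act 5 n16651 = n16160 := d4_2 (iv F63065) D16651 F63906
theorem F65809 : act 6 n16651 = n16448 := d5_2 (iv F63066) D16651 F65023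
theorem F65810 : act 8 n16651 = n16651 := d7_2 F63067 D16651 (iv D16651)
def n16652 : Q := act 3 n15977
theorem D16652 : act 3 n15977 = n16652 := rfl
theorem F65811 : act 0 n16652 = n16283 := d2_1 D16652 (iv D16283) (iv F63068)
theorem F65812 : act 1 n16652 = n15978 := d9_1 D16652 (iv D15978) (iv F63069)
theorem F65813 : act 4 n16652 = n16045 := d21_2 (iv F63070) D16652 (iv D16045) F60369 (iv F61162)
theorem F65814 : act 5 n16652 = n16197 := d22_2 (iv F63071) D16652 (iv D16197)
theorem F65815 : act 6 n16652 = n15982 := d23_2 (iv F63072) D16652 (iv D15982)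
theorem F65816 : act 7 n16652 = n16652 := d24_2 D15977 D16652 (iv D16652) (iv D15977) F59961
theorem F65817 : act 8 n16652 = n15989 := d25_2 (iv F63073) D16652 (iv D15989)
def n16653 : Q := act 3 n15980
theorem D16653 : act 3 n15980 = n16653 := rfl
theorem F65818 : act 0 n16653 = n15982 := d2_1 D16653 (iv D15982) (iv F63088)
theorem F65819 : act 1 n16653 = n16001 := d9_1 D16653 (iv D16001) (iv F63089)
theorem F65820 : act 4 n16653 = n16255 := d21_2 (iv F63090) D16653 (iv D16255) (iv F63166) F63165
theorem F65821 : act 5 n16653 = n16248 := d22_2 (iv F63091) D16653 (iv D16248)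
theorem F65822 : act 6 n16653 = n16283 := d23_2 (iv F63092) D16653 (iv D16283)
theorem F65823 : act 7 n16653 = n16653 := d24_2 D15980 D16653 (iv D16653) (iv D15980) F59979
theorem F65824 : act 8 n16653 = n15991 := d25_2 (iv F63093) D16653 (iv D15991)
def n16654 : Q := act 2 n15982
theorem D16654 : act 2 n15982 = n16654 := rfl
theorem F65825 : act 1 n16654 = n16513 := d8_1 D16654 (iv D16513) F62501 (iv F60000) (iv F63101)
theorem F65826 : act 5 n16654 = n16249 := d17_2 (iv F63102) D16654 (iv D16249)
theorem F65827 : act 7 n16654 = n16654 := d19_2 F63103 D16654 (iv D16654)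
theorem F65828 : act 8 n16654 = n15993 := d20_2 (iv F63104) D16654 (iv D15993)
def n16655 : Q := act 4 n15982
theorem D16655 : act 4 n15982 = n16655 := rfl
theorem F65829 : act 0 n16655 = n16255 := d3_1 D16655 (iv F65820) F65818
theorem F65830 : act 1 n16655 = n15983 := d10_1 D16655 (iv D15983) (iv F63101)
theorem F65831 : act 3 n16655 = n16044 := d21_1 D16655 F63409 (iv F63096) F63097 D15982
theorem F65832 : act 6 n16655 = n16045 := d27_2 F65815 D16655 (iv F65813)
theorem F65833 : act 7 n16655 = n16655 := d28_2 F63103 D16655 (iv D16655)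
theorem F65834 : act 8 n16655 = n15994 := d29_2 (iv F63104) D16655 (iv D15994)
theorem F65835 : act 5 n16253 = n16655 := d32_3 F65834 (iv F63178) (iv F64292)
def n16656 : Q := act 1 n15985
theorem D16656 : act 1 n15985 = n16656 := rfl
theorem F65836 : act 0 n16656 = n16128 := d0_1 D16656 F63749 F60717 F60184 (iv F63119)
theorem F65837 : act 3 n16656 = n16125 := d9_2 (iv F63120) D16656 F63733
theorem F65838 : act 4 n16656 = n16515 := d10_2 (iv F63121) D16656 (iv D16515)
theorem F65839 : act 5 n16656 = n16126 := d11_2 (iv F63122) D16656 F63739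
theorem F65840 : act 6 n16656 = n16394 := d12_2 (iv F63123) D16656 F64782
theorem F65841 : act 7 n16656 = n16656 := d13_2 F63124 D16656 (iv D16656)
theorem F65842 : act 8 n16656 = n15996 := d14_2 (iv F63125) D16656 (iv D15996)
def n16657 : Q := act 2 n15989
theorem D16657 : act 2 n15989 = n16657 := rfl
theorem F65843 : act 1 n16657 = n16254 := d8_1 D16657 (iv D16254) F61372 (iv F60043) (iv F63146)
theorem F65844 : act 4 n16657 = n16092 := d16_2 (iv F63147) D16657 (iv D16092)
theorem F65845 : act 5 n16657 = n16558 := d17_2 (iv F63148) D16657 F65373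
theorem F65846 : act 6 n16657 = n15993 := d18_2 (iv F63149) D16657 (iv D15993)
theorem F65847 : act 7 n16657 = n15998 := d19_2 (iv F63150) D16657 (iv D15998)
def n16658 : Q := act 2 n15991
theorem D16658 : act 2 n15991 = n16658 := rfl
theorem F65848 : act 0 n16658 = n15993 := d1_1 D16658 (iv D15993) (iv F63158)
theorem F65849 : act 1 n16658 = n16558 := d8_1 D16658 F65373 F62619 (iv F60213) (iv F63159)
theorem F65850 : act 4 n16658 = n16557 := d16_2 (iv F63160) D16658 F65370
theorem F65851 : act 5 n16658 = n16254 := d17_2 (iv F63161) D16658 (iv D16254)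
theorem F65852 : act 7 n16658 = n15999 := d19_2 (iv F63162) D16658 (iv D15999)
def n16659 : Q := act 4 n15993
theorem D16659 : act 4 n15993 = n16659 := rfl
theorem F65853 : act 0 n16659 = n16557 := d3_1 D16659 (iv F65850) F65848
theorem F65854 : act 1 n16659 = n16518 := d10_1 D16659 (iv D16518) (iv F63170)
theorem F65855 : act 2 n16659 = n15994 := d16_1 D16659 (iv D15994) D15993
theorem F65856 : act 6 n16659 = n16092 := d27_2 F65846 D16659 (iv F65844)
theorem F65857 : act 7 n16659 = n16000 := d28_2 (iv F63172) D16659 (iv D16000)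
theorem F65858 : act 5 n16559 = n16659 := d31_3 F65857 (iv F63212) (iv F65376)
def n16660 : Q := act 0 n15996
theorem D16660 : act 0 n15996 = n16660 := rfl
theorem F65859 : act 1 n16660 = n16002 := d0_2 D15996 D16660 (iv D16002) (iv D15253) (iv F60101)
theorem F65860 : act 3 n16660 = n16116 := d2_2 (iv F63186) D16660 F63678
theorem F65861 : act 4 n16660 = n16519 := d3_2 (iv F63187) D16660 F65278
theorem F65862 : act 5 n16660 = n16117 := d4_2 (iv F63188) D16660 F63684
theorem F65863 : act 6 n16660 = n16397 := d5_2 (iv F63189) D16660 F64796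
theorem F65864 : act 7 n16660 = n15997 := d6_2 (iv F63190) D16660 (iv D15997)
theorem F65865 : act 8 n16660 = n16128 := d7_2 F65842 D16660 (iv F65836)
def n16661 : Q := act 3 n16000
theorem D16661 : act 3 n16000 = n16661 := rfl
theorem F65866 : act 0 n16661 = n16570 := d2_1 D16661 F65411 (iv F63207)
theorem F65867 : act 1 n16661 = n16521 := d9_1 D16661 (iv D16521) (iv F63208)
theorem F65868 : act 2 n16661 = n16109 := d15_1 D16661 (iv D16109) F60572 (iv F60133) (iv F63209)
theorem F65869 : act 5 n16661 = n16572 := d22_2 F63212 D16661 F65423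
theorem F65870 : act 6 n16661 = n16110 := d23_2 (iv F63210) D16661 F63652
theorem F65871 : act 8 n16661 = n16661 := d25_2 F63211 D16661 (iv D16661)
def n16662 : Q := act 7 n16003
theorem D16662 : act 7 n16003 = n16662 := rfl
theorem F65872 : act 1 n16662 = n16152 := d13_1 D16662 (iv D16152) (iv F63227)
theorem F65873 : act 2 n16662 = n16004 := d19_1 D16662 (iv D16004) (iv F63228)
theorem F65874 : act 4 n16662 = n16629 := d28_1 D16662 (iv D16629) (iv F63230)
theorem F65875 : act 5 n16662 = n16006 := d31_1 D16662 (iv D16006) (iv F63231)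
theorem F65876 : act 6 n16662 = n16260 := d33_1 D16662 (iv D16260) (iv F63232)
def n16663 : Q := act 7 n16005
theorem D16663 : act 7 n16005 = n16663 := rfl
theorem F65877 : act 0 n16663 = n16275 := d6_1 D16663 (iv D16275) (iv F63237)
theorem F65878 : act 1 n16663 = n16006 := d13_1 D16663 (iv D16006) (iv F63238)
theorem F65879 : act 2 n16663 = n16137 := d19_1 D16663 (iv D16137) (iv F63239)
theorem F65880 : act 5 n16663 = n16152 := d31_1 D16663 (iv D16152) (iv F63241)
theorem F65881 : act 6 n16663 = n16011 := d33_1 D16663 (iv D16011) (iv F63242)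
theorem F65882 : act 8 n16663 = n16662 := d35_2 D16005 D16663 (iv D16662) (iv D16003) (iv F60243)
def n16664 : Q := act 3 n16006
theorem D16664 : act 3 n16006 = n16664 := rfl
theorem F65883 : act 2 n16664 = n16297 := d15_1 D16664 (iv D16297) F61564 (iv F60249) (iv F63243)
theorem F65884 : act 6 n16664 = n16017 := d23_2 (iv F63244) D16664 (iv D16017)
theorem F65885 : act 7 n16664 = n16025 := d24_2 D16006 D16664 (iv D16025) (iv D15275) (iv F60246)
def n16665 : Q := act 8 n16007
theorem D16665 : act 8 n16007 = n16665 := rfl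
theorem F65886 : act 0 n16665 = n16010 := d7_1 D16665 (iv D16010) (iv F63245)
theorem F65887 : act 1 n16665 = n16533 := d14_1 D16665 (iv D16533) (iv F63246)
theorem F65888 : act 2 n16665 = n16140 := d20_1 D16665 (iv D16140) (iv F63247)
theorem F65889 : act 3 n16665 = n16336 := d25_1 D16665 (iv D16336) (iv F63248)
theorem F65890 : act 4 n16665 = n16008 := d29_1 D16665 (iv D16008) D16007
theorem F65891 : act 5 n16665 = n16310 := d32_1 D16665 (iv D16310) F63251
theorem F65892 : act 6 n16665 = n16273 := d34_1 D16665 (iv D16273) (iv F63249)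
def n16666 : Q := act 7 n16008
theorem D16666 : act 7 n16008 = n16666 := rfl
theorem F65893 : act 0 n16666 = n16011 := d6_1 D16666 (iv D16011) (iv F63252)
theorem F65894 : act 2 n16666 = n16141 := d19_1 D16666 (iv D16141) (iv F63253)
theorem F65895 : act 5 n16666 = n16291 := d31_1 D16666 (iv D16291) (iv F63255)
theorem F65896 : act 6 n16666 = n16275 := d33_1 D16666 (iv D16275) (iv F63256)
def n16667 : Q := act 8 n16009
theorem D16667 : act 8 n16009 = n16667 := rfl
theorem F65897 : act 0 n16667 = n16336 := d7_1 D16667 (iv D16336) (iv F63257)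
theorem F65898 : act 1 n16667 = n16013 := d14_1 D16667 (iv D16013) (iv F63258)
theorem F65899 : act 2 n16667 = n16234 := d20_1 D16667 (iv D16234) (iv F63259)
theorem F65900 : act 3 n16667 = n16010 := d25_1 D16667 (iv D16010) D16009
theorem F65901 : act 4 n16667 = n16030 := d29_1 D16667 (iv D16030) (iv F63260)
theorem F65902 : act 5 n16667 = n16202 := d32_1 D16667 (iv D16202) (iv F63261)
theorem F65903 : act 6 n16667 = n16490 := d34_1 D16667 (iv D16490) (iv F63262)
def n16668 : Q := act 7 n16010
theorem D16668 : act 7 n16010 = n16668 := rfl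
theorem F65904 : act 1 n16668 = n16016 := d13_1 D16668 (iv D16016) (iv F63264)
theorem F65905 : act 2 n16668 = n16142 := d19_1 D16668 (iv D16142) (iv F63265)
theorem F65906 : act 4 n16668 = n16011 := d28_1 D16668 (iv D16011) (iv F63266)
theorem F65907 : act 5 n16668 = n16388 := d31_1 D16668 F64760 (iv F63267)
theorem F65908 : act 8 n16668 = n16387 := d35_2 D16010 D16668 F64759 F61855 (iv F60257)
def n16669 : Q := act 3 n16011
theorem D16669 : act 3 n16011 = n16669 := rfl
theorem F65909 : act 1 n16669 = n16017 := d9_1 D16669 (iv D16017) (iv F63268)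
theorem F65910 : act 5 n16669 = n16297 := d22_2 (iv F63270) D16669 (iv D16297)
theorem F65911 : act 7 n16669 = n16033 := d24_2 D16011 D16669 (iv D16033) (iv D15281) (iv F60261)
def n16670 : Q := act 8 n16012
theorem D16670 : act 8 n16012 = n16670 := rfl
theorem F65912 : act 0 n16670 = n16485 := d7_1 D16670 (iv D16485) (iv F63271)
theorem F65913 : act 1 n16670 = n16202 := d14_1 D16670 (iv D16202) (iv F63272)
theorem F65914 : act 2 n16670 = n16670 := d20_1 D16670 (iv D16670) F63273
theorem F65915 : act 3 n16670 = n16015 := d25_1 D16670 (iv D16015) (iv F63274)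
theorem F65916 : act 5 n16670 = n16013 := d32_1 D16670 (iv D16013) D16012
theorem F65917 : act 6 n16670 = n16214 := d34_1 D16670 (iv D16214) F63276
def n16671 : Q := act 7 n16013
theorem D16671 : act 7 n16013 = n16671 := rfl
theorem F65918 : act 2 n16671 = n16671 := d19_1 D16671 (iv D16671) F63277
theorem F65919 : act 4 n16671 = n16039 := d28_1 D16671 (iv D16039) (iv F63279)
def n16672 : Q := act 8 n16014
theorem D16672 : act 8 n16014 = n16672 := rfl
theorem F65920 : act 1 n16672 = n16189 := d14_1 D16672 (iv D16189) (iv F63280)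
theorem F65921 : act 2 n16672 = n16018 := d20_1 D16672 (iv D16018) (iv F63281)
theorem F65922 : act 3 n16672 = n16214 := d25_1 D16672 (iv D16214) (iv F63282)
theorem F65923 : act 4 n16672 = n16303 := d29_1 D16672 (iv D16303) (iv F63283)
theorem F65924 : act 6 n16672 = n16015 := d34_1 D16672 (iv D16015) D16014
def n16673 : Q := act 7 n16015
theorem D16673 : act 7 n16015 = n16673 := rfl
theorem F65925 : act 1 n16673 = n16388 := d13_1 D16673 F64760 (iv F63285)
theorem F65926 : act 2 n16673 = n16019 := d19_1 D16673 (iv D16019) (iv F63286)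
theorem F65927 : act 4 n16673 = n16304 := d28_1 D16673 (iv D16304) (iv F63287)
theorem F65928 : act 5 n16673 = n16016 := d31_1 D16673 (iv D16016) (iv F63288)
theorem F65929 : act 8 n16673 = n16390 := d35_2 D16015 D16673 F64768 F61859 (iv F60268)
def n16674 : Q := act 3 n16016
theorem D16674 : act 3 n16016 = n16674 := rfl
def n16675 : Q := act 4 n16017
theorem D16675 : act 4 n16017 = n16675 := rfl
theorem F65930 : act 2 n16675 = n16528 := d16_1 D16675 (iv D16528) (iv F63291)
theorem F65931 : act 7 n16675 = n16043 := d28_2 (iv F63293) D16675 (iv D16043)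
def n16676 : Q := act 7 n16018
theorem D16676 : act 7 n16018 = n16676 := rfl
theorem F65932 : act 1 n16676 = n16143 := d13_1 D16676 (iv D16143) (iv F63294)
theorem F65933 : act 4 n16676 = n16307 := d28_1 D16676 (iv D16307) (iv F63296)
theorem F65934 : act 6 n16676 = n16019 := d33_1 D16676 (iv D16019) (iv F63297)
theorem F65935 : act 8 n16676 = n16447 := d35_2 D16018 D16676 F65022 F62176 (iv F60276)
theorem F65936 : act 3 n16584 = n16676 := d25_3 F65935 F65020 (iv F65484)
def n16677 : Q := act 3 n16019
theorem D16677 : act 3 n16019 = n16677 := rfl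
theorem F65937 : act 1 n16677 = n16144 := d9_1 D16677 (iv D16144) (iv F63298)
theorem F65938 : act 5 n16677 = n16020 := d22_2 (iv F63300) D16677 (iv D16020)
theorem F65939 : act 6 n16677 = n16584 := d23_2 F65934 D16677 F65936
theorem F65940 : act 7 n16677 = n16677 := d24_2 D16019 D16677 (iv D16677) (iv D16019) F60278
theorem F65941 : act 8 n16677 = n16439 := d25_2 (iv F63301) D16677 F64978
def n16678 : Q := act 2 n16020
theorem D16678 : act 2 n16020 = n16678 := rfl
theorem F65942 : act 4 n16678 = n16531 := d16_2 (iv F63303) D16678 (iv D16531)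
theorem F65943 : act 7 n16678 = n16678 := d19_2 F63304 D16678 (iv D16678)
def n16679 : Q := act 3 n16021
theorem D16679 : act 3 n16021 = n16679 := rfl
theorem F65944 : act 1 n16679 = n16153 := d9_1 D16679 (iv D16153) (iv F63305)
theorem F65945 : act 2 n16679 = n16033 := d15_1 D16679 (iv D16033) F60338 (iv F60289) (iv F63306)
theorem F65946 : act 5 n16679 = n16025 := d22_2 (iv F63308) D16679 (iv D16025)
theorem F65947 : act 6 n16679 = n16264 := d23_2 (iv F63309) D16679 (iv D16264)
theorem F65948 : act 8 n16679 = n16049 := d25_2 (iv F63310) D16679 (iv D16049)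
def n16680 : Q := act 3 n16022
theorem D16680 : act 3 n16022 = n16680 := rfl
theorem F65949 : act 0 n16680 = n16278 := d2_1 D16680 (iv D16278) (iv F63311)
theorem F65950 : act 1 n16680 = n16025 := d9_1 D16680 (iv D16025) (iv F63312)
theorem F65951 : act 2 n16680 = n16264 := d15_1 D16680 (iv D16264) F61429 (iv F60592) (iv F63313)
theorem F65952 : act 5 n16680 = n16153 := d22_2 (iv F63315) D16680 (iv D16153)
theorem F65953 : act 6 n16680 = n16033 := d23_2 (iv F63316) D16680 (iv D16033)
theorem F65954 : act 8 n16680 = n16054 := d25_2 (iv F63317) D16680 (iv D16054)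
def n16681 : Q := act 7 n16023
theorem D16681 : act 7 n16023 = n16681 := rfl
theorem F65955 : act 1 n16681 = n16492 := d13_1 D16681 (iv D16492) (iv F63318)
theorem F65956 : act 2 n16681 = n16681 := d19_1 D16681 (iv D16681) F63319
theorem F65957 : act 5 n16681 = n16486 := d31_1 D16681 (iv D16486) (iv F63321)
theorem F65958 : act 6 n16681 = n16039 := d33_1 D16681 (iv D16039) (iv F63322)
def n16682 : Q := act 3 n16024
theorem D16682 : act 3 n16024 = n16682 := rfl
theorem F65959 : act 1 n16682 = n16495 := d9_1 D16682 (iv D16495) (iv F63323)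
theorem F65960 : act 5 n16682 = n16487 := d22_2 (iv F63326) D16682 (iv D16487)
theorem F65961 : act 6 n16682 = n16042 := d23_2 (iv F63327) D16682 (iv D16042)
theorem F65962 : act 8 n16682 = n16060 := d25_2 (iv F63328) D16682 (iv D16060)
def n16683 : Q := act 4 n16025
theorem D16683 : act 4 n16025 = n16683 := rfl
theorem F65963 : act 2 n16683 = n16323 := d16_1 D16683 (iv D16323) (iv F63329)
theorem F65964 : act 6 n16683 = n16043 := d27_2 (iv F63330) D16683 (iv D16043)
theorem F65965 : act 8 n16683 = n16061 := d29_2 (iv F63331) D16683 (iv D16061)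
def n16684 : Q := act 2 n16026
theorem D16684 : act 2 n16026 = n16684 := rfl
theorem F65966 : act 4 n16684 = n16395 := d16_2 (iv F63333) D16684 (iv D16395)
theorem F65967 : act 5 n16684 = n16516 := d17_2 (iv F63334) D16684 (iv D16516)
theorem F65968 : act 6 n16684 = n16046 := d18_2 (iv F63335) D16684 (iv D16046)
theorem F65969 : act 7 n16684 = n16684 := d19_2 F63336 D16684 (iv D16684)
theorem F65970 : act 8 n16684 = n16064 := d20_2 (iv F63337) D16684 (iv D16064)
def n16685 : Q := act 3 n16027
theorem D16685 : act 3 n16027 = n16685 := rfl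
theorem F65971 : act 0 n16685 = n16033 := d2_1 D16685 (iv D16033) (iv F63338)
theorem F65972 : act 5 n16685 = n16315 := d22_2 (iv F63341) D16685 (iv D16315)
theorem F65973 : act 6 n16685 = n16278 := d23_2 (iv F63342) D16685 (iv D16278)
theorem F65974 : act 8 n16685 = n16070 := d25_2 (iv F63343) D16685 (iv D16070)
def n16686 : Q := act 8 n16028
theorem D16686 : act 8 n16028 = n16686 := rfl
theorem F65975 : act 0 n16686 = n16353 := d7_1 D16686 (iv D16353) (iv F63344)
theorem F65976 : act 1 n16686 = n16037 := d14_1 D16686 (iv D16037) (iv F63345)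
theorem F65977 : act 2 n16686 = n16416 := d20_1 D16686 (iv D16416) (iv F63346)
theorem F65978 : act 3 n16686 = n16031 := d25_1 D16686 (iv D16031) (iv F63347)
theorem F65979 : act 5 n16686 = n16030 := d32_1 D16686 (iv D16030) D16028
theorem F65980 : act 6 n16686 = n16346 := d34_1 D16686 (iv D16346) (iv F63348)
def n16687 : Q := act 8 n16029
theorem D16687 : act 8 n16029 = n16687 := rfl
theorem F65981 : act 0 n16687 = n16334 := d7_1 D16687 (iv D16334) (iv F63349)
theorem F65982 : act 1 n16687 = n16038 := d14_1 D16687 (iv D16038) (iv F63350)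
theorem F65983 : act 2 n16687 = n16232 := d20_1 D16687 (iv D16232) (iv F63351)
theorem F65984 : act 3 n16687 = n16075 := d25_1 D16687 (iv D16075) (iv F63352)
theorem F65985 : act 4 n16687 = n16201 := d29_1 D16687 (iv D16201) (iv F63353)
theorem F65986 : act 6 n16687 = n16491 := d34_1 D16687 (iv D16491) (iv F63354)
def n16688 : Q := act 7 n16030
theorem D16688 : act 7 n16030 = n16688 := rfl
theorem F65987 : act 0 n16688 = n16543 := d6_1 D16688 (iv D16543) (iv F63355)
theorem F65988 : act 1 n16688 = n16039 := d13_1 D16688 (iv D16039) (iv F63356)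
theorem F65989 : act 2 n16688 = n16502 := d19_1 D16688 (iv D16502) (iv F63357)
theorem F65990 : act 6 n16688 = n16492 := d33_1 D16688 (iv D16492) (iv F63359)
def n16689 : Q := act 7 n16031
theorem D16689 : act 7 n16031 = n16689 := rfl
theorem F65991 : act 0 n16689 = n16358 := d6_1 D16689 (iv D16358) (iv F63360)
theorem F65992 : act 1 n16689 = n16041 := d13_1 D16689 (iv D16041) (iv F63361)
theorem F65993 : act 2 n16689 = n16116 := d19_1 D16689 (iv D16116) (iv F63362)
theorem F65994 : act 4 n16689 = n16321 := d28_1 D16689 (iv D16321) (iv F63363)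
theorem F65995 : act 5 n16689 = n16032 := d31_1 D16689 (iv D16032) (iv F63364)
theorem F65996 : act 6 n16689 = n16349 := d33_1 D16689 (iv D16349) (iv F63365)
theorem F65997 : act 8 n16689 = n16078 := d35_2 D16031 D16689 (iv D16078) (iv D15317) (iv F60331)
def n16690 : Q := act 3 n16032
theorem D16690 : act 3 n16032 = n16690 := rfl
theorem F65998 : act 0 n16690 = n16549 := d2_1 D16690 (iv D16549) (iv F63366)
theorem F65999 : act 1 n16690 = n16042 := d9_1 D16690 (iv D16042) (iv F63367)
theorem F66000 : act 6 n16690 = n16495 := d23_2 (iv F63370) D16690 (iv D16495)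
theorem F66001 : act 8 n16690 = n16079 := d25_2 (iv F63371) D16690 (iv D16079)
def n16691 : Q := act 4 n16033
theorem D16691 : act 4 n16033 = n16691 := rfl
theorem F66002 : act 1 n16691 = n16043 := d10_1 D16691 (iv D16043) (iv F63372)
theorem F66003 : act 8 n16691 = n16080 := d29_2 (iv F63374) D16691 (iv D16080)
def n16692 : Q := act 8 n16034
theorem D16692 : act 8 n16034 = n16692 := rfl
theorem F66004 : act 2 n16692 = n16692 := d20_1 D16692 (iv D16692) F63375
theorem F66005 : act 3 n16692 = n16324 := d25_1 D16692 (iv D16324) (iv F63376)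
theorem F66006 : act 4 n16692 = n16037 := d29_1 D16692 (iv D16037) D16034
def n16693 : Q := act 8 n16035
theorem D16693 : act 8 n16035 = n16693 := rfl
theorem F66007 : act 0 n16693 = n16213 := d7_1 D16693 (iv D16213) (iv F63377)
theorem F66008 : act 1 n16693 = n16346 := d14_1 D16693 (iv D16346) (iv F63378)
theorem F66009 : act 2 n16693 = n16693 := d20_1 D16693 (iv D16693) F63379
theorem F66010 : act 3 n16693 = n16040 := d25_1 D16693 (iv D16040) (iv F63380)
theorem F66011 : act 5 n16693 = n16208 := d32_1 D16693 (iv D16208) (iv F63381)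
theorem F66012 : act 6 n16693 = n16037 := d34_1 D16693 (iv D16037) D16035
def n16694 : Q := act 8 n16036
theorem D16694 : act 8 n16036 = n16694 := rfl
theorem F66013 : act 2 n16694 = n16694 := d20_1 D16694 (iv D16694) F63383
theorem F66014 : act 3 n16694 = n16083 := d25_1 D16694 (iv D16083) (iv F63384)
theorem F66015 : act 4 n16694 = n16693 := d29_1 D16694 (iv D16693) (iv F63385)
theorem F66016 : act 5 n16694 = n16038 := d32_1 D16694 (iv D16038) (iv F63386)
theorem F66017 : act 6 n16694 = n16692 := d34_1 D16694 (iv D16692) (iv F63387)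
def n16695 : Q := act 7 n16037
theorem D16695 : act 7 n16037 = n16695 := rfl
theorem F66018 : act 2 n16695 = n16695 := d19_1 D16695 (iv D16695) F63388
theorem F66019 : act 5 n16695 = n16039 := d31_1 D16695 (iv D16039) (iv F63390)
def n16696 : Q := act 7 n16038
theorem D16696 : act 7 n16038 = n16696 := rfl
theorem F66020 : act 2 n16696 = n16696 := d19_1 D16696 (iv D16696) F63391
theorem F66021 : act 8 n16696 = n16039 := d35_2 D16038 D16696 (iv D16039) (iv D15284) D15283
def n16697 : Q := act 3 n16039
theorem D16697 : act 3 n16039 = n16697 := rfl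
theorem F66022 : act 7 n16697 = n16042 := d24_2 D16039 D16697 (iv D16042) (iv D15287) (iv F60346)
def n16698 : Q := act 7 n16040
theorem D16698 : act 7 n16040 = n16698 := rfl
theorem F66023 : act 0 n16698 = n16216 := d6_1 D16698 (iv D16216) (iv F63394)
theorem F66024 : act 1 n16698 = n16349 := d13_1 D16698 (iv D16349) (iv F63395)
theorem F66025 : act 2 n16698 = n16044 := d19_1 D16698 (iv D16044) (iv F63396)
theorem F66026 : act 4 n16698 = n16330 := d28_1 D16698 (iv D16330) (iv F63397)
theorem F66027 : act 5 n16698 = n16209 := d31_1 D16698 (iv D16209) (iv F63398)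
theorem F66028 : act 6 n16698 = n16041 := d33_1 D16698 (iv D16041) (iv F63399)
theorem F66029 : act 8 n16698 = n16087 := d35_2 D16040 D16698 (iv D16087) (iv D15326) (iv F60352)
def n16699 : Q := act 3 n16041
theorem D16699 : act 3 n16041 = n16699 := rfl
theorem F66030 : act 5 n16699 = n16042 := d22_2 (iv F63402) D16699 (iv D16042)
theorem F66031 : act 8 n16699 = n16088 := d25_2 (iv F63403) D16699 (iv D16088)
def n16700 : Q := act 2 n16042
theorem D16700 : act 2 n16042 = n16700 := rfl
theorem F66032 : act 3 n16700 = n16046 := d15_2 D16042 D16700 (iv D16046) (iv D15291) (iv F60356)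
theorem F66033 : act 8 n16700 = n16089 := d20_2 (iv F63404) D16700 (iv D16089)
def n16701 : Q := act 4 n16042
theorem D16701 : act 4 n16042 = n16701 := rfl
theorem F66034 : act 3 n16701 = n16043 := d21_1 D16701 (iv D16043) (iv D15288) (iv F60357) D16042
theorem F66035 : act 8 n16701 = n16090 := d29_2 (iv F63404) D16701 (iv D16090)
def n16702 : Q := act 5 n16043
theorem D16702 : act 5 n16043 = n16702 := rfl
theorem F66036 : act 2 n16702 = n16540 := d17_1 D16702 (iv D16540) (iv F63405)
theorem F66037 : act 4 n16702 = n16333 := d26_1 D16702 (iv D16333) (iv D15611) (iv F60360) D16043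
theorem F66038 : act 8 n16702 = n16091 := d32_2 (iv F63406) D16702 (iv D16091)
def n16703 : Q := act 2 n16045
theorem D16703 : act 2 n16045 = n16703 := rfl
theorem F66039 : act 5 n16703 = n16046 := d17_2 (iv F63414) D16703 (iv D16046)
theorem F66040 : act 7 n16703 = n16703 := d19_2 F63415 D16703 (iv D16703)
theorem F66041 : act 8 n16703 = n16092 := d20_2 (iv F63416) D16703 (iv D16092)
def n16704 : Q := act 1 n16046
theorem D16704 : act 1 n16046 = n16704 := rfl
theorem F66042 : act 2 n16704 = n16119 := d8_2 D16046 D16704 (iv D16119) (iv D15362) (iv F60372)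
theorem F66043 : act 4 n16704 = n16256 := d10_2 (iv F63417) D16704 F64300
theorem F66044 : act 7 n16704 = n16704 := d13_2 F63418 D16704 (iv D16704)
theorem F66045 : act 8 n16704 = n16093 := d14_2 (iv F63419) D16704 (iv D16093)
def n16705 : Q := act 7 n16047
theorem D16705 : act 7 n16047 = n16705 := rfl
theorem F66046 : act 1 n16705 = n16146 := d13_1 D16705 (iv D16146) (iv F63420)
theorem F66047 : act 2 n16705 = n16705 := d19_1 D16705 (iv D16705) F63421
theorem F66048 : act 5 n16705 = n16472 := d31_1 D16705 (iv D16472) (iv F63423)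
theorem F66049 : act 6 n16705 = n16269 := d33_1 D16705 (iv D16269) (iv F63424)
theorem F66050 : act 8 n16705 = n16591 := d35_2 D16047 D16705 (iv D16591) (iv D15911) (iv F60380)
def n16706 : Q := act 3 n16048
theorem D16706 : act 3 n16048 = n16706 := rfl
theorem F66051 : act 1 n16706 = n16147 := d9_1 D16706 (iv D16147) (iv F63425)
theorem F66052 : act 5 n16706 = n16479 := d22_2 (iv F63428) D16706 (iv D16479)
theorem F66053 : act 6 n16706 = n16271 := d23_2 (iv F63429) D16706 (iv D16271)
theorem F66054 : act 8 n16706 = n16151 := d25_2 (iv F63430) D16706 (iv D16151)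
def n16707 : Q := act 4 n16049
theorem D16707 : act 4 n16049 = n16707 := rfl
theorem F66055 : act 1 n16707 = n16266 := d10_1 D16707 (iv D16266) (iv F63431)
theorem F66056 : act 2 n16707 = n16080 := d16_1 D16707 (iv D16080) (iv F63432)
theorem F66057 : act 6 n16707 = n16272 := d27_2 (iv F63434) D16707 (iv D16272)
def n16708 : Q := act 2 n16050
theorem D16708 : act 2 n16050 = n16708 := rfl
theorem F66058 : act 1 n16708 = n16249 := d8_1 D16708 (iv D16249) F61341 (iv F60648) (iv F63435)
theorem F66059 : act 4 n16708 = n16129 := d16_2 (iv F63436) D16708 (iv D16129)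
theorem F66060 : act 5 n16708 = n16513 := d17_2 (iv F63437) D16708 (iv D16513)
theorem F66061 : act 6 n16708 = n16284 := d18_2 (iv F63438) D16708 (iv D16284)
theorem F66062 : act 7 n16708 = n16708 := d19_2 F63439 D16708 (iv D16708)
theorem F66063 : act 8 n16708 = n16157 := d20_2 (iv F63440) D16708 (iv D16157)
def n16709 : Q := act 3 n16051
theorem D16709 : act 3 n16051 = n16709 := rfl
theorem F66064 : act 0 n16709 = n16054 := d2_1 D16709 (iv D16054) (iv F63441)
theorem F66065 : act 2 n16709 = n16196 := d15_1 D16709 (iv D16196) F61121 (iv F60656) (iv F63442)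
theorem F66066 : act 5 n16709 = n16149 := d22_2 (iv F63444) D16709 (iv D16149)
theorem F66067 : act 6 n16709 = n16070 := d23_2 (iv F63445) D16709 (iv D16070)
theorem F66068 : act 7 n16709 = n16618 := d24_2 D16051 D16709 (iv D16618) (iv D15939) (iv F60397)
theorem F66069 : act 8 n16709 = n16278 := d25_2 (iv F63446) D16709 (iv D16278)
def n16710 : Q := act 7 n16052
theorem D16710 : act 7 n16052 = n16710 := rfl
theorem F66070 : act 0 n16710 = n16534 := d6_1 D16710 (iv D16534) (iv F63447)
theorem F66071 : act 1 n16710 = n16057 := d13_1 D16710 (iv D16057) (iv F63448)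
theorem F66072 : act 2 n16710 = n16710 := d19_1 D16710 (iv D16710) F63449
theorem F66073 : act 4 n16710 = n16705 := d28_1 D16710 (iv D16705) (iv F63451)
theorem F66074 : act 5 n16710 = n16481 := d31_1 D16710 (iv D16481) (iv F63452)
theorem F66075 : act 6 n16710 = n16076 := d33_1 D16710 (iv D16076) (iv F63453)
def n16711 : Q := act 3 n16053
theorem D16711 : act 3 n16053 = n16711 := rfl
theorem F66076 : act 0 n16711 = n16537 := d2_1 D16711 (iv D16537) (iv F63454)
theorem F66077 : act 1 n16711 = n16060 := d9_1 D16711 (iv D16060) (iv F63455)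
theorem F66078 : act 5 n16711 = n16482 := d22_2 (iv F63458) D16711 (iv D16482)
theorem F66079 : act 6 n16711 = n16079 := d23_2 (iv F63459) D16711 (iv D16079)
theorem F66080 : act 8 n16711 = n16495 := d25_2 (iv F63460) D16711 (iv D16495)
def n16712 : Q := act 4 n16054
theorem D16712 : act 4 n16054 = n16712 := rfl
theorem F66081 : act 1 n16712 = n16061 := d10_1 D16712 (iv D16061) (iv F63461)
theorem F66082 : act 2 n16712 = n16272 := d16_1 D16712 (iv D16272) (iv F63462)
theorem F66083 : act 6 n16712 = n16080 := d27_2 (iv F63464) D16712 (iv D16080)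
theorem F66084 : act 7 n16712 = n16707 := d28_2 (iv F63465) D16712 (iv D16707)
def n16713 : Q := act 8 n16055
theorem D16713 : act 8 n16055 = n16713 := rfl
theorem F66085 : act 0 n16713 = n16183 := d7_1 D16713 (iv D16183) (iv F63466)
theorem F66086 : act 1 n16713 = n16313 := d14_1 D16713 (iv D16313) (iv F63467)
theorem F66087 : act 2 n16713 = n16094 := d20_1 D16713 (iv D16094) (iv F63468)
theorem F66088 : act 3 n16713 = n16058 := d25_1 D16713 (iv D16058) (iv F63469)
theorem F66089 : act 5 n16713 = n16082 := d32_1 D16713 (iv D16082) (iv F63470)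
theorem F66090 : act 6 n16713 = n16056 := d34_1 D16713 (iv D16056) D16055
def n16714 : Q := act 7 n16056
theorem D16714 : act 7 n16056 = n16714 := rfl
theorem F66091 : act 0 n16714 = n16390 := d6_1 D16714 F64768 (iv F63471)
theorem F66092 : act 1 n16714 = n16481 := d13_1 D16714 (iv D16481) (iv F63472)
theorem F66093 : act 2 n16714 = n16095 := d19_1 D16714 (iv D16095) (iv F63473)
theorem F66094 : act 5 n16714 = n16057 := d31_1 D16714 (iv D16057) (iv F63475)
def n16715 : Q := act 3 n16057
theorem D16715 : act 3 n16057 = n16715 := rfl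
theorem F66095 : act 6 n16715 = n16086 := d23_2 (iv F63477) D16715 (iv D16086)
theorem F66096 : act 7 n16715 = n16060 := d24_2 D16057 D16715 (iv D16060) (iv D15304) (iv F60422)
def n16716 : Q := act 7 n16058
theorem D16716 : act 7 n16058 = n16716 := rfl
theorem F66097 : act 0 n16716 = n16184 := d6_1 D16716 (iv D16184) (iv F63478)
theorem F66098 : act 1 n16716 = n16314 := d13_1 D16716 (iv D16314) (iv F63479)
theorem F66099 : act 2 n16716 = n16062 := d19_1 D16716 (iv D16062) (iv F63480)
theorem F66100 : act 4 n16716 = n16182 := d28_1 D16716 (iv D16182) (iv F63481)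
theorem F66101 : act 5 n16716 = n16087 := d31_1 D16716 (iv D16087) (iv F63482)
theorem F66102 : act 6 n16716 = n16059 := d33_1 D16716 (iv D16059) (iv F63483)
theorem F66103 : act 8 n16716 = n16209 := d35_2 D16058 D16716 (iv D16209) (iv D15477) (iv F60429)
def n16717 : Q := act 3 n16059
theorem D16717 : act 3 n16059 = n16717 := rfl
theorem F66104 : act 0 n16717 = n16373 := d2_1 D16717 F64703 (iv F63484)
theorem F66105 : act 1 n16717 = n16482 := d9_1 D16717 (iv D16482) (iv F63485)
theorem F66106 : act 5 n16717 = n16060 := d22_2 (iv F63488) D16717 (iv D16060)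
theorem F66107 : act 8 n16717 = n16487 := d25_2 (iv F63489) D16717 (iv D16487)
def n16718 : Q := act 2 n16060
theorem D16718 : act 2 n16060 = n16718 := rfl
theorem F66108 : act 3 n16718 = n16064 := d15_2 D16060 D16718 (iv D16064) (iv D15308) (iv F60435)
theorem F66109 : act 6 n16718 = n16089 := d18_2 (iv F63490) D16718 (iv D16089)
def n16719 : Q := act 4 n16060
theorem D16719 : act 4 n16060 = n16719 := rfl
theorem F66110 : act 3 n16719 = n16061 := d21_1 D16719 (iv D16061) (iv D15305) (iv F60436) D16060
theorem F66111 : act 6 n16719 = n16090 := d27_2 (iv F63490) D16719 (iv D16090)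
def n16720 : Q := act 5 n16061
theorem D16720 : act 5 n16061 = n16720 := rfl
theorem F66112 : act 2 n16720 = n16362 := d17_1 D16720 (iv D16362) (iv F63491)
def n16721 : Q := act 2 n16063
theorem D16721 : act 2 n16063 = n16721 := rfl
theorem F66113 : act 0 n16721 = n16401 := d1_1 D16721 F64808 (iv F63500)
theorem F66114 : act 5 n16721 = n16064 := d17_2 (iv F63502) D16721 (iv D16064)
theorem F66115 : act 6 n16721 = n16559 := d18_2 (iv F63503) D16721 F65375
theorem F66116 : act 7 n16721 = n16099 := d19_2 (iv F63504) D16721 (iv D16099)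
theorem F66117 : act 8 n16721 = n16516 := d20_2 (iv F63505) D16721 (iv D16516)
def n16722 : Q := act 4 n16063
theorem D16722 : act 4 n16063 = n16722 := rfl
theorem F66118 : act 0 n16722 = n16124 := d3_1 D16722 F63729 (iv F63500)
theorem F66119 : act 1 n16722 = n16123 := d10_1 D16722 (iv D16123) (iv F63501)
theorem F66120 : act 3 n16722 = n16514 := d21_1 D16722 (iv D16514) (iv D15827) (iv F60448) D16063
theorem F66121 : act 5 n16722 = n16400 := d26_2 (iv F63502) D16722 (iv D16400) F61895 (iv F60452)
theorem F66122 : act 6 n16722 = n16135 := d27_2 (iv F63503) D16722 F63784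
theorem F66123 : act 7 n16722 = n16100 := d28_2 (iv F63504) D16722 (iv D16100)
theorem F66124 : act 8 n16722 = n16517 := d29_2 (iv F63505) D16722 (iv D16517)
def n16723 : Q := act 1 n16064
theorem D16723 : act 1 n16064 = n16723 := rfl
theorem F66125 : act 2 n16723 = n16124 := d8_2 D16064 D16723 (iv D16124) (iv D15369) (iv F60451)
theorem F66126 : act 4 n16723 = n16401 := d10_2 (iv F63506) D16723 (iv D16401)
theorem F66127 : act 6 n16723 = n16093 := d12_2 (iv F63507) D16723 (iv D16093)
theorem F66128 : act 7 n16723 = n16101 := d13_2 (iv F63508) D16723 (iv D16101)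
def n16724 : Q := act 8 n16065
theorem D16724 : act 8 n16065 = n16724 := rfl
theorem F66129 : act 0 n16724 = n16074 := d7_1 D16724 (iv D16074) (iv F63509)
theorem F66130 : act 1 n16724 = n16325 := d14_1 D16724 (iv D16325) (iv F63510)
theorem F66131 : act 2 n16724 = n16724 := d20_1 D16724 (iv D16724) F63511
theorem F66132 : act 3 n16724 = n16068 := d25_1 D16724 (iv D16068) (iv F63512)
theorem F66133 : act 5 n16724 = n16067 := d32_1 D16724 (iv D16067) D16065
theorem F66134 : act 6 n16724 = n16318 := d34_1 D16724 (iv D16318) (iv F63513)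
def n16725 : Q := act 8 n16066
theorem D16725 : act 8 n16066 = n16725 := rfl
theorem F66135 : act 0 n16725 = n16075 := d7_1 D16725 (iv D16075) (iv F63514)
theorem F66136 : act 1 n16725 = n16273 := d14_1 D16725 (iv D16273) (iv F63515)
theorem F66137 : act 2 n16725 = n16725 := d20_1 D16725 (iv D16725) F63516
theorem F66138 : act 3 n16725 = n16334 := d25_1 D16725 (iv D16334) (iv F63517)
theorem F66139 : act 4 n16725 = n16267 := d29_1 D16725 (iv D16267) (iv F63518)
theorem F66140 : act 6 n16725 = n16533 := d34_1 D16725 (iv D16533) (iv F63519)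
def n16726 : Q := act 7 n16067
theorem D16726 : act 7 n16067 = n16726 := rfl
theorem F66141 : act 0 n16726 = n16076 := d6_1 D16726 (iv D16076) (iv F63520)
theorem F66142 : act 2 n16726 = n16726 := d19_1 D16726 (iv D16726) F63521
theorem F66143 : act 6 n16726 = n16534 := d33_1 D16726 (iv D16534) (iv F63523)
def n16727 : Q := act 7 n16068
theorem D16727 : act 7 n16068 = n16727 := rfl
theorem F66144 : act 0 n16727 = n16078 := d6_1 D16727 (iv D16078) (iv F63524)
theorem F66145 : act 1 n16727 = n16330 := d13_1 D16727 (iv D16330) (iv F63525)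
theorem F66146 : act 2 n16727 = n16125 := d19_1 D16727 (iv D16125) (iv F63526)
theorem F66147 : act 4 n16727 = n16349 := d28_1 D16727 (iv D16349) (iv F63527)
theorem F66148 : act 5 n16727 = n16069 := d31_1 D16727 (iv D16069) (iv F63528)
theorem F66149 : act 6 n16727 = n16321 := d33_1 D16727 (iv D16321) (iv F63529)
theorem F66150 : act 8 n16727 = n16358 := d35_2 D16068 D16727 (iv D16358) (iv D15636) (iv F60463)
def n16728 : Q := act 3 n16069
theorem D16728 : act 3 n16069 = n16728 := rfl
theorem F66151 : act 0 n16728 = n16079 := d2_1 D16728 (iv D16079) (iv F63530)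
theorem F66152 : act 6 n16728 = n16537 := d23_2 (iv F63533) D16728 (iv D16537)
theorem F66153 : act 8 n16728 = n16549 := d25_2 (iv F63534) D16728 (iv D16549)
def n16729 : Q := act 4 n16070
theorem D16729 : act 4 n16070 = n16729 := rfl
theorem F66154 : act 0 n16729 = n16080 := d3_1 D16729 (iv D16080) (iv F63535)
def n16730 : Q := act 8 n16071
theorem D16730 : act 8 n16071 = n16730 := rfl
theorem F66155 : act 1 n16730 = n16081 := d14_1 D16730 (iv D16081) (iv F63537)
theorem F66156 : act 2 n16730 = n16730 := d20_1 D16730 (iv D16730) F63538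
theorem F66157 : act 3 n16730 = n16352 := d25_1 D16730 (iv D16352) (iv F63539)
theorem F66158 : act 4 n16730 = n16074 := d29_1 D16730 (iv D16074) D16071
theorem F66159 : act 5 n16730 = n16725 := d32_1 D16730 (iv D16725) (iv F63540)
def n16731 : Q := act 8 n16072
theorem D16731 : act 8 n16072 = n16731 := rfl
theorem F66160 : act 0 n16731 = n16318 := d7_1 D16731 (iv D16318) (iv F63542)
theorem F66161 : act 1 n16731 = n16082 := d14_1 D16731 (iv D16082) (iv F63543)
theorem F66162 : act 2 n16731 = n16731 := d20_1 D16731 (iv D16731) F63544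
theorem F66163 : act 3 n16731 = n16077 := d25_1 D16731 (iv D16077) (iv F63545)
theorem F66164 : act 5 n16731 = n16313 := d32_1 D16731 (iv D16313) (iv F63546)
theorem F66165 : act 6 n16731 = n16074 := d34_1 D16731 (iv D16074) D16072
def n16732 : Q := act 8 n16073
theorem D16732 : act 8 n16073 = n16732 := rfl
theorem F66166 : act 0 n16732 = n16730 := d7_1 D16732 (iv D16730) (iv F63547)
theorem F66167 : act 1 n16732 = n16083 := d14_1 D16732 (iv D16083) (iv F63548)
theorem F66168 : act 2 n16732 = n16732 := d20_1 D16732 (iv D16732) F63549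
theorem F66169 : act 4 n16732 = n16724 := d29_1 D16732 (iv D16724) (iv F63550)
theorem F66170 : act 5 n16732 = n16075 := d32_1 D16732 (iv D16075) (iv F63551)
def n16733 : Q := act 7 n16074
theorem D16733 : act 7 n16074 = n16733 := rfl
theorem F66171 : act 1 n16733 = n16084 := d13_1 D16733 (iv D16084) (iv F63552)
theorem F66172 : act 2 n16733 = n16733 := d19_1 D16733 (iv D16733) F63553
theorem F66173 : act 5 n16733 = n16076 := d31_1 D16733 (iv D16076) (iv F63555)
def n16734 : Q := act 7 n16075
theorem D16734 : act 7 n16075 = n16734 := rfl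
theorem F66174 : act 1 n16734 = n16085 := d13_1 D16734 (iv D16085) (iv F63556)
theorem F66175 : act 2 n16734 = n16734 := d19_1 D16734 (iv D16734) F63557
theorem F66176 : act 8 n16734 = n16076 := d35_2 D16075 D16734 (iv D16076) (iv D15315) D15314
def n16735 : Q := act 3 n16076
theorem D16735 : act 3 n16076 = n16735 := rfl
theorem F66177 : act 1 n16735 = n16086 := d9_1 D16735 (iv D16086) (iv F63558)
theorem F66178 : act 7 n16735 = n16079 := d24_2 D16076 D16735 (iv D16079) (iv D15318) (iv F60478)
def n16736 : Q := act 7 n16077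
theorem D16736 : act 7 n16077 = n16736 := rfl
theorem F66179 : act 0 n16736 = n16321 := d6_1 D16736 (iv D16321) (iv F63560)
theorem F66180 : act 1 n16736 = n16087 := d13_1 D16736 (iv D16087) (iv F63561)
theorem F66181 : act 2 n16736 = n16127 := d19_1 D16736 (iv D16127) (iv F63562)
theorem F66182 : act 4 n16736 = n16358 := d28_1 D16736 (iv D16358) (iv F63563)
theorem F66183 : act 5 n16736 = n16314 := d31_1 D16736 (iv D16314) (iv F63564)
theorem F66184 : act 6 n16736 = n16078 := d33_1 D16736 (iv D16078) (iv F63565)
theorem F66185 : act 8 n16736 = n16349 := d35_2 D16077 D16736 (iv D16349) (iv D15627) (iv F60484)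
def n16737 : Q := act 3 n16078
theorem D16737 : act 3 n16078 = n16737 := rfl
theorem F66186 : act 1 n16737 = n16088 := d9_1 D16737 (iv D16088) (iv F63566)
theorem F66187 : act 5 n16737 = n16079 := d22_2 (iv F63569) D16737 (iv D16079)
def n16738 : Q := act 2 n16079
theorem D16738 : act 2 n16079 = n16738 := rfl
theorem F66188 : act 3 n16738 = n16129 := d15_2 D16079 D16738 (iv D16129) (iv D15374) (iv F60490)
def n16739 : Q := act 4 n16079
theorem D16739 : act 4 n16079 = n16739 := rfl
theorem F66189 : act 1 n16739 = n16090 := d10_1 D16739 (iv D16090) (iv F63570)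
theorem F66190 : act 3 n16739 = n16080 := d21_1 D16739 (iv D16080) (iv D15319) (iv F60491) D16079
def n16740 : Q := act 5 n16080
theorem D16740 : act 5 n16080 = n16740 := rfl
theorem F66191 : act 1 n16740 = n16091 := d11_1 D16740 (iv D16091) (iv F63571)
theorem F66192 : act 4 n16740 = n16362 := d26_1 D16740 (iv D16362) (iv D15639) (iv F60493) D16080
def n16741 : Q := act 7 n16081
theorem D16741 : act 7 n16081 = n16741 := rfl
theorem F66193 : act 2 n16741 = n16102 := d19_1 D16741 (iv D16102) (iv F63572)
theorem F66194 : act 4 n16741 = n16084 := d28_1 D16741 (iv D16084) (iv F63574)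
def n16742 : Q := act 7 n16082
theorem D16742 : act 7 n16082 = n16742 := rfl
theorem F66195 : act 2 n16742 = n16103 := d19_1 D16742 (iv D16103) (iv F63575)
theorem F66196 : act 6 n16742 = n16084 := d33_1 D16742 (iv D16084) (iv F63577)
def n16743 : Q := act 7 n16083
theorem D16743 : act 7 n16083 = n16743 := rfl
theorem F66197 : act 2 n16743 = n16104 := d19_1 D16743 (iv D16104) (iv F63578)
theorem F66198 : act 5 n16743 = n16085 := d31_1 D16743 (iv D16085) (iv F63579)
theorem F66199 : act 8 n16743 = n16084 := d35_2 D16083 D16743 (iv D16084) (iv D15323) D15322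
def n16744 : Q := act 3 n16084
theorem D16744 : act 3 n16084 = n16744 := rfl
theorem F66200 : act 5 n16744 = n16086 := d22_2 (iv F63581) D16744 (iv D16086)
theorem F66201 : act 7 n16744 = n16088 := d24_2 D16084 D16744 (iv D16088) (iv D15327) (iv F60501)
def n16745 : Q := act 3 n16085
theorem D16745 : act 3 n16085 = n16745 := rfl
theorem F66202 : act 8 n16745 = n16086 := d25_2 (iv F63583) D16745 (iv D16086)
def n16746 : Q := act 2 n16086
theorem D16746 : act 2 n16086 = n16746 := rfl
theorem F66203 : act 3 n16746 = n16107 := d15_2 D16086 D16746 (iv D16107) (iv D15346) (iv F60504)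
theorem F66204 : act 7 n16746 = n16089 := d19_2 (iv F63584) D16746 (iv D16089)
def n16747 : Q := act 4 n16086
theorem D16747 : act 4 n16086 = n16747 := rfl
theorem F66205 : act 7 n16747 = n16090 := d28_2 (iv F63584) D16747 (iv D16090)
def n16748 : Q := act 3 n16087
theorem D16748 : act 3 n16087 = n16748 := rfl
theorem F66206 : act 6 n16748 = n16088 := d23_2 (iv F63587) D16748 (iv D16088)
def n16749 : Q := act 2 n16088
theorem D16749 : act 2 n16088 = n16749 := rfl
theorem F66207 : act 3 n16749 = n16092 := d15_2 D16088 D16749 (iv D16092) (iv D15331) (iv F60508)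
theorem F66208 : act 5 n16749 = n16089 := d17_2 (iv F63588) D16749 (iv D16089)
def n16750 : Q := act 4 n16088
theorem D16750 : act 4 n16088 = n16750 := rfl
theorem F66209 : act 3 n16750 = n16372 := d21_1 D16750 (iv D16372) (iv D15647) (iv F60509) D16088
def n16751 : Q := act 1 n16089
theorem D16751 : act 1 n16089 = n16751 := rfl
theorem F66210 : act 3 n16751 = n16093 := d9_2 (iv F63589) D16751 (iv D16093)
def n16752 : Q := act 4 n16089
theorem D16752 : act 4 n16089 = n16752 := rfl
theorem F66211 : act 2 n16752 = n16090 := d16_1 D16752 (iv D16090) D16089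
theorem F66212 : act 3 n16752 = n16553 := d21_1 D16752 (iv D16553) F62611 (iv F60518) (iv F63589)
def n16753 : Q := act 5 n16090
theorem D16753 : act 5 n16090 = n16753 := rfl
theorem F66213 : act 3 n16753 = n16091 := d22_1 D16753 (iv D16091) (iv F63590)
def n16754 : Q := act 6 n16091
theorem D16754 : act 6 n16091 = n16754 := rfl
theorem F66214 : act 2 n16754 = n16555 := d18_1 D16754 (iv D16555) (iv F63591)
theorem F66215 : act 4 n16754 = n16376 := d27_1 D16754 (iv D16376) (iv F63592)
def n16755 : Q := act 1 n16092
theorem D16755 : act 1 n16092 = n16755 := rfl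
theorem F66216 : act 2 n16755 = n16134 := d8_2 D16092 D16755 (iv D16134) (iv D15378) (iv F60515)
theorem F66217 : act 4 n16755 = n16254 := d10_2 F65844 D16755 (iv F65843)
theorem F66218 : act 5 n16755 = n16093 := d11_2 (iv F63593) D16755 (iv D16093)
theorem F66219 : act 6 n16755 = n16518 := d12_2 F65856 D16755 (iv F65854)
theorem F66220 : act 7 n16755 = n16113 := d13_2 (iv F63594) D16755 (iv D16113)
theorem F66221 : act 0 n16257 = n16755 := d6_3 F66220 (iv F63666) (iv F64304)
def n16756 : Q := act 0 n16093
theorem D16756 : act 0 n16093 = n16756 := rfl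
theorem F66222 : act 2 n16756 = n16135 := d1_2 (iv F63595) D16756 (iv D16135)
theorem F66223 : act 4 n16756 = n16559 := d3_2 (iv F63596) D16756 (iv D16559)
theorem F66224 : act 5 n16756 = n16257 := d4_2 F66218 D16756 F66221
theorem F66225 : act 7 n16756 = n16114 := d6_2 (iv F63597) D16756 (iv D16114)
def n16757 : Q := act 7 n16094
theorem D16757 : act 7 n16094 = n16757 := rfl
theorem F66226 : act 0 n16757 = n16447 := d6_1 D16757 F65022 (iv F63598)
theorem F66227 : act 1 n16757 = n16757 := d13_1 D16757 (iv D16757) F63599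
theorem F66228 : act 3 n16757 = n16586 := d24_1 D16757 F65492 F62729 F60536 (iv F63600)
theorem F66229 : act 5 n16757 = n16103 := d31_1 D16757 (iv D16103) (iv F63601)
theorem F66230 : act 6 n16757 = n16095 := d33_1 D16757 (iv D16095) (iv F63602)
def n16758 : Q := act 3 n16095
theorem D16758 : act 3 n16095 = n16758 := rfl
theorem F66231 : act 0 n16758 = n16439 := d2_1 D16758 F64978 (iv F63603)
theorem F66232 : act 1 n16758 = n16758 := d9_1 D16758 (iv D16758) F63604
theorem F66233 : act 5 n16758 = n16096 := d22_2 (iv F63605) D16758 (iv D16096)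
theorem F66234 : act 6 n16758 = n16586 := d23_2 F66230 D16758 (iv F66228)
theorem F66235 : act 7 n16758 = n16097 := d24_2 D16095 D16758 (iv D16097) (iv D15337) (iv F60526)
def n16759 : Q := act 2 n16096
theorem D16759 : act 2 n16096 = n16759 := rfl
theorem F66236 : act 6 n16759 = n16107 := d18_2 (iv F63607) D16759 (iv D16107)
theorem F66237 : act 7 n16759 = n16098 := d19_2 (iv F63608) D16759 (iv D16098)
def n16760 : Q := act 2 n16097
theorem D16760 : act 2 n16097 = n16760 := rfl
theorem F66238 : act 0 n16760 = n16433 := d1_1 D16760 F64950 (iv F63609)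
theorem F66239 : act 3 n16760 = n16099 := d15_2 D16097 D16760 (iv D16099) (iv D15339) (iv F60539)
theorem F66240 : act 5 n16760 = n16098 := d17_2 (iv F63611) D16760 (iv D16098)
theorem F66241 : act 6 n16760 = n16572 := d18_2 (iv F63612) D16760 F65422
theorem F66242 : act 8 n16760 = n16760 := d20_2 F63613 D16760 (iv D16760)
def n16761 : Q := act 4 n16097
theorem D16761 : act 4 n16097 = n16761 := rfl
theorem F66243 : act 0 n16761 = n16441 := d3_1 D16761 (iv D16441) (iv F63609)
theorem F66244 : act 1 n16761 = n16761 := d10_1 D16761 (iv D16761) F63610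
theorem F66245 : act 3 n16761 = n16761 := d21_1 D16761 (iv D16761) (iv D16097) F60540 D16097
theorem F66246 : act 6 n16761 = n16588 := d27_2 (iv F63612) D16761 (iv D16588)
theorem F66247 : act 8 n16761 = n16761 := d29_2 F63613 D16761 (iv D16761)
def n16762 : Q := act 1 n16098
theorem D16762 : act 1 n16098 = n16762 := rfl
theorem F66248 : act 2 n16762 = n16762 := d8_2 D16098 D16762 (iv D16762) (iv D16098) F60544
theorem F66249 : act 3 n16762 = n16101 := d9_2 (iv F63614) D16762 (iv D16101)
theorem F66250 : act 6 n16762 = n16111 := d12_2 (iv F63615) D16762 (iv D16111)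
theorem F66251 : act 8 n16762 = n16762 := d14_2 F63616 D16762 (iv D16762)
def n16763 : Q := act 1 n16099
theorem D16763 : act 1 n16099 = n16763 := rfl
theorem F66252 : act 0 n16763 = n16449 := d0_1 D16763 (iv D16449) F62200 D15754 (iv F63617)
theorem F66253 : act 2 n16763 = n16136 := d8_2 D16099 D16763 (iv D16136) (iv D15380) (iv F60548)
theorem F66254 : act 5 n16763 = n16101 := d11_2 (iv F63618) D16763 (iv D16101)
theorem F66255 : act 6 n16763 = n16512 := d12_2 (iv F63619) D16763 F65261
theorem F66256 : act 8 n16763 = n16763 := d14_2 F63620 D16763 (iv D16763)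
theorem F66257 : act 4 n16448 = n16763 := d27_3 F66255 (iv F65807) F65809
def n16764 : Q := act 4 n16099
theorem D16764 : act 4 n16099 = n16764 := rfl
theorem F66258 : act 0 n16764 = n16101 := d3_1 D16764 F63628 (iv F63617)
theorem F66259 : act 1 n16764 = n16448 := d10_1 D16764 F66257 (iv D16763)
theorem F66260 : act 2 n16764 = n16100 := d16_1 D16764 (iv D16100) D16099
theorem F66261 : act 5 n16764 = n16449 := d26_2 (iv F63618) D16764 F65027 F62203 (iv F60552)
theorem F66262 : act 6 n16764 = n16114 := d27_2 (iv F63619) D16764 F63668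
theorem F66263 : act 8 n16764 = n16764 := d29_2 F63620 D16764 (iv D16764)
def n16765 : Q := act 3 n16103
theorem D16765 : act 3 n16103 = n16765 := rfl
theorem F66264 : act 0 n16765 = n16583 := d2_1 D16765 (iv F65785) F65783
theorem F66265 : act 1 n16765 = n16765 := d9_1 D16765 (iv D16765) F63633
theorem F66266 : act 5 n16765 = n16586 := d22_2 F66229 D16765 (iv F66228)
theorem F66267 : act 6 n16765 = n16105 := d23_2 (iv F63634) D16765 (iv D16105)
theorem F66268 : act 7 n16765 = n16109 := d24_2 D16103 D16765 (iv D16109) (iv D15347) (iv F60559)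
def n16766 : Q := act 3 n16104
theorem D16766 : act 3 n16104 = n16766 := rfl
theorem F66269 : act 1 n16766 = n16766 := d9_1 D16766 (iv D16766) F63635
theorem F66270 : act 5 n16766 = n16106 := d22_2 (iv F63636) D16766 (iv D16106)
theorem F66271 : act 7 n16766 = n16766 := d24_2 D16104 D16766 (iv D16766) (iv D16104) F60562
theorem F66272 : act 8 n16766 = n16105 := d25_2 (iv F63637) D16766 (iv D16105)
def n16767 : Q := act 2 n16105
theorem D16767 : act 2 n16105 = n16767 := rfl
theorem F66273 : act 5 n16767 = n16107 := d17_2 (iv F63639) D16767 (iv D16107)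
theorem F66274 : act 7 n16767 = n16110 := d19_2 (iv F63640) D16767 (iv D16110)
def n16768 : Q := act 2 n16106
theorem D16768 : act 2 n16106 = n16768 := rfl
theorem F66275 : act 7 n16768 = n16768 := d19_2 F63642 D16768 (iv D16768)
theorem F66276 : act 8 n16768 = n16107 := d20_2 (iv F63643) D16768 (iv D16107)
def n16769 : Q := act 4 n16106
theorem D16769 : act 4 n16106 = n16769 := rfl
theorem F66277 : act 0 n16769 = n16408 := d3_1 D16769 (iv F65794) F65792
theorem F66278 : act 1 n16769 = n16769 := d10_1 D16769 (iv D16769) F63641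
theorem F66279 : act 3 n16769 = n16406 := d21_1 D16769 F64837 F61951 F61506 D16106
theorem F66280 : act 6 n16769 = n16478 := d27_2 F65546 D16769 (iv F65545)
theorem F66281 : act 7 n16769 = n16769 := d28_2 F63642 D16769 (iv D16769)
theorem F66282 : act 8 n16769 = n16108 := d29_2 (iv F63643) D16769 (iv D16108)
def n16770 : Q := act 1 n16107
theorem D16770 : act 1 n16107 = n16770 := rfl
theorem F66283 : act 2 n16770 = n16770 := d8_2 D16107 D16770 (iv D16770) (iv D16107) F60568
theorem F66284 : act 7 n16770 = n16111 := d13_2 (iv F63644) D16770 (iv D16111)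
def n16771 : Q := act 4 n16107
theorem D16771 : act 4 n16107 = n16771 := rfl
theorem F66285 : act 2 n16771 = n16108 := d16_1 D16771 (iv D16108) D16107
theorem F66286 : act 7 n16771 = n16112 := d28_2 (iv F63644) D16771 (iv D16112)
def n16772 : Q := act 1 n16110
theorem D16772 : act 1 n16110 = n16772 := rfl
theorem F66287 : act 2 n16772 = n16772 := d8_2 D16110 D16772 (iv D16772) (iv D16110) F60577
theorem F66288 : act 3 n16772 = n16113 := d9_2 (iv F63652) D16772 (iv D16113)
theorem F66289 : act 5 n16772 = n16111 := d11_2 (iv F63653) D16772 (iv D16111)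
theorem F66290 : act 6 n16772 = n16521 := d12_2 F65870 D16772 (iv F65867)
theorem F66291 : act 8 n16772 = n16772 := d14_2 F63654 D16772 (iv D16772)
theorem F66292 : act 0 n16259 = n16772 := d2_3 F66288 (iv F63666) D16259
def n16773 : Q := act 0 n16111
theorem D16773 : act 0 n16111 = n16773 := rfl
theorem F66293 : act 2 n16773 = n16773 := d1_2 F63655 D16773 (iv D16773)
theorem F66294 : act 3 n16773 = n16114 := d2_2 (iv F63656) D16773 (iv D16114)
theorem F66295 : act 5 n16773 = n16259 := d4_2 F66289 D16773 F66292
theorem F66296 : act 8 n16773 = n16773 := d7_2 F63657 D16773 (iv D16773)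
def n16774 : Q := act 4 n16111
theorem D16774 : act 4 n16111 = n16774 := rfl
theorem F66297 : act 1 n16774 = n16112 := d10_1 D16774 (iv D16112) D16111
theorem F66298 : act 2 n16774 = n16774 := d16_1 D16774 (iv D16774) F63655
theorem F66299 : act 3 n16774 = n16573 := d21_1 D16774 (iv D16573) F62653 (iv F60588) (iv F63656)
theorem F66300 : act 8 n16774 = n16774 := d29_2 F63657 D16774 (iv D16774)
def n16775 : Q := act 1 n16115
theorem D16775 : act 1 n16115 = n16775 := rfl
theorem F66301 : act 0 n16775 = n16517 := d0_1 D16775 F65273 F62518 F60765 (iv F63671)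
theorem F66302 : act 3 n16775 = n16252 := d9_2 (iv F63672) D16775 F64284
theorem F66303 : act 4 n16775 = n16250 := d10_2 (iv F63673) D16775 F64276
theorem F66304 : act 5 n16775 = n16520 := d11_2 (iv F63674) D16775 (iv D16520)
theorem F66305 : act 6 n16775 = n16119 := d12_2 (iv F63675) D16775 (iv D16119)
theorem F66306 : act 7 n16775 = n16775 := d13_2 F63676 D16775 (iv D16775)
theorem F66307 : act 8 n16775 = n16124 := d14_2 (iv F63677) D16775 (iv D16124)
def n16776 : Q := act 2 n16117
theorem D16776 : act 2 n16117 = n16776 := rfl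
theorem F66308 : act 0 n16776 = n16556 := d1_1 D16776 (iv D16556) (iv F63684)
theorem F66309 : act 1 n16776 = n16257 := d8_1 D16776 F64303 F61381 F60631 (iv F63685)
theorem F66310 : act 4 n16776 = n16157 := d16_2 (iv F63686) D16776 (iv D16157)
theorem F66311 : act 6 n16776 = n16499 := d18_2 (iv F63687) D16776 (iv D16499)
theorem F66312 : act 7 n16776 = n16160 := d19_2 (iv F63688) D16776 F63908
theorem F66313 : act 8 n16776 = n16129 := d20_2 (iv F63689) D16776 (iv D16129)
def n16777 : Q := act 1 n16118
theorem D16777 : act 1 n16118 = n16777 := rfl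
theorem F66314 : act 0 n16777 = n16133 := d0_1 D16777 (iv D16133) F60720 (iv F60766) (iv F63690)
theorem F66315 : act 3 n16777 = n16135 := d9_2 (iv F63691) D16777 F63783
theorem F66316 : act 4 n16777 = n16248 := d10_2 (iv F63692) D16777 F64269
theorem F66317 : act 5 n16777 = n16119 := d11_2 (iv F63693) D16777 (iv D16119)
theorem F66318 : act 6 n16777 = n16514 := d12_2 (iv F63694) D16777 F65267
theorem F66319 : act 7 n16777 = n16777 := d13_2 F63695 D16777 (iv D16777)
theorem F66320 : act 8 n16777 = n16134 := d14_2 (iv F63696) D16777 (iv D16134)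
def n16778 : Q := act 0 n16119
theorem D16778 : act 0 n16119 = n16778 := rfl
theorem F66321 : act 1 n16778 = n16131 := d0_2 D16119 D16778 F63760 (iv D15387) (iv F60642)
theorem F66322 : act 3 n16778 = n16134 := d2_2 (iv F63697) D16778 F63778
theorem F66323 : act 4 n16778 = n16253 := d3_2 (iv F63698) D16778 F64288
theorem F66324 : act 5 n16778 = n16133 := d4_2 F66317 D16778 (iv F66314)
theorem F66325 : act 6 n16778 = n16517 := d5_2 F66305 D16778 (iv F66301)
theorem F66326 : act 7 n16778 = n16778 := d6_2 F63699 D16778 (iv D16778)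
theorem F66327 : act 8 n16778 = n16135 := d7_2 (iv F63700) D16778 (iv D16135)
def n16779 : Q := act 2 n16120
theorem D16779 : act 2 n16120 = n16779 := rfl
theorem F66328 : act 0 n16779 = n16541 := d1_1 D16779 (iv D16541) (iv F63701)
theorem F66329 : act 4 n16779 = n16284 := d16_2 (iv F63703) D16779 (iv D16284)
theorem F66330 : act 5 n16779 = n16484 := d17_2 (iv F63704) D16779 (iv D16484)
theorem F66331 : act 6 n16779 = n16129 := d18_2 (iv F63705) D16779 (iv D16129)
theorem F66332 : act 7 n16779 = n16779 := d19_2 F63706 D16779 (iv D16779)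
theorem F66333 : act 8 n16779 = n16499 := d20_2 (iv F63707) D16779 (iv D16499)
def n16780 : Q := act 1 n16121
theorem D16780 : act 1 n16121 = n16780 := rfl
theorem F66334 : act 0 n16780 = n16514 := d0_1 D16780 F65267 F62504 (iv F60780) (iv F63708)
theorem F66335 : act 3 n16780 = n16124 := d9_2 (iv F63709) D16780 (iv D16124)
theorem F66336 : act 4 n16780 = n16247 := d10_2 (iv F63710) D16780 F64264
theorem F66337 : act 5 n16780 = n16515 := d11_2 (iv F63711) D16780 (iv D16515)
theorem F66338 : act 6 n16780 = n16133 := d12_2 (iv F63712) D16780 (iv D16133)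
theorem F66339 : act 7 n16780 = n16780 := d13_2 F63713 D16780 (iv D16780)
theorem F66340 : act 8 n16780 = n16252 := d14_2 (iv F63714) D16780 F64284
def n16781 : Q := act 1 n16122
theorem D16781 : act 1 n16122 = n16781 := rfl
theorem F66341 : act 0 n16781 = n16400 := d0_1 D16781 F64805 F61899 (iv F60787) (iv F63715)
theorem F66342 : act 3 n16781 = n16515 := d9_2 (iv F63716) D16781 (iv D16515)
theorem F66343 : act 4 n16781 = n16397 := d10_2 F63721 D16781 F64797
theorem F66344 : act 5 n16781 = n16124 := d11_2 (iv F63717) D16781 (iv D16124)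
theorem F66345 : act 6 n16781 = n16519 := d12_2 (iv F63718) D16781 F65279
theorem F66346 : act 7 n16781 = n16136 := d13_2 (iv F63719) D16781 (iv D16136)
theorem F66347 : act 8 n16781 = n16520 := d14_2 (iv F63720) D16781 (iv D16520)
def n16782 : Q := act 2 n16126
theorem D16782 : act 2 n16126 = n16782 := rfl
theorem F66348 : act 0 n16782 = n16129 := d1_1 D16782 (iv D16129) (iv F63738)
theorem F66349 : act 6 n16782 = n16541 := d18_2 (iv F63740) D16782 (iv D16541)
theorem F66350 : act 7 n16782 = n16782 := d19_2 F63741 D16782 (iv D16782)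
theorem F66351 : act 8 n16782 = n16556 := d20_2 (iv F63742) D16782 (iv D16556)
def n16783 : Q := act 3 n16127
theorem D16783 : act 3 n16127 = n16783 := rfl
theorem F66352 : act 0 n16783 = n16394 := d2_1 D16783 (iv D16394) (iv F63743)
theorem F66353 : act 1 n16783 = n16130 := d9_1 D16783 (iv D16130) (iv F63744)
theorem F66354 : act 4 n16783 = n16520 := d21_2 (iv F63745) D16783 F65281 (iv F63187) F63186
theorem F66355 : act 5 n16783 = n16393 := d22_2 (iv F63746) D16783 (iv D16393)
theorem F66356 : act 6 n16783 = n16128 := d23_2 (iv F63747) D16783 (iv D16128)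
theorem F66357 : act 7 n16783 = n16783 := d24_2 D16127 D16783 (iv D16783) (iv D16127) F60702
theorem F66358 : act 8 n16783 = n16397 := d25_2 (iv F63748) D16783 (iv D16397)
def n16784 : Q := act 2 n16128
theorem D16784 : act 2 n16128 = n16784 := rfl
theorem F66359 : act 5 n16784 = n16129 := d17_2 (iv F63750) D16784 (iv D16129)
theorem F66360 : act 7 n16784 = n16784 := d19_2 F63751 D16784 (iv D16784)
def n16785 : Q := act 4 n16128
theorem D16785 : act 4 n16128 = n16785 := rfl
theorem F66361 : act 0 n16785 = n16515 := d3_1 D16785 (iv F65838) F65836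
theorem F66362 : act 1 n16785 = n16132 := d10_1 D16785 (iv D16132) (iv F63749)
theorem F66363 : act 3 n16785 = n16400 := d21_1 D16785 (iv D16400) (iv D15681) (iv F60707) D16128
theorem F66364 : act 5 n16785 = n16514 := d26_2 (iv F63750) D16785 (iv D16514) (iv F63437) F63436
theorem F66365 : act 6 n16785 = n16520 := d27_2 F66356 D16785 (iv F66354)
theorem F66366 : act 7 n16785 = n16785 := d28_2 F63751 D16785 (iv D16785)
theorem F66367 : act 8 n16785 = n16519 := d29_2 F65865 D16785 (iv F65861)
def n16786 : Q := act 1 n16129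
theorem D16786 : act 1 n16129 = n16786 := rfl
theorem F66368 : act 2 n16786 = n16133 := d8_2 D16129 D16786 (iv D16133) (iv D15377) (iv F60709)
theorem F66369 : act 4 n16786 = n16249 := d10_2 F66059 D16786 (iv F66058)
theorem F66370 : act 7 n16786 = n16786 := d13_2 F63752 D16786 (iv D16786)
theorem F66371 : act 8 n16786 = n16257 := d14_2 F66313 D16786 (iv F66309)
def n16787 : Q := act 7 n16140
theorem D16787 : act 7 n16140 = n16787 := rfl
theorem F66372 : act 0 n16787 = n16142 := d6_1 D16787 (iv D16142) (iv F63806)
theorem F66373 : act 1 n16787 = n16787 := d13_1 D16787 (iv D16787) F63807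
theorem F66374 : act 3 n16787 = n16239 := d24_1 D16787 (iv D16239) F61281 (iv F61515) (iv F63808)
theorem F66375 : act 4 n16787 = n16141 := d28_1 D16787 (iv D16141) (iv F63809)
theorem F66376 : act 5 n16787 = n16241 := d31_1 D16787 F64233 (iv F63810)
theorem F66377 : act 6 n16787 = n16281 := d33_1 D16787 (iv D16281) (iv F63811)
theorem F66378 : act 8 n16787 = n16240 := d35_2 D16140 D16787 F64228 F61306 (iv F60869)
def n16788 : Q := act 4 n16144
theorem D16788 : act 4 n16144 = n16788 := rfl
theorem F66379 : act 0 n16788 = n16788 := d3_1 D16788 (iv D16788) F63827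
theorem F66380 : act 2 n16788 = n16438 := d16_1 D16788 (iv D16438) (iv F63828)
theorem F66381 : act 3 n16788 = n16413 := d21_1 D16788 (iv D16413) (iv D15702) (iv F60895) D16144
theorem F66382 : act 5 n16788 = n16579 := d26_2 (iv F63829) D16788 (iv D16579) F62687 (iv F60899)
theorem F66383 : act 6 n16788 = n16585 := d27_2 (iv F63830) D16788 (iv D16585)
theorem F66384 : act 7 n16788 = n16788 := d28_2 F63831 D16788 (iv D16788)
theorem F66385 : act 8 n16788 = n16440 := d29_2 (iv F63832) D16788 (iv D16440)
def n16789 : Q := act 1 n16145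
theorem D16789 : act 1 n16145 = n16789 := rfl
theorem F66386 : act 3 n16789 = n16426 := d9_2 (iv F63834) D16789 F64924
theorem F66387 : act 4 n16789 = n16580 := d10_2 (iv F63835) D16789 (iv D16580)
theorem F66388 : act 5 n16789 = n16428 := d11_2 (iv F63836) D16789 F64933
theorem F66389 : act 7 n16789 = n16789 := d13_2 F63837 D16789 (iv D16789)
theorem F66390 : act 8 n16789 = n16427 := d14_2 (iv F63838) D16789 F64929
def n16790 : Q := act 3 n16146
theorem D16790 : act 3 n16146 = n16790 := rfl
theorem F66391 : act 0 n16790 = n16262 := d2_1 D16790 (iv D16262) (iv F63839)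
theorem F66392 : act 2 n16790 = n16176 := d15_1 D16790 (iv D16176) F61048 (iv F60909) (iv F63840)
theorem F66393 : act 5 n16790 = n16476 := d22_2 (iv F63842) D16790 (iv D16476)
theorem F66394 : act 6 n16790 = n16277 := d23_2 (iv F63843) D16790 (iv D16277)
theorem F66395 : act 7 n16790 = n16147 := d24_2 D16146 D16790 (iv D16147) (iv D15413) (iv F60903)
theorem F66396 : act 8 n16790 = n16595 := d25_2 (iv F63844) D16790 (iv D16595)
def n16791 : Q := act 4 n16147
theorem D16791 : act 4 n16147 = n16791 := rfl
theorem F66397 : act 0 n16791 = n16265 := d3_1 D16791 (iv D16265) (iv F63845)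
theorem F66398 : act 2 n16791 = n16193 := d16_1 D16791 (iv D16193) (iv F63846)
theorem F66399 : act 3 n16791 = n16266 := d21_1 D16791 (iv D16266) (iv D15545) (iv F60916) D16147
theorem F66400 : act 6 n16791 = n16279 := d27_2 (iv F63848) D16791 (iv D16279)
theorem F66401 : act 8 n16791 = n16154 := d29_2 (iv F63849) D16791 (iv D16154)
def n16792 : Q := act 3 n16148
theorem D16792 : act 3 n16148 = n16792 := rfl
theorem F66402 : act 1 n16792 = n16149 := d9_1 D16792 (iv D16149) (iv F63850)
theorem F66403 : act 6 n16792 = n16151 := d23_2 (iv F63853) D16792 (iv D16151)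
theorem F66404 : act 7 n16792 = n16621 := d24_2 D16148 D16792 (iv D16621) (iv D15942) (iv F60922)
theorem F66405 : act 8 n16792 = n16271 := d25_2 (iv F63854) D16792 (iv D16271)
def n16793 : Q := act 4 n16149
theorem D16793 : act 4 n16149 = n16793 := rfl
theorem F66406 : act 0 n16793 = n16266 := d3_1 D16793 (iv D16266) (iv F63855)
theorem F66407 : act 2 n16793 = n16206 := d16_1 D16793 (iv D16206) (iv F63856)
theorem F66408 : act 3 n16793 = n16265 := d21_1 D16793 (iv D16265) (iv D15544) (iv F60927) D16149
theorem F66409 : act 6 n16793 = n16154 := d27_2 (iv F63857) D16793 (iv D16154)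
theorem F66410 : act 7 n16793 = n16623 := d28_2 (iv F63858) D16793 (iv D16623)
theorem F66411 : act 8 n16793 = n16279 := d29_2 (iv F63859) D16793 (iv D16279)
def n16794 : Q := act 3 n16150
theorem D16794 : act 3 n16150 = n16794 := rfl
theorem F66412 : act 0 n16794 = n16151 := d2_1 D16794 (iv D16151) (iv F63860)
theorem F66413 : act 1 n16794 = n16196 := d9_1 D16794 (iv D16196) (iv F63861)
theorem F66414 : act 5 n16794 = n16200 := d22_2 (iv F63863) D16794 (iv D16200)
theorem F66415 : act 7 n16794 = n16627 := d24_2 D16150 D16794 (iv D16627) (iv D15948) (iv F60933)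
def n16795 : Q := act 2 n16151
theorem D16795 : act 2 n16151 = n16795 := rfl
theorem F66416 : act 1 n16795 = n16218 := d8_1 D16795 (iv D16218) F61193 (iv F60949) (iv F63864)
theorem F66417 : act 3 n16795 = n16157 := d15_2 D16151 D16795 (iv D16157) (iv D15425) (iv F60936)
theorem F66418 : act 5 n16795 = n16488 := d17_2 (iv F63865) D16795 (iv D16488)
theorem F66419 : act 7 n16795 = n16632 := d19_2 (iv F63866) D16795 (iv D16632)
def n16796 : Q := act 4 n16151
theorem D16796 : act 4 n16151 = n16796 := rfl
theorem F66420 : act 1 n16796 = n16154 := d10_1 D16796 (iv D16154) (iv F63864)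
theorem F66421 : act 7 n16796 = n16633 := d28_2 (iv F63866) D16796 (iv D16633)
def n16797 : Q := act 3 n16152
theorem D16797 : act 3 n16152 = n16797 := rfl
theorem F66422 : act 0 n16797 = n16277 := d2_1 D16797 (iv D16277) (iv F63867)
theorem F66423 : act 2 n16797 = n16287 := d15_1 D16797 (iv D16287) F61538 (iv F60954) (iv F63868)
theorem F66424 : act 6 n16797 = n16262 := d23_2 (iv F63870) D16797 (iv D16262)
theorem F66425 : act 7 n16797 = n16153 := d24_2 D16152 D16797 (iv D16153) (iv D15419) (iv F60940)
theorem F66426 : act 8 n16797 = n16664 := d25_2 (iv F63871) D16797 (iv D16664)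
def n16798 : Q := act 4 n16153
theorem D16798 : act 4 n16153 = n16798 := rfl
theorem F66427 : act 0 n16798 = n16279 := d3_1 D16798 (iv D16279) (iv F63872)
theorem F66428 : act 2 n16798 = n16311 := d16_1 D16798 (iv D16311) (iv F63873)
theorem F66429 : act 3 n16798 = n16154 := d21_1 D16798 (iv D16154) (iv D15420) (iv F60945) D16153
theorem F66430 : act 6 n16798 = n16265 := d27_2 (iv F63874) D16798 (iv D16265)
theorem F66431 : act 8 n16798 = n16266 := d29_2 (iv F63875) D16798 (iv D16266)
def n16799 : Q := act 5 n16154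
theorem D16799 : act 5 n16154 = n16799 := rfl
theorem F66432 : act 0 n16799 = n16280 := d4_1 D16799 (iv D16280) (iv F63876)
theorem F66433 : act 2 n16799 = n16230 := d17_1 D16799 (iv D16230) (iv F63877)
theorem F66434 : act 4 n16799 = n16498 := d26_1 D16799 (iv D16498) (iv D15812) (iv F60950) D16154
theorem F66435 : act 7 n16799 = n16643 := d31_2 (iv F63878) D16799 (iv D16643)
def n16800 : Q := act 2 n16155
theorem D16800 : act 2 n16155 = n16800 := rfl
theorem F66436 : act 0 n16800 = n16558 := d1_1 D16800 F65373 (iv F63879)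
theorem F66437 : act 1 n16800 = n16251 := d8_1 D16800 (iv D16251) F61354 (iv F60963) (iv F63880)
theorem F66438 : act 4 n16800 = n16499 := d16_2 (iv F63881) D16800 (iv D16499)
theorem F66439 : act 6 n16800 = n16157 := d18_2 (iv F63882) D16800 (iv D16157)
theorem F66440 : act 7 n16800 = n16158 := d19_2 (iv F63883) D16800 (iv D16158)
theorem F66441 : act 8 n16800 = n16284 := d20_2 (iv F63884) D16800 (iv D16284)
def n16801 : Q := act 2 n16156
theorem D16801 : act 2 n16156 = n16801 := rfl
theorem F66442 : act 0 n16801 = n16157 := d1_1 D16801 (iv D16157) (iv F63885)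
theorem F66443 : act 4 n16801 = n16556 := d16_2 (iv F63887) D16801 (iv D16556)
theorem F66444 : act 5 n16801 = n16251 := d17_2 (iv F63888) D16801 (iv D16251)
theorem F66445 : act 6 n16801 = n16558 := d18_2 (iv F63889) D16801 F65373
theorem F66446 : act 7 n16801 = n16159 := d19_2 (iv F63890) D16801 (iv D16159)
def n16802 : Q := act 3 n16160
theorem D16802 : act 3 n16160 = n16802 := rfl
theorem F66447 : act 0 n16802 = n16569 := d2_1 D16802 F65407 (iv F63906)
theorem F66448 : act 1 n16802 = n16259 := d9_1 D16802 (iv D16259) (iv F63907)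
theorem F66449 : act 2 n16802 = n16508 := d15_1 D16802 (iv D16508) F62478 (iv F60991) (iv F63908)
theorem F66450 : act 4 n16802 = n16661 := d21_2 D16160 D16802 (iv D16661) (iv D16000) (iv F60986)
theorem F66451 : act 6 n16802 = n16509 := d23_2 (iv F63909) D16802 F65248
theorem F66452 : act 8 n16802 = n16802 := d25_2 F63910 D16802 (iv D16802)
def n16803 : Q := act 7 n16161
theorem D16803 : act 7 n16161 = n16803 := rfl
theorem F66453 : act 0 n16803 = n16260 := d6_1 D16803 (iv D16260) (iv F63911)
theorem F66454 : act 2 n16803 = n16162 := d19_1 D16803 (iv D16162) (iv F63912)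
theorem F66455 : act 5 n16803 = n16165 := d31_1 D16803 (iv D16165) (iv F63914)
theorem F66456 : act 8 n16803 = n16666 := d35_2 D16161 D16803 (iv D16666) (iv D16008) (iv F61002)
def n16804 : Q := act 7 n16163
theorem D16804 : act 7 n16163 = n16804 := rfl
theorem F66457 : act 0 n16804 = n16472 := d6_1 D16804 (iv D16472) (iv F63920)
theorem F66458 : act 1 n16804 = n16165 := d13_1 D16804 (iv D16165) (iv F63921)
theorem F66459 : act 2 n16804 = n16804 := d19_1 D16804 (iv D16804) F63922
theorem F66460 : act 6 n16804 = n16171 := d33_1 D16804 (iv D16171) (iv F63924)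
def n16805 : Q := act 7 n16164
theorem D16805 : act 7 n16164 = n16805 := rfl
theorem F66461 : act 0 n16805 = n16286 := d6_1 D16805 (iv D16286) (iv F63925)
theorem F66462 : act 2 n16805 = n16166 := d19_1 D16805 (iv D16166) (iv F63926)
theorem F66463 : act 4 n16805 = n16165 := d28_1 D16805 (iv D16165) (iv F63928)
theorem F66464 : act 6 n16805 = n16175 := d33_1 D16805 (iv D16175) (iv F63929)
def n16806 : Q := act 3 n16165
theorem D16806 : act 3 n16165 = n16806 := rfl
theorem F66465 : act 0 n16806 = n16287 := d2_1 D16806 (iv D16287) (iv F63930)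
theorem F66466 : act 2 n16806 = n16277 := d15_1 D16806 (iv D16277) F61480 (iv F61026) (iv F63931)
theorem F66467 : act 6 n16806 = n16176 := d23_2 (iv F63932) D16806 (iv D16176)
theorem F66468 : act 7 n16806 = n16181 := d24_2 D16165 D16806 (iv D16181) (iv D15450) (iv F61017)
def n16807 : Q := act 8 n16167
theorem D16807 : act 8 n16167 = n16807 := rfl
theorem F66469 : act 0 n16807 = n16170 := d7_1 D16807 (iv D16170) (iv F63938)
theorem F66470 : act 1 n16807 = n16290 := d14_1 D16807 (iv D16290) (iv F63939)
theorem F66471 : act 2 n16807 = n16807 := d20_1 D16807 (iv D16807) F63940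
theorem F66472 : act 4 n16807 = n16168 := d29_1 D16807 (iv D16168) D16167
theorem F66473 : act 5 n16807 = n16523 := d32_1 D16807 (iv D16523) (iv F63941)
theorem F66474 : act 6 n16807 = n16471 := d34_1 D16807 (iv D16471) (iv F63942)
def n16808 : Q := act 7 n16168
theorem D16808 : act 7 n16168 = n16808 := rfl
theorem F66475 : act 0 n16808 = n16171 := d6_1 D16808 (iv D16171) (iv F63944)
theorem F66476 : act 1 n16808 = n16291 := d13_1 D16808 (iv D16291) (iv F63945)
theorem F66477 : act 2 n16808 = n16808 := d19_1 D16808 (iv D16808) F63946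
theorem F66478 : act 6 n16808 = n16472 := d33_1 D16808 (iv D16472) (iv F63948)
theorem F66479 : act 8 n16808 = n16804 := d35_2 D16168 D16808 (iv D16804) (iv D16163) (iv F61032)
def n16809 : Q := act 8 n16169
theorem D16809 : act 8 n16169 = n16809 := rfl
theorem F66480 : act 0 n16809 = n16523 := d7_1 D16809 (iv D16523) (iv F63949)
theorem F66481 : act 1 n16809 = n16174 := d14_1 D16809 (iv D16174) (iv F63950)
theorem F66482 : act 2 n16809 = n16809 := d20_1 D16809 (iv D16809) F63951
theorem F66483 : act 4 n16809 = n16480 := d29_1 D16809 (iv D16480) (iv F63952)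
theorem F66484 : act 5 n16809 = n16170 := d32_1 D16809 (iv D16170) D16169
def n16810 : Q := act 7 n16170
theorem D16810 : act 7 n16170 = n16810 := rfl
theorem F66485 : act 1 n16810 = n16175 := d13_1 D16810 (iv D16175) (iv F63954)
theorem F66486 : act 2 n16810 = n16810 := d19_1 D16810 (iv D16810) F63955
theorem F66487 : act 4 n16810 = n16171 := d28_1 D16810 (iv D16171) (iv F63956)
def n16811 : Q := act 3 n16171
theorem D16811 : act 3 n16171 = n16811 := rfl
theorem F66488 : act 1 n16811 = n16176 := d9_1 D16811 (iv D16176) (iv F63957)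
theorem F66489 : act 7 n16811 = n16185 := d24_2 D16171 D16811 (iv D16185) (iv D15454) (iv F61037)
def n16812 : Q := act 8 n16172
theorem D16812 : act 8 n16172 = n16812 := rfl
theorem F66490 : act 0 n16812 = n16301 := d7_1 D16812 (iv D16301) (iv F63959)
theorem F66491 : act 1 n16812 = n16303 := d14_1 D16812 (iv D16303) (iv F63960)
theorem F66492 : act 2 n16812 = n16407 := d20_1 D16812 (iv D16407) (iv F63961)
theorem F66493 : act 3 n16812 = n16809 := d25_1 D16812 (iv D16809) (iv F63962)
theorem F66494 : act 4 n16812 = n16189 := d29_1 D16812 (iv D16189) (iv F63963)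
theorem F66495 : act 5 n16812 = n16525 := d32_1 D16812 (iv D16525) (iv F63964)
theorem F66496 : act 6 n16812 = n16295 := d34_1 D16812 (iv D16295) (iv F63965)
def n16813 : Q := act 7 n16173
theorem D16813 : act 7 n16173 = n16813 := rfl
theorem F66497 : act 0 n16813 = n16302 := d6_1 D16813 (iv D16302) (iv F63966)
theorem F66498 : act 2 n16813 = n16382 := d19_1 D16813 F64732 (iv F63967)
theorem F66499 : act 4 n16813 = n16190 := d28_1 D16813 (iv D16190) (iv F63969)
theorem F66500 : act 6 n16813 = n16391 := d33_1 D16813 F64771 (iv F63970)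
def n16814 : Q := act 7 n16174
theorem D16814 : act 7 n16174 = n16814 := rfl
theorem F66501 : act 0 n16814 = n16304 := d6_1 D16814 (iv D16304) (iv F63971)
theorem F66502 : act 2 n16814 = n16177 := d19_1 D16814 (iv D16177) (iv F63972)
theorem F66503 : act 5 n16814 = n16175 := d31_1 D16814 (iv D16175) (iv F63973)
def n16815 : Q := act 3 n16175
theorem D16815 : act 3 n16175 = n16815 := rfl
theorem F66504 : act 0 n16815 = n16305 := d2_1 D16815 (iv D16305) (iv F63974)
def n16816 : Q := act 4 n16176
theorem D16816 : act 4 n16176 = n16816 := rfl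
theorem F66505 : act 0 n16816 = n16306 := d3_1 D16816 (iv D16306) (iv F63977)
theorem F66506 : act 7 n16816 = n16193 := d28_2 (iv F63978) D16816 (iv D16193)
def n16817 : Q := act 3 n16177
theorem D16817 : act 3 n16177 = n16817 := rfl
theorem F66507 : act 0 n16817 = n16308 := d2_1 D16817 (iv D16308) (iv F63979)
theorem F66508 : act 1 n16817 = n16817 := d9_1 D16817 (iv D16817) F63980
theorem F66509 : act 5 n16817 = n16178 := d22_2 (iv F63981) D16817 (iv D16178)
theorem F66510 : act 7 n16817 = n16450 := d24_2 D16177 D16817 (iv D16450) (iv D15755) (iv F61051)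
def n16818 : Q := act 2 n16178
theorem D16818 : act 2 n16178 = n16818 := rfl
theorem F66511 : act 0 n16818 = n16309 := d1_1 D16818 (iv D16309) (iv F63982)
theorem F66512 : act 4 n16818 = n16759 := d16_2 (iv F63984) D16818 (iv D16759)
theorem F66513 : act 6 n16818 = n16771 := d18_2 (iv F63985) D16818 F66285
theorem F66514 : act 7 n16818 = n16451 := d19_2 (iv F63986) D16818 (iv D16451)
def n16819 : Q := act 3 n16179
theorem D16819 : act 3 n16179 = n16819 := rfl
theorem F66515 : act 0 n16819 = n16264 := d2_1 D16819 (iv D16264) (iv F63987)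
theorem F66516 : act 2 n16819 = n16278 := d15_1 D16819 (iv D16278) F61482 (iv F61061) (iv F63988)
theorem F66517 : act 5 n16819 = n16181 := d22_2 (iv F63989) D16819 (iv D16181)
theorem F66518 : act 8 n16819 = n16196 := d25_2 (iv F63990) D16819 (iv D16196)
def n16820 : Q := act 3 n16180
theorem D16820 : act 3 n16180 = n16820 := rfl
theorem F66519 : act 0 n16820 = n16479 := d2_1 D16820 (iv D16479) (iv F63991)
theorem F66520 : act 1 n16820 = n16181 := d9_1 D16820 (iv D16181) (iv F63992)
theorem F66521 : act 6 n16820 = n16185 := d23_2 (iv F63995) D16820 (iv D16185)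
theorem F66522 : act 8 n16820 = n16200 := d25_2 (iv F63996) D16820 (iv D16200)
def n16821 : Q := act 4 n16181
theorem D16821 : act 4 n16181 = n16821 := rfl
theorem F66523 : act 0 n16821 = n16311 := d3_1 D16821 (iv D16311) (iv F63997)
theorem F66524 : act 2 n16821 = n16279 := d16_1 D16821 (iv D16279) (iv F63998)
theorem F66525 : act 3 n16821 = n16374 := d21_1 D16821 (iv D16374) F61780 (iv F61071) D16181
theorem F66526 : act 6 n16821 = n16193 := d27_2 (iv F63999) D16821 (iv D16193)
theorem F66527 : act 8 n16821 = n16206 := d29_2 (iv F64000) D16821 (iv D16206)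
def n16822 : Q := act 3 n16182
theorem D16822 : act 3 n16182 = n16822 := rfl
theorem F66528 : act 0 n16822 = n16185 := d2_1 D16822 (iv D16185) (iv F64001)
theorem F66529 : act 1 n16822 = n16315 := d9_1 D16822 (iv D16315) (iv F64002)
theorem F66530 : act 6 n16822 = n16479 := d23_2 (iv F64004) D16822 (iv D16479)
theorem F66531 : act 8 n16822 = n16210 := d25_2 (iv F64005) D16822 (iv D16210)
def n16823 : Q := act 7 n16183
theorem D16823 : act 7 n16183 = n16823 := rfl
theorem F66532 : act 1 n16823 = n16190 := d13_1 D16823 (iv D16190) (iv F64006)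
theorem F66533 : act 2 n16823 = n16447 := d19_1 D16823 F65022 (iv F64007)
theorem F66534 : act 6 n16823 = n16390 := d33_1 D16823 F64768 (iv F64009)
def n16824 : Q := act 3 n16184
theorem D16824 : act 3 n16184 = n16824 := rfl
theorem F66535 : act 1 n16824 = n16192 := d9_1 D16824 (iv D16192) (iv F64010)
theorem F66536 : act 2 n16824 = n16552 := d15_1 D16824 F65364 F62621 (iv F61337) (iv F64011)
theorem F66537 : act 6 n16824 = n16373 := d23_2 (iv F64013) D16824 F64703
theorem F66538 : act 8 n16824 = n16217 := d25_2 (iv F64014) D16824 (iv D16217)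
def n16825 : Q := act 2 n16185
theorem D16825 : act 2 n16185 = n16825 := rfl
theorem F66539 : act 3 n16825 = n16249 := d15_2 D16185 D16825 (iv D16249) (iv D15520) (iv F61086)
theorem F66540 : act 8 n16825 = n16218 := d20_2 (iv F64016) D16825 (iv D16218)
def n16826 : Q := act 4 n16185
theorem D16826 : act 4 n16185 = n16826 := rfl
theorem F66541 : act 1 n16826 = n16193 := d10_1 D16826 (iv D16193) (iv F64015)
theorem F66542 : act 8 n16826 = n16219 := d29_2 (iv F64016) D16826 (iv D16219)
def n16827 : Q := act 8 n16186
theorem D16827 : act 8 n16186 = n16827 := rfl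
theorem F66543 : act 0 n16827 = n16324 := d7_1 D16827 (iv D16324) (iv F64017)
theorem F66544 : act 2 n16827 = n16384 := d20_1 D16827 F64745 (iv F64018)
theorem F66545 : act 4 n16827 = n16188 := d29_1 D16827 (iv D16188) D16186
theorem F66546 : act 5 n16827 = n16672 := d32_1 D16827 (iv D16672) (iv F64019)
theorem F66547 : act 6 n16827 = n16635 := d34_1 D16827 (iv D16635) (iv F64020)
def n16828 : Q := act 8 n16187
theorem D16828 : act 8 n16187 = n16828 := rfl
theorem F66548 : act 0 n16828 = n16326 := d7_1 D16828 (iv D16326) (iv F64022)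
theorem F66549 : act 1 n16828 = n16827 := d14_1 D16828 (iv D16827) (iv F64023)
theorem F66550 : act 2 n16828 = n16452 := d20_1 D16828 (iv D16452) (iv F64024)
theorem F66551 : act 3 n16828 = n16222 := d25_1 D16828 (iv D16222) (iv F64025)
theorem F66552 : act 4 n16828 = n16634 := d29_1 D16828 (iv D16634) (iv F64026)
theorem F66553 : act 5 n16828 = n16189 := d32_1 D16828 (iv D16189) (iv F64027)
theorem F66554 : act 6 n16828 = n16575 := d34_1 D16828 F65439 (iv F64028)
def n16829 : Q := act 7 n16188
theorem D16829 : act 7 n16188 = n16829 := rfl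
theorem F66555 : act 0 n16829 = n16327 := d6_1 D16829 (iv D16327) (iv F64029)
theorem F66556 : act 2 n16829 = n16380 := d19_1 D16829 F64723 (iv F64030)
theorem F66557 : act 5 n16829 = n16190 := d31_1 D16829 (iv D16190) (iv F64032)
def n16830 : Q := act 7 n16189
theorem D16830 : act 7 n16189 = n16830 := rfl
theorem F66558 : act 0 n16830 = n16328 := d6_1 D16830 (iv D16328) (iv F64033)
theorem F66559 : act 2 n16830 = n16381 := d19_1 D16830 F64727 (iv F64034)
theorem F66560 : act 6 n16830 = n16388 := d33_1 D16830 F64760 (iv F64036)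
theorem F66561 : act 8 n16830 = n16190 := d35_2 D16189 D16830 (iv D16190) (iv D15457) D15456
def n16831 : Q := act 3 n16190
theorem D16831 : act 3 n16190 = n16831 := rfl
theorem F66562 : act 0 n16831 = n16329 := d2_1 D16831 (iv D16329) (iv F64037)
theorem F66563 : act 2 n16831 = n16339 := d15_1 D16831 (iv D16339) F61688 D15658 (iv F64038)
theorem F66564 : act 6 n16831 = n16368 := d23_2 (iv F64039) D16831 F64697
theorem F66565 : act 7 n16831 = n16192 := d24_2 D16190 D16831 (iv D16192) (iv D15459) (iv F61097)
def n16832 : Q := act 3 n16191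
theorem D16832 : act 3 n16191 = n16832 := rfl
theorem F66566 : act 0 n16832 = n16331 := d2_1 D16832 (iv D16331) (iv F64040)
theorem F66567 : act 2 n16832 = n16341 := d15_1 D16832 (iv D16341) F61695 (iv F61111) (iv F64041)
theorem F66568 : act 5 n16832 = n16192 := d22_2 (iv F64042) D16832 (iv D16192)
theorem F66569 : act 8 n16832 = n16227 := d25_2 (iv F64043) D16832 (iv D16227)
def n16833 : Q := act 4 n16192
theorem D16833 : act 4 n16192 = n16833 := rfl
theorem F66570 : act 0 n16833 = n16332 := d3_1 D16833 (iv D16332) (iv F64044)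
theorem F66571 : act 2 n16833 = n16342 := d16_1 D16833 (iv D16342) (iv F64045)
theorem F66572 : act 3 n16833 = n16193 := d21_1 D16833 (iv D16193) (iv D15460) (iv F61104) D16192
theorem F66573 : act 6 n16833 = n16374 := d27_2 (iv F64046) D16833 (iv D16374)
theorem F66574 : act 8 n16833 = n16229 := d29_2 (iv F64047) D16833 (iv D16229)
def n16834 : Q := act 5 n16193
theorem D16834 : act 5 n16193 = n16834 := rfl
theorem F66575 : act 0 n16834 = n16333 := d4_1 D16834 (iv D16333) (iv F64048)
theorem F66576 : act 8 n16834 = n16230 := d32_2 (iv F64049) D16834 (iv D16230)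
def n16835 : Q := act 7 n16194
theorem D16835 : act 7 n16194 = n16835 := rfl
theorem F66577 : act 0 n16835 = n16269 := d6_1 D16835 (iv D16269) (iv F64050)
theorem F66578 : act 2 n16835 = n16835 := d19_1 D16835 (iv D16835) F64051
theorem F66579 : act 4 n16835 = n16726 := d28_1 D16835 (iv D16726) (iv F64053)
def n16836 : Q := act 3 n16195
theorem D16836 : act 3 n16195 = n16836 := rfl
theorem F66580 : act 0 n16836 = n16271 := d2_1 D16836 (iv D16271) (iv F64054)
def n16837 : Q := act 4 n16196
theorem D16837 : act 4 n16196 = n16837 := rfl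
theorem F66581 : act 0 n16837 = n16272 := d3_1 D16837 (iv D16272) (iv F64057)
theorem F66582 : act 7 n16837 = n16729 := d28_2 (iv F64059) D16837 (iv D16729)
def n16838 : Q := act 2 n16197
theorem D16838 : act 2 n16197 = n16838 := rfl
theorem F66583 : act 0 n16838 = n16284 := d1_1 D16838 (iv D16284) (iv F64060)
theorem F66584 : act 4 n16838 = n16541 := d16_2 (iv F64062) D16838 (iv D16541)
theorem F66585 : act 7 n16838 = n16838 := d19_2 F64063 D16838 (iv D16838)
theorem F66586 : act 8 n16838 = n16558 := d20_2 (iv F64064) D16838 F65373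
def n16839 : Q := act 7 n16198
theorem D16839 : act 7 n16198 = n16839 := rfl
theorem F66587 : act 0 n16839 = n16486 := d6_1 D16839 (iv D16486) (iv F64065)
theorem F66588 : act 1 n16839 = n16203 := d13_1 D16839 (iv D16203) (iv F64066)
theorem F66589 : act 2 n16839 = n16839 := d19_1 D16839 (iv D16839) F64067
theorem F66590 : act 6 n16839 = n16215 := d33_1 D16839 (iv D16215) (iv F64069)
def n16840 : Q := act 3 n16199
theorem D16840 : act 3 n16199 = n16840 := rfl
theorem F66591 : act 0 n16840 = n16487 := d2_1 D16840 (iv D16487) (iv F64070)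
theorem F66592 : act 1 n16840 = n16205 := d9_1 D16840 (iv D16205) (iv F64071)
theorem F66593 : act 6 n16840 = n16217 := d23_2 (iv F64074) D16840 (iv D16217)
theorem F66594 : act 8 n16840 = n16373 := d25_2 (iv F64075) D16840 F64703
def n16841 : Q := act 2 n16200
theorem D16841 : act 2 n16200 = n16841 := rfl
theorem F66595 : act 0 n16841 = n16488 := d1_1 D16841 (iv D16488) (iv F64076)
theorem F66596 : act 3 n16841 = n16251 := d15_2 D16200 D16841 (iv D16251) (iv D15523) (iv F61137)
theorem F66597 : act 6 n16841 = n16218 := d18_2 (iv F64078) D16841 (iv D16218)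
def n16842 : Q := act 4 n16200
theorem D16842 : act 4 n16200 = n16842 := rfl
theorem F66598 : act 0 n16842 = n16489 := d3_1 D16842 (iv D16489) (iv F64076)
theorem F66599 : act 1 n16842 = n16206 := d10_1 D16842 (iv D16206) (iv F64077)
theorem F66600 : act 6 n16842 = n16219 := d27_2 (iv F64078) D16842 (iv D16219)
def n16843 : Q := act 7 n16201
theorem D16843 : act 7 n16201 = n16843 := rfl
theorem F66601 : act 0 n16843 = n16337 := d6_1 D16843 (iv D16337) (iv F64079)
theorem F66602 : act 2 n16843 = n16235 := d19_1 D16843 (iv D16235) (iv F64080)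
theorem F66603 : act 5 n16843 = n16203 := d31_1 D16843 (iv D16203) (iv F64082)
def n16844 : Q := act 7 n16202
theorem D16844 : act 7 n16202 = n16844 := rfl
theorem F66604 : act 0 n16844 = n16338 := d6_1 D16844 (iv D16338) (iv F64083)
theorem F66605 : act 2 n16844 = n16236 := d19_1 D16844 (iv D16236) (iv F64084)
theorem F66606 : act 6 n16844 = n16224 := d33_1 D16844 (iv D16224) (iv F64086)
theorem F66607 : act 8 n16844 = n16203 := d35_2 D16202 D16844 (iv D16203) (iv D15471) D15470
def n16845 : Q := act 3 n16203
theorem D16845 : act 3 n16203 = n16845 := rfl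
theorem F66608 : act 0 n16845 = n16339 := d2_1 D16845 (iv D16339) (iv F64087)
theorem F66609 : act 2 n16845 = n16329 := d15_1 D16845 (iv D16329) F61654 (iv F61262) (iv F64088)
theorem F66610 : act 6 n16845 = n16225 := d23_2 (iv F64089) D16845 (iv D16225)
theorem F66611 : act 7 n16845 = n16205 := d24_2 D16203 D16845 (iv D16205) (iv D15473) (iv F61148)
def n16846 : Q := act 3 n16204
theorem D16846 : act 3 n16204 = n16846 := rfl
theorem F66612 : act 0 n16846 = n16341 := d2_1 D16846 (iv D16341) (iv F64090)
theorem F66613 : act 2 n16846 = n16331 := d15_1 D16846 (iv D16331) F61657 (iv F61162) (iv F64091)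
theorem F66614 : act 5 n16846 = n16205 := d22_2 (iv F64092) D16846 (iv D16205)
theorem F66615 : act 8 n16846 = n16371 := d25_2 (iv F64093) D16846 F64701
def n16847 : Q := act 4 n16205
theorem D16847 : act 4 n16205 = n16847 := rfl
theorem F66616 : act 0 n16847 = n16342 := d3_1 D16847 (iv D16342) (iv F64094)
theorem F66617 : act 2 n16847 = n16332 := d16_1 D16847 (iv D16332) (iv F64095)
theorem F66618 : act 3 n16847 = n16206 := d21_1 D16847 (iv D16206) (iv D15474) (iv F61155) D16205
theorem F66619 : act 6 n16847 = n16229 := d27_2 (iv F64096) D16847 (iv D16229)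
theorem F66620 : act 8 n16847 = n16374 := d29_2 (iv F64097) D16847 (iv D16374)
def n16848 : Q := act 5 n16206
theorem D16848 : act 5 n16206 = n16848 := rfl
theorem F66621 : act 0 n16848 = n16343 := d4_1 D16848 (iv D16343) (iv F64098)
def n16849 : Q := act 8 n16207
theorem D16849 : act 8 n16207 = n16849 := rfl
theorem F66622 : act 0 n16849 = n16214 := d7_1 D16849 (iv D16214) (iv F64100)
theorem F66623 : act 1 n16849 = n16347 := d14_1 D16849 (iv D16347) (iv F64101)
theorem F66624 : act 2 n16849 = n16849 := d20_1 D16849 (iv D16849) F64102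
theorem F66625 : act 4 n16849 = n16670 := d29_1 D16849 (iv D16670) (iv F64103)
theorem F66626 : act 5 n16849 = n16692 := d32_1 D16849 (iv D16692) (iv F64104)
theorem F66627 : act 6 n16849 = n16485 := d34_1 D16849 (iv D16485) (iv F64105)
def n16850 : Q := act 7 n16208
theorem D16850 : act 7 n16208 = n16850 := rfl
theorem F66628 : act 0 n16850 = n16215 := d6_1 D16850 (iv D16215) (iv F64106)
theorem F66629 : act 1 n16850 = n16348 := d13_1 D16850 (iv D16348) (iv F64107)
theorem F66630 : act 2 n16850 = n16850 := d19_1 D16850 (iv D16850) F64108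
theorem F66631 : act 4 n16850 = n16839 := d28_1 D16850 (iv D16839) (iv F64110)
theorem F66632 : act 6 n16850 = n16486 := d33_1 D16850 (iv D16486) (iv F64111)
def n16851 : Q := act 3 n16209
theorem D16851 : act 3 n16209 = n16851 := rfl
theorem F66633 : act 0 n16851 = n16217 := d2_1 D16851 (iv D16217) (iv F64112)
theorem F66634 : act 1 n16851 = n16350 := d9_1 D16851 (iv D16350) (iv F64113)
theorem F66635 : act 6 n16851 = n16487 := d23_2 (iv F64116) D16851 (iv D16487)
def n16852 : Q := act 2 n16210
theorem D16852 : act 2 n16210 = n16852 := rfl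
theorem F66636 : act 0 n16852 = n16218 := d1_1 D16852 (iv D16218) (iv F64117)
theorem F66637 : act 3 n16852 = n16254 := d15_2 D16210 D16852 (iv D16254) (iv D15527) (iv F61177)
theorem F66638 : act 6 n16852 = n16488 := d18_2 (iv F64119) D16852 (iv D16488)
theorem F66639 : act 7 n16852 = n16841 := d19_2 (iv F64120) D16852 (iv D16841)
def n16853 : Q := act 4 n16210
theorem D16853 : act 4 n16210 = n16853 := rfl
theorem F66640 : act 0 n16853 = n16219 := d3_1 D16853 (iv D16219) (iv F64117)
theorem F66641 : act 1 n16853 = n16351 := d10_1 D16853 (iv D16351) (iv F64118)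
theorem F66642 : act 6 n16853 = n16489 := d27_2 (iv F64119) D16853 (iv D16489)
theorem F66643 : act 7 n16853 = n16842 := d28_2 (iv F64120) D16853 (iv D16842)
def n16854 : Q := act 8 n16211
theorem D16854 : act 8 n16211 = n16854 := rfl
theorem F66644 : act 0 n16854 = n16694 := d7_1 D16854 (iv D16694) (iv F64121)
theorem F66645 : act 1 n16854 = n16220 := d14_1 D16854 (iv D16220) (iv F64122)
theorem F66646 : act 2 n16854 = n16854 := d20_1 D16854 (iv D16854) F64123
theorem F66647 : act 3 n16854 = n16635 := d25_1 D16854 (iv D16635) (iv F64124)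
theorem F66648 : act 4 n16854 = n16213 := d29_1 D16854 (iv D16213) D16211
theorem F66649 : act 5 n16854 = n16609 := d32_1 D16854 (iv D16609) (iv F64125)
def n16855 : Q := act 8 n16212
theorem D16855 : act 8 n16212 = n16855 := rfl
theorem F66650 : act 0 n16855 = n16692 := d7_1 D16855 (iv D16692) (iv F64127)
theorem F66651 : act 1 n16855 = n16222 := d14_1 D16855 (iv D16222) (iv F64128)
theorem F66652 : act 2 n16855 = n16855 := d20_1 D16855 (iv D16855) F64129
theorem F66653 : act 3 n16855 = n16827 := d25_1 D16855 (iv D16827) (iv F64130)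
theorem F66654 : act 4 n16855 = n16608 := d29_1 D16855 (iv D16608) (iv F64131)
theorem F66655 : act 5 n16855 = n16214 := d32_1 D16855 (iv D16214) (iv F64132)
theorem F66656 : act 6 n16855 = n16854 := d34_1 D16855 (iv D16854) (iv F64133)
def n16856 : Q := act 7 n16213
theorem D16856 : act 7 n16213 = n16856 := rfl
theorem F66657 : act 1 n16856 = n16223 := d13_1 D16856 (iv D16223) (iv F64134)
theorem F66658 : act 2 n16856 = n16856 := d19_1 D16856 (iv D16856) F64135
theorem F66659 : act 5 n16856 = n16215 := d31_1 D16856 (iv D16215) (iv F64137)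
def n16857 : Q := act 7 n16214
theorem D16857 : act 7 n16214 = n16857 := rfl
theorem F66660 : act 1 n16857 = n16224 := d13_1 D16857 (iv D16224) (iv F64138)
theorem F66661 : act 2 n16857 = n16857 := d19_1 D16857 (iv D16857) F64139
theorem F66662 : act 8 n16857 = n16215 := d35_2 D16214 D16857 (iv D16215) (iv D15481) D15480
def n16858 : Q := act 3 n16215
theorem D16858 : act 3 n16215 = n16858 := rfl
theorem F66663 : act 1 n16858 = n16225 := d9_1 D16858 (iv D16225) (iv F64140)
theorem F66664 : act 7 n16858 = n16217 := d24_2 D16215 D16858 (iv D16217) (iv D15483) (iv F61186)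
def n16859 : Q := act 3 n16216
theorem D16859 : act 3 n16216 = n16859 := rfl
theorem F66665 : act 1 n16859 = n16227 := d9_1 D16859 (iv D16227) (iv F64142)
theorem F66666 : act 5 n16859 = n16217 := d22_2 (iv F64144) D16859 (iv D16217)
def n16860 : Q := act 2 n16217
theorem D16860 : act 2 n16217 = n16860 := rfl
theorem F66667 : act 1 n16860 = n16538 := d8_1 D16860 (iv D16538) F64177 (iv D16228) (iv F64145)
theorem F66668 : act 3 n16860 = n16256 := d15_2 D16217 D16860 (iv D16256) (iv D15529) (iv F61191)
theorem F66669 : act 8 n16860 = n16552 := d20_2 F66538 D16860 (iv F66536)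
def n16861 : Q := act 4 n16217
theorem D16861 : act 4 n16217 = n16861 := rfl
theorem F66670 : act 1 n16861 = n16229 := d10_1 D16861 (iv D16229) (iv F64145)
theorem F66671 : act 3 n16861 = n16219 := d21_1 D16861 (iv D16219) (iv D15484) (iv F61192) D16217
def n16862 : Q := act 4 n16218
theorem D16862 : act 4 n16218 = n16862 := rfl
theorem F66672 : act 2 n16862 = n16219 := d16_1 D16862 (iv D16219) D16218
def n16863 : Q := act 5 n16219
theorem D16863 : act 5 n16219 = n16863 := rfl
theorem F66673 : act 1 n16863 = n16230 := d11_1 D16863 (iv D16230) (iv F64147)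
def n16864 : Q := act 7 n16220
theorem D16864 : act 7 n16220 = n16864 := rfl
theorem F66674 : act 0 n16864 = n16363 := d6_1 D16864 (iv D16363) (iv F64148)
theorem F66675 : act 2 n16864 = n16237 := d19_1 D16864 (iv D16237) (iv F64149)
theorem F66676 : act 4 n16864 = n16223 := d28_1 D16864 (iv D16223) (iv F64150)
def n16865 : Q := act 7 n16221
theorem D16865 : act 7 n16221 = n16865 := rfl
theorem F66677 : act 0 n16865 = n16364 := d6_1 D16865 (iv D16364) (iv F64151)
theorem F66678 : act 2 n16865 = n16238 := d19_1 D16865 (iv D16238) (iv F64152)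
theorem F66679 : act 6 n16865 = n16223 := d33_1 D16865 (iv D16223) (iv F64154)
theorem F66680 : act 8 n16865 = n16864 := d35_2 D16221 D16865 (iv D16864) (iv D16220) F61199
def n16866 : Q := act 7 n16222
theorem D16866 : act 7 n16222 = n16866 := rfl
theorem F66681 : act 0 n16866 = n16365 := d6_1 D16866 (iv D16365) (iv F64155)
theorem F66682 : act 2 n16866 = n16239 := d19_1 D16866 (iv D16239) (iv F64156)
theorem F66683 : act 4 n16866 = n16865 := d28_1 D16866 (iv D16865) (iv F64157)
theorem F66684 : act 5 n16866 = n16224 := d31_1 D16866 (iv D16224) (iv F64158)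
theorem F66685 : act 6 n16866 = n16864 := d33_1 D16866 (iv D16864) (iv F64159)
theorem F66686 : act 8 n16866 = n16223 := d35_2 D16222 D16866 (iv D16223) (iv D15488) D15487
def n16867 : Q := act 3 n16223
theorem D16867 : act 3 n16223 = n16867 := rfl
theorem F66687 : act 0 n16867 = n16366 := d2_1 D16867 (iv D16366) (iv F64160)
theorem F66688 : act 5 n16867 = n16225 := d22_2 (iv F64162) D16867 (iv D16225)
theorem F66689 : act 7 n16867 = n16227 := d24_2 D16223 D16867 (iv D16227) (iv D15492) (iv F61207)
def n16868 : Q := act 3 n16224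
theorem D16868 : act 3 n16224 = n16868 := rfl
theorem F66690 : act 0 n16868 = n16367 := d2_1 D16868 (iv D16367) (iv F64163)
theorem F66691 : act 8 n16868 = n16225 := d25_2 (iv F64165) D16868 (iv D16225)
def n16869 : Q := act 2 n16225
theorem D16869 : act 2 n16225 = n16869 := rfl
theorem F66692 : act 0 n16869 = n16368 := d1_1 D16869 (iv D16368) (iv F64166)
theorem F66693 : act 3 n16869 = n16242 := d15_2 D16225 D16869 (iv D16242) (iv D15510) (iv F61212)
theorem F66694 : act 6 n16869 = n16329 := d18_2 F66610 D16869 (iv F66609)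
theorem F66695 : act 7 n16869 = n16228 := d19_2 (iv F64167) D16869 (iv D16228)
theorem F66696 : act 1 n16536 = n16869 := d13_3 F66695 (iv F64177) (iv F65335)
def n16870 : Q := act 4 n16225
theorem D16870 : act 4 n16225 = n16870 := rfl
theorem F66697 : act 0 n16870 = n16369 := d3_1 D16870 (iv D16369) (iv F64166)
theorem F66698 : act 7 n16870 = n16229 := d28_2 (iv F64167) D16870 (iv D16229)
def n16871 : Q := act 3 n16226
theorem D16871 : act 3 n16226 = n16871 := rfl
theorem F66699 : act 0 n16871 = n16370 := d2_1 D16871 (iv D16370) (iv F64168)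
theorem F66700 : act 6 n16871 = n16227 := d23_2 (iv F64170) D16871 (iv D16227)
def n16872 : Q := act 2 n16227
theorem D16872 : act 2 n16227 = n16872 := rfl
theorem F66701 : act 0 n16872 = n16371 := d1_1 D16872 (iv D16371) (iv F64171)
theorem F66702 : act 3 n16872 = n16231 := d15_2 D16227 D16872 (iv D16231) (iv D15496) (iv F61217)
theorem F66703 : act 5 n16872 = n16228 := d17_2 (iv F64172) D16872 (iv D16228)
theorem F66704 : act 8 n16872 = n16341 := d20_2 F66569 D16872 (iv F66567)
theorem F66705 : act 1 n16537 = n16872 := d14_3 F66704 F64607 (iv F65337)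
def n16873 : Q := act 4 n16227
theorem D16873 : act 4 n16227 = n16873 := rfl
theorem F66706 : act 0 n16873 = n16372 := d3_1 D16873 (iv D16372) (iv F64171)
def n16874 : Q := act 4 n16228
theorem D16874 : act 4 n16228 = n16874 := rfl
theorem F66707 : act 0 n16874 = n16374 := d3_1 D16874 (iv D16374) (iv F64173)
theorem F66708 : act 1 n16874 = n16539 := d10_1 D16874 (iv D16539) F64177
theorem F66709 : act 2 n16874 = n16229 := d16_1 D16874 (iv D16229) D16228
theorem F66710 : act 3 n16874 = n16311 := d21_1 D16874 (iv D16311) (iv D15592) (iv F61231) (iv F64174)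
theorem F66711 : act 6 n16874 = n16332 := d27_2 (iv F64175) D16874 (iv D16332)
theorem F66712 : act 8 n16874 = n16342 := d29_2 (iv F64176) D16874 (iv D16342)
def n16875 : Q := act 5 n16229
theorem D16875 : act 5 n16229 = n16875 := rfl
theorem F66713 : act 0 n16875 = n16375 := d4_1 D16875 (iv D16375) (iv F64178)
theorem F66714 : act 3 n16875 = n16230 := d22_1 D16875 (iv D16230) (iv F64179)
def n16876 : Q := act 6 n16230
theorem D16876 : act 6 n16230 = n16876 := rfl
theorem F66715 : act 0 n16876 = n16376 := d5_1 D16876 (iv D16376) (iv F64180)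
def n16877 : Q := act 7 n16232
theorem D16877 : act 7 n16232 = n16877 := rfl
theorem F66716 : act 0 n16877 = n16377 := d6_1 D16877 (iv D16377) (iv F64186)
theorem F66717 : act 1 n16877 = n16877 := d13_1 D16877 (iv D16877) F64187
theorem F66718 : act 4 n16877 = n16235 := d28_1 D16877 (iv D16235) (iv F64189)
theorem F66719 : act 6 n16877 = n16503 := d33_1 D16877 (iv D16503) (iv F64190)
theorem F66720 : act 8 n16877 = n16502 := d35_2 D16232 D16877 (iv D16502) (iv D15816) F61239
def n16878 : Q := act 7 n16233
theorem D16878 : act 7 n16233 = n16878 := rfl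
theorem F66721 : act 0 n16878 = n16378 := d6_1 D16878 (iv D16378) (iv F64191)
theorem F66722 : act 1 n16878 = n16878 := d13_1 D16878 (iv D16878) F64192
theorem F66723 : act 3 n16878 = n16466 := d24_1 D16878 (iv D16466) F62317 (iv F61270) (iv F64193)
theorem F66724 : act 4 n16878 = n16503 := d28_1 D16878 (iv D16503) (iv F64194)
theorem F66725 : act 5 n16878 = n16238 := d31_1 D16878 (iv D16238) (iv F64195)
theorem F66726 : act 6 n16878 = n16235 := d33_1 D16878 (iv D16235) (iv F64196)
theorem F66727 : act 8 n16878 = n16501 := d35_2 D16233 D16878 (iv D16501) (iv D15815) F61245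
def n16879 : Q := act 7 n16234
theorem D16879 : act 7 n16234 = n16879 := rfl
theorem F66728 : act 0 n16879 = n16379 := d6_1 D16879 (iv D16379) (iv F64197)
theorem F66729 : act 1 n16879 = n16879 := d13_1 D16879 (iv D16879) F64198
theorem F66730 : act 3 n16879 = n16467 := d24_1 D16879 (iv D16467) F62321 (iv F62258) (iv F64199)
theorem F66731 : act 4 n16879 = n16502 := d28_1 D16879 (iv D16502) (iv F64200)
theorem F66732 : act 5 n16879 = n16236 := d31_1 D16879 (iv D16236) (iv F64201)
theorem F66733 : act 6 n16879 = n16501 := d33_1 D16879 (iv D16501) (iv F64202)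
theorem F66734 : act 8 n16879 = n16235 := d35_2 D16234 D16879 (iv D16235) (iv D15501) D15500
def n16880 : Q := act 3 n16238
theorem D16880 : act 3 n16238 = n16880 := rfl
theorem F66735 : act 0 n16880 = n16386 := d2_1 D16880 (iv D16386) (iv F64215)
theorem F66736 : act 1 n16880 = n16880 := d9_1 D16880 (iv D16880) F64216
theorem F66737 : act 4 n16880 = n16282 := d21_2 F64221 D16880 F64390 (iv F66375) F66374
theorem F66738 : act 5 n16880 = n16466 := d22_2 F66725 D16880 (iv F66723)
theorem F66739 : act 6 n16880 = n16240 := d23_2 (iv F64217) D16880 (iv D16240)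
theorem F66740 : act 7 n16880 = n16244 := d24_2 D16238 D16880 (iv D16244) (iv D15511) (iv F61277)
theorem F66741 : act 8 n16880 = n16281 := d25_2 (iv F64218) D16880 F64385
def n16881 : Q := act 2 n16240
theorem D16881 : act 2 n16240 = n16881 := rfl
theorem F66742 : act 0 n16881 = n16387 := d1_1 D16881 (iv D16387) (iv F64225)
theorem F66743 : act 4 n16881 = n16803 := d16_2 F64229 D16881 F66454
theorem F66744 : act 5 n16881 = n16242 := d17_2 (iv F64227) D16881 (iv D16242)
theorem F66745 : act 7 n16881 = n16245 := d19_2 (iv F64228) D16881 (iv D16245)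
theorem F66746 : act 1 n16534 = n16881 := d13_3 F66745 (iv F64255) D16534
def n16882 : Q := act 2 n16241
theorem D16882 : act 2 n16241 = n16882 := rfl
theorem F66747 : act 0 n16882 = n16388 := d1_1 D16882 (iv D16388) (iv F64230)
theorem F66748 : act 6 n16882 = n16328 := d18_2 (iv F64232) D16882 F64567
theorem F66749 : act 7 n16882 = n16310 := d19_2 (iv F64233) D16882 F64496
theorem F66750 : act 8 n16882 = n16242 := d20_2 (iv F64234) D16882 (iv D16242)
theorem F66751 : act 1 n16535 = n16882 := d14_3 F66750 (iv F64238) (iv F65334)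
def n16883 : Q := act 4 n16241
theorem D16883 : act 4 n16241 = n16883 := rfl
theorem F66752 : act 0 n16883 = n16389 := d3_1 D16883 (iv D16389) (iv F64230)
theorem F66753 : act 1 n16883 = n16883 := d10_1 D16883 (iv D16883) F64231
theorem F66754 : act 5 n16883 = n16406 := d26_2 F66376 D16883 F64837 (iv F63814) (iv F66375)
theorem F66755 : act 6 n16883 = n16458 := d27_2 (iv F64232) D16883 F65074
theorem F66756 : act 7 n16883 = n16405 := d28_2 (iv F64233) D16883 F64832
theorem F66757 : act 8 n16883 = n16243 := d29_2 (iv F64234) D16883 (iv D16243)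
def n16884 : Q := act 4 n16242
theorem D16884 : act 4 n16242 = n16884 := rfl
theorem F66758 : act 0 n16884 = n16391 := d3_1 D16884 (iv D16391) (iv F64235)
theorem F66759 : act 1 n16884 = n16524 := d10_1 D16884 F65297 F64238
theorem F66760 : act 2 n16884 = n16243 := d16_1 D16884 (iv D16243) D16242
theorem F66761 : act 5 n16884 = n16805 := d26_2 F66744 D16884 F66463 (iv F66455) (iv F66743)
theorem F66762 : act 6 n16884 = n16302 := d27_2 (iv F64236) D16884 F64479
theorem F66763 : act 7 n16884 = n16246 := d28_2 (iv F64237) D16884 (iv D16246)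
def n16885 : Q := act 2 n16247
theorem D16885 : act 2 n16247 = n16885 := rfl
theorem F66764 : act 0 n16885 = n16513 := d1_1 D16885 (iv D16513) (iv F64263)
theorem F66765 : act 1 n16885 = n16284 := d8_1 D16885 (iv D16284) F61519 (iv F61328) (iv F64264)
theorem F66766 : act 6 n16885 = n16249 := d18_2 (iv F64265) D16885 (iv D16249)
theorem F66767 : act 7 n16885 = n16885 := d19_2 F64266 D16885 (iv D16885)
theorem F66768 : act 8 n16885 = n16251 := d20_2 (iv F64267) D16885 (iv D16251)
def n16886 : Q := act 2 n16248
theorem D16886 : act 2 n16248 = n16886 := rfl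
theorem F66769 : act 0 n16886 = n16249 := d1_1 D16886 (iv D16249) (iv F64268)
theorem F66770 : act 6 n16886 = n16513 := d18_2 (iv F64270) D16886 (iv D16513)
theorem F66771 : act 7 n16886 = n16886 := d19_2 F64271 D16886 (iv D16886)
theorem F66772 : act 8 n16886 = n16254 := d20_2 (iv F64272) D16886 (iv D16254)
def n16887 : Q := act 2 n16250
theorem D16887 : act 2 n16250 = n16887 := rfl
theorem F66773 : act 0 n16887 = n16516 := d1_1 D16887 (iv D16516) (iv F64275)
theorem F66774 : act 1 n16887 = n16395 := d8_1 D16887 (iv D16395) F61876 (iv F61358) (iv F64276)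
theorem F66775 : act 6 n16887 = n16256 := d18_2 (iv F64277) D16887 (iv D16256)
theorem F66776 : act 7 n16887 = n16887 := d19_2 F64278 D16887 (iv D16887)
theorem F66777 : act 8 n16887 = n16401 := d20_2 (iv F64279) D16887 F64808
def n16888 : Q := act 4 n16251
theorem D16888 : act 4 n16251 = n16888 := rfl
theorem F66778 : act 0 n16888 = n16518 := d3_1 D16888 (iv D16518) (iv F64280)
theorem F66779 : act 1 n16888 = n16499 := d10_1 D16888 (iv F66438) F66437
theorem F66780 : act 2 n16888 = n16252 := d16_1 D16888 (iv D16252) D16251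
theorem F66781 : act 5 n16888 = n16500 := d26_2 F66444 D16888 (iv F65779) F65780 (iv F66443)
theorem F66782 : act 6 n16888 = n16257 := d27_2 (iv F64281) D16888 (iv D16257)
theorem F66783 : act 7 n16888 = n16258 := d28_2 (iv F64282) D16888 (iv D16258)
def n16889 : Q := act 2 n16253
theorem D16889 : act 2 n16253 = n16889 := rfl
theorem F66784 : act 0 n16889 = n16256 := d1_1 D16889 (iv D16256) (iv F64288)
theorem F66785 : act 6 n16889 = n16516 := d18_2 (iv F64290) D16889 (iv D16516)
theorem F66786 : act 7 n16889 = n16889 := d19_2 F64291 D16889 (iv D16889)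
theorem F66787 : act 8 n16889 = n16559 := d20_2 (iv F64292) D16889 F65375
def n16890 : Q := act 2 n16255
theorem D16890 : act 2 n16255 = n16890 := rfl
theorem F66788 : act 1 n16890 = n16541 := d8_1 D16890 (iv D16541) F62588 (iv F61384) (iv F64296)
theorem F66789 : act 5 n16890 = n16256 := d17_2 (iv F64297) D16890 (iv D16256)
theorem F66790 : act 7 n16890 = n16890 := d19_2 F64298 D16890 (iv D16890)
theorem F66791 : act 8 n16890 = n16557 := d20_2 (iv F64299) D16890 F65370
def n16891 : Q := act 3 n16257
theorem D16891 : act 3 n16257 = n16891 := rfl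
def n16892 : Q := act 3 n16258
theorem D16892 : act 3 n16258 = n16892 := rfl
theorem F66792 : act 0 n16892 = n16521 := d2_1 D16892 (iv D16521) (iv F64305)
theorem F66793 : act 1 n16892 = n16509 := d9_1 D16892 F65248 (iv F64306)
theorem F66794 : act 2 n16892 = n16892 := d15_1 D16892 (iv D16892) F64307 F61393 (iv F64307)
theorem F66795 : act 4 n16892 = n16772 := d21_2 D16258 D16892 F66288 F63662 F61398
theorem F66796 : act 5 n16892 = n16510 := d22_2 (iv F64308) D16892 F65253
theorem F66797 : act 6 n16892 = n16259 := d23_2 (iv F64309) D16892 (iv D16259)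
theorem F66798 : act 8 n16892 = n16892 := d25_2 F64310 D16892 (iv D16892)
def n16893 : Q := act 7 n16259
theorem D16893 : act 7 n16259 = n16893 := rfl
theorem F66799 : act 2 n16893 = n16893 := d19_1 D16893 (iv D16893) F64311
def n16894 : Q := act 3 n16260
theorem D16894 : act 3 n16260 = n16894 := rfl
theorem F66800 : act 1 n16894 = n16262 := d9_1 D16894 (iv D16262) (iv F64313)
theorem F66801 : act 5 n16894 = n16287 := d22_2 (iv F64315) D16894 (iv D16287)
theorem F66802 : act 7 n16894 = n16264 := d24_2 D16260 D16894 (iv D16264) (iv D15543) (iv F61413)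
theorem F66803 : act 8 n16894 = n16669 := d25_2 (iv F64316) D16894 (iv D16669)
def n16895 : Q := act 3 n16261
theorem D16895 : act 3 n16261 = n16895 := rfl
theorem F66804 : act 0 n16895 = n16715 := d2_1 D16895 (iv D16715) (iv F64317)
theorem F66805 : act 6 n16895 = n16638 := d23_2 (iv F64320) D16895 (iv D16638)
theorem F66806 : act 7 n16895 = n16622 := d24_2 D16261 D16895 (iv D16622) (iv D15943) (iv F61417)
theorem F66807 : act 8 n16895 = n16674 := d25_2 (iv F64321) D16895 (iv D16674)
def n16896 : Q := act 4 n16262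
theorem D16896 : act 4 n16262 = n16896 := rfl
theorem F66808 : act 2 n16896 = n16306 := d16_1 D16896 (iv D16306) (iv F64322)
theorem F66809 : act 7 n16896 = n16265 := d28_2 (iv F64324) D16896 (iv D16265)
theorem F66810 : act 8 n16896 = n16675 := d29_2 (iv F64325) D16896 (iv D16675)
def n16897 : Q := act 2 n16263
theorem D16897 : act 2 n16263 = n16897 := rfl
theorem F66811 : act 0 n16897 = n16759 := d1_1 D16897 (iv D16759) (iv F64326)
theorem F66812 : act 4 n16897 = n16309 := d16_2 (iv F64328) D16897 (iv D16309)
theorem F66813 : act 6 n16897 = n16649 := d18_2 (iv F64329) D16897 (iv D16649)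
theorem F66814 : act 7 n16897 = n16453 := d19_2 (iv F64330) D16897 (iv D16453)
theorem F66815 : act 8 n16897 = n16678 := d20_2 (iv F64331) D16897 (iv D16678)
def n16898 : Q := act 4 n16264
theorem D16898 : act 4 n16264 = n16898 := rfl
theorem F66816 : act 1 n16898 = n16265 := d10_1 D16898 (iv D16265) (iv F64332)
theorem F66817 : act 8 n16898 = n16272 := d29_2 (iv F64334) D16898 (iv D16272)
def n16899 : Q := act 5 n16265
theorem D16899 : act 5 n16265 = n16899 := rfl
theorem F66818 : act 2 n16899 = n16333 := d17_1 D16899 (iv D16333) (iv F64335)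
theorem F66819 : act 4 n16899 = n16540 := d26_1 D16899 (iv D16540) (iv D15856) (iv F61433) D16265
theorem F66820 : act 8 n16899 = n16280 := d32_2 (iv F64336) D16899 (iv D16280)
def n16900 : Q := act 5 n16266
theorem D16900 : act 5 n16266 = n16900 := rfl
theorem F66821 : act 2 n16900 = n16343 := d17_1 D16900 (iv D16343) (iv F64337)
theorem F66822 : act 7 n16900 = n16720 := d31_2 (iv F64339) D16900 (iv D16720)
def n16901 : Q := act 7 n16267
theorem D16901 : act 7 n16267 = n16901 := rfl
theorem F66823 : act 1 n16901 = n16275 := d13_1 D16901 (iv D16275) (iv F64340)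
theorem F66824 : act 2 n16901 = n16901 := d19_1 D16901 (iv D16901) F64341
theorem F66825 : act 5 n16901 = n16269 := d31_1 D16901 (iv D16269) (iv F64343)
theorem F66826 : act 8 n16901 = n16835 := d35_2 D16267 D16901 (iv D16835) (iv D16194) F61441
def n16902 : Q := act 7 n16268
theorem D16902 : act 7 n16268 = n16902 := rfl
theorem F66827 : act 0 n16902 = n16901 := d6_1 D16902 (iv D16901) (iv F64344)
theorem F66828 : act 1 n16902 = n16276 := d13_1 D16902 (iv D16276) (iv F64345)
theorem F66829 : act 2 n16902 = n16902 := d19_1 D16902 (iv D16902) F64346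
theorem F66830 : act 4 n16902 = n16734 := d28_1 D16902 (iv D16734) (iv F64348)
theorem F66831 : act 5 n16902 = n16835 := d31_1 D16902 (iv D16835) (iv F64349)
theorem F66832 : act 6 n16902 = n16591 := d33_1 D16902 (iv D16591) (iv F64350)
theorem F66833 : act 8 n16902 = n16269 := d35_2 D16268 D16902 (iv D16269) (iv D15548) D15547
def n16903 : Q := act 3 n16269
theorem D16903 : act 3 n16269 = n16903 := rfl
theorem F66834 : act 1 n16903 = n16277 := d9_1 D16903 (iv D16277) (iv F64351)
theorem F66835 : act 7 n16903 = n16271 := d24_2 D16269 D16903 (iv D16271) (iv D15550) (iv F61451)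
def n16904 : Q := act 3 n16270
theorem D16904 : act 3 n16270 = n16904 := rfl
theorem F66836 : act 1 n16904 = n16278 := d9_1 D16904 (iv D16278) (iv F64354)
theorem F66837 : act 5 n16904 = n16271 := d22_2 (iv F64357) D16904 (iv D16271)
def n16905 : Q := act 2 n16271
theorem D16905 : act 2 n16271 = n16905 := rfl
theorem F66838 : act 3 n16905 = n16284 := d15_2 D16271 D16905 (iv D16284) (iv D15567) (iv F61458)
def n16906 : Q := act 4 n16271
theorem D16906 : act 4 n16271 = n16906 := rfl
theorem F66839 : act 1 n16906 = n16279 := d10_1 D16906 (iv D16279) (iv F64358)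
theorem F66840 : act 3 n16906 = n16272 := d21_1 D16906 (iv D16272) (iv D15551) (iv F61459) D16271
def n16907 : Q := act 5 n16272
theorem D16907 : act 5 n16272 = n16907 := rfl
theorem F66841 : act 1 n16907 = n16280 := d11_1 D16907 (iv D16280) (iv F64359)
theorem F66842 : act 4 n16907 = n16343 := d26_1 D16907 (iv D16343) (iv D15622) (iv F61461) D16272
theorem F66843 : act 7 n16907 = n16740 := d31_2 (iv F64360) D16907 (iv D16740)
def n16908 : Q := act 7 n16273
theorem D16908 : act 7 n16273 = n16908 := rfl
theorem F66844 : act 2 n16908 = n16281 := d19_1 D16908 (iv D16281) (iv F64361)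
theorem F66845 : act 4 n16908 = n16275 := d28_1 D16908 (iv D16275) (iv F64363)
theorem F66846 : act 5 n16908 = n16741 := d31_1 D16908 (iv D16741) (iv F64364)
def n16909 : Q := act 7 n16274
theorem D16909 : act 7 n16274 = n16909 := rfl
theorem F66847 : act 0 n16909 = n16662 := d6_1 D16909 (iv D16662) (iv F64365)
theorem F66848 : act 1 n16909 = n16835 := d13_1 D16909 (iv D16835) (iv F64366)
theorem F66849 : act 2 n16909 = n16282 := d19_1 D16909 (iv D16282) (iv F64367)
theorem F66850 : act 5 n16909 = n16276 := d31_1 D16909 (iv D16276) (iv F64369)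
theorem F66851 : act 6 n16909 = n16803 := d33_1 D16909 (iv D16803) (iv F64370)
theorem F66852 : act 8 n16909 = n16275 := d35_2 D16274 D16909 (iv D16275) (iv D15554) D15553
def n16910 : Q := act 3 n16275
theorem D16910 : act 3 n16275 = n16910 := rfl
theorem F66853 : act 5 n16910 = n16277 := d22_2 (iv F64372) D16910 (iv D16277)
theorem F66854 : act 7 n16910 = n16278 := d24_2 D16275 D16910 (iv D16278) (iv D15557) (iv F61473)
def n16911 : Q := act 3 n16276
theorem D16911 : act 3 n16276 = n16911 := rfl
theorem F66855 : act 0 n16911 = n16664 := d2_1 D16911 (iv D16664) (iv F64373)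
theorem F66856 : act 6 n16911 = n16595 := d23_2 (iv F64376) D16911 (iv D16595)
theorem F66857 : act 7 n16911 = n16602 := d24_2 D16276 D16911 (iv D16602) (iv D15923) (iv F61477)
theorem F66858 : act 8 n16911 = n16277 := d25_2 (iv F64377) D16911 (iv D16277)
def n16912 : Q := act 4 n16277
theorem D16912 : act 4 n16277 = n16912 := rfl
theorem F66859 : act 3 n16912 = n16747 := d21_1 D16912 (iv D16747) (iv D16086) (iv F61481) D16277
theorem F66860 : act 7 n16912 = n16279 := d28_2 (iv F64378) D16912 (iv D16279)
def n16913 : Q := act 4 n16278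
theorem D16913 : act 4 n16278 = n16913 := rfl
theorem F66861 : act 3 n16913 = n16551 := d21_1 D16913 (iv D16551) (iv D15866) (iv F61483) D16278
def n16914 : Q := act 5 n16279
theorem D16914 : act 5 n16279 = n16914 := rfl
theorem F66862 : act 3 n16914 = n16280 := d22_1 D16914 (iv D16280) (iv F64380)
def n16915 : Q := act 6 n16280
theorem D16915 : act 6 n16280 = n16915 := rfl
theorem F66863 : act 2 n16915 = n16376 := d18_1 D16915 (iv D16376) (iv F64381)
theorem F66864 : act 4 n16915 = n16555 := d27_1 D16915 (iv D16555) (iv F64382)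
theorem F66865 : act 7 n16915 = n16754 := d33_2 (iv F64383) D16915 (iv D16754)
def n16916 : Q := act 2 n16283
theorem D16916 : act 2 n16283 = n16916 := rfl
theorem F66866 : act 5 n16916 = n16284 := d17_2 (iv F64395) D16916 (iv D16284)
theorem F66867 : act 7 n16916 = n16916 := d19_2 F64396 D16916 (iv D16916)
def n16917 : Q := act 8 n16285
theorem D16917 : act 8 n16285 = n16917 := rfl
theorem F66868 : act 0 n16917 = n16295 := d7_1 D16917 (iv D16295) (iv F64398)
theorem F66869 : act 1 n16917 = n16523 := d14_1 D16917 (iv D16523) (iv F64399)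
theorem F66870 : act 2 n16917 = n16405 := d20_1 D16917 (iv D16405) (iv F64400)
theorem F66871 : act 4 n16917 = n16310 := d29_1 D16917 (iv D16310) (iv F64401)
theorem F66872 : act 5 n16917 = n16290 := d32_1 D16917 (iv D16290) (iv F64402)
theorem F66873 : act 6 n16917 = n16301 := d34_1 D16917 (iv D16301) (iv F64403)
def n16918 : Q := act 3 n16286
theorem D16918 : act 3 n16286 = n16918 := rfl
theorem F66874 : act 1 n16918 = n16527 := d9_1 D16918 (iv D16527) (iv F64404)
theorem F66875 : act 6 n16918 = n16305 := d23_2 (iv F64407) D16918 (iv D16305)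
def n16919 : Q := act 4 n16287
theorem D16919 : act 4 n16287 = n16919 := rfl
theorem F66876 : act 1 n16919 = n16528 := d10_1 D16919 (iv D16528) (iv F64408)
theorem F66877 : act 6 n16919 = n16306 := d27_2 (iv F64409) D16919 (iv D16306)
theorem F66878 : act 7 n16919 = n16311 := d28_2 (iv F64410) D16919 (iv D16311)
def n16920 : Q := act 2 n16288
theorem D16920 : act 2 n16288 = n16920 := rfl
theorem F66879 : act 0 n16920 = n16771 := d1_1 D16920 F66285 (iv F64411)
theorem F66880 : act 4 n16920 = n16649 := d16_2 (iv F64413) D16920 (iv D16649)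
theorem F66881 : act 5 n16920 = n16568 := d17_2 (iv F64414) D16920 F65405
theorem F66882 : act 6 n16920 = n16309 := d18_2 (iv F64415) D16920 (iv D16309)
theorem F66883 : act 7 n16920 = n16454 := d19_2 (iv F64416) D16920 (iv D16454)
def n16921 : Q := act 8 n16289
theorem D16921 : act 8 n16289 = n16921 := rfl
theorem F66884 : act 0 n16921 = n16294 := d7_1 D16921 (iv D16294) (iv F64417)
theorem F66885 : act 2 n16921 = n16921 := d20_1 D16921 (iv D16921) F64418
theorem F66886 : act 3 n16921 = n16290 := d25_1 D16921 (iv D16290) D16289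
theorem F66887 : act 4 n16921 = n16313 := d29_1 D16921 (iv D16313) (iv F64419)
theorem F66888 : act 6 n16921 = n16473 := d34_1 D16921 (iv D16473) (iv F64420)
def n16922 : Q := act 7 n16290
theorem D16922 : act 7 n16290 = n16922 := rfl
theorem F66889 : act 0 n16922 = n16296 := d6_1 D16922 (iv D16296) (iv F64421)
theorem F66890 : act 2 n16922 = n16406 := d19_1 D16922 (iv D16406) (iv F64422)
theorem F66891 : act 4 n16922 = n16291 := d28_1 D16922 (iv D16291) (iv F64423)
theorem F66892 : act 6 n16922 = n16475 := d33_1 D16922 (iv D16475) (iv F64424)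
theorem F66893 : act 8 n16922 = n16805 := d35_2 D16290 D16922 (iv D16805) (iv D16164) (iv F61546)
def n16923 : Q := act 3 n16291
theorem D16923 : act 3 n16291 = n16923 := rfl
theorem F66894 : act 0 n16923 = n16297 := d2_1 D16923 (iv D16297) (iv F64425)
theorem F66895 : act 2 n16923 = n16911 := d15_1 D16923 (iv D16911) F64374 (iv F61951) (iv F64426)
theorem F66896 : act 6 n16923 = n16476 := d23_2 (iv F64427) D16923 (iv D16476)
theorem F66897 : act 7 n16923 = n16315 := d24_2 D16291 D16923 (iv D16315) (iv D15595) (iv F61549)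
theorem F66898 : act 8 n16923 = n16806 := d25_2 (iv F64428) D16923 (iv D16806)
def n16924 : Q := act 8 n16292
theorem D16924 : act 8 n16292 = n16924 := rfl
theorem F66899 : act 1 n16924 = n16300 := d14_1 D16924 (iv D16300) (iv F64429)
theorem F66900 : act 2 n16924 = n16924 := d20_1 D16924 (iv D16924) F64430
theorem F66901 : act 3 n16924 = n16295 := d25_1 D16924 (iv D16295) (iv F64431)
theorem F66902 : act 5 n16924 = n16294 := d32_1 D16924 (iv D16294) D16292
theorem F66903 : act 6 n16924 = n16809 := d34_1 D16924 (iv D16809) (iv F64432)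
def n16925 : Q := act 8 n16293
theorem D16925 : act 8 n16293 = n16925 := rfl
theorem F66904 : act 0 n16925 = n16924 := d7_1 D16925 (iv D16924) (iv F64434)
theorem F66905 : act 1 n16925 = n16301 := d14_1 D16925 (iv D16301) (iv F64435)
theorem F66906 : act 2 n16925 = n16925 := d20_1 D16925 (iv D16925) F64436
theorem F66907 : act 3 n16925 = n16917 := d25_1 D16925 (iv D16917) (iv F64437)
theorem F66908 : act 4 n16925 = n16319 := d29_1 D16925 (iv D16319) (iv F64438)
theorem F66909 : act 5 n16925 = n16921 := d32_1 D16925 (iv D16921) (iv F64439)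
theorem F66910 : act 6 n16925 = n16523 := d34_1 D16925 (iv D16523) (iv F64440)
def n16926 : Q := act 7 n16294
theorem D16926 : act 7 n16294 = n16926 := rfl
theorem F66911 : act 1 n16926 = n16302 := d13_1 D16926 (iv D16302) (iv F64441)
theorem F66912 : act 2 n16926 = n16926 := d19_1 D16926 (iv D16926) F64442
theorem F66913 : act 4 n16926 = n16320 := d28_1 D16926 (iv D16320) (iv F64444)
theorem F66914 : act 6 n16926 = n16524 := d33_1 D16926 (iv D16524) (iv F64445)
def n16927 : Q := act 7 n16295
theorem D16927 : act 7 n16295 = n16927 := rfl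
theorem F66915 : act 1 n16927 = n16304 := d13_1 D16927 (iv D16304) (iv F64446)
theorem F66916 : act 2 n16927 = n16389 := d19_1 D16927 F64764 (iv F64447)
theorem F66917 : act 4 n16927 = n16388 := d28_1 D16927 F64760 (iv F64448)
theorem F66918 : act 5 n16927 = n16296 := d31_1 D16927 (iv D16296) (iv F64449)
theorem F66919 : act 8 n16927 = n16391 := d35_2 D16295 D16927 F64771 F61862 (iv F61558)
def n16928 : Q := act 3 n16296
theorem D16928 : act 3 n16296 = n16928 := rfl
theorem F66920 : act 1 n16928 = n16305 := d9_1 D16928 (iv D16305) (iv F64450)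
theorem F66921 : act 6 n16928 = n16527 := d23_2 (iv F64453) D16928 (iv D16527)
theorem F66922 : act 8 n16928 = n16918 := d25_2 (iv F64454) D16928 (iv D16918)
def n16929 : Q := act 4 n16297
theorem D16929 : act 4 n16297 = n16929 := rfl
theorem F66923 : act 1 n16929 = n16306 := d10_1 D16929 (iv D16306) (iv F64455)
theorem F66924 : act 6 n16929 = n16528 := d27_2 (iv F64456) D16929 (iv D16528)
theorem F66925 : act 7 n16929 = n16323 := d28_2 (iv F64457) D16929 (iv D16323)
theorem F66926 : act 8 n16929 = n16919 := d29_2 (iv F64458) D16929 (iv D16919)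
def n16930 : Q := act 8 n16298
theorem D16930 : act 8 n16298 = n16930 := rfl
theorem F66927 : act 0 n16930 = n16672 := d7_1 D16930 (iv D16672) (iv F64459)
theorem F66928 : act 2 n16930 = n16455 := d20_1 D16930 (iv D16455) (iv F64460)
theorem F66929 : act 3 n16930 = n16849 := d25_1 D16930 (iv D16849) (iv F64461)
theorem F66930 : act 4 n16930 = n16300 := d29_1 D16930 (iv D16300) D16298
theorem F66931 : act 5 n16930 = n16324 := d32_1 D16930 (iv D16324) (iv F64462)
theorem F66932 : act 6 n16930 = n16593 := d34_1 D16930 (iv D16593) (iv F64463)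
def n16931 : Q := act 8 n16299
theorem D16931 : act 8 n16299 = n16931 := rfl
theorem F66933 : act 0 n16931 = n16525 := d7_1 D16931 (iv D16525) (iv F64465)
theorem F66934 : act 1 n16931 = n16921 := d14_1 D16931 (iv D16921) (iv F64466)
theorem F66935 : act 2 n16931 = n16456 := d20_1 D16931 (iv D16456) (iv F64467)
theorem F66936 : act 3 n16931 = n16807 := d25_1 D16931 (iv D16807) (iv F64468)
theorem F66937 : act 4 n16931 = n16713 := d29_1 D16931 (iv D16713) (iv F64469)
theorem F66938 : act 5 n16931 = n16301 := d32_1 D16931 (iv D16301) (iv F64470)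
theorem F66939 : act 6 n16931 = n16474 := d34_1 D16931 (iv D16474) (iv F64471)
def n16932 : Q := act 7 n16300
theorem D16932 : act 7 n16300 = n16932 := rfl
theorem F66940 : act 2 n16932 = n16457 := d19_1 D16932 (iv D16457) (iv F64472)
theorem F66941 : act 5 n16932 = n16302 := d31_1 D16932 (iv D16302) (iv F64474)
theorem F66942 : act 6 n16932 = n16814 := d33_1 D16932 (iv D16814) (iv F64475)
def n16933 : Q := act 7 n16301
theorem D16933 : act 7 n16301 = n16933 := rfl
theorem F66943 : act 2 n16933 = n16458 := d19_1 D16933 (iv D16458) (iv F64476)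
theorem F66944 : act 4 n16933 = n16328 := d28_1 D16933 (iv D16328) (iv F64477)
theorem F66945 : act 8 n16933 = n16302 := d35_2 D16301 D16933 (iv D16302) (iv D15582) D15581
def n16934 : Q := act 3 n16302
theorem D16934 : act 3 n16302 = n16934 := rfl
theorem F66946 : act 7 n16934 = n16305 := d24_2 D16302 D16934 (iv D16305) (iv D15585) (iv F61573)
def n16935 : Q := act 7 n16303
theorem D16935 : act 7 n16303 = n16935 := rfl
theorem F66947 : act 0 n16935 = n16932 := d6_1 D16935 (iv D16932) (iv F64480)
theorem F66948 : act 2 n16935 = n16307 := d19_1 D16935 (iv D16307) (iv F64481)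
theorem F66949 : act 5 n16935 = n16813 := d31_1 D16935 (iv D16813) (iv F64483)
theorem F66950 : act 6 n16935 = n16304 := d33_1 D16935 (iv D16304) (iv F64484)
def n16936 : Q := act 3 n16304
theorem D16936 : act 3 n16304 = n16936 := rfl
theorem F66951 : act 5 n16936 = n16305 := d22_2 (iv F64486) D16936 (iv D16305)
def n16937 : Q := act 2 n16305
theorem D16937 : act 2 n16305 = n16937 := rfl
theorem F66952 : act 3 n16937 = n16309 := d15_2 D16305 D16937 (iv D16309) (iv D15589) (iv F61581)
def n16938 : Q := act 4 n16305
theorem D16938 : act 4 n16305 = n16938 := rfl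
theorem F66953 : act 3 n16938 = n16306 := d21_1 D16938 (iv D16306) (iv D15586) (iv F61582) D16305
def n16939 : Q := act 5 n16306
theorem D16939 : act 5 n16306 = n16939 := rfl
theorem F66954 : act 7 n16939 = n16333 := d31_2 (iv F64487) D16939 (iv D16333)
def n16940 : Q := act 3 n16307
theorem D16940 : act 3 n16307 = n16940 := rfl
theorem F66955 : act 1 n16940 = n16411 := d9_1 D16940 (iv D16411) (iv F64488)
theorem F66956 : act 5 n16940 = n16430 := d22_2 (iv F64733) D16940 F64940
theorem F66957 : act 6 n16940 = n16308 := d23_2 (iv F64489) D16940 (iv D16308)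
theorem F66958 : act 7 n16940 = n16435 := d24_2 D16307 D16940 F64958 F62075 (iv F61585)
def n16941 : Q := act 2 n16308
theorem D16941 : act 2 n16308 = n16941 := rfl
theorem F66959 : act 5 n16941 = n16309 := d17_2 (iv F64491) D16941 (iv D16309)
theorem F66960 : act 7 n16941 = n16462 := d19_2 (iv F64492) D16941 (iv D16462)
def n16942 : Q := act 4 n16308
theorem D16942 : act 4 n16308 = n16942 := rfl
theorem F66961 : act 1 n16942 = n16413 := d10_1 D16942 (iv D16413) (iv F64490)
theorem F66962 : act 7 n16942 = n16463 := d28_2 (iv F64492) D16942 (iv D16463)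
def n16943 : Q := act 1 n16309
theorem D16943 : act 1 n16309 = n16943 := rfl
theorem F66963 : act 2 n16943 = n16414 := d8_2 D16309 D16943 (iv D16414) (iv D15703) (iv F61589)
theorem F66964 : act 7 n16943 = n16464 := d13_2 (iv F64493) D16943 (iv D16464)
def n16944 : Q := act 5 n16311
theorem D16944 : act 5 n16311 = n16944 := rfl
theorem F66965 : act 1 n16944 = n16540 := d11_1 D16944 (iv D16540) (iv F64499)
theorem F66966 : act 8 n16944 = n16343 := d32_2 (iv F64501) D16944 (iv D16343)
def n16945 : Q := act 8 n16312
theorem D16945 : act 8 n16312 = n16945 := rfl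
theorem F66967 : act 0 n16945 = n16319 := d7_1 D16945 (iv D16319) (iv F64502)
theorem F66968 : act 1 n16945 = n16930 := d14_1 D16945 (iv D16930) (iv F64503)
theorem F66969 : act 2 n16945 = n16945 := d20_1 D16945 (iv D16945) F64504
theorem F66970 : act 3 n16945 = n16347 := d25_1 D16945 (iv D16347) (iv F64505)
theorem F66971 : act 4 n16945 = n16924 := d29_1 D16945 (iv D16924) (iv F64506)
theorem F66972 : act 6 n16945 = n16480 := d34_1 D16945 (iv D16480) (iv F64507)
def n16946 : Q := act 7 n16313
theorem D16946 : act 7 n16313 = n16946 := rfl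
theorem F66973 : act 0 n16946 = n16320 := d6_1 D16946 (iv D16320) (iv F64508)
theorem F66974 : act 2 n16946 = n16946 := d19_1 D16946 (iv D16946) F64509
theorem F66975 : act 6 n16946 = n16481 := d33_1 D16946 (iv D16481) (iv F64511)
def n16947 : Q := act 3 n16314
theorem D16947 : act 3 n16314 = n16947 := rfl
theorem F66976 : act 0 n16947 = n16322 := d2_1 D16947 (iv D16322) (iv F64512)
theorem F66977 : act 6 n16947 = n16482 := d23_2 (iv F64515) D16947 (iv D16482)
theorem F66978 : act 8 n16947 = n16350 := d25_2 (iv F64516) D16947 (iv D16350)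
def n16948 : Q := act 4 n16315
theorem D16948 : act 4 n16315 = n16948 := rfl
theorem F66979 : act 0 n16948 = n16323 := d3_1 D16948 (iv D16323) (iv F64517)
theorem F66980 : act 6 n16948 = n16483 := d27_2 (iv F64518) D16948 (iv D16483)
theorem F66981 : act 8 n16948 = n16351 := d29_2 (iv F64519) D16948 (iv D16351)
def n16949 : Q := act 8 n16316
theorem D16949 : act 8 n16316 = n16949 := rfl
theorem F66982 : act 1 n16949 = n16324 := d14_1 D16949 (iv D16324) (iv F64520)
theorem F66983 : act 2 n16949 = n16949 := d20_1 D16949 (iv D16949) F64521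
theorem F66984 : act 4 n16949 = n16318 := d29_1 D16949 (iv D16318) D16316
theorem F66985 : act 5 n16949 = n16945 := d32_1 D16949 (iv D16945) (iv F64522)
theorem F66986 : act 6 n16949 = n16732 := d34_1 D16949 (iv D16732) (iv F64523)
def n16950 : Q := act 8 n16317
theorem D16950 : act 8 n16317 = n16950 := rfl
theorem F66987 : act 0 n16950 = n16949 := d7_1 D16950 (iv D16949) (iv F64525)
theorem F66988 : act 1 n16950 = n16326 := d14_1 D16950 (iv D16326) (iv F64526)
theorem F66989 : act 2 n16950 = n16950 := d20_1 D16950 (iv D16950) F64527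
theorem F66990 : act 3 n16950 = n16354 := d25_1 D16950 (iv D16354) (iv F64528)
theorem F66991 : act 4 n16950 = n16731 := d29_1 D16950 (iv D16731) (iv F64529)
theorem F66992 : act 5 n16950 = n16319 := d32_1 D16950 (iv D16319) (iv F64530)
theorem F66993 : act 6 n16950 = n16730 := d34_1 D16950 (iv D16730) (iv F64531)
def n16951 : Q := act 7 n16318
theorem D16951 : act 7 n16318 = n16951 := rfl
theorem F66994 : act 1 n16951 = n16327 := d13_1 D16951 (iv D16327) (iv F64532)
theorem F66995 : act 2 n16951 = n16951 := d19_1 D16951 (iv D16951) F64533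
theorem F66996 : act 5 n16951 = n16320 := d31_1 D16951 (iv D16320) (iv F64535)
def n16952 : Q := act 7 n16319
theorem D16952 : act 7 n16319 = n16952 := rfl
theorem F66997 : act 1 n16952 = n16328 := d13_1 D16952 (iv D16328) (iv F64536)
theorem F66998 : act 2 n16952 = n16952 := d19_1 D16952 (iv D16952) F64537
theorem F66999 : act 6 n16952 = n16535 := d33_1 D16952 (iv D16535) (iv F64539)
theorem F67000 : act 8 n16952 = n16320 := d35_2 D16319 D16952 (iv D16320) (iv D15598) D15597
def n16953 : Q := act 3 n16320
theorem D16953 : act 3 n16320 = n16953 := rfl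
theorem F67001 : act 1 n16953 = n16329 := d9_1 D16953 (iv D16329) (iv F64540)
theorem F67002 : act 6 n16953 = n16536 := d23_2 (iv F64542) D16953 (iv D16536)
theorem F67003 : act 7 n16953 = n16322 := d24_2 D16320 D16953 (iv D16322) (iv D15600) (iv F61624)
def n16954 : Q := act 3 n16321
theorem D16954 : act 3 n16321 = n16954 := rfl
theorem F67004 : act 1 n16954 = n16331 := d9_1 D16954 (iv D16331) (iv F64543)
theorem F67005 : act 5 n16954 = n16322 := d22_2 (iv F64545) D16954 (iv D16322)
theorem F67006 : act 8 n16954 = n16359 := d25_2 (iv F64546) D16954 (iv D16359)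
def n16955 : Q := act 2 n16322
theorem D16955 : act 2 n16322 = n16955 := rfl
theorem F67007 : act 3 n16955 = n16395 := d15_2 D16322 D16955 (iv D16395) (iv D15676) (iv F61630)
theorem F67008 : act 6 n16955 = n16538 := d18_2 (iv F64548) D16955 (iv D16538)
theorem F67009 : act 8 n16955 = n16360 := d20_2 (iv F64549) D16955 (iv D16360)
def n16956 : Q := act 4 n16322
theorem D16956 : act 4 n16322 = n16956 := rfl
theorem F67010 : act 1 n16956 = n16332 := d10_1 D16956 (iv D16332) (iv F64547)
theorem F67011 : act 3 n16956 = n16323 := d21_1 D16956 (iv D16323) (iv D15601) (iv F61631) D16322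
theorem F67012 : act 6 n16956 = n16539 := d27_2 (iv F64548) D16956 (iv D16539)
theorem F67013 : act 8 n16956 = n16361 := d29_2 (iv F64549) D16956 (iv D16361)
def n16957 : Q := act 5 n16323
theorem D16957 : act 5 n16323 = n16957 := rfl
theorem F67014 : act 1 n16957 = n16333 := d11_1 D16957 (iv D16333) (iv F64550)
theorem F67015 : act 8 n16957 = n16362 := d32_2 (iv F64552) D16957 (iv D16362)
def n16958 : Q := act 7 n16324
theorem D16958 : act 7 n16324 = n16958 := rfl
theorem F67016 : act 2 n16958 = n16465 := d19_1 D16958 (iv D16465) (iv F64553)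
theorem F67017 : act 4 n16958 = n16327 := d28_1 D16958 (iv D16327) (iv F64554)
theorem F67018 : act 6 n16958 = n16743 := d33_1 D16958 (iv D16743) (iv F64555)
theorem F67019 : act 8 n16958 = n16742 := d35_2 D16324 D16958 (iv D16742) (iv D16082) F61639
def n16959 : Q := act 7 n16325
theorem D16959 : act 7 n16325 = n16959 := rfl
theorem F67020 : act 2 n16959 = n16466 := d19_1 D16959 (iv D16466) (iv F64556)
theorem F67021 : act 4 n16959 = n16743 := d28_1 D16959 (iv D16743) (iv F64558)
theorem F67022 : act 6 n16959 = n16327 := d33_1 D16959 (iv D16327) (iv F64559)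
theorem F67023 : act 8 n16959 = n16741 := d35_2 D16325 D16959 (iv D16741) (iv D16081) F61643
def n16960 : Q := act 7 n16326
theorem D16960 : act 7 n16326 = n16960 := rfl
theorem F67024 : act 2 n16960 = n16467 := d19_1 D16960 (iv D16467) (iv F64560)
theorem F67025 : act 4 n16960 = n16742 := d28_1 D16960 (iv D16742) (iv F64562)
theorem F67026 : act 5 n16960 = n16328 := d31_1 D16960 (iv D16328) (iv F64563)
theorem F67027 : act 6 n16960 = n16741 := d33_1 D16960 (iv D16741) (iv F64564)
theorem F67028 : act 8 n16960 = n16327 := d35_2 D16326 D16960 (iv D16327) (iv D15605) D15604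
def n16961 : Q := act 3 n16327
theorem D16961 : act 3 n16327 = n16961 := rfl
theorem F67029 : act 5 n16961 = n16329 := d22_2 (iv F64566) D16961 (iv D16329)
theorem F67030 : act 7 n16961 = n16331 := d24_2 D16327 D16961 (iv D16331) (iv D15609) (iv F61650)
def n16962 : Q := act 3 n16328
theorem D16962 : act 3 n16328 = n16962 := rfl
theorem F67031 : act 7 n16962 = n16367 := d24_2 D16328 D16962 (iv D16367) (iv D15644) (iv F61653)
theorem F67032 : act 8 n16962 = n16329 := d25_2 (iv F64568) D16962 (iv D16329)
def n16963 : Q := act 4 n16329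
theorem D16963 : act 4 n16329 = n16963 := rfl
theorem F67033 : act 7 n16963 = n16332 := d28_2 (iv F64569) D16963 (iv D16332)
def n16964 : Q := act 3 n16330
theorem D16964 : act 3 n16330 = n16964 := rfl
theorem F67034 : act 6 n16964 = n16331 := d23_2 (iv F64571) D16964 (iv D16331)
theorem F67035 : act 8 n16964 = n16370 := d25_2 (iv F64572) D16964 (iv D16370)
def n16965 : Q := act 4 n16331
theorem D16965 : act 4 n16331 = n16965 := rfl
theorem F67036 : act 8 n16965 = n16372 := d29_2 (iv F64574) D16965 (iv D16372)
def n16966 : Q := act 5 n16332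
theorem D16966 : act 5 n16332 = n16966 := rfl
theorem F67037 : act 3 n16966 = n16333 := d22_1 D16966 (iv D16333) (iv F64575)
theorem F67038 : act 8 n16966 = n16375 := d32_2 (iv F64576) D16966 (iv D16375)
def n16967 : Q := act 6 n16333
theorem D16967 : act 6 n16333 = n16967 := rfl
theorem F67039 : act 8 n16967 = n16376 := d34_2 (iv F64577) D16967 (iv D16376)
def n16968 : Q := act 7 n16334
theorem D16968 : act 7 n16334 = n16968 := rfl
theorem F67040 : act 1 n16968 = n16542 := d13_1 D16968 (iv D16542) (iv F64578)
theorem F67041 : act 2 n16968 = n16377 := d19_1 D16968 (iv D16377) (iv F64579)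
theorem F67042 : act 4 n16968 = n16337 := d28_1 D16968 (iv D16337) (iv F64580)
theorem F67043 : act 6 n16968 = n16544 := d33_1 D16968 (iv D16544) (iv F64581)
theorem F67044 : act 8 n16968 = n16543 := d35_2 D16334 D16968 (iv D16543) (iv D15860) F61668
def n16969 : Q := act 7 n16335
theorem D16969 : act 7 n16335 = n16969 := rfl
theorem F67045 : act 1 n16969 = n16543 := d13_1 D16969 (iv D16543) (iv F64582)
theorem F67046 : act 2 n16969 = n16378 := d19_1 D16969 (iv D16378) (iv F64583)
theorem F67047 : act 4 n16969 = n16544 := d28_1 D16969 (iv D16544) (iv F64585)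
theorem F67048 : act 5 n16969 = n16364 := d31_1 D16969 (iv D16364) (iv F64586)
theorem F67049 : act 6 n16969 = n16337 := d33_1 D16969 (iv D16337) (iv F64587)
theorem F67050 : act 8 n16969 = n16542 := d35_2 D16335 D16969 (iv D16542) (iv D15859) F61674
def n16970 : Q := act 7 n16336
theorem D16970 : act 7 n16336 = n16970 := rfl
theorem F67051 : act 1 n16970 = n16544 := d13_1 D16970 (iv D16544) (iv F64588)
theorem F67052 : act 2 n16970 = n16379 := d19_1 D16970 (iv D16379) (iv F64589)
theorem F67053 : act 4 n16970 = n16543 := d28_1 D16970 (iv D16543) (iv F64590)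
theorem F67054 : act 5 n16970 = n16338 := d31_1 D16970 (iv D16338) (iv F64591)
theorem F67055 : act 6 n16970 = n16542 := d33_1 D16970 (iv D16542) (iv F64592)
theorem F67056 : act 8 n16970 = n16337 := d35_2 D16336 D16970 (iv D16337) (iv D15616) D15615
def n16971 : Q := act 3 n16337
theorem D16971 : act 3 n16337 = n16971 := rfl
theorem F67057 : act 1 n16971 = n16545 := d9_1 D16971 (iv D16545) (iv F64593)
theorem F67058 : act 5 n16971 = n16339 := d22_2 (iv F64595) D16971 (iv D16339)
theorem F67059 : act 7 n16971 = n16341 := d24_2 D16337 D16971 (iv D16341) (iv D15620) (iv F61682)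
def n16972 : Q := act 3 n16338
theorem D16972 : act 3 n16338 = n16972 := rfl
theorem F67060 : act 1 n16972 = n16546 := d9_1 D16972 (iv D16546) (iv F64596)
theorem F67061 : act 6 n16972 = n16367 := d23_2 (iv F64598) D16972 (iv D16367)
theorem F67062 : act 8 n16972 = n16339 := d25_2 (iv F64599) D16972 (iv D16339)
def n16973 : Q := act 4 n16339
theorem D16973 : act 4 n16339 = n16973 := rfl
theorem F67063 : act 1 n16973 = n16548 := d10_1 D16973 (iv D16548) (iv F64600)
theorem F67064 : act 6 n16973 = n16369 := d27_2 (iv F64601) D16973 (iv D16369)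
theorem F67065 : act 7 n16973 = n16342 := d28_2 (iv F64602) D16973 (iv D16342)
def n16974 : Q := act 3 n16340
theorem D16974 : act 3 n16340 = n16974 := rfl
theorem F67066 : act 1 n16974 = n16549 := d9_1 D16974 (iv D16549) (iv F64603)
theorem F67067 : act 5 n16974 = n16370 := d22_2 (iv F64605) D16974 (iv D16370)
theorem F67068 : act 6 n16974 = n16341 := d23_2 (iv F64606) D16974 (iv D16341)
def n16975 : Q := act 4 n16341
theorem D16975 : act 4 n16341 = n16975 := rfl
theorem F67069 : act 1 n16975 = n16551 := d10_1 D16975 (iv D16551) (iv F64607)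
def n16976 : Q := act 5 n16342
theorem D16976 : act 5 n16342 = n16976 := rfl
theorem F67070 : act 1 n16976 = n16554 := d11_1 D16976 (iv D16554) (iv F64609)
theorem F67071 : act 3 n16976 = n16343 := d22_1 D16976 (iv D16343) (iv F64610)
def n16977 : Q := act 6 n16343
theorem D16977 : act 6 n16343 = n16977 := rfl
theorem F67072 : act 1 n16977 = n16555 := d12_1 D16977 (iv D16555) (iv F64612)
theorem F67073 : act 5 n16977 = n16376 := d30_1 D16977 (iv D16376) (iv D15650) (iv F61700) D16343
def n16978 : Q := act 8 n16344
theorem D16978 : act 8 n16344 = n16978 := rfl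
theorem F67074 : act 0 n16978 = n16352 := d7_1 D16978 (iv D16352) (iv F64613)
theorem F67075 : act 1 n16978 = n16694 := d14_1 D16978 (iv D16694) (iv F64614)
theorem F67076 : act 2 n16978 = n16415 := d20_1 D16978 (iv D16415) (iv F64615)
theorem F67077 : act 3 n16978 = n16732 := d25_1 D16978 (iv D16732) (iv F64616)
theorem F67078 : act 4 n16978 = n16346 := d29_1 D16978 (iv D16346) D16344
theorem F67079 : act 5 n16978 = n16687 := d32_1 D16978 (iv D16687) (iv F64617)
def n16979 : Q := act 8 n16345
theorem D16979 : act 8 n16345 = n16979 := rfl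
theorem F67080 : act 0 n16979 = n16354 := d7_1 D16979 (iv D16354) (iv F64619)
theorem F67081 : act 1 n16979 = n16692 := d14_1 D16979 (iv D16692) (iv F64620)
theorem F67082 : act 2 n16979 = n16417 := d20_1 D16979 (iv D16417) (iv F64621)
theorem F67083 : act 3 n16979 = n16949 := d25_1 D16979 (iv D16949) (iv F64622)
theorem F67084 : act 4 n16979 = n16686 := d29_1 D16979 (iv D16686) (iv F64623)
theorem F67085 : act 5 n16979 = n16347 := d32_1 D16979 (iv D16347) (iv F64624)
theorem F67086 : act 6 n16979 = n16978 := d34_1 D16979 (iv D16978) (iv F64625)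
def n16980 : Q := act 7 n16346
theorem D16980 : act 7 n16346 = n16980 := rfl
theorem F67087 : act 0 n16980 = n16355 := d6_1 D16980 (iv D16355) (iv F64626)
theorem F67088 : act 2 n16980 = n16418 := d19_1 D16980 (iv D16418) (iv F64627)
theorem F67089 : act 5 n16980 = n16348 := d31_1 D16980 (iv D16348) (iv F64629)
def n16981 : Q := act 7 n16347
theorem D16981 : act 7 n16347 = n16981 := rfl
theorem F67090 : act 0 n16981 = n16356 := d6_1 D16981 (iv D16356) (iv F64630)
theorem F67091 : act 2 n16981 = n16419 := d19_1 D16981 (iv D16419) (iv F64631)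
theorem F67092 : act 4 n16981 = n16844 := d28_1 D16981 (iv D16844) (iv F64632)
theorem F67093 : act 6 n16981 = n16493 := d33_1 D16981 (iv D16493) (iv F64633)
theorem F67094 : act 8 n16981 = n16348 := d35_2 D16347 D16981 (iv D16348) (iv D15626) D15625
def n16982 : Q := act 3 n16348
theorem D16982 : act 3 n16348 = n16982 := rfl
theorem F67095 : act 0 n16982 = n16357 := d2_1 D16982 (iv D16357) (iv F64634)
theorem F67096 : act 6 n16982 = n16494 := d23_2 (iv F64637) D16982 (iv D16494)
theorem F67097 : act 7 n16982 = n16350 := d24_2 D16348 D16982 (iv D16350) (iv D15628) (iv F61713)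
def n16983 : Q := act 3 n16349
theorem D16983 : act 3 n16349 = n16983 := rfl
theorem F67098 : act 0 n16983 = n16359 := d2_1 D16983 (iv D16359) (iv F64638)
theorem F67099 : act 5 n16983 = n16350 := d22_2 (iv F64640) D16983 (iv D16350)
def n16984 : Q := act 2 n16350
theorem D16984 : act 2 n16350 = n16984 := rfl
theorem F67100 : act 0 n16984 = n16360 := d1_1 D16984 (iv D16360) (iv F64641)
theorem F67101 : act 3 n16984 = n16398 := d15_2 D16350 D16984 (iv D16398) (iv D15679) (iv F61720)
theorem F67102 : act 6 n16984 = n16496 := d18_2 (iv F64642) D16984 (iv D16496)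
def n16985 : Q := act 4 n16350
theorem D16985 : act 4 n16350 = n16985 := rfl
theorem F67103 : act 0 n16985 = n16361 := d3_1 D16985 (iv D16361) (iv F64641)
theorem F67104 : act 3 n16985 = n16351 := d21_1 D16985 (iv D16351) (iv D15629) (iv F61721) D16350
theorem F67105 : act 6 n16985 = n16497 := d27_2 (iv F64642) D16985 (iv D16497)
def n16986 : Q := act 5 n16351
theorem D16986 : act 5 n16351 = n16986 := rfl
theorem F67106 : act 0 n16986 = n16362 := d4_1 D16986 (iv D16362) (iv F64643)
theorem F67107 : act 7 n16986 = n16848 := d31_2 (iv F64645) D16986 (iv D16848)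
def n16987 : Q := act 7 n16352
theorem D16987 : act 7 n16352 = n16987 := rfl
theorem F67108 : act 1 n16987 = n16363 := d13_1 D16987 (iv D16363) (iv F64646)
theorem F67109 : act 2 n16987 = n16424 := d19_1 D16987 (iv D16424) (iv F64647)
theorem F67110 : act 4 n16987 = n16355 := d28_1 D16987 (iv D16355) (iv F64648)
theorem F67111 : act 5 n16987 = n16968 := d31_1 D16987 (iv D16968) (iv F64649)
def n16988 : Q := act 7 n16353
theorem D16988 : act 7 n16353 = n16988 := rfl
theorem F67112 : act 1 n16988 = n16364 := d13_1 D16988 (iv D16364) (iv F64650)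
theorem F67113 : act 2 n16988 = n16425 := d19_1 D16988 (iv D16425) (iv F64651)
theorem F67114 : act 5 n16988 = n16543 := d31_1 D16988 (iv D16543) (iv F64653)
theorem F67115 : act 6 n16988 = n16355 := d33_1 D16988 (iv D16355) (iv F64654)
theorem F67116 : act 8 n16988 = n16987 := d35_2 D16353 D16988 (iv D16987) (iv D16352) F61733
def n16989 : Q := act 7 n16354
theorem D16989 : act 7 n16354 = n16989 := rfl
theorem F67117 : act 1 n16989 = n16365 := d13_1 D16989 (iv D16365) (iv F64655)
theorem F67118 : act 2 n16989 = n16426 := d19_1 D16989 (iv D16426) (iv F64656)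
theorem F67119 : act 4 n16989 = n16988 := d28_1 D16989 (iv D16988) (iv F64657)
theorem F67120 : act 5 n16989 = n16356 := d31_1 D16989 (iv D16356) (iv F64658)
theorem F67121 : act 6 n16989 = n16987 := d33_1 D16989 (iv D16987) (iv F64659)
theorem F67122 : act 8 n16989 = n16355 := d35_2 D16354 D16989 (iv D16355) (iv D15633) D15632
def n16990 : Q := act 3 n16355
theorem D16990 : act 3 n16355 = n16990 := rfl
theorem F67123 : act 1 n16990 = n16366 := d9_1 D16990 (iv D16366) (iv F64660)
theorem F67124 : act 5 n16990 = n16357 := d22_2 (iv F64662) D16990 (iv D16357)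
theorem F67125 : act 7 n16990 = n16359 := d24_2 D16355 D16990 (iv D16359) (iv D15637) (iv F61741)
def n16991 : Q := act 3 n16356
theorem D16991 : act 3 n16356 = n16991 := rfl
theorem F67126 : act 1 n16991 = n16367 := d9_1 D16991 (iv D16367) (iv F64663)
theorem F67127 : act 6 n16991 = n16546 := d23_2 (iv F64666) D16991 (iv D16546)
theorem F67128 : act 8 n16991 = n16357 := d25_2 (iv F64667) D16991 (iv D16357)
def n16992 : Q := act 2 n16357
theorem D16992 : act 2 n16357 = n16992 := rfl
theorem F67129 : act 3 n16992 = n16429 := d15_2 D16357 D16992 (iv D16429) (iv D15718) (iv F61748)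
theorem F67130 : act 6 n16992 = n16547 := d18_2 (iv F64669) D16992 (iv D16547)
theorem F67131 : act 7 n16992 = n16360 := d19_2 (iv F64670) D16992 (iv D16360)
def n16993 : Q := act 4 n16357
theorem D16993 : act 4 n16357 = n16993 := rfl
theorem F67132 : act 1 n16993 = n16369 := d10_1 D16993 (iv D16369) (iv F64668)
theorem F67133 : act 3 n16993 = n16973 := d21_1 D16993 (iv D16973) (iv D16339) (iv F61749) D16357
theorem F67134 : act 6 n16993 = n16548 := d27_2 (iv F64669) D16993 (iv D16548)
theorem F67135 : act 7 n16993 = n16361 := d28_2 (iv F64670) D16993 (iv D16361)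
def n16994 : Q := act 3 n16358
theorem D16994 : act 3 n16358 = n16994 := rfl
theorem F67136 : act 1 n16994 = n16370 := d9_1 D16994 (iv D16370) (iv F64671)
theorem F67137 : act 5 n16994 = n16549 := d22_2 (iv F64673) D16994 (iv D16549)
theorem F67138 : act 6 n16994 = n16359 := d23_2 (iv F64674) D16994 (iv D16359)
def n16995 : Q := act 2 n16359
theorem D16995 : act 2 n16359 = n16995 := rfl
theorem F67139 : act 3 n16995 = n16399 := d15_2 D16359 D16995 (iv D16399) (iv D15681) (iv F61756)
theorem F67140 : act 5 n16995 = n16360 := d17_2 (iv F64676) D16995 (iv D16360)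
def n16996 : Q := act 4 n16359
theorem D16996 : act 4 n16359 = n16996 := rfl
theorem F67141 : act 1 n16996 = n16372 := d10_1 D16996 (iv D16372) (iv F64675)
def n16997 : Q := act 1 n16360
theorem D16997 : act 1 n16360 = n16997 := rfl
theorem F67142 : act 2 n16997 = n16373 := d8_2 D16360 D16997 (iv D16373) (iv D15648) (iv F61758)
theorem F67143 : act 3 n16997 = n16401 := d9_2 (iv F64677) D16997 (iv D16401)
theorem F67144 : act 6 n16997 = n16552 := d12_2 (iv F64678) D16997 (iv D16552)
def n16998 : Q := act 4 n16360
theorem D16998 : act 4 n16360 = n16998 := rfl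
theorem F67145 : act 2 n16998 = n16361 := d16_1 D16998 (iv D16361) D16360
theorem F67146 : act 6 n16998 = n16553 := d27_2 (iv F64678) D16998 (iv D16553)
def n16999 : Q := act 5 n16361
theorem D16999 : act 5 n16361 = n16999 := rfl
theorem F67147 : act 1 n16999 = n16375 := d11_1 D16999 (iv D16375) (iv F64679)
theorem F67148 : act 3 n16999 = n16362 := d22_1 D16999 (iv D16362) (iv F64680)
def n17000 : Q := act 6 n16362
theorem D17000 : act 6 n16362 = n17000 := rfl
theorem F67149 : act 1 n17000 = n16376 := d12_1 D17000 (iv D16376) (iv F64682)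
theorem F67150 : act 5 n17000 = n16555 := d30_1 D17000 (iv D16555) (iv D15869) (iv F61761) D16362
theorem F67151 : act 7 n17000 = n16977 := d33_2 (iv F64683) D17000 (iv D16977)
def n17001 : Q := act 3 n16363
theorem D17001 : act 3 n16363 = n17001 := rfl
def n17002 : Q := act 3 n16364
theorem D17002 : act 3 n16364 = n17002 := rfl
theorem F67152 : act 6 n17002 = n16366 := d23_2 (iv F64687) D17002 (iv D16366)
theorem F67153 : act 7 n17002 = n16370 := d24_2 D16364 D17002 (iv D16370) (iv D15646) (iv F61766)
theorem F67154 : act 8 n17002 = n17001 := d25_2 (iv F64688) D17002 (iv D17001)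
def n17003 : Q := act 3 n16365
theorem D17003 : act 3 n16365 = n17003 := rfl
theorem F67155 : act 5 n17003 = n16367 := d22_2 (iv F64691) D17003 (iv D16367)
theorem F67156 : act 6 n17003 = n17001 := d23_2 (iv F64692) D17003 (iv D17001)
theorem F67157 : act 8 n17003 = n16366 := d25_2 (iv F64693) D17003 (iv D16366)
def n17004 : Q := act 2 n16366
theorem D17004 : act 2 n16366 = n17004 := rfl
theorem F67158 : act 3 n17004 = n16387 := d15_2 D16366 D17004 (iv D16387) (iv D15665) (iv F61772)
theorem F67159 : act 5 n17004 = n16368 := d17_2 (iv F64694) D17004 (iv D16368)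
theorem F67160 : act 7 n17004 = n16371 := d19_2 (iv F64695) D17004 (iv D16371)
theorem F67161 : act 1 n16895 = n17004 := d36_6 (iv F59487) (iv F62555) (iv D15845) (iv F61421) (iv F64319) D16895 (iv D17004) (iv D16366) (iv F64693) (iv D16365) (iv F64561) F64563 (iv F64477) (iv F65294) (iv F66869) F66870 F64831 (iv D16405) F61942 F59089 F55502 (iv D14059) (iv D13079) F47362 F47363 F44789 (iv F40676) (iv D10422) F32750 F24185 (iv F23302) (iv F31511) F31510 F23336 F23337 (iv D4421) (iv D3235) F9630 D3234 D4417 D6036 (iv F31484) D10067 (iv F40440) F40443 D10405 D11855 (iv F49148) D13496 F53185 F53184 (iv F53750) (iv F53752) (iv F55799) (iv D14150) (iv F55245) F55247 (iv F52361) F52360 (iv F56049) (iv F59503) (iv F62581) (iv D15852) (iv D15081) (iv D14214) D14215 F56995 F56991 D15170 F59793 F56564 D14382 (iv F56681) (iv F59554) (iv F60120) F60119 (iv D14493) F53341 F49426 D13594 F53572 (iv F57321) (iv D14529) F53544 F49406 F45390 (iv F48182) (iv F52170) D14226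
def n17005 : Q := act 4 n16366
theorem D17005 : act 4 n16366 = n17005 := rfl
theorem F67162 : act 7 n17005 = n16372 := d28_2 (iv F64695) D17005 (iv D16372)
def n17006 : Q := act 2 n16367
theorem D17006 : act 2 n16367 = n17006 := rfl
theorem F67163 : act 3 n17006 = n16388 := d15_2 D16367 D17006 (iv D16388) (iv D15666) (iv F61774)
theorem F67164 : act 8 n17006 = n16368 := d20_2 (iv F64696) D17006 (iv D16368)
def n17007 : Q := act 4 n16367
theorem D17007 : act 4 n16367 = n17007 := rfl
theorem F67165 : act 8 n17007 = n16369 := d29_2 (iv F64696) D17007 (iv D16369)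
def n17008 : Q := act 1 n16368
theorem D17008 : act 1 n16368 = n17008 := rfl
theorem F67166 : act 3 n17008 = n16390 := d9_2 (iv F64697) D17008 (iv D16390)
theorem F67167 : act 5 n17008 = n16895 := d11_2 F67159 D17008 F67161
theorem F67168 : act 7 n17008 = n16373 := d13_2 (iv F64698) D17008 (iv D16373)
def n17009 : Q := act 4 n16368
theorem D17009 : act 4 n16368 = n17009 := rfl
theorem F67169 : act 2 n17009 = n16369 := d16_1 D17009 (iv D16369) D16368
theorem F67170 : act 7 n17009 = n16374 := d28_2 (iv F64698) D17009 (iv D16374)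
def n17010 : Q := act 5 n16369
theorem D17010 : act 5 n16369 = n17010 := rfl
theorem F67171 : act 7 n17010 = n16375 := d31_2 (iv F64699) D17010 (iv D16375)
def n17011 : Q := act 4 n16370
theorem D17011 : act 4 n16370 = n17011 := rfl
theorem F67172 : act 6 n17011 = n16372 := d27_2 (iv F64700) D17011 (iv D16372)
def n17012 : Q := act 4 n16371
theorem D17012 : act 4 n16371 = n17012 := rfl
theorem F67173 : act 2 n17012 = n16372 := d16_1 D17012 (iv D16372) D16371
def n17013 : Q := act 5 n16372
theorem D17013 : act 5 n16372 = n17013 := rfl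
theorem F67174 : act 4 n17013 = n16375 := d26_1 D17013 (iv D16375) (iv D15649) (iv F61779) D16372
def n17014 : Q := act 4 n16373
theorem D17014 : act 4 n16373 = n17014 := rfl
theorem F67175 : act 1 n17014 = n16374 := d10_1 D17014 (iv D16374) D16373
def n17015 : Q := act 5 n16374
theorem D17015 : act 5 n16374 = n17015 := rfl
theorem F67176 : act 2 n17015 = n16375 := d17_1 D17015 (iv D16375) (iv F64704)
def n17016 : Q := act 6 n16375
theorem D17016 : act 6 n16375 = n17016 := rfl
theorem F67177 : act 3 n17016 = n16376 := d23_1 D17016 (iv D16376) (iv F64705)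
def n17017 : Q := act 3 n16377
theorem D17017 : act 3 n16377 = n17017 := rfl
theorem F67178 : act 1 n17017 = n16442 := d9_1 D17017 (iv D16442) (iv F64706)
theorem F67179 : act 6 n17017 = n16562 := d23_2 (iv F64708) D17017 (iv D16562)
theorem F67180 : act 7 n17017 = n17017 := d24_2 D16377 D17017 (iv D17017) (iv D16377) F61787
theorem F67181 : act 8 n17017 = n16561 := d25_2 (iv F64709) D17017 (iv D16561)
def n17018 : Q := act 3 n16378
theorem D17018 : act 3 n16378 = n17018 := rfl
theorem F67182 : act 0 n17018 = n16466 := d2_1 D17018 (iv F66723) F66721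
theorem F67183 : act 1 n17018 = n16443 := d9_1 D17018 (iv D16443) (iv F64710)
theorem F67184 : act 5 n17018 = n16386 := d22_2 (iv F64712) D17018 (iv D16386)
theorem F67185 : act 6 n17018 = n16380 := d23_2 (iv F64713) D17018 (iv D16380)
theorem F67186 : act 7 n17018 = n16383 := d24_2 D16378 D17018 (iv D16383) (iv D15659) (iv F61791)
theorem F67187 : act 8 n17018 = n16560 := d25_2 (iv F64714) D17018 (iv D16560)
theorem F67188 : act 4 n16647 = n17018 := d29_3 F67187 (iv F65381) (iv F65791)
def n17019 : Q := act 3 n16379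
theorem D17019 : act 3 n16379 = n17019 := rfl
theorem F67189 : act 0 n17019 = n16467 := d2_1 D17019 (iv F66730) F66728
theorem F67190 : act 1 n17019 = n16444 := d9_1 D17019 (iv D16444) (iv F64715)
theorem F67191 : act 4 n17019 = n16646 := d21_2 (iv F64716) D17019 F65785 F65479 (iv D16561)
theorem F67192 : act 5 n17019 = n16381 := d22_2 (iv F64717) D17019 (iv D16381)
theorem F67193 : act 6 n17019 = n16560 := d23_2 (iv F64718) D17019 (iv D16560)
theorem F67194 : act 7 n17019 = n16452 := d24_2 D16379 D17019 F65041 F62251 (iv F61796)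
theorem F67195 : act 8 n17019 = n16380 := d25_2 (iv F64719) D17019 (iv D16380)
def n17020 : Q := act 4 n16380
theorem D17020 : act 4 n16380 = n17020 := rfl
theorem F67196 : act 0 n17020 = n16465 := d3_1 D17020 F65099 (iv F64720)
theorem F67197 : act 1 n17020 = n16446 := d10_1 D17020 (iv D16446) (iv F64721)
theorem F67198 : act 5 n17020 = n16676 := d26_2 (iv F64722) D17020 F65933 F64733 (iv D16382)
theorem F67199 : act 6 n17020 = n16647 := d27_2 F67185 D17020 F67188
theorem F67200 : act 7 n17020 = n16384 := d28_2 (iv F64723) D17020 (iv D16384)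
theorem F67201 : act 8 n17020 = n16646 := d29_2 F67195 D17020 (iv F67191)
def n17021 : Q := act 4 n16381
theorem D17021 : act 4 n16381 = n17021 := rfl
theorem F67202 : act 0 n17021 = n16458 := d3_1 D17021 F65074 (iv F64724)
theorem F67203 : act 1 n17021 = n16409 := d10_1 D17021 F64852 (iv F64725)
theorem F67204 : act 5 n17021 = n16529 := d26_2 F67192 D17021 F65312 (iv F65786) (iv F67191)
theorem F67205 : act 6 n17021 = n16389 := d27_2 (iv F64726) D17021 (iv D16389)
theorem F67206 : act 7 n17021 = n16407 := d28_2 (iv F64727) D17021 F64843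
theorem F67207 : act 8 n17021 = n16382 := d29_2 (iv F64728) D17021 (iv D16382)
def n17022 : Q := act 2 n16385
theorem D17022 : act 2 n16385 = n17022 := rfl
theorem F67208 : act 0 n17022 = n16908 := d1_1 D17022 F66844 (iv F64746)
theorem F67209 : act 1 n17022 = n16637 := d8_1 D17022 F65751 F63049 F62181 (iv F64747)
theorem F67210 : act 4 n17022 = n16663 := d16_2 (iv F64748) D17022 F65879
theorem F67211 : act 6 n17022 = n16668 := d18_2 (iv F64749) D17022 F65905
theorem F67212 : act 7 n17022 = n16392 := d19_2 (iv F64750) D17022 (iv D16392)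
theorem F67213 : act 8 n17022 = n16629 := d20_2 F64755 D17022 F65720
def n17023 : Q := act 3 n16391
theorem D17023 : act 3 n16391 = n17023 := rfl
theorem F67214 : act 5 n17023 = n16918 := d22_2 (iv F64770) D17023 (iv D16918)
def n17024 : Q := act 2 n16393
theorem D17024 : act 2 n16393 = n17024 := rfl
theorem F67215 : act 0 n17024 = n16395 := d1_1 D17024 (iv D16395) (iv F64777)
theorem F67216 : act 6 n17024 = n16484 := d18_2 (iv F64779) D17024 (iv D16484)
theorem F67217 : act 7 n17024 = n17024 := d19_2 F64780 D17024 (iv D17024)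
theorem F67218 : act 8 n17024 = n16398 := d20_2 (iv F64781) D17024 (iv D16398)
def n17025 : Q := act 2 n16394
theorem D17025 : act 2 n16394 = n17025 := rfl
theorem F67219 : act 5 n17025 = n16395 := d17_2 (iv F64783) D17025 (iv D16395)
theorem F67220 : act 7 n17025 = n17025 := d19_2 F64784 D17025 (iv D17025)
theorem F67221 : act 8 n17025 = n16399 := d20_2 (iv F64785) D17025 (iv D16399)
def n17026 : Q := act 4 n16394
theorem D17026 : act 4 n16394 = n17026 := rfl
theorem F67222 : act 0 n17026 = n16520 := d3_1 D17026 (iv F66354) F66352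
theorem F67223 : act 1 n17026 = n16396 := d10_1 D17026 (iv D16396) (iv F64782)
theorem F67224 : act 3 n17026 = n16519 := d21_1 D17026 (iv F65861) F65860 F63680 D16394
theorem F67225 : act 5 n17026 = n16517 := d26_2 (iv F64783) D17026 (iv D16517) (iv F63334) F63333
theorem F67226 : act 6 n17026 = n16515 := d27_2 F65840 D17026 (iv F65838)
theorem F67227 : act 7 n17026 = n17026 := d28_2 F64784 D17026 (iv D17026)
theorem F67228 : act 8 n17026 = n16400 := d29_2 (iv F64785) D17026 (iv D16400)
def n17027 : Q := act 2 n16397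
theorem D17027 : act 2 n16397 = n17027 := rfl
theorem F67229 : act 0 n17027 = n16399 := d1_1 D17027 (iv D16399) (iv F64796)
theorem F67230 : act 5 n17027 = n16398 := d17_2 (iv F64798) D17027 (iv D16398)
theorem F67231 : act 7 n17027 = n16448 := d19_2 (iv F64799) D17027 (iv D16448)
def n17028 : Q := act 1 n16398
theorem D17028 : act 1 n16398 = n17028 := rfl
theorem F67232 : act 2 n17028 = n16400 := d8_2 D16398 D17028 F64805 F61900 (iv F61888)
theorem F67233 : act 4 n17028 = n16399 := d10_2 F65692 D17028 (iv F65691)
theorem F67234 : act 6 n17028 = n16500 := d12_2 (iv F64801) D17028 (iv D16500)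
theorem F67235 : act 7 n17028 = n16449 := d13_2 (iv F64802) D17028 (iv D16449)
def n17029 : Q := act 1 n16404
theorem D17029 : act 1 n16404 = n17029 := rfl
theorem F67236 : act 3 n17029 = n16580 := d9_2 (iv F64825) D17029 (iv D16580)
theorem F67237 : act 5 n17029 = n16587 := d11_2 (iv F64826) D17029 F65493
theorem F67238 : act 6 n17029 = n16414 := d12_2 (iv F64827) D17029 (iv D16414)
theorem F67239 : act 7 n17029 = n16468 := d13_2 (iv F64828) D17029 (iv D16468)
def n17030 : Q := act 2 n16408
theorem D17030 : act 2 n16408 = n17030 := rfl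
theorem F67240 : act 6 n17030 = n16531 := d18_2 (iv F64847) D17030 (iv D16531)
theorem F67241 : act 7 n17030 = n17030 := d19_2 F64848 D17030 (iv D17030)
theorem F67242 : act 8 n17030 = n16920 := d20_2 (iv F64849) D17030 (iv D16920)
def n17031 : Q := act 1 n16410
theorem D17031 : act 1 n16410 = n17031 := rfl
theorem F67243 : act 3 n17031 = n16414 := d9_2 (iv F64857) D17031 (iv D16414)
theorem F67244 : act 6 n17031 = n16580 := d12_2 (iv F64858) D17031 (iv D16580)
theorem F67245 : act 7 n17031 = n17031 := d13_2 F64859 D17031 (iv D17031)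
theorem F67246 : act 8 n17031 = n17029 := d14_2 (iv F64860) D17031 (iv D17029)
def n17032 : Q := act 1 n16412
theorem D17032 : act 1 n16412 = n17032 := rfl
theorem F67247 : act 4 n17032 = n16940 := d10_2 F64868 D17032 F66955
theorem F67248 : act 5 n17032 = n16414 := d11_2 (iv F64866) D17032 (iv D16414)
theorem F67249 : act 6 n17032 = n16942 := d12_2 F64871 D17032 F66961
theorem F67250 : act 7 n17032 = n16469 := d13_2 (iv F64867) D17032 (iv D16469)
def n17033 : Q := act 0 n16414
theorem D17033 : act 0 n16414 = n17033 := rfl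
theorem F67251 : act 1 n17033 = n17033 := d0_2 D16414 D17033 (iv D17033) (iv D16414) F61988
theorem F67252 : act 7 n17033 = n16470 := d6_2 (iv F64873) D17033 (iv D16470)
def n17034 : Q := act 7 n16415
theorem D17034 : act 7 n16415 = n17034 := rfl
theorem F67253 : act 0 n17034 = n16424 := d6_1 D17034 (iv D16424) (iv F64874)
theorem F67254 : act 1 n17034 = n17034 := d13_1 D17034 (iv D17034) F64875
theorem F67255 : act 4 n17034 = n16418 := d28_1 D17034 (iv D16418) (iv F64877)
theorem F67256 : act 5 n17034 = n16877 := d31_1 D17034 (iv D16877) (iv F64878)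
def n17035 : Q := act 7 n16416
theorem D17035 : act 7 n16416 = n17035 := rfl
theorem F67257 : act 0 n17035 = n16425 := d6_1 D17035 (iv D16425) (iv F64879)
theorem F67258 : act 1 n17035 = n17035 := d13_1 D17035 (iv D17035) F64880
theorem F67259 : act 5 n17035 = n16502 := d31_1 D17035 (iv D16502) (iv F64882)
theorem F67260 : act 6 n17035 = n16418 := d33_1 D17035 (iv D16418) (iv F64883)
theorem F67261 : act 8 n17035 = n17034 := d35_2 D16416 D17035 (iv D17034) (iv D16415) F61998
def n17036 : Q := act 7 n16417
theorem D17036 : act 7 n16417 = n17036 := rfl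
theorem F67262 : act 0 n17036 = n16426 := d6_1 D17036 (iv D16426) (iv F64884)
theorem F67263 : act 1 n17036 = n17036 := d13_1 D17036 (iv D17036) F64885
theorem F67264 : act 4 n17036 = n17035 := d28_1 D17036 (iv D17035) (iv F64887)
theorem F67265 : act 5 n17036 = n16419 := d31_1 D17036 (iv D16419) (iv F64888)
theorem F67266 : act 6 n17036 = n17034 := d33_1 D17036 (iv D17034) (iv F64889)
theorem F67267 : act 8 n17036 = n16418 := d35_2 D16417 D17036 (iv D16418) (iv D15707) D15706
def n17037 : Q := act 3 n16418
theorem D17037 : act 3 n16418 = n17037 := rfl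
theorem F67268 : act 0 n17037 = n16427 := d2_1 D17037 (iv D16427) (iv F64890)
theorem F67269 : act 1 n17037 = n17037 := d9_1 D17037 (iv D17037) F64891
theorem F67270 : act 5 n17037 = n16420 := d22_2 (iv F64892) D17037 (iv D16420)
theorem F67271 : act 7 n17037 = n16422 := d24_2 D16418 D17037 (iv D16422) (iv D15711) (iv F62007)
theorem F67272 : act 4 n17033 = n17037 := d28_3 F67271 (iv F65123) (iv F67252)
def n17038 : Q := act 3 n16419
theorem D17038 : act 3 n16419 = n17038 := rfl
theorem F67273 : act 0 n17038 = n16428 := d2_1 D17038 (iv D16428) (iv F64893)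
theorem F67274 : act 1 n17038 = n17038 := d9_1 D17038 (iv D17038) F64894
theorem F67275 : act 6 n17038 = n16505 := d23_2 (iv F64896) D17038 (iv D16505)
theorem F67276 : act 7 n17038 = n17038 := d24_2 D16419 D17038 (iv D17038) (iv D16419) F62011
theorem F67277 : act 8 n17038 = n16420 := d25_2 (iv F64897) D17038 (iv D16420)
def n17039 : Q := act 2 n16420
theorem D17039 : act 2 n16420 = n17039 := rfl
theorem F67278 : act 0 n17039 = n16429 := d1_1 D17039 (iv D16429) (iv F64898)
theorem F67279 : act 6 n17039 = n16506 := d18_2 (iv F64900) D17039 (iv D16506)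
theorem F67280 : act 7 n17039 = n16423 := d19_2 (iv F64901) D17039 (iv D16423)
def n17040 : Q := act 3 n16421
theorem D17040 : act 3 n16421 = n17040 := rfl
theorem F67281 : act 0 n17040 = n16431 := d2_1 D17040 (iv D16431) (iv F64902)
theorem F67282 : act 1 n17040 = n17040 := d9_1 D17040 (iv D17040) F64903
theorem F67283 : act 5 n17040 = n16508 := d22_2 (iv F64906) D17040 (iv D16508)
theorem F67284 : act 6 n17040 = n16422 := d23_2 (iv F64907) D17040 (iv D16422)
theorem F67285 : act 8 n17040 = n17040 := d25_2 F64908 D17040 (iv D17040)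
def n17041 : Q := act 2 n16422
theorem D17041 : act 2 n16422 = n17041 := rfl
theorem F67286 : act 0 n17041 = n16432 := d1_1 D17041 (iv D16432) (iv F64909)
theorem F67287 : act 3 n17041 = n16448 := d15_2 D16422 D17041 (iv D16448) (iv D15750) (iv F62026)
theorem F67288 : act 5 n17041 = n16423 := d17_2 (iv F64911) D17041 (iv D16423)
theorem F67289 : act 8 n17041 = n17041 := d20_2 F64912 D17041 (iv D17041)
def n17042 : Q := act 1 n16423
theorem D17042 : act 1 n16423 = n17042 := rfl
theorem F67290 : act 2 n17042 = n17042 := d8_2 D16423 D17042 (iv D17042) (iv D16423) F62031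
theorem F67291 : act 3 n17042 = n16449 := d9_2 (iv F64914) D17042 (iv D16449)
theorem F67292 : act 6 n17042 = n16510 := d12_2 (iv F64915) D17042 (iv D16510)
theorem F67293 : act 8 n17042 = n17042 := d14_2 F64916 D17042 (iv D17042)
def n17043 : Q := act 3 n16424
theorem D17043 : act 3 n16424 = n17043 := rfl
theorem F67294 : act 1 n17043 = n16436 := d9_1 D17043 (iv D16436) (iv F64917)
theorem F67295 : act 4 n17043 = n17031 := d21_2 (iv F64918) D17043 F67243 F64932 (iv D16427)
theorem F67296 : act 5 n17043 = n17017 := d22_2 (iv F64919) D17043 (iv D17017)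
theorem F67297 : act 6 n17043 = n16789 := d23_2 F64927 D17043 F66386
theorem F67298 : act 7 n17043 = n17043 := d24_2 D16424 D17043 (iv D17043) (iv D16424) F62035
def n17044 : Q := act 3 n16425
theorem D17044 : act 3 n16425 = n17044 := rfl
theorem F67299 : act 1 n17044 = n16437 := d9_1 D17044 (iv D16437) (iv F64920)
theorem F67300 : act 4 n17044 = n17029 := d21_2 F64925 D17044 F67236 (iv F66387) F66386
theorem F67301 : act 5 n17044 = n16561 := d22_2 (iv F64921) D17044 (iv D16561)
theorem F67302 : act 6 n17044 = n16427 := d23_2 (iv F64922) D17044 (iv D16427)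
theorem F67303 : act 7 n17044 = n16431 := d24_2 D16425 D17044 (iv D16431) (iv D15719) (iv F62039)
theorem F67304 : act 8 n17044 = n17043 := d25_2 (iv F64923) D17044 (iv D17043)
def n17045 : Q := act 2 n16427
theorem D17045 : act 2 n16427 = n17045 := rfl
theorem F67305 : act 1 n17045 = n16897 := d8_1 D17045 (iv D16897) F64327 (iv F62092) (iv F64929)
theorem F67306 : act 4 n17045 = n16943 := d16_2 F64932 D17045 F66963
theorem F67307 : act 5 n17045 = n16429 := d17_2 (iv F64930) D17045 (iv D16429)
theorem F67308 : act 7 n17045 = n16432 := d19_2 (iv F64931) D17045 (iv D16432)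
def n17046 : Q := act 2 n16428
theorem D17046 : act 2 n16428 = n17046 := rfl
theorem F67309 : act 6 n17046 = n16565 := d18_2 (iv F64934) D17046 (iv D16565)
theorem F67310 : act 7 n17046 = n17046 := d19_2 F64935 D17046 (iv D17046)
theorem F67311 : act 8 n17046 = n16429 := d20_2 (iv F64936) D17046 (iv D16429)
def n17047 : Q := act 4 n16428
theorem D17047 : act 4 n16428 = n17047 := rfl
theorem F67312 : act 1 n17047 = n16438 := d10_1 D17047 (iv D16438) (iv F64933)
theorem F67313 : act 3 n17047 = n17021 := d21_1 D17047 (iv D17021) (iv D16381) (iv F62050) D16428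
theorem F67314 : act 6 n17047 = n16566 := d27_2 (iv F64934) D17047 (iv D16566)
theorem F67315 : act 7 n17047 = n17047 := d28_2 F64935 D17047 (iv D17047)
theorem F67316 : act 8 n17047 = n16430 := d29_2 (iv F64936) D17047 (iv D16430)
def n17048 : Q := act 1 n16429
theorem D17048 : act 1 n16429 = n17048 := rfl
theorem F67317 : act 2 n17048 = n16439 := d8_2 D16429 D17048 (iv D16439) (iv D15729) (iv F62053)
theorem F67318 : act 5 n17048 = n16897 := d11_2 F67307 D17048 (iv F67305)
theorem F67319 : act 6 n17048 = n16567 := d12_2 (iv F64937) D17048 (iv D16567)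
theorem F67320 : act 7 n17048 = n16433 := d13_2 (iv F64938) D17048 (iv D16433)
def n17049 : Q := act 4 n16429
theorem D17049 : act 4 n16429 = n17049 := rfl
theorem F67321 : act 2 n17049 = n16430 := d16_1 D17049 (iv D16430) D16429
theorem F67322 : act 6 n17049 = n16568 := d27_2 (iv F64937) D17049 (iv D16568)
theorem F67323 : act 7 n17049 = n16434 := d28_2 (iv F64938) D17049 (iv D16434)
def n17050 : Q := act 4 n16433
theorem D17050 : act 4 n16433 = n17050 := rfl
theorem F67324 : act 1 n17050 = n16434 := d10_1 D17050 (iv D16434) D16433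
theorem F67325 : act 2 n17050 = n16441 := d16_1 D17050 (iv D16441) (iv F64950)
theorem F67326 : act 6 n17050 = n16573 := d27_2 (iv F64952) D17050 (iv D16573)
theorem F67327 : act 8 n17050 = n17050 := d29_2 F64953 D17050 (iv D17050)
def n17051 : Q := act 5 n16434
theorem D17051 : act 5 n16434 = n17051 := rfl
theorem F67328 : act 2 n17051 = n16435 := d17_1 D17051 (iv D16435) (iv F64954)
theorem F67329 : act 6 n17051 = n16462 := d30_2 (iv F64955) D17051 F65089 (iv F65055) F65054
theorem F67330 : act 8 n17051 = n17051 := d32_2 F64956 D17051 (iv D17051)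
def n17052 : Q := act 4 n16439
theorem D17052 : act 4 n16439 = n17052 := rfl
theorem F67331 : act 1 n17052 = n16440 := d10_1 D17052 (iv D16440) D16439
theorem F67332 : act 5 n17052 = n16942 := d26_2 (iv F64979) D17052 (iv D16942) F64491 (iv F64328)
theorem F67333 : act 6 n17052 = n16587 := d27_2 (iv F64980) D17052 (iv D16587)
theorem F67334 : act 7 n17052 = n16441 := d28_2 (iv F64981) D17052 (iv D16441)
def n17053 : Q := act 2 n16450
theorem D17053 : act 2 n16450 = n17053 := rfl
theorem F67335 : act 0 n17053 = n16462 := d1_1 D17053 (iv D16462) (iv F65030)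
theorem F67336 : act 3 n17053 = n17051 := d15_2 D16450 D17053 F67328 F64958 (iv F62214)
theorem F67337 : act 5 n17053 = n16451 := d17_2 (iv F65032) D17053 (iv D16451)
theorem F67338 : act 8 n17053 = n17053 := d20_2 F65033 D17053 (iv D17053)
def n17054 : Q := act 4 n16450
theorem D17054 : act 4 n16450 = n17054 := rfl
theorem F67339 : act 0 n17054 = n16463 := d3_1 D17054 (iv D16463) (iv F65030)
theorem F67340 : act 1 n17054 = n17054 := d10_1 D17054 (iv D17054) F65031
theorem F67341 : act 3 n17054 = n17054 := d21_1 D17054 (iv D17054) (iv D16450) F62215 D16450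
theorem F67342 : act 5 n17054 = n16761 := d26_2 (iv F65032) D17054 (iv D16761) F63611 (iv F62220)
theorem F67343 : act 8 n17054 = n17054 := d29_2 F65033 D17054 (iv D17054)
def n17055 : Q := act 1 n16451
theorem D17055 : act 1 n16451 = n17055 := rfl
theorem F67344 : act 2 n17055 = n17055 := d8_2 D16451 D17055 (iv D17055) (iv D16451) F62219
theorem F67345 : act 3 n17055 = n17050 := d9_2 (iv F65035) D17055 F67324
theorem F67346 : act 4 n17055 = n16762 := d10_2 (iv F65036) D17055 (iv D16762)
theorem F67347 : act 6 n17055 = n16774 := d12_2 (iv F65037) D17055 F66297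
theorem F67348 : act 8 n17055 = n17055 := d14_2 F65038 D17055 (iv D17055)
def n17056 : Q := act 1 n16454
theorem D17056 : act 1 n16454 = n17056 := rfl
theorem F67349 : act 2 n17056 = n16468 := d8_2 D16454 D17056 (iv D16468) (iv D15782) (iv F62270)
theorem F67350 : act 4 n17056 = n16650 := d10_2 (iv F65053) D17056 (iv D16650)
theorem F67351 : act 5 n17056 = n16573 := d11_2 (iv F65054) D17056 F65425
theorem F67352 : act 6 n17056 = n16464 := d12_2 (iv F65055) D17056 (iv D16464)
theorem F67353 : act 8 n17056 = n17056 := d14_2 F65056 D17056 (iv D17056)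
def n17057 : Q := act 7 n16455
theorem D17057 : act 7 n16455 = n17057 := rfl
theorem F67354 : act 0 n17057 = n16676 := d6_1 D17057 (iv D16676) (iv F65057)
theorem F67355 : act 1 n17057 = n17057 := d13_1 D17057 (iv D17057) F65058
theorem F67356 : act 4 n17057 = n16457 := d28_1 D17057 (iv D16457) (iv F65060)
theorem F67357 : act 5 n17057 = n16465 := d31_1 D17057 (iv D16465) (iv F65061)
theorem F67358 : act 6 n17057 = n16596 := d33_1 D17057 (iv D16596) (iv F65062)
theorem F67359 : act 8 n17057 = n16757 := d35_2 D16455 D17057 (iv D16757) (iv D16094) F62280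
def n17058 : Q := act 7 n16456
theorem D17058 : act 7 n16456 = n17058 := rfl
theorem F67360 : act 0 n17058 = n16529 := d6_1 D17058 (iv D16529) (iv F65063)
theorem F67361 : act 1 n17058 = n17058 := d13_1 D17058 (iv D17058) F65064
theorem F67362 : act 4 n17058 = n16757 := d28_1 D17058 (iv D16757) (iv F65066)
theorem F67363 : act 5 n17058 = n16458 := d31_1 D17058 (iv D16458) (iv F65067)
theorem F67364 : act 6 n17058 = n16477 := d33_1 D17058 (iv D16477) (iv F65068)
theorem F67365 : act 8 n17058 = n16457 := d35_2 D16456 D17058 (iv D16457) (iv D15768) D15767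
def n17059 : Q := act 3 n16457
theorem D17059 : act 3 n16457 = n17059 := rfl
theorem F67366 : act 0 n17059 = n16940 := d2_1 D17059 (iv D16940) (iv F65069)
theorem F67367 : act 1 n17059 = n17059 := d9_1 D17059 (iv D17059) F65070
theorem F67368 : act 5 n17059 = n16459 := d22_2 (iv F65071) D17059 (iv D16459)
theorem F67369 : act 6 n17059 = n16817 := d23_2 (iv F65072) D17059 (iv D16817)
theorem F67370 : act 7 n17059 = n16460 := d24_2 D16457 D17059 (iv D16460) (iv D15771) (iv F62289)
def n17060 : Q := act 3 n16458
theorem D17060 : act 3 n16458 = n17060 := rfl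
theorem F67371 : act 0 n17060 = n17047 := d2_1 D17060 F67313 F67202
theorem F67372 : act 1 n17060 = n17060 := d9_1 D17060 (iv D17060) F65073
theorem F67373 : act 4 n17060 = n17038 := d21_2 (iv F65074) D17060 (iv D17038) F64895 F64209
theorem F67374 : act 7 n17060 = n17060 := d24_2 D16458 D17060 (iv D17060) (iv D16458) F62293
theorem F67375 : act 8 n17060 = n16459 := d25_2 (iv F65075) D17060 (iv D16459)
def n17061 : Q := act 2 n16459
theorem D17061 : act 2 n16459 = n17061 := rfl
theorem F67376 : act 0 n17061 = n17049 := d1_1 D17061 F67321 (iv F65076)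
theorem F67377 : act 4 n17061 = n17039 := d16_2 (iv F65078) D17061 (iv D17039)
theorem F67378 : act 7 n17061 = n16461 := d19_2 (iv F65079) D17061 (iv D16461)
def n17062 : Q := act 2 n16460
theorem D17062 : act 2 n16460 = n17062 := rfl
theorem F67379 : act 0 n17062 = n17051 := d1_1 D17062 F67328 (iv F65080)
theorem F67380 : act 3 n17062 = n16462 := d15_2 D16460 D17062 (iv D16462) (iv D15773) (iv F62299)
theorem F67381 : act 5 n17062 = n16461 := d17_2 (iv F65082) D17062 (iv D16461)
theorem F67382 : act 6 n17062 = n17053 := d18_2 (iv F65083) D17062 (iv D17053)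
theorem F67383 : act 8 n17062 = n17062 := d20_2 F65084 D17062 (iv D17062)
def n17063 : Q := act 4 n16460
theorem D17063 : act 4 n16460 = n17063 := rfl
theorem F67384 : act 0 n17063 = n16469 := d3_1 D17063 F65117 (iv F65080)
theorem F67385 : act 1 n17063 = n17063 := d10_1 D17063 (iv D17063) F65081
theorem F67386 : act 3 n17063 = n17063 := d21_1 D17063 (iv D17063) (iv D16460) F62300 D16460
theorem F67387 : act 5 n17063 = n16470 := d26_2 (iv F65082) D17063 F65123 F64911 (iv F62306)
theorem F67388 : act 6 n17063 = n17054 := d27_2 (iv F65083) D17063 (iv D17054)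
theorem F67389 : act 8 n17063 = n17063 := d29_2 F65084 D17063 (iv D17063)
def n17064 : Q := act 1 n16461
theorem D17064 : act 1 n16461 = n17064 := rfl
theorem F67390 : act 2 n17064 = n17064 := d8_2 D16461 D17064 (iv D17064) (iv D16461) F62305
theorem F67391 : act 3 n17064 = n16464 := d9_2 (iv F65086) D17064 (iv D16464)
theorem F67392 : act 4 n17064 = n17042 := d10_2 (iv F65087) D17064 (iv D17042)
theorem F67393 : act 8 n17064 = n17064 := d14_2 F65088 D17064 (iv D17064)
def n17065 : Q := act 1 n16462
theorem D17065 : act 1 n16462 = n17065 := rfl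
theorem F67394 : act 2 n17065 = n16469 := d8_2 D16462 D17065 (iv D16469) (iv D15783) (iv F62308)
theorem F67395 : act 5 n17065 = n16464 := d11_2 (iv F65089) D17065 (iv D16464)
theorem F67396 : act 8 n17065 = n17065 := d14_2 F65090 D17065 (iv D17065)
theorem F67397 : act 4 n17051 = n17065 := d26_5 F67395 F65096 F64948 D16434 D17051
def n17066 : Q := act 4 n16462
theorem D17066 : act 4 n16462 = n17066 := rfl
theorem F67398 : act 1 n17066 = n17051 := d10_1 D17066 F67397 (iv D17065)
theorem F67399 : act 2 n17066 = n16463 := d16_1 D17066 (iv D16463) D16462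
theorem F67400 : act 5 n17066 = n17050 := d26_2 (iv F65089) D17066 (iv D17050) (iv F65049) F65048
theorem F67401 : act 6 n17066 = n17065 := d27_2 F67329 D17066 (iv F67397)
theorem F67402 : act 8 n17066 = n17066 := d29_2 F65090 D17066 (iv D17066)
def n17067 : Q := act 0 n16464
theorem D17067 : act 0 n16464 = n17067 := rfl
theorem F67403 : act 2 n17067 = n16470 := d1_2 (iv F65095) D17067 (iv D16470)
theorem F67404 : act 4 n17067 = n17041 := d3_2 (iv F65096) D17067 F67286
theorem F67405 : act 8 n17067 = n17067 := d7_2 F65097 D17067 (iv D17067)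
def n17068 : Q := act 3 n16465
theorem D17068 : act 3 n16465 = n17068 := rfl
theorem F67406 : act 1 n17068 = n17068 := d9_1 D17068 (iv D17068) F65098
theorem F67407 : act 6 n17068 = n16766 := d23_2 (iv F65100) D17068 (iv D16766)
theorem F67408 : act 7 n17068 = n17068 := d24_2 D16465 D17068 (iv D17068) (iv D16465) F62313
theorem F67409 : act 8 n17068 = n16765 := d25_2 (iv F65101) D17068 (iv D16765)
def n17069 : Q := act 0 n16468
theorem D17069 : act 0 n16468 = n17069 := rfl
theorem F67410 : act 1 n17069 = n17069 := d0_2 D16468 D17069 (iv D17069) (iv D16468) F62337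
theorem F67411 : act 3 n17069 = n17069 := d2_2 F65111 D17069 (iv D17069)
theorem F67412 : act 4 n17069 = n17040 := d3_2 (iv F65112) D17069 F67281
theorem F67413 : act 5 n17069 = n16588 := d4_2 (iv F65113) D17069 F65495
theorem F67414 : act 6 n17069 = n16470 := d5_2 (iv F65114) D17069 (iv D16470)
theorem F67415 : act 8 n17069 = n17069 := d7_2 F65115 D17069 (iv D17069)
def n17070 : Q := act 7 n16471
theorem D17070 : act 7 n16471 = n17070 := rfl
theorem F67416 : act 1 n17070 = n16475 := d13_1 D17070 (iv D16475) (iv F65125)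
theorem F67417 : act 2 n17070 = n17070 := d19_1 D17070 (iv D17070) F65126
theorem F67418 : act 4 n17070 = n16472 := d28_1 D17070 (iv D16472) (iv F65127)
theorem F67419 : act 8 n17070 = n16810 := d35_2 D16471 D17070 (iv D16810) (iv D16170) (iv F62365)
def n17071 : Q := act 3 n16472
theorem D17071 : act 3 n16472 = n17071 := rfl
theorem F67420 : act 1 n17071 = n16476 := d9_1 D17071 (iv D16476) (iv F65128)
theorem F67421 : act 7 n17071 = n16479 := d24_2 D16472 D17071 (iv D16479) (iv D15795) (iv F62368)
theorem F67422 : act 8 n17071 = n16811 := d25_2 (iv F65130) D17071 (iv D16811)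
def n17072 : Q := act 7 n16473
theorem D17072 : act 7 n16473 = n17072 := rfl
theorem F67423 : act 0 n17072 = n16524 := d6_1 D17072 (iv D16524) (iv F65131)
theorem F67424 : act 2 n17072 = n17072 := d19_1 D17072 (iv D17072) F65132
theorem F67425 : act 4 n17072 = n16481 := d28_1 D17072 (iv D16481) (iv F65134)
theorem F67426 : act 5 n17072 = n17070 := d31_1 D17072 (iv D17070) (iv F65135)
def n17073 : Q := act 7 n16474
theorem D17073 : act 7 n16474 = n17073 := rfl
theorem F67427 : act 0 n17073 = n16526 := d6_1 D17073 (iv D16526) (iv F65136)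
theorem F67428 : act 1 n17073 = n17072 := d13_1 D17073 (iv D17072) (iv F65137)
theorem F67429 : act 2 n17073 = n16477 := d19_1 D17073 (iv D16477) (iv F65138)
theorem F67430 : act 4 n17073 = n16714 := d28_1 D17073 (iv D16714) (iv F65140)
theorem F67431 : act 5 n17073 = n16475 := d31_1 D17073 (iv D16475) (iv F65141)
theorem F67432 : act 8 n17073 = n16814 := d35_2 D16474 D17073 (iv D16814) (iv D16174) (iv F62378)
def n17074 : Q := act 3 n16475
theorem D17074 : act 3 n16475 = n17074 := rfl
theorem F67433 : act 0 n17074 = n16527 := d2_1 D17074 (iv D16527) (iv F65142)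
theorem F67434 : act 8 n17074 = n16815 := d25_2 (iv F65145) D17074 (iv D16815)
def n17075 : Q := act 4 n16476
theorem D17075 : act 4 n16476 = n17075 := rfl
theorem F67435 : act 0 n17075 = n16528 := d3_1 D17075 (iv D16528) (iv F65146)
theorem F67436 : act 7 n17075 = n16483 := d28_2 (iv F65147) D17075 (iv D16483)
theorem F67437 : act 8 n17075 = n16816 := d29_2 (iv F65148) D17075 (iv D16816)
def n17076 : Q := act 3 n16477
theorem D17076 : act 3 n16477 = n17076 := rfl
theorem F67438 : act 0 n17076 = n16530 := d2_1 D17076 (iv D16530) (iv F65149)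
theorem F67439 : act 1 n17076 = n17076 := d9_1 D17076 (iv D17076) F65150
theorem F67440 : act 5 n17076 = n16478 := d22_2 (iv F65152) D17076 (iv D16478)
theorem F67441 : act 7 n17076 = n17076 := d24_2 D16477 D17076 (iv D17076) (iv D16477) F62387
theorem F67442 : act 8 n17076 = n16817 := d25_2 (iv F65153) D17076 (iv D16817)
def n17077 : Q := act 2 n16478
theorem D17077 : act 2 n16478 = n17077 := rfl
theorem F67443 : act 0 n17077 = n16531 := d1_1 D17077 (iv D16531) (iv F65154)
theorem F67444 : act 7 n17077 = n17077 := d19_2 F65156 D17077 (iv D17077)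
theorem F67445 : act 8 n17077 = n16818 := d20_2 (iv F65157) D17077 (iv D16818)
def n17078 : Q := act 2 n16479
theorem D17078 : act 2 n16479 = n17078 := rfl
theorem F67446 : act 3 n17078 = n16513 := d15_2 D16479 D17078 (iv D16513) (iv D15827) (iv F62395)
theorem F67447 : act 8 n17078 = n16488 := d20_2 (iv F65159) D17078 (iv D16488)
def n17079 : Q := act 4 n16479
theorem D17079 : act 4 n16479 = n17079 := rfl
theorem F67448 : act 1 n17079 = n16483 := d10_1 D17079 (iv D16483) (iv F65158)
theorem F67449 : act 8 n17079 = n16489 := d29_2 (iv F65159) D17079 (iv D16489)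
def n17080 : Q := act 7 n16480
theorem D17080 : act 7 n16480 = n17080 := rfl
theorem F67450 : act 0 n17080 = n16535 := d6_1 D17080 (iv D16535) (iv F65160)
theorem F67451 : act 2 n17080 = n17080 := d19_1 D17080 (iv D17080) F65161
theorem F67452 : act 8 n17080 = n16481 := d35_2 D16480 D17080 (iv D16481) (iv D15797) D15796
def n17081 : Q := act 3 n16481
theorem D17081 : act 3 n16481 = n17081 := rfl
theorem F67453 : act 0 n17081 = n16536 := d2_1 D17081 (iv D16536) (iv F65163)
theorem F67454 : act 7 n17081 = n16482 := d24_2 D16481 D17081 (iv D16482) (iv D15798) (iv F62402)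
def n17082 : Q := act 2 n16482
theorem D17082 : act 2 n16482 = n17082 := rfl
theorem F67455 : act 0 n17082 = n16538 := d1_1 D17082 (iv D16538) (iv F65165)
theorem F67456 : act 3 n17082 = n16484 := d15_2 D16482 D17082 (iv D16484) (iv D15800) (iv F62404)
theorem F67457 : act 8 n17082 = n16496 := d20_2 (iv F65166) D17082 (iv D16496)
def n17083 : Q := act 4 n16482
theorem D17083 : act 4 n16482 = n17083 := rfl
theorem F67458 : act 0 n17083 = n16539 := d3_1 D17083 (iv D16539) (iv F65165)
theorem F67459 : act 3 n17083 = n16483 := d21_1 D17083 (iv D16483) (iv D15799) (iv F62405) D16482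
theorem F67460 : act 8 n17083 = n16497 := d29_2 (iv F65166) D17083 (iv D16497)
def n17084 : Q := act 5 n16483
theorem D17084 : act 5 n16483 = n17084 := rfl
theorem F67461 : act 0 n17084 = n16540 := d4_1 D17084 (iv D16540) (iv F65167)
theorem F67462 : act 8 n17084 = n16498 := d32_2 (iv F65168) D17084 (iv D16498)
def n17085 : Q := act 1 n16484
theorem D17085 : act 1 n16484 = n17085 := rfl
theorem F67463 : act 2 n17085 = n16515 := d8_2 D16484 D17085 (iv D16515) (iv D15829) (iv F62410)
theorem F67464 : act 7 n17085 = n17085 := d13_2 F65170 D17085 (iv D17085)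
theorem F67465 : act 8 n17085 = n16500 := d14_2 (iv F65171) D17085 (iv D16500)
def n17086 : Q := act 7 n16485
theorem D17086 : act 7 n16485 = n17086 := rfl
theorem F67466 : act 1 n17086 = n16493 := d13_1 D17086 (iv D16493) (iv F65172)
theorem F67467 : act 2 n17086 = n17086 := d19_1 D17086 (iv D17086) F65173
theorem F67468 : act 4 n17086 = n16857 := d28_1 D17086 (iv D16857) (iv F65174)
theorem F67469 : act 8 n17086 = n16486 := d35_2 D16485 D17086 (iv D16486) (iv D15802) D15801
def n17087 : Q := act 3 n16486
theorem D17087 : act 3 n16486 = n17087 := rfl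
theorem F67470 : act 1 n17087 = n16494 := d9_1 D17087 (iv D16494) (iv F65175)
theorem F67471 : act 7 n17087 = n16487 := d24_2 D16486 D17087 (iv D16487) (iv D15803) (iv F62418)
def n17088 : Q := act 2 n16487
theorem D17088 : act 2 n16487 = n17088 := rfl
theorem F67472 : act 3 n17088 = n16516 := d15_2 D16487 D17088 (iv D16516) (iv D15830) (iv F62421)
def n17089 : Q := act 4 n16487
theorem D17089 : act 4 n16487 = n17089 := rfl
theorem F67473 : act 1 n17089 = n16497 := d10_1 D17089 (iv D16497) (iv F65178)
theorem F67474 : act 3 n17089 = n16489 := d21_1 D17089 (iv D16489) (iv D15804) (iv F62422) D16487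
def n17090 : Q := act 4 n16488
theorem D17090 : act 4 n16488 = n17090 := rfl
theorem F67475 : act 2 n17090 = n16489 := d16_1 D17090 (iv D16489) D16488
theorem F67476 : act 7 n17090 = n16862 := d28_2 (iv F65180) D17090 (iv D16862)
def n17091 : Q := act 5 n16489
theorem D17091 : act 5 n16489 = n17091 := rfl
theorem F67477 : act 1 n17091 = n16498 := d11_1 D17091 (iv D16498) (iv F65181)
theorem F67478 : act 7 n17091 = n16863 := d31_2 (iv F65182) D17091 (iv D16863)
def n17092 : Q := act 7 n16490
theorem D17092 : act 7 n16490 = n17092 := rfl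
theorem F67479 : act 0 n17092 = n16542 := d6_1 D17092 (iv D16542) (iv F65183)
theorem F67480 : act 2 n17092 = n16501 := d19_1 D17092 (iv D16501) (iv F65184)
theorem F67481 : act 4 n17092 = n16492 := d28_1 D17092 (iv D16492) (iv F65186)
theorem F67482 : act 5 n17092 = n16864 := d31_1 D17092 (iv D16864) (iv F65187)
def n17093 : Q := act 7 n16491
theorem D17093 : act 7 n16491 = n17093 := rfl
theorem F67483 : act 0 n17093 = n16544 := d6_1 D17093 (iv D16544) (iv F65188)
theorem F67484 : act 2 n17093 = n16503 := d19_1 D17093 (iv D16503) (iv F65189)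
theorem F67485 : act 5 n17093 = n16493 := d31_1 D17093 (iv D16493) (iv F65190)
theorem F67486 : act 8 n17093 = n16492 := d35_2 D16491 D17093 (iv D16492) (iv D15807) D15806
def n17094 : Q := act 3 n16492
theorem D17094 : act 3 n16492 = n17094 := rfl
theorem F67487 : act 0 n17094 = n16545 := d2_1 D17094 (iv D16545) (iv F65191)
theorem F67488 : act 5 n17094 = n16494 := d22_2 (iv F65193) D17094 (iv D16494)
theorem F67489 : act 7 n17094 = n16495 := d24_2 D16492 D17094 (iv D16495) (iv D15810) (iv F62433)
def n17095 : Q := act 3 n16493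
theorem D17095 : act 3 n16493 = n17095 := rfl
theorem F67490 : act 0 n17095 = n16546 := d2_1 D17095 (iv D16546) (iv F65194)
theorem F67491 : act 8 n17095 = n16494 := d25_2 (iv F65197) D17095 (iv D16494)
def n17096 : Q := act 2 n16494
theorem D17096 : act 2 n16494 = n17096 := rfl
theorem F67492 : act 0 n17096 = n16547 := d1_1 D17096 (iv D16547) (iv F65198)
theorem F67493 : act 3 n17096 = n16506 := d15_2 D16494 D17096 (iv D16506) (iv D15820) (iv F62439)
theorem F67494 : act 7 n17096 = n16496 := d19_2 (iv F65199) D17096 (iv D16496)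
def n17097 : Q := act 4 n16494
theorem D17097 : act 4 n16494 = n17097 := rfl
theorem F67495 : act 0 n17097 = n16548 := d3_1 D17097 (iv D16548) (iv F65198)
theorem F67496 : act 3 n17097 = n16870 := d21_1 D17097 (iv D16870) (iv D16225) (iv F62440) D16494
theorem F67497 : act 7 n17097 = n16497 := d28_2 (iv F65199) D17097 (iv D16497)
def n17098 : Q := act 2 n16495
theorem D17098 : act 2 n16495 = n17098 := rfl
theorem F67498 : act 0 n17098 = n16550 := d1_1 D17098 (iv D16550) (iv F65200)
theorem F67499 : act 3 n17098 = n16499 := d15_2 D16495 D17098 (iv D16499) (iv D15813) (iv F62442)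
theorem F67500 : act 5 n17098 = n16496 := d17_2 (iv F65201) D17098 (iv D16496)
def n17099 : Q := act 4 n16495
theorem D17099 : act 4 n16495 = n17099 := rfl
theorem F67501 : act 0 n17099 = n16551 := d3_1 D17099 (iv D16551) (iv F65200)
def n17100 : Q := act 1 n16496
theorem D17100 : act 1 n16496 = n17100 := rfl
theorem F67502 : act 3 n17100 = n16500 := d9_2 (iv F65203) D17100 (iv D16500)
def n17101 : Q := act 4 n16496
theorem D17101 : act 4 n16496 = n17101 := rfl
theorem F67503 : act 0 n17101 = n16553 := d3_1 D17101 (iv D16553) (iv F65202)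
theorem F67504 : act 2 n17101 = n16497 := d16_1 D17101 (iv D16497) D16496
def n17102 : Q := act 5 n16497
theorem D17102 : act 5 n16497 = n17102 := rfl
theorem F67505 : act 0 n17102 = n16554 := d4_1 D17102 (iv D16554) (iv F65204)
theorem F67506 : act 3 n17102 = n16498 := d22_1 D17102 (iv D16498) (iv F65205)
def n17103 : Q := act 6 n16498
theorem D17103 : act 6 n16498 = n17103 := rfl
theorem F67507 : act 0 n17103 = n16555 := d5_1 D17103 (iv D16555) (iv F65206)
theorem F67508 : act 7 n17103 = n16876 := d33_2 (iv F65207) D17103 (iv D16876)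
def n17104 : Q := act 0 n16500
theorem D17104 : act 0 n16500 = n17104 := rfl
theorem F67509 : act 1 n17104 = n16559 := d0_2 D16500 D17104 (iv D16559) (iv D15873) (iv F62451)
theorem F67510 : act 2 n17104 = n16519 := d1_2 (iv F65211) D17104 F65278
theorem F67511 : act 5 n17104 = n16518 := d4_2 F66781 D17104 (iv F66778)
theorem F67512 : act 7 n17104 = n16512 := d6_2 (iv F65212) D17104 (iv D16512)
def n17105 : Q := act 3 n16502
theorem D17105 : act 3 n16502 = n17105 := rfl
theorem F67513 : act 0 n17105 = n16561 := d2_1 D17105 (iv D16561) (iv F65218)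
theorem F67514 : act 1 n17105 = n17105 := d9_1 D17105 (iv D17105) F65219
theorem F67515 : act 4 n17105 = n16765 := d21_2 F66731 D17105 (iv D16765) (iv F65107) (iv F66730)
theorem F67516 : act 6 n17105 = n16504 := d23_2 (iv F65220) D17105 (iv D16504)
theorem F67517 : act 7 n17105 = n16508 := d24_2 D16502 D17105 (iv D16508) (iv D15821) (iv F62460)
def n17106 : Q := act 3 n16503
theorem D17106 : act 3 n16503 = n17106 := rfl
theorem F67518 : act 0 n17106 = n16562 := d2_1 D17106 (iv D16562) (iv F65221)
theorem F67519 : act 1 n17106 = n17106 := d9_1 D17106 (iv D17106) F65222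
theorem F67520 : act 4 n17106 = n16766 := d21_2 F66724 D17106 (iv D16766) (iv F65103) (iv F66723)
theorem F67521 : act 5 n17106 = n16505 := d22_2 (iv F65223) D17106 (iv D16505)
theorem F67522 : act 7 n17106 = n17106 := d24_2 D16503 D17106 (iv D17106) (iv D16503) F62464
theorem F67523 : act 8 n17106 = n16504 := d25_2 (iv F65224) D17106 (iv D16504)
def n17107 : Q := act 2 n16504
theorem D17107 : act 2 n16504 = n17107 := rfl
theorem F67524 : act 0 n17107 = n16563 := d1_1 D17107 (iv D16563) (iv F65225)
theorem F67525 : act 4 n17107 = n16767 := d16_2 (iv F65227) D17107 (iv D16767)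
theorem F67526 : act 5 n17107 = n16506 := d17_2 (iv F65228) D17107 (iv D16506)
theorem F67527 : act 7 n17107 = n16509 := d19_2 (iv F65229) D17107 (iv D16509)
def n17108 : Q := act 2 n16505
theorem D17108 : act 2 n16505 = n17108 := rfl
theorem F67528 : act 0 n17108 = n16565 := d1_1 D17108 (iv D16565) (iv F65230)
theorem F67529 : act 7 n17108 = n17108 := d19_2 F65232 D17108 (iv D17108)
theorem F67530 : act 8 n17108 = n16506 := d20_2 (iv F65233) D17108 (iv D16506)
def n17109 : Q := act 4 n16505
theorem D17109 : act 4 n16505 = n17109 := rfl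
theorem F67531 : act 0 n17109 = n16566 := d3_1 D17109 (iv D16566) (iv F65230)
theorem F67532 : act 1 n17109 = n17109 := d10_1 D17109 (iv D17109) F65231
theorem F67533 : act 3 n17109 = n16883 := d21_1 D17109 (iv D16883) (iv D16241) (iv F62471) D16505
theorem F67534 : act 5 n17109 = n16769 := d26_2 F67521 D17109 (iv D16769) (iv F66270) (iv F67520)
theorem F67535 : act 6 n17109 = n17060 := d27_2 F67275 D17109 F67373
theorem F67536 : act 7 n17109 = n17109 := d28_2 F65232 D17109 (iv D17109)
theorem F67537 : act 8 n17109 = n16507 := d29_2 (iv F65233) D17109 (iv D16507)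
def n17110 : Q := act 1 n16506
theorem D17110 : act 1 n16506 = n17110 := rfl
theorem F67538 : act 2 n17110 = n17110 := d8_2 D16506 D17110 (iv D17110) (iv D16506) F62474
theorem F67539 : act 7 n17110 = n16510 := d13_2 (iv F65235) D17110 (iv D16510)
def n17111 : Q := act 4 n16506
theorem D17111 : act 4 n16506 = n17111 := rfl
theorem F67540 : act 0 n17111 = n16568 := d3_1 D17111 (iv D16568) (iv F65234)
theorem F67541 : act 2 n17111 = n16507 := d16_1 D17111 (iv D16507) D16506
theorem F67542 : act 5 n17111 = n16771 := d26_2 F67526 D17111 (iv D16771) (iv F66273) (iv F67525)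
theorem F67543 : act 6 n17111 = n17061 := d27_2 F67279 D17111 F67377
theorem F67544 : act 7 n17111 = n16511 := d28_2 (iv F65235) D17111 (iv D16511)
def n17112 : Q := act 0 n16510
theorem D17112 : act 0 n16510 = n17112 := rfl
theorem F67545 : act 1 n17112 = n16572 := d0_2 D16510 D17112 (iv D16572) (iv D15884) (iv F62487)
theorem F67546 : act 2 n17112 = n17112 := d1_2 F65252 D17112 (iv D17112)
theorem F67547 : act 3 n17112 = n16512 := d2_2 (iv F65253) D17112 (iv D16512)
theorem F67548 : act 5 n17112 = n16521 := d4_2 F66796 D17112 (iv F66792)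
theorem F67549 : act 8 n17112 = n17112 := d7_2 F65254 D17112 (iv D17112)
def n17113 : Q := act 4 n16510
theorem D17113 : act 4 n16510 = n17113 := rfl
theorem F67550 : act 1 n17113 = n16511 := d10_1 D17113 (iv D16511) D16510
theorem F67551 : act 2 n17113 = n17113 := d16_1 D17113 (iv D17113) F65252
theorem F67552 : act 3 n17113 = n17056 := d21_1 D17113 F67350 F65801 F63064 (iv F65253)
theorem F67553 : act 5 n17113 = n16774 := d26_2 F66796 D17113 (iv D16774) (iv F66289) (iv F66795)
theorem F67554 : act 6 n17113 = n17064 := d27_2 F67292 D17113 F67392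
theorem F67555 : act 8 n17113 = n17113 := d29_2 F65254 D17113 (iv D17113)
def n17114 : Q := act 4 n16513
theorem D17114 : act 4 n16513 = n17114 := rfl
theorem F67556 : act 2 n17114 = n16514 := d16_1 D17114 (iv D16514) D16513
theorem F67557 : act 7 n17114 = n17114 := d28_2 F65265 D17114 (iv D17114)
theorem F67558 : act 8 n17114 = n16518 := d29_2 (iv F65266) D17114 (iv D16518)
def n17115 : Q := act 1 n16516
theorem D17115 : act 1 n16516 = n17115 := rfl
theorem F67559 : act 2 n17115 = n16520 := d8_2 D16516 D17115 (iv D16520) (iv D15833) (iv F62510)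
theorem F67560 : act 7 n17115 = n17115 := d13_2 F65272 D17115 (iv D17115)
def n17116 : Q := act 4 n16516
theorem D17116 : act 4 n16516 = n17116 := rfl
theorem F67561 : act 2 n17116 = n16517 := d16_1 D17116 (iv D16517) D16516
theorem F67562 : act 7 n17116 = n17116 := d28_2 F65272 D17116 (iv D17116)
def n17117 : Q := act 3 n16518
theorem D17117 : act 3 n16518 = n17117 := rfl
def n17118 : Q := act 7 n16521
theorem D17118 : act 7 n16521 = n17118 := rfl
theorem F67563 : act 2 n17118 = n17118 := d19_1 D17118 (iv D17118) F65283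
theorem F67564 : act 4 n17118 = n16893 := d28_1 D17118 (iv D16893) (iv F65284)
def n17119 : Q := act 7 n16522
theorem D17119 : act 7 n16522 = n17119 := rfl
theorem F67565 : act 0 n17119 = n17070 := d6_1 D17119 (iv D17070) (iv F65286)
theorem F67566 : act 1 n17119 = n16805 := d13_1 D17119 (iv D16805) (iv F65287)
theorem F67567 : act 2 n17119 = n17119 := d19_1 D17119 (iv D17119) F65288
theorem F67568 : act 4 n17119 = n16804 := d28_1 D17119 (iv D16804) (iv F65290)
theorem F67569 : act 5 n17119 = n16524 := d31_1 D17119 (iv D16524) (iv F65291)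
theorem F67570 : act 6 n17119 = n16810 := d33_1 D17119 (iv D16810) (iv F65292)
def n17120 : Q := act 7 n16523
theorem D17120 : act 7 n16523 = n17120 := rfl
theorem F67571 : act 2 n17120 = n17120 := d19_1 D17120 (iv D17120) F65293
theorem F67572 : act 4 n17120 = n16535 := d28_1 D17120 (iv D16535) (iv F65295)
theorem F67573 : act 8 n17120 = n16524 := d35_2 D16523 D17120 (iv D16524) (iv D15841) D15840
def n17121 : Q := act 3 n16524
theorem D17121 : act 3 n16524 = n17121 := rfl
theorem F67574 : act 7 n17121 = n16527 := d24_2 D16524 D17121 (iv D16527) (iv D15844) (iv F62541)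
def n17122 : Q := act 7 n16525
theorem D17122 : act 7 n16525 = n17122 := rfl
theorem F67575 : act 1 n17122 = n16813 := d13_1 D17122 (iv D16813) (iv F65298)
theorem F67576 : act 2 n17122 = n16529 := d19_1 D17122 (iv D16529) (iv F65299)
theorem F67577 : act 4 n17122 = n16823 := d28_1 D17122 (iv D16823) (iv F65301)
theorem F67578 : act 6 n17122 = n16526 := d33_1 D17122 (iv D16526) (iv F65302)
theorem F67579 : act 8 n17122 = n16935 := d35_2 D16525 D17122 (iv D16935) (iv D16303) (iv F62547)
def n17123 : Q := act 3 n16526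
theorem D17123 : act 3 n16526 = n17123 := rfl
theorem F67580 : act 1 n17123 = n17023 := d9_1 D17123 (iv D17023) (iv F65303)
theorem F67581 : act 5 n17123 = n16527 := d22_2 (iv F65306) D17123 (iv D16527)
theorem F67582 : act 8 n17123 = n16936 := d25_2 (iv F65307) D17123 (iv D16936)
def n17124 : Q := act 2 n16527
theorem D17124 : act 2 n16527 = n17124 := rfl
theorem F67583 : act 3 n17124 = n16531 := d15_2 D16527 D17124 (iv D16531) (iv D15848) (iv F62552)
theorem F67584 : act 8 n17124 = n16937 := d20_2 (iv F65308) D17124 (iv D16937)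
def n17125 : Q := act 4 n16527
theorem D17125 : act 4 n16527 = n17125 := rfl
theorem F67585 : act 3 n17125 = n16528 := d21_1 D17125 (iv D16528) (iv D15845) (iv F62553) D16527
theorem F67586 : act 8 n17125 = n16938 := d29_2 (iv F65308) D17125 (iv D16938)
def n17126 : Q := act 5 n16528
theorem D17126 : act 5 n16528 = n17126 := rfl
theorem F67587 : act 7 n17126 = n16540 := d31_2 (iv F65309) D17126 (iv D16540)
theorem F67588 : act 8 n17126 = n16939 := d32_2 (iv F65310) D17126 (iv D16939)
def n17127 : Q := act 3 n16529
theorem D17127 : act 3 n16529 = n17127 := rfl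
theorem F67589 : act 1 n17127 = n16577 := d9_1 D17127 (iv D16577) (iv F65311)
theorem F67590 : act 5 n17127 = n17047 := d22_2 F67204 D17127 F67313
theorem F67591 : act 6 n17127 = n16530 := d23_2 (iv F65313) D17127 (iv D16530)
theorem F67592 : act 7 n17127 = n17127 := d24_2 D16529 D17127 (iv D17127) (iv D16529) F62558
theorem F67593 : act 8 n17127 = n16940 := d25_2 (iv F65314) D17127 (iv D16940)
def n17128 : Q := act 2 n16530
theorem D17128 : act 2 n16530 = n17128 := rfl
theorem F67594 : act 5 n17128 = n16531 := d17_2 (iv F65316) D17128 (iv D16531)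
theorem F67595 : act 7 n17128 = n17128 := d19_2 F65317 D17128 (iv D17128)
theorem F67596 : act 8 n17128 = n16941 := d20_2 (iv F65318) D17128 (iv D16941)
def n17129 : Q := act 4 n16530
theorem D17129 : act 4 n16530 = n17129 := rfl
theorem F67597 : act 1 n17129 = n16579 := d10_1 D17129 (iv D16579) (iv F65315)
theorem F67598 : act 3 n17129 = n17052 := d21_1 D17129 (iv D17052) F64978 (iv F62562) D16530
theorem F67599 : act 7 n17129 = n17129 := d28_2 F65317 D17129 (iv D17129)
theorem F67600 : act 8 n17129 = n16942 := d29_2 (iv F65318) D17129 (iv D16942)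
def n17130 : Q := act 1 n16531
theorem D17130 : act 1 n16531 = n17130 := rfl
theorem F67601 : act 2 n17130 = n16580 := d8_2 D16531 D17130 (iv D16580) (iv D15896) (iv F62565)
theorem F67602 : act 7 n17130 = n17130 := d13_2 F65319 D17130 (iv D17130)
theorem F67603 : act 8 n17130 = n16943 := d14_2 (iv F65320) D17130 (iv D16943)
def n17131 : Q := act 7 n16532
theorem D17131 : act 7 n16532 = n17131 := rfl
theorem F67604 : act 0 n17131 = n16705 := d6_1 D17131 (iv D16705) (iv F65321)
theorem F67605 : act 1 n17131 = n16803 := d13_1 D17131 (iv D16803) (iv F65322)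
theorem F67606 : act 2 n17131 = n17131 := d19_1 D17131 (iv D17131) F65323
theorem F67607 : act 4 n17131 = n16534 := d28_1 D17131 (iv D16534) (iv F65325)
theorem F67608 : act 5 n17131 = n16804 := d31_1 D17131 (iv D16804) (iv F65326)
theorem F67609 : act 6 n17131 = n16835 := d33_1 D17131 (iv D16835) (iv F65327)
def n17132 : Q := act 7 n16533
theorem D17132 : act 7 n16533 = n17132 := rfl
theorem F67610 : act 2 n17132 = n17132 := d19_1 D17132 (iv D17132) F65328
theorem F67611 : act 5 n17132 = n16535 := d31_1 D17132 (iv D16535) (iv F65330)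
theorem F67612 : act 8 n17132 = n16534 := d35_2 D16533 D17132 (iv D16534) (iv D15851) D15850
def n17133 : Q := act 3 n16534
theorem D17133 : act 3 n16534 = n17133 := rfl
theorem F67613 : act 5 n17133 = n16536 := d22_2 (iv F65332) D17133 (iv D16536)
theorem F67614 : act 7 n17133 = n16537 := d24_2 D16534 D17133 (iv D16537) (iv D15854) (iv F62578)
def n17134 : Q := act 3 n16535
theorem D17134 : act 3 n16535 = n17134 := rfl
theorem F67615 : act 7 n17134 = n16546 := d24_2 D16535 D17134 (iv D16546) (iv D15863) (iv F62581)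
theorem F67616 : act 8 n17134 = n16536 := d25_2 (iv F65334) D17134 (iv D16536)
def n17135 : Q := act 2 n16536
theorem D17135 : act 2 n16536 = n17135 := rfl
theorem F67617 : act 3 n17135 = n17135 := d15_2 D16536 D17135 (iv D17135) (iv D16536) F62582
theorem F67618 : act 7 n17135 = n16538 := d19_2 (iv F65335) D17135 (iv D16538)
def n17136 : Q := act 4 n16536
theorem D17136 : act 4 n16536 = n17136 := rfl
theorem F67619 : act 7 n17136 = n16539 := d28_2 (iv F65335) D17136 (iv D16539)
def n17137 : Q := act 2 n16537
theorem D17137 : act 2 n16537 = n17137 := rfl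
theorem F67620 : act 3 n17137 = n16541 := d15_2 D16537 D17137 (iv D16541) (iv D15857) (iv F62583)
theorem F67621 : act 5 n17137 = n16538 := d17_2 (iv F65336) D17137 (iv D16538)
theorem F67622 : act 8 n17137 = n16550 := d20_2 (iv F65337) D17137 (iv D16550)
def n17138 : Q := act 4 n16537
theorem D17138 : act 4 n16537 = n17138 := rfl
theorem F67623 : act 8 n17138 = n16551 := d29_2 (iv F65337) D17138 (iv D16551)
def n17139 : Q := act 4 n16538
theorem D17139 : act 4 n16538 = n17139 := rfl
theorem F67624 : act 2 n17139 = n16539 := d16_1 D17139 (iv D16539) D16538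
theorem F67625 : act 8 n17139 = n16553 := d29_2 (iv F65339) D17139 (iv D16553)
def n17140 : Q := act 5 n16539
theorem D17140 : act 5 n16539 = n17140 := rfl
theorem F67626 : act 3 n17140 = n16540 := d22_1 D17140 (iv D16540) (iv F65340)
theorem F67627 : act 8 n17140 = n16554 := d32_2 (iv F65341) D17140 (iv D16554)
def n17141 : Q := act 6 n16540
theorem D17141 : act 6 n16540 = n17141 := rfl
theorem F67628 : act 8 n17141 = n16555 := d34_2 (iv F65342) D17141 (iv D16555)
def n17142 : Q := act 3 n16542
theorem D17142 : act 3 n16542 = n17142 := rfl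
theorem F67629 : act 5 n17142 = n17001 := d22_2 (iv F65348) D17142 (iv D17001)
def n17143 : Q := act 3 n16543
theorem D17143 : act 3 n16543 = n17143 := rfl
theorem F67630 : act 6 n17143 = n16545 := d23_2 (iv F65350) D17143 (iv D16545)
theorem F67631 : act 7 n17143 = n16549 := d24_2 D16543 D17143 (iv D16549) (iv D15865) (iv F62598)
def n17144 : Q := act 3 n16544
theorem D17144 : act 3 n16544 = n17144 := rfl
theorem F67632 : act 5 n17144 = n16546 := d22_2 (iv F65352) D17144 (iv D16546)
theorem F67633 : act 8 n17144 = n16545 := d25_2 (iv F65353) D17144 (iv D16545)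
def n17145 : Q := act 2 n16545
theorem D17145 : act 2 n16545 = n17145 := rfl
theorem F67634 : act 3 n17145 = n16563 := d15_2 D16545 D17145 (iv D16563) (iv D15877) (iv F62602)
theorem F67635 : act 5 n17145 = n16547 := d17_2 (iv F65354) D17145 (iv D16547)
theorem F67636 : act 7 n17145 = n16550 := d19_2 (iv F65355) D17145 (iv D16550)
def n17146 : Q := act 4 n16545
theorem D17146 : act 4 n16545 = n17146 := rfl
theorem F67637 : act 7 n17146 = n16551 := d28_2 (iv F65355) D17146 (iv D16551)
def n17147 : Q := act 2 n16546
theorem D17147 : act 2 n16546 = n17147 := rfl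
theorem F67638 : act 3 n17147 = n16565 := d15_2 D16546 D17147 (iv D16565) (iv D15878) (iv F62604)
theorem F67639 : act 8 n17147 = n16547 := d20_2 (iv F65356) D17147 (iv D16547)
def n17148 : Q := act 4 n16546
theorem D17148 : act 4 n16546 = n17148 := rfl
theorem F67640 : act 3 n17148 = n17007 := d21_1 D17148 (iv D17007) (iv D16367) (iv F62605) D16546
theorem F67641 : act 8 n17148 = n16548 := d29_2 (iv F65356) D17148 (iv D16548)
def n17149 : Q := act 1 n16547
theorem D17149 : act 1 n16547 = n17149 := rfl
theorem F67642 : act 3 n17149 = n16567 := d9_2 (iv F65357) D17149 (iv D16567)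
theorem F67643 : act 7 n17149 = n16552 := d13_2 (iv F65358) D17149 (iv D16552)
def n17150 : Q := act 4 n16547
theorem D17150 : act 4 n16547 = n17150 := rfl
theorem F67644 : act 2 n17150 = n16548 := d16_1 D17150 (iv D16548) D16547
theorem F67645 : act 7 n17150 = n16553 := d28_2 (iv F65358) D17150 (iv D16553)
def n17151 : Q := act 5 n16548
theorem D17151 : act 5 n16548 = n17151 := rfl
theorem F67646 : act 3 n17151 = n17010 := d22_1 D17151 (iv D17010) (iv F65359)
theorem F67647 : act 7 n17151 = n16554 := d31_2 (iv F65360) D17151 (iv D16554)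
def n17152 : Q := act 2 n16549
theorem D17152 : act 2 n16549 = n17152 := rfl
theorem F67648 : act 3 n17152 = n16556 := d15_2 D16549 D17152 (iv D16556) (iv D15870) (iv F62608)
theorem F67649 : act 6 n17152 = n16550 := d18_2 (iv F65361) D17152 (iv D16550)
def n17153 : Q := act 4 n16549
theorem D17153 : act 4 n16549 = n17153 := rfl
theorem F67650 : act 6 n17153 = n16551 := d27_2 (iv F65361) D17153 (iv D16551)
def n17154 : Q := act 1 n16550
theorem D17154 : act 1 n16550 = n17154 := rfl
theorem F67651 : act 3 n17154 = n16557 := d9_2 (iv F65362) D17154 (iv D16557)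
theorem F67652 : act 5 n17154 = n16552 := d11_2 (iv F65363) D17154 (iv D16552)
def n17155 : Q := act 4 n16550
theorem D17155 : act 4 n16550 = n17155 := rfl
theorem F67653 : act 2 n17155 = n16551 := d16_1 D17155 (iv D16551) D16550
def n17156 : Q := act 5 n16551
theorem D17156 : act 5 n16551 = n17156 := rfl
theorem F67654 : act 4 n17156 = n16554 := d26_1 D17156 (iv D16554) (iv D15868) (iv F62610) D16551
def n17157 : Q := act 0 n16552
theorem D17157 : act 0 n16552 = n17157 := rfl
theorem F67655 : act 3 n17157 = n16559 := d2_2 (iv F65364) D17157 (iv D16559)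
def n17158 : Q := act 4 n16552
theorem D17158 : act 4 n16552 = n17158 := rfl
theorem F67656 : act 1 n17158 = n16553 := d10_1 D17158 (iv D16553) D16552
def n17159 : Q := act 5 n16553
theorem D17159 : act 5 n16553 = n17159 := rfl
theorem F67657 : act 2 n17159 = n16554 := d17_1 D17159 (iv D16554) (iv F65365)
def n17160 : Q := act 6 n16554
theorem D17160 : act 6 n16554 = n17160 := rfl
theorem F67658 : act 3 n17160 = n16555 := d23_1 D17160 (iv D16555) (iv F65366)
def n17161 : Q := act 3 n16558
theorem D17161 : act 3 n16558 = n17161 := rfl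
def n17162 : Q := act 2 n16560
theorem D17162 : act 2 n16560 = n17162 := rfl
theorem F67659 : act 0 n17162 = n16741 := d1_1 D17162 F66193 (iv F65377)
theorem F67660 : act 4 n17162 = n16636 := d16_2 F65381 D17162 F65748
theorem F67661 : act 5 n17162 = n17022 := d17_2 (iv F65379) D17162 (iv D17022)
theorem F67662 : act 7 n17162 = n16575 := d19_2 (iv F65380) D17162 (iv D16575)
def n17163 : Q := act 2 n16561
theorem D17163 : act 2 n16561 = n17163 := rfl
theorem F67663 : act 6 n17163 = n16563 := d18_2 (iv F65383) D17163 (iv D16563)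
theorem F67664 : act 7 n17163 = n16569 := d19_2 (iv F65384) D17163 (iv D16569)
def n17164 : Q := act 2 n16562
theorem D17164 : act 2 n16562 = n17164 := rfl
theorem F67665 : act 5 n17164 = n16565 := d17_2 (iv F65386) D17164 (iv D16565)
theorem F67666 : act 7 n17164 = n17164 := d19_2 F65387 D17164 (iv D17164)
theorem F67667 : act 8 n17164 = n16563 := d20_2 (iv F65388) D17164 (iv D16563)
def n17165 : Q := act 4 n16562
theorem D17165 : act 4 n16562 = n17165 := rfl
theorem F67668 : act 0 n17165 = n16766 := d3_1 D17165 (iv F67520) F67518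
theorem F67669 : act 1 n17165 = n16582 := d10_1 D17165 (iv D16582) (iv F65385)
theorem F67670 : act 3 n17165 = n16647 := d21_1 D17165 F67188 (iv D17018) F64711 D16562
theorem F67671 : act 5 n17165 = n16648 := d26_2 (iv F65386) D17165 F65794 F65402 (iv D16566)
theorem F67672 : act 7 n17165 = n17165 := d28_2 F65387 D17165 (iv D17165)
theorem F67673 : act 8 n17165 = n16564 := d29_2 (iv F65388) D17165 (iv D16564)
def n17166 : Q := act 1 n16563
theorem D17166 : act 1 n16563 = n17166 := rfl
theorem F67674 : act 2 n17166 = n16583 := d8_2 D16563 D17166 (iv D16583) (iv D15900) (iv F62631)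
theorem F67675 : act 5 n17166 = n16567 := d11_2 (iv F65389) D17166 (iv D16567)
theorem F67676 : act 7 n17166 = n16570 := d13_2 (iv F65390) D17166 (iv D16570)
theorem F67677 : act 4 n17163 = n17166 := d28_3 F67676 (iv F65414) (iv F67664)
def n17167 : Q := act 4 n16563
theorem D17167 : act 4 n16563 = n17167 := rfl
theorem F67678 : act 0 n17167 = n16767 := d3_1 D17167 (iv F67525) F67524
theorem F67679 : act 1 n17167 = n17163 := d10_1 D17167 F67677 (iv D17166)
theorem F67680 : act 2 n17167 = n16564 := d16_1 D17167 (iv D16564) D16563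
theorem F67681 : act 5 n17167 = n16649 := d26_2 (iv F65389) D17167 (iv F66880) F66881 (iv D16568)
theorem F67682 : act 6 n17167 = n17166 := d27_2 F67663 D17167 (iv F67677)
theorem F67683 : act 7 n17167 = n16571 := d28_2 (iv F65390) D17167 (iv D16571)
def n17168 : Q := act 1 n16565
theorem D17168 : act 1 n16565 = n17168 := rfl
theorem F67684 : act 2 n17168 = n16584 := d8_2 D16565 D17168 (iv D16584) (iv D15902) (iv F62634)
theorem F67685 : act 7 n17168 = n17168 := d13_2 F65396 D17168 (iv D17168)
theorem F67686 : act 8 n17168 = n16567 := d14_2 (iv F65397) D17168 (iv D16567)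
def n17169 : Q := act 4 n16565
theorem D17169 : act 4 n16565 = n17169 := rfl
theorem F67687 : act 2 n17169 = n16566 := d16_1 D17169 (iv D16566) D16565
theorem F67688 : act 7 n17169 = n17169 := d28_2 F65396 D17169 (iv D17169)
theorem F67689 : act 8 n17169 = n16568 := d29_2 (iv F65397) D17169 (iv D16568)
theorem F67690 : act 5 n17030 = n17169 := d32_3 F67689 (iv F66881) (iv F67242)
def n17170 : Q := act 0 n16567
theorem D17170 : act 0 n16567 = n17170 := rfl
theorem F67691 : act 2 n17170 = n16586 := d1_2 (iv F65403) D17170 (iv D16586)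
theorem F67692 : act 7 n17170 = n16572 := d6_2 (iv F65404) D17170 (iv D16572)
def n17171 : Q := act 4 n16567
theorem D17171 : act 4 n16567 = n17171 := rfl
theorem F67693 : act 1 n17171 = n16568 := d10_1 D17171 (iv D16568) D16567
theorem F67694 : act 2 n17171 = n16587 := d16_1 D17171 (iv D16587) (iv F65403)
theorem F67695 : act 7 n17171 = n16573 := d28_2 (iv F65404) D17171 (iv D16573)
def n17172 : Q := act 3 n16568
theorem D17172 : act 3 n16568 = n17172 := rfl
theorem F67696 : act 2 n17172 = n17023 := d15_1 D17172 (iv D17023) F64769 (iv F62639) (iv F65405)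
def n17173 : Q := act 4 n16572
theorem D17173 : act 4 n16572 = n17173 := rfl
theorem F67697 : act 0 n17173 = n16573 := d3_1 D17173 (iv D16573) D16572
theorem F67698 : act 2 n17173 = n16588 := d16_1 D17173 (iv D16588) (iv F65422)
theorem F67699 : act 8 n17173 = n17173 := d29_2 F65424 D17173 (iv D17173)
def n17174 : Q := act 7 n16574
theorem D17174 : act 7 n16574 = n17174 := rfl
theorem F67700 : act 0 n17174 = n16657 := d6_1 D17174 F65847 (iv F65428)
theorem F67701 : act 1 n17174 = n16801 := d13_1 D17174 F66446 (iv F65429)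
theorem F67702 : act 2 n17174 = n16576 := d19_1 D17174 (iv D16576) (iv F65430)
theorem F67703 : act 4 n17174 = n16644 := d28_1 D17174 F65777 (iv F65431)
theorem F67704 : act 5 n17174 = n16800 := d31_1 D17174 F66440 (iv F65432)
theorem F67705 : act 6 n17174 = n16658 := d33_1 D17174 F65852 (iv F65433)
theorem F67706 : act 8 n16916 = n17174 := d32_0 F67704 F66441 (iv F66866)
def n17175 : Q := act 1 n16578
theorem D17175 : act 1 n16578 = n17175 := rfl
theorem F67707 : act 3 n17175 = n16587 := d9_2 (iv F65453) D17175 F65493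
theorem F67708 : act 4 n17175 = n17127 := d10_2 F65457 D17175 F67589
theorem F67709 : act 5 n17175 = n16580 := d11_2 (iv F65454) D17175 (iv D16580)
theorem F67710 : act 6 n17175 = n17129 := d12_2 F65461 D17175 F67597
theorem F67711 : act 7 n17175 = n17175 := d13_2 F65455 D17175 (iv D17175)
theorem F67712 : act 8 n17175 = n17032 := d14_2 (iv F65456) D17175 (iv D17032)
def n17176 : Q := act 0 n16580
theorem D17176 : act 0 n16580 = n17176 := rfl
theorem F67713 : act 1 n17176 = n17176 := d0_2 D16580 D17176 (iv D17176) (iv D16580) F62690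
theorem F67714 : act 7 n17176 = n17176 := d6_2 F65464 D17176 (iv D17176)
theorem F67715 : act 8 n17176 = n17033 := d7_2 (iv F65465) D17176 (iv D17033)
def n17177 : Q := act 1 n16581
theorem D17177 : act 1 n16581 = n17177 := rfl
theorem F67716 : act 3 n17177 = n17020 := d9_2 (iv F65467) D17177 F67197
theorem F67717 : act 4 n17177 = n17017 := d10_2 F65471 D17177 F67178
theorem F67718 : act 5 n17177 = n16584 := d11_2 (iv F65468) D17177 (iv D16584)
theorem F67719 : act 6 n17177 = n17165 := d12_2 F65476 D17177 F67669
theorem F67720 : act 7 n17177 = n17177 := d13_2 F65469 D17177 (iv D17177)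
theorem F67721 : act 8 n17177 = n16583 := d14_2 (iv F65470) D17177 (iv D16583)
theorem F67722 : act 0 n17068 = n17177 := d7_3 F67721 (iv F66264) (iv F67409)
def n17178 : Q := act 0 n16584
theorem D17178 : act 0 n16584 = n17178 := rfl
theorem F67723 : act 1 n17178 = n17178 := d0_2 D16584 D17178 (iv D17178) (iv D16584) F62711
theorem F67724 : act 3 n17178 = n17057 := d2_2 (iv F65936) D17178 F67354
theorem F67725 : act 5 n17178 = n17068 := d4_2 F67718 D17178 F67722
theorem F67726 : act 7 n17178 = n17178 := d6_2 F65483 D17178 (iv D17178)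
theorem F67727 : act 8 n17178 = n16586 := d7_2 (iv F65484) D17178 (iv D16586)
def n17179 : Q := act 4 n16584
theorem D17179 : act 4 n16584 = n17179 := rfl
theorem F67728 : act 1 n17179 = n16585 := d10_1 D17179 (iv D16585) D16584
theorem F67729 : act 3 n17179 = n17032 := d21_1 D17179 F67247 (iv D16940) (iv F65933) (iv F65936)
theorem F67730 : act 5 n17179 = n17031 := d26_2 F67718 D17179 (iv F67295) F67296 (iv F67717)
theorem F67731 : act 7 n17179 = n17179 := d28_2 F65483 D17179 (iv D17179)
theorem F67732 : act 8 n17179 = n16587 := d29_2 (iv F65484) D17179 (iv D16587)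
def n17180 : Q := act 4 n16586
theorem D17180 : act 4 n16586 = n17180 := rfl
theorem F67733 : act 0 n17180 = n16587 := d3_1 D17180 (iv D16587) D16586
theorem F67734 : act 1 n17180 = n17180 := d10_1 D17180 (iv D17180) F65491
theorem F67735 : act 7 n17180 = n16588 := d28_2 (iv F65492) D17180 (iv D16588)
def n17181 : Q := act 7 n16589
theorem D17181 : act 7 n16589 = n17181 := rfl
theorem F67736 : act 0 n17181 = n16591 := d6_1 D17181 (iv D16591) (iv F65499)
theorem F67737 : act 1 n17181 = n16666 := d13_1 D17181 (iv D16666) (iv F65500)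
theorem F67738 : act 2 n17181 = n17181 := d19_1 D17181 (iv D17181) F65501
theorem F67739 : act 4 n17181 = n17132 := d28_1 D17181 (iv D17132) (iv F65503)
theorem F67740 : act 5 n17181 = n16808 := d31_1 D17181 (iv D16808) (iv F65504)
theorem F67741 : act 6 n17181 = n16901 := d33_1 D17181 (iv D16901) (iv F65505)
theorem F67742 : act 8 n17181 = n17131 := d35_2 D16589 D17181 (iv D17131) (iv D16532) (iv F62739)
def n17182 : Q := act 7 n16590
theorem D17182 : act 7 n16590 = n17182 := rfl
theorem F67743 : act 0 n17182 = n17132 := d6_1 D17182 (iv D17132) (iv F65506)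
theorem F67744 : act 1 n17182 = n16594 := d13_1 D17182 (iv D16594) (iv F65507)
theorem F67745 : act 2 n17182 = n17182 := d19_1 D17182 (iv D17182) F65508
theorem F67746 : act 4 n17182 = n16591 := d28_1 D17182 (iv D16591) (iv F65510)
theorem F67747 : act 5 n17182 = n17080 := d31_1 D17182 (iv D17080) (iv F65511)
theorem F67748 : act 6 n17182 = n16734 := d33_1 D17182 (iv D16734) (iv F65512)
theorem F67749 : act 8 n17182 = n16710 := d35_2 D16590 D17182 (iv D16710) (iv D16052) (iv F62745)
def n17183 : Q := act 3 n16591
theorem D17183 : act 3 n16591 = n17183 := rfl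
theorem F67750 : act 1 n17183 = n16595 := d9_1 D17183 (iv D16595) (iv F65513)
theorem F67751 : act 5 n17183 = n16811 := d22_2 (iv F65515) D17183 (iv D16811)
theorem F67752 : act 7 n17183 = n16607 := d24_2 D16591 D17183 (iv D16607) (iv D15928) (iv F62750)
def n17184 : Q := act 7 n16592
theorem D17184 : act 7 n16592 = n17184 := rfl
theorem F67753 : act 0 n17184 = n16671 := d6_1 D17184 (iv D16671) (iv F65516)
theorem F67754 : act 1 n17184 = n17093 := d13_1 D17184 (iv D17093) (iv F65517)
theorem F67755 : act 2 n17184 = n17184 := d19_1 D17184 (iv D17184) F65518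
theorem F67756 : act 4 n17184 = n16610 := d28_1 D17184 (iv D16610) (iv F65520)
theorem F67757 : act 5 n17184 = n17086 := d31_1 D17184 (iv D17086) (iv F65521)
theorem F67758 : act 6 n17184 = n16696 := d33_1 D17184 (iv D16696) (iv F65522)
theorem F67759 : act 8 n17184 = n16681 := d35_2 D16592 D17184 (iv D16681) (iv D16023) (iv F62757)
def n17185 : Q := act 7 n16593
theorem D17185 : act 7 n16593 = n17185 := rfl
theorem F67760 : act 0 n17185 = n16673 := d6_1 D17185 (iv D16673) (iv F65523)
theorem F67761 : act 1 n17185 = n17080 := d13_1 D17185 (iv D17080) (iv F65524)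
theorem F67762 : act 2 n17185 = n16596 := d19_1 D17185 (iv D16596) (iv F65525)
theorem F67763 : act 4 n17185 = n16814 := d28_1 D17185 (iv D16814) (iv F65527)
theorem F67764 : act 5 n17185 = n16594 := d31_1 D17185 (iv D16594) (iv F65528)
theorem F67765 : act 8 n17185 = n16714 := d35_2 D16593 D17185 (iv D16714) (iv D16056) (iv F62764)
def n17186 : Q := act 3 n16594
theorem D17186 : act 3 n16594 = n17186 := rfl
theorem F67766 : act 0 n17186 = n16674 := d2_1 D17186 (iv D16674) (iv F65529)
theorem F67767 : act 6 n17186 = n16745 := d23_2 (iv F65532) D17186 (iv D16745)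
theorem F67768 : act 8 n17186 = n16715 := d25_2 (iv F65533) D17186 (iv D16715)
def n17187 : Q := act 4 n16595
theorem D17187 : act 4 n16595 = n17187 := rfl
theorem F67769 : act 0 n17187 = n16675 := d3_1 D17187 (iv D16675) (iv F65534)
theorem F67770 : act 2 n17187 = n17075 := d16_1 D17187 (iv D17075) (iv F65535)
theorem F67771 : act 7 n17187 = n16613 := d28_2 (iv F65537) D17187 (iv D16613)
def n17188 : Q := act 3 n16596
theorem D17188 : act 3 n16596 = n17188 := rfl
theorem F67772 : act 0 n17188 = n16677 := d2_1 D17188 (iv D16677) (iv F65538)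
theorem F67773 : act 1 n17188 = n17188 := d9_1 D17188 (iv D17188) F65539
theorem F67774 : act 5 n17188 = n16597 := d22_2 (iv F65541) D17188 (iv D16597)
theorem F67775 : act 6 n17188 = n17178 := d23_2 F67358 D17188 F67724
theorem F67776 : act 7 n17188 = n17188 := d24_2 D16596 D17188 (iv D17188) (iv D16596) F62774
theorem F67777 : act 8 n17188 = n16758 := d25_2 (iv F65542) D17188 (iv D16758)
def n17189 : Q := act 2 n16597
theorem D17189 : act 2 n16597 = n17189 := rfl
theorem F67778 : act 0 n17189 = n16678 := d1_1 D17189 (iv D16678) (iv F65543)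
theorem F67779 : act 4 n17189 = n17077 := d16_2 (iv F65545) D17189 (iv D17077)
theorem F67780 : act 6 n17189 = n16768 := d18_2 (iv F65546) D17189 (iv D16768)
theorem F67781 : act 7 n17189 = n17189 := d19_2 F65547 D17189 (iv D17189)
theorem F67782 : act 8 n17189 = n16759 := d20_2 (iv F65548) D17189 (iv D16759)
def n17190 : Q := act 3 n16598
theorem D17190 : act 3 n16598 = n17190 := rfl
theorem F67783 : act 0 n17190 = n16679 := d2_1 D17190 (iv D16679) (iv F65549)
theorem F67784 : act 1 n17190 = n16836 := d9_1 D17190 (iv D16836) (iv F65550)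
theorem F67785 : act 2 n17190 = n16685 := d15_1 D17190 (iv D16685) F63339 (iv F62790) (iv F65551)
theorem F67786 : act 5 n17190 = n16602 := d22_2 (iv F65553) D17190 (iv D16602)
theorem F67787 : act 6 n17190 = n16819 := d23_2 (iv F65554) D17190 (iv D16819)
theorem F67788 : act 8 n17190 = n16618 := d25_2 (iv F65555) D17190 (iv D16618)
def n17191 : Q := act 3 n16599
theorem D17191 : act 3 n16599 = n17191 := rfl
theorem F67789 : act 0 n17191 = n16904 := d2_1 D17191 (iv D16904) (iv F65556)
theorem F67790 : act 1 n17191 = n16602 := d9_1 D17191 (iv D16602) (iv F65557)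
theorem F67791 : act 5 n17191 = n16836 := d22_2 (iv F65560) D17191 (iv D16836)
theorem F67792 : act 6 n17191 = n16607 := d23_2 (iv F65561) D17191 (iv D16607)
theorem F67793 : act 8 n17191 = n16621 := d25_2 (iv F65562) D17191 (iv D16621)
def n17192 : Q := act 7 n16600
theorem D17192 : act 7 n16600 = n17192 := rfl
theorem F67794 : act 0 n17192 = n16681 := d6_1 D17192 (iv D16681) (iv F65563)
theorem F67795 : act 1 n17192 = n16843 := d13_1 D17192 (iv D16843) (iv F65564)
theorem F67796 : act 2 n17192 = n17192 := d19_1 D17192 (iv D17192) F65565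
theorem F67797 : act 4 n17192 = n16696 := d28_1 D17192 (iv D16696) (iv F65567)
theorem F67798 : act 5 n17192 = n16839 := d31_1 D17192 (iv D16839) (iv F65568)
theorem F67799 : act 6 n17192 = n16610 := d33_1 D17192 (iv D16610) (iv F65569)
theorem F67800 : act 8 n17192 = n16671 := d35_2 D16600 D17192 (iv D16671) (iv D16013) (iv F62807)
def n17193 : Q := act 3 n16601
theorem D17193 : act 3 n16601 = n17193 := rfl
theorem F67801 : act 0 n17193 = n16682 := d2_1 D17193 (iv D16682) (iv F65570)
theorem F67802 : act 1 n17193 = n16846 := d9_1 D17193 (iv D16846) (iv F65571)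
theorem F67803 : act 5 n17193 = n16840 := d22_2 (iv F65574) D17193 (iv D16840)
theorem F67804 : act 6 n17193 = n16612 := d23_2 (iv F65575) D17193 (iv D16612)
theorem F67805 : act 8 n17193 = n16622 := d25_2 (iv F65576) D17193 (iv D16622)
def n17194 : Q := act 4 n16602
theorem D17194 : act 4 n16602 = n17194 := rfl
theorem F67806 : act 0 n17194 = n16683 := d3_1 D17194 (iv D16683) (iv F65577)
theorem F67807 : act 2 n17194 = n16948 := d16_1 D17194 (iv D16948) (iv F65578)
theorem F67808 : act 6 n17194 = n16613 := d27_2 (iv F65579) D17194 (iv D16613)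
theorem F67809 : act 8 n17194 = n16623 := d29_2 (iv F65580) D17194 (iv D16623)
def n17195 : Q := act 2 n16603
theorem D17195 : act 2 n16603 = n17195 := rfl
theorem F67810 : act 0 n17195 = n16684 := d1_1 D17195 (iv D16684) (iv F65581)
theorem F67811 : act 1 n17195 = n17025 := d8_1 D17195 (iv D17025) F64782 (iv F63082) (iv F65582)
theorem F67812 : act 4 n17195 = n17024 := d16_2 (iv F65583) D17195 (iv D17024)
theorem F67813 : act 5 n17195 = n16887 := d17_2 (iv F65584) D17195 (iv D16887)
theorem F67814 : act 6 n17195 = n16615 := d18_2 (iv F65585) D17195 (iv D16615)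
theorem F67815 : act 7 n17195 = n17195 := d19_2 F65586 D17195 (iv D17195)
theorem F67816 : act 8 n17195 = n16624 := d20_2 (iv F65587) D17195 (iv D16624)
def n17196 : Q := act 3 n16604
theorem D17196 : act 3 n16604 = n17196 := rfl
theorem F67817 : act 0 n17196 = n16607 := d2_1 D17196 (iv D16607) (iv F65588)
theorem F67818 : act 1 n17196 = n16685 := d9_1 D17196 (iv D16685) (iv F65589)
theorem F67819 : act 5 n17196 = n16822 := d22_2 (iv F65592) D17196 (iv D16822)
theorem F67820 : act 6 n17196 = n16904 := d23_2 (iv F65593) D17196 (iv D16904)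
theorem F67821 : act 8 n17196 = n16627 := d25_2 (iv F65594) D17196 (iv D16627)
def n17197 : Q := act 7 n16605
theorem D17197 : act 7 n16605 = n17197 := rfl
theorem F67822 : act 0 n17197 = n16969 := d6_1 D17197 (iv D16969) (iv F65595)
theorem F67823 : act 1 n17197 = n16610 := d13_1 D17197 (iv D16610) (iv F65596)
theorem F67824 : act 2 n17197 = n16878 := d19_1 D17197 (iv D16878) (iv F65597)
theorem F67825 : act 4 n17197 = n17093 := d28_1 D17197 (iv D17093) (iv F65599)
theorem F67826 : act 5 n17197 = n16865 := d31_1 D17197 (iv D16865) (iv F65600)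
theorem F67827 : act 6 n17197 = n16843 := d33_1 D17197 (iv D16843) (iv F65601)
theorem F67828 : act 8 n17197 = n17092 := d35_2 D16605 D17197 (iv D17092) (iv D16490) F62836
def n17198 : Q := act 3 n16606
theorem D17198 : act 3 n16606 = n17198 := rfl
theorem F67829 : act 0 n17198 = n16974 := d2_1 D17198 (iv D16974) (iv F65602)
theorem F67830 : act 1 n17198 = n16612 := d9_1 D17198 (iv D16612) (iv F65603)
theorem F67831 : act 2 n17198 = n16964 := d15_1 D17198 (iv D16964) F64570 (iv F63096) (iv F65604)
theorem F67832 : act 5 n17198 = n16871 := d22_2 (iv F65606) D17198 (iv D16871)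
theorem F67833 : act 6 n17198 = n16846 := d23_2 (iv F65607) D17198 (iv D16846)
theorem F67834 : act 8 n17198 = n16631 := d25_2 (iv F65608) D17198 (iv D16631)
def n17199 : Q := act 2 n16607
theorem D17199 : act 2 n16607 = n17199 := rfl
theorem F67835 : act 1 n17199 = n17078 := d8_1 D17199 (iv D17078) F65158 (iv F62872) (iv F65609)
theorem F67836 : act 3 n17199 = n16654 := d15_2 D16607 D17199 (iv D16654) (iv D15982) (iv F62844)
theorem F67837 : act 5 n17199 = n16825 := d17_2 (iv F65610) D17199 (iv D16825)
theorem F67838 : act 8 n17199 = n16632 := d20_2 (iv F65611) D17199 (iv D16632)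
def n17200 : Q := act 4 n16607
theorem D17200 : act 4 n16607 = n17200 := rfl
theorem F67839 : act 1 n17200 = n16613 := d10_1 D17200 (iv D16613) (iv F65609)
theorem F67840 : act 8 n17200 = n16633 := d29_2 (iv F65611) D17200 (iv D16633)
def n17201 : Q := act 7 n16608
theorem D17201 : act 7 n16608 = n17201 := rfl
theorem F67841 : act 0 n17201 = n16695 := d6_1 D17201 (iv D16695) (iv F65612)
theorem F67842 : act 1 n17201 = n16865 := d13_1 D17201 (iv D16865) (iv F65613)
theorem F67843 : act 2 n17201 = n17201 := d19_1 D17201 (iv D17201) F65614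
theorem F67844 : act 5 n17201 = n16610 := d31_1 D17201 (iv D16610) (iv F65616)
theorem F67845 : act 6 n17201 = n16856 := d33_1 D17201 (iv D16856) (iv F65617)
def n17202 : Q := act 7 n16609
theorem D17202 : act 7 n16609 = n17202 := rfl
theorem F67846 : act 0 n17202 = n16696 := d6_1 D17202 (iv D16696) (iv F65618)
theorem F67847 : act 1 n17202 = n17092 := d13_1 D17202 (iv D17092) (iv F65619)
theorem F67848 : act 2 n17202 = n17202 := d19_1 D17202 (iv D17202) F65620
theorem F67849 : act 4 n17202 = n16681 := d28_1 D17202 (iv D16681) (iv F65622)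
theorem F67850 : act 6 n17202 = n16671 := d33_1 D17202 (iv D16671) (iv F65623)
theorem F67851 : act 8 n17202 = n16610 := d35_2 D16609 D17202 (iv D16610) (iv D15931) D15930
def n17203 : Q := act 3 n16610
theorem D17203 : act 3 n16610 = n17203 := rfl
theorem F67852 : act 0 n17203 = n16697 := d2_1 D17203 (iv D16697) (iv F65624)
theorem F67853 : act 7 n17203 = n16612 := d24_2 D16610 D17203 (iv D16612) (iv D15933) (iv F62860)
def n17204 : Q := act 3 n16611
theorem D17204 : act 3 n16611 = n17204 := rfl
theorem F67854 : act 0 n17204 = n16699 := d2_1 D17204 (iv D16699) (iv F65626)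
theorem F67855 : act 1 n17204 = n16871 := d9_1 D17204 (iv D16871) (iv F65627)
theorem F67856 : act 5 n17204 = n16612 := d22_2 (iv F65630) D17204 (iv D16612)
theorem F67857 : act 6 n17204 = n16859 := d23_2 (iv F65631) D17204 (iv D16859)
theorem F67858 : act 8 n17204 = n16640 := d25_2 (iv F65632) D17204 (iv D16640)
def n17205 : Q := act 2 n16612
theorem D17205 : act 2 n16612 = n17205 := rfl
theorem F67859 : act 0 n17205 = n16700 := d1_1 D17205 (iv D16700) (iv F65633)
theorem F67860 : act 3 n17205 = n16615 := d15_2 D16612 D17205 (iv D16615) (iv D15936) (iv F62868)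
theorem F67861 : act 8 n17205 = n16641 := d20_2 (iv F65634) D17205 (iv D16641)
def n17206 : Q := act 4 n16612
theorem D17206 : act 4 n16612 = n17206 := rfl
theorem F67862 : act 0 n17206 = n16701 := d3_1 D17206 (iv D16701) (iv F65633)
theorem F67863 : act 3 n17206 = n16613 := d21_1 D17206 (iv D16613) (iv D15934) (iv F62869) D16612
theorem F67864 : act 8 n17206 = n16642 := d29_2 (iv F65634) D17206 (iv D16642)
def n17207 : Q := act 5 n16613
theorem D17207 : act 5 n16613 = n17207 := rfl
theorem F67865 : act 0 n17207 = n16702 := d4_1 D17207 (iv D16702) (iv F65635)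
theorem F67866 : act 2 n17207 = n17084 := d17_1 D17207 (iv D17084) (iv F65636)
theorem F67867 : act 4 n17207 = n16834 := d26_1 D17207 (iv D16834) (iv D16193) (iv F62873) D16613
theorem F67868 : act 8 n17207 = n16643 := d32_2 (iv F65637) D17207 (iv D16643)
def n17208 : Q := act 2 n16614
theorem D17208 : act 2 n16614 = n17208 := rfl
theorem F67869 : act 0 n17208 = n16703 := d1_1 D17208 (iv D16703) (iv F65638)
theorem F67870 : act 1 n17208 = n16782 := d8_1 D17208 (iv D16782) F63739 (iv F63113) (iv F65639)
theorem F67871 : act 4 n17208 = n16916 := d16_2 (iv F65640) D17208 (iv D16916)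
theorem F67872 : act 5 n17208 = n16615 := d17_2 (iv F65641) D17208 (iv D16615)
theorem F67873 : act 6 n17208 = n16890 := d18_2 (iv F65642) D17208 (iv D16890)
theorem F67874 : act 7 n17208 = n17208 := d19_2 F65643 D17208 (iv D17208)
theorem F67875 : act 8 n17208 = n16644 := d20_2 (iv F65644) D17208 (iv D16644)
def n17209 : Q := act 1 n16615
theorem D17209 : act 1 n16615 = n17209 := rfl
theorem F67876 : act 2 n17209 = n16656 := d8_2 D16615 D17209 (iv D16656) (iv D15985) (iv F62882)
theorem F67877 : act 4 n17209 = n17085 := d10_2 (iv F65646) D17209 (iv D17085)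
theorem F67878 : act 5 n17209 = n16782 := d11_2 F67872 D17209 (iv F67870)
theorem F67879 : act 6 n17209 = n17025 := d12_2 F67814 D17209 (iv F67811)
theorem F67880 : act 7 n17209 = n17209 := d13_2 F65647 D17209 (iv D17209)
theorem F67881 : act 8 n17209 = n16645 := d14_2 (iv F65648) D17209 (iv D16645)
theorem F67882 : act 0 n16784 = n17209 := d4_3 F67878 F66348 (iv F66359)
def n17210 : Q := act 3 n16616
theorem D17210 : act 3 n16616 = n17210 := rfl
theorem F67883 : act 0 n17210 = n16792 := d2_1 D17210 (iv D16792) (iv F65649)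
theorem F67884 : act 1 n17210 = n16618 := d9_1 D17210 (iv D16618) (iv F65650)
theorem F67885 : act 2 n17210 = n17161 := d15_1 D17210 (iv D17161) F65373 (iv F63128) (iv F65651)
theorem F67886 : act 5 n17210 = n16621 := d22_2 (iv F65653) D17210 (iv D16621)
theorem F67887 : act 6 n17210 = n16794 := d23_2 (iv F65654) D17210 (iv D16794)
theorem F67888 : act 8 n17210 = n16836 := d25_2 (iv F65655) D17210 (iv D16836)
def n17211 : Q := act 3 n16617
theorem D17211 : act 3 n16617 = n17211 := rfl
theorem F67889 : act 0 n17211 = n16706 := d2_1 D17211 (iv D16706) (iv F65656)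
theorem F67890 : act 1 n17211 = n16819 := d9_1 D17211 (iv D16819) (iv F65657)
theorem F67891 : act 5 n17211 = n16820 := d22_2 (iv F65660) D17211 (iv D16820)
theorem F67892 : act 6 n17211 = n16836 := d23_2 (iv F65661) D17211 (iv D16836)
theorem F67893 : act 8 n17211 = n16794 := d25_2 (iv F65662) D17211 (iv D16794)
def n17212 : Q := act 4 n16618
theorem D17212 : act 4 n16618 = n17212 := rfl
theorem F67894 : act 0 n17212 = n16707 := d3_1 D17212 (iv D16707) (iv F65663)
theorem F67895 : act 2 n17212 = n16729 := d16_1 D17212 (iv D16729) (iv F65664)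
theorem F67896 : act 6 n17212 = n16837 := d27_2 (iv F65666) D17212 (iv D16837)
def n17213 : Q := act 2 n16619
theorem D17213 : act 2 n16619 = n17213 := rfl
theorem F67897 : act 0 n17213 = n16708 := d1_1 D17213 (iv D16708) (iv F65667)
theorem F67898 : act 1 n17213 = n16916 := d8_1 D17213 (iv D16916) F64394 (iv F63134) (iv F65668)
theorem F67899 : act 4 n17213 = n16782 := d16_2 (iv F65669) D17213 (iv D16782)
theorem F67900 : act 5 n17213 = n16885 := d17_2 (iv F65670) D17213 (iv D16885)
theorem F67901 : act 6 n17213 = n16838 := d18_2 (iv F65671) D17213 (iv D16838)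
theorem F67902 : act 7 n17213 = n17213 := d19_2 F65672 D17213 (iv D17213)
theorem F67903 : act 8 n17213 = n16801 := d20_2 (iv F65673) D17213 (iv D16801)
def n17214 : Q := act 3 n16620
theorem D17214 : act 3 n16620 = n17214 := rfl
theorem F67904 : act 0 n17214 = n16621 := d2_1 D17214 (iv D16621) (iv F65674)
theorem F67905 : act 1 n17214 = n16709 := d9_1 D17214 (iv D16709) (iv F65675)
theorem F67906 : act 5 n17214 = n16792 := d22_2 (iv F65678) D17214 (iv D16792)
theorem F67907 : act 6 n17214 = n16627 := d23_2 (iv F65679) D17214 (iv D16627)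
theorem F67908 : act 7 n17214 = n17210 := d24_2 D16620 D17214 (iv D17210) (iv D16616) (iv F62911)
theorem F67909 : act 8 n17214 = n16904 := d25_2 (iv F65680) D17214 (iv D16904)
def n17215 : Q := act 2 n16621
theorem D17215 : act 2 n16621 = n17215 := rfl
theorem F67910 : act 1 n17215 = n16852 := d8_1 D17215 (iv D16852) F64118 (iv F62926) (iv F65681)
theorem F67911 : act 3 n17215 = n16657 := d15_2 D16621 D17215 (iv D16657) (iv D15989) (iv F62916)
theorem F67912 : act 5 n17215 = n17161 := d17_2 F67886 D17215 (iv F67885)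
theorem F67913 : act 6 n17215 = n16632 := d18_2 (iv F65682) D17215 (iv D16632)
def n17216 : Q := act 4 n16621
theorem D17216 : act 4 n16621 = n17216 := rfl
theorem F67914 : act 1 n17216 = n16623 := d10_1 D17216 (iv D16623) (iv F65681)
theorem F67915 : act 3 n17216 = n17012 := d21_1 D17216 (iv D17012) F64701 (iv F62917) D16621
theorem F67916 : act 6 n17216 = n16633 := d27_2 (iv F65682) D17216 (iv D16633)
def n17217 : Q := act 2 n16622
theorem D17217 : act 2 n16622 = n17217 := rfl
theorem F67917 : act 0 n17217 = n16718 := d1_1 D17217 (iv D16718) (iv F65683)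
theorem F67918 : act 1 n17217 = n16995 := d8_1 D17217 (iv D16995) F64675 D16371 (iv F65684)
theorem F67919 : act 3 n17217 = n16624 := d15_2 D16622 D17217 (iv D16624) (iv D15945) (iv F62921)
theorem F67920 : act 5 n17217 = n16997 := d17_2 (iv F65685) D17217 F67142
theorem F67921 : act 6 n17217 = n16641 := d18_2 (iv F65686) D17217 (iv D16641)
def n17218 : Q := act 4 n16622
theorem D17218 : act 4 n16622 = n17218 := rfl
theorem F67922 : act 0 n17218 = n16719 := d3_1 D17218 (iv D16719) (iv F65683)
theorem F67923 : act 1 n17218 = n17012 := d10_1 D17218 (iv D17012) (iv F65684)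
theorem F67924 : act 3 n17218 = n16623 := d21_1 D17218 (iv D16623) (iv D15944) (iv F62922) D16622
theorem F67925 : act 6 n17218 = n16642 := d27_2 (iv F65686) D17218 (iv D16642)
def n17219 : Q := act 5 n16623
theorem D17219 : act 5 n16623 = n17219 := rfl
theorem F67926 : act 0 n17219 = n16720 := d4_1 D17219 (iv D16720) (iv F65687)
theorem F67927 : act 2 n17219 = n16986 := d17_1 D17219 (iv D16986) (iv F65688)
def n17220 : Q := act 7 n16625
theorem D17220 : act 7 n16625 = n17220 := rfl
theorem F67928 : act 0 n17220 = n16629 := d6_1 D17220 (iv D16629) (iv F65696)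
theorem F67929 : act 1 n17220 = n16726 := d13_1 D17220 (iv D16726) (iv F65697)
theorem F67930 : act 2 n17220 = n16880 := d19_1 D17220 F66740 (iv F65698)
theorem F67931 : act 4 n17220 = n16909 := d28_1 D17220 (iv D16909) (iv F65700)
theorem F67932 : act 5 n17220 = n16959 := d31_1 D17220 (iv D16959) (iv F65701)
theorem F67933 : act 6 n17220 = n16881 := d33_1 D17220 F66745 (iv F65702)
theorem F67934 : act 8 n17220 = n16908 := d35_2 D16625 D17220 (iv D16908) (iv D16273) (iv F62940)
def n17221 : Q := act 3 n16626
theorem D17221 : act 3 n16626 = n17221 := rfl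
theorem F67935 : act 0 n17221 = n16631 := d2_1 D17221 (iv D16631) (iv F65703)
theorem F67936 : act 1 n17221 = n16728 := d9_1 D17221 (iv D16728) (iv F65704)
theorem F67937 : act 2 n17221 = n16871 := d15_1 D17221 (iv D16871) F64169 (iv F63153) (iv F65705)
theorem F67938 : act 5 n17221 = n16964 := d22_2 (iv F65707) D17221 (iv D16964)
theorem F67939 : act 6 n17221 = n16872 := d23_2 (iv F65708) D17221 F66702
theorem F67940 : act 8 n17221 = n16974 := d25_2 (iv F65709) D17221 (iv D16974)
def n17222 : Q := act 2 n16627
theorem D17222 : act 2 n16627 = n17222 := rfl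
theorem F67941 : act 0 n17222 = n16632 := d1_1 D17222 (iv D16632) (iv F65710)
theorem F67942 : act 1 n17222 = n17161 := d8_1 D17222 (iv F67885) F67884 F65664 (iv F65711)
theorem F67943 : act 3 n17222 = n16658 := d15_2 D16627 D17222 (iv D16658) (iv D15991) (iv F62949)
theorem F67944 : act 5 n17222 = n16852 := d17_2 (iv F65712) D17222 (iv D16852)
def n17223 : Q := act 4 n16627
theorem D17223 : act 4 n16627 = n17223 := rfl
theorem F67945 : act 0 n17223 = n16633 := d3_1 D17223 (iv D16633) (iv F65710)
theorem F67946 : act 1 n17223 = n16729 := d10_1 D17223 (iv D16729) (iv F65711)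
def n17224 : Q := act 7 n16628
theorem D17224 : act 7 n16628 = n17224 := rfl
theorem F67947 : act 0 n17224 = n16959 := d6_1 D17224 (iv D16959) (iv F65713)
theorem F67948 : act 1 n17224 = n16636 := d13_1 D17224 (iv D16636) (iv F65714)
theorem F67949 : act 2 n17224 = n17018 := d19_1 D17224 F67186 (iv F65715)
theorem F67950 : act 5 n17224 = n16629 := d31_1 D17224 (iv D16629) (iv F65717)
theorem F67951 : act 6 n17224 = n16829 := d33_1 D17224 (iv D16829) (iv F65718)
theorem F67952 : act 8 n17224 = n17162 := d35_2 D16628 D17224 F67662 F65439 (iv F62982)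
def n17225 : Q := act 3 n16629
theorem D17225 : act 3 n16629 = n17225 := rfl
theorem F67953 : act 1 n17225 = n16638 := d9_1 D17225 (iv D16638) (iv F65719)
theorem F67954 : act 2 n17225 = n17002 := d15_1 D17225 (iv D17002) F64686 D16386 (iv F65720)
theorem F67955 : act 6 n17225 = n17004 := d23_2 (iv F65721) D17225 F67158
theorem F67956 : act 7 n17225 = n16631 := d24_2 D16629 D17225 (iv D16631) (iv D15953) (iv F62964)
def n17226 : Q := act 3 n16630
theorem D17226 : act 3 n16630 = n17226 := rfl
theorem F67957 : act 0 n17226 = n16964 := d2_1 D17226 (iv D16964) (iv F65722)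
theorem F67958 : act 1 n17226 = n16640 := d9_1 D17226 (iv D16640) (iv F65723)
theorem F67959 : act 2 n17226 = n16974 := d15_1 D17226 (iv D16974) F64604 (iv F63165) (iv F65724)
theorem F67960 : act 5 n17226 = n16631 := d22_2 (iv F65726) D17226 (iv D16631)
theorem F67961 : act 6 n17226 = n16832 := d23_2 (iv F65727) D17226 (iv D16832)
theorem F67962 : act 8 n17226 = n16871 := d25_2 (iv F65728) D17226 (iv D16871)
def n17227 : Q := act 4 n16631
theorem D17227 : act 4 n16631 = n17227 := rfl
theorem F67963 : act 1 n17227 = n16642 := d10_1 D17227 (iv D16642) (iv F65729)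
theorem F67964 : act 2 n17227 = n17011 := d16_1 D17227 (iv D17011) (iv F65730)
theorem F67965 : act 3 n17227 = n16633 := d21_1 D17227 (iv D16633) (iv D15954) (iv F62974) D16631
theorem F67966 : act 6 n17227 = n17012 := d27_2 (iv F65731) D17227 (iv D17012)
def n17228 : Q := act 4 n16632
theorem D17228 : act 4 n16632 = n17228 := rfl
theorem F67967 : act 1 n17228 = n17090 := d10_1 D17228 (iv D17090) (iv F65732)
theorem F67968 : act 2 n17228 = n16633 := d16_1 D17228 (iv D16633) D16632
def n17229 : Q := act 5 n16633
theorem D17229 : act 5 n16633 = n17229 := rfl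
theorem F67969 : act 1 n17229 = n16643 := d11_1 D17229 (iv D16643) (iv F65735)
theorem F67970 : act 4 n17229 = n16863 := d26_1 D17229 (iv D16863) (iv D16219) (iv F62977) D16633
def n17230 : Q := act 7 n16634
theorem D17230 : act 7 n16634 = n17230 := rfl
theorem F67971 : act 0 n17230 = n16742 := d6_1 D17230 (iv D16742) (iv F65736)
theorem F67972 : act 1 n17230 = n16829 := d13_1 D17230 (iv D16829) (iv F65737)
theorem F67973 : act 2 n17230 = n16646 := d19_1 D17230 (iv D16646) (iv F65738)
theorem F67974 : act 5 n17230 = n16823 := d31_1 D17230 (iv D16823) (iv F65740)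
theorem F67975 : act 6 n17230 = n16636 := d33_1 D17230 (iv D16636) (iv F65741)
def n17231 : Q := act 7 n16635
theorem D17231 : act 7 n16635 = n17231 := rfl
theorem F67976 : act 0 n17231 = n16743 := d6_1 D17231 (iv D16743) (iv F65742)
theorem F67977 : act 1 n17231 = n17162 := d13_1 D17231 F67662 (iv F65743)
theorem F67978 : act 2 n17231 = n16647 := d19_1 D17231 (iv D16647) (iv F65744)
theorem F67979 : act 4 n17231 = n17224 := d28_1 D17231 (iv D17224) (iv F65745)
theorem F67980 : act 5 n17231 = n16637 := d31_1 D17231 (iv D16637) (iv F65746)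
theorem F67981 : act 8 n17231 = n16636 := d35_2 D16635 D17231 (iv D16636) (iv D15958) D15957
def n17232 : Q := act 3 n16636
theorem D17232 : act 3 n16636 = n17232 := rfl
theorem F67982 : act 0 n17232 = n16744 := d2_1 D17232 (iv D16744) (iv F65747)
theorem F67983 : act 5 n17232 = n16638 := d22_2 (iv F65749) D17232 (iv D16638)
theorem F67984 : act 7 n17232 = n16640 := d24_2 D16636 D17232 (iv D16640) (iv D15962) (iv F62995)
def n17233 : Q := act 3 n16637
theorem D17233 : act 3 n16637 = n17233 := rfl
theorem F67985 : act 0 n17233 = n16745 := d2_1 D17233 (iv D16745) (iv F65750)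
theorem F67986 : act 6 n17233 = n16674 := d23_2 (iv F65753) D17233 (iv D16674)
theorem F67987 : act 8 n17233 = n16638 := d25_2 (iv F65754) D17233 (iv D16638)
def n17234 : Q := act 2 n16638
theorem D17234 : act 2 n16638 = n17234 := rfl
theorem F67988 : act 0 n17234 = n16746 := d1_1 D17234 (iv D16746) (iv F65755)
theorem F67989 : act 3 n17234 = n16649 := d15_2 D16638 D17234 (iv D16649) (iv D15973) (iv F63002)
theorem F67990 : act 7 n17234 = n16641 := d19_2 (iv F65756) D17234 (iv D16641)
def n17235 : Q := act 4 n16638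
theorem D17235 : act 4 n16638 = n17235 := rfl
theorem F67991 : act 0 n17235 = n16747 := d3_1 D17235 (iv D16747) (iv F65755)
theorem F67992 : act 7 n17235 = n16642 := d28_2 (iv F65756) D17235 (iv D16642)
def n17236 : Q := act 3 n16639
theorem D17236 : act 3 n16639 = n17236 := rfl
theorem F67993 : act 0 n17236 = n16748 := d2_1 D17236 (iv D16748) (iv F65757)
theorem F67994 : act 1 n17236 = n16832 := d9_1 D17236 (iv D16832) (iv F65758)
theorem F67995 : act 2 n17236 = n17154 := d15_1 D17236 F67651 F65370 (iv F63018) (iv F65759)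
theorem F67996 : act 5 n17236 = n16824 := d22_2 (iv F65761) D17236 (iv D16824)
theorem F67997 : act 6 n17236 = n16640 := d23_2 (iv F65762) D17236 (iv D16640)
theorem F67998 : act 8 n17236 = n16859 := d25_2 (iv F65763) D17236 (iv D16859)
def n17237 : Q := act 2 n16640
theorem D17237 : act 2 n16640 = n17237 := rfl
theorem F67999 : act 0 n17237 = n16749 := d1_1 D17237 (iv D16749) (iv F65764)
theorem F68000 : act 1 n17237 = n17152 := d8_1 D17237 (iv D17152) (iv F67066) (iv F67959) F67958
theorem F68001 : act 3 n17237 = n16644 := d15_2 D16640 D17237 (iv D16644) (iv D15966) (iv F63010)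
theorem F68002 : act 5 n17237 = n16641 := d17_2 (iv F65765) D17237 (iv D16641)
theorem F68003 : act 6 n17237 = n17154 := d18_2 F67997 D17237 (iv F67995)
def n17238 : Q := act 4 n16640
theorem D17238 : act 4 n16640 = n17238 := rfl
theorem F68004 : act 0 n17238 = n16750 := d3_1 D17238 (iv D16750) (iv F65764)
theorem F68005 : act 3 n17238 = n16873 := d21_1 D17238 (iv D16873) (iv D16227) (iv F63011) D16640
def n17239 : Q := act 1 n16641
theorem D17239 : act 1 n16641 = n17239 := rfl
theorem F68006 : act 2 n17239 = n16994 := d8_2 D16641 D17239 F67136 (iv F65730) F65729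
theorem F68007 : act 3 n17239 = n16645 := d9_2 (iv F65767) D17239 (iv D16645)
theorem F68008 : act 5 n17239 = n17152 := d11_2 F68002 D17239 (iv F68000)
theorem F68009 : act 6 n17239 = n16995 := d12_2 F67921 D17239 (iv F67918)
def n17240 : Q := act 4 n16641
theorem D17240 : act 4 n16641 = n17240 := rfl
theorem F68010 : act 0 n17240 = n16752 := d3_1 D17240 (iv D16752) (iv F65766)
theorem F68011 : act 2 n17240 = n16642 := d16_1 D17240 (iv D16642) D16641
theorem F68012 : act 3 n17240 = n17101 := d21_1 D17240 (iv D17101) F65203 (iv F63029) (iv F65767)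
def n17241 : Q := act 5 n16642
theorem D17241 : act 5 n16642 = n17241 := rfl
theorem F68013 : act 0 n17241 = n16753 := d4_1 D17241 (iv D16753) (iv F65768)
theorem F68014 : act 3 n17241 = n16643 := d22_1 D17241 (iv D16643) (iv F65769)
def n17242 : Q := act 6 n16643
theorem D17242 : act 6 n16643 = n17242 := rfl
theorem F68015 : act 0 n17242 = n16754 := d5_1 D17242 (iv D16754) (iv F65770)
theorem F68016 : act 2 n17242 = n17103 := d18_1 D17242 (iv D17103) (iv F65771)
theorem F68017 : act 4 n17242 = n16876 := d27_1 D17242 (iv D16876) (iv F65772)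
def n17243 : Q := act 0 n16645
theorem D17243 : act 0 n16645 = n17243 := rfl
theorem F68018 : act 1 n17243 = n16756 := d0_2 D16645 D17243 (iv D16756) (iv D16093) (iv F63028)
theorem F68019 : act 2 n17243 = n16660 := d1_2 (iv F65778) D17243 (iv D16660)
theorem F68020 : act 4 n17243 = n17104 := d3_2 (iv F65779) D17243 (iv D17104)
theorem F68021 : act 5 n17243 = n16776 := d4_2 (iv F65780) D17243 F66308
theorem F68022 : act 6 n17243 = n17027 := d5_2 (iv F65781) D17243 F67229
theorem F68023 : act 7 n17243 = n16651 := d6_2 (iv F65782) D17243 (iv D16651)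
theorem F68024 : act 8 n17243 = n16784 := d7_2 F67881 D17243 F67882
def n17244 : Q := act 2 n16648
theorem D17244 : act 2 n16648 = n17244 := rfl
theorem F68025 : act 0 n17244 = n16768 := d1_1 D17244 (iv D16768) (iv F65792)
theorem F68026 : act 4 n17244 = n17030 := d16_2 (iv F65794) D17244 (iv D17030)
theorem F68027 : act 6 n17244 = n16678 := d18_2 (iv F65795) D17244 (iv D16678)
theorem F68028 : act 7 n17244 = n17244 := d19_2 F65796 D17244 (iv D17244)
theorem F68029 : act 8 n17244 = n16649 := d20_2 (iv F65797) D17244 (iv D16649)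
def n17245 : Q := act 1 n16649
theorem D17245 : act 1 n16649 = n17245 := rfl
theorem F68030 : act 2 n17245 = n17044 := d8_2 D16649 D17245 F67299 F64967 F64818
theorem F68031 : act 5 n17245 = n17163 := d11_2 F67681 D17245 (iv F67679)
theorem F68032 : act 6 n17245 = n17045 := d12_2 F66813 D17245 F67305
theorem F68033 : act 7 n17245 = n16650 := d13_2 (iv F65799) D17245 (iv D16650)
def n17246 : Q := act 0 n16650
theorem D17246 : act 0 n16650 = n17246 := rfl
theorem F68034 : act 1 n17246 = n16773 := d0_2 D16650 D17246 (iv D16773) (iv D16111) (iv F63055)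
theorem F68035 : act 2 n17246 = n17040 := d1_2 (iv F65800) D17246 F67281
theorem F68036 : act 3 n17246 = n16651 := d2_2 (iv F65801) D17246 (iv D16651)
theorem F68037 : act 5 n17246 = n16802 := d4_2 (iv F65802) D17246 F66447
theorem F68038 : act 6 n17246 = n17041 := d5_2 (iv F65803) D17246 F67286
theorem F68039 : act 8 n17246 = n17246 := d7_2 F65804 D17246 (iv D17246)
def n17247 : Q := act 2 n16652
theorem D17247 : act 2 n16652 = n17247 := rfl
theorem F68040 : act 0 n17247 = n16916 := d1_1 D17247 (iv D16916) (iv F65811)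
theorem F68041 : act 1 n17247 = n16886 := d8_1 D17247 (iv D16886) F64269 (iv F63075) (iv F65812)
theorem F68042 : act 4 n17247 = n16703 := d16_2 (iv F65813) D17247 (iv D16703)
theorem F68043 : act 5 n17247 = n16838 := d17_2 (iv F65814) D17247 (iv D16838)
theorem F68044 : act 6 n17247 = n16654 := d18_2 (iv F65815) D17247 (iv D16654)
theorem F68045 : act 7 n17247 = n17247 := d19_2 F65816 D17247 (iv D17247)
theorem F68046 : act 8 n17247 = n16657 := d20_2 (iv F65817) D17247 (iv D16657)
def n17248 : Q := act 2 n16653
theorem D17248 : act 2 n16653 = n17248 := rfl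
theorem F68047 : act 0 n17248 = n16654 := d1_1 D17248 (iv D16654) (iv F65818)
theorem F68048 : act 1 n17248 = n16838 := d8_1 D17248 (iv D16838) F64061 (iv F63214) (iv F65819)
theorem F68049 : act 4 n17248 = n16890 := d16_2 (iv F65820) D17248 (iv D16890)
theorem F68050 : act 5 n17248 = n16886 := d17_2 (iv F65821) D17248 (iv D16886)
theorem F68051 : act 6 n17248 = n16916 := d18_2 (iv F65822) D17248 (iv D16916)
theorem F68052 : act 7 n17248 = n17248 := d19_2 F65823 D17248 (iv D17248)
theorem F68053 : act 8 n17248 = n16658 := d20_2 (iv F65824) D17248 (iv D16658)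
def n17249 : Q := act 4 n16654
theorem D17249 : act 4 n16654 = n17249 := rfl
theorem F68054 : act 0 n17249 = n16890 := d3_1 D17249 (iv F68049) F68047
theorem F68055 : act 1 n17249 = n17114 := d10_1 D17249 (iv D17114) (iv F65825)
theorem F68056 : act 2 n17249 = n16655 := d16_1 D17249 (iv D16655) D16654
theorem F68057 : act 6 n17249 = n16703 := d27_2 F68044 D17249 (iv F68042)
theorem F68058 : act 7 n17249 = n17249 := d28_2 F65827 D17249 (iv D17249)
theorem F68059 : act 8 n17249 = n16659 := d29_2 (iv F65828) D17249 (iv D16659)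
theorem F68060 : act 5 n16889 = n17249 := d32_3 F68059 (iv F65858) (iv F66787)
def n17250 : Q := act 3 n16659
theorem D17250 : act 3 n16659 = n17250 := rfl
theorem F68061 : act 0 n17250 = n17154 := d2_1 D17250 F67651 (iv F65853)
theorem F68062 : act 1 n17250 = n17117 := d9_1 D17250 (iv D17117) (iv F65854)
theorem F68063 : act 2 n17250 = n16748 := d15_1 D17250 (iv D16748) F63585 (iv F63175) (iv F65855)
theorem F68064 : act 5 n17250 = n17157 := d22_2 F65858 D17250 F67655
theorem F68065 : act 6 n17250 = n16749 := d23_2 (iv F65856) D17250 F66207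
def n17251 : Q := act 7 n16661
theorem D17251 : act 7 n16661 = n17251 := rfl
theorem F68066 : act 0 n17251 = n17166 := d6_1 D17251 F67676 (iv F65866)
theorem F68067 : act 1 n17251 = n17118 := d13_1 D17251 (iv D17118) (iv F65867)
theorem F68068 : act 2 n17251 = n16765 := d19_1 D17251 F66268 (iv F65868)
theorem F68069 : act 5 n17251 = n17170 := d31_1 D17251 F67692 (iv F65869)
theorem F68070 : act 6 n17251 = n16767 := d33_1 D17251 F66274 (iv F65870)
def n17252 : Q := act 3 n16662
theorem D17252 : act 3 n16662 = n17252 := rfl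
theorem F68071 : act 1 n17252 = n16797 := d9_1 D17252 (iv D16797) (iv F65872)
theorem F68072 : act 2 n17252 = n16669 := d15_1 D17252 (iv D16669) F63269 (iv F63234) (iv F65873)
theorem F68073 : act 5 n17252 = n16664 := d22_2 (iv F65875) D17252 (iv D16664)
theorem F68074 : act 6 n17252 = n16894 := d23_2 (iv F65876) D17252 (iv D16894)
theorem F68075 : act 7 n17252 = n16679 := d24_2 D16662 D17252 (iv D16679) (iv D16021) (iv F63229)
def n17253 : Q := act 3 n16663
theorem D17253 : act 3 n16663 = n17253 := rfl
theorem F68076 : act 0 n17253 = n16910 := d2_1 D17253 (iv D16910) (iv F65877)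
theorem F68077 : act 1 n17253 = n16664 := d9_1 D17253 (iv D16664) (iv F65878)
theorem F68078 : act 2 n17253 = n16894 := d15_1 D17253 (iv D16894) F64314 (iv F63795) (iv F65879)
theorem F68079 : act 5 n17253 = n16797 := d22_2 (iv F65880) D17253 (iv D16797)
theorem F68080 : act 6 n17253 = n16669 := d23_2 (iv F65881) D17253 (iv D16669)
theorem F68081 : act 7 n17253 = n16680 := d24_2 D16663 D17253 (iv D16680) (iv D16022) (iv F63240)
theorem F68082 : act 8 n17253 = n17252 := d25_2 (iv F65882) D17253 (iv D17252)
def n17254 : Q := act 4 n16664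
theorem D17254 : act 4 n16664 = n17254 := rfl
theorem F68083 : act 2 n17254 = n16929 := d16_1 D17254 (iv D16929) (iv F65883)
theorem F68084 : act 6 n17254 = n16675 := d27_2 (iv F65884) D17254 (iv D16675)
theorem F68085 : act 7 n17254 = n16683 := d28_2 (iv F65885) D17254 (iv D16683)
def n17255 : Q := act 7 n16665
theorem D17255 : act 7 n16665 = n17255 := rfl
theorem F68086 : act 0 n17255 = n16668 := d6_1 D17255 (iv D16668) (iv F65886)
theorem F68087 : act 1 n17255 = n17132 := d13_1 D17255 (iv D17132) (iv F65887)
theorem F68088 : act 2 n17255 = n16787 := d19_1 D17255 (iv D16787) (iv F65888)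
theorem F68089 : act 4 n17255 = n16666 := d28_1 D17255 (iv D16666) (iv F65890)
theorem F68090 : act 5 n17255 = n16882 := d31_1 D17255 F66749 (iv F65891)
theorem F68091 : act 6 n17255 = n16908 := d33_1 D17255 (iv D16908) (iv F65892)
theorem F68092 : act 8 n17255 = n16881 := d35_2 D16665 D17255 F66745 F64254 (iv F63250)
def n17256 : Q := act 3 n16666
theorem D17256 : act 3 n16666 = n17256 := rfl
theorem F68093 : act 0 n17256 = n16669 := d2_1 D17256 (iv D16669) (iv F65893)
theorem F68094 : act 5 n17256 = n16923 := d22_2 (iv F65895) D17256 (iv D16923)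
theorem F68095 : act 6 n17256 = n16910 := d23_2 (iv F65896) D17256 (iv D16910)
theorem F68096 : act 7 n17256 = n16685 := d24_2 D16666 D17256 (iv D16685) (iv D16027) (iv F63254)
def n17257 : Q := act 7 n16667
theorem D17257 : act 7 n16667 = n17257 := rfl
theorem F68097 : act 0 n17257 = n16970 := d6_1 D17257 (iv D16970) (iv F65897)
theorem F68098 : act 1 n17257 = n16671 := d13_1 D17257 (iv D16671) (iv F65898)
theorem F68099 : act 2 n17257 = n16879 := d19_1 D17257 (iv D16879) (iv F65899)
theorem F68100 : act 4 n17257 = n16688 := d28_1 D17257 (iv D16688) (iv F65901)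
theorem F68101 : act 5 n17257 = n16844 := d31_1 D17257 (iv D16844) (iv F65902)
theorem F68102 : act 6 n17257 = n17092 := d33_1 D17257 (iv D17092) (iv F65903)
theorem F68103 : act 8 n17257 = n16843 := d35_2 D16667 D17257 (iv D16843) (iv D16201) (iv F63263)
def n17258 : Q := act 3 n16668
theorem D17258 : act 3 n16668 = n17258 := rfl
theorem F68104 : act 1 n17258 = n16674 := d9_1 D17258 (iv D16674) (iv F65904)
theorem F68105 : act 2 n17258 = n17003 := d15_1 D17258 (iv D17003) F64689 (iv F63817) (iv F65905)
theorem F68106 : act 5 n17258 = n17006 := d22_2 (iv F65907) D17258 F67163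
theorem F68107 : act 8 n17258 = n17004 := d25_2 (iv F65908) D17258 F67158
def n17259 : Q := act 4 n16669
theorem D17259 : act 4 n16669 = n17259 := rfl
theorem F68108 : act 1 n17259 = n16675 := d10_1 D17259 (iv D16675) (iv F65909)
theorem F68109 : act 7 n17259 = n16691 := d28_2 (iv F65911) D17259 (iv D16691)
def n17260 : Q := act 7 n16670
theorem D17260 : act 7 n16670 = n17260 := rfl
theorem F68110 : act 0 n17260 = n17086 := d6_1 D17260 (iv D17086) (iv F65912)
theorem F68111 : act 1 n17260 = n16844 := d13_1 D17260 (iv D16844) (iv F65913)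
theorem F68112 : act 2 n17260 = n17260 := d19_1 D17260 (iv D17260) F65914
theorem F68113 : act 5 n17260 = n16671 := d31_1 D17260 (iv D16671) (iv F65916)
theorem F68114 : act 6 n17260 = n16857 := d33_1 D17260 (iv D16857) (iv F65917)
theorem F68115 : act 8 n17260 = n16839 := d35_2 D16670 D17260 (iv D16839) (iv D16198) (iv F63275)
def n17261 : Q := act 3 n16671
theorem D17261 : act 3 n16671 = n17261 := rfl
theorem F68116 : act 7 n17261 = n16674 := d24_2 D16671 D17261 (iv D16674) (iv D16016) (iv F63278)
def n17262 : Q := act 7 n16672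
theorem D17262 : act 7 n16672 = n17262 := rfl
theorem F68117 : act 1 n17262 = n16830 := d13_1 D17262 (iv D16830) (iv F65920)
theorem F68118 : act 2 n17262 = n16676 := d19_1 D17262 (iv D16676) (iv F65921)
theorem F68119 : act 4 n17262 = n16935 := d28_1 D17262 (iv D16935) (iv F65923)
theorem F68120 : act 6 n17262 = n16673 := d33_1 D17262 (iv D16673) (iv F65924)
theorem F68121 : act 8 n17262 = n16823 := d35_2 D16672 D17262 (iv D16823) (iv D16183) (iv F63284)
def n17263 : Q := act 3 n16673
theorem D17263 : act 3 n16673 = n17263 := rfl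
theorem F68122 : act 1 n17263 = n17006 := d9_1 D17263 F67163 (iv F65925)
theorem F68123 : act 5 n17263 = n16674 := d22_2 (iv F65928) D17263 (iv D16674)
theorem F68124 : act 8 n17263 = n17008 := d25_2 (iv F65929) D17263 F67166
def n17264 : Q := act 2 n16674
theorem D17264 : act 2 n16674 = n17264 := rfl
theorem F68125 : act 3 n17264 = n16678 := d15_2 D16674 D17264 (iv D16678) (iv D16020) (iv F63289)
def n17265 : Q := act 4 n16674
theorem D17265 : act 4 n16674 = n17265 := rfl
theorem F68126 : act 3 n17265 = n16675 := d21_1 D17265 (iv D16675) (iv D16017) (iv F63290) D16674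
def n17266 : Q := act 5 n16675
theorem D17266 : act 5 n16675 = n17266 := rfl
theorem F68127 : act 2 n17266 = n17126 := d17_1 D17266 (iv D17126) (iv F65930)
theorem F68128 : act 4 n17266 = n16939 := d26_1 D17266 (iv D16939) (iv D16306) (iv F63292) D16675
theorem F68129 : act 7 n17266 = n16702 := d31_2 (iv F65931) D17266 (iv D16702)
def n17267 : Q := act 2 n16677
theorem D17267 : act 2 n16677 = n17267 := rfl
theorem F68130 : act 1 n17267 = n17046 := d8_1 D17267 (iv D17046) F64933 (iv F63828) (iv F65937)
theorem F68131 : act 5 n17267 = n16678 := d17_2 (iv F65938) D17267 (iv D16678)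
theorem F68132 : act 6 n17267 = n17168 := d18_2 (iv F65939) D17267 F67684
theorem F68133 : act 7 n17267 = n17267 := d19_2 F65940 D17267 (iv D17267)
theorem F68134 : act 8 n17267 = n17048 := d20_2 (iv F65941) D17267 F67317
def n17268 : Q := act 4 n16677
theorem D17268 : act 4 n16677 = n17268 := rfl
theorem F68135 : act 1 n17268 = n16788 := d10_1 D17268 (iv D16788) (iv F65937)
theorem F68136 : act 3 n17268 = n16942 := d21_1 D17268 (iv D16942) (iv D16308) (iv F63299) D16677
theorem F68137 : act 5 n17268 = n17129 := d26_2 (iv F65938) D17268 (iv D17129) F65316 (iv F63303)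
theorem F68138 : act 6 n17268 = n17179 := d27_2 (iv F65939) D17268 (iv D17179)
theorem F68139 : act 7 n17268 = n17268 := d28_2 F65940 D17268 (iv D17268)
theorem F68140 : act 8 n17268 = n17052 := d29_2 (iv F65941) D17268 (iv D17052)
def n17269 : Q := act 1 n16678
theorem D17269 : act 1 n16678 = n17269 := rfl
theorem F68141 : act 2 n17269 = n16789 := d8_2 D16678 D17269 (iv D16789) (iv D16145) (iv F63302)
theorem F68142 : act 4 n17269 = n17130 := d10_2 (iv F65942) D17269 (iv D17130)
theorem F68143 : act 5 n17269 = n17046 := d11_2 F68131 D17269 (iv F68130)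
theorem F68144 : act 7 n17269 = n17269 := d13_2 F65943 D17269 (iv D17269)
theorem F68145 : act 8 n17269 = n17045 := d14_2 F66815 D17269 F67305
def n17270 : Q := act 4 n16679
theorem D17270 : act 4 n16679 = n17270 := rfl
theorem F68146 : act 1 n17270 = n16798 := d10_1 D17270 (iv D16798) (iv F65944)
theorem F68147 : act 2 n17270 = n16691 := d16_1 D17270 (iv D16691) (iv F65945)
theorem F68148 : act 3 n17270 = n16796 := d21_1 D17270 (iv D16796) (iv D16151) (iv F63307) D16679
theorem F68149 : act 6 n17270 = n16898 := d27_2 (iv F65947) D17270 (iv D16898)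
theorem F68150 : act 8 n17270 = n16707 := d29_2 (iv F65948) D17270 (iv D16707)
def n17271 : Q := act 4 n16680
theorem D17271 : act 4 n16680 = n17271 := rfl
theorem F68151 : act 0 n17271 = n16913 := d3_1 D17271 (iv D16913) (iv F65949)
theorem F68152 : act 1 n17271 = n16683 := d10_1 D17271 (iv D16683) (iv F65950)
theorem F68153 : act 2 n17271 = n16898 := d16_1 D17271 (iv D16898) (iv F65951)
theorem F68154 : act 3 n17271 = n17099 := d21_1 D17271 (iv D17099) (iv D16495) (iv F63314) D16680
theorem F68155 : act 6 n17271 = n16691 := d27_2 (iv F65953) D17271 (iv D16691)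
theorem F68156 : act 8 n17271 = n16712 := d29_2 (iv F65954) D17271 (iv D16712)
def n17272 : Q := act 3 n16681
theorem D17272 : act 3 n16681 = n17272 := rfl
theorem F68157 : act 1 n17272 = n17094 := d9_1 D17272 (iv D17094) (iv F65955)
theorem F68158 : act 5 n17272 = n17087 := d22_2 (iv F65957) D17272 (iv D17087)
theorem F68159 : act 6 n17272 = n16697 := d23_2 (iv F65958) D17272 (iv D16697)
theorem F68160 : act 7 n17272 = n16682 := d24_2 D16681 D17272 (iv D16682) (iv D16024) (iv F63320)
def n17273 : Q := act 2 n16682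
theorem D17273 : act 2 n16682 = n17273 := rfl
theorem F68161 : act 3 n17273 = n16684 := d15_2 D16682 D17273 (iv D16684) (iv D16026) (iv F63324)
theorem F68162 : act 5 n17273 = n17088 := d17_2 (iv F65960) D17273 (iv D17088)
theorem F68163 : act 6 n17273 = n16700 := d18_2 (iv F65961) D17273 (iv D16700)
theorem F68164 : act 8 n17273 = n16718 := d20_2 (iv F65962) D17273 (iv D16718)
def n17274 : Q := act 4 n16682
theorem D17274 : act 4 n16682 = n17274 := rfl
theorem F68165 : act 1 n17274 = n17099 := d10_1 D17274 (iv D17099) (iv F65959)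
theorem F68166 : act 3 n17274 = n16683 := d21_1 D17274 (iv D16683) (iv D16025) (iv F63325) D16682
theorem F68167 : act 6 n17274 = n16701 := d27_2 (iv F65961) D17274 (iv D16701)
theorem F68168 : act 8 n17274 = n16719 := d29_2 (iv F65962) D17274 (iv D16719)
def n17275 : Q := act 5 n16683
theorem D17275 : act 5 n16683 = n17275 := rfl
theorem F68169 : act 2 n17275 = n16957 := d17_1 D17275 (iv D16957) (iv F65963)
theorem F68170 : act 8 n17275 = n16720 := d32_2 (iv F65965) D17275 (iv D16720)
def n17276 : Q := act 1 n16684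
theorem D17276 : act 1 n16684 = n17276 := rfl
theorem F68171 : act 2 n17276 = n16775 := d8_2 D16684 D17276 (iv D16775) (iv D16115) (iv F63332)
theorem F68172 : act 4 n17276 = n16887 := d10_2 (iv F65966) D17276 F66774
theorem F68173 : act 5 n17276 = n17115 := d11_2 (iv F65967) D17276 (iv D17115)
theorem F68174 : act 6 n17276 = n16704 := d12_2 (iv F65968) D17276 (iv D16704)
theorem F68175 : act 7 n17276 = n17276 := d13_2 F65969 D17276 (iv D17276)
theorem F68176 : act 8 n17276 = n16723 := d14_2 (iv F65970) D17276 (iv D16723)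
theorem F68177 : act 0 n17116 = n17276 := d3_3 F68172 F66773 D17116
def n17277 : Q := act 4 n16685
theorem D17277 : act 4 n16685 = n17277 := rfl
theorem F68178 : act 0 n17277 = n16691 := d3_1 D17277 (iv D16691) (iv F65971)
theorem F68179 : act 3 n17277 = n17153 := d21_1 D17277 (iv D17153) (iv D16549) (iv F63340) D16685
theorem F68180 : act 6 n17277 = n16913 := d27_2 (iv F65973) D17277 (iv D16913)
theorem F68181 : act 8 n17277 = n16729 := d29_2 (iv F65974) D17277 (iv D16729)
def n17278 : Q := act 7 n16686
theorem D17278 : act 7 n16686 = n17278 := rfl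
theorem F68182 : act 0 n17278 = n16988 := d6_1 D17278 (iv D16988) (iv F65975)
theorem F68183 : act 1 n17278 = n16695 := d13_1 D17278 (iv D16695) (iv F65976)
theorem F68184 : act 2 n17278 = n17035 := d19_1 D17278 (iv D17035) (iv F65977)
theorem F68185 : act 5 n17278 = n16688 := d31_1 D17278 (iv D16688) (iv F65979)
theorem F68186 : act 6 n17278 = n16980 := d33_1 D17278 (iv D16980) (iv F65980)
def n17279 : Q := act 7 n16687
theorem D17279 : act 7 n16687 = n17279 := rfl
theorem F68187 : act 0 n17279 = n16968 := d6_1 D17279 (iv D16968) (iv F65981)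
theorem F68188 : act 1 n17279 = n16696 := d13_1 D17279 (iv D16696) (iv F65982)
theorem F68189 : act 2 n17279 = n16877 := d19_1 D17279 (iv D16877) (iv F65983)
theorem F68190 : act 4 n17279 = n16843 := d28_1 D17279 (iv D16843) (iv F65985)
theorem F68191 : act 6 n17279 = n17093 := d33_1 D17279 (iv D17093) (iv F65986)
theorem F68192 : act 8 n17279 = n16688 := d35_2 D16687 D17279 (iv D16688) (iv D16030) D16029
def n17280 : Q := act 3 n16688
theorem D17280 : act 3 n16688 = n17280 := rfl
theorem F68193 : act 0 n17280 = n17143 := d2_1 D17280 (iv D17143) (iv F65987)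
theorem F68194 : act 1 n17280 = n16697 := d9_1 D17280 (iv D16697) (iv F65988)
theorem F68195 : act 6 n17280 = n17094 := d23_2 (iv F65990) D17280 (iv D17094)
theorem F68196 : act 7 n17280 = n16690 := d24_2 D16688 D17280 (iv D16690) (iv D16032) (iv F63358)
def n17281 : Q := act 3 n16689
theorem D17281 : act 3 n16689 = n17281 := rfl
theorem F68197 : act 0 n17281 = n16994 := d2_1 D17281 (iv D16994) (iv F65991)
theorem F68198 : act 1 n17281 = n16699 := d9_1 D17281 (iv D16699) (iv F65992)
theorem F68199 : act 5 n17281 = n16690 := d22_2 (iv F65995) D17281 (iv D16690)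
theorem F68200 : act 6 n17281 = n16983 := d23_2 (iv F65996) D17281 (iv D16983)
theorem F68201 : act 8 n17281 = n16737 := d25_2 (iv F65997) D17281 (iv D16737)
def n17282 : Q := act 2 n16690
theorem D17282 : act 2 n16690 = n17282 := rfl
theorem F68202 : act 0 n17282 = n17152 := d1_1 D17282 (iv D17152) (iv F65998)
theorem F68203 : act 3 n17282 = n16776 := d15_2 D16690 D17282 (iv D16776) (iv D16117) (iv F63368)
theorem F68204 : act 6 n17282 = n17098 := d18_2 (iv F66000) D17282 (iv D17098)
theorem F68205 : act 8 n17282 = n16738 := d20_2 (iv F66001) D17282 (iv D16738)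
theorem F68206 : act 1 n16891 = n17282 := d9_3 F68203 F66309 D16891
def n17283 : Q := act 4 n16690
theorem D17283 : act 4 n16690 = n17283 := rfl
theorem F68207 : act 0 n17283 = n17153 := d3_1 D17283 (iv D17153) (iv F65998)
theorem F68208 : act 1 n17283 = n16701 := d10_1 D17283 (iv D16701) (iv F65999)
theorem F68209 : act 3 n17283 = n16691 := d21_1 D17283 (iv D16691) (iv D16033) (iv F63369) D16690
theorem F68210 : act 6 n17283 = n17099 := d27_2 (iv F66000) D17283 (iv D17099)
theorem F68211 : act 8 n17283 = n16739 := d29_2 (iv F66001) D17283 (iv D16739)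
def n17284 : Q := act 5 n16691
theorem D17284 : act 5 n16691 = n17284 := rfl
theorem F68212 : act 1 n17284 = n16702 := d11_1 D17284 (iv D16702) (iv F66002)
theorem F68213 : act 4 n17284 = n16957 := d26_1 D17284 (iv D16957) (iv D16323) (iv F63373) D16691
theorem F68214 : act 8 n17284 = n16740 := d32_2 (iv F66003) D17284 (iv D16740)
def n17285 : Q := act 7 n16692
theorem D17285 : act 7 n16692 = n17285 := rfl
theorem F68215 : act 2 n17285 = n17285 := d19_1 D17285 (iv D17285) F66004
theorem F68216 : act 4 n17285 = n16695 := d28_1 D17285 (iv D16695) (iv F66006)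
def n17286 : Q := act 7 n16693
theorem D17286 : act 7 n16693 = n17286 := rfl
theorem F68217 : act 0 n17286 = n16856 := d6_1 D17286 (iv D16856) (iv F66007)
theorem F68218 : act 1 n17286 = n16980 := d13_1 D17286 (iv D16980) (iv F66008)
theorem F68219 : act 2 n17286 = n17286 := d19_1 D17286 (iv D17286) F66009
theorem F68220 : act 5 n17286 = n16850 := d31_1 D17286 (iv D16850) (iv F66011)
theorem F68221 : act 6 n17286 = n16695 := d33_1 D17286 (iv D16695) (iv F66012)
theorem F68222 : act 8 n17286 = n17285 := d35_2 D16693 D17286 (iv D17285) (iv D16692) F63382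
def n17287 : Q := act 7 n16694
theorem D17287 : act 7 n16694 = n17287 := rfl
theorem F68223 : act 2 n17287 = n17287 := d19_1 D17287 (iv D17287) F66013
theorem F68224 : act 4 n17287 = n17286 := d28_1 D17287 (iv D17286) (iv F66015)
theorem F68225 : act 5 n17287 = n16696 := d31_1 D17287 (iv D16696) (iv F66016)
theorem F68226 : act 6 n17287 = n17285 := d33_1 D17287 (iv D17285) (iv F66017)
theorem F68227 : act 8 n17287 = n16695 := d35_2 D16694 D17287 (iv D16695) (iv D16037) D16036
def n17288 : Q := act 3 n16695
theorem D17288 : act 3 n16695 = n17288 := rfl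
theorem F68228 : act 5 n17288 = n16697 := d22_2 (iv F66019) D17288 (iv D16697)
theorem F68229 : act 7 n17288 = n16699 := d24_2 D16695 D17288 (iv D16699) (iv D16041) (iv F63389)
def n17289 : Q := act 3 n16696
theorem D17289 : act 3 n16696 = n17289 := rfl
theorem F68230 : act 7 n17289 = n16745 := d24_2 D16696 D17289 (iv D16745) (iv D16085) (iv F63392)
theorem F68231 : act 8 n17289 = n16697 := d25_2 (iv F66021) D17289 (iv D16697)
def n17290 : Q := act 2 n16697
theorem D17290 : act 2 n16697 = n17290 := rfl
theorem F68232 : act 3 n17290 = n17290 := d15_2 D16697 D17290 (iv D17290) (iv D16697) F63393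
theorem F68233 : act 7 n17290 = n16700 := d19_2 (iv F66022) D17290 (iv D16700)
def n17291 : Q := act 4 n16697
theorem D17291 : act 4 n16697 = n17291 := rfl
theorem F68234 : act 7 n17291 = n16701 := d28_2 (iv F66022) D17291 (iv D16701)
def n17292 : Q := act 3 n16698
theorem D17292 : act 3 n16698 = n17292 := rfl
theorem F68235 : act 0 n17292 = n16859 := d2_1 D17292 (iv D16859) (iv F66023)
theorem F68236 : act 1 n17292 = n16983 := d9_1 D17292 (iv D16983) (iv F66024)
theorem F68237 : act 5 n17292 = n16851 := d22_2 (iv F66027) D17292 (iv D16851)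
theorem F68238 : act 6 n17292 = n16699 := d23_2 (iv F66028) D17292 (iv D16699)
theorem F68239 : act 8 n17292 = n16748 := d25_2 (iv F66029) D17292 (iv D16748)
def n17293 : Q := act 2 n16699
theorem D17293 : act 2 n16699 = n17293 := rfl
theorem F68240 : act 3 n17293 = n16703 := d15_2 D16699 D17293 (iv D16703) (iv D16045) (iv F63400)
theorem F68241 : act 5 n17293 = n16700 := d17_2 (iv F66030) D17293 (iv D16700)
theorem F68242 : act 8 n17293 = n16749 := d20_2 (iv F66031) D17293 (iv D16749)
def n17294 : Q := act 4 n16699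
theorem D17294 : act 4 n16699 = n17294 := rfl
theorem F68243 : act 3 n17294 = n16965 := d21_1 D17294 (iv D16965) (iv D16331) (iv F63401) D16699
theorem F68244 : act 8 n17294 = n16750 := d29_2 (iv F66031) D17294 (iv D16750)
def n17295 : Q := act 1 n16700
theorem D17295 : act 1 n16700 = n17295 := rfl
theorem F68245 : act 2 n17295 = n16891 := d8_2 D16700 D17295 F68206 (iv D17282) F65999
theorem F68246 : act 3 n17295 = n16704 := d9_2 (iv F66032) D17295 (iv D16704)
theorem F68247 : act 8 n17295 = n16751 := d14_2 (iv F66033) D17295 (iv D16751)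
def n17296 : Q := act 4 n16700
theorem D17296 : act 4 n16700 = n17296 := rfl
theorem F68248 : act 2 n17296 = n16701 := d16_1 D17296 (iv D16701) D16700
theorem F68249 : act 3 n17296 = n17139 := d21_1 D17296 (iv D17139) F65338 (iv F63417) (iv F66032)
theorem F68250 : act 8 n17296 = n16752 := d29_2 (iv F66033) D17296 (iv D16752)
def n17297 : Q := act 5 n16701
theorem D17297 : act 5 n16701 = n17297 := rfl
theorem F68251 : act 3 n17297 = n16702 := d22_1 D17297 (iv D16702) (iv F66034)
theorem F68252 : act 8 n17297 = n16753 := d32_2 (iv F66035) D17297 (iv D16753)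
def n17298 : Q := act 6 n16702
theorem D17298 : act 6 n16702 = n17298 := rfl
theorem F68253 : act 2 n17298 = n17141 := d18_1 D17298 (iv D17141) (iv F66036)
theorem F68254 : act 4 n17298 = n16967 := d27_1 D17298 (iv D16967) (iv F66037)
theorem F68255 : act 8 n17298 = n16754 := d34_2 (iv F66038) D17298 (iv D16754)
def n17299 : Q := act 1 n16703
theorem D17299 : act 1 n16703 = n17299 := rfl
theorem F68256 : act 0 n17299 = n16786 := d0_1 D17299 (iv D16786) (iv F66348) (iv F67870) F67869
theorem F68257 : act 2 n17299 = n16777 := d8_2 D16703 D17299 (iv D16777) (iv D16118) (iv F63413)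
theorem F68258 : act 4 n17299 = n16886 := d10_2 F68042 D17299 (iv F68041)
theorem F68259 : act 5 n17299 = n16704 := d11_2 (iv F66039) D17299 (iv D16704)
theorem F68260 : act 6 n17299 = n17114 := d12_2 F68057 D17299 (iv F68055)
theorem F68261 : act 7 n17299 = n17299 := d13_2 F66040 D17299 (iv D17299)
theorem F68262 : act 8 n17299 = n16755 := d14_2 (iv F66041) D17299 (iv D16755)
def n17300 : Q := act 0 n16704
theorem D17300 : act 0 n16704 = n17300 := rfl
theorem F68263 : act 1 n17300 = n16784 := d0_2 D16704 D17300 F67882 (iv D17209) F65645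
theorem F68264 : act 2 n17300 = n16778 := d1_2 (iv F66042) D17300 (iv D16778)
theorem F68265 : act 4 n17300 = n16889 := d3_2 (iv F66043) D17300 F66784
theorem F68266 : act 5 n17300 = n16786 := d4_2 F68259 D17300 (iv F68256)
theorem F68267 : act 6 n17300 = n17116 := d5_2 F68174 D17300 F68177
theorem F68268 : act 7 n17300 = n17300 := d6_2 F66044 D17300 (iv D17300)
theorem F68269 : act 8 n17300 = n16756 := d7_2 (iv F66045) D17300 (iv D16756)
def n17301 : Q := act 3 n16705
theorem D17301 : act 3 n16705 = n17301 := rfl
theorem F68270 : act 1 n17301 = n16790 := d9_1 D17301 (iv D16790) (iv F66046)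
theorem F68271 : act 5 n17301 = n17071 := d22_2 (iv F66048) D17301 (iv D17071)
theorem F68272 : act 6 n17301 = n16903 := d23_2 (iv F66049) D17301 (iv D16903)
theorem F68273 : act 7 n17301 = n16706 := d24_2 D16705 D17301 (iv D16706) (iv D16048) (iv F63422)
theorem F68274 : act 8 n17301 = n17183 := d25_2 (iv F66050) D17301 (iv D17183)
def n17302 : Q := act 2 n16706
theorem D17302 : act 2 n16706 = n17302 := rfl
theorem F68275 : act 1 n17302 = n16825 := d8_1 D17302 (iv D16825) F64015 (iv F63846) (iv F66051)
theorem F68276 : act 3 n17302 = n16708 := d15_2 D16706 D17302 (iv D16708) (iv D16050) (iv F63426)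
theorem F68277 : act 5 n17302 = n17078 := d17_2 (iv F66052) D17302 (iv D17078)
theorem F68278 : act 6 n17302 = n16905 := d18_2 (iv F66053) D17302 (iv D16905)
theorem F68279 : act 8 n17302 = n16795 := d20_2 (iv F66054) D17302 (iv D16795)
def n17303 : Q := act 4 n16706
theorem D17303 : act 4 n16706 = n17303 := rfl
theorem F68280 : act 1 n17303 = n16791 := d10_1 D17303 (iv D16791) (iv F66051)
theorem F68281 : act 3 n17303 = n16707 := d21_1 D17303 (iv D16707) (iv D16049) (iv F63427) D16706
theorem F68282 : act 6 n17303 = n16906 := d27_2 (iv F66053) D17303 (iv D16906)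
theorem F68283 : act 8 n17303 = n16796 := d29_2 (iv F66054) D17303 (iv D16796)
def n17304 : Q := act 5 n16707
theorem D17304 : act 5 n16707 = n17304 := rfl
theorem F68284 : act 1 n17304 = n16900 := d11_1 D17304 (iv D16900) (iv F66055)
theorem F68285 : act 2 n17304 = n16740 := d17_1 D17304 (iv D16740) (iv F66056)
theorem F68286 : act 4 n17304 = n16720 := d26_1 D17304 (iv D16720) (iv D16061) (iv F63433) D16707
def n17305 : Q := act 4 n16709
theorem D17305 : act 4 n16709 = n17305 := rfl
theorem F68287 : act 0 n17305 = n16712 := d3_1 D17305 (iv D16712) (iv F66064)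
theorem F68288 : act 2 n17305 = n16837 := d16_1 D17305 (iv D16837) (iv F66065)
theorem F68289 : act 3 n17305 = n17138 := d21_1 D17305 (iv D17138) (iv D16537) (iv F63443) D16709
theorem F68290 : act 6 n17305 = n16729 := d27_2 (iv F66067) D17305 (iv D16729)
theorem F68291 : act 7 n17305 = n17212 := d28_2 (iv F66068) D17305 (iv D17212)
theorem F68292 : act 8 n17305 = n16913 := d29_2 (iv F66069) D17305 (iv D16913)
def n17306 : Q := act 3 n16710
theorem D17306 : act 3 n16710 = n17306 := rfl
theorem F68293 : act 0 n17306 = n17133 := d2_1 D17306 (iv D17133) (iv F66070)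
theorem F68294 : act 1 n17306 = n16715 := d9_1 D17306 (iv D16715) (iv F66071)
theorem F68295 : act 5 n17306 = n17081 := d22_2 (iv F66074) D17306 (iv D17081)
theorem F68296 : act 6 n17306 = n16735 := d23_2 (iv F66075) D17306 (iv D16735)
theorem F68297 : act 7 n17306 = n16711 := d24_2 D16710 D17306 (iv D16711) (iv D16053) (iv F63450)
def n17307 : Q := act 2 n16711
theorem D17307 : act 2 n16711 = n17307 := rfl
theorem F68298 : act 0 n17307 = n17137 := d1_1 D17307 (iv D17137) (iv F66076)
theorem F68299 : act 3 n17307 = n16779 := d15_2 D16711 D17307 (iv D16779) (iv D16120) (iv F63456)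
theorem F68300 : act 5 n17307 = n17082 := d17_2 (iv F66078) D17307 (iv D17082)
theorem F68301 : act 6 n17307 = n16738 := d18_2 (iv F66079) D17307 (iv D16738)
theorem F68302 : act 8 n17307 = n17098 := d20_2 (iv F66080) D17307 (iv D17098)
def n17308 : Q := act 4 n16711
theorem D17308 : act 4 n16711 = n17308 := rfl
theorem F68303 : act 0 n17308 = n17138 := d3_1 D17308 (iv D17138) (iv F66076)
theorem F68304 : act 1 n17308 = n16719 := d10_1 D17308 (iv D16719) (iv F66077)
theorem F68305 : act 3 n17308 = n16712 := d21_1 D17308 (iv D16712) (iv D16054) (iv F63457) D16711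
theorem F68306 : act 6 n17308 = n16739 := d27_2 (iv F66079) D17308 (iv D16739)
theorem F68307 : act 8 n17308 = n17099 := d29_2 (iv F66080) D17308 (iv D17099)
def n17309 : Q := act 5 n16712
theorem D17309 : act 5 n16712 = n17309 := rfl
theorem F68308 : act 1 n17309 = n16720 := d11_1 D17309 (iv D16720) (iv F66081)
theorem F68309 : act 2 n17309 = n16907 := d17_1 D17309 (iv D16907) (iv F66082)
theorem F68310 : act 4 n17309 = n16900 := d26_1 D17309 (iv D16900) (iv D16266) (iv F63463) D16712
theorem F68311 : act 7 n17309 = n17304 := d31_2 (iv F66084) D17309 (iv D17304)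
def n17310 : Q := act 7 n16713
theorem D17310 : act 7 n16713 = n17310 := rfl
theorem F68312 : act 0 n17310 = n16823 := d6_1 D17310 (iv D16823) (iv F66085)
theorem F68313 : act 1 n17310 = n16946 := d13_1 D17310 (iv D16946) (iv F66086)
theorem F68314 : act 2 n17310 = n16757 := d19_1 D17310 (iv D16757) (iv F66087)
theorem F68315 : act 5 n17310 = n16742 := d31_1 D17310 (iv D16742) (iv F66089)
theorem F68316 : act 6 n17310 = n16714 := d33_1 D17310 (iv D16714) (iv F66090)
def n17311 : Q := act 3 n16714
theorem D17311 : act 3 n16714 = n17311 := rfl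
theorem F68317 : act 0 n17311 = n17008 := d2_1 D17311 F67166 (iv F66091)
theorem F68318 : act 1 n17311 = n17081 := d9_1 D17311 (iv D17081) (iv F66092)
theorem F68319 : act 5 n17311 = n16715 := d22_2 (iv F66094) D17311 (iv D16715)
theorem F68320 : act 7 n17311 = n16717 := d24_2 D16714 D17311 (iv D16717) (iv D16059) (iv F63474)
def n17312 : Q := act 2 n16715
theorem D17312 : act 2 n16715 = n17312 := rfl
theorem F68321 : act 3 n17312 = n16759 := d15_2 D16715 D17312 (iv D16759) (iv D16096) (iv F63476)
theorem F68322 : act 6 n17312 = n16746 := d18_2 (iv F66095) D17312 (iv D16746)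
theorem F68323 : act 7 n17312 = n16718 := d19_2 (iv F66096) D17312 (iv D16718)
def n17313 : Q := act 4 n16715
theorem D17313 : act 4 n16715 = n17313 := rfl
theorem F68324 : act 6 n17313 = n16747 := d27_2 (iv F66095) D17313 (iv D16747)
theorem F68325 : act 7 n17313 = n16719 := d28_2 (iv F66096) D17313 (iv D16719)
def n17314 : Q := act 3 n16716
theorem D17314 : act 3 n16716 = n17314 := rfl
theorem F68326 : act 0 n17314 = n16824 := d2_1 D17314 (iv D16824) (iv F66097)
theorem F68327 : act 1 n17314 = n16947 := d9_1 D17314 (iv D16947) (iv F66098)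
theorem F68328 : act 2 n17314 = n17157 := d15_1 D17314 F67655 F65375 (iv F63495) (iv F66099)
theorem F68329 : act 5 n17314 = n16748 := d22_2 (iv F66101) D17314 (iv D16748)
theorem F68330 : act 6 n17314 = n16717 := d23_2 (iv F66102) D17314 (iv D16717)
theorem F68331 : act 8 n17314 = n16851 := d25_2 (iv F66103) D17314 (iv D16851)
def n17315 : Q := act 2 n16717
theorem D17315 : act 2 n16717 = n17315 := rfl
theorem F68332 : act 0 n17315 = n16997 := d1_1 D17315 F67142 (iv F66104)
theorem F68333 : act 3 n17315 = n16721 := d15_2 D16717 D17315 (iv D16721) (iv D16063) (iv F63486)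
theorem F68334 : act 5 n17315 = n16718 := d17_2 (iv F66106) D17315 (iv D16718)
theorem F68335 : act 6 n17315 = n17157 := d18_2 F68330 D17315 (iv F68328)
theorem F68336 : act 8 n17315 = n17088 := d20_2 (iv F66107) D17315 (iv D17088)
def n17316 : Q := act 4 n16717
theorem D17316 : act 4 n16717 = n17316 := rfl
theorem F68337 : act 0 n17316 = n17014 := d3_1 D17316 (iv D17014) (iv F66104)
theorem F68338 : act 1 n17316 = n17083 := d10_1 D17316 (iv D17083) (iv F66105)
theorem F68339 : act 3 n17316 = n17079 := d21_1 D17316 (iv D17079) (iv D16479) (iv F63487) D16717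
theorem F68340 : act 8 n17316 = n17089 := d29_2 (iv F66107) D17316 (iv D17089)
def n17317 : Q := act 1 n16718
theorem D17317 : act 1 n16718 = n17317 := rfl
theorem F68341 : act 3 n17317 = n16723 := d9_2 (iv F66108) D17317 (iv D16723)
theorem F68342 : act 6 n17317 = n16751 := d12_2 (iv F66109) D17317 (iv D16751)
def n17318 : Q := act 4 n16718
theorem D17318 : act 4 n16718 = n17318 := rfl
theorem F68343 : act 2 n17318 = n16719 := d16_1 D17318 (iv D16719) D16718
theorem F68344 : act 3 n17318 = n16998 := d21_1 D17318 (iv D16998) F64677 (iv F63506) (iv F66108)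
theorem F68345 : act 6 n17318 = n16752 := d27_2 (iv F66109) D17318 (iv D16752)
def n17319 : Q := act 5 n16719
theorem D17319 : act 5 n16719 = n17319 := rfl
theorem F68346 : act 3 n17319 = n16720 := d22_1 D17319 (iv D16720) (iv F66110)
def n17320 : Q := act 6 n16720
theorem D17320 : act 6 n16720 = n17320 := rfl
theorem F68347 : act 2 n17320 = n17000 := d18_1 D17320 (iv D17000) (iv F66112)
theorem F68348 : act 5 n17320 = n16754 := d30_1 D17320 (iv D16754) (iv D16091) (iv F63492) D16720
def n17321 : Q := act 1 n16721
theorem D17321 : act 1 n16721 = n17321 := rfl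
theorem F68349 : act 0 n17321 = n17028 := d0_1 D17321 (iv D17028) F64800 D16401 (iv F66113)
theorem F68350 : act 2 n17321 = n16781 := d8_2 D16721 D17321 (iv D16781) (iv D16122) (iv F63501)
theorem F68351 : act 5 n17321 = n16723 := d11_2 (iv F66114) D17321 (iv D16723)
theorem F68352 : act 6 n17321 = n17104 := d12_2 (iv F66115) D17321 F67509
theorem F68353 : act 7 n17321 = n16763 := d13_2 (iv F66116) D17321 (iv D16763)
theorem F68354 : act 8 n17321 = n17115 := d14_2 (iv F66117) D17321 (iv D17115)
theorem F68355 : act 4 n17027 = n17321 := d28_3 F68353 (iv F66257) (iv F67231)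
def n17322 : Q := act 4 n16721
theorem D17322 : act 4 n16721 = n17322 := rfl
theorem F68356 : act 0 n17322 = n16723 := d3_1 D17322 F66126 (iv F66113)
theorem F68357 : act 1 n17322 = n17027 := d10_1 D17322 F68355 (iv D17321)
theorem F68358 : act 2 n17322 = n16722 := d16_1 D17322 (iv D16722) D16721
theorem F68359 : act 5 n17322 = n17028 := d26_2 (iv F66114) D17322 F67233 F64803 (iv F63506)
theorem F68360 : act 6 n17322 = n16756 := d27_2 (iv F66115) D17322 F66223
theorem F68361 : act 7 n17322 = n16764 := d28_2 (iv F66116) D17322 (iv D16764)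
theorem F68362 : act 8 n17322 = n17116 := d29_2 (iv F66117) D17322 (iv D17116)
def n17323 : Q := act 7 n16724
theorem D17323 : act 7 n16724 = n17323 := rfl
theorem F68363 : act 0 n17323 = n16733 := d6_1 D17323 (iv D16733) (iv F66129)
theorem F68364 : act 1 n17323 = n16959 := d13_1 D17323 (iv D16959) (iv F66130)
theorem F68365 : act 2 n17323 = n17323 := d19_1 D17323 (iv D17323) F66131
theorem F68366 : act 5 n17323 = n16726 := d31_1 D17323 (iv D16726) (iv F66133)
theorem F68367 : act 6 n17323 = n16951 := d33_1 D17323 (iv D16951) (iv F66134)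
def n17324 : Q := act 7 n16725
theorem D17324 : act 7 n16725 = n17324 := rfl
theorem F68368 : act 0 n17324 = n16734 := d6_1 D17324 (iv D16734) (iv F66135)
theorem F68369 : act 1 n17324 = n16908 := d13_1 D17324 (iv D16908) (iv F66136)
theorem F68370 : act 2 n17324 = n17324 := d19_1 D17324 (iv D17324) F66137
theorem F68371 : act 4 n17324 = n16901 := d28_1 D17324 (iv D16901) (iv F66139)
theorem F68372 : act 6 n17324 = n17132 := d33_1 D17324 (iv D17132) (iv F66140)
theorem F68373 : act 8 n17324 = n16726 := d35_2 D16725 D17324 (iv D16726) (iv D16067) D16066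
def n17325 : Q := act 3 n16726
theorem D17325 : act 3 n16726 = n17325 := rfl
theorem F68374 : act 0 n17325 = n16735 := d2_1 D17325 (iv D16735) (iv F66141)
theorem F68375 : act 6 n17325 = n17133 := d23_2 (iv F66143) D17325 (iv D17133)
theorem F68376 : act 7 n17325 = n16728 := d24_2 D16726 D17325 (iv D16728) (iv D16069) (iv F63522)
def n17326 : Q := act 3 n16727
theorem D17326 : act 3 n16727 = n17326 := rfl
theorem F68377 : act 0 n17326 = n16737 := d2_1 D17326 (iv D16737) (iv F66144)
theorem F68378 : act 1 n17326 = n16964 := d9_1 D17326 (iv D16964) (iv F66145)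
theorem F68379 : act 5 n17326 = n16728 := d22_2 (iv F66148) D17326 (iv D16728)
theorem F68380 : act 6 n17326 = n16954 := d23_2 (iv F66149) D17326 (iv D16954)
theorem F68381 : act 8 n17326 = n16994 := d25_2 (iv F66150) D17326 (iv D16994)
def n17327 : Q := act 2 n16728
theorem D17327 : act 2 n16728 = n17327 := rfl
theorem F68382 : act 0 n17327 = n16738 := d1_1 D17327 (iv D16738) (iv F66151)
theorem F68383 : act 3 n17327 = n16782 := d15_2 D16728 D17327 (iv D16782) (iv D16126) (iv F63531)
theorem F68384 : act 6 n17327 = n17137 := d18_2 (iv F66152) D17327 (iv D17137)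
theorem F68385 : act 8 n17327 = n17152 := d20_2 (iv F66153) D17327 (iv D17152)
def n17328 : Q := act 4 n16728
theorem D17328 : act 4 n16728 = n17328 := rfl
theorem F68386 : act 0 n17328 = n16739 := d3_1 D17328 (iv D16739) (iv F66151)
theorem F68387 : act 3 n17328 = n16729 := d21_1 D17328 (iv D16729) (iv D16070) (iv F63532) D16728
theorem F68388 : act 6 n17328 = n17138 := d27_2 (iv F66152) D17328 (iv D17138)
theorem F68389 : act 8 n17328 = n17153 := d29_2 (iv F66153) D17328 (iv D17153)
def n17329 : Q := act 5 n16729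
theorem D17329 : act 5 n16729 = n17329 := rfl
theorem F68390 : act 0 n17329 = n16740 := d4_1 D17329 (iv D16740) (iv F66154)
theorem F68391 : act 4 n17329 = n16986 := d26_1 D17329 (iv D16986) (iv D16351) (iv F63536) D16729
def n17330 : Q := act 7 n16730
theorem D17330 : act 7 n16730 = n17330 := rfl
theorem F68392 : act 1 n17330 = n16741 := d13_1 D17330 (iv D16741) (iv F66155)
theorem F68393 : act 2 n17330 = n17330 := d19_1 D17330 (iv D17330) F66156
theorem F68394 : act 4 n17330 = n16733 := d28_1 D17330 (iv D16733) (iv F66158)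
theorem F68395 : act 5 n17330 = n17324 := d31_1 D17330 (iv D17324) (iv F66159)
theorem F68396 : act 8 n17330 = n17323 := d35_2 D16730 D17330 (iv D17323) (iv D16724) F63541
def n17331 : Q := act 7 n16731
theorem D17331 : act 7 n16731 = n17331 := rfl
theorem F68397 : act 0 n17331 = n16951 := d6_1 D17331 (iv D16951) (iv F66160)
theorem F68398 : act 1 n17331 = n16742 := d13_1 D17331 (iv D16742) (iv F66161)
theorem F68399 : act 2 n17331 = n17331 := d19_1 D17331 (iv D17331) F66162
theorem F68400 : act 5 n17331 = n16946 := d31_1 D17331 (iv D16946) (iv F66164)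
theorem F68401 : act 6 n17331 = n16733 := d33_1 D17331 (iv D16733) (iv F66165)
def n17332 : Q := act 7 n16732
theorem D17332 : act 7 n16732 = n17332 := rfl
theorem F68402 : act 0 n17332 = n17330 := d6_1 D17332 (iv D17330) (iv F66166)
theorem F68403 : act 1 n17332 = n16743 := d13_1 D17332 (iv D16743) (iv F66167)
theorem F68404 : act 2 n17332 = n17332 := d19_1 D17332 (iv D17332) F66168
theorem F68405 : act 4 n17332 = n17323 := d28_1 D17332 (iv D17323) (iv F66169)
theorem F68406 : act 5 n17332 = n16734 := d31_1 D17332 (iv D16734) (iv F66170)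
theorem F68407 : act 8 n17332 = n16733 := d35_2 D16732 D17332 (iv D16733) (iv D16074) D16073
def n17333 : Q := act 3 n16733
theorem D17333 : act 3 n16733 = n17333 := rfl
theorem F68408 : act 1 n17333 = n16744 := d9_1 D17333 (iv D16744) (iv F66171)
theorem F68409 : act 5 n17333 = n16735 := d22_2 (iv F66173) D17333 (iv D16735)
theorem F68410 : act 7 n17333 = n16737 := d24_2 D16733 D17333 (iv D16737) (iv D16078) (iv F63554)
def n17334 : Q := act 3 n16734
theorem D17334 : act 3 n16734 = n17334 := rfl
theorem F68411 : act 1 n17334 = n16745 := d9_1 D17334 (iv D16745) (iv F66174)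
theorem F68412 : act 8 n17334 = n16735 := d25_2 (iv F66176) D17334 (iv D16735)
def n17335 : Q := act 2 n16735
theorem D17335 : act 2 n16735 = n17335 := rfl
theorem F68413 : act 3 n17335 = n17335 := d15_2 D16735 D17335 (iv D17335) (iv D16735) F63559
theorem F68414 : act 7 n17335 = n16738 := d19_2 (iv F66178) D17335 (iv D16738)
def n17336 : Q := act 4 n16735
theorem D17336 : act 4 n16735 = n17336 := rfl
theorem F68415 : act 1 n17336 = n16747 := d10_1 D17336 (iv D16747) (iv F66177)
theorem F68416 : act 7 n17336 = n16739 := d28_2 (iv F66178) D17336 (iv D16739)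
def n17337 : Q := act 3 n16736
theorem D17337 : act 3 n16736 = n17337 := rfl
theorem F68417 : act 0 n17337 = n16954 := d2_1 D17337 (iv D16954) (iv F66179)
theorem F68418 : act 1 n17337 = n16748 := d9_1 D17337 (iv D16748) (iv F66180)
theorem F68419 : act 5 n17337 = n16947 := d22_2 (iv F66183) D17337 (iv D16947)
theorem F68420 : act 6 n17337 = n16737 := d23_2 (iv F66184) D17337 (iv D16737)
theorem F68421 : act 8 n17337 = n16983 := d25_2 (iv F66185) D17337 (iv D16983)
def n17338 : Q := act 2 n16737
theorem D17338 : act 2 n16737 = n17338 := rfl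
theorem F68422 : act 3 n17338 = n16784 := d15_2 D16737 D17338 (iv D16784) (iv D16128) (iv F63567)
theorem F68423 : act 5 n17338 = n16738 := d17_2 (iv F66187) D17338 (iv D16738)
def n17339 : Q := act 4 n16737
theorem D17339 : act 4 n16737 = n17339 := rfl
theorem F68424 : act 1 n17339 = n16750 := d10_1 D17339 (iv D16750) (iv F66186)
theorem F68425 : act 3 n17339 = n16996 := d21_1 D17339 (iv D16996) (iv D16359) (iv F63568) D16737
def n17340 : Q := act 1 n16738
theorem D17340 : act 1 n16738 = n17340 := rfl
theorem F68426 : act 2 n17340 = n16751 := d8_2 D16738 D17340 (iv D16751) (iv D16089) (iv F63570)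
theorem F68427 : act 3 n17340 = n16786 := d9_2 (iv F66188) D17340 (iv D16786)
theorem F68428 : act 8 n17340 = n16891 := d14_2 F68205 D17340 F68206
def n17341 : Q := act 4 n16738
theorem D17341 : act 4 n16738 = n17341 := rfl
theorem F68429 : act 2 n17341 = n16739 := d16_1 D17341 (iv D16739) D16738
def n17342 : Q := act 5 n16739
theorem D17342 : act 5 n16739 = n17342 := rfl
theorem F68430 : act 1 n17342 = n16753 := d11_1 D17342 (iv D16753) (iv F66189)
theorem F68431 : act 3 n17342 = n16740 := d22_1 D17342 (iv D16740) (iv F66190)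
def n17343 : Q := act 6 n16740
theorem D17343 : act 6 n16740 = n17343 := rfl
theorem F68432 : act 1 n17343 = n16754 := d12_1 D17343 (iv D16754) (iv F66191)
theorem F68433 : act 4 n17343 = n17000 := d27_1 D17343 (iv D17000) (iv F66192)
def n17344 : Q := act 3 n16741
theorem D17344 : act 3 n16741 = n17344 := rfl
theorem F68434 : act 7 n17344 = n17001 := d24_2 D16741 D17344 (iv D17001) (iv D16363) (iv F63573)
def n17345 : Q := act 3 n16742
theorem D17345 : act 3 n16742 = n17345 := rfl
theorem F68435 : act 6 n17345 = n16744 := d23_2 (iv F66196) D17345 (iv D16744)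
theorem F68436 : act 7 n17345 = n16748 := d24_2 D16742 D17345 (iv D16748) (iv D16087) (iv F63576)
def n17346 : Q := act 3 n16743
theorem D17346 : act 3 n16743 = n17346 := rfl
theorem F68437 : act 5 n17346 = n16745 := d22_2 (iv F66198) D17346 (iv D16745)
theorem F68438 : act 8 n17346 = n16744 := d25_2 (iv F66199) D17346 (iv D16744)
def n17347 : Q := act 2 n16744
theorem D17347 : act 2 n16744 = n17347 := rfl
theorem F68439 : act 3 n17347 = n16767 := d15_2 D16744 D17347 (iv D16767) (iv D16105) (iv F63580)
theorem F68440 : act 5 n17347 = n16746 := d17_2 (iv F66200) D17347 (iv D16746)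
theorem F68441 : act 7 n17347 = n16749 := d19_2 (iv F66201) D17347 (iv D16749)
def n17348 : Q := act 4 n16744
theorem D17348 : act 4 n16744 = n17348 := rfl
theorem F68442 : act 7 n17348 = n16750 := d28_2 (iv F66201) D17348 (iv D16750)
def n17349 : Q := act 2 n16745
theorem D17349 : act 2 n16745 = n17349 := rfl
theorem F68443 : act 3 n17349 = n16768 := d15_2 D16745 D17349 (iv D16768) (iv D16106) (iv F63582)
theorem F68444 : act 8 n17349 = n16746 := d20_2 (iv F66202) D17349 (iv D16746)
def n17350 : Q := act 4 n16745
theorem D17350 : act 4 n16745 = n17350 := rfl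
theorem F68445 : act 8 n17350 = n16747 := d29_2 (iv F66202) D17350 (iv D16747)
def n17351 : Q := act 1 n16746
theorem D17351 : act 1 n16746 = n17351 := rfl
theorem F68446 : act 3 n17351 = n16770 := d9_2 (iv F66203) D17351 (iv D16770)
theorem F68447 : act 7 n17351 = n16751 := d13_2 (iv F66204) D17351 (iv D16751)
def n17352 : Q := act 4 n16746
theorem D17352 : act 4 n16746 = n17352 := rfl
theorem F68448 : act 2 n17352 = n16747 := d16_1 D17352 (iv D16747) D16746
theorem F68449 : act 7 n17352 = n16752 := d28_2 (iv F66204) D17352 (iv D16752)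
def n17353 : Q := act 5 n16747
theorem D17353 : act 5 n16747 = n17353 := rfl
theorem F68450 : act 7 n17353 = n16753 := d31_2 (iv F66205) D17353 (iv D16753)
def n17354 : Q := act 4 n16748
theorem D17354 : act 4 n16748 = n17354 := rfl
theorem F68451 : act 3 n17354 = n17011 := d21_1 D17354 (iv D17011) (iv D16370) (iv F63586) D16748
theorem F68452 : act 6 n17354 = n16750 := d27_2 (iv F66206) D17354 (iv D16750)
def n17355 : Q := act 1 n16749
theorem D17355 : act 1 n16749 = n17355 := rfl
theorem F68453 : act 0 n17355 = n16891 := d0_1 D17355 F68206 F68202 (iv F68000) F67999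
theorem F68454 : act 3 n17355 = n16755 := d9_2 (iv F66207) D17355 (iv D16755)
theorem F68455 : act 5 n17355 = n16751 := d11_2 (iv F66208) D17355 (iv D16751)
theorem F68456 : act 6 n17355 = n17117 := d12_2 F68065 D17355 (iv F68062)
def n17356 : Q := act 4 n16749
theorem D17356 : act 4 n16749 = n17356 := rfl
theorem F68457 : act 2 n17356 = n16750 := d16_1 D17356 (iv D16750) D16749
def n17357 : Q := act 5 n16750
theorem D17357 : act 5 n16750 = n17357 := rfl
theorem F68458 : act 3 n17357 = n17013 := d22_1 D17357 (iv D17013) (iv F66209)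
theorem F68459 : act 4 n17357 = n16753 := d26_1 D17357 (iv D16753) (iv D16090) (iv F63588) D16750
def n17358 : Q := act 0 n16751
theorem D17358 : act 0 n16751 = n17358 := rfl
theorem F68460 : act 3 n17358 = n16756 := d2_2 (iv F66210) D17358 (iv D16756)
theorem F68461 : act 5 n17358 = n16891 := d4_2 F68455 D17358 (iv F68453)
def n17359 : Q := act 4 n16751
theorem D17359 : act 4 n16751 = n17359 := rfl
theorem F68462 : act 1 n17359 = n16752 := d10_1 D17359 (iv D16752) D16751
theorem F68463 : act 3 n17359 = n17158 := d21_1 D17359 (iv D17158) F65364 (iv F63596) (iv F66210)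
def n17360 : Q := act 5 n16752
theorem D17360 : act 5 n16752 = n17360 := rfl
theorem F68464 : act 2 n17360 = n16753 := d17_1 D17360 (iv D16753) (iv F66211)
theorem F68465 : act 3 n17360 = n17159 := d22_1 D17360 (iv D17159) (iv F66212)
def n17361 : Q := act 6 n16753
theorem D17361 : act 6 n16753 = n17361 := rfl
theorem F68466 : act 3 n17361 = n16754 := d23_1 D17361 (iv D16754) (iv F66213)
def n17362 : Q := act 2 n16758
theorem D17362 : act 2 n16758 = n17362 := rfl
theorem F68467 : act 0 n17362 = n17048 := d1_1 D17362 F67317 (iv F66231)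
theorem F68468 : act 5 n17362 = n16759 := d17_2 (iv F66233) D17362 (iv D16759)
theorem F68469 : act 6 n17362 = n17170 := d18_2 (iv F66234) D17362 F67691
theorem F68470 : act 7 n17362 = n16760 := d19_2 (iv F66235) D17362 (iv D16760)
def n17363 : Q := act 4 n16758
theorem D17363 : act 4 n16758 = n17363 := rfl
theorem F68471 : act 0 n17363 = n17052 := d3_1 D17363 (iv D17052) (iv F66231)
theorem F68472 : act 1 n17363 = n17363 := d10_1 D17363 (iv D17363) F66232
theorem F68473 : act 6 n17363 = n17180 := d27_2 (iv F66234) D17363 (iv D17180)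
theorem F68474 : act 7 n17363 = n16761 := d28_2 (iv F66235) D17363 (iv D16761)
def n17364 : Q := act 1 n16759
theorem D17364 : act 1 n16759 = n17364 := rfl
theorem F68475 : act 2 n17364 = n17364 := d8_2 D16759 D17364 (iv D17364) (iv D16759) F63606
theorem F68476 : act 6 n17364 = n16770 := d12_2 (iv F66236) D17364 (iv D16770)
theorem F68477 : act 7 n17364 = n16762 := d13_2 (iv F66237) D17364 (iv D16762)
def n17365 : Q := act 1 n16760
theorem D17365 : act 1 n16760 = n17365 := rfl
theorem F68478 : act 0 n17365 = n17042 := d0_1 D17365 (iv D17042) F64913 D16433 (iv F66238)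
theorem F68479 : act 2 n17365 = n17365 := d8_2 D16760 D17365 (iv D17365) (iv D16760) F63610
theorem F68480 : act 3 n17365 = n16763 := d9_2 (iv F66239) D17365 (iv D16763)
theorem F68481 : act 5 n17365 = n16762 := d11_2 (iv F66240) D17365 (iv D16762)
theorem F68482 : act 6 n17365 = n17112 := d12_2 (iv F66241) D17365 F67545
theorem F68483 : act 8 n17365 = n17365 := d14_2 F66242 D17365 (iv D17365)
def n17366 : Q := act 4 n16760
theorem D17366 : act 4 n16760 = n17366 := rfl
theorem F68484 : act 0 n17366 = n17050 := d3_1 D17366 (iv D17050) (iv F66238)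
theorem F68485 : act 2 n17366 = n16761 := d16_1 D17366 (iv D16761) D16760
theorem F68486 : act 6 n17366 = n17173 := d27_2 (iv F66241) D17366 (iv D17173)
theorem F68487 : act 8 n17366 = n17366 := d29_2 F66242 D17366 (iv D17366)
def n17367 : Q := act 0 n16762
theorem D17367 : act 0 n16762 = n17367 := rfl
theorem F68488 : act 1 n17367 = n17041 := d0_2 D16762 D17367 F67286 (iv F65046) F65045
theorem F68489 : act 2 n17367 = n17367 := d1_2 F66248 D17367 (iv D17367)
theorem F68490 : act 3 n17367 = n16764 := d2_2 (iv F66249) D17367 F66258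
theorem F68491 : act 5 n17367 = n17042 := d4_2 F68481 D17367 (iv F68478)
theorem F68492 : act 6 n17367 = n16773 := d5_2 (iv F66250) D17367 (iv D16773)
theorem F68493 : act 8 n17367 = n17367 := d7_2 F66251 D17367 (iv D17367)
def n17368 : Q := act 2 n16766
theorem D17368 : act 2 n16766 = n17368 := rfl
theorem F68494 : act 5 n17368 = n16768 := d17_2 (iv F66270) D17368 (iv D16768)
theorem F68495 : act 7 n17368 = n17368 := d19_2 F66271 D17368 (iv D17368)
theorem F68496 : act 8 n17368 = n16767 := d20_2 (iv F66272) D17368 (iv D16767)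
def n17369 : Q := act 1 n16767
theorem D17369 : act 1 n16767 = n17369 := rfl
theorem F68497 : act 2 n17369 = n17369 := d8_2 D16767 D17369 (iv D17369) (iv D16767) F63638

end Cfsg.Agent.Helper17.FiR1TC
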