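import Cfsg.Agent.Helper17.FiR1TC.Facts5

set_option autoImplicit false
set_option linter.all false

noncomputable section

namespace Cfsg.Agent.Helper17.FiR1TC

theorem F68498 : act 5 n17369 = n16770 := d11_2 (iv F66273) D17369 (iv D16770)
theorem F68499 : act 6 n17369 = n17118 := d12_2 F68070 D17369 (iv F68067)
theorem F68500 : act 7 n17369 = n16772 := d13_2 (iv F66274) D17369 (iv D16772)
theorem F68501 : act 0 n16893 = n17369 := d6_3 F68500 (iv F66292) D16893
def n17370 : Q := act 1 n16768
theorem D17370 : act 1 n16768 = n17370 := rfl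
theorem F68502 : act 2 n17370 = n17370 := d8_2 D16768 D17370 (iv D17370) (iv D16768) F63641
theorem F68503 : act 7 n17370 = n17370 := d13_2 F66275 D17370 (iv D17370)
theorem F68504 : act 8 n17370 = n16770 := d14_2 (iv F66276) D17370 (iv D16770)
def n17371 : Q := act 4 n16768
theorem D17371 : act 4 n16768 = n17371 := rfl
theorem F68505 : act 0 n17371 = n17030 := d3_1 D17371 (iv F68026) F68025
theorem F68506 : act 2 n17371 = n16769 := d16_1 D17371 (iv D16769) D16768
theorem F68507 : act 6 n17371 = n17077 := d27_2 F67780 D17371 (iv F67779)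
theorem F68508 : act 7 n17371 = n17371 := d28_2 F66275 D17371 (iv D17371)
theorem F68509 : act 8 n17371 = n16771 := d29_2 (iv F66276) D17371 (iv D16771)
def n17372 : Q := act 0 n16770
theorem D17372 : act 0 n16770 = n17372 := rfl
theorem F68510 : act 2 n17372 = n17372 := d1_2 F66283 D17372 (iv D17372)
theorem F68511 : act 5 n17372 = n16893 := d4_2 F68498 D17372 F68501
theorem F68512 : act 7 n17372 = n16773 := d6_2 (iv F66284) D17372 (iv D16773)
def n17373 : Q := act 4 n16770
theorem D17373 : act 4 n16770 = n17373 := rfl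
theorem F68513 : act 1 n17373 = n16771 := d10_1 D17373 (iv D16771) D16770
theorem F68514 : act 2 n17373 = n17373 := d16_1 D17373 (iv D17373) F66283
theorem F68515 : act 7 n17373 = n16774 := d28_2 (iv F66284) D17373 (iv D16774)
def n17374 : Q := act 3 n16771
theorem D17374 : act 3 n16771 = n17374 := rfl
theorem F68516 : act 7 n17374 = n17172 := d24_2 (iv F66286) D17374 (iv D17172) F65406 (iv F63659)
def n17375 : Q := act 4 n16773
theorem D17375 : act 4 n16773 = n17375 := rfl
theorem F68517 : act 0 n17375 = n16774 := d3_1 D17375 (iv D16774) D16773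
theorem F68518 : act 2 n17375 = n17375 := d16_1 D17375 (iv D17375) F66293
theorem F68519 : act 3 n17375 = n17173 := d21_1 D17375 (iv D17173) F65423 (iv F63668) (iv F66294)
theorem F68520 : act 8 n17375 = n17375 := d29_2 F66296 D17375 (iv D17375)
def n17376 : Q := act 1 n16779
theorem D17376 : act 1 n16779 = n17376 := rfl
theorem F68521 : act 0 n17376 = n17114 := d0_1 D17376 (iv F68055) F68054 F66788 (iv F66328)
theorem F68522 : act 2 n17376 = n16780 := d8_2 D16779 D17376 (iv D16780) (iv D16121) (iv F63702)
theorem F68523 : act 4 n17376 = n16885 := d10_2 (iv F66329) D17376 F66765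
theorem F68524 : act 5 n17376 = n17085 := d11_2 (iv F66330) D17376 (iv D17085)
theorem F68525 : act 6 n17376 = n16786 := d12_2 (iv F66331) D17376 (iv D16786)
theorem F68526 : act 7 n17376 = n17376 := d13_2 F66332 D17376 (iv D17376)
theorem F68527 : act 8 n17376 = n16888 := d14_2 (iv F66333) D17376 F66779
def n17377 : Q := act 2 n16783
theorem D17377 : act 2 n16783 = n17377 := rfl
theorem F68528 : act 0 n17377 = n17025 := d1_1 D17377 (iv D17025) (iv F66352)
theorem F68529 : act 1 n17377 = n17116 := d8_1 D17377 F67561 F65273 (iv F63754) (iv F66353)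
theorem F68530 : act 4 n17377 = n17115 := d16_2 (iv F66354) D17377 F67559
theorem F68531 : act 5 n17377 = n17024 := d17_2 (iv F66355) D17377 (iv D17024)
theorem F68532 : act 6 n17377 = n16784 := d18_2 (iv F66356) D17377 (iv D16784)
theorem F68533 : act 7 n17377 = n17377 := d19_2 F66357 D17377 (iv D17377)
theorem F68534 : act 8 n17377 = n17027 := d20_2 (iv F66358) D17377 (iv D17027)
def n17378 : Q := act 4 n16784
theorem D17378 : act 4 n16784 = n17378 := rfl
theorem F68535 : act 0 n17378 = n17085 := d3_1 D17378 (iv F67877) (iv F67882)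
theorem F68536 : act 1 n17378 = n16889 := d10_1 D17378 (iv F68265) F68263
theorem F68537 : act 2 n17378 = n16785 := d16_1 D17378 (iv D16785) D16784
theorem F68538 : act 5 n17378 = n17114 := d26_2 (iv F66359) D17378 (iv D17114) (iv F66060) F66059
theorem F68539 : act 6 n17378 = n17115 := d27_2 F68532 D17378 (iv F68530)
theorem F68540 : act 7 n17378 = n17378 := d28_2 F66360 D17378 (iv D17378)
theorem F68541 : act 8 n17378 = n17104 := d29_2 F68024 D17378 (iv F68020)
def n17379 : Q := act 0 n16789
theorem D17379 : act 0 n16789 = n17379 := rfl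
theorem F68542 : act 1 n17379 = n17379 := d0_2 D16789 D17379 (iv D17379) (iv D16789) F63833
theorem F68543 : act 3 n17379 = n17036 := d2_2 (iv F66386) D17379 F67262
theorem F68544 : act 4 n17379 = n17176 := d3_2 (iv F66387) D17379 (iv D17176)
theorem F68545 : act 5 n17379 = n17038 := d4_2 (iv F66388) D17379 F67273
theorem F68546 : act 7 n17379 = n17379 := d6_2 F66389 D17379 (iv D17379)
theorem F68547 : act 8 n17379 = n17037 := d7_2 (iv F66390) D17379 F67268
def n17380 : Q := act 4 n16790
theorem D17380 : act 4 n16790 = n17380 := rfl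
theorem F68548 : act 0 n17380 = n16896 := d3_1 D17380 (iv D16896) (iv F66391)
theorem F68549 : act 2 n17380 = n16816 := d16_1 D17380 (iv D16816) (iv F66392)
theorem F68550 : act 3 n17380 = n17313 := d21_1 D17380 (iv D17313) (iv D16715) (iv F63841) D16790
theorem F68551 : act 6 n17380 = n16912 := d27_2 (iv F66394) D17380 (iv D16912)
theorem F68552 : act 7 n17380 = n16791 := d28_2 (iv F66395) D17380 (iv D16791)
theorem F68553 : act 8 n17380 = n17187 := d29_2 (iv F66396) D17380 (iv D17187)
def n17381 : Q := act 5 n16791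
theorem D17381 : act 5 n16791 = n17381 := rfl
theorem F68554 : act 0 n17381 = n16899 := d4_1 D17381 (iv D16899) (iv F66397)
theorem F68555 : act 2 n17381 = n16834 := d17_1 D17381 (iv D16834) (iv F66398)
theorem F68556 : act 3 n17381 = n16900 := d22_1 D17381 (iv D16900) (iv F66399)
theorem F68557 : act 4 n17381 = n17084 := d26_1 D17381 (iv D17084) (iv D16483) (iv F63847) D16791
theorem F68558 : act 8 n17381 = n16799 := d32_2 (iv F66401) D17381 (iv D16799)
def n17382 : Q := act 2 n16792
theorem D17382 : act 2 n16792 = n17382 := rfl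
theorem F68559 : act 0 n17382 = n17161 := d1_1 D17382 (iv F67885) F67883
theorem F68560 : act 1 n17382 = n16841 := d8_1 D17382 (iv D16841) F64077 (iv F63856) (iv F66402)
theorem F68561 : act 3 n17382 = n16800 := d15_2 D16792 D17382 (iv D16800) (iv D16155) (iv F63851)
theorem F68562 : act 6 n17382 = n16795 := d18_2 (iv F66403) D17382 (iv D16795)
theorem F68563 : act 7 n17382 = n17215 := d19_2 (iv F66404) D17382 (iv D17215)
theorem F68564 : act 8 n17382 = n16905 := d20_2 (iv F66405) D17382 (iv D16905)
def n17383 : Q := act 4 n16792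
theorem D17383 : act 4 n16792 = n17383 := rfl
theorem F68565 : act 1 n17383 = n16793 := d10_1 D17383 (iv D16793) (iv F66402)
theorem F68566 : act 3 n17383 = n16898 := d21_1 D17383 (iv D16898) (iv D16264) (iv F63852) D16792
theorem F68567 : act 6 n17383 = n16796 := d27_2 (iv F66403) D17383 (iv D16796)
theorem F68568 : act 7 n17383 = n17216 := d28_2 (iv F66404) D17383 (iv D17216)
theorem F68569 : act 8 n17383 = n16906 := d29_2 (iv F66405) D17383 (iv D16906)
def n17384 : Q := act 5 n16793
theorem D17384 : act 5 n16793 = n17384 := rfl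
theorem F68570 : act 0 n17384 = n16900 := d4_1 D17384 (iv D16900) (iv F66406)
theorem F68571 : act 2 n17384 = n16848 := d17_1 D17384 (iv D16848) (iv F66407)
theorem F68572 : act 3 n17384 = n16899 := d22_1 D17384 (iv D16899) (iv F66408)
theorem F68573 : act 7 n17384 = n17219 := d31_2 (iv F66410) D17384 (iv D17219)
theorem F68574 : act 8 n17384 = n16914 := d32_2 (iv F66411) D17384 (iv D16914)
def n17385 : Q := act 2 n16794
theorem D17385 : act 2 n16794 = n17385 := rfl
theorem F68575 : act 0 n17385 = n16795 := d1_1 D17385 (iv D16795) (iv F66412)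
theorem F68576 : act 3 n17385 = n16801 := d15_2 D16794 D17385 (iv D16801) (iv D16156) (iv F63862)
theorem F68577 : act 5 n17385 = n16841 := d17_2 (iv F66414) D17385 (iv D16841)
theorem F68578 : act 6 n17385 = n17161 := d18_2 F67887 D17385 (iv F67885)
theorem F68579 : act 7 n17385 = n17222 := d19_2 (iv F66415) D17385 (iv D17222)
def n17386 : Q := act 4 n16794
theorem D17386 : act 4 n16794 = n17386 := rfl
theorem F68580 : act 0 n17386 = n16796 := d3_1 D17386 (iv D16796) (iv F66412)
theorem F68581 : act 1 n17386 = n16837 := d10_1 D17386 (iv D16837) (iv F66413)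
theorem F68582 : act 7 n17386 = n17223 := d28_2 (iv F66415) D17386 (iv D17223)
def n17387 : Q := act 4 n16795
theorem D17387 : act 4 n16795 = n17387 := rfl
theorem F68583 : act 1 n17387 = n16862 := d10_1 D17387 (iv D16862) (iv F66416)
theorem F68584 : act 2 n17387 = n16796 := d16_1 D17387 (iv D16796) D16795
theorem F68585 : act 7 n17387 = n17228 := d28_2 (iv F66419) D17387 (iv D17228)
def n17388 : Q := act 5 n16796
theorem D17388 : act 5 n16796 = n17388 := rfl
theorem F68586 : act 1 n17388 = n16799 := d11_1 D17388 (iv D16799) (iv F66420)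
theorem F68587 : act 4 n17388 = n17091 := d26_1 D17388 (iv D17091) (iv D16489) (iv F63865) D16796
theorem F68588 : act 7 n17388 = n17229 := d31_2 (iv F66421) D17388 (iv D17229)
def n17389 : Q := act 4 n16797
theorem D17389 : act 4 n16797 = n17389 := rfl
theorem F68589 : act 0 n17389 = n16912 := d3_1 D17389 (iv D16912) (iv F66422)
theorem F68590 : act 2 n17389 = n16919 := d16_1 D17389 (iv D16919) (iv F66423)
theorem F68591 : act 3 n17389 = n17235 := d21_1 D17389 (iv D17235) (iv D16638) (iv F63869) D16797
theorem F68592 : act 6 n17389 = n16896 := d27_2 (iv F66424) D17389 (iv D16896)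
theorem F68593 : act 7 n17389 = n16798 := d28_2 (iv F66425) D17389 (iv D16798)
theorem F68594 : act 8 n17389 = n17254 := d29_2 (iv F66426) D17389 (iv D17254)
def n17390 : Q := act 5 n16798
theorem D17390 : act 5 n16798 = n17390 := rfl
theorem F68595 : act 0 n17390 = n16914 := d4_1 D17390 (iv D16914) (iv F66427)
theorem F68596 : act 2 n17390 = n16944 := d17_1 D17390 (iv D16944) (iv F66428)
theorem F68597 : act 3 n17390 = n16799 := d22_1 D17390 (iv D16799) (iv F66429)
theorem F68598 : act 8 n17390 = n16900 := d32_2 (iv F66431) D17390 (iv D16900)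
def n17391 : Q := act 6 n16799
theorem D17391 : act 6 n16799 = n17391 := rfl
theorem F68599 : act 0 n17391 = n16915 := d5_1 D17391 (iv D16915) (iv F66432)
theorem F68600 : act 2 n17391 = n16876 := d18_1 D17391 (iv D16876) (iv F66433)
theorem F68601 : act 4 n17391 = n17103 := d27_1 D17391 (iv D17103) (iv F66434)
theorem F68602 : act 7 n17391 = n17242 := d33_2 (iv F66435) D17391 (iv D17242)
def n17392 : Q := act 7 n16802
theorem D17392 : act 7 n16802 = n17392 := rfl
theorem F68603 : act 0 n17392 = n17163 := d6_1 D17392 F67664 (iv F66447)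
theorem F68604 : act 1 n17392 = n16893 := d13_1 D17392 (iv D16893) (iv F66448)
theorem F68605 : act 2 n17392 = n17105 := d19_1 D17392 F67517 (iv F66449)
theorem F68606 : act 4 n17392 = n17251 := d28_1 D17392 (iv D17251) (iv F66450)
theorem F68607 : act 6 n17392 = n17107 := d33_1 D17392 F67527 (iv F66451)
def n17393 : Q := act 3 n16803
theorem D17393 : act 3 n16803 = n17393 := rfl
theorem F68608 : act 0 n17393 = n16894 := d2_1 D17393 (iv D16894) (iv F66453)
theorem F68609 : act 2 n17393 = n16910 := d15_1 D17393 (iv D16910) F64371 (iv F63917) (iv F66454)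
theorem F68610 : act 5 n17393 = n16806 := d22_2 (iv F66455) D17393 (iv D16806)
theorem F68611 : act 7 n17393 = n16819 := d24_2 D16803 D17393 (iv D16819) (iv D16179) (iv F63913)
theorem F68612 : act 8 n17393 = n17256 := d25_2 (iv F66456) D17393 (iv D17256)
def n17394 : Q := act 3 n16804
theorem D17394 : act 3 n16804 = n17394 := rfl
theorem F68613 : act 0 n17394 = n17071 := d2_1 D17394 (iv D17071) (iv F66457)
theorem F68614 : act 1 n17394 = n16806 := d9_1 D17394 (iv D16806) (iv F66458)
theorem F68615 : act 6 n17394 = n16811 := d23_2 (iv F66460) D17394 (iv D16811)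
theorem F68616 : act 7 n17394 = n16820 := d24_2 D16804 D17394 (iv D16820) (iv D16180) (iv F63923)
def n17395 : Q := act 3 n16805
theorem D17395 : act 3 n16805 = n17395 := rfl
theorem F68617 : act 0 n17395 = n16918 := d2_1 D17395 (iv D16918) (iv F66461)
theorem F68618 : act 2 n17395 = n17374 := d15_1 D17395 (iv D17374) F66285 (iv F63935) (iv F66462)
theorem F68619 : act 6 n17395 = n16815 := d23_2 (iv F66464) D17395 (iv D16815)
theorem F68620 : act 7 n17395 = n17023 := d24_2 D16805 D17395 (iv D17023) F64771 (iv F63927)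
def n17396 : Q := act 4 n16806
theorem D17396 : act 4 n16806 = n17396 := rfl
theorem F68621 : act 0 n17396 = n16919 := d3_1 D17396 (iv D16919) (iv F66465)
theorem F68622 : act 2 n17396 = n16912 := d16_1 D17396 (iv D16912) (iv F66466)
theorem F68623 : act 6 n17396 = n16816 := d27_2 (iv F66467) D17396 (iv D16816)
theorem F68624 : act 7 n17396 = n16821 := d28_2 (iv F66468) D17396 (iv D16821)
def n17397 : Q := act 7 n16807
theorem D17397 : act 7 n16807 = n17397 := rfl
theorem F68625 : act 0 n17397 = n16810 := d6_1 D17397 (iv D16810) (iv F66469)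
theorem F68626 : act 1 n17397 = n16922 := d13_1 D17397 (iv D16922) (iv F66470)
theorem F68627 : act 2 n17397 = n17397 := d19_1 D17397 (iv D17397) F66471
theorem F68628 : act 4 n17397 = n16808 := d28_1 D17397 (iv D16808) (iv F66472)
theorem F68629 : act 5 n17397 = n17120 := d31_1 D17397 (iv D17120) (iv F66473)
theorem F68630 : act 6 n17397 = n17070 := d33_1 D17397 (iv D17070) (iv F66474)
theorem F68631 : act 8 n17397 = n17119 := d35_2 D16807 D17397 (iv D17119) (iv D16522) (iv F63943)
def n17398 : Q := act 3 n16808
theorem D17398 : act 3 n16808 = n17398 := rfl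
theorem F68632 : act 0 n17398 = n16811 := d2_1 D17398 (iv D16811) (iv F66475)
theorem F68633 : act 1 n17398 = n16923 := d9_1 D17398 (iv D16923) (iv F66476)
theorem F68634 : act 6 n17398 = n17071 := d23_2 (iv F66478) D17398 (iv D17071)
theorem F68635 : act 7 n17398 = n16822 := d24_2 D16808 D17398 (iv D16822) (iv D16182) (iv F63947)
theorem F68636 : act 8 n17398 = n17394 := d25_2 (iv F66479) D17398 (iv D17394)
def n17399 : Q := act 7 n16809
theorem D17399 : act 7 n16809 = n17399 := rfl
theorem F68637 : act 0 n17399 = n17120 := d6_1 D17399 (iv D17120) (iv F66480)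
theorem F68638 : act 1 n17399 = n16814 := d13_1 D17399 (iv D16814) (iv F66481)
theorem F68639 : act 2 n17399 = n17399 := d19_1 D17399 (iv D17399) F66482
theorem F68640 : act 4 n17399 = n17080 := d28_1 D17399 (iv D17080) (iv F66483)
theorem F68641 : act 5 n17399 = n16810 := d31_1 D17399 (iv D16810) (iv F66484)
theorem F68642 : act 8 n17399 = n17072 := d35_2 D16809 D17399 (iv D17072) (iv D16473) (iv F63953)
def n17400 : Q := act 3 n16810
theorem D17400 : act 3 n16810 = n17400 := rfl
theorem F68643 : act 1 n17400 = n16815 := d9_1 D17400 (iv D16815) (iv F66485)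
def n17401 : Q := act 2 n16811
theorem D17401 : act 2 n16811 = n17401 := rfl
theorem F68644 : act 3 n17401 = n17401 := d15_2 D16811 D17401 (iv D17401) (iv D16811) F63958
theorem F68645 : act 7 n17401 = n16825 := d19_2 (iv F66489) D17401 (iv D16825)
def n17402 : Q := act 4 n16811
theorem D17402 : act 4 n16811 = n17402 := rfl
theorem F68646 : act 1 n17402 = n16816 := d10_1 D17402 (iv D16816) (iv F66488)
theorem F68647 : act 7 n17402 = n16826 := d28_2 (iv F66489) D17402 (iv D16826)
def n17403 : Q := act 7 n16812
theorem D17403 : act 7 n16812 = n17403 := rfl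
theorem F68648 : act 0 n17403 = n16933 := d6_1 D17403 (iv D16933) (iv F66490)
theorem F68649 : act 1 n17403 = n16935 := d13_1 D17403 (iv D16935) (iv F66491)
theorem F68650 : act 2 n17403 = n17021 := d19_1 D17403 F67206 (iv F66492)
theorem F68651 : act 4 n17403 = n16830 := d28_1 D17403 (iv D16830) (iv F66494)
theorem F68652 : act 5 n17403 = n17122 := d31_1 D17403 (iv D17122) (iv F66495)
theorem F68653 : act 6 n17403 = n16927 := d33_1 D17403 (iv D16927) (iv F66496)
theorem F68654 : act 8 n17403 = n16813 := d35_2 D16812 D17403 (iv D16813) (iv D16173) D16172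
def n17404 : Q := act 3 n16813
theorem D17404 : act 3 n16813 = n17404 := rfl
theorem F68655 : act 0 n17404 = n16934 := d2_1 D17404 (iv D16934) (iv F66497)
theorem F68656 : act 6 n17404 = n17023 := d23_2 (iv F66500) D17404 (iv D17023)
theorem F68657 : act 7 n17404 = n16815 := d24_2 D16813 D17404 (iv D16815) (iv D16175) (iv F63968)
def n17405 : Q := act 3 n16814
theorem D17405 : act 3 n16814 = n17405 := rfl
theorem F68658 : act 0 n17405 = n16936 := d2_1 D17405 (iv D16936) (iv F66501)
theorem F68659 : act 5 n17405 = n16815 := d22_2 (iv F66503) D17405 (iv D16815)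
def n17406 : Q := act 2 n16815
theorem D17406 : act 2 n16815 = n17406 := rfl
theorem F68660 : act 0 n17406 = n16937 := d1_1 D17406 (iv D16937) (iv F66504)
theorem F68661 : act 3 n17406 = n16818 := d15_2 D16815 D17406 (iv D16818) (iv D16178) (iv F63975)
theorem F68662 : act 6 n17406 = n17374 := d18_2 F68619 D17406 (iv F68618)
def n17407 : Q := act 4 n16815
theorem D17407 : act 4 n16815 = n17407 := rfl
theorem F68663 : act 0 n17407 = n16938 := d3_1 D17407 (iv D16938) (iv F66504)
theorem F68664 : act 3 n17407 = n16816 := d21_1 D17407 (iv D16816) (iv D16176) (iv F63976) D16815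
def n17408 : Q := act 5 n16816
theorem D17408 : act 5 n16816 = n17408 := rfl
theorem F68665 : act 0 n17408 = n16939 := d4_1 D17408 (iv D16939) (iv F66505)
theorem F68666 : act 7 n17408 = n16834 := d31_2 (iv F66506) D17408 (iv D16834)
def n17409 : Q := act 2 n16817
theorem D17409 : act 2 n16817 = n17409 := rfl
theorem F68667 : act 0 n17409 = n16941 := d1_1 D17409 (iv D16941) (iv F66507)
theorem F68668 : act 5 n17409 = n16818 := d17_2 (iv F66509) D17409 (iv D16818)
theorem F68669 : act 7 n17409 = n17053 := d19_2 (iv F66510) D17409 (iv D17053)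
def n17410 : Q := act 4 n16817
theorem D17410 : act 4 n16817 = n17410 := rfl
theorem F68670 : act 0 n17410 = n16942 := d3_1 D17410 (iv D16942) (iv F66507)
theorem F68671 : act 1 n17410 = n17410 := d10_1 D17410 (iv D17410) F66508
theorem F68672 : act 5 n17410 = n17363 := d26_2 (iv F66509) D17410 (iv D17363) F66233 (iv F63984)
theorem F68673 : act 7 n17410 = n17054 := d28_2 (iv F66510) D17410 (iv D17054)
def n17411 : Q := act 1 n16818
theorem D17411 : act 1 n16818 = n17411 := rfl
theorem F68674 : act 2 n17411 = n17411 := d8_2 D16818 D17411 (iv D17411) (iv D16818) F63983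
theorem F68675 : act 4 n17411 = n17364 := d10_2 (iv F66512) D17411 (iv D17364)
theorem F68676 : act 6 n17411 = n17373 := d12_2 (iv F66513) D17411 F68513
theorem F68677 : act 7 n17411 = n17055 := d13_2 (iv F66514) D17411 (iv D17055)
def n17412 : Q := act 4 n16819
theorem D17412 : act 4 n16819 = n17412 := rfl
theorem F68678 : act 0 n17412 = n16898 := d3_1 D17412 (iv D16898) (iv F66515)
theorem F68679 : act 2 n17412 = n16913 := d16_1 D17412 (iv D16913) (iv F66516)
theorem F68680 : act 8 n17412 = n16837 := d29_2 (iv F66518) D17412 (iv D16837)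
def n17413 : Q := act 2 n16820
theorem D17413 : act 2 n16820 = n17413 := rfl
theorem F68681 : act 0 n17413 = n17078 := d1_1 D17413 (iv D17078) (iv F66519)
theorem F68682 : act 1 n17413 = n16905 := d8_1 D17413 (iv D16905) F64358 (iv F63998) (iv F66520)
theorem F68683 : act 3 n17413 = n16885 := d15_2 D16820 D17413 (iv D16885) (iv D16247) (iv F63993)
theorem F68684 : act 6 n17413 = n16825 := d18_2 (iv F66521) D17413 (iv D16825)
theorem F68685 : act 8 n17413 = n16841 := d20_2 (iv F66522) D17413 (iv D16841)
def n17414 : Q := act 4 n16820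
theorem D17414 : act 4 n16820 = n17414 := rfl
theorem F68686 : act 0 n17414 = n17079 := d3_1 D17414 (iv D17079) (iv F66519)
theorem F68687 : act 1 n17414 = n16821 := d10_1 D17414 (iv D16821) (iv F66520)
theorem F68688 : act 3 n17414 = n17014 := d21_1 D17414 (iv D17014) F64703 (iv F63994) D16820
theorem F68689 : act 6 n17414 = n16826 := d27_2 (iv F66521) D17414 (iv D16826)
theorem F68690 : act 8 n17414 = n16842 := d29_2 (iv F66522) D17414 (iv D16842)
def n17415 : Q := act 5 n16821
theorem D17415 : act 5 n16821 = n17415 := rfl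
theorem F68691 : act 0 n17415 = n16944 := d4_1 D17415 (iv D16944) (iv F66523)
theorem F68692 : act 2 n17415 = n16914 := d17_1 D17415 (iv D16914) (iv F66524)
theorem F68693 : act 3 n17415 = n17015 := d22_1 D17415 (iv D17015) (iv F66525)
theorem F68694 : act 8 n17415 = n16848 := d32_2 (iv F66527) D17415 (iv D16848)
def n17416 : Q := act 2 n16822
theorem D17416 : act 2 n16822 = n17416 := rfl
theorem F68695 : act 0 n17416 = n16825 := d1_1 D17416 (iv D16825) (iv F66528)
theorem F68696 : act 3 n17416 = n16886 := d15_2 D16822 D17416 (iv D16886) (iv D16248) (iv F64003)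
theorem F68697 : act 6 n17416 = n17078 := d18_2 (iv F66530) D17416 (iv D17078)
theorem F68698 : act 8 n17416 = n16852 := d20_2 (iv F66531) D17416 (iv D16852)
def n17417 : Q := act 4 n16822
theorem D17417 : act 4 n16822 = n17417 := rfl
theorem F68699 : act 0 n17417 = n16826 := d3_1 D17417 (iv D16826) (iv F66528)
theorem F68700 : act 1 n17417 = n16948 := d10_1 D17417 (iv D16948) (iv F66529)
theorem F68701 : act 6 n17417 = n17079 := d27_2 (iv F66530) D17417 (iv D17079)
theorem F68702 : act 8 n17417 = n16853 := d29_2 (iv F66531) D17417 (iv D16853)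
def n17418 : Q := act 3 n16823
theorem D17418 : act 3 n16823 = n17418 := rfl
theorem F68703 : act 1 n17418 = n16831 := d9_1 D17418 (iv D16831) (iv F66532)
theorem F68704 : act 2 n17418 = n17149 := d15_1 D17418 F67642 F65403 (iv F65020) (iv F66533)
theorem F68705 : act 6 n17418 = n17008 := d23_2 (iv F66534) D17418 F67166
theorem F68706 : act 7 n17418 = n16824 := d24_2 D16823 D17418 (iv D16824) (iv D16184) (iv F64008)
def n17419 : Q := act 4 n16824
theorem D17419 : act 4 n16824 = n17419 := rfl
theorem F68707 : act 1 n17419 = n16833 := d10_1 D17419 (iv D16833) (iv F66535)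
theorem F68708 : act 2 n17419 = n17158 := d16_1 D17419 (iv D17158) (iv F66536)
theorem F68709 : act 3 n17419 = n16826 := d21_1 D17419 (iv D16826) (iv D16185) (iv F64012) D16824
theorem F68710 : act 6 n17419 = n17014 := d27_2 (iv F66537) D17419 (iv D17014)
theorem F68711 : act 8 n17419 = n16861 := d29_2 (iv F66538) D17419 (iv D16861)
def n17420 : Q := act 4 n16825
theorem D17420 : act 4 n16825 = n17420 := rfl
theorem F68712 : act 2 n17420 = n16826 := d16_1 D17420 (iv D16826) D16825
theorem F68713 : act 8 n17420 = n16862 := d29_2 (iv F66540) D17420 (iv D16862)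
def n17421 : Q := act 5 n16826
theorem D17421 : act 5 n16826 = n17421 := rfl
theorem F68714 : act 1 n17421 = n16834 := d11_1 D17421 (iv D16834) (iv F66541)
theorem F68715 : act 8 n17421 = n16863 := d32_2 (iv F66542) D17421 (iv D16863)
def n17422 : Q := act 7 n16827
theorem D17422 : act 7 n16827 = n17422 := rfl
theorem F68716 : act 0 n17422 = n16958 := d6_1 D17422 (iv D16958) (iv F66543)
theorem F68717 : act 2 n17422 = n17020 := d19_1 D17422 F67200 (iv F66544)
theorem F68718 : act 4 n17422 = n16829 := d28_1 D17422 (iv D16829) (iv F66545)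
theorem F68719 : act 5 n17422 = n17262 := d31_1 D17422 (iv D17262) (iv F66546)
theorem F68720 : act 6 n17422 = n17231 := d33_1 D17422 (iv D17231) (iv F66547)
theorem F68721 : act 8 n17422 = n17230 := d35_2 D16827 D17422 (iv D17230) (iv D16634) F64021
def n17423 : Q := act 7 n16828
theorem D17423 : act 7 n16828 = n17423 := rfl
theorem F68722 : act 0 n17423 = n16960 := d6_1 D17423 (iv D16960) (iv F66548)
theorem F68723 : act 1 n17423 = n17422 := d13_1 D17423 (iv D17422) (iv F66549)
theorem F68724 : act 2 n17423 = n17019 := d19_1 D17423 F67194 (iv F66550)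
theorem F68725 : act 4 n17423 = n17230 := d28_1 D17423 (iv D17230) (iv F66552)
theorem F68726 : act 5 n17423 = n16830 := d31_1 D17423 (iv D16830) (iv F66553)
theorem F68727 : act 6 n17423 = n17162 := d33_1 D17423 F67662 (iv F66554)
theorem F68728 : act 8 n17423 = n16829 := d35_2 D16828 D17423 (iv D16829) (iv D16188) D16187
def n17424 : Q := act 3 n16829
theorem D17424 : act 3 n16829 = n17424 := rfl
theorem F68729 : act 0 n17424 = n16961 := d2_1 D17424 (iv D16961) (iv F66555)
theorem F68730 : act 2 n17424 = n16971 := d15_1 D17424 (iv D16971) F64594 D16380 (iv F66556)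
theorem F68731 : act 5 n17424 = n16831 := d22_2 (iv F66557) D17424 (iv D16831)
theorem F68732 : act 7 n17424 = n16832 := d24_2 D16829 D17424 (iv D16832) (iv D16191) (iv F64031)
def n17425 : Q := act 3 n16830
theorem D17425 : act 3 n16830 = n17425 := rfl
theorem F68733 : act 0 n17425 = n16962 := d2_1 D17425 (iv D16962) (iv F66558)
theorem F68734 : act 2 n17425 = n16972 := d15_1 D17425 (iv D16972) F64597 D16381 (iv F66559)
theorem F68735 : act 6 n17425 = n17006 := d23_2 (iv F66560) D17425 F67163
theorem F68736 : act 7 n17425 = n16868 := d24_2 D16830 D17425 (iv D16868) (iv D16224) (iv F64035)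
theorem F68737 : act 8 n17425 = n16831 := d25_2 (iv F66561) D17425 (iv D16831)
def n17426 : Q := act 4 n16831
theorem D17426 : act 4 n16831 = n17426 := rfl
theorem F68738 : act 0 n17426 = n16963 := d3_1 D17426 (iv D16963) (iv F66562)
theorem F68739 : act 2 n17426 = n16973 := d16_1 D17426 (iv D16973) (iv F66563)
theorem F68740 : act 6 n17426 = n17009 := d27_2 (iv F66564) D17426 (iv D17009)
theorem F68741 : act 7 n17426 = n16833 := d28_2 (iv F66565) D17426 (iv D16833)
def n17427 : Q := act 4 n16832
theorem D17427 : act 4 n16832 = n17427 := rfl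
theorem F68742 : act 0 n17427 = n16965 := d3_1 D17427 (iv D16965) (iv F66566)
theorem F68743 : act 2 n17427 = n16975 := d16_1 D17427 (iv D16975) (iv F66567)
theorem F68744 : act 8 n17427 = n16873 := d29_2 (iv F66569) D17427 (iv D16873)
def n17428 : Q := act 5 n16833
theorem D17428 : act 5 n16833 = n17428 := rfl
theorem F68745 : act 0 n17428 = n16966 := d4_1 D17428 (iv D16966) (iv F66570)
theorem F68746 : act 2 n17428 = n16976 := d17_1 D17428 (iv D16976) (iv F66571)
theorem F68747 : act 3 n17428 = n16834 := d22_1 D17428 (iv D16834) (iv F66572)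
theorem F68748 : act 8 n17428 = n16875 := d32_2 (iv F66574) D17428 (iv D16875)
def n17429 : Q := act 6 n16834
theorem D17429 : act 6 n16834 = n17429 := rfl
theorem F68749 : act 0 n17429 = n16967 := d5_1 D17429 (iv D16967) (iv F66575)
theorem F68750 : act 8 n17429 = n16876 := d34_2 (iv F66576) D17429 (iv D16876)
def n17430 : Q := act 3 n16835
theorem D17430 : act 3 n16835 = n17430 := rfl
theorem F68751 : act 0 n17430 = n16903 := d2_1 D17430 (iv D16903) (iv F66577)
theorem F68752 : act 7 n17430 = n16836 := d24_2 D16835 D17430 (iv D16836) (iv D16195) (iv F64052)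
def n17431 : Q := act 2 n16836
theorem D17431 : act 2 n16836 = n17431 := rfl
theorem F68753 : act 0 n17431 = n16905 := d1_1 D17431 (iv D16905) (iv F66580)
theorem F68754 : act 3 n17431 = n16838 := d15_2 D16836 D17431 (iv D16838) (iv D16197) (iv F64055)
theorem F68755 : act 8 n17431 = n17161 := d20_2 F67888 D17431 (iv F67885)
def n17432 : Q := act 4 n16836
theorem D17432 : act 4 n16836 = n17432 := rfl
theorem F68756 : act 0 n17432 = n16906 := d3_1 D17432 (iv D16906) (iv F66580)
theorem F68757 : act 3 n17432 = n16837 := d21_1 D17432 (iv D16837) (iv D16196) (iv F64056) D16836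
def n17433 : Q := act 5 n16837
theorem D17433 : act 5 n16837 = n17433 := rfl
theorem F68758 : act 0 n17433 = n16907 := d4_1 D17433 (iv D16907) (iv F66581)
theorem F68759 : act 4 n17433 = n16848 := d26_1 D17433 (iv D16848) (iv D16206) (iv F64058) D16837
theorem F68760 : act 7 n17433 = n17329 := d31_2 (iv F66582) D17433 (iv D17329)
def n17434 : Q := act 3 n16839
theorem D17434 : act 3 n16839 = n17434 := rfl
theorem F68761 : act 0 n17434 = n17087 := d2_1 D17434 (iv D17087) (iv F66587)
theorem F68762 : act 1 n17434 = n16845 := d9_1 D17434 (iv D16845) (iv F66588)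
theorem F68763 : act 6 n17434 = n16858 := d23_2 (iv F66590) D17434 (iv D16858)
theorem F68764 : act 7 n17434 = n16840 := d24_2 D16839 D17434 (iv D16840) (iv D16199) (iv F64068)
def n17435 : Q := act 2 n16840
theorem D17435 : act 2 n16840 = n17435 := rfl
theorem F68765 : act 0 n17435 = n17088 := d1_1 D17435 (iv D17088) (iv F66591)
theorem F68766 : act 1 n17435 = n16955 := d8_1 D17435 (iv D16955) F64547 (iv F64095) (iv F66592)
theorem F68767 : act 3 n17435 = n16887 := d15_2 D16840 D17435 (iv D16887) (iv D16250) (iv F64072)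
theorem F68768 : act 6 n17435 = n16860 := d18_2 (iv F66593) D17435 (iv D16860)
theorem F68769 : act 8 n17435 = n16997 := d20_2 (iv F66594) D17435 F67142
def n17436 : Q := act 4 n16840
theorem D17436 : act 4 n16840 = n17436 := rfl
theorem F68770 : act 0 n17436 = n17089 := d3_1 D17436 (iv D17089) (iv F66591)
theorem F68771 : act 1 n17436 = n16847 := d10_1 D17436 (iv D16847) (iv F66592)
theorem F68772 : act 3 n17436 = n16842 := d21_1 D17436 (iv D16842) (iv D16200) (iv F64073) D16840
theorem F68773 : act 6 n17436 = n16861 := d27_2 (iv F66593) D17436 (iv D16861)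
theorem F68774 : act 8 n17436 = n17014 := d29_2 (iv F66594) D17436 (iv D17014)
def n17437 : Q := act 4 n16841
theorem D17437 : act 4 n16841 = n17437 := rfl
theorem F68775 : act 0 n17437 = n17090 := d3_1 D17437 (iv D17090) (iv F66595)
theorem F68776 : act 2 n17437 = n16842 := d16_1 D17437 (iv D16842) D16841
theorem F68777 : act 6 n17437 = n16862 := d27_2 (iv F66597) D17437 (iv D16862)
def n17438 : Q := act 5 n16842
theorem D17438 : act 5 n16842 = n17438 := rfl
theorem F68778 : act 0 n17438 = n17091 := d4_1 D17438 (iv D17091) (iv F66598)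
theorem F68779 : act 1 n17438 = n16848 := d11_1 D17438 (iv D16848) (iv F66599)
def n17439 : Q := act 3 n16843
theorem D17439 : act 3 n16843 = n17439 := rfl
theorem F68780 : act 0 n17439 = n16971 := d2_1 D17439 (iv D16971) (iv F66601)
theorem F68781 : act 2 n17439 = n16961 := d15_1 D17439 (iv D16961) F64565 (iv F64205) (iv F66602)
theorem F68782 : act 5 n17439 = n16845 := d22_2 (iv F66603) D17439 (iv D16845)
theorem F68783 : act 7 n17439 = n16846 := d24_2 D16843 D17439 (iv D16846) (iv D16204) (iv F64081)
def n17440 : Q := act 3 n16844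
theorem D17440 : act 3 n16844 = n17440 := rfl
theorem F68784 : act 0 n17440 = n16972 := d2_1 D17440 (iv D16972) (iv F66604)
theorem F68785 : act 2 n17440 = n16962 := d15_1 D17440 (iv D16962) F64567 (iv F64209) (iv F66605)
theorem F68786 : act 6 n17440 = n16868 := d23_2 (iv F66606) D17440 (iv D16868)
theorem F68787 : act 7 n17440 = n17006 := d24_2 D16844 D17440 F67163 F64760 (iv F64085)
theorem F68788 : act 8 n17440 = n16845 := d25_2 (iv F66607) D17440 (iv D16845)
def n17441 : Q := act 4 n16845
theorem D17441 : act 4 n16845 = n17441 := rfl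
theorem F68789 : act 0 n17441 = n16973 := d3_1 D17441 (iv D16973) (iv F66608)
theorem F68790 : act 2 n17441 = n16963 := d16_1 D17441 (iv D16963) (iv F66609)
theorem F68791 : act 6 n17441 = n16870 := d27_2 (iv F66610) D17441 (iv D16870)
theorem F68792 : act 7 n17441 = n16847 := d28_2 (iv F66611) D17441 (iv D16847)
def n17442 : Q := act 4 n16846
theorem D17442 : act 4 n16846 = n17442 := rfl
theorem F68793 : act 0 n17442 = n16975 := d3_1 D17442 (iv D16975) (iv F66612)
theorem F68794 : act 2 n17442 = n16965 := d16_1 D17442 (iv D16965) (iv F66613)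
theorem F68795 : act 8 n17442 = n17012 := d29_2 (iv F66615) D17442 (iv D17012)
def n17443 : Q := act 5 n16847
theorem D17443 : act 5 n16847 = n17443 := rfl
theorem F68796 : act 0 n17443 = n16976 := d4_1 D17443 (iv D16976) (iv F66616)
theorem F68797 : act 2 n17443 = n16966 := d17_1 D17443 (iv D16966) (iv F66617)
theorem F68798 : act 3 n17443 = n16848 := d22_1 D17443 (iv D16848) (iv F66618)
theorem F68799 : act 8 n17443 = n17015 := d32_2 (iv F66620) D17443 (iv D17015)
def n17444 : Q := act 6 n16848
theorem D17444 : act 6 n16848 = n17444 := rfl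
theorem F68800 : act 0 n17444 = n16977 := d5_1 D17444 (iv D16977) (iv F66621)
theorem F68801 : act 5 n17444 = n16876 := d30_1 D17444 (iv D16876) (iv D16230) (iv F64099) D16848
def n17445 : Q := act 7 n16849
theorem D17445 : act 7 n16849 = n17445 := rfl
theorem F68802 : act 0 n17445 = n16857 := d6_1 D17445 (iv D16857) (iv F66622)
theorem F68803 : act 1 n17445 = n16981 := d13_1 D17445 (iv D16981) (iv F66623)
theorem F68804 : act 2 n17445 = n17445 := d19_1 D17445 (iv D17445) F66624
theorem F68805 : act 4 n17445 = n17260 := d28_1 D17445 (iv D17260) (iv F66625)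
theorem F68806 : act 5 n17445 = n17285 := d31_1 D17445 (iv D17285) (iv F66626)
theorem F68807 : act 6 n17445 = n17086 := d33_1 D17445 (iv D17086) (iv F66627)
theorem F68808 : act 8 n17445 = n16850 := d35_2 D16849 D17445 (iv D16850) (iv D16208) D16207
def n17446 : Q := act 3 n16850
theorem D17446 : act 3 n16850 = n17446 := rfl
theorem F68809 : act 0 n17446 = n16858 := d2_1 D17446 (iv D16858) (iv F66628)
theorem F68810 : act 1 n17446 = n16982 := d9_1 D17446 (iv D16982) (iv F66629)
theorem F68811 : act 6 n17446 = n17087 := d23_2 (iv F66632) D17446 (iv D17087)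
theorem F68812 : act 7 n17446 = n16851 := d24_2 D16850 D17446 (iv D16851) (iv D16209) (iv F64109)
def n17447 : Q := act 2 n16851
theorem D17447 : act 2 n16851 = n17447 := rfl
theorem F68813 : act 0 n17447 = n16860 := d1_1 D17447 (iv D16860) (iv F66633)
theorem F68814 : act 3 n17447 = n16889 := d15_2 D16851 D17447 (iv D16889) (iv D16253) (iv F64114)
theorem F68815 : act 6 n17447 = n17088 := d18_2 (iv F66635) D17447 (iv D17088)
theorem F68816 : act 8 n17447 = n17157 := d20_2 F68331 D17447 (iv F68328)
def n17448 : Q := act 4 n16851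
theorem D17448 : act 4 n16851 = n17448 := rfl
theorem F68817 : act 0 n17448 = n16861 := d3_1 D17448 (iv D16861) (iv F66633)
theorem F68818 : act 1 n17448 = n16985 := d10_1 D17448 (iv D16985) (iv F66634)
theorem F68819 : act 3 n17448 = n16853 := d21_1 D17448 (iv D16853) (iv D16210) (iv F64115) D16851
theorem F68820 : act 6 n17448 = n17089 := d27_2 (iv F66635) D17448 (iv D17089)
def n17449 : Q := act 4 n16852
theorem D17449 : act 4 n16852 = n17449 := rfl
theorem F68821 : act 0 n17449 = n16862 := d3_1 D17449 (iv D16862) (iv F66636)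
theorem F68822 : act 2 n17449 = n16853 := d16_1 D17449 (iv D16853) D16852
theorem F68823 : act 6 n17449 = n17090 := d27_2 (iv F66638) D17449 (iv D17090)
theorem F68824 : act 7 n17449 = n17437 := d28_2 (iv F66639) D17449 (iv D17437)
def n17450 : Q := act 5 n16853
theorem D17450 : act 5 n16853 = n17450 := rfl
theorem F68825 : act 0 n17450 = n16863 := d4_1 D17450 (iv D16863) (iv F66640)
theorem F68826 : act 1 n17450 = n16986 := d11_1 D17450 (iv D16986) (iv F66641)
theorem F68827 : act 7 n17450 = n17438 := d31_2 (iv F66643) D17450 (iv D17438)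
def n17451 : Q := act 7 n16854
theorem D17451 : act 7 n16854 = n17451 := rfl
theorem F68828 : act 0 n17451 = n17287 := d6_1 D17451 (iv D17287) (iv F66644)
theorem F68829 : act 1 n17451 = n16864 := d13_1 D17451 (iv D16864) (iv F66645)
theorem F68830 : act 2 n17451 = n17451 := d19_1 D17451 (iv D17451) F66646
theorem F68831 : act 4 n17451 = n16856 := d28_1 D17451 (iv D16856) (iv F66648)
theorem F68832 : act 5 n17451 = n17202 := d31_1 D17451 (iv D17202) (iv F66649)
theorem F68833 : act 8 n17451 = n17201 := d35_2 D16854 D17451 (iv D17201) (iv D16608) F64126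
def n17452 : Q := act 7 n16855
theorem D17452 : act 7 n16855 = n17452 := rfl
theorem F68834 : act 0 n17452 = n17285 := d6_1 D17452 (iv D17285) (iv F66650)
theorem F68835 : act 1 n17452 = n16866 := d13_1 D17452 (iv D16866) (iv F66651)
theorem F68836 : act 2 n17452 = n17452 := d19_1 D17452 (iv D17452) F66652
theorem F68837 : act 4 n17452 = n17201 := d28_1 D17452 (iv D17201) (iv F66654)
theorem F68838 : act 5 n17452 = n16857 := d31_1 D17452 (iv D16857) (iv F66655)
theorem F68839 : act 6 n17452 = n17451 := d33_1 D17452 (iv D17451) (iv F66656)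
theorem F68840 : act 8 n17452 = n16856 := d35_2 D16855 D17452 (iv D16856) (iv D16213) D16212
def n17453 : Q := act 3 n16856
theorem D17453 : act 3 n16856 = n17453 := rfl
theorem F68841 : act 1 n17453 = n16867 := d9_1 D17453 (iv D16867) (iv F66657)
theorem F68842 : act 5 n17453 = n16858 := d22_2 (iv F66659) D17453 (iv D16858)
theorem F68843 : act 7 n17453 = n16859 := d24_2 D16856 D17453 (iv D16859) (iv D16216) (iv F64136)
def n17454 : Q := act 3 n16857
theorem D17454 : act 3 n16857 = n17454 := rfl
theorem F68844 : act 1 n17454 = n16868 := d9_1 D17454 (iv D16868) (iv F66660)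
theorem F68845 : act 8 n17454 = n16858 := d25_2 (iv F66662) D17454 (iv D16858)
def n17455 : Q := act 2 n16858
theorem D17455 : act 2 n16858 = n17455 := rfl
theorem F68846 : act 1 n17455 = n17135 := d8_1 D17455 (iv D17135) F66696 (iv D16869) (iv F66663)
theorem F68847 : act 3 n17455 = n17455 := d15_2 D16858 D17455 (iv D17455) (iv D16858) F64141
theorem F68848 : act 7 n17455 = n16860 := d19_2 (iv F66664) D17455 (iv D16860)
def n17456 : Q := act 4 n16858
theorem D17456 : act 4 n16858 = n17456 := rfl
theorem F68849 : act 1 n17456 = n16870 := d10_1 D17456 (iv D16870) (iv F66663)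
theorem F68850 : act 7 n17456 = n16861 := d28_2 (iv F66664) D17456 (iv D16861)
def n17457 : Q := act 2 n16859
theorem D17457 : act 2 n16859 = n17457 := rfl
theorem F68851 : act 1 n17457 = n17137 := d8_1 D17457 (iv D17137) F66705 (iv D16872) (iv F66665)
theorem F68852 : act 3 n17457 = n16890 := d15_2 D16859 D17457 (iv D16890) (iv D16255) (iv F64143)
theorem F68853 : act 5 n17457 = n16860 := d17_2 (iv F66666) D17457 (iv D16860)
theorem F68854 : act 8 n17457 = n17154 := d20_2 F67998 D17457 (iv F67995)
def n17458 : Q := act 4 n16859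
theorem D17458 : act 4 n16859 = n17458 := rfl
theorem F68855 : act 1 n17458 = n16873 := d10_1 D17458 (iv D16873) (iv F66665)
def n17459 : Q := act 4 n16860
theorem D17459 : act 4 n16860 = n17459 := rfl
theorem F68856 : act 1 n17459 = n17139 := d10_1 D17459 (iv D17139) (iv F66667)
theorem F68857 : act 2 n17459 = n16861 := d16_1 D17459 (iv D16861) D16860
theorem F68858 : act 8 n17459 = n17158 := d29_2 (iv F66669) D17459 (iv D17158)
def n17460 : Q := act 5 n16861
theorem D17460 : act 5 n16861 = n17460 := rfl
theorem F68859 : act 1 n17460 = n16875 := d11_1 D17460 (iv D16875) (iv F66670)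
theorem F68860 : act 3 n17460 = n16863 := d22_1 D17460 (iv D16863) (iv F66671)
def n17461 : Q := act 3 n16862
theorem D17461 : act 3 n16862 = n17461 := rfl
theorem F68861 : act 4 n17461 = n16891 := d21_2 D16862 D17461 (iv D16891) (iv D16257) (iv F64146)
def n17462 : Q := act 5 n16862
theorem D17462 : act 5 n16862 = n17462 := rfl
theorem F68862 : act 2 n17462 = n16863 := d17_1 D17462 (iv D16863) (iv F66672)
def n17463 : Q := act 6 n16863
theorem D17463 : act 6 n16863 = n17463 := rfl
theorem F68863 : act 1 n17463 = n16876 := d12_1 D17463 (iv D16876) (iv F66673)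
def n17464 : Q := act 3 n16864
theorem D17464 : act 3 n16864 = n17464 := rfl
theorem F68864 : act 0 n17464 = n17001 := d2_1 D17464 (iv D17001) (iv F66674)
def n17465 : Q := act 3 n16865
theorem D17465 : act 3 n16865 = n17465 := rfl
theorem F68865 : act 0 n17465 = n17002 := d2_1 D17465 (iv D17002) (iv F66677)
theorem F68866 : act 6 n17465 = n16867 := d23_2 (iv F66679) D17465 (iv D16867)
theorem F68867 : act 7 n17465 = n16871 := d24_2 D16865 D17465 (iv D16871) (iv D16226) (iv F64153)
theorem F68868 : act 8 n17465 = n17464 := d25_2 (iv F66680) D17465 (iv D17464)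
def n17466 : Q := act 3 n16866
theorem D17466 : act 3 n16866 = n17466 := rfl
theorem F68869 : act 0 n17466 = n17003 := d2_1 D17466 (iv D17003) (iv F66681)
theorem F68870 : act 5 n17466 = n16868 := d22_2 (iv F66684) D17466 (iv D16868)
theorem F68871 : act 6 n17466 = n17464 := d23_2 (iv F66685) D17466 (iv D17464)
theorem F68872 : act 8 n17466 = n16867 := d25_2 (iv F66686) D17466 (iv D16867)
def n17467 : Q := act 2 n16867
theorem D17467 : act 2 n16867 = n17467 := rfl
theorem F68873 : act 0 n17467 = n17004 := d1_1 D17467 (iv D17004) (iv F66687)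
theorem F68874 : act 3 n17467 = n16881 := d15_2 D16867 D17467 (iv D16881) (iv D16240) (iv F64161)
theorem F68875 : act 5 n17467 = n16869 := d17_2 (iv F66688) D17467 (iv D16869)
theorem F68876 : act 7 n17467 = n16872 := d19_2 (iv F66689) D17467 (iv D16872)
theorem F68877 : act 1 n17133 = n17467 := d13_3 F68876 (iv F66705) (iv F67614)
def n17468 : Q := act 4 n16867
theorem D17468 : act 4 n16867 = n17468 := rfl
theorem F68878 : act 0 n17468 = n17005 := d3_1 D17468 (iv D17005) (iv F66687)
theorem F68879 : act 7 n17468 = n16873 := d28_2 (iv F66689) D17468 (iv D16873)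
def n17469 : Q := act 2 n16868
theorem D17469 : act 2 n16868 = n17469 := rfl
theorem F68880 : act 0 n17469 = n17006 := d1_1 D17469 (iv D17006) (iv F66690)
theorem F68881 : act 3 n17469 = n16882 := d15_2 D16868 D17469 (iv D16882) (iv D16241) (iv F64164)
theorem F68882 : act 6 n17469 = n16962 := d18_2 F68786 D17469 (iv F68785)
theorem F68883 : act 7 n17469 = n16972 := d19_2 F68736 D17469 (iv F68734)
theorem F68884 : act 8 n17469 = n16869 := d20_2 (iv F66691) D17469 (iv D16869)
theorem F68885 : act 1 n17134 = n17469 := d14_3 F68884 (iv F66696) (iv F67616)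
def n17470 : Q := act 4 n16868
theorem D17470 : act 4 n16868 = n17470 := rfl
theorem F68886 : act 0 n17470 = n17007 := d3_1 D17470 (iv D17007) (iv F66690)
theorem F68887 : act 8 n17470 = n16870 := d29_2 (iv F66691) D17470 (iv D16870)
def n17471 : Q := act 4 n16869
theorem D17471 : act 4 n16869 = n17471 := rfl
theorem F68888 : act 0 n17471 = n17009 := d3_1 D17471 (iv D17009) (iv F66692)
theorem F68889 : act 1 n17471 = n17136 := d10_1 D17471 (iv D17136) F66696
theorem F68890 : act 2 n17471 = n16870 := d16_1 D17471 (iv D16870) D16869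
theorem F68891 : act 6 n17471 = n16963 := d27_2 (iv F66694) D17471 (iv D16963)
theorem F68892 : act 7 n17471 = n16874 := d28_2 (iv F66695) D17471 (iv D16874)
def n17472 : Q := act 5 n16870
theorem D17472 : act 5 n16870 = n17472 := rfl
theorem F68893 : act 0 n17472 = n17010 := d4_1 D17472 (iv D17010) (iv F66697)
theorem F68894 : act 7 n17472 = n16875 := d31_2 (iv F66698) D17472 (iv D16875)
def n17473 : Q := act 4 n16871
theorem D17473 : act 4 n16871 = n17473 := rfl
theorem F68895 : act 0 n17473 = n17011 := d3_1 D17473 (iv D17011) (iv F66699)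
theorem F68896 : act 6 n17473 = n16873 := d27_2 (iv F66700) D17473 (iv D16873)
def n17474 : Q := act 4 n16872
theorem D17474 : act 4 n16872 = n17474 := rfl
theorem F68897 : act 0 n17474 = n17012 := d3_1 D17474 (iv D17012) (iv F66701)
theorem F68898 : act 1 n17474 = n17138 := d10_1 D17474 (iv D17138) F66705
theorem F68899 : act 2 n17474 = n16873 := d16_1 D17474 (iv D16873) D16872
theorem F68900 : act 8 n17474 = n16975 := d29_2 (iv F66704) D17474 (iv D16975)
def n17475 : Q := act 5 n16873
theorem D17475 : act 5 n16873 = n17475 := rfl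
theorem F68901 : act 0 n17475 = n17013 := d4_1 D17475 (iv D17013) (iv F66706)
theorem F68902 : act 4 n17475 = n16875 := d26_1 D17475 (iv D16875) (iv D16229) (iv F64172) D16873
def n17476 : Q := act 5 n16874
theorem D17476 : act 5 n16874 = n17476 := rfl
theorem F68903 : act 0 n17476 = n17015 := d4_1 D17476 (iv D17015) (iv F66707)
theorem F68904 : act 1 n17476 = n17140 := d11_1 D17476 (iv D17140) (iv F66708)
theorem F68905 : act 2 n17476 = n16875 := d17_1 D17476 (iv D16875) (iv F66709)
theorem F68906 : act 3 n17476 = n16944 := d22_1 D17476 (iv D16944) (iv F66710)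
theorem F68907 : act 8 n17476 = n16976 := d32_2 (iv F66712) D17476 (iv D16976)
def n17477 : Q := act 6 n16875
theorem D17477 : act 6 n16875 = n17477 := rfl
theorem F68908 : act 0 n17477 = n17016 := d5_1 D17477 (iv D17016) (iv F66713)
theorem F68909 : act 3 n17477 = n16876 := d23_1 D17477 (iv D16876) (iv F66714)
def n17478 : Q := act 3 n16877
theorem D17478 : act 3 n16877 = n17478 := rfl
theorem F68910 : act 0 n17478 = n17017 := d2_1 D17478 (iv D17017) (iv F66716)
theorem F68911 : act 1 n17478 = n17478 := d9_1 D17478 (iv D17478) F66717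
theorem F68912 : act 4 n17478 = n17068 := d21_2 (iv F66718) D17478 (iv D17068) F65099 (iv F64205)
theorem F68913 : act 6 n17478 = n17106 := d23_2 (iv F66719) D17478 (iv D17106)
theorem F68914 : act 7 n17478 = n17478 := d24_2 D16877 D17478 (iv D17478) (iv D16877) F64188
theorem F68915 : act 8 n17478 = n17105 := d25_2 (iv F66720) D17478 (iv D17105)
def n17479 : Q := act 4 n16882
theorem D17479 : act 4 n16882 = n17479 := rfl
theorem F68916 : act 0 n17479 = n16927 := d3_1 D17479 F66917 (iv F66747)
theorem F68917 : act 1 n17479 = n17120 := d10_1 D17479 F67572 F66751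
theorem F68918 : act 2 n17479 = n16883 := d16_1 D17479 (iv D16883) D16882
theorem F68919 : act 5 n17479 = n16922 := d26_2 F68090 D17479 F66891 (iv F65895) (iv F68089)
theorem F68920 : act 6 n17479 = n16933 := d27_2 (iv F66748) D17479 F66944
theorem F68921 : act 7 n17479 = n16917 := d28_2 (iv F66749) D17479 F66871
theorem F68922 : act 8 n17479 = n16884 := d29_2 (iv F66750) D17479 (iv D16884)
def n17480 : Q := act 3 n16884
theorem D17480 : act 3 n16884 = n17480 := rfl
theorem F68923 : act 0 n17480 = n17023 := d2_1 D17480 (iv D17023) (iv F66758)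
theorem F68924 : act 1 n17480 = n17121 := d9_1 D17480 (iv D17121) (iv F66759)
theorem F68925 : act 5 n17480 = n17395 := d22_2 (iv F66761) D17480 (iv D17395)
theorem F68926 : act 6 n17480 = n16934 := d23_2 (iv F66762) D17480 (iv D16934)
theorem F68927 : act 7 n17480 = n16918 := d24_2 (iv F66763) D17480 (iv D16918) (iv D16286) (iv F64259)
def n17481 : Q := act 3 n16888
theorem D17481 : act 3 n16888 = n17481 := rfl
theorem F68928 : act 0 n17481 = n17117 := d2_1 D17481 (iv D17117) (iv F66778)
theorem F68929 : act 1 n17481 = n17098 := d9_1 D17481 F67499 (iv F66779)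
theorem F68930 : act 5 n17481 = n17100 := d22_2 (iv F66781) D17481 F67502
theorem F68931 : act 6 n17481 = n16891 := d23_2 (iv F66782) D17481 (iv D16891)
def n17482 : Q := act 7 n16891
theorem D17482 : act 7 n16891 = n17482 := rfl
theorem F68932 : act 3 n17482 = n16893 := d24_1 D17482 (iv D16893) (iv D16259) (iv F64304) D16891
def n17483 : Q := act 7 n16892
theorem D17483 : act 7 n16892 = n17483 := rfl
theorem F68933 : act 0 n17483 = n17118 := d6_1 D17483 (iv D17118) (iv F66792)
theorem F68934 : act 1 n17483 = n17107 := d13_1 D17483 F67527 (iv F66793)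
theorem F68935 : act 2 n17483 = n17483 := d19_1 D17483 (iv D17483) F66794
theorem F68936 : act 4 n17483 = n17369 := d28_1 D17483 F68500 (iv F66795)
theorem F68937 : act 5 n17483 = n17110 := d31_1 D17483 F67539 (iv F66796)
theorem F68938 : act 6 n17483 = n16893 := d33_1 D17483 (iv D16893) (iv F66797)
def n17484 : Q := act 8 n16893
theorem D17484 : act 8 n16893 = n17484 := rfl
theorem F68939 : act 2 n17484 = n17484 := d20_1 D17484 (iv D17484) F66799
theorem F68940 : act 7 n17484 = n17484 := d35_1 D17484 (iv D17484) (iv D16893) F64312 D16893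
def n17485 : Q := act 4 n16894
theorem D17485 : act 4 n16894 = n17485 := rfl
theorem F68941 : act 1 n17485 = n16896 := d10_1 D17485 (iv D16896) (iv F66800)
theorem F68942 : act 7 n17485 = n16898 := d28_2 (iv F66802) D17485 (iv D16898)
theorem F68943 : act 8 n17485 = n17259 := d29_2 (iv F66803) D17485 (iv D17259)
def n17486 : Q := act 2 n16895
theorem D17486 : act 2 n16895 = n17486 := rfl
theorem F68944 : act 0 n17486 = n17312 := d1_1 D17486 (iv D17312) (iv F66804)
theorem F68945 : act 3 n17486 = n16897 := d15_2 D16895 D17486 (iv D16897) (iv D16263) (iv F64318)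
theorem F68946 : act 6 n17486 = n17234 := d18_2 (iv F66805) D17486 (iv D17234)
theorem F68947 : act 7 n17486 = n17217 := d19_2 (iv F66806) D17486 (iv D17217)
theorem F68948 : act 8 n17486 = n17264 := d20_2 (iv F66807) D17486 (iv D17264)
def n17487 : Q := act 4 n16895
theorem D17487 : act 4 n16895 = n17487 := rfl
theorem F68949 : act 0 n17487 = n17313 := d3_1 D17487 (iv D17313) (iv F66804)
theorem F68950 : act 3 n17487 = n16896 := d21_1 D17487 (iv D16896) (iv D16262) (iv F64319) D16895
theorem F68951 : act 6 n17487 = n17235 := d27_2 (iv F66805) D17487 (iv D17235)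
theorem F68952 : act 7 n17487 = n17218 := d28_2 (iv F66806) D17487 (iv D17218)
theorem F68953 : act 8 n17487 = n17265 := d29_2 (iv F66807) D17487 (iv D17265)
def n17488 : Q := act 5 n16896
theorem D17488 : act 5 n16896 = n17488 := rfl
theorem F68954 : act 2 n17488 = n16939 := d17_1 D17488 (iv D16939) (iv F66808)
theorem F68955 : act 4 n17488 = n17126 := d26_1 D17488 (iv D17126) (iv D16528) (iv F64323) D16896
theorem F68956 : act 7 n17488 = n16899 := d31_2 (iv F66809) D17488 (iv D16899)
theorem F68957 : act 8 n17488 = n17266 := d32_2 (iv F66810) D17488 (iv D17266)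
def n17489 : Q := act 5 n16898
theorem D17489 : act 5 n16898 = n17489 := rfl
theorem F68958 : act 1 n17489 = n16899 := d11_1 D17489 (iv D16899) (iv F66816)
theorem F68959 : act 4 n17489 = n16944 := d26_1 D17489 (iv D16944) (iv D16311) (iv F64333) D16898
theorem F68960 : act 8 n17489 = n16907 := d32_2 (iv F66817) D17489 (iv D16907)
def n17490 : Q := act 6 n16899
theorem D17490 : act 6 n16899 = n17490 := rfl
theorem F68961 : act 2 n17490 = n16967 := d18_1 D17490 (iv D16967) (iv F66818)
theorem F68962 : act 4 n17490 = n17141 := d27_1 D17490 (iv D17141) (iv F66819)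
theorem F68963 : act 8 n17490 = n16915 := d34_2 (iv F66820) D17490 (iv D16915)
def n17491 : Q := act 6 n16900
theorem D17491 : act 6 n16900 = n17491 := rfl
theorem F68964 : act 2 n17491 = n16977 := d18_1 D17491 (iv D16977) (iv F66821)
theorem F68965 : act 5 n17491 = n16915 := d30_1 D17491 (iv D16915) (iv D16280) (iv F64338) D16900
theorem F68966 : act 7 n17491 = n17320 := d33_2 (iv F66822) D17491 (iv D17320)
def n17492 : Q := act 3 n16901
theorem D17492 : act 3 n16901 = n17492 := rfl
theorem F68967 : act 1 n17492 = n16910 := d9_1 D17492 (iv D16910) (iv F66823)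
theorem F68968 : act 5 n17492 = n16903 := d22_2 (iv F66825) D17492 (iv D16903)
theorem F68969 : act 7 n17492 = n16904 := d24_2 D16901 D17492 (iv D16904) (iv D16270) (iv F64342)
theorem F68970 : act 8 n17492 = n17430 := d25_2 (iv F66826) D17492 (iv D17430)
def n17493 : Q := act 3 n16902
theorem D17493 : act 3 n16902 = n17493 := rfl
theorem F68971 : act 0 n17493 = n17492 := d2_1 D17493 (iv D17492) (iv F66827)
theorem F68972 : act 1 n17493 = n16911 := d9_1 D17493 (iv D16911) (iv F66828)
theorem F68973 : act 5 n17493 = n17430 := d22_2 (iv F66831) D17493 (iv D17430)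
theorem F68974 : act 6 n17493 = n17183 := d23_2 (iv F66832) D17493 (iv D17183)
theorem F68975 : act 7 n17493 = n17191 := d24_2 D16902 D17493 (iv D17191) (iv D16599) (iv F64347)
theorem F68976 : act 8 n17493 = n16903 := d25_2 (iv F66833) D17493 (iv D16903)
def n17494 : Q := act 2 n16903
theorem D17494 : act 2 n16903 = n17494 := rfl
theorem F68977 : act 3 n17494 = n17494 := d15_2 D16903 D17494 (iv D17494) (iv D16903) F64352
theorem F68978 : act 7 n17494 = n16905 := d19_2 (iv F66835) D17494 (iv D16905)
def n17495 : Q := act 4 n16903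
theorem D17495 : act 4 n16903 = n17495 := rfl
theorem F68979 : act 1 n17495 = n16912 := d10_1 D17495 (iv D16912) (iv F66834)
theorem F68980 : act 3 n17495 = n17336 := d21_1 D17495 (iv D17336) (iv D16735) (iv F64353) D16903
theorem F68981 : act 7 n17495 = n16906 := d28_2 (iv F66835) D17495 (iv D16906)
def n17496 : Q := act 2 n16904
theorem D17496 : act 2 n16904 = n17496 := rfl
theorem F68982 : act 3 n17496 = n16916 := d15_2 D16904 D17496 (iv D16916) (iv D16283) (iv F64355)
theorem F68983 : act 5 n17496 = n16905 := d17_2 (iv F66837) D17496 (iv D16905)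
def n17497 : Q := act 4 n16904
theorem D17497 : act 4 n16904 = n17497 := rfl
theorem F68984 : act 1 n17497 = n16913 := d10_1 D17497 (iv D16913) (iv F66836)
theorem F68985 : act 3 n17497 = n16975 := d21_1 D17497 (iv D16975) (iv D16341) (iv F64356) D16904
def n17498 : Q := act 4 n16905
theorem D17498 : act 4 n16905 = n17498 := rfl
theorem F68986 : act 2 n17498 = n16906 := d16_1 D17498 (iv D16906) D16905
def n17499 : Q := act 5 n16906
theorem D17499 : act 5 n16906 = n17499 := rfl
theorem F68987 : act 1 n17499 = n16914 := d11_1 D17499 (iv D16914) (iv F66839)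
theorem F68988 : act 3 n17499 = n16907 := d22_1 D17499 (iv D16907) (iv F66840)
def n17500 : Q := act 6 n16907
theorem D17500 : act 6 n16907 = n17500 := rfl
theorem F68989 : act 1 n17500 = n16915 := d12_1 D17500 (iv D16915) (iv F66841)
theorem F68990 : act 4 n17500 = n16977 := d27_1 D17500 (iv D16977) (iv F66842)
theorem F68991 : act 7 n17500 = n17343 := d33_2 (iv F66843) D17500 (iv D17343)
def n17501 : Q := act 3 n16908
theorem D17501 : act 3 n16908 = n17501 := rfl
theorem F68992 : act 2 n17501 = n17464 := d15_1 D17501 (iv D17464) F66675 (iv F64385) (iv F66844)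
theorem F68993 : act 5 n17501 = n17344 := d22_2 (iv F66846) D17501 (iv D17344)
theorem F68994 : act 7 n17501 = n17142 := d24_2 D16908 D17501 (iv D17142) (iv D16542) (iv F64362)
def n17502 : Q := act 3 n16909
theorem D17502 : act 3 n16909 = n17502 := rfl
theorem F68995 : act 0 n17502 = n17252 := d2_1 D17502 (iv D17252) (iv F66847)
theorem F68996 : act 1 n17502 = n17430 := d9_1 D17502 (iv D17430) (iv F66848)
theorem F68997 : act 2 n17502 = n17256 := d15_1 D17502 (iv D17256) F65894 (iv F64390) (iv F66849)
theorem F68998 : act 5 n17502 = n16911 := d22_2 (iv F66850) D17502 (iv D16911)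
theorem F68999 : act 6 n17502 = n17393 := d23_2 (iv F66851) D17502 (iv D17393)
theorem F69000 : act 7 n17502 = n17190 := d24_2 D16909 D17502 (iv D17190) (iv D16598) (iv F64368)
theorem F69001 : act 8 n17502 = n16910 := d25_2 (iv F66852) D17502 (iv D16910)
def n17503 : Q := act 4 n16910
theorem D17503 : act 4 n16910 = n17503 := rfl
theorem F69002 : act 7 n17503 = n16913 := d28_2 (iv F66854) D17503 (iv D16913)
def n17504 : Q := act 4 n16911
theorem D17504 : act 4 n16911 = n17504 := rfl
theorem F69003 : act 0 n17504 = n17254 := d3_1 D17504 (iv D17254) (iv F66855)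
theorem F69004 : act 3 n17504 = n17350 := d21_1 D17504 (iv D17350) (iv D16745) (iv F64375) D16911
theorem F69005 : act 6 n17504 = n17187 := d27_2 (iv F66856) D17504 (iv D17187)
theorem F69006 : act 7 n17504 = n17194 := d28_2 (iv F66857) D17504 (iv D17194)
theorem F69007 : act 8 n17504 = n16912 := d29_2 (iv F66858) D17504 (iv D16912)
def n17505 : Q := act 5 n16912
theorem D17505 : act 5 n16912 = n17505 := rfl
theorem F69008 : act 3 n17505 = n17353 := d22_1 D17505 (iv D17353) (iv F66859)
theorem F69009 : act 7 n17505 = n16914 := d31_2 (iv F66860) D17505 (iv D16914)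
def n17506 : Q := act 5 n16913
theorem D17506 : act 5 n16913 = n17506 := rfl
theorem F69010 : act 3 n17506 = n17156 := d22_1 D17506 (iv D17156) (iv F66861)
theorem F69011 : act 4 n17506 = n16914 := d26_1 D17506 (iv D16914) (iv D16279) (iv F64379) D16913
def n17507 : Q := act 6 n16914
theorem D17507 : act 6 n16914 = n17507 := rfl
theorem F69012 : act 3 n17507 = n16915 := d23_1 D17507 (iv D16915) (iv F66862)
def n17508 : Q := act 2 n16918
theorem D17508 : act 2 n16918 = n17508 := rfl
theorem F69013 : act 0 n17508 = n17374 := d1_1 D17508 (iv F68618) F68617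
theorem F69014 : act 3 n17508 = n16920 := d15_2 D16918 D17508 (iv D16920) (iv D16288) (iv F64405)
theorem F69015 : act 5 n17508 = n17172 := d17_2 F67214 D17508 F67696
theorem F69016 : act 6 n17508 = n16937 := d18_2 (iv F66875) D17508 (iv D16937)
def n17509 : Q := act 4 n16918
theorem D17509 : act 4 n16918 = n17509 := rfl
theorem F69017 : act 1 n17509 = n17125 := d10_1 D17509 (iv D17125) (iv F66874)
theorem F69018 : act 3 n17509 = n16919 := d21_1 D17509 (iv D16919) (iv D16287) (iv F64406) D16918
theorem F69019 : act 6 n17509 = n16938 := d27_2 (iv F66875) D17509 (iv D16938)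
def n17510 : Q := act 5 n16919
theorem D17510 : act 5 n16919 = n17510 := rfl
theorem F69020 : act 1 n17510 = n17126 := d11_1 D17510 (iv D17126) (iv F66876)
theorem F69021 : act 7 n17510 = n16944 := d31_2 (iv F66878) D17510 (iv D16944)
def n17511 : Q := act 1 n16920
theorem D17511 : act 1 n16920 = n17511 := rfl
theorem F69022 : act 2 n17511 = n17029 := d8_2 D16920 D17511 (iv D17029) (iv D16404) (iv F64412)
theorem F69023 : act 4 n17511 = n17245 := d10_2 (iv F66880) D17511 (iv D17245)
theorem F69024 : act 5 n17511 = n17171 := d11_2 (iv F66881) D17511 F67693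
theorem F69025 : act 6 n17511 = n16943 := d12_2 (iv F66882) D17511 (iv D16943)
theorem F69026 : act 7 n17511 = n17056 := d13_2 (iv F66883) D17511 (iv D17056)
def n17512 : Q := act 7 n16921
theorem D17512 : act 7 n16921 = n17512 := rfl
theorem F69027 : act 0 n17512 = n16926 := d6_1 D17512 (iv D16926) (iv F66884)
theorem F69028 : act 2 n17512 = n17512 := d19_1 D17512 (iv D17512) F66885
theorem F69029 : act 4 n17512 = n16946 := d28_1 D17512 (iv D16946) (iv F66887)
theorem F69030 : act 6 n17512 = n17072 := d33_1 D17512 (iv D17072) (iv F66888)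
def n17513 : Q := act 3 n16922
theorem D17513 : act 3 n16922 = n17513 := rfl
theorem F69031 : act 0 n17513 = n16928 := d2_1 D17513 (iv D16928) (iv F66889)
theorem F69032 : act 6 n17513 = n17074 := d23_2 (iv F66892) D17513 (iv D17074)
theorem F69033 : act 8 n17513 = n17395 := d25_2 (iv F66893) D17513 (iv D17395)
def n17514 : Q := act 4 n16923
theorem D17514 : act 4 n16923 = n17514 := rfl
theorem F69034 : act 0 n17514 = n16929 := d3_1 D17514 (iv D16929) (iv F66894)
theorem F69035 : act 2 n17514 = n17504 := d16_1 D17514 (iv D17504) (iv F66895)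
theorem F69036 : act 6 n17514 = n17075 := d27_2 (iv F66896) D17514 (iv D17075)
theorem F69037 : act 7 n17514 = n16948 := d28_2 (iv F66897) D17514 (iv D16948)
theorem F69038 : act 8 n17514 = n17396 := d29_2 (iv F66898) D17514 (iv D17396)
def n17515 : Q := act 7 n16924
theorem D17515 : act 7 n16924 = n17515 := rfl
theorem F69039 : act 1 n17515 = n16932 := d13_1 D17515 (iv D16932) (iv F66899)
theorem F69040 : act 2 n17515 = n17515 := d19_1 D17515 (iv D17515) F66900
theorem F69041 : act 5 n17515 = n16926 := d31_1 D17515 (iv D16926) (iv F66902)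
theorem F69042 : act 6 n17515 = n17399 := d33_1 D17515 (iv D17399) (iv F66903)
theorem F69043 : act 8 n17515 = n17512 := d35_2 D16924 D17515 (iv D17512) (iv D16921) F64433
def n17516 : Q := act 7 n16925
theorem D17516 : act 7 n16925 = n17516 := rfl
theorem F69044 : act 0 n17516 = n17515 := d6_1 D17516 (iv D17515) (iv F66904)
theorem F69045 : act 1 n17516 = n16933 := d13_1 D17516 (iv D16933) (iv F66905)
theorem F69046 : act 2 n17516 = n17516 := d19_1 D17516 (iv D17516) F66906
theorem F69047 : act 4 n17516 = n16952 := d28_1 D17516 (iv D16952) (iv F66908)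
theorem F69048 : act 5 n17516 = n17512 := d31_1 D17516 (iv D17512) (iv F66909)
theorem F69049 : act 6 n17516 = n17120 := d33_1 D17516 (iv D17120) (iv F66910)
theorem F69050 : act 8 n17516 = n16926 := d35_2 D16925 D17516 (iv D16926) (iv D16294) D16293
def n17517 : Q := act 3 n16926
theorem D17517 : act 3 n16926 = n17517 := rfl
theorem F69051 : act 1 n17517 = n16934 := d9_1 D17517 (iv D16934) (iv F66911)
theorem F69052 : act 6 n17517 = n17121 := d23_2 (iv F66914) D17517 (iv D17121)
theorem F69053 : act 7 n17517 = n16928 := d24_2 D16926 D17517 (iv D16928) (iv D16296) (iv F64443)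
def n17518 : Q := act 3 n16927
theorem D17518 : act 3 n16927 = n17518 := rfl
theorem F69054 : act 1 n17518 = n16936 := d9_1 D17518 (iv D16936) (iv F66915)
theorem F69055 : act 5 n17518 = n16928 := d22_2 (iv F66918) D17518 (iv D16928)
theorem F69056 : act 8 n17518 = n17023 := d25_2 (iv F66919) D17518 (iv D17023)
def n17519 : Q := act 2 n16928
theorem D17519 : act 2 n16928 = n17519 := rfl
theorem F69057 : act 3 n17519 = n17030 := d15_2 D16928 D17519 (iv D17030) (iv D16408) (iv F64451)
theorem F69058 : act 6 n17519 = n17124 := d18_2 (iv F66921) D17519 (iv D17124)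
theorem F69059 : act 8 n17519 = n17508 := d20_2 (iv F66922) D17519 (iv D17508)
def n17520 : Q := act 4 n16928
theorem D17520 : act 4 n16928 = n17520 := rfl
theorem F69060 : act 1 n17520 = n16938 := d10_1 D17520 (iv D16938) (iv F66920)
theorem F69061 : act 3 n17520 = n16929 := d21_1 D17520 (iv D16929) (iv D16297) (iv F64452) D16928
theorem F69062 : act 6 n17520 = n17125 := d27_2 (iv F66921) D17520 (iv D17125)
theorem F69063 : act 8 n17520 = n17509 := d29_2 (iv F66922) D17520 (iv D17509)
def n17521 : Q := act 5 n16929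
theorem D17521 : act 5 n16929 = n17521 := rfl
theorem F69064 : act 1 n17521 = n16939 := d11_1 D17521 (iv D16939) (iv F66923)
theorem F69065 : act 7 n17521 = n16957 := d31_2 (iv F66925) D17521 (iv D16957)
theorem F69066 : act 8 n17521 = n17510 := d32_2 (iv F66926) D17521 (iv D17510)
def n17522 : Q := act 7 n16930
theorem D17522 : act 7 n16930 = n17522 := rfl
theorem F69067 : act 0 n17522 = n17262 := d6_1 D17522 (iv D17262) (iv F66927)
theorem F69068 : act 2 n17522 = n17057 := d19_1 D17522 (iv D17057) (iv F66928)
theorem F69069 : act 4 n17522 = n16932 := d28_1 D17522 (iv D16932) (iv F66930)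
theorem F69070 : act 5 n17522 = n16958 := d31_1 D17522 (iv D16958) (iv F66931)
theorem F69071 : act 6 n17522 = n17185 := d33_1 D17522 (iv D17185) (iv F66932)
theorem F69072 : act 8 n17522 = n17310 := d35_2 D16930 D17522 (iv D17310) (iv D16713) F64464
def n17523 : Q := act 7 n16931
theorem D17523 : act 7 n16931 = n17523 := rfl
theorem F69073 : act 0 n17523 = n17122 := d6_1 D17523 (iv D17122) (iv F66933)
theorem F69074 : act 1 n17523 = n17512 := d13_1 D17523 (iv D17512) (iv F66934)
theorem F69075 : act 2 n17523 = n17058 := d19_1 D17523 (iv D17058) (iv F66935)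
theorem F69076 : act 4 n17523 = n17310 := d28_1 D17523 (iv D17310) (iv F66937)
theorem F69077 : act 5 n17523 = n16933 := d31_1 D17523 (iv D16933) (iv F66938)
theorem F69078 : act 6 n17523 = n17073 := d33_1 D17523 (iv D17073) (iv F66939)
theorem F69079 : act 8 n17523 = n16932 := d35_2 D16931 D17523 (iv D16932) (iv D16300) D16299
def n17524 : Q := act 3 n16932
theorem D17524 : act 3 n16932 = n17524 := rfl
theorem F69080 : act 5 n17524 = n16934 := d22_2 (iv F66941) D17524 (iv D16934)
theorem F69081 : act 6 n17524 = n17405 := d23_2 (iv F66942) D17524 (iv D17405)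
theorem F69082 : act 7 n17524 = n16936 := d24_2 D16932 D17524 (iv D16936) (iv D16304) (iv F64473)
def n17525 : Q := act 3 n16933
theorem D17525 : act 3 n16933 = n17525 := rfl
theorem F69083 : act 8 n17525 = n16934 := d25_2 (iv F66945) D17525 (iv D16934)
def n17526 : Q := act 2 n16934
theorem D17526 : act 2 n16934 = n17526 := rfl
theorem F69084 : act 3 n17526 = n17061 := d15_2 D16934 D17526 (iv D17061) (iv D16459) (iv F64478)
theorem F69085 : act 7 n17526 = n16937 := d19_2 (iv F66946) D17526 (iv D16937)
def n17527 : Q := act 4 n16934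
theorem D17527 : act 4 n16934 = n17527 := rfl
theorem F69086 : act 3 n17527 = n16963 := d21_1 D17527 (iv D16963) (iv D16329) (iv F64479) D16934
theorem F69087 : act 7 n17527 = n16938 := d28_2 (iv F66946) D17527 (iv D16938)
def n17528 : Q := act 3 n16935
theorem D17528 : act 3 n16935 = n17528 := rfl
theorem F69088 : act 0 n17528 = n17524 := d2_1 D17528 (iv D17524) (iv F66947)
theorem F69089 : act 5 n17528 = n17404 := d22_2 (iv F66949) D17528 (iv D17404)
theorem F69090 : act 6 n17528 = n16936 := d23_2 (iv F66950) D17528 (iv D16936)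
theorem F69091 : act 7 n17528 = n17405 := d24_2 D16935 D17528 (iv D17405) (iv D16814) (iv F64482)
def n17529 : Q := act 2 n16936
theorem D17529 : act 2 n16936 = n17529 := rfl
theorem F69092 : act 3 n17529 = n16941 := d15_2 D16936 D17529 (iv D16941) (iv D16308) (iv F64485)
theorem F69093 : act 5 n17529 = n16937 := d17_2 (iv F66951) D17529 (iv D16937)
def n17530 : Q := act 4 n16936
theorem D17530 : act 4 n16936 = n17530 := rfl
def n17531 : Q := act 1 n16937
theorem D17531 : act 1 n16937 = n17531 := rfl
theorem F69094 : act 3 n17531 = n16943 := d9_2 (iv F66952) D17531 (iv D16943)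
def n17532 : Q := act 4 n16937
theorem D17532 : act 4 n16937 = n17532 := rfl
theorem F69095 : act 2 n17532 = n16938 := d16_1 D17532 (iv D16938) D16937
def n17533 : Q := act 5 n16938
theorem D17533 : act 5 n16938 = n17533 := rfl
theorem F69096 : act 3 n17533 = n16939 := d22_1 D17533 (iv D16939) (iv F66953)
def n17534 : Q := act 6 n16939
theorem D17534 : act 6 n16939 = n17534 := rfl
theorem F69097 : act 7 n17534 = n16967 := d33_2 (iv F66954) D17534 (iv D16967)
def n17535 : Q := act 2 n16940
theorem D17535 : act 2 n16940 = n17535 := rfl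
theorem F69098 : act 5 n17535 = n17049 := d17_2 (iv F66956) D17535 F67321
theorem F69099 : act 6 n17535 = n16941 := d18_2 (iv F66957) D17535 (iv D16941)
theorem F69100 : act 7 n17535 = n17051 := d19_2 (iv F66958) D17535 F67328
def n17536 : Q := act 1 n16941
theorem D17536 : act 1 n16941 = n17536 := rfl
theorem F69101 : act 2 n17536 = n17032 := d8_2 D16941 D17536 (iv D17032) (iv D16412) (iv F64490)
theorem F69102 : act 5 n17536 = n16943 := d11_2 (iv F66959) D17536 (iv D16943)
theorem F69103 : act 7 n17536 = n17065 := d13_2 (iv F66960) D17536 (iv D17065)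
theorem F69104 : act 4 n17535 = n17536 := d28_3 F69103 (iv F67397) (iv F69100)
def n17537 : Q := act 4 n16941
theorem D17537 : act 4 n16941 = n17537 := rfl
theorem F69105 : act 1 n17537 = n17535 := d10_1 D17537 F69104 (iv D17536)
theorem F69106 : act 2 n17537 = n16942 := d16_1 D17537 (iv D16942) D16941
theorem F69107 : act 6 n17537 = n17536 := d27_2 F69099 D17537 (iv F69104)
theorem F69108 : act 7 n17537 = n17066 := d28_2 (iv F66960) D17537 (iv D17066)
def n17538 : Q := act 0 n16943
theorem D17538 : act 0 n16943 = n17538 := rfl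
theorem F69109 : act 2 n17538 = n17033 := d1_2 (iv F66963) D17538 (iv D17033)
theorem F69110 : act 7 n17538 = n17067 := d6_2 (iv F66964) D17538 (iv D17067)
def n17539 : Q := act 6 n16944
theorem D17539 : act 6 n16944 = n17539 := rfl
theorem F69111 : act 1 n17539 = n17141 := d12_1 D17539 (iv D17141) (iv F66965)
theorem F69112 : act 5 n17539 = n16967 := d30_1 D17539 (iv D16967) (iv D16333) (iv F64500) D16944
theorem F69113 : act 8 n17539 = n16977 := d34_2 (iv F66966) D17539 (iv D16977)
def n17540 : Q := act 7 n16945
theorem D17540 : act 7 n16945 = n17540 := rfl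
theorem F69114 : act 0 n17540 = n16952 := d6_1 D17540 (iv D16952) (iv F66967)
theorem F69115 : act 1 n17540 = n17522 := d13_1 D17540 (iv D17522) (iv F66968)
theorem F69116 : act 2 n17540 = n17540 := d19_1 D17540 (iv D17540) F66969
theorem F69117 : act 4 n17540 = n17515 := d28_1 D17540 (iv D17515) (iv F66971)
theorem F69118 : act 6 n17540 = n17080 := d33_1 D17540 (iv D17080) (iv F66972)
theorem F69119 : act 8 n17540 = n16946 := d35_2 D16945 D17540 (iv D16946) (iv D16313) D16312
def n17541 : Q := act 3 n16946
theorem D17541 : act 3 n16946 = n17541 := rfl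
theorem F69120 : act 0 n17541 = n16953 := d2_1 D17541 (iv D16953) (iv F66973)
theorem F69121 : act 6 n17541 = n17081 := d23_2 (iv F66975) D17541 (iv D17081)
theorem F69122 : act 7 n17541 = n16947 := d24_2 D16946 D17541 (iv D16947) (iv D16314) (iv F64510)
def n17542 : Q := act 2 n16947
theorem D17542 : act 2 n16947 = n17542 := rfl
theorem F69123 : act 0 n17542 = n16955 := d1_1 D17542 (iv D16955) (iv F66976)
theorem F69124 : act 3 n17542 = n17024 := d15_2 D16947 D17542 (iv D17024) (iv D16393) (iv F64513)
theorem F69125 : act 6 n17542 = n17082 := d18_2 (iv F66977) D17542 (iv D17082)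
theorem F69126 : act 8 n17542 = n16984 := d20_2 (iv F66978) D17542 (iv D16984)
def n17543 : Q := act 4 n16947
theorem D17543 : act 4 n16947 = n17543 := rfl
theorem F69127 : act 0 n17543 = n16956 := d3_1 D17543 (iv D16956) (iv F66976)
theorem F69128 : act 3 n17543 = n16948 := d21_1 D17543 (iv D16948) (iv D16315) (iv F64514) D16947
theorem F69129 : act 6 n17543 = n17083 := d27_2 (iv F66977) D17543 (iv D17083)
theorem F69130 : act 8 n17543 = n16985 := d29_2 (iv F66978) D17543 (iv D16985)
def n17544 : Q := act 5 n16948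
theorem D17544 : act 5 n16948 = n17544 := rfl
theorem F69131 : act 0 n17544 = n16957 := d4_1 D17544 (iv D16957) (iv F66979)
theorem F69132 : act 8 n17544 = n16986 := d32_2 (iv F66981) D17544 (iv D16986)
def n17545 : Q := act 7 n16949
theorem D17545 : act 7 n16949 = n17545 := rfl
theorem F69133 : act 1 n17545 = n16958 := d13_1 D17545 (iv D16958) (iv F66982)
theorem F69134 : act 2 n17545 = n17545 := d19_1 D17545 (iv D17545) F66983
theorem F69135 : act 4 n17545 = n16951 := d28_1 D17545 (iv D16951) (iv F66984)
theorem F69136 : act 5 n17545 = n17540 := d31_1 D17545 (iv D17540) (iv F66985)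
theorem F69137 : act 6 n17545 = n17332 := d33_1 D17545 (iv D17332) (iv F66986)
theorem F69138 : act 8 n17545 = n17331 := d35_2 D16949 D17545 (iv D17331) (iv D16731) F64524
def n17546 : Q := act 7 n16950
theorem D17546 : act 7 n16950 = n17546 := rfl
theorem F69139 : act 0 n17546 = n17545 := d6_1 D17546 (iv D17545) (iv F66987)
theorem F69140 : act 1 n17546 = n16960 := d13_1 D17546 (iv D16960) (iv F66988)
theorem F69141 : act 2 n17546 = n17546 := d19_1 D17546 (iv D17546) F66989
theorem F69142 : act 4 n17546 = n17331 := d28_1 D17546 (iv D17331) (iv F66991)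
theorem F69143 : act 5 n17546 = n16952 := d31_1 D17546 (iv D16952) (iv F66992)
theorem F69144 : act 6 n17546 = n17330 := d33_1 D17546 (iv D17330) (iv F66993)
theorem F69145 : act 8 n17546 = n16951 := d35_2 D16950 D17546 (iv D16951) (iv D16318) D16317
def n17547 : Q := act 3 n16951
theorem D17547 : act 3 n16951 = n17547 := rfl
theorem F69146 : act 1 n17547 = n16961 := d9_1 D17547 (iv D16961) (iv F66994)
theorem F69147 : act 5 n17547 = n16953 := d22_2 (iv F66996) D17547 (iv D16953)
theorem F69148 : act 7 n17547 = n16954 := d24_2 D16951 D17547 (iv D16954) (iv D16321) (iv F64534)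
def n17548 : Q := act 3 n16952
theorem D17548 : act 3 n16952 = n17548 := rfl
theorem F69149 : act 1 n17548 = n16962 := d9_1 D17548 (iv D16962) (iv F66997)
theorem F69150 : act 6 n17548 = n17134 := d23_2 (iv F66999) D17548 (iv D17134)
theorem F69151 : act 7 n17548 = n16991 := d24_2 D16952 D17548 (iv D16991) (iv D16356) (iv F64538)
theorem F69152 : act 8 n17548 = n16953 := d25_2 (iv F67000) D17548 (iv D16953)
def n17549 : Q := act 2 n16953
theorem D17549 : act 2 n16953 = n17549 := rfl
theorem F69153 : act 3 n17549 = n17549 := d15_2 D16953 D17549 (iv D17549) (iv D16953) F64541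
theorem F69154 : act 6 n17549 = n17135 := d18_2 (iv F67002) D17549 (iv D17135)
theorem F69155 : act 7 n17549 = n16955 := d19_2 (iv F67003) D17549 (iv D16955)
def n17550 : Q := act 4 n16953
theorem D17550 : act 4 n16953 = n17550 := rfl
theorem F69156 : act 1 n17550 = n16963 := d10_1 D17550 (iv D16963) (iv F67001)
theorem F69157 : act 6 n17550 = n17136 := d27_2 (iv F67002) D17550 (iv D17136)
theorem F69158 : act 7 n17550 = n16956 := d28_2 (iv F67003) D17550 (iv D16956)
def n17551 : Q := act 2 n16954
theorem D17551 : act 2 n16954 = n17551 := rfl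
theorem F69159 : act 3 n17551 = n17025 := d15_2 D16954 D17551 (iv D17025) (iv D16394) (iv F64544)
theorem F69160 : act 5 n17551 = n16955 := d17_2 (iv F67005) D17551 (iv D16955)
theorem F69161 : act 8 n17551 = n16995 := d20_2 (iv F67006) D17551 (iv D16995)
def n17552 : Q := act 4 n16954
theorem D17552 : act 4 n16954 = n17552 := rfl
theorem F69162 : act 1 n17552 = n16965 := d10_1 D17552 (iv D16965) (iv F67004)
theorem F69163 : act 8 n17552 = n16996 := d29_2 (iv F67006) D17552 (iv D16996)
def n17553 : Q := act 4 n16955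
theorem D17553 : act 4 n16955 = n17553 := rfl
theorem F69164 : act 2 n17553 = n16956 := d16_1 D17553 (iv D16956) D16955
theorem F69165 : act 6 n17553 = n17139 := d27_2 (iv F67008) D17553 (iv D17139)
theorem F69166 : act 8 n17553 = n16998 := d29_2 (iv F67009) D17553 (iv D16998)
def n17554 : Q := act 5 n16956
theorem D17554 : act 5 n16956 = n17554 := rfl
theorem F69167 : act 1 n17554 = n16966 := d11_1 D17554 (iv D16966) (iv F67010)
theorem F69168 : act 3 n17554 = n16957 := d22_1 D17554 (iv D16957) (iv F67011)
theorem F69169 : act 8 n17554 = n16999 := d32_2 (iv F67013) D17554 (iv D16999)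
def n17555 : Q := act 6 n16957
theorem D17555 : act 6 n16957 = n17555 := rfl
theorem F69170 : act 1 n17555 = n16967 := d12_1 D17555 (iv D16967) (iv F67014)
theorem F69171 : act 5 n17555 = n17141 := d30_1 D17555 (iv D17141) (iv D16540) (iv F64551) D16957
theorem F69172 : act 8 n17555 = n17000 := d34_2 (iv F67015) D17555 (iv D17000)
def n17556 : Q := act 3 n16958
theorem D17556 : act 3 n16958 = n17556 := rfl
theorem F69173 : act 6 n17556 = n17346 := d23_2 (iv F67018) D17556 (iv D17346)
theorem F69174 : act 8 n17556 = n17345 := d25_2 (iv F67019) D17556 (iv D17345)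
def n17557 : Q := act 3 n16959
theorem D17557 : act 3 n16959 = n17557 := rfl
theorem F69175 : act 6 n17557 = n16961 := d23_2 (iv F67022) D17557 (iv D16961)
theorem F69176 : act 7 n17557 = n16964 := d24_2 D16959 D17557 (iv D16964) (iv D16330) (iv F64557)
theorem F69177 : act 8 n17557 = n17344 := d25_2 (iv F67023) D17557 (iv D17344)
def n17558 : Q := act 3 n16960
theorem D17558 : act 3 n16960 = n17558 := rfl
theorem F69178 : act 5 n17558 = n16962 := d22_2 (iv F67026) D17558 (iv D16962)
theorem F69179 : act 6 n17558 = n17344 := d23_2 (iv F67027) D17558 (iv D17344)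
theorem F69180 : act 7 n17558 = n17003 := d24_2 D16960 D17558 (iv D17003) (iv D16365) (iv F64561)
theorem F69181 : act 8 n17558 = n16961 := d25_2 (iv F67028) D17558 (iv D16961)
def n17559 : Q := act 4 n16961
theorem D17559 : act 4 n16961 = n17559 := rfl
theorem F69182 : act 7 n17559 = n16965 := d28_2 (iv F67030) D17559 (iv D16965)
def n17560 : Q := act 4 n16962
theorem D17560 : act 4 n16962 = n17560 := rfl
theorem F69183 : act 7 n17560 = n17007 := d28_2 (iv F67031) D17560 (iv D17007)
theorem F69184 : act 8 n17560 = n16963 := d29_2 (iv F67032) D17560 (iv D16963)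
def n17561 : Q := act 5 n16963
theorem D17561 : act 5 n16963 = n17561 := rfl
theorem F69185 : act 7 n17561 = n16966 := d31_2 (iv F67033) D17561 (iv D16966)
def n17562 : Q := act 4 n16964
theorem D17562 : act 4 n16964 = n17562 := rfl
theorem F69186 : act 6 n17562 = n16965 := d27_2 (iv F67034) D17562 (iv D16965)
theorem F69187 : act 8 n17562 = n17011 := d29_2 (iv F67035) D17562 (iv D17011)
def n17563 : Q := act 5 n16965
theorem D17563 : act 5 n16965 = n17563 := rfl
theorem F69188 : act 4 n17563 = n16966 := d26_1 D17563 (iv D16966) (iv D16332) (iv F64573) D16965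
theorem F69189 : act 8 n17563 = n17013 := d32_2 (iv F67036) D17563 (iv D17013)
def n17564 : Q := act 6 n16966
theorem D17564 : act 6 n16966 = n17564 := rfl
theorem F69190 : act 3 n17564 = n16967 := d23_1 D17564 (iv D16967) (iv F67037)
theorem F69191 : act 8 n17564 = n17016 := d34_2 (iv F67038) D17564 (iv D17016)
def n17565 : Q := act 3 n16968
theorem D17565 : act 3 n16968 = n17565 := rfl
theorem F69192 : act 1 n17565 = n17142 := d9_1 D17565 (iv D17142) (iv F67040)
theorem F69193 : act 6 n17565 = n17144 := d23_2 (iv F67043) D17565 (iv D17144)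
theorem F69194 : act 8 n17565 = n17143 := d25_2 (iv F67044) D17565 (iv D17143)
def n17566 : Q := act 3 n16969
theorem D17566 : act 3 n16969 = n17566 := rfl
theorem F69195 : act 1 n17566 = n17143 := d9_1 D17566 (iv D17143) (iv F67045)
theorem F69196 : act 5 n17566 = n17002 := d22_2 (iv F67048) D17566 (iv D17002)
theorem F69197 : act 6 n17566 = n16971 := d23_2 (iv F67049) D17566 (iv D16971)
theorem F69198 : act 7 n17566 = n16974 := d24_2 D16969 D17566 (iv D16974) (iv D16340) (iv F64584)
theorem F69199 : act 8 n17566 = n17142 := d25_2 (iv F67050) D17566 (iv D17142)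
def n17567 : Q := act 3 n16970
theorem D17567 : act 3 n16970 = n17567 := rfl
theorem F69200 : act 1 n17567 = n17144 := d9_1 D17567 (iv D17144) (iv F67051)
theorem F69201 : act 5 n17567 = n16972 := d22_2 (iv F67054) D17567 (iv D16972)
theorem F69202 : act 6 n17567 = n17142 := d23_2 (iv F67055) D17567 (iv D17142)
theorem F69203 : act 8 n17567 = n16971 := d25_2 (iv F67056) D17567 (iv D16971)
def n17568 : Q := act 4 n16971
theorem D17568 : act 4 n16971 = n17568 := rfl
theorem F69204 : act 1 n17568 = n17146 := d10_1 D17568 (iv D17146) (iv F67057)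
theorem F69205 : act 7 n17568 = n16975 := d28_2 (iv F67059) D17568 (iv D16975)
def n17569 : Q := act 4 n16972
theorem D17569 : act 4 n16972 = n17569 := rfl
theorem F69206 : act 1 n17569 = n17148 := d10_1 D17569 (iv D17148) (iv F67060)
theorem F69207 : act 6 n17569 = n17007 := d27_2 (iv F67061) D17569 (iv D17007)
theorem F69208 : act 8 n17569 = n16973 := d29_2 (iv F67062) D17569 (iv D16973)
def n17570 : Q := act 5 n16973
theorem D17570 : act 5 n16973 = n17570 := rfl
theorem F69209 : act 1 n17570 = n17151 := d11_1 D17570 (iv D17151) (iv F67063)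
theorem F69210 : act 7 n17570 = n16976 := d31_2 (iv F67065) D17570 (iv D16976)
def n17571 : Q := act 4 n16974
theorem D17571 : act 4 n16974 = n17571 := rfl
theorem F69211 : act 1 n17571 = n17153 := d10_1 D17571 (iv D17153) (iv F67066)
theorem F69212 : act 6 n17571 = n16975 := d27_2 (iv F67068) D17571 (iv D16975)
def n17572 : Q := act 5 n16975
theorem D17572 : act 5 n16975 = n17572 := rfl
theorem F69213 : act 1 n17572 = n17156 := d11_1 D17572 (iv D17156) (iv F67069)
theorem F69214 : act 4 n17572 = n16976 := d26_1 D17572 (iv D16976) (iv D16342) (iv F64608) D16975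
def n17573 : Q := act 6 n16976
theorem D17573 : act 6 n16976 = n17573 := rfl
theorem F69215 : act 1 n17573 = n17160 := d12_1 D17573 (iv D17160) (iv F67070)
theorem F69216 : act 3 n17573 = n16977 := d23_1 D17573 (iv D16977) (iv F67071)
theorem F69217 : act 5 n17573 = n17016 := d30_1 D17573 (iv D17016) (iv D16375) (iv F64611) D16976
def n17574 : Q := act 7 n16978
theorem D17574 : act 7 n16978 = n17574 := rfl
theorem F69218 : act 0 n17574 = n16987 := d6_1 D17574 (iv D16987) (iv F67074)
theorem F69219 : act 1 n17574 = n17287 := d13_1 D17574 (iv D17287) (iv F67075)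
theorem F69220 : act 2 n17574 = n17034 := d19_1 D17574 (iv D17034) (iv F67076)
theorem F69221 : act 4 n17574 = n16980 := d28_1 D17574 (iv D16980) (iv F67078)
theorem F69222 : act 5 n17574 = n17279 := d31_1 D17574 (iv D17279) (iv F67079)
theorem F69223 : act 8 n17574 = n17278 := d35_2 D16978 D17574 (iv D17278) (iv D16686) F64618
def n17575 : Q := act 7 n16979
theorem D17575 : act 7 n16979 = n17575 := rfl
theorem F69224 : act 0 n17575 = n16989 := d6_1 D17575 (iv D16989) (iv F67080)
theorem F69225 : act 1 n17575 = n17285 := d13_1 D17575 (iv D17285) (iv F67081)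
theorem F69226 : act 2 n17575 = n17036 := d19_1 D17575 (iv D17036) (iv F67082)
theorem F69227 : act 4 n17575 = n17278 := d28_1 D17575 (iv D17278) (iv F67084)
theorem F69228 : act 5 n17575 = n16981 := d31_1 D17575 (iv D16981) (iv F67085)
theorem F69229 : act 6 n17575 = n17574 := d33_1 D17575 (iv D17574) (iv F67086)
theorem F69230 : act 8 n17575 = n16980 := d35_2 D16979 D17575 (iv D16980) (iv D16346) D16345
def n17576 : Q := act 3 n16980
theorem D17576 : act 3 n16980 = n17576 := rfl
theorem F69231 : act 0 n17576 = n16990 := d2_1 D17576 (iv D16990) (iv F67087)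
theorem F69232 : act 5 n17576 = n16982 := d22_2 (iv F67089) D17576 (iv D16982)
theorem F69233 : act 7 n17576 = n16983 := d24_2 D16980 D17576 (iv D16983) (iv D16349) (iv F64628)
def n17577 : Q := act 3 n16981
theorem D17577 : act 3 n16981 = n17577 := rfl
theorem F69234 : act 0 n17577 = n16991 := d2_1 D17577 (iv D16991) (iv F67090)
theorem F69235 : act 6 n17577 = n17095 := d23_2 (iv F67093) D17577 (iv D17095)
theorem F69236 : act 8 n17577 = n16982 := d25_2 (iv F67094) D17577 (iv D16982)
def n17578 : Q := act 2 n16982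
theorem D17578 : act 2 n16982 = n17578 := rfl
theorem F69237 : act 0 n17578 = n16992 := d1_1 D17578 (iv D16992) (iv F67095)
theorem F69238 : act 3 n17578 = n17039 := d15_2 D16982 D17578 (iv D17039) (iv D16420) (iv F64635)
theorem F69239 : act 6 n17578 = n17096 := d18_2 (iv F67096) D17578 (iv D17096)
theorem F69240 : act 7 n17578 = n16984 := d19_2 (iv F67097) D17578 (iv D16984)
def n17579 : Q := act 4 n16982
theorem D17579 : act 4 n16982 = n17579 := rfl
theorem F69241 : act 0 n17579 = n16993 := d3_1 D17579 (iv D16993) (iv F67095)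
theorem F69242 : act 3 n17579 = n17441 := d21_1 D17579 (iv D17441) (iv D16845) (iv F64636) D16982
theorem F69243 : act 6 n17579 = n17097 := d27_2 (iv F67096) D17579 (iv D17097)
theorem F69244 : act 7 n17579 = n16985 := d28_2 (iv F67097) D17579 (iv D16985)
def n17580 : Q := act 2 n16983
theorem D17580 : act 2 n16983 = n17580 := rfl
theorem F69245 : act 0 n17580 = n16995 := d1_1 D17580 (iv D16995) (iv F67098)
theorem F69246 : act 3 n17580 = n17027 := d15_2 D16983 D17580 (iv D17027) (iv D16397) (iv F64639)
theorem F69247 : act 5 n17580 = n16984 := d17_2 (iv F67099) D17580 (iv D16984)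
def n17581 : Q := act 4 n16983
theorem D17581 : act 4 n16983 = n17581 := rfl
theorem F69248 : act 0 n17581 = n16996 := d3_1 D17581 (iv D16996) (iv F67098)
def n17582 : Q := act 1 n16984
theorem D17582 : act 1 n16984 = n17582 := rfl
theorem F69249 : act 3 n17582 = n17028 := d9_2 (iv F67101) D17582 (iv D17028)
theorem F69250 : act 6 n17582 = n17100 := d12_2 (iv F67102) D17582 (iv D17100)
def n17583 : Q := act 4 n16984
theorem D17583 : act 4 n16984 = n17583 := rfl
theorem F69251 : act 0 n17583 = n16998 := d3_1 D17583 (iv D16998) (iv F67100)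
theorem F69252 : act 2 n17583 = n16985 := d16_1 D17583 (iv D16985) D16984
theorem F69253 : act 6 n17583 = n17101 := d27_2 (iv F67102) D17583 (iv D17101)
def n17584 : Q := act 5 n16985
theorem D17584 : act 5 n16985 = n17584 := rfl
theorem F69254 : act 0 n17584 = n16999 := d4_1 D17584 (iv D16999) (iv F67103)
theorem F69255 : act 3 n17584 = n16986 := d22_1 D17584 (iv D16986) (iv F67104)
def n17585 : Q := act 6 n16986
theorem D17585 : act 6 n16986 = n17585 := rfl
theorem F69256 : act 0 n17585 = n17000 := d5_1 D17585 (iv D17000) (iv F67106)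
theorem F69257 : act 5 n17585 = n17103 := d30_1 D17585 (iv D17103) (iv D16498) (iv F64644) D16986
theorem F69258 : act 7 n17585 = n17444 := d33_2 (iv F67107) D17585 (iv D17444)
def n17586 : Q := act 3 n16987
theorem D17586 : act 3 n16987 = n17586 := rfl
theorem F69259 : act 1 n17586 = n17001 := d9_1 D17586 (iv D17001) (iv F67108)
theorem F69260 : act 5 n17586 = n17565 := d22_2 (iv F67111) D17586 (iv D17565)
def n17587 : Q := act 3 n16988
theorem D17587 : act 3 n16988 = n17587 := rfl
theorem F69261 : act 1 n17587 = n17002 := d9_1 D17587 (iv D17002) (iv F67112)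
theorem F69262 : act 5 n17587 = n17143 := d22_2 (iv F67114) D17587 (iv D17143)
theorem F69263 : act 6 n17587 = n16990 := d23_2 (iv F67115) D17587 (iv D16990)
theorem F69264 : act 7 n17587 = n16994 := d24_2 D16988 D17587 (iv D16994) (iv D16358) (iv F64652)
theorem F69265 : act 8 n17587 = n17586 := d25_2 (iv F67116) D17587 (iv D17586)
def n17588 : Q := act 3 n16989
theorem D17588 : act 3 n16989 = n17588 := rfl
theorem F69266 : act 1 n17588 = n17003 := d9_1 D17588 (iv D17003) (iv F67117)
theorem F69267 : act 5 n17588 = n16991 := d22_2 (iv F67120) D17588 (iv D16991)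
theorem F69268 : act 6 n17588 = n17586 := d23_2 (iv F67121) D17588 (iv D17586)
theorem F69269 : act 8 n17588 = n16990 := d25_2 (iv F67122) D17588 (iv D16990)
def n17589 : Q := act 2 n16990
theorem D17589 : act 2 n16990 = n17589 := rfl
theorem F69270 : act 1 n17589 = n17486 := d8_1 D17589 (iv D17486) F67161 (iv D17004) (iv F67123)
theorem F69271 : act 3 n17589 = n17045 := d15_2 D16990 D17589 (iv D17045) (iv D16427) (iv F64661)
theorem F69272 : act 5 n17589 = n16992 := d17_2 (iv F67124) D17589 (iv D16992)
theorem F69273 : act 7 n17589 = n16995 := d19_2 (iv F67125) D17589 (iv D16995)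
def n17590 : Q := act 4 n16990
theorem D17590 : act 4 n16990 = n17590 := rfl
theorem F69274 : act 1 n17590 = n17005 := d10_1 D17590 (iv D17005) (iv F67123)
theorem F69275 : act 7 n17590 = n16996 := d28_2 (iv F67125) D17590 (iv D16996)
def n17591 : Q := act 2 n16991
theorem D17591 : act 2 n16991 = n17591 := rfl
theorem F69276 : act 3 n17591 = n17046 := d15_2 D16991 D17591 (iv D17046) (iv D16428) (iv F64664)
theorem F69277 : act 6 n17591 = n17147 := d18_2 (iv F67127) D17591 (iv D17147)
theorem F69278 : act 8 n17591 = n16992 := d20_2 (iv F67128) D17591 (iv D16992)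
def n17592 : Q := act 4 n16991
theorem D17592 : act 4 n16991 = n17592 := rfl
theorem F69279 : act 1 n17592 = n17007 := d10_1 D17592 (iv D17007) (iv F67126)
theorem F69280 : act 3 n17592 = n17569 := d21_1 D17592 (iv D17569) (iv D16972) (iv F64665) D16991
theorem F69281 : act 6 n17592 = n17148 := d27_2 (iv F67127) D17592 (iv D17148)
theorem F69282 : act 8 n17592 = n16993 := d29_2 (iv F67128) D17592 (iv D16993)
def n17593 : Q := act 1 n16992
theorem D17593 : act 1 n16992 = n17593 := rfl
theorem F69283 : act 2 n17593 = n17008 := d8_2 D16992 D17593 (iv D17008) (iv D16368) (iv F64668)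
theorem F69284 : act 3 n17593 = n17048 := d9_2 (iv F67129) D17593 (iv D17048)
theorem F69285 : act 5 n17593 = n17486 := d11_2 F69272 D17593 (iv F69270)
theorem F69286 : act 6 n17593 = n17149 := d12_2 (iv F67130) D17593 (iv D17149)
theorem F69287 : act 7 n17593 = n16997 := d13_2 (iv F67131) D17593 (iv D16997)
def n17594 : Q := act 4 n16992
theorem D17594 : act 4 n16992 = n17594 := rfl
theorem F69288 : act 2 n17594 = n16993 := d16_1 D17594 (iv D16993) D16992
theorem F69289 : act 6 n17594 = n17150 := d27_2 (iv F67130) D17594 (iv D17150)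
theorem F69290 : act 7 n17594 = n16998 := d28_2 (iv F67131) D17594 (iv D16998)
def n17595 : Q := act 5 n16993
theorem D17595 : act 5 n16993 = n17595 := rfl
theorem F69291 : act 1 n17595 = n17010 := d11_1 D17595 (iv D17010) (iv F67132)
theorem F69292 : act 3 n17595 = n17570 := d22_1 D17595 (iv D17570) (iv F67133)
theorem F69293 : act 7 n17595 = n16999 := d31_2 (iv F67135) D17595 (iv D16999)
def n17596 : Q := act 4 n16994
theorem D17596 : act 4 n16994 = n17596 := rfl
theorem F69294 : act 1 n17596 = n17011 := d10_1 D17596 (iv D17011) (iv F67136)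
theorem F69295 : act 6 n17596 = n16996 := d27_2 (iv F67138) D17596 (iv D16996)
def n17597 : Q := act 4 n16995
theorem D17597 : act 4 n16995 = n17597 := rfl
theorem F69296 : act 2 n17597 = n16996 := d16_1 D17597 (iv D16996) D16995
def n17598 : Q := act 5 n16996
theorem D17598 : act 5 n16996 = n17598 := rfl
theorem F69297 : act 1 n17598 = n17013 := d11_1 D17598 (iv D17013) (iv F67141)
theorem F69298 : act 4 n17598 = n16999 := d26_1 D17598 (iv D16999) (iv D16361) (iv F64676) D16996
def n17599 : Q := act 4 n16997
theorem D17599 : act 4 n16997 = n17599 := rfl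
theorem F69299 : act 1 n17599 = n16998 := d10_1 D17599 (iv D16998) D16997
theorem F69300 : act 2 n17599 = n17014 := d16_1 D17599 (iv D17014) (iv F67142)
theorem F69301 : act 6 n17599 = n17158 := d27_2 (iv F67144) D17599 (iv D17158)
def n17600 : Q := act 5 n16998
theorem D17600 : act 5 n16998 = n17600 := rfl
theorem F69302 : act 2 n17600 = n16999 := d17_1 D17600 (iv D16999) (iv F67145)
def n17601 : Q := act 6 n16999
theorem D17601 : act 6 n16999 = n17601 := rfl
theorem F69303 : act 1 n17601 = n17016 := d12_1 D17601 (iv D17016) (iv F67147)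
theorem F69304 : act 3 n17601 = n17000 := d23_1 D17601 (iv D17000) (iv F67148)
theorem F69305 : act 5 n17601 = n17160 := d30_1 D17601 (iv D17160) (iv D16554) (iv F64681) D16999
def n17602 : Q := act 2 n17001
theorem D17602 : act 2 n17001 = n17602 := rfl
theorem F69306 : act 0 n17602 = n17501 := d1_1 D17602 F68992 F68864
theorem F69307 : act 3 n17602 = n17022 := d15_2 D17001 D17602 (iv D17022) (iv D16385) (iv F64684)
theorem F69308 : act 6 n17602 = n17258 := d18_2 F67156 D17602 F68105
theorem F69309 : act 8 n17602 = n17225 := d20_2 F67154 D17602 F67954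
theorem F69310 : act 1 n17233 = n17602 := d36_6 (iv F65948) (iv F68075) (iv D17252) F65875 (iv F65752) D17233 (iv D17602) (iv D17001) (iv F64688) (iv D16364) F61766 (iv F61692) (iv F62827) (iv F65502) F65500 F63253 F60873 (iv D14576) F53804 (iv F50093) (iv D12712) F46108 F41981 F41979 F41980 F34601 (iv F44834) (iv D4904) (iv F17803) (iv D4548) F13226 F12215 (iv D3058) (iv D2250) (iv D1655) (iv F5434) F5433 D1742 D2375 D3236 F12885 (iv F10003) (iv F13398) D4625 F18061 D4668 D6393 (iv F31772) D10160 F39723 (iv F45651) (iv F49693) D13648 (iv F55283) (iv D14037) F51296 F47164 (iv F51267) (iv F55242) (iv F58522) (iv F61765) F61766 (iv D14821) (iv F58369) (iv F61641) (iv F62938) F62937 F61469 F59715 F57803 F54126 D14637 D15465 D16197 (iv F65814) F65813 (iv D16045) F60368 (iv F60621) (iv F63221) F63226 F60719 (iv D15376) F57313 F53537 (iv F53463) (iv F56986) (iv F60387) D16049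
def n17603 : Q := act 4 n17001
theorem D17603 : act 4 n17001 = n17603 := rfl
theorem F69311 : act 3 n17603 = n17005 := d21_1 D17603 (iv D17005) (iv D16366) (iv F64685) D17001
def n17604 : Q := act 4 n17002
theorem D17604 : act 4 n17002 = n17604 := rfl
theorem F69312 : act 6 n17604 = n17005 := d27_2 (iv F67152) D17604 (iv D17005)
theorem F69313 : act 7 n17604 = n17011 := d28_2 (iv F67153) D17604 (iv D17011)
theorem F69314 : act 8 n17604 = n17603 := d29_2 (iv F67154) D17604 (iv D17603)
def n17605 : Q := act 4 n17003
theorem D17605 : act 4 n17003 = n17605 := rfl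
theorem F69315 : act 3 n17605 = n17604 := d21_1 D17605 (iv D17604) (iv D17002) (iv F64690) D17003
theorem F69316 : act 6 n17605 = n17603 := d27_2 (iv F67156) D17605 (iv D17603)
theorem F69317 : act 8 n17605 = n17005 := d29_2 (iv F67157) D17605 (iv D17005)
def n17606 : Q := act 4 n17004
theorem D17606 : act 4 n17004 = n17606 := rfl
theorem F69318 : act 1 n17606 = n17487 := d10_1 D17606 (iv D17487) F67161
theorem F69319 : act 2 n17606 = n17005 := d16_1 D17606 (iv D17005) D17004
theorem F69320 : act 3 n17606 = n17485 := d21_1 D17606 (iv D17485) (iv D16894) (iv F64757) (iv F67158)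
theorem F69321 : act 7 n17606 = n17012 := d28_2 (iv F67160) D17606 (iv D17012)
def n17607 : Q := act 5 n17005
theorem D17607 : act 5 n17005 = n17607 := rfl
theorem F69322 : act 4 n17607 = n17010 := d26_1 D17607 (iv D17010) (iv D16369) (iv F64694) D17005
theorem F69323 : act 7 n17607 = n17013 := d31_2 (iv F67162) D17607 (iv D17013)
def n17608 : Q := act 4 n17006
theorem D17608 : act 4 n17006 = n17608 := rfl
theorem F69324 : act 2 n17608 = n17007 := d16_1 D17608 (iv D17007) D17006
theorem F69325 : act 8 n17608 = n17009 := d29_2 (iv F67164) D17608 (iv D17009)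
def n17609 : Q := act 5 n17007
theorem D17609 : act 5 n17007 = n17609 := rfl
theorem F69326 : act 8 n17609 = n17010 := d32_2 (iv F67165) D17609 (iv D17010)
def n17610 : Q := act 4 n17008
theorem D17610 : act 4 n17008 = n17610 := rfl
theorem F69327 : act 1 n17610 = n17009 := d10_1 D17610 (iv D17009) D17008
theorem F69328 : act 7 n17610 = n17014 := d28_2 (iv F67168) D17610 (iv D17014)
def n17611 : Q := act 3 n17009
theorem D17611 : act 3 n17009 = n17611 := rfl
theorem F69329 : act 4 n17611 = n17023 := d21_2 D17009 D17611 (iv D17023) (iv D16391) (iv F64697)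
def n17612 : Q := act 5 n17009
theorem D17612 : act 5 n17009 = n17612 := rfl
theorem F69330 : act 2 n17612 = n17010 := d17_1 D17612 (iv D17010) (iv F67169)
theorem F69331 : act 7 n17612 = n17015 := d31_2 (iv F67170) D17612 (iv D17015)
def n17613 : Q := act 6 n17010
theorem D17613 : act 6 n17010 = n17613 := rfl
theorem F69332 : act 7 n17613 = n17016 := d33_2 (iv F67171) D17613 (iv D17016)
def n17614 : Q := act 5 n17011
theorem D17614 : act 5 n17011 = n17614 := rfl
def n17615 : Q := act 5 n17012
theorem D17615 : act 5 n17012 = n17615 := rfl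
theorem F69333 : act 2 n17615 = n17013 := d17_1 D17615 (iv D17013) (iv F67173)
theorem F69334 : act 4 n17615 = n17015 := d26_1 D17615 (iv D17015) (iv D16374) (iv F64702) D17012
def n17616 : Q := act 6 n17013
theorem D17616 : act 6 n17013 = n17616 := rfl
theorem F69335 : act 4 n17616 = n17016 := d27_1 D17616 (iv D17016) (iv F67174)
def n17617 : Q := act 5 n17014
theorem D17617 : act 5 n17014 = n17617 := rfl
theorem F69336 : act 1 n17617 = n17015 := d11_1 D17617 (iv D17015) (iv F67175)
def n17618 : Q := act 6 n17015
theorem D17618 : act 6 n17015 = n17618 := rfl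
theorem F69337 : act 2 n17618 = n17016 := d18_1 D17618 (iv D17016) (iv F67176)
def n17619 : Q := act 2 n17017
theorem D17619 : act 2 n17017 = n17619 := rfl
theorem F69338 : act 6 n17619 = n17164 := d18_2 (iv F67179) D17619 (iv D17164)
theorem F69339 : act 7 n17619 = n17619 := d19_2 F67180 D17619 (iv D17619)
theorem F69340 : act 8 n17619 = n17163 := d20_2 (iv F67181) D17619 (iv D17163)
def n17620 : Q := act 1 n17024
theorem D17620 : act 1 n17024 = n17620 := rfl
theorem F69341 : act 0 n17620 = n17115 := d0_1 D17620 (iv D17115) (iv F66773) F66774 (iv F67215)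
theorem F69342 : act 2 n17620 = n17026 := d8_2 D17024 D17620 F67223 F64790 (iv F64778)
theorem F69343 : act 4 n17620 = n17025 := d10_2 F67812 D17620 (iv F67811)
theorem F69344 : act 5 n17620 = n17116 := d11_2 F68531 D17620 (iv F68529)
theorem F69345 : act 6 n17620 = n17085 := d12_2 (iv F67216) D17620 (iv D17085)
theorem F69346 : act 7 n17620 = n17620 := d13_2 F67217 D17620 (iv D17620)
theorem F69347 : act 8 n17620 = n17028 := d14_2 (iv F67218) D17620 (iv D17028)
def n17621 : Q := act 0 n17029
theorem D17621 : act 0 n17029 = n17621 := rfl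
theorem F69348 : act 1 n17621 = n17621 := d0_2 D17029 D17621 (iv D17621) (iv D17029) F64824
theorem F69349 : act 3 n17621 = n17176 := d2_2 (iv F67236) D17621 (iv D17176)
theorem F69350 : act 5 n17621 = n17180 := d4_2 (iv F67237) D17621 F67733
theorem F69351 : act 6 n17621 = n17033 := d5_2 (iv F67238) D17621 (iv D17033)
theorem F69352 : act 7 n17621 = n17069 := d6_2 (iv F67239) D17621 (iv D17069)
def n17622 : Q := act 1 n17030
theorem D17622 : act 1 n17030 = n17622 := rfl
theorem F69353 : act 2 n17622 = n17031 := d8_2 D17030 D17622 (iv D17031) (iv D16410) (iv F64846)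
theorem F69354 : act 6 n17622 = n17130 := d12_2 (iv F67240) D17622 (iv D17130)
theorem F69355 : act 7 n17622 = n17622 := d13_2 F67241 D17622 (iv D17622)
theorem F69356 : act 8 n17622 = n17511 := d14_2 (iv F67242) D17622 (iv D17511)
def n17623 : Q := act 0 n17031
theorem D17623 : act 0 n17031 = n17623 := rfl
theorem F69357 : act 1 n17623 = n17623 := d0_2 D17031 D17623 (iv D17623) (iv D17031) F64856
theorem F69358 : act 3 n17623 = n17033 := d2_2 (iv F67243) D17623 (iv D17033)
theorem F69359 : act 6 n17623 = n17176 := d5_2 (iv F67244) D17623 (iv D17176)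
theorem F69360 : act 7 n17623 = n17623 := d6_2 F67245 D17623 (iv D17623)
theorem F69361 : act 8 n17623 = n17621 := d7_2 (iv F67246) D17623 (iv D17621)
def n17624 : Q := act 0 n17032
theorem D17624 : act 0 n17032 = n17624 := rfl
theorem F69362 : act 1 n17624 = n17624 := d0_2 D17032 D17624 (iv D17624) (iv D17032) F64865
theorem F69363 : act 4 n17624 = n17059 := d3_2 (iv F67247) D17624 F67366
theorem F69364 : act 5 n17624 = n17033 := d4_2 (iv F67248) D17624 (iv D17033)
theorem F69365 : act 6 n17624 = n17410 := d5_2 (iv F67249) D17624 F68670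
theorem F69366 : act 7 n17624 = n17063 := d6_2 (iv F67250) D17624 F67384
def n17625 : Q := act 3 n17034
theorem D17625 : act 3 n17034 = n17625 := rfl
theorem F69367 : act 0 n17625 = n17043 := d2_1 D17625 (iv D17043) (iv F67253)
theorem F69368 : act 1 n17625 = n17625 := d9_1 D17625 (iv D17625) F67254
theorem F69369 : act 4 n17625 = n17623 := d21_2 (iv F67255) D17625 F69358 F67272 (iv D17037)
theorem F69370 : act 5 n17625 = n17478 := d22_2 (iv F67256) D17625 (iv D17478)
theorem F69371 : act 6 n17625 = n17379 := d23_2 F67266 D17625 F68543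
theorem F69372 : act 7 n17625 = n17625 := d24_2 D17034 D17625 (iv D17625) (iv D17034) F64876
def n17626 : Q := act 3 n17035
theorem D17626 : act 3 n17035 = n17626 := rfl
theorem F69373 : act 0 n17626 = n17044 := d2_1 D17626 (iv D17044) (iv F67257)
theorem F69374 : act 1 n17626 = n17626 := d9_1 D17626 (iv D17626) F67258
theorem F69375 : act 4 n17626 = n17621 := d21_2 F67264 D17626 F69349 (iv F68544) F68543
theorem F69376 : act 5 n17626 = n17105 := d22_2 (iv F67259) D17626 (iv D17105)
theorem F69377 : act 6 n17626 = n17037 := d23_2 (iv F67260) D17626 (iv D17037)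
theorem F69378 : act 7 n17626 = n17040 := d24_2 D17035 D17626 (iv D17040) (iv D16421) (iv F64881)
theorem F69379 : act 8 n17626 = n17625 := d25_2 (iv F67261) D17626 (iv D17625)
def n17627 : Q := act 2 n17037
theorem D17627 : act 2 n17037 = n17627 := rfl
theorem F69380 : act 0 n17627 = n17045 := d1_1 D17627 (iv D17045) (iv F67268)
theorem F69381 : act 4 n17627 = n17538 := d16_2 F67272 D17627 F69109
theorem F69382 : act 5 n17627 = n17039 := d17_2 (iv F67270) D17627 (iv D17039)
theorem F69383 : act 7 n17627 = n17041 := d19_2 (iv F67271) D17627 (iv D17041)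
def n17628 : Q := act 2 n17038
theorem D17628 : act 2 n17038 = n17628 := rfl
theorem F69384 : act 0 n17628 = n17046 := d1_1 D17628 (iv D17046) (iv F67273)
theorem F69385 : act 6 n17628 = n17108 := d18_2 (iv F67275) D17628 (iv D17108)
theorem F69386 : act 7 n17628 = n17628 := d19_2 F67276 D17628 (iv D17628)
theorem F69387 : act 8 n17628 = n17039 := d20_2 (iv F67277) D17628 (iv D17039)
def n17629 : Q := act 1 n17039
theorem D17629 : act 1 n17039 = n17629 := rfl
theorem F69388 : act 2 n17629 = n17629 := d8_2 D17039 D17629 (iv D17629) (iv D17039) F64899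
theorem F69389 : act 6 n17629 = n17110 := d12_2 (iv F67279) D17629 (iv D17110)
theorem F69390 : act 7 n17629 = n17042 := d13_2 (iv F67280) D17629 (iv D17042)
def n17630 : Q := act 2 n17043
theorem D17630 : act 2 n17043 = n17630 := rfl
theorem F69391 : act 1 n17630 = n17244 := d8_1 D17630 (iv D17244) F65793 (iv F64962) (iv F67294)
theorem F69392 : act 4 n17630 = n17622 := d16_2 (iv F67295) D17630 F69353
theorem F69393 : act 5 n17630 = n17619 := d17_2 (iv F67296) D17630 (iv D17619)
theorem F69394 : act 6 n17630 = n17269 := d18_2 (iv F67297) D17630 F68141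
theorem F69395 : act 7 n17630 = n17630 := d19_2 F67298 D17630 (iv D17630)
theorem F69396 : act 8 n17630 = n17245 := d20_2 F67304 D17630 F68030
def n17631 : Q := act 4 n17046
theorem D17631 : act 4 n17046 = n17631 := rfl
theorem F69397 : act 2 n17631 = n17047 := d16_1 D17631 (iv D17047) D17046
theorem F69398 : act 6 n17631 = n17169 := d27_2 (iv F67309) D17631 (iv D17169)
theorem F69399 : act 7 n17631 = n17631 := d28_2 F67310 D17631 (iv D17631)
theorem F69400 : act 8 n17631 = n17049 := d29_2 (iv F67311) D17631 (iv D17049)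
def n17632 : Q := act 4 n17048
theorem D17632 : act 4 n17048 = n17632 := rfl
theorem F69401 : act 1 n17632 = n17049 := d10_1 D17632 (iv D17049) D17048
theorem F69402 : act 2 n17632 = n17052 := d16_1 D17632 (iv D17052) (iv F67317)
theorem F69403 : act 5 n17632 = n17537 := d26_2 (iv F67318) D17632 (iv D17537) F66959 (iv F66812)
theorem F69404 : act 6 n17632 = n17171 := d27_2 (iv F67319) D17632 (iv D17171)
theorem F69405 : act 7 n17632 = n17050 := d28_2 (iv F67320) D17632 (iv D17050)
def n17633 : Q := act 3 n17049
theorem D17633 : act 3 n17049 = n17633 := rfl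
theorem F69406 : act 0 n17633 = n17526 := d2_1 D17633 F69084 F67376
theorem F69407 : act 2 n17633 = n17404 := d15_1 D17633 (iv D17404) F66498 (iv F64940) (iv F67321)
theorem F69408 : act 6 n17633 = n17172 := d23_2 (iv F67322) D17633 (iv D17172)
theorem F69409 : act 7 n17633 = n17406 := d24_2 (iv F67323) D17633 F68661 F66514 F65035
def n17634 : Q := act 1 n17053
theorem D17634 : act 1 n17053 = n17634 := rfl
theorem F69410 : act 2 n17634 = n17634 := d8_2 D17053 D17634 (iv D17634) (iv D17053) F65031
theorem F69411 : act 3 n17634 = n17066 := d9_2 (iv F67336) D17634 F67398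
theorem F69412 : act 5 n17634 = n17055 := d11_2 (iv F67337) D17634 (iv D17055)
theorem F69413 : act 8 n17634 = n17634 := d14_2 F67338 D17634 (iv D17634)
def n17635 : Q := act 4 n17053
theorem D17635 : act 4 n17053 = n17635 := rfl
theorem F69414 : act 0 n17635 = n17066 := d3_1 D17635 (iv D17066) (iv F67335)
theorem F69415 : act 2 n17635 = n17054 := d16_1 D17635 (iv D17054) D17053
theorem F69416 : act 5 n17635 = n17366 := d26_2 (iv F67337) D17635 (iv D17366) F66240 (iv F65036)
theorem F69417 : act 8 n17635 = n17635 := d29_2 F67338 D17635 (iv D17635)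
def n17636 : Q := act 0 n17055
theorem D17636 : act 0 n17055 = n17636 := rfl
theorem F69418 : act 1 n17636 = n17067 := d0_2 D17055 D17636 (iv D17067) (iv D16464) (iv F65034)
theorem F69419 : act 2 n17636 = n17636 := d1_2 F67344 D17636 (iv D17636)
theorem F69420 : act 3 n17636 = n17366 := d2_2 (iv F67345) D17636 F68484
theorem F69421 : act 4 n17636 = n17367 := d3_2 (iv F67346) D17636 (iv D17367)
theorem F69422 : act 6 n17636 = n17375 := d5_2 (iv F67347) D17636 F68517
theorem F69423 : act 8 n17636 = n17636 := d7_2 F67348 D17636 (iv D17636)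
def n17637 : Q := act 0 n17056
theorem D17637 : act 0 n17056 = n17637 := rfl
theorem F69424 : act 1 n17637 = n17375 := d0_2 D17056 D17637 F68517 F66297 (iv F65052)
theorem F69425 : act 2 n17637 = n17069 := d1_2 (iv F67349) D17637 (iv D17069)
theorem F69426 : act 4 n17637 = n17246 := d3_2 (iv F67350) D17637 (iv D17246)
theorem F69427 : act 5 n17637 = n17173 := d4_2 (iv F67351) D17637 F67697
theorem F69428 : act 6 n17637 = n17067 := d5_2 (iv F67352) D17637 (iv D17067)
theorem F69429 : act 8 n17637 = n17637 := d7_2 F67353 D17637 (iv D17637)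
def n17638 : Q := act 3 n17058
theorem D17638 : act 3 n17058 = n17638 := rfl
theorem F69430 : act 0 n17638 = n17127 := d2_1 D17638 (iv D17127) (iv F67360)
theorem F69431 : act 1 n17638 = n17638 := d9_1 D17638 (iv D17638) F67361
theorem F69432 : act 5 n17638 = n17060 := d22_2 (iv F67363) D17638 (iv D17060)
theorem F69433 : act 6 n17638 = n17076 := d23_2 (iv F67364) D17638 (iv D17076)
theorem F69434 : act 7 n17638 = n17638 := d24_2 D17058 D17638 (iv D17638) (iv D17058) F65065
theorem F69435 : act 8 n17638 = n17059 := d25_2 (iv F67365) D17638 (iv D17059)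
def n17639 : Q := act 2 n17059
theorem D17639 : act 2 n17059 = n17639 := rfl
theorem F69436 : act 0 n17639 = n17535 := d1_1 D17639 (iv D17535) (iv F67366)
theorem F69437 : act 5 n17639 = n17061 := d17_2 (iv F67368) D17639 (iv D17061)
theorem F69438 : act 6 n17639 = n17409 := d18_2 (iv F67369) D17639 (iv D17409)
theorem F69439 : act 7 n17639 = n17062 := d19_2 (iv F67370) D17639 (iv D17062)
def n17640 : Q := act 2 n17060
theorem D17640 : act 2 n17060 = n17640 := rfl
theorem F69440 : act 0 n17640 = n17631 := d1_1 D17640 F69397 (iv F67371)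
theorem F69441 : act 4 n17640 = n17628 := d16_2 (iv F67373) D17640 (iv D17628)
theorem F69442 : act 7 n17640 = n17640 := d19_2 F67374 D17640 (iv D17640)
theorem F69443 : act 8 n17640 = n17061 := d20_2 (iv F67375) D17640 (iv D17061)
def n17641 : Q := act 1 n17061
theorem D17641 : act 1 n17061 = n17641 := rfl
theorem F69444 : act 2 n17641 = n17641 := d8_2 D17061 D17641 (iv D17641) (iv D17061) F65077
theorem F69445 : act 4 n17641 = n17629 := d10_2 (iv F67377) D17641 (iv D17629)
theorem F69446 : act 7 n17641 = n17064 := d13_2 (iv F67378) D17641 (iv D17064)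
def n17642 : Q := act 1 n17062
theorem D17642 : act 1 n17062 = n17642 := rfl
theorem F69447 : act 2 n17642 = n17642 := d8_2 D17062 D17642 (iv D17642) (iv D17062) F65081
theorem F69448 : act 3 n17642 = n17065 := d9_2 (iv F67380) D17642 (iv D17065)
theorem F69449 : act 5 n17642 = n17064 := d11_2 (iv F67381) D17642 (iv D17064)
theorem F69450 : act 6 n17642 = n17634 := d12_2 (iv F67382) D17642 (iv D17634)
theorem F69451 : act 8 n17642 = n17642 := d14_2 F67383 D17642 (iv D17642)
def n17643 : Q := act 4 n17062
theorem D17643 : act 4 n17062 = n17643 := rfl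
theorem F69452 : act 0 n17643 = n17065 := d3_1 D17643 (iv F67397) (iv F67379)
theorem F69453 : act 2 n17643 = n17063 := d16_1 D17643 (iv D17063) D17062
theorem F69454 : act 5 n17643 = n17067 := d26_2 (iv F67381) D17643 F67404 F67288 (iv F65087)
theorem F69455 : act 6 n17643 = n17635 := d27_2 (iv F67382) D17643 (iv D17635)
theorem F69456 : act 8 n17643 = n17643 := d29_2 F67383 D17643 (iv D17643)
def n17644 : Q := act 0 n17064
theorem D17644 : act 0 n17064 = n17644 := rfl
theorem F69457 : act 1 n17644 = n17366 := d0_2 D17064 D17644 F68484 F67324 (iv F65085)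
theorem F69458 : act 2 n17644 = n17644 := d1_2 F67390 D17644 (iv D17644)
theorem F69459 : act 3 n17644 = n17067 := d2_2 (iv F67391) D17644 (iv D17067)
theorem F69460 : act 4 n17644 = n17365 := d3_2 (iv F67392) D17644 F68478
theorem F69461 : act 8 n17644 = n17644 := d7_2 F67393 D17644 (iv D17644)
def n17645 : Q := act 2 n17068
theorem D17645 : act 2 n17068 = n17645 := rfl
theorem F69462 : act 6 n17645 = n17368 := d18_2 (iv F67407) D17645 (iv D17368)
theorem F69463 : act 7 n17645 = n17645 := d19_2 F67408 D17645 (iv D17645)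
theorem F69464 : act 8 n17645 = n17251 := d20_2 (iv F67409) D17645 F68068
def n17646 : Q := act 3 n17070
theorem D17646 : act 3 n17070 = n17646 := rfl
theorem F69465 : act 1 n17646 = n17074 := d9_1 D17646 (iv D17074) (iv F67416)
theorem F69466 : act 8 n17646 = n17400 := d25_2 (iv F67419) D17646 (iv D17400)
def n17647 : Q := act 2 n17071
theorem D17647 : act 2 n17071 = n17647 := rfl
theorem F69467 : act 3 n17647 = n17647 := d15_2 D17071 D17647 (iv D17647) (iv D17071) F65129
theorem F69468 : act 7 n17647 = n17078 := d19_2 (iv F67421) D17647 (iv D17078)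
theorem F69469 : act 8 n17647 = n17401 := d20_2 (iv F67422) D17647 (iv D17401)
def n17648 : Q := act 4 n17071
theorem D17648 : act 4 n17071 = n17648 := rfl
theorem F69470 : act 1 n17648 = n17075 := d10_1 D17648 (iv D17075) (iv F67420)
theorem F69471 : act 7 n17648 = n17079 := d28_2 (iv F67421) D17648 (iv D17079)
theorem F69472 : act 8 n17648 = n17402 := d29_2 (iv F67422) D17648 (iv D17402)
def n17649 : Q := act 3 n17072
theorem D17649 : act 3 n17072 = n17649 := rfl
theorem F69473 : act 0 n17649 = n17121 := d2_1 D17649 (iv D17121) (iv F67423)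
theorem F69474 : act 5 n17649 = n17646 := d22_2 (iv F67426) D17649 (iv D17646)
theorem F69475 : act 7 n17649 = n17074 := d24_2 D17072 D17649 (iv D17074) (iv D16475) (iv F65133)
def n17650 : Q := act 3 n17073
theorem D17650 : act 3 n17073 = n17650 := rfl
theorem F69476 : act 0 n17650 = n17123 := d2_1 D17650 (iv D17123) (iv F67427)
theorem F69477 : act 1 n17650 = n17649 := d9_1 D17650 (iv D17649) (iv F67428)
theorem F69478 : act 5 n17650 = n17074 := d22_2 (iv F67431) D17650 (iv D17074)
theorem F69479 : act 7 n17650 = n17646 := d24_2 D17073 D17650 (iv D17646) (iv D17070) (iv F65139)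
theorem F69480 : act 8 n17650 = n17405 := d25_2 (iv F67432) D17650 (iv D17405)
def n17651 : Q := act 2 n17074
theorem D17651 : act 2 n17074 = n17651 := rfl
theorem F69481 : act 0 n17651 = n17124 := d1_1 D17651 (iv D17124) (iv F67433)
theorem F69482 : act 3 n17651 = n17077 := d15_2 D17074 D17651 (iv D17077) (iv D16478) (iv F65143)
theorem F69483 : act 8 n17651 = n17406 := d20_2 (iv F67434) D17651 (iv D17406)
def n17652 : Q := act 4 n17074
theorem D17652 : act 4 n17074 = n17652 := rfl
theorem F69484 : act 0 n17652 = n17125 := d3_1 D17652 (iv D17125) (iv F67433)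
theorem F69485 : act 3 n17652 = n17075 := d21_1 D17652 (iv D17075) (iv D16476) (iv F65144) D17074
theorem F69486 : act 8 n17652 = n17407 := d29_2 (iv F67434) D17652 (iv D17407)
def n17653 : Q := act 5 n17075
theorem D17653 : act 5 n17075 = n17653 := rfl
theorem F69487 : act 0 n17653 = n17126 := d4_1 D17653 (iv D17126) (iv F67435)
theorem F69488 : act 7 n17653 = n17084 := d31_2 (iv F67436) D17653 (iv D17084)
theorem F69489 : act 8 n17653 = n17408 := d32_2 (iv F67437) D17653 (iv D17408)
def n17654 : Q := act 2 n17076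
theorem D17654 : act 2 n17076 = n17654 := rfl
theorem F69490 : act 0 n17654 = n17128 := d1_1 D17654 (iv D17128) (iv F67438)
theorem F69491 : act 5 n17654 = n17077 := d17_2 (iv F67440) D17654 (iv D17077)
theorem F69492 : act 7 n17654 = n17654 := d19_2 F67441 D17654 (iv D17654)
theorem F69493 : act 8 n17654 = n17409 := d20_2 (iv F67442) D17654 (iv D17409)
def n17655 : Q := act 4 n17076
theorem D17655 : act 4 n17076 = n17655 := rfl
theorem F69494 : act 0 n17655 = n17129 := d3_1 D17655 (iv D17129) (iv F67438)
theorem F69495 : act 1 n17655 = n17655 := d10_1 D17655 (iv D17655) F67439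
theorem F69496 : act 3 n17655 = n17363 := d21_1 D17655 (iv D17363) (iv D16758) (iv F65151) D17076
theorem F69497 : act 7 n17655 = n17655 := d28_2 F67441 D17655 (iv D17655)
theorem F69498 : act 8 n17655 = n17410 := d29_2 (iv F67442) D17655 (iv D17410)
def n17656 : Q := act 1 n17077
theorem D17656 : act 1 n17077 = n17656 := rfl
theorem F69499 : act 2 n17656 = n17656 := d8_2 D17077 D17656 (iv D17656) (iv D17077) F65155
theorem F69500 : act 7 n17656 = n17656 := d13_2 F67444 D17656 (iv D17656)
theorem F69501 : act 8 n17656 = n17411 := d14_2 (iv F67445) D17656 (iv D17411)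
def n17657 : Q := act 4 n17078
theorem D17657 : act 4 n17078 = n17657 := rfl
theorem F69502 : act 2 n17657 = n17079 := d16_1 D17657 (iv D17079) D17078
theorem F69503 : act 8 n17657 = n17090 := d29_2 (iv F67447) D17657 (iv D17090)
def n17658 : Q := act 5 n17079
theorem D17658 : act 5 n17079 = n17658 := rfl
theorem F69504 : act 1 n17658 = n17084 := d11_1 D17658 (iv D17084) (iv F67448)
theorem F69505 : act 8 n17658 = n17091 := d32_2 (iv F67449) D17658 (iv D17091)
def n17659 : Q := act 3 n17080
theorem D17659 : act 3 n17080 = n17659 := rfl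
theorem F69506 : act 0 n17659 = n17134 := d2_1 D17659 (iv D17134) (iv F67450)
theorem F69507 : act 7 n17659 = n17095 := d24_2 D17080 D17659 (iv D17095) (iv D16493) (iv F65162)
theorem F69508 : act 8 n17659 = n17081 := d25_2 (iv F67452) D17659 (iv D17081)
def n17660 : Q := act 2 n17081
theorem D17660 : act 2 n17081 = n17660 := rfl
theorem F69509 : act 0 n17660 = n17135 := d1_1 D17660 (iv D17135) (iv F67453)
theorem F69510 : act 3 n17660 = n17660 := d15_2 D17081 D17660 (iv D17660) (iv D17081) F65164
theorem F69511 : act 7 n17660 = n17082 := d19_2 (iv F67454) D17660 (iv D17082)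
def n17661 : Q := act 4 n17081
theorem D17661 : act 4 n17081 = n17661 := rfl
theorem F69512 : act 0 n17661 = n17136 := d3_1 D17661 (iv D17136) (iv F67453)
theorem F69513 : act 7 n17661 = n17083 := d28_2 (iv F67454) D17661 (iv D17083)
def n17662 : Q := act 1 n17082
theorem D17662 : act 1 n17082 = n17662 := rfl
theorem F69514 : act 3 n17662 = n17085 := d9_2 (iv F67456) D17662 (iv D17085)
theorem F69515 : act 8 n17662 = n17100 := d14_2 (iv F67457) D17662 (iv D17100)
def n17663 : Q := act 4 n17082
theorem D17663 : act 4 n17082 = n17663 := rfl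
theorem F69516 : act 0 n17663 = n17139 := d3_1 D17663 (iv D17139) (iv F67455)
theorem F69517 : act 2 n17663 = n17083 := d16_1 D17663 (iv D17083) D17082
theorem F69518 : act 8 n17663 = n17101 := d29_2 (iv F67457) D17663 (iv D17101)
def n17664 : Q := act 5 n17083
theorem D17664 : act 5 n17083 = n17664 := rfl
theorem F69519 : act 0 n17664 = n17140 := d4_1 D17664 (iv D17140) (iv F67458)
theorem F69520 : act 3 n17664 = n17084 := d22_1 D17664 (iv D17084) (iv F67459)
theorem F69521 : act 8 n17664 = n17102 := d32_2 (iv F67460) D17664 (iv D17102)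
def n17665 : Q := act 6 n17084
theorem D17665 : act 6 n17084 = n17665 := rfl
theorem F69522 : act 0 n17665 = n17141 := d5_1 D17665 (iv D17141) (iv F67461)
theorem F69523 : act 8 n17665 = n17103 := d34_2 (iv F67462) D17665 (iv D17103)
def n17666 : Q := act 3 n17086
theorem D17666 : act 3 n17086 = n17666 := rfl
theorem F69524 : act 1 n17666 = n17095 := d9_1 D17666 (iv D17095) (iv F67466)
theorem F69525 : act 8 n17666 = n17087 := d25_2 (iv F67469) D17666 (iv D17087)
def n17667 : Q := act 2 n17087
theorem D17667 : act 2 n17087 = n17667 := rfl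
theorem F69526 : act 3 n17667 = n17667 := d15_2 D17087 D17667 (iv D17667) (iv D17087) F65176
theorem F69527 : act 7 n17667 = n17088 := d19_2 (iv F67471) D17667 (iv D17088)
def n17668 : Q := act 4 n17087
theorem D17668 : act 4 n17087 = n17668 := rfl
theorem F69528 : act 1 n17668 = n17097 := d10_1 D17668 (iv D17097) (iv F67470)
theorem F69529 : act 3 n17668 = n17456 := d21_1 D17668 (iv D17456) (iv D16858) (iv F65177) D17087
theorem F69530 : act 7 n17668 = n17089 := d28_2 (iv F67471) D17668 (iv D17089)
def n17669 : Q := act 1 n17088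
theorem D17669 : act 1 n17088 = n17669 := rfl
theorem F69531 : act 2 n17669 = n17100 := d8_2 D17088 D17669 (iv D17100) (iv D16496) (iv F65178)
theorem F69532 : act 3 n17669 = n17115 := d9_2 (iv F67472) D17669 (iv D17115)
def n17670 : Q := act 4 n17088
theorem D17670 : act 4 n17088 = n17670 := rfl
theorem F69533 : act 2 n17670 = n17089 := d16_1 D17670 (iv D17089) D17088
def n17671 : Q := act 5 n17089
theorem D17671 : act 5 n17089 = n17671 := rfl
theorem F69534 : act 1 n17671 = n17102 := d11_1 D17671 (iv D17102) (iv F67473)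
theorem F69535 : act 3 n17671 = n17091 := d22_1 D17671 (iv D17091) (iv F67474)
def n17672 : Q := act 3 n17090
theorem D17672 : act 3 n17090 = n17672 := rfl
theorem F69536 : act 4 n17672 = n17117 := d21_2 D17090 D17672 (iv D17117) (iv D16518) (iv F65179)
def n17673 : Q := act 5 n17090
theorem D17673 : act 5 n17090 = n17673 := rfl
theorem F69537 : act 2 n17673 = n17091 := d17_1 D17673 (iv D17091) (iv F67475)
theorem F69538 : act 7 n17673 = n17462 := d31_2 (iv F67476) D17673 (iv D17462)
def n17674 : Q := act 6 n17091
theorem D17674 : act 6 n17091 = n17674 := rfl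
theorem F69539 : act 1 n17674 = n17103 := d12_1 D17674 (iv D17103) (iv F67477)
theorem F69540 : act 7 n17674 = n17463 := d33_2 (iv F67478) D17674 (iv D17463)
def n17675 : Q := act 3 n17092
theorem D17675 : act 3 n17092 = n17675 := rfl
theorem F69541 : act 0 n17675 = n17142 := d2_1 D17675 (iv D17142) (iv F67479)
theorem F69542 : act 2 n17675 = n17344 := d15_1 D17675 (iv D17344) F66193 (iv F65215) (iv F67480)
theorem F69543 : act 5 n17675 = n17464 := d22_2 (iv F67482) D17675 (iv D17464)
theorem F69544 : act 7 n17675 = n17602 := d24_2 D17092 D17675 F69307 F67212 (iv F65185)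
def n17676 : Q := act 3 n17093
theorem D17676 : act 3 n17093 = n17676 := rfl
theorem F69545 : act 0 n17676 = n17144 := d2_1 D17676 (iv D17144) (iv F67483)
theorem F69546 : act 5 n17676 = n17095 := d22_2 (iv F67485) D17676 (iv D17095)
theorem F69547 : act 8 n17676 = n17094 := d25_2 (iv F67486) D17676 (iv D17094)
def n17677 : Q := act 2 n17094
theorem D17677 : act 2 n17094 = n17677 := rfl
theorem F69548 : act 0 n17677 = n17145 := d1_1 D17677 (iv D17145) (iv F67487)
theorem F69549 : act 3 n17677 = n17107 := d15_2 D17094 D17677 (iv D17107) (iv D16504) (iv F65192)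
theorem F69550 : act 5 n17677 = n17096 := d17_2 (iv F67488) D17677 (iv D17096)
theorem F69551 : act 7 n17677 = n17098 := d19_2 (iv F67489) D17677 (iv D17098)
def n17678 : Q := act 4 n17094
theorem D17678 : act 4 n17094 = n17678 := rfl
theorem F69552 : act 0 n17678 = n17146 := d3_1 D17678 (iv D17146) (iv F67487)
theorem F69553 : act 7 n17678 = n17099 := d28_2 (iv F67489) D17678 (iv D17099)
def n17679 : Q := act 2 n17095
theorem D17679 : act 2 n17095 = n17679 := rfl
theorem F69554 : act 0 n17679 = n17147 := d1_1 D17679 (iv D17147) (iv F67490)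
theorem F69555 : act 3 n17679 = n17108 := d15_2 D17095 D17679 (iv D17108) (iv D16505) (iv F65195)
theorem F69556 : act 8 n17679 = n17096 := d20_2 (iv F67491) D17679 (iv D17096)
def n17680 : Q := act 4 n17095
theorem D17680 : act 4 n17095 = n17680 := rfl
theorem F69557 : act 0 n17680 = n17148 := d3_1 D17680 (iv D17148) (iv F67490)
theorem F69558 : act 3 n17680 = n17470 := d21_1 D17680 (iv D17470) (iv D16868) (iv F65196) D17095
theorem F69559 : act 8 n17680 = n17097 := d29_2 (iv F67491) D17680 (iv D17097)
def n17681 : Q := act 1 n17096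
theorem D17681 : act 1 n17096 = n17681 := rfl
theorem F69560 : act 3 n17681 = n17110 := d9_2 (iv F67493) D17681 (iv D17110)
theorem F69561 : act 7 n17681 = n17100 := d13_2 (iv F67494) D17681 (iv D17100)
def n17682 : Q := act 4 n17096
theorem D17682 : act 4 n17096 = n17682 := rfl
theorem F69562 : act 0 n17682 = n17150 := d3_1 D17682 (iv D17150) (iv F67492)
theorem F69563 : act 2 n17682 = n17097 := d16_1 D17682 (iv D17097) D17096
theorem F69564 : act 7 n17682 = n17101 := d28_2 (iv F67494) D17682 (iv D17101)
def n17683 : Q := act 5 n17097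
theorem D17683 : act 5 n17097 = n17683 := rfl
theorem F69565 : act 0 n17683 = n17151 := d4_1 D17683 (iv D17151) (iv F67495)
theorem F69566 : act 3 n17683 = n17472 := d22_1 D17683 (iv D17472) (iv F67496)
theorem F69567 : act 7 n17683 = n17102 := d31_2 (iv F67497) D17683 (iv D17102)
def n17684 : Q := act 4 n17098
theorem D17684 : act 4 n17098 = n17684 := rfl
theorem F69568 : act 0 n17684 = n17155 := d3_1 D17684 (iv D17155) (iv F67498)
theorem F69569 : act 2 n17684 = n17099 := d16_1 D17684 (iv D17099) D17098
def n17685 : Q := act 5 n17099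
theorem D17685 : act 5 n17099 = n17685 := rfl
theorem F69570 : act 0 n17685 = n17156 := d4_1 D17685 (iv D17156) (iv F67501)
theorem F69571 : act 4 n17685 = n17102 := d26_1 D17685 (iv D17102) (iv D16497) (iv F65201) D17099
def n17686 : Q := act 0 n17100
theorem D17686 : act 0 n17100 = n17686 := rfl
theorem F69572 : act 1 n17686 = n17157 := d0_2 D17100 D17686 (iv D17157) (iv D16552) (iv F65202)
theorem F69573 : act 3 n17686 = n17104 := d2_2 (iv F67502) D17686 (iv D17104)
theorem F69574 : act 5 n17686 = n17117 := d4_2 F68930 D17686 (iv F68928)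
def n17687 : Q := act 4 n17100
theorem D17687 : act 4 n17100 = n17687 := rfl
theorem F69575 : act 1 n17687 = n17101 := d10_1 D17687 (iv D17101) D17100
def n17688 : Q := act 5 n17101
theorem D17688 : act 5 n17101 = n17688 := rfl
theorem F69576 : act 0 n17688 = n17159 := d4_1 D17688 (iv D17159) (iv F67503)
theorem F69577 : act 2 n17688 = n17102 := d17_1 D17688 (iv D17102) (iv F67504)
def n17689 : Q := act 6 n17102
theorem D17689 : act 6 n17102 = n17689 := rfl
theorem F69578 : act 0 n17689 = n17160 := d5_1 D17689 (iv D17160) (iv F67505)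
theorem F69579 : act 3 n17689 = n17103 := d23_1 D17689 (iv D17103) (iv F67506)
def n17690 : Q := act 2 n17106
theorem D17690 : act 2 n17106 = n17690 := rfl
theorem F69580 : act 0 n17690 = n17164 := d1_1 D17690 (iv D17164) (iv F67518)
theorem F69581 : act 4 n17690 = n17368 := d16_2 (iv F67520) D17690 (iv D17368)
theorem F69582 : act 5 n17690 = n17108 := d17_2 (iv F67521) D17690 (iv D17108)
theorem F69583 : act 7 n17690 = n17690 := d19_2 F67522 D17690 (iv D17690)
theorem F69584 : act 8 n17690 = n17107 := d20_2 (iv F67523) D17690 (iv D17107)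
def n17691 : Q := act 1 n17108
theorem D17691 : act 1 n17108 = n17691 := rfl
theorem F69585 : act 2 n17691 = n17691 := d8_2 D17108 D17691 (iv D17691) (iv D17108) F65231
theorem F69586 : act 7 n17691 = n17691 := d13_2 F67529 D17691 (iv D17691)
theorem F69587 : act 8 n17691 = n17110 := d14_2 (iv F67530) D17691 (iv D17110)
def n17692 : Q := act 4 n17108
theorem D17692 : act 4 n17108 = n17692 := rfl
theorem F69588 : act 0 n17692 = n17169 := d3_1 D17692 (iv D17169) (iv F67528)
theorem F69589 : act 2 n17692 = n17109 := d16_1 D17692 (iv D17109) D17108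
theorem F69590 : act 5 n17692 = n17371 := d26_2 F69582 D17692 (iv D17371) (iv F68494) (iv F69581)
theorem F69591 : act 6 n17692 = n17640 := d27_2 F69385 D17692 F69441
theorem F69592 : act 7 n17692 = n17692 := d28_2 F67529 D17692 (iv D17692)
theorem F69593 : act 8 n17692 = n17111 := d29_2 (iv F67530) D17692 (iv D17111)
def n17693 : Q := act 0 n17110
theorem D17693 : act 0 n17110 = n17693 := rfl
theorem F69594 : act 1 n17693 = n17170 := d0_2 D17110 D17693 (iv D17170) (iv D16567) (iv F65234)
theorem F69595 : act 2 n17693 = n17693 := d1_2 F67538 D17693 (iv D17693)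
theorem F69596 : act 5 n17693 = n17118 := d4_2 F68937 D17693 (iv F68933)
theorem F69597 : act 7 n17693 = n17112 := d6_2 (iv F67539) D17693 (iv D17112)
def n17694 : Q := act 4 n17110
theorem D17694 : act 4 n17110 = n17694 := rfl
theorem F69598 : act 1 n17694 = n17111 := d10_1 D17694 (iv D17111) D17110
theorem F69599 : act 2 n17694 = n17694 := d16_1 D17694 (iv D17694) F67538
theorem F69600 : act 5 n17694 = n17373 := d26_2 F68937 D17694 (iv D17373) (iv F68498) (iv F68936)
theorem F69601 : act 6 n17694 = n17641 := d27_2 F69389 D17694 F69445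
theorem F69602 : act 7 n17694 = n17113 := d28_2 (iv F67539) D17694 (iv D17113)
def n17695 : Q := act 3 n17111
theorem D17695 : act 3 n17111 = n17695 := rfl
theorem F69603 : act 0 n17695 = n17172 := d2_1 D17695 (iv D17172) (iv F67540)
theorem F69604 : act 2 n17695 = n17480 := d15_1 D17695 (iv D17480) F66760 (iv F65238) (iv F67541)
theorem F69605 : act 5 n17695 = n17374 := d22_2 (iv F67542) D17695 (iv D17374)
theorem F69606 : act 6 n17695 = n17526 := d23_2 (iv F67543) D17695 F69084
theorem F69607 : act 7 n17695 = n17508 := d24_2 (iv F67544) D17695 F69014 F66883 (iv F65257)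
def n17696 : Q := act 4 n17112
theorem D17696 : act 4 n17112 = n17696 := rfl
theorem F69608 : act 0 n17696 = n17113 := d3_1 D17696 (iv D17113) D17112
theorem F69609 : act 1 n17696 = n17173 := d10_1 D17696 (iv D17173) (iv F67545)
theorem F69610 : act 2 n17696 = n17696 := d16_1 D17696 (iv D17696) F67546
theorem F69611 : act 3 n17696 = n17637 := d21_1 D17696 F69426 F68036 F65807 (iv F67547)
theorem F69612 : act 5 n17696 = n17375 := d26_2 (iv F67548) D17696 (iv D17375) F66295 (iv F65284)
theorem F69613 : act 6 n17696 = n17644 := d27_2 F68482 D17696 F69460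
theorem F69614 : act 8 n17696 = n17696 := d29_2 F67549 D17696 (iv D17696)
def n17697 : Q := act 3 n17114
theorem D17697 : act 3 n17114 = n17697 := rfl
theorem F69615 : act 8 n17697 = n17117 := d25_2 (iv F67558) D17697 (iv D17117)
def n17698 : Q := act 3 n17116
theorem D17698 : act 3 n17116 = n17698 := rfl
theorem F69616 : act 2 n17698 = n17117 := d15_1 D17698 (iv D17117) F65276 (iv F65274) (iv F67561)
def n17699 : Q := act 7 n17117
theorem D17699 : act 7 n17117 = n17699 := rfl
theorem F69617 : act 3 n17699 = n17118 := d24_1 D17699 (iv D17118) (iv D16521) (iv F65277) D17117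
def n17700 : Q := act 8 n17118
theorem D17700 : act 8 n17118 = n17700 := rfl
theorem F69618 : act 1 n17700 = n17645 := d14_1 D17700 F69464 F68067
theorem F69619 : act 2 n17700 = n17700 := d20_1 D17700 (iv D17700) F67563
theorem F69620 : act 4 n17700 = n17484 := d29_1 D17700 (iv D17484) (iv F67564)
theorem F69621 : act 7 n17700 = n17700 := d35_1 D17700 (iv D17700) (iv D17118) F65285 D17118
def n17701 : Q := act 3 n17119
theorem D17701 : act 3 n17119 = n17701 := rfl
theorem F69622 : act 0 n17701 = n17646 := d2_1 D17701 (iv D17646) (iv F67565)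
theorem F69623 : act 1 n17701 = n17395 := d9_1 D17701 (iv D17395) (iv F67566)
theorem F69624 : act 5 n17701 = n17121 := d22_2 (iv F67569) D17701 (iv D17121)
theorem F69625 : act 6 n17701 = n17400 := d23_2 (iv F67570) D17701 (iv D17400)
theorem F69626 : act 7 n17701 = n17123 := d24_2 D17119 D17701 (iv D17123) (iv D16526) (iv F65289)
def n17702 : Q := act 3 n17120
theorem D17702 : act 3 n17120 = n17702 := rfl
theorem F69627 : act 7 n17702 = n17525 := d24_2 D17120 D17702 (iv D17525) (iv D16933) (iv F65294)
theorem F69628 : act 8 n17702 = n17121 := d25_2 (iv F67573) D17702 (iv D17121)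
def n17703 : Q := act 2 n17121
theorem D17703 : act 2 n17121 = n17703 := rfl
theorem F69629 : act 3 n17703 = n17703 := d15_2 D17121 D17703 (iv D17703) (iv D17121) F65296
theorem F69630 : act 7 n17703 = n17124 := d19_2 (iv F67574) D17703 (iv D17124)
def n17704 : Q := act 4 n17121
theorem D17704 : act 4 n17121 = n17704 := rfl
theorem F69631 : act 3 n17704 = n17136 := d21_1 D17704 (iv D17136) (iv D16536) (iv F65297) D17121
theorem F69632 : act 7 n17704 = n17125 := d28_2 (iv F67574) D17704 (iv D17125)
def n17705 : Q := act 3 n17122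
theorem D17705 : act 3 n17122 = n17705 := rfl
theorem F69633 : act 1 n17705 = n17404 := d9_1 D17705 (iv D17404) (iv F67575)
theorem F69634 : act 6 n17705 = n17123 := d23_2 (iv F67578) D17705 (iv D17123)
theorem F69635 : act 7 n17705 = n17400 := d24_2 D17122 D17705 (iv D17400) (iv D16810) (iv F65300)
theorem F69636 : act 8 n17705 = n17528 := d25_2 (iv F67579) D17705 (iv D17528)
def n17706 : Q := act 2 n17123
theorem D17706 : act 2 n17123 = n17706 := rfl
theorem F69637 : act 3 n17706 = n17128 := d15_2 D17123 D17706 (iv D17128) (iv D16530) (iv F65304)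
theorem F69638 : act 5 n17706 = n17124 := d17_2 (iv F67581) D17706 (iv D17124)
theorem F69639 : act 8 n17706 = n17529 := d20_2 (iv F67582) D17706 (iv D17529)
def n17707 : Q := act 4 n17123
theorem D17707 : act 4 n17123 = n17707 := rfl
theorem F69640 : act 1 n17707 = n17611 := d10_1 D17707 F69329 (iv F67580)
theorem F69641 : act 3 n17707 = n17610 := d21_1 D17707 (iv D17610) F67166 (iv F65305) D17123
theorem F69642 : act 8 n17707 = n17530 := d29_2 (iv F67582) D17707 (iv D17530)
def n17708 : Q := act 1 n17124
theorem D17708 : act 1 n17124 = n17708 := rfl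
theorem F69643 : act 3 n17708 = n17130 := d9_2 (iv F67583) D17708 (iv D17130)
theorem F69644 : act 8 n17708 = n17531 := d14_2 (iv F67584) D17708 (iv D17531)
def n17709 : Q := act 4 n17124
theorem D17709 : act 4 n17124 = n17709 := rfl
theorem F69645 : act 2 n17709 = n17125 := d16_1 D17709 (iv D17125) D17124
theorem F69646 : act 8 n17709 = n17532 := d29_2 (iv F67584) D17709 (iv D17532)
def n17710 : Q := act 5 n17125
theorem D17710 : act 5 n17125 = n17710 := rfl
theorem F69647 : act 3 n17710 = n17126 := d22_1 D17710 (iv D17126) (iv F67585)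
theorem F69648 : act 8 n17710 = n17533 := d32_2 (iv F67586) D17710 (iv D17533)
def n17711 : Q := act 6 n17126
theorem D17711 : act 6 n17126 = n17711 := rfl
theorem F69649 : act 7 n17711 = n17141 := d33_2 (iv F67587) D17711 (iv D17141)
theorem F69650 : act 8 n17711 = n17534 := d34_2 (iv F67588) D17711 (iv D17534)
def n17712 : Q := act 2 n17127
theorem D17712 : act 2 n17127 = n17712 := rfl
theorem F69651 : act 5 n17712 = n17631 := d17_2 (iv F67590) D17712 F69397
theorem F69652 : act 6 n17712 = n17128 := d18_2 (iv F67591) D17712 (iv D17128)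
theorem F69653 : act 7 n17712 = n17712 := d19_2 F67592 D17712 (iv D17712)
theorem F69654 : act 8 n17712 = n17535 := d20_2 (iv F67593) D17712 (iv D17535)
def n17713 : Q := act 1 n17128
theorem D17713 : act 1 n17128 = n17713 := rfl
theorem F69655 : act 2 n17713 = n17175 := d8_2 D17128 D17713 (iv D17175) (iv D16578) (iv F65315)
theorem F69656 : act 5 n17713 = n17130 := d11_2 (iv F67594) D17713 (iv D17130)
theorem F69657 : act 7 n17713 = n17713 := d13_2 F67595 D17713 (iv D17713)
theorem F69658 : act 8 n17713 = n17536 := d14_2 (iv F67596) D17713 (iv D17536)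
theorem F69659 : act 4 n17712 = n17713 := d29_3 F69658 (iv F69104) (iv F69654)
def n17714 : Q := act 4 n17128
theorem D17714 : act 4 n17128 = n17714 := rfl
theorem F69660 : act 1 n17714 = n17712 := d10_1 D17714 F69659 (iv D17713)
theorem F69661 : act 2 n17714 = n17129 := d16_1 D17714 (iv D17129) D17128
theorem F69662 : act 6 n17714 = n17713 := d27_2 F69652 D17714 (iv F69659)
theorem F69663 : act 7 n17714 = n17714 := d28_2 F67595 D17714 (iv D17714)
theorem F69664 : act 8 n17714 = n17537 := d29_2 (iv F67596) D17714 (iv D17537)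
def n17715 : Q := act 0 n17130
theorem D17715 : act 0 n17130 = n17715 := rfl
theorem F69665 : act 2 n17715 = n17176 := d1_2 (iv F67601) D17715 (iv D17176)
theorem F69666 : act 7 n17715 = n17715 := d6_2 F67602 D17715 (iv D17715)
theorem F69667 : act 8 n17715 = n17538 := d7_2 (iv F67603) D17715 (iv D17538)
def n17716 : Q := act 3 n17131
theorem D17716 : act 3 n17131 = n17716 := rfl
theorem F69668 : act 0 n17716 = n17301 := d2_1 D17716 (iv D17301) (iv F67604)
theorem F69669 : act 1 n17716 = n17393 := d9_1 D17716 (iv D17393) (iv F67605)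
theorem F69670 : act 5 n17716 = n17394 := d22_2 (iv F67608) D17716 (iv D17394)
theorem F69671 : act 6 n17716 = n17430 := d23_2 (iv F67609) D17716 (iv D17430)
theorem F69672 : act 7 n17716 = n17211 := d24_2 D17131 D17716 (iv D17211) (iv D16617) (iv F65324)
def n17717 : Q := act 3 n17132
theorem D17717 : act 3 n17132 = n17717 := rfl
theorem F69673 : act 5 n17717 = n17134 := d22_2 (iv F67611) D17717 (iv D17134)
theorem F69674 : act 7 n17717 = n17144 := d24_2 D17132 D17717 (iv D17144) (iv D16544) (iv F65329)
theorem F69675 : act 8 n17717 = n17133 := d25_2 (iv F67612) D17717 (iv D17133)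
def n17718 : Q := act 2 n17133
theorem D17718 : act 2 n17133 = n17718 := rfl
theorem F69676 : act 3 n17718 = n17718 := d15_2 D17133 D17718 (iv D17718) (iv D17133) F65331
theorem F69677 : act 5 n17718 = n17135 := d17_2 (iv F67613) D17718 (iv D17135)
theorem F69678 : act 7 n17718 = n17137 := d19_2 (iv F67614) D17718 (iv D17137)
def n17719 : Q := act 4 n17133
theorem D17719 : act 4 n17133 = n17719 := rfl
theorem F69679 : act 7 n17719 = n17138 := d28_2 (iv F67614) D17719 (iv D17138)
def n17720 : Q := act 2 n17134
theorem D17720 : act 2 n17134 = n17720 := rfl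
theorem F69680 : act 3 n17720 = n17720 := d15_2 D17134 D17720 (iv D17720) (iv D17134) F65333
theorem F69681 : act 7 n17720 = n17147 := d19_2 (iv F67615) D17720 (iv D17147)
theorem F69682 : act 8 n17720 = n17135 := d20_2 (iv F67616) D17720 (iv D17135)
def n17721 : Q := act 4 n17134
theorem D17721 : act 4 n17134 = n17721 := rfl
theorem F69683 : act 7 n17721 = n17148 := d28_2 (iv F67615) D17721 (iv D17148)
theorem F69684 : act 8 n17721 = n17136 := d29_2 (iv F67616) D17721 (iv D17136)
def n17722 : Q := act 4 n17135
theorem D17722 : act 4 n17135 = n17722 := rfl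
theorem F69685 : act 2 n17722 = n17136 := d16_1 D17722 (iv D17136) D17135
theorem F69686 : act 7 n17722 = n17139 := d28_2 (iv F67618) D17722 (iv D17139)
def n17723 : Q := act 5 n17136
theorem D17723 : act 5 n17136 = n17723 := rfl
theorem F69687 : act 7 n17723 = n17140 := d31_2 (iv F67619) D17723 (iv D17140)
def n17724 : Q := act 4 n17137
theorem D17724 : act 4 n17137 = n17724 := rfl
theorem F69688 : act 2 n17724 = n17138 := d16_1 D17724 (iv D17138) D17137
theorem F69689 : act 8 n17724 = n17155 := d29_2 (iv F67622) D17724 (iv D17155)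
def n17725 : Q := act 5 n17138
theorem D17725 : act 5 n17138 = n17725 := rfl
theorem F69690 : act 4 n17725 = n17140 := d26_1 D17725 (iv D17140) (iv D16539) (iv F65336) D17138
theorem F69691 : act 8 n17725 = n17156 := d32_2 (iv F67623) D17725 (iv D17156)
def n17726 : Q := act 5 n17139
theorem D17726 : act 5 n17139 = n17726 := rfl
theorem F69692 : act 2 n17726 = n17140 := d17_1 D17726 (iv D17140) (iv F67624)
theorem F69693 : act 8 n17726 = n17159 := d32_2 (iv F67625) D17726 (iv D17159)
def n17727 : Q := act 6 n17140
theorem D17727 : act 6 n17140 = n17727 := rfl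
theorem F69694 : act 3 n17727 = n17141 := d23_1 D17727 (iv D17141) (iv F67626)
theorem F69695 : act 8 n17727 = n17160 := d34_2 (iv F67627) D17727 (iv D17160)
def n17728 : Q := act 2 n17142
theorem D17728 : act 2 n17142 = n17728 := rfl
theorem F69696 : act 0 n17728 = n17344 := d1_1 D17728 (iv F69542) F69541
theorem F69697 : act 3 n17728 = n17162 := d15_2 D17142 D17728 (iv D17162) (iv D16560) (iv F65346)
theorem F69698 : act 5 n17728 = n17602 := d17_2 (iv F67629) D17728 (iv D17602)
theorem F69699 : act 7 n17728 = n17464 := d19_2 F68994 D17728 (iv F68992)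
def n17729 : Q := act 4 n17142
theorem D17729 : act 4 n17142 = n17729 := rfl
theorem F69700 : act 3 n17729 = n17146 := d21_1 D17729 (iv D17146) (iv D16545) (iv F65347) D17142
def n17730 : Q := act 2 n17143
theorem D17730 : act 2 n17143 = n17730 := rfl
theorem F69701 : act 3 n17730 = n17163 := d15_2 D17143 D17730 (iv D17163) (iv D16561) (iv F65349)
theorem F69702 : act 6 n17730 = n17145 := d18_2 (iv F67630) D17730 (iv D17145)
theorem F69703 : act 7 n17730 = n17152 := d19_2 (iv F67631) D17730 (iv D17152)
def n17731 : Q := act 4 n17143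
theorem D17731 : act 4 n17143 = n17731 := rfl
theorem F69704 : act 6 n17731 = n17146 := d27_2 (iv F67630) D17731 (iv D17146)
theorem F69705 : act 7 n17731 = n17153 := d28_2 (iv F67631) D17731 (iv D17153)
def n17732 : Q := act 2 n17144
theorem D17732 : act 2 n17144 = n17732 := rfl
theorem F69706 : act 3 n17732 = n17164 := d15_2 D17144 D17732 (iv D17164) (iv D16562) (iv F65351)
theorem F69707 : act 5 n17732 = n17147 := d17_2 (iv F67632) D17732 (iv D17147)
theorem F69708 : act 8 n17732 = n17145 := d20_2 (iv F67633) D17732 (iv D17145)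
def n17733 : Q := act 4 n17144
theorem D17733 : act 4 n17144 = n17733 := rfl
theorem F69709 : act 8 n17733 = n17146 := d29_2 (iv F67633) D17733 (iv D17146)
def n17734 : Q := act 1 n17145
theorem D17734 : act 1 n17145 = n17734 := rfl
theorem F69710 : act 3 n17734 = n17166 := d9_2 (iv F67634) D17734 (iv D17166)
theorem F69711 : act 5 n17734 = n17149 := d11_2 (iv F67635) D17734 (iv D17149)
theorem F69712 : act 7 n17734 = n17154 := d13_2 (iv F67636) D17734 (iv D17154)
def n17735 : Q := act 4 n17145
theorem D17735 : act 4 n17145 = n17735 := rfl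
theorem F69713 : act 2 n17735 = n17146 := d16_1 D17735 (iv D17146) D17145
theorem F69714 : act 7 n17735 = n17155 := d28_2 (iv F67636) D17735 (iv D17155)
def n17736 : Q := act 5 n17146
theorem D17736 : act 5 n17146 = n17736 := rfl
theorem F69715 : act 4 n17736 = n17151 := d26_1 D17736 (iv D17151) (iv D16548) (iv F65354) D17146
theorem F69716 : act 7 n17736 = n17156 := d31_2 (iv F67637) D17736 (iv D17156)
def n17737 : Q := act 1 n17147
theorem D17737 : act 1 n17147 = n17737 := rfl
theorem F69717 : act 3 n17737 = n17168 := d9_2 (iv F67638) D17737 (iv D17168)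
theorem F69718 : act 8 n17737 = n17149 := d14_2 (iv F67639) D17737 (iv D17149)
def n17738 : Q := act 4 n17147
theorem D17738 : act 4 n17147 = n17738 := rfl
theorem F69719 : act 2 n17738 = n17148 := d16_1 D17738 (iv D17148) D17147
theorem F69720 : act 8 n17738 = n17150 := d29_2 (iv F67639) D17738 (iv D17150)
def n17739 : Q := act 5 n17148
theorem D17739 : act 5 n17148 = n17739 := rfl
theorem F69721 : act 3 n17739 = n17609 := d22_1 D17739 (iv D17609) (iv F67640)
theorem F69722 : act 8 n17739 = n17151 := d32_2 (iv F67641) D17739 (iv D17151)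
def n17740 : Q := act 0 n17149
theorem D17740 : act 0 n17149 = n17740 := rfl
theorem F69723 : act 3 n17740 = n17170 := d2_2 (iv F67642) D17740 (iv D17170)
theorem F69724 : act 7 n17740 = n17157 := d6_2 (iv F67643) D17740 (iv D17157)
def n17741 : Q := act 4 n17149
theorem D17741 : act 4 n17149 = n17741 := rfl
theorem F69725 : act 1 n17741 = n17150 := d10_1 D17741 (iv D17150) D17149
theorem F69726 : act 7 n17741 = n17158 := d28_2 (iv F67643) D17741 (iv D17158)
def n17742 : Q := act 3 n17150
theorem D17742 : act 3 n17150 = n17742 := rfl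
theorem F69727 : act 2 n17742 = n17611 := d15_1 D17742 (iv D17611) F67169 (iv F65359) (iv F67644)
theorem F69728 : act 4 n17742 = n17172 := d21_2 D17150 D17742 (iv D17172) (iv D16568) (iv F65357)
def n17743 : Q := act 5 n17150
theorem D17743 : act 5 n17150 = n17743 := rfl
theorem F69729 : act 2 n17743 = n17151 := d17_1 D17743 (iv D17151) (iv F67644)
theorem F69730 : act 7 n17743 = n17159 := d31_2 (iv F67645) D17743 (iv D17159)
def n17744 : Q := act 6 n17151
theorem D17744 : act 6 n17151 = n17744 := rfl
theorem F69731 : act 3 n17744 = n17613 := d23_1 D17744 (iv D17613) (iv F67646)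
theorem F69732 : act 7 n17744 = n17160 := d33_2 (iv F67647) D17744 (iv D17160)
def n17745 : Q := act 4 n17152
theorem D17745 : act 4 n17152 = n17745 := rfl
theorem F69733 : act 2 n17745 = n17153 := d16_1 D17745 (iv D17153) D17152
theorem F69734 : act 6 n17745 = n17155 := d27_2 (iv F67649) D17745 (iv D17155)
def n17746 : Q := act 5 n17153
theorem D17746 : act 5 n17153 = n17746 := rfl
def n17747 : Q := act 4 n17154
theorem D17747 : act 4 n17154 = n17747 := rfl
theorem F69735 : act 1 n17747 = n17155 := d10_1 D17747 (iv D17155) D17154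
def n17748 : Q := act 3 n17155
theorem D17748 : act 3 n17155 = n17748 := rfl
theorem F69736 : act 4 n17748 = n17161 := d21_2 D17155 D17748 (iv D17161) (iv D16558) (iv F65362)
def n17749 : Q := act 5 n17155
theorem D17749 : act 5 n17155 = n17749 := rfl
theorem F69737 : act 2 n17749 = n17156 := d17_1 D17749 (iv D17156) (iv F67653)
theorem F69738 : act 4 n17749 = n17159 := d26_1 D17749 (iv D17159) (iv D16553) (iv F65363) D17155
def n17750 : Q := act 6 n17156
theorem D17750 : act 6 n17156 = n17750 := rfl
theorem F69739 : act 4 n17750 = n17160 := d27_1 D17750 (iv D17160) (iv F67654)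
def n17751 : Q := act 4 n17157
theorem D17751 : act 4 n17157 = n17751 := rfl
theorem F69740 : act 0 n17751 = n17158 := d3_1 D17751 (iv D17158) D17157
def n17752 : Q := act 5 n17158
theorem D17752 : act 5 n17158 = n17752 := rfl
theorem F69741 : act 1 n17752 = n17159 := d11_1 D17752 (iv D17159) (iv F67656)
def n17753 : Q := act 6 n17159
theorem D17753 : act 6 n17159 = n17753 := rfl
theorem F69742 : act 2 n17753 = n17160 := d18_1 D17753 (iv D17160) (iv F67657)
def n17754 : Q := act 7 n17161
theorem D17754 : act 7 n17161 = n17754 := rfl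
theorem F69743 : act 0 n17754 = n17215 := d6_1 D17754 (iv F68563) F68559
theorem F69744 : act 1 n17754 = n17385 := d13_1 D17754 F68579 F67942
theorem F69745 : act 2 n17754 = n17214 := d19_1 D17754 F67908 F67885
theorem F69746 : act 3 n17754 = n17174 := d24_1 D17754 (iv D17174) (iv D16574) (iv F65374) D17161
theorem F69747 : act 5 n17754 = n17382 := d31_1 D17754 F68563 F67912
theorem F69748 : act 6 n17754 = n17222 := d33_1 D17754 (iv F68579) F68578
theorem F69749 : act 8 n17496 = n17754 := d32_0 F69747 F68564 (iv F68983)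
def n17755 : Q := act 1 n17164
theorem D17755 : act 1 n17164 = n17755 := rfl
theorem F69750 : act 2 n17755 = n17177 := d8_2 D17164 D17755 (iv D17177) (iv D16581) (iv F65385)
theorem F69751 : act 5 n17755 = n17168 := d11_2 (iv F67665) D17755 (iv D17168)
theorem F69752 : act 7 n17755 = n17755 := d13_2 F67666 D17755 (iv D17755)
theorem F69753 : act 8 n17755 = n17166 := d14_2 (iv F67667) D17755 (iv D17166)
theorem F69754 : act 0 n17645 = n17755 := d7_3 F69753 (iv F68066) (iv F69464)
theorem F69755 : act 4 n17619 = n17755 := d29_3 F69753 (iv F67677) (iv F69340)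
def n17756 : Q := act 4 n17164
theorem D17756 : act 4 n17164 = n17756 := rfl
theorem F69756 : act 0 n17756 = n17368 := d3_1 D17756 (iv F69581) F69580
theorem F69757 : act 1 n17756 = n17619 := d10_1 D17756 F69755 (iv D17755)
theorem F69758 : act 2 n17756 = n17165 := d16_1 D17756 (iv D17165) D17164
theorem F69759 : act 5 n17756 = n17244 := d26_2 (iv F67665) D17756 F68026 F67690 (iv D17169)
theorem F69760 : act 6 n17756 = n17755 := d27_2 F69338 D17756 (iv F69755)
theorem F69761 : act 7 n17756 = n17756 := d28_2 F67666 D17756 (iv D17756)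
theorem F69762 : act 8 n17756 = n17167 := d29_2 (iv F67667) D17756 (iv D17167)
def n17757 : Q := act 3 n17167
theorem D17757 : act 3 n17167 = n17757 := rfl
theorem F69763 : act 0 n17757 = n17347 := d2_1 D17757 F68439 (iv F67678)
theorem F69764 : act 1 n17757 = n17730 := d9_1 D17757 F69701 (iv F67679)
theorem F69765 : act 2 n17757 = n17232 := d15_1 D17757 (iv D17232) F65748 (iv F65393) (iv F67680)
theorem F69766 : act 5 n17757 = n17234 := d22_2 (iv F67681) D17757 F67989
theorem F69767 : act 6 n17757 = n17734 := d23_2 (iv F67682) D17757 F69710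
theorem F69768 : act 7 n17757 = n17237 := d24_2 (iv F67683) D17757 F68001 F65777 F65421
def n17758 : Q := act 0 n17168
theorem D17758 : act 0 n17168 = n17758 := rfl
theorem F69769 : act 2 n17758 = n17178 := d1_2 (iv F67684) D17758 (iv D17178)
theorem F69770 : act 5 n17758 = n17645 := d4_2 F69751 D17758 F69754
theorem F69771 : act 7 n17758 = n17758 := d6_2 F67685 D17758 (iv D17758)
theorem F69772 : act 8 n17758 = n17170 := d7_2 (iv F67686) D17758 (iv D17170)
def n17759 : Q := act 4 n17168
theorem D17759 : act 4 n17168 = n17759 := rfl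
theorem F69773 : act 1 n17759 = n17169 := d10_1 D17759 (iv D17169) D17168
theorem F69774 : act 2 n17759 = n17179 := d16_1 D17759 (iv D17179) (iv F67684)
theorem F69775 : act 5 n17759 = n17622 := d26_2 F69751 D17759 (iv F69392) F69393 F69755
theorem F69776 : act 7 n17759 = n17759 := d28_2 F67685 D17759 (iv D17759)
theorem F69777 : act 8 n17759 = n17171 := d29_2 (iv F67686) D17759 (iv D17171)
def n17760 : Q := act 3 n17169
theorem D17760 : act 3 n17169 = n17760 := rfl
theorem F69778 : act 2 n17760 = n17518 := d15_1 D17760 (iv D17518) F66916 (iv F65399) (iv F67687)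
theorem F69779 : act 5 n17760 = n17519 := d22_2 F67690 D17760 F69057
theorem F69780 : act 8 n17760 = n17172 := d25_2 (iv F67689) D17760 (iv D17172)
def n17761 : Q := act 4 n17170
theorem D17761 : act 4 n17170 = n17761 := rfl
theorem F69781 : act 0 n17761 = n17171 := d3_1 D17761 (iv D17171) D17170
theorem F69782 : act 2 n17761 = n17180 := d16_1 D17761 (iv D17180) (iv F67691)
theorem F69783 : act 7 n17761 = n17173 := d28_2 (iv F67692) D17761 (iv D17173)
def n17762 : Q := act 3 n17171
theorem D17762 : act 3 n17171 = n17762 := rfl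
theorem F69784 : act 1 n17762 = n17172 := d9_1 D17762 (iv D17172) (iv F67693)
def n17763 : Q := act 0 n17175
theorem D17763 : act 0 n17175 = n17763 := rfl
theorem F69785 : act 1 n17763 = n17763 := d0_2 D17175 D17763 (iv D17763) (iv D17175) F65452
theorem F69786 : act 3 n17763 = n17180 := d2_2 (iv F67707) D17763 F67733
theorem F69787 : act 4 n17763 = n17638 := d3_2 (iv F67708) D17763 F69430
theorem F69788 : act 5 n17763 = n17176 := d4_2 (iv F67709) D17763 (iv D17176)
theorem F69789 : act 6 n17763 = n17655 := d5_2 (iv F67710) D17763 F69494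
theorem F69790 : act 7 n17763 = n17763 := d6_2 F67711 D17763 (iv D17763)
theorem F69791 : act 8 n17763 = n17624 := d7_2 (iv F67712) D17763 (iv D17624)
def n17764 : Q := act 4 n17178
theorem D17764 : act 4 n17178 = n17764 := rfl
theorem F69792 : act 0 n17764 = n17179 := d3_1 D17764 (iv D17179) D17178
theorem F69793 : act 1 n17764 = n17764 := d10_1 D17764 (iv D17764) F67723
theorem F69794 : act 3 n17764 = n17624 := d21_1 D17764 F69363 (iv D17059) (iv F67356) (iv F67724)
theorem F69795 : act 5 n17764 = n17623 := d26_2 (iv F67725) D17764 (iv F69369) F69370 F68912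
theorem F69796 : act 7 n17764 = n17764 := d28_2 F67726 D17764 (iv D17764)
theorem F69797 : act 8 n17764 = n17180 := d29_2 (iv F67727) D17764 (iv D17180)
def n17765 : Q := act 3 n17181
theorem D17765 : act 3 n17181 = n17765 := rfl
theorem F69798 : act 0 n17765 = n17183 := d2_1 D17765 (iv D17183) (iv F67736)
theorem F69799 : act 1 n17765 = n17256 := d9_1 D17765 (iv D17256) (iv F67737)
theorem F69800 : act 5 n17765 = n17398 := d22_2 (iv F67740) D17765 (iv D17398)
theorem F69801 : act 6 n17765 = n17492 := d23_2 (iv F67741) D17765 (iv D17492)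
theorem F69802 : act 7 n17765 = n17196 := d24_2 D17181 D17765 (iv D17196) (iv D16604) (iv F65502)
theorem F69803 : act 8 n17765 = n17716 := d25_2 (iv F67742) D17765 (iv D17716)
def n17766 : Q := act 3 n17182
theorem D17766 : act 3 n17182 = n17766 := rfl
theorem F69804 : act 0 n17766 = n17717 := d2_1 D17766 (iv D17717) (iv F67743)
theorem F69805 : act 1 n17766 = n17186 := d9_1 D17766 (iv D17186) (iv F67744)
theorem F69806 : act 5 n17766 = n17659 := d22_2 (iv F67747) D17766 (iv D17659)
theorem F69807 : act 6 n17766 = n17334 := d23_2 (iv F67748) D17766 (iv D17334)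
theorem F69808 : act 7 n17766 = n17676 := d24_2 D17182 D17766 (iv D17676) (iv D17093) (iv F65509)
theorem F69809 : act 8 n17766 = n17306 := d25_2 (iv F67749) D17766 (iv D17306)
def n17767 : Q := act 2 n17183
theorem D17767 : act 2 n17183 = n17767 := rfl
theorem F69810 : act 1 n17767 = n17647 := d8_1 D17767 (iv D17647) F67420 (iv F65535) (iv F67750)
theorem F69811 : act 3 n17767 = n17767 := d15_2 D17183 D17767 (iv D17767) (iv D17183) F65514
theorem F69812 : act 5 n17767 = n17401 := d17_2 (iv F67751) D17767 (iv D17401)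
theorem F69813 : act 7 n17767 = n17199 := d19_2 (iv F67752) D17767 (iv D17199)
def n17768 : Q := act 4 n17183
theorem D17768 : act 4 n17183 = n17768 := rfl
theorem F69814 : act 1 n17768 = n17187 := d10_1 D17768 (iv D17187) (iv F67750)
theorem F69815 : act 7 n17768 = n17200 := d28_2 (iv F67752) D17768 (iv D17200)
def n17769 : Q := act 3 n17184
theorem D17769 : act 3 n17184 = n17769 := rfl
theorem F69816 : act 0 n17769 = n17261 := d2_1 D17769 (iv D17261) (iv F67753)
theorem F69817 : act 1 n17769 = n17676 := d9_1 D17769 (iv D17676) (iv F67754)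
theorem F69818 : act 5 n17769 = n17666 := d22_2 (iv F67757) D17769 (iv D17666)
theorem F69819 : act 6 n17769 = n17289 := d23_2 (iv F67758) D17769 (iv D17289)
theorem F69820 : act 7 n17769 = n17186 := d24_2 D17184 D17769 (iv D17186) (iv D16594) (iv F65519)
theorem F69821 : act 8 n17769 = n17272 := d25_2 (iv F67759) D17769 (iv D17272)
def n17770 : Q := act 3 n17185
theorem D17770 : act 3 n17185 = n17770 := rfl
theorem F69822 : act 0 n17770 = n17263 := d2_1 D17770 (iv D17263) (iv F67760)
theorem F69823 : act 1 n17770 = n17659 := d9_1 D17770 (iv D17659) (iv F67761)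
theorem F69824 : act 5 n17770 = n17186 := d22_2 (iv F67764) D17770 (iv D17186)
theorem F69825 : act 7 n17770 = n17666 := d24_2 D17185 D17770 (iv D17666) (iv D17086) (iv F65526)
theorem F69826 : act 8 n17770 = n17311 := d25_2 (iv F67765) D17770 (iv D17311)
def n17771 : Q := act 2 n17186
theorem D17771 : act 2 n17186 = n17771 := rfl
theorem F69827 : act 0 n17771 = n17264 := d1_1 D17771 (iv D17264) (iv F67766)
theorem F69828 : act 3 n17771 = n17189 := d15_2 D17186 D17771 (iv D17189) (iv D16597) (iv F65530)
theorem F69829 : act 6 n17771 = n17349 := d18_2 (iv F67767) D17771 (iv D17349)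
theorem F69830 : act 8 n17771 = n17312 := d20_2 (iv F67768) D17771 (iv D17312)
def n17772 : Q := act 4 n17186
theorem D17772 : act 4 n17186 = n17772 := rfl
theorem F69831 : act 0 n17772 = n17265 := d3_1 D17772 (iv D17265) (iv F67766)
theorem F69832 : act 3 n17772 = n17187 := d21_1 D17772 (iv D17187) (iv D16595) (iv F65531) D17186
theorem F69833 : act 6 n17772 = n17350 := d27_2 (iv F67767) D17772 (iv D17350)
theorem F69834 : act 8 n17772 = n17313 := d29_2 (iv F67768) D17772 (iv D17313)
def n17773 : Q := act 5 n17187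
theorem D17773 : act 5 n17187 = n17773 := rfl
theorem F69835 : act 0 n17773 = n17266 := d4_1 D17773 (iv D17266) (iv F67769)
theorem F69836 : act 2 n17773 = n17653 := d17_1 D17773 (iv D17653) (iv F67770)
theorem F69837 : act 4 n17773 = n17408 := d26_1 D17773 (iv D17408) (iv D16816) (iv F65536) D17187
theorem F69838 : act 7 n17773 = n17207 := d31_2 (iv F67771) D17773 (iv D17207)
def n17774 : Q := act 2 n17188
theorem D17774 : act 2 n17188 = n17774 := rfl
theorem F69839 : act 0 n17774 = n17267 := d1_1 D17774 (iv D17267) (iv F67772)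
theorem F69840 : act 5 n17774 = n17189 := d17_2 (iv F67774) D17774 (iv D17189)
theorem F69841 : act 6 n17774 = n17758 := d18_2 (iv F67775) D17774 F69769
theorem F69842 : act 7 n17774 = n17774 := d19_2 F67776 D17774 (iv D17774)
theorem F69843 : act 8 n17774 = n17362 := d20_2 (iv F67777) D17774 (iv D17362)
def n17775 : Q := act 4 n17188
theorem D17775 : act 4 n17188 = n17775 := rfl
theorem F69844 : act 0 n17775 = n17268 := d3_1 D17775 (iv D17268) (iv F67772)
theorem F69845 : act 1 n17775 = n17775 := d10_1 D17775 (iv D17775) F67773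
theorem F69846 : act 3 n17775 = n17410 := d21_1 D17775 (iv D17410) (iv D16817) (iv F65540) D17188
theorem F69847 : act 5 n17775 = n17655 := d26_2 (iv F67774) D17775 (iv D17655) F67440 (iv F65545)
theorem F69848 : act 6 n17775 = n17764 := d27_2 (iv F67775) D17775 (iv D17764)
theorem F69849 : act 7 n17775 = n17775 := d28_2 F67776 D17775 (iv D17775)
theorem F69850 : act 8 n17775 = n17363 := d29_2 (iv F67777) D17775 (iv D17363)
def n17776 : Q := act 1 n17189
theorem D17776 : act 1 n17189 = n17776 := rfl
theorem F69851 : act 2 n17776 = n17776 := d8_2 D17189 D17776 (iv D17776) (iv D17189) F65544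
theorem F69852 : act 4 n17776 = n17656 := d10_2 (iv F67779) D17776 (iv D17656)
theorem F69853 : act 6 n17776 = n17370 := d12_2 (iv F67780) D17776 (iv D17370)
theorem F69854 : act 7 n17776 = n17776 := d13_2 F67781 D17776 (iv D17776)
theorem F69855 : act 8 n17776 = n17364 := d14_2 (iv F67782) D17776 (iv D17364)
def n17777 : Q := act 4 n17190
theorem D17777 : act 4 n17190 = n17777 := rfl
theorem F69856 : act 0 n17777 = n17270 := d3_1 D17777 (iv D17270) (iv F67783)
theorem F69857 : act 1 n17777 = n17432 := d10_1 D17777 (iv D17432) (iv F67784)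
theorem F69858 : act 2 n17777 = n17277 := d16_1 D17777 (iv D17277) (iv F67785)
theorem F69859 : act 3 n17777 = n17386 := d21_1 D17777 (iv D17386) (iv D16794) (iv F65552) D17190
theorem F69860 : act 6 n17777 = n17412 := d27_2 (iv F67787) D17777 (iv D17412)
theorem F69861 : act 8 n17777 = n17212 := d29_2 (iv F67788) D17777 (iv D17212)
def n17778 : Q := act 2 n17191
theorem D17778 : act 2 n17191 = n17778 := rfl
theorem F69862 : act 0 n17778 = n17496 := d1_1 D17778 (iv D17496) (iv F67789)
theorem F69863 : act 1 n17778 = n17416 := d8_1 D17778 (iv D17416) F66529 (iv F65578) (iv F67790)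
theorem F69864 : act 3 n17778 = n17247 := d15_2 D17191 D17778 (iv D17247) (iv D16652) (iv F65558)
theorem F69865 : act 5 n17778 = n17431 := d17_2 (iv F67791) D17778 (iv D17431)
theorem F69866 : act 6 n17778 = n17199 := d18_2 (iv F67792) D17778 (iv D17199)
theorem F69867 : act 8 n17778 = n17215 := d20_2 (iv F67793) D17778 (iv D17215)
def n17779 : Q := act 4 n17191
theorem D17779 : act 4 n17191 = n17779 := rfl
theorem F69868 : act 0 n17779 = n17497 := d3_1 D17779 (iv D17497) (iv F67789)
theorem F69869 : act 1 n17779 = n17194 := d10_1 D17779 (iv D17194) (iv F67790)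
theorem F69870 : act 3 n17779 = n17442 := d21_1 D17779 (iv D17442) (iv D16846) (iv F65559) D17191
theorem F69871 : act 6 n17779 = n17200 := d27_2 (iv F67792) D17779 (iv D17200)
theorem F69872 : act 8 n17779 = n17216 := d29_2 (iv F67793) D17779 (iv D17216)
def n17780 : Q := act 3 n17192
theorem D17780 : act 3 n17192 = n17780 := rfl
theorem F69873 : act 0 n17780 = n17272 := d2_1 D17780 (iv D17272) (iv F67794)
theorem F69874 : act 1 n17780 = n17439 := d9_1 D17780 (iv D17439) (iv F67795)
theorem F69875 : act 5 n17780 = n17434 := d22_2 (iv F67798) D17780 (iv D17434)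
theorem F69876 : act 6 n17780 = n17203 := d23_2 (iv F67799) D17780 (iv D17203)
theorem F69877 : act 7 n17780 = n17193 := d24_2 D17192 D17780 (iv D17193) (iv D16601) (iv F65566)
theorem F69878 : act 8 n17780 = n17261 := d25_2 (iv F67800) D17780 (iv D17261)
def n17781 : Q := act 2 n17193
theorem D17781 : act 2 n17193 = n17781 := rfl
theorem F69879 : act 0 n17781 = n17273 := d1_1 D17781 (iv D17273) (iv F67801)
theorem F69880 : act 1 n17781 = n17551 := d8_1 D17781 (iv D17551) F67004 (iv F66613) (iv F67802)
theorem F69881 : act 3 n17781 = n17195 := d15_2 D17193 D17781 (iv D17195) (iv D16603) (iv F65572)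
theorem F69882 : act 5 n17781 = n17435 := d17_2 (iv F67803) D17781 (iv D17435)
theorem F69883 : act 6 n17781 = n17205 := d18_2 (iv F67804) D17781 (iv D17205)
theorem F69884 : act 8 n17781 = n17217 := d20_2 (iv F67805) D17781 (iv D17217)
def n17782 : Q := act 4 n17193
theorem D17782 : act 4 n17193 = n17782 := rfl
theorem F69885 : act 0 n17782 = n17274 := d3_1 D17782 (iv D17274) (iv F67801)
theorem F69886 : act 1 n17782 = n17442 := d10_1 D17782 (iv D17442) (iv F67802)
theorem F69887 : act 3 n17782 = n17194 := d21_1 D17782 (iv D17194) (iv D16602) (iv F65573) D17193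
theorem F69888 : act 6 n17782 = n17206 := d27_2 (iv F67804) D17782 (iv D17206)
theorem F69889 : act 8 n17782 = n17218 := d29_2 (iv F67805) D17782 (iv D17218)
def n17783 : Q := act 5 n17194
theorem D17783 : act 5 n17194 = n17783 := rfl
theorem F69890 : act 0 n17783 = n17275 := d4_1 D17783 (iv D17275) (iv F67806)
theorem F69891 : act 2 n17783 = n17544 := d17_1 D17783 (iv D17544) (iv F67807)
theorem F69892 : act 8 n17783 = n17219 := d32_2 (iv F67809) D17783 (iv D17219)
def n17784 : Q := act 2 n17196
theorem D17784 : act 2 n17196 = n17784 := rfl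
theorem F69893 : act 0 n17784 = n17199 := d1_1 D17784 (iv D17199) (iv F67817)
theorem F69894 : act 1 n17784 = n17431 := d8_1 D17784 (iv D17431) (iv F67784) F67785 (iv F67818)
theorem F69895 : act 3 n17784 = n17248 := d15_2 D17196 D17784 (iv D17248) (iv D16653) (iv F65590)
theorem F69896 : act 5 n17784 = n17416 := d17_2 (iv F67819) D17784 (iv D17416)
theorem F69897 : act 6 n17784 = n17496 := d18_2 (iv F67820) D17784 (iv D17496)
theorem F69898 : act 8 n17784 = n17222 := d20_2 (iv F67821) D17784 (iv D17222)
def n17785 : Q := act 4 n17196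
theorem D17785 : act 4 n17196 = n17785 := rfl
theorem F69899 : act 0 n17785 = n17200 := d3_1 D17785 (iv D17200) (iv F67817)
theorem F69900 : act 1 n17785 = n17277 := d10_1 D17785 (iv D17277) (iv F67818)
theorem F69901 : act 3 n17785 = n17571 := d21_1 D17785 (iv D17571) (iv D16974) (iv F65591) D17196
theorem F69902 : act 6 n17785 = n17497 := d27_2 (iv F67820) D17785 (iv D17497)
theorem F69903 : act 8 n17785 = n17223 := d29_2 (iv F67821) D17785 (iv D17223)
def n17786 : Q := act 3 n17197
theorem D17786 : act 3 n17197 = n17786 := rfl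
theorem F69904 : act 0 n17786 = n17566 := d2_1 D17786 (iv D17566) (iv F67822)
theorem F69905 : act 1 n17786 = n17203 := d9_1 D17786 (iv D17203) (iv F67823)
theorem F69906 : act 2 n17786 = n17557 := d15_1 D17786 (iv D17557) F67020 (iv F66723) (iv F67824)
theorem F69907 : act 5 n17786 = n17465 := d22_2 (iv F67826) D17786 (iv D17465)
theorem F69908 : act 6 n17786 = n17439 := d23_2 (iv F67827) D17786 (iv D17439)
theorem F69909 : act 7 n17786 = n17198 := d24_2 D17197 D17786 (iv D17198) (iv D16606) (iv F65598)
theorem F69910 : act 8 n17786 = n17675 := d25_2 (iv F67828) D17786 (iv D17675)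
def n17787 : Q := act 4 n17198
theorem D17787 : act 4 n17198 = n17787 := rfl
theorem F69911 : act 0 n17787 = n17571 := d3_1 D17787 (iv D17571) (iv F67829)
theorem F69912 : act 1 n17787 = n17206 := d10_1 D17787 (iv D17206) (iv F67830)
theorem F69913 : act 2 n17787 = n17562 := d16_1 D17787 (iv D17562) (iv F67831)
theorem F69914 : act 3 n17787 = n17200 := d21_1 D17787 (iv D17200) (iv D16607) (iv F65605) D17198
theorem F69915 : act 6 n17787 = n17442 := d27_2 (iv F67833) D17787 (iv D17442)
theorem F69916 : act 8 n17787 = n17227 := d29_2 (iv F67834) D17787 (iv D17227)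
def n17788 : Q := act 4 n17199
theorem D17788 : act 4 n17199 = n17788 := rfl
theorem F69917 : act 1 n17788 = n17657 := d10_1 D17788 (iv D17657) (iv F67835)
theorem F69918 : act 2 n17788 = n17200 := d16_1 D17788 (iv D17200) D17199
theorem F69919 : act 8 n17788 = n17228 := d29_2 (iv F67838) D17788 (iv D17228)
def n17789 : Q := act 5 n17200
theorem D17789 : act 5 n17200 = n17789 := rfl
theorem F69920 : act 1 n17789 = n17207 := d11_1 D17789 (iv D17207) (iv F67839)
theorem F69921 : act 4 n17789 = n17421 := d26_1 D17789 (iv D17421) (iv D16826) (iv F65610) D17200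
theorem F69922 : act 8 n17789 = n17229 := d32_2 (iv F67840) D17789 (iv D17229)
def n17790 : Q := act 3 n17201
theorem D17790 : act 3 n17201 = n17790 := rfl
theorem F69923 : act 0 n17790 = n17288 := d2_1 D17790 (iv D17288) (iv F67841)
theorem F69924 : act 1 n17790 = n17465 := d9_1 D17790 (iv D17465) (iv F67842)
theorem F69925 : act 5 n17790 = n17203 := d22_2 (iv F67844) D17790 (iv D17203)
theorem F69926 : act 6 n17790 = n17453 := d23_2 (iv F67845) D17790 (iv D17453)
theorem F69927 : act 7 n17790 = n17204 := d24_2 D17201 D17790 (iv D17204) (iv D16611) (iv F65615)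
def n17791 : Q := act 3 n17202
theorem D17791 : act 3 n17202 = n17791 := rfl
theorem F69928 : act 0 n17791 = n17289 := d2_1 D17791 (iv D17289) (iv F67846)
theorem F69929 : act 1 n17791 = n17675 := d9_1 D17791 (iv D17675) (iv F67847)
theorem F69930 : act 6 n17791 = n17261 := d23_2 (iv F67850) D17791 (iv D17261)
theorem F69931 : act 7 n17791 = n17233 := d24_2 D17202 D17791 (iv D17233) (iv D16637) (iv F65621)
theorem F69932 : act 8 n17791 = n17203 := d25_2 (iv F67851) D17791 (iv D17203)
def n17792 : Q := act 2 n17203
theorem D17792 : act 2 n17203 = n17792 := rfl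
theorem F69933 : act 0 n17792 = n17290 := d1_1 D17792 (iv D17290) (iv F67852)
theorem F69934 : act 3 n17792 = n17792 := d15_2 D17203 D17792 (iv D17792) (iv D17203) F65625
theorem F69935 : act 7 n17792 = n17205 := d19_2 (iv F67853) D17792 (iv D17205)
def n17793 : Q := act 4 n17203
theorem D17793 : act 4 n17203 = n17793 := rfl
theorem F69936 : act 0 n17793 = n17291 := d3_1 D17793 (iv D17291) (iv F67852)
theorem F69937 : act 7 n17793 = n17206 := d28_2 (iv F67853) D17793 (iv D17206)
def n17794 : Q := act 2 n17204
theorem D17794 : act 2 n17204 = n17794 := rfl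
theorem F69938 : act 0 n17794 = n17293 := d1_1 D17794 (iv D17293) (iv F67854)
theorem F69939 : act 1 n17794 = n17327 := d8_1 D17794 (iv D17327) (iv F67936) F67937 (iv F67855)
theorem F69940 : act 3 n17794 = n17208 := d15_2 D17204 D17794 (iv D17208) (iv D16614) (iv F65628)
theorem F69941 : act 5 n17794 = n17205 := d17_2 (iv F67856) D17794 (iv D17205)
theorem F69942 : act 6 n17794 = n17457 := d18_2 (iv F67857) D17794 (iv D17457)
theorem F69943 : act 8 n17794 = n17237 := d20_2 (iv F67858) D17794 (iv D17237)
def n17795 : Q := act 4 n17204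
theorem D17795 : act 4 n17204 = n17795 := rfl
theorem F69944 : act 0 n17795 = n17294 := d3_1 D17795 (iv D17294) (iv F67854)
theorem F69945 : act 1 n17795 = n17473 := d10_1 D17795 (iv D17473) (iv F67855)
theorem F69946 : act 3 n17795 = n17427 := d21_1 D17795 (iv D17427) (iv D16832) (iv F65629) D17204
theorem F69947 : act 6 n17795 = n17458 := d27_2 (iv F67857) D17795 (iv D17458)
theorem F69948 : act 8 n17795 = n17238 := d29_2 (iv F67858) D17795 (iv D17238)
def n17796 : Q := act 1 n17205
theorem D17796 : act 1 n17205 = n17796 := rfl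
theorem F69949 : act 2 n17796 = n17326 := d8_2 D17205 D17796 F68378 (iv F67831) F67830
theorem F69950 : act 3 n17796 = n17209 := d9_2 (iv F67860) D17796 (iv D17209)
theorem F69951 : act 5 n17796 = n17327 := d11_2 F69941 D17796 (iv F69939)
theorem F69952 : act 6 n17796 = n17551 := d12_2 F69883 D17796 (iv F69880)
theorem F69953 : act 8 n17796 = n17239 := d14_2 (iv F67861) D17796 (iv D17239)
theorem F69954 : act 0 n17338 = n17796 := d4_3 F69951 F68382 (iv F68423)
def n17797 : Q := act 4 n17205
theorem D17797 : act 4 n17205 = n17797 := rfl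
theorem F69955 : act 0 n17797 = n17296 := d3_1 D17797 (iv D17296) (iv F67859)
theorem F69956 : act 2 n17797 = n17206 := d16_1 D17797 (iv D17206) D17205
theorem F69957 : act 3 n17797 = n17663 := d21_1 D17797 (iv D17663) F67456 (iv F65646) (iv F67860)
theorem F69958 : act 8 n17797 = n17240 := d29_2 (iv F67861) D17797 (iv D17240)
def n17798 : Q := act 5 n17206
theorem D17798 : act 5 n17206 = n17798 := rfl
theorem F69959 : act 0 n17798 = n17297 := d4_1 D17798 (iv D17297) (iv F67862)
theorem F69960 : act 3 n17798 = n17207 := d22_1 D17798 (iv D17207) (iv F67863)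
theorem F69961 : act 8 n17798 = n17241 := d32_2 (iv F67864) D17798 (iv D17241)
def n17799 : Q := act 6 n17207
theorem D17799 : act 6 n17207 = n17799 := rfl
theorem F69962 : act 0 n17799 = n17298 := d5_1 D17799 (iv D17298) (iv F67865)
theorem F69963 : act 2 n17799 = n17665 := d18_1 D17799 (iv D17665) (iv F67866)
theorem F69964 : act 4 n17799 = n17429 := d27_1 D17799 (iv D17429) (iv F67867)
theorem F69965 : act 8 n17799 = n17242 := d34_2 (iv F67868) D17799 (iv D17242)
def n17800 : Q := act 4 n17210
theorem D17800 : act 4 n17210 = n17800 := rfl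
theorem F69966 : act 0 n17800 = n17383 := d3_1 D17800 (iv D17383) (iv F67883)
theorem F69967 : act 1 n17800 = n17212 := d10_1 D17800 (iv D17212) (iv F67884)
theorem F69968 : act 2 n17800 = n17748 := d16_1 D17800 F69736 (iv F67885)
theorem F69969 : act 3 n17800 = n17412 := d21_1 D17800 (iv D17412) (iv D16819) (iv F65652) D17210
theorem F69970 : act 6 n17800 = n17386 := d27_2 (iv F67887) D17800 (iv D17386)
theorem F69971 : act 8 n17800 = n17432 := d29_2 (iv F67888) D17800 (iv D17432)
def n17801 : Q := act 2 n17211
theorem D17801 : act 2 n17211 = n17801 := rfl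
theorem F69972 : act 0 n17801 = n17302 := d1_1 D17801 (iv D17302) (iv F67889)
theorem F69973 : act 1 n17801 = n17496 := d8_1 D17801 (iv D17496) F66836 (iv F66516) (iv F67890)
theorem F69974 : act 3 n17801 = n17213 := d15_2 D17211 D17801 (iv D17213) (iv D16619) (iv F65658)
theorem F69975 : act 5 n17801 = n17413 := d17_2 (iv F67891) D17801 (iv D17413)
theorem F69976 : act 6 n17801 = n17431 := d18_2 (iv F67892) D17801 (iv D17431)
theorem F69977 : act 8 n17801 = n17385 := d20_2 (iv F67893) D17801 (iv D17385)
def n17802 : Q := act 4 n17211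
theorem D17802 : act 4 n17211 = n17802 := rfl
theorem F69978 : act 0 n17802 = n17303 := d3_1 D17802 (iv D17303) (iv F67889)
theorem F69979 : act 1 n17802 = n17412 := d10_1 D17802 (iv D17412) (iv F67890)
theorem F69980 : act 3 n17802 = n17212 := d21_1 D17802 (iv D17212) (iv D16618) (iv F65659) D17211
theorem F69981 : act 6 n17802 = n17432 := d27_2 (iv F67892) D17802 (iv D17432)
theorem F69982 : act 8 n17802 = n17386 := d29_2 (iv F67893) D17802 (iv D17386)
def n17803 : Q := act 5 n17212
theorem D17803 : act 5 n17212 = n17803 := rfl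
theorem F69983 : act 0 n17803 = n17304 := d4_1 D17803 (iv D17304) (iv F67894)
theorem F69984 : act 2 n17803 = n17329 := d17_1 D17803 (iv D17329) (iv F67895)
theorem F69985 : act 4 n17803 = n17219 := d26_1 D17803 (iv D17219) (iv D16623) (iv F65665) D17212
def n17804 : Q := act 4 n17214
theorem D17804 : act 4 n17214 = n17804 := rfl
theorem F69986 : act 0 n17804 = n17216 := d3_1 D17804 (iv D17216) (iv F67904)
theorem F69987 : act 1 n17804 = n17305 := d10_1 D17804 (iv D17305) (iv F67905)
theorem F69988 : act 3 n17804 = n17474 := d21_1 D17804 (iv D17474) F66702 (iv F65677) D17214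
theorem F69989 : act 6 n17804 = n17223 := d27_2 (iv F67907) D17804 (iv D17223)
theorem F69990 : act 7 n17804 = n17800 := d28_2 (iv F67908) D17804 (iv D17800)
theorem F69991 : act 8 n17804 = n17497 := d29_2 (iv F67909) D17804 (iv D17497)
def n17805 : Q := act 4 n17215
theorem D17805 : act 4 n17215 = n17805 := rfl
theorem F69992 : act 1 n17805 = n17449 := d10_1 D17805 (iv D17449) (iv F67910)
theorem F69993 : act 2 n17805 = n17216 := d16_1 D17805 (iv D17216) D17215
theorem F69994 : act 3 n17805 = n17356 := d21_1 D17805 (iv D17356) F66207 (iv F65844) (iv F67911)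
theorem F69995 : act 6 n17805 = n17228 := d27_2 (iv F67913) D17805 (iv D17228)
def n17806 : Q := act 5 n17216
theorem D17806 : act 5 n17216 = n17806 := rfl
theorem F69996 : act 1 n17806 = n17219 := d11_1 D17806 (iv D17219) (iv F67914)
theorem F69997 : act 3 n17806 = n17615 := d22_1 D17806 (iv D17615) (iv F67915)
def n17807 : Q := act 4 n17217
theorem D17807 : act 4 n17217 = n17807 := rfl
theorem F69998 : act 0 n17807 = n17318 := d3_1 D17807 (iv D17318) (iv F67917)
theorem F69999 : act 1 n17807 = n17597 := d10_1 D17807 (iv D17597) (iv F67918)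
theorem F70000 : act 2 n17807 = n17218 := d16_1 D17807 (iv D17218) D17217
theorem F70001 : act 3 n17807 = n17583 := d21_1 D17807 (iv D17583) F67101 (iv F65692) (iv F67919)
theorem F70002 : act 6 n17807 = n17240 := d27_2 (iv F67921) D17807 (iv D17240)
def n17808 : Q := act 5 n17218
theorem D17808 : act 5 n17218 = n17808 := rfl
theorem F70003 : act 0 n17808 = n17319 := d4_1 D17808 (iv D17319) (iv F67922)
theorem F70004 : act 1 n17808 = n17615 := d11_1 D17808 (iv D17615) (iv F67923)
theorem F70005 : act 3 n17808 = n17219 := d22_1 D17808 (iv D17219) (iv F67924)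
theorem F70006 : act 4 n17808 = n17617 := d26_1 D17808 (iv D17617) (iv D17014) (iv F65685) D17218
def n17809 : Q := act 6 n17219
theorem D17809 : act 6 n17219 = n17809 := rfl
theorem F70007 : act 0 n17809 = n17320 := d5_1 D17809 (iv D17320) (iv F67926)
theorem F70008 : act 2 n17809 = n17585 := d18_1 D17809 (iv D17585) (iv F67927)
theorem F70009 : act 5 n17809 = n17242 := d30_1 D17809 (iv D17242) (iv D16643) (iv F65689) D17219
def n17810 : Q := act 3 n17220
theorem D17810 : act 3 n17220 = n17810 := rfl
theorem F70010 : act 0 n17810 = n17225 := d2_1 D17810 (iv D17225) (iv F67928)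
theorem F70011 : act 1 n17810 = n17325 := d9_1 D17810 (iv D17325) (iv F67929)
theorem F70012 : act 2 n17810 = n17465 := d15_1 D17810 (iv D17465) F66678 D16880 (iv F67930)
theorem F70013 : act 5 n17810 = n17557 := d22_2 (iv F67932) D17810 (iv D17557)
theorem F70014 : act 6 n17810 = n17467 := d23_2 (iv F67933) D17810 F68874
theorem F70015 : act 7 n17810 = n17221 := d24_2 D17220 D17810 (iv D17221) (iv D16626) (iv F65699)
theorem F70016 : act 8 n17810 = n17501 := d25_2 (iv F67934) D17810 (iv D17501)
def n17811 : Q := act 4 n17221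
theorem D17811 : act 4 n17221 = n17811 := rfl
theorem F70017 : act 0 n17811 = n17227 := d3_1 D17811 (iv D17227) (iv F67935)
theorem F70018 : act 1 n17811 = n17328 := d10_1 D17811 (iv D17328) (iv F67936)
theorem F70019 : act 2 n17811 = n17473 := d16_1 D17811 (iv D17473) (iv F67937)
theorem F70020 : act 3 n17811 = n17223 := d21_1 D17811 (iv D17223) (iv D16627) (iv F65706) D17221
theorem F70021 : act 6 n17811 = n17474 := d27_2 (iv F67939) D17811 (iv D17474)
theorem F70022 : act 8 n17811 = n17571 := d29_2 (iv F67940) D17811 (iv D17571)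
def n17812 : Q := act 4 n17222
theorem D17812 : act 4 n17222 = n17812 := rfl
theorem F70023 : act 0 n17812 = n17228 := d3_1 D17812 (iv D17228) (iv F67941)
theorem F70024 : act 1 n17812 = n17748 := d10_1 D17812 F69736 (iv F67942)
theorem F70025 : act 2 n17812 = n17223 := d16_1 D17812 (iv D17223) D17222
theorem F70026 : act 3 n17812 = n17747 := d21_1 D17812 (iv D17747) F67651 (iv F65850) (iv F67943)
def n17813 : Q := act 5 n17223
theorem D17813 : act 5 n17223 = n17813 := rfl
theorem F70027 : act 0 n17813 = n17229 := d4_1 D17813 (iv D17229) (iv F67945)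
theorem F70028 : act 1 n17813 = n17329 := d11_1 D17813 (iv D17329) (iv F67946)
theorem F70029 : act 4 n17813 = n17450 := d26_1 D17813 (iv D17450) (iv D16853) (iv F65712) D17223
def n17814 : Q := act 3 n17224
theorem D17814 : act 3 n17224 = n17814 := rfl
theorem F70030 : act 0 n17814 = n17557 := d2_1 D17814 (iv D17557) (iv F67947)
theorem F70031 : act 1 n17814 = n17232 := d9_1 D17814 (iv D17232) (iv F67948)
theorem F70032 : act 2 n17814 = n17566 := d15_1 D17814 (iv D17566) F67046 D17018 (iv F67949)
theorem F70033 : act 5 n17814 = n17225 := d22_2 (iv F67950) D17814 (iv D17225)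
theorem F70034 : act 6 n17814 = n17424 := d23_2 (iv F67951) D17814 (iv D17424)
theorem F70035 : act 7 n17814 = n17226 := d24_2 D17224 D17814 (iv D17226) (iv D16630) (iv F65716)
theorem F70036 : act 8 n17814 = n17728 := d25_2 (iv F67952) D17814 F69697
def n17815 : Q := act 4 n17225
theorem D17815 : act 4 n17225 = n17815 := rfl
theorem F70037 : act 1 n17815 = n17235 := d10_1 D17815 (iv D17235) (iv F67953)
theorem F70038 : act 2 n17815 = n17604 := d16_1 D17815 (iv D17604) (iv F67954)
theorem F70039 : act 6 n17815 = n17606 := d27_2 (iv F67955) D17815 (iv D17606)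
theorem F70040 : act 7 n17815 = n17227 := d28_2 (iv F67956) D17815 (iv D17227)
def n17816 : Q := act 4 n17226
theorem D17816 : act 4 n17226 = n17816 := rfl
theorem F70041 : act 0 n17816 = n17562 := d3_1 D17816 (iv D17562) (iv F67957)
theorem F70042 : act 1 n17816 = n17238 := d10_1 D17816 (iv D17238) (iv F67958)
theorem F70043 : act 2 n17816 = n17571 := d16_1 D17816 (iv D17571) (iv F67959)
theorem F70044 : act 3 n17816 = n17458 := d21_1 D17816 (iv D17458) (iv D16859) (iv F65725) D17226
theorem F70045 : act 6 n17816 = n17427 := d27_2 (iv F67961) D17816 (iv D17427)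
theorem F70046 : act 8 n17816 = n17473 := d29_2 (iv F67962) D17816 (iv D17473)
def n17817 : Q := act 5 n17227
theorem D17817 : act 5 n17227 = n17817 := rfl
theorem F70047 : act 1 n17817 = n17241 := d11_1 D17817 (iv D17241) (iv F67963)
theorem F70048 : act 2 n17817 = n17614 := d17_1 D17817 (iv D17614) (iv F67964)
theorem F70049 : act 3 n17817 = n17229 := d22_1 D17817 (iv D17229) (iv F67965)
def n17818 : Q := act 3 n17228
theorem D17818 : act 3 n17228 = n17818 := rfl
theorem F70050 : act 0 n17818 = n17747 := d2_1 D17818 (iv F70026) F70023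
theorem F70051 : act 1 n17818 = n17672 := d9_1 D17818 (iv D17672) (iv F67967)
theorem F70052 : act 2 n17818 = n17354 := d15_1 D17818 F68451 (iv F67964) F67965 (iv F67968)
theorem F70053 : act 4 n17818 = n17250 := d21_2 D17228 D17818 (iv D17250) (iv D16659) (iv F65733)
theorem F70054 : act 6 n17818 = n17356 := d23_2 F69995 D17818 (iv F69994)
def n17819 : Q := act 5 n17228
theorem D17819 : act 5 n17228 = n17819 := rfl
theorem F70055 : act 1 n17819 = n17673 := d11_1 D17819 (iv D17673) (iv F67967)
theorem F70056 : act 2 n17819 = n17229 := d17_1 D17819 (iv D17229) (iv F67968)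
theorem F70057 : act 4 n17819 = n17462 := d26_1 D17819 (iv D17462) (iv D16862) (iv F65734) D17228
def n17820 : Q := act 6 n17229
theorem D17820 : act 6 n17229 = n17820 := rfl
theorem F70058 : act 1 n17820 = n17242 := d12_1 D17820 (iv D17242) (iv F67969)
theorem F70059 : act 4 n17820 = n17463 := d27_1 D17820 (iv D17463) (iv F67970)
def n17821 : Q := act 3 n17230
theorem D17821 : act 3 n17230 = n17821 := rfl
theorem F70060 : act 0 n17821 = n17345 := d2_1 D17821 (iv D17345) (iv F67971)
theorem F70061 : act 1 n17821 = n17424 := d9_1 D17821 (iv D17424) (iv F67972)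
theorem F70062 : act 2 n17821 = n17734 := d15_1 D17821 F69710 F67674 (iv F65785) (iv F67973)
theorem F70063 : act 5 n17821 = n17418 := d22_2 (iv F67974) D17821 (iv D17418)
theorem F70064 : act 6 n17821 = n17232 := d23_2 (iv F67975) D17821 (iv D17232)
theorem F70065 : act 7 n17821 = n17236 := d24_2 D17230 D17821 (iv D17236) (iv D16639) (iv F65739)
def n17822 : Q := act 3 n17231
theorem D17822 : act 3 n17231 = n17822 := rfl
theorem F70066 : act 0 n17822 = n17346 := d2_1 D17822 (iv D17346) (iv F67976)
theorem F70067 : act 1 n17822 = n17728 := d9_1 D17822 F69697 (iv F67977)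
theorem F70068 : act 5 n17822 = n17233 := d22_2 (iv F67980) D17822 (iv D17233)
theorem F70069 : act 8 n17822 = n17232 := d25_2 (iv F67981) D17822 (iv D17232)
def n17823 : Q := act 4 n17232
theorem D17823 : act 4 n17232 = n17823 := rfl
theorem F70070 : act 0 n17823 = n17348 := d3_1 D17823 (iv D17348) (iv F67982)
theorem F70071 : act 7 n17823 = n17238 := d28_2 (iv F67984) D17823 (iv D17238)
def n17824 : Q := act 2 n17233
theorem D17824 : act 2 n17233 = n17824 := rfl
theorem F70072 : act 0 n17824 = n17349 := d1_1 D17824 (iv D17349) (iv F67985)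
theorem F70073 : act 3 n17824 = n17244 := d15_2 D17233 D17824 (iv D17244) (iv D16648) (iv F65751)
theorem F70074 : act 6 n17824 = n17264 := d18_2 (iv F67986) D17824 (iv D17264)
theorem F70075 : act 8 n17824 = n17234 := d20_2 (iv F67987) D17824 (iv D17234)
def n17825 : Q := act 4 n17233
theorem D17825 : act 4 n17233 = n17825 := rfl
theorem F70076 : act 0 n17825 = n17350 := d3_1 D17825 (iv D17350) (iv F67985)
theorem F70077 : act 3 n17825 = n17254 := d21_1 D17825 (iv D17254) (iv D16664) (iv F65752) D17233
theorem F70078 : act 6 n17825 = n17265 := d27_2 (iv F67986) D17825 (iv D17265)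
theorem F70079 : act 8 n17825 = n17235 := d29_2 (iv F67987) D17825 (iv D17235)
def n17826 : Q := act 1 n17234
theorem D17826 : act 1 n17234 = n17826 := rfl
theorem F70080 : act 2 n17826 = n17587 := d8_2 D17234 D17826 F69261 (iv F67954) F67953
theorem F70081 : act 3 n17826 = n17245 := d9_2 (iv F67989) D17826 (iv D17245)
theorem F70082 : act 5 n17826 = n17730 := d11_2 F69766 D17826 (iv F69764)
theorem F70083 : act 6 n17826 = n17589 := d12_2 F68946 D17826 F69270
theorem F70084 : act 7 n17826 = n17239 := d13_2 (iv F67990) D17826 (iv D17239)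
def n17827 : Q := act 4 n17234
theorem D17827 : act 4 n17234 = n17827 := rfl
theorem F70085 : act 0 n17827 = n17352 := d3_1 D17827 (iv D17352) (iv F67988)
theorem F70086 : act 2 n17827 = n17235 := d16_1 D17827 (iv D17235) D17234
theorem F70087 : act 7 n17827 = n17240 := d28_2 (iv F67990) D17827 (iv D17240)
def n17828 : Q := act 5 n17235
theorem D17828 : act 5 n17235 = n17828 := rfl
theorem F70088 : act 0 n17828 = n17353 := d4_1 D17828 (iv D17353) (iv F67991)
theorem F70089 : act 7 n17828 = n17241 := d31_2 (iv F67992) D17828 (iv D17241)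
def n17829 : Q := act 4 n17236
theorem D17829 : act 4 n17236 = n17829 := rfl
theorem F70090 : act 0 n17829 = n17354 := d3_1 D17829 (iv D17354) (iv F67993)
theorem F70091 : act 1 n17829 = n17427 := d10_1 D17829 (iv D17427) (iv F67994)
theorem F70092 : act 2 n17829 = n17747 := d16_1 D17829 (iv D17747) (iv F67995)
theorem F70093 : act 3 n17829 = n17473 := d21_1 D17829 (iv D17473) (iv D16871) (iv F65760) D17236
theorem F70094 : act 6 n17829 = n17238 := d27_2 (iv F67997) D17829 (iv D17238)
theorem F70095 : act 8 n17829 = n17458 := d29_2 (iv F67998) D17829 (iv D17458)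
def n17830 : Q := act 4 n17237
theorem D17830 : act 4 n17237 = n17830 := rfl
theorem F70096 : act 0 n17830 = n17356 := d3_1 D17830 (iv D17356) (iv F67999)
theorem F70097 : act 1 n17830 = n17745 := d10_1 D17830 (iv D17745) (iv F68000)
theorem F70098 : act 2 n17830 = n17238 := d16_1 D17830 (iv D17238) D17237
theorem F70099 : act 6 n17830 = n17747 := d27_2 (iv F68003) D17830 (iv D17747)
def n17831 : Q := act 5 n17238
theorem D17831 : act 5 n17238 = n17831 := rfl
theorem F70100 : act 0 n17831 = n17357 := d4_1 D17831 (iv D17357) (iv F68004)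
theorem F70101 : act 3 n17831 = n17475 := d22_1 D17831 (iv D17475) (iv F68005)
theorem F70102 : act 4 n17831 = n17241 := d26_1 D17831 (iv D17241) (iv D16642) (iv F65765) D17238
def n17832 : Q := act 0 n17239
theorem D17832 : act 0 n17239 = n17832 := rfl
theorem F70103 : act 1 n17832 = n17358 := d0_2 D17239 D17832 (iv D17358) (iv D16751) (iv F65766)
theorem F70104 : act 2 n17832 = n17281 := d1_2 (iv F68006) D17832 F68197
theorem F70105 : act 3 n17832 = n17243 := d2_2 (iv F68007) D17832 (iv D17243)
theorem F70106 : act 5 n17832 = n17282 := d4_2 (iv F68008) D17832 F68202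
theorem F70107 : act 6 n17832 = n17580 := d5_2 (iv F68009) D17832 F69245
theorem F70108 : act 8 n17832 = n17338 := d7_2 F69953 D17832 F69954
def n17833 : Q := act 4 n17239
theorem D17833 : act 4 n17239 = n17833 := rfl
theorem F70109 : act 1 n17833 = n17240 := d10_1 D17833 (iv D17240) D17239
theorem F70110 : act 2 n17833 = n17596 := d16_1 D17833 (iv D17596) (iv F68006)
theorem F70111 : act 3 n17833 = n17687 := d21_1 D17833 (iv D17687) F67502 (iv F65779) (iv F68007)
theorem F70112 : act 6 n17833 = n17597 := d27_2 (iv F68009) D17833 (iv D17597)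
def n17834 : Q := act 5 n17240
theorem D17834 : act 5 n17240 = n17834 := rfl
theorem F70113 : act 0 n17834 = n17360 := d4_1 D17834 (iv D17360) (iv F68010)
theorem F70114 : act 2 n17834 = n17241 := d17_1 D17834 (iv D17241) (iv F68011)
theorem F70115 : act 3 n17834 = n17688 := d22_1 D17834 (iv D17688) (iv F68012)
def n17835 : Q := act 6 n17241
theorem D17835 : act 6 n17241 = n17835 := rfl
theorem F70116 : act 0 n17835 = n17361 := d5_1 D17835 (iv D17361) (iv F68013)
theorem F70117 : act 3 n17835 = n17242 := d23_1 D17835 (iv D17242) (iv F68014)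
def n17836 : Q := act 0 n17245
theorem D17836 : act 0 n17245 = n17836 := rfl
theorem F70118 : act 1 n17836 = n17372 := d0_2 D17245 D17836 (iv D17372) (iv D16770) (iv F65798)
theorem F70119 : act 2 n17836 = n17626 := d1_2 (iv F68030) D17836 F69373
theorem F70120 : act 5 n17836 = n17392 := d4_2 (iv F68031) D17836 F68603
theorem F70121 : act 6 n17836 = n17627 := d5_2 (iv F68032) D17836 F69380
theorem F70122 : act 7 n17836 = n17246 := d6_2 (iv F68033) D17836 (iv D17246)
def n17837 : Q := act 3 n17249
theorem D17837 : act 3 n17249 = n17837 := rfl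
theorem F70123 : act 0 n17837 = n17457 := d2_1 D17837 F68852 (iv F68054)
theorem F70124 : act 1 n17837 = n17697 := d9_1 D17837 (iv D17697) (iv F68055)
theorem F70125 : act 2 n17837 = n17292 := d15_1 D17837 (iv D17292) F66025 (iv F65831) (iv F68056)
theorem F70126 : act 5 n17837 = n17447 := d22_2 F68060 D17837 F68814
theorem F70127 : act 6 n17837 = n17293 := d23_2 (iv F68057) D17837 F68240
theorem F70128 : act 8 n17837 = n17250 := d25_2 (iv F68059) D17837 (iv D17250)
def n17838 : Q := act 7 n17250
theorem D17838 : act 7 n17250 = n17838 := rfl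
theorem F70129 : act 0 n17838 = n17734 := d6_1 D17838 F69712 (iv F68061)
theorem F70130 : act 1 n17838 = n17699 := d13_1 D17838 (iv D17699) (iv F68062)
theorem F70131 : act 2 n17838 = n17345 := d19_1 D17838 F68436 (iv F68063)
theorem F70132 : act 3 n17838 = n17251 := d24_1 D17838 (iv D17251) (iv D16661) (iv F65857) D17250
theorem F70133 : act 5 n17838 = n17740 := d31_1 D17838 F69724 (iv F68064)
theorem F70134 : act 6 n17838 = n17347 := d33_1 D17838 F68441 (iv F68065)
def n17839 : Q := act 4 n17252
theorem D17839 : act 4 n17252 = n17839 := rfl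
theorem F70135 : act 1 n17839 = n17389 := d10_1 D17839 (iv D17389) (iv F68071)
theorem F70136 : act 2 n17839 = n17259 := d16_1 D17839 (iv D17259) (iv F68072)
theorem F70137 : act 3 n17839 = n17815 := d21_1 D17839 (iv D17815) (iv D17225) (iv F65874) D17252
theorem F70138 : act 6 n17839 = n17485 := d27_2 (iv F68074) D17839 (iv D17485)
theorem F70139 : act 7 n17839 = n17270 := d28_2 (iv F68075) D17839 (iv D17270)
def n17840 : Q := act 4 n17253
theorem D17840 : act 4 n17253 = n17840 := rfl
theorem F70140 : act 0 n17840 = n17503 := d3_1 D17840 (iv D17503) (iv F68076)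
theorem F70141 : act 1 n17840 = n17254 := d10_1 D17840 (iv D17254) (iv F68077)
theorem F70142 : act 2 n17840 = n17485 := d16_1 D17840 (iv D17485) (iv F68078)
theorem F70143 : act 6 n17840 = n17259 := d27_2 (iv F68080) D17840 (iv D17259)
theorem F70144 : act 7 n17840 = n17271 := d28_2 (iv F68081) D17840 (iv D17271)
theorem F70145 : act 8 n17840 = n17839 := d29_2 (iv F68082) D17840 (iv D17839)
def n17841 : Q := act 5 n17254
theorem D17841 : act 5 n17254 = n17841 := rfl
theorem F70146 : act 2 n17841 = n17521 := d17_1 D17841 (iv D17521) (iv F68083)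
theorem F70147 : act 7 n17841 = n17275 := d31_2 (iv F68085) D17841 (iv D17275)
def n17842 : Q := act 3 n17255
theorem D17842 : act 3 n17255 = n17842 := rfl
theorem F70148 : act 0 n17842 = n17258 := d2_1 D17842 (iv D17258) (iv F68086)
theorem F70149 : act 1 n17842 = n17717 := d9_1 D17842 (iv D17717) (iv F68087)
theorem F70150 : act 2 n17842 = n17466 := d15_1 D17842 (iv D17466) F66682 (iv F66374) (iv F68088)
theorem F70151 : act 5 n17842 = n17469 := d22_2 (iv F68090) D17842 F68881
theorem F70152 : act 6 n17842 = n17501 := d23_2 (iv F68091) D17842 (iv D17501)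
theorem F70153 : act 7 n17842 = n17567 := d24_2 D17255 D17842 (iv D17567) (iv D16970) (iv F65889)
theorem F70154 : act 8 n17842 = n17467 := d25_2 (iv F68092) D17842 F68874
def n17843 : Q := act 4 n17256
theorem D17843 : act 4 n17256 = n17843 := rfl
theorem F70155 : act 0 n17843 = n17259 := d3_1 D17843 (iv D17259) (iv F68093)
theorem F70156 : act 6 n17843 = n17503 := d27_2 (iv F68095) D17843 (iv D17503)
theorem F70157 : act 7 n17843 = n17277 := d28_2 (iv F68096) D17843 (iv D17277)
def n17844 : Q := act 3 n17257
theorem D17844 : act 3 n17257 = n17844 := rfl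
theorem F70158 : act 0 n17844 = n17567 := d2_1 D17844 (iv D17567) (iv F68097)
theorem F70159 : act 1 n17844 = n17261 := d9_1 D17844 (iv D17261) (iv F68098)
theorem F70160 : act 2 n17844 = n17558 := d15_1 D17844 (iv D17558) F67024 (iv F66730) (iv F68099)
theorem F70161 : act 5 n17844 = n17440 := d22_2 (iv F68101) D17844 (iv D17440)
theorem F70162 : act 6 n17844 = n17675 := d23_2 (iv F68102) D17844 (iv D17675)
theorem F70163 : act 7 n17844 = n17258 := d24_2 D17257 D17844 (iv D17258) (iv D16668) (iv F65900)
theorem F70164 : act 8 n17844 = n17439 := d25_2 (iv F68103) D17844 (iv D17439)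
def n17845 : Q := act 4 n17258
theorem D17845 : act 4 n17258 = n17845 := rfl
theorem F70165 : act 1 n17845 = n17265 := d10_1 D17845 (iv D17265) (iv F68104)
theorem F70166 : act 2 n17845 = n17605 := d16_1 D17845 (iv D17605) (iv F68105)
theorem F70167 : act 3 n17845 = n17259 := d21_1 D17845 (iv D17259) (iv D16669) (iv F65906) D17258
theorem F70168 : act 8 n17845 = n17606 := d29_2 (iv F68107) D17845 (iv D17606)
def n17846 : Q := act 5 n17259
theorem D17846 : act 5 n17259 = n17846 := rfl
theorem F70169 : act 1 n17846 = n17266 := d11_1 D17846 (iv D17266) (iv F68108)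
theorem F70170 : act 4 n17846 = n17521 := d26_1 D17846 (iv D17521) (iv D16929) (iv F65910) D17259
theorem F70171 : act 7 n17846 = n17284 := d31_2 (iv F68109) D17846 (iv D17284)
def n17847 : Q := act 3 n17260
theorem D17847 : act 3 n17260 = n17847 := rfl
theorem F70172 : act 0 n17847 = n17666 := d2_1 D17847 (iv D17666) (iv F68110)
theorem F70173 : act 1 n17847 = n17440 := d9_1 D17847 (iv D17440) (iv F68111)
theorem F70174 : act 5 n17847 = n17261 := d22_2 (iv F68113) D17847 (iv D17261)
theorem F70175 : act 6 n17847 = n17454 := d23_2 (iv F68114) D17847 (iv D17454)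
theorem F70176 : act 7 n17847 = n17263 := d24_2 D17260 D17847 (iv D17263) (iv D16673) (iv F65915)
theorem F70177 : act 8 n17847 = n17434 := d25_2 (iv F68115) D17847 (iv D17434)
def n17848 : Q := act 2 n17261
theorem D17848 : act 2 n17261 = n17848 := rfl
theorem F70178 : act 3 n17848 = n17848 := d15_2 D17261 D17848 (iv D17848) (iv D17261) F65918
theorem F70179 : act 7 n17848 = n17264 := d19_2 (iv F68116) D17848 (iv D17264)
def n17849 : Q := act 4 n17261
theorem D17849 : act 4 n17261 = n17849 := rfl
theorem F70180 : act 3 n17849 = n17291 := d21_1 D17849 (iv D17291) (iv D16697) (iv F65919) D17261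
theorem F70181 : act 7 n17849 = n17265 := d28_2 (iv F68116) D17849 (iv D17265)
def n17850 : Q := act 3 n17262
theorem D17850 : act 3 n17262 = n17850 := rfl
theorem F70182 : act 1 n17850 = n17425 := d9_1 D17850 (iv D17425) (iv F68117)
theorem F70183 : act 2 n17850 = n17737 := d15_1 D17850 F69717 F67684 F65936 (iv F68118)
theorem F70184 : act 6 n17850 = n17263 := d23_2 (iv F68120) D17850 (iv D17263)
theorem F70185 : act 7 n17850 = n17454 := d24_2 D17262 D17850 (iv D17454) (iv D16857) (iv F65922)
theorem F70186 : act 8 n17850 = n17418 := d25_2 (iv F68121) D17850 (iv D17418)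
def n17851 : Q := act 2 n17263
theorem D17851 : act 2 n17263 = n17851 := rfl
theorem F70187 : act 1 n17851 = n17591 := d8_1 D17851 (iv D17591) F67126 D17006 (iv F68122)
theorem F70188 : act 3 n17851 = n17267 := d15_2 D17263 D17851 (iv D17267) (iv D16677) (iv F65926)
theorem F70189 : act 5 n17851 = n17264 := d17_2 (iv F68123) D17851 (iv D17264)
theorem F70190 : act 6 n17851 = n17737 := d18_2 F70184 D17851 (iv F70183)
theorem F70191 : act 8 n17851 = n17593 := d20_2 (iv F68124) D17851 F69283
def n17852 : Q := act 4 n17263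
theorem D17852 : act 4 n17263 = n17852 := rfl
theorem F70192 : act 1 n17852 = n17608 := d10_1 D17852 (iv D17608) (iv F68122)
theorem F70193 : act 3 n17852 = n17530 := d21_1 D17852 (iv D17530) (iv D16936) (iv F65927) D17263
theorem F70194 : act 8 n17852 = n17610 := d29_2 (iv F68124) D17852 (iv D17610)
def n17853 : Q := act 1 n17264
theorem D17853 : act 1 n17264 = n17853 := rfl
theorem F70195 : act 2 n17853 = n17588 := d8_2 D17264 D17853 F69266 (iv F68105) F68104
theorem F70196 : act 3 n17853 = n17269 := d9_2 (iv F68125) D17853 (iv D17269)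
theorem F70197 : act 5 n17853 = n17591 := d11_2 F70189 D17853 (iv F70187)
theorem F70198 : act 8 n17853 = n17589 := d14_2 F68948 D17853 F69270
def n17854 : Q := act 4 n17264
theorem D17854 : act 4 n17264 = n17854 := rfl
theorem F70199 : act 2 n17854 = n17265 := d16_1 D17854 (iv D17265) D17264
theorem F70200 : act 3 n17854 = n17709 := d21_1 D17854 (iv D17709) F67583 (iv F65942) (iv F68125)
def n17855 : Q := act 5 n17265
theorem D17855 : act 5 n17265 = n17855 := rfl
theorem F70201 : act 3 n17855 = n17266 := d22_1 D17855 (iv D17266) (iv F68126)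
def n17856 : Q := act 6 n17266
theorem D17856 : act 6 n17266 = n17856 := rfl
theorem F70202 : act 2 n17856 = n17711 := d18_1 D17856 (iv D17711) (iv F68127)
theorem F70203 : act 4 n17856 = n17534 := d27_1 D17856 (iv D17534) (iv F68128)
theorem F70204 : act 7 n17856 = n17298 := d33_2 (iv F68129) D17856 (iv D17298)
def n17857 : Q := act 4 n17267
theorem D17857 : act 4 n17267 = n17857 := rfl
theorem F70205 : act 1 n17857 = n17631 := d10_1 D17857 (iv D17631) (iv F68130)
theorem F70206 : act 2 n17857 = n17268 := d16_1 D17857 (iv D17268) D17267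
theorem F70207 : act 5 n17857 = n17714 := d26_2 (iv F68131) D17857 (iv D17714) F67594 (iv F65942)
theorem F70208 : act 6 n17857 = n17759 := d27_2 (iv F68132) D17857 (iv D17759)
theorem F70209 : act 7 n17857 = n17857 := d28_2 F68133 D17857 (iv D17857)
theorem F70210 : act 8 n17857 = n17632 := d29_2 (iv F68134) D17857 (iv D17632)
def n17858 : Q := act 0 n17269
theorem D17858 : act 0 n17269 = n17858 := rfl
theorem F70211 : act 2 n17858 = n17379 := d1_2 (iv F68141) D17858 (iv D17379)
theorem F70212 : act 4 n17858 = n17715 := d3_2 (iv F68142) D17858 (iv D17715)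
theorem F70213 : act 5 n17858 = n17628 := d4_2 (iv F68143) D17858 F69384
theorem F70214 : act 7 n17858 = n17858 := d6_2 F68144 D17858 (iv D17858)
theorem F70215 : act 8 n17858 = n17627 := d7_2 (iv F68145) D17858 F69380
def n17859 : Q := act 5 n17270
theorem D17859 : act 5 n17270 = n17859 := rfl
theorem F70216 : act 1 n17859 = n17390 := d11_1 D17859 (iv D17390) (iv F68146)
theorem F70217 : act 2 n17859 = n17284 := d17_1 D17859 (iv D17284) (iv F68147)
theorem F70218 : act 3 n17859 = n17388 := d22_1 D17859 (iv D17388) (iv F68148)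
theorem F70219 : act 4 n17859 = n17275 := d26_1 D17859 (iv D17275) (iv D16683) (iv F65946) D17270
theorem F70220 : act 8 n17859 = n17304 := d32_2 (iv F68150) D17859 (iv D17304)
def n17860 : Q := act 5 n17271
theorem D17860 : act 5 n17271 = n17860 := rfl
theorem F70221 : act 0 n17860 = n17506 := d4_1 D17860 (iv D17506) (iv F68151)
theorem F70222 : act 1 n17860 = n17275 := d11_1 D17860 (iv D17275) (iv F68152)
theorem F70223 : act 2 n17860 = n17489 := d17_1 D17860 (iv D17489) (iv F68153)
theorem F70224 : act 3 n17860 = n17685 := d22_1 D17860 (iv D17685) (iv F68154)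
theorem F70225 : act 4 n17860 = n17390 := d26_1 D17860 (iv D17390) (iv D16798) (iv F65952) D17271
theorem F70226 : act 8 n17860 = n17309 := d32_2 (iv F68156) D17860 (iv D17309)
def n17861 : Q := act 2 n17272
theorem D17861 : act 2 n17272 = n17861 := rfl
theorem F70227 : act 3 n17861 = n17861 := d15_2 D17272 D17861 (iv D17861) (iv D17272) F65956
theorem F70228 : act 5 n17861 = n17667 := d17_2 (iv F68158) D17861 (iv D17667)
theorem F70229 : act 6 n17861 = n17290 := d18_2 (iv F68159) D17861 (iv D17290)
theorem F70230 : act 7 n17861 = n17273 := d19_2 (iv F68160) D17861 (iv D17273)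
def n17862 : Q := act 4 n17272
theorem D17862 : act 4 n17272 = n17862 := rfl
theorem F70231 : act 1 n17862 = n17678 := d10_1 D17862 (iv D17678) (iv F68157)
theorem F70232 : act 6 n17862 = n17291 := d27_2 (iv F68159) D17862 (iv D17291)
theorem F70233 : act 7 n17862 = n17274 := d28_2 (iv F68160) D17862 (iv D17274)
def n17863 : Q := act 1 n17273
theorem D17863 : act 1 n17273 = n17863 := rfl
theorem F70234 : act 2 n17863 = n17481 := d8_2 D17273 D17863 F68929 (iv D17098) (iv F65959)
theorem F70235 : act 3 n17863 = n17276 := d9_2 (iv F68161) D17863 (iv D17276)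
theorem F70236 : act 5 n17863 = n17669 := d11_2 (iv F68162) D17863 (iv D17669)
theorem F70237 : act 6 n17863 = n17295 := d12_2 (iv F68163) D17863 (iv D17295)
theorem F70238 : act 8 n17863 = n17317 := d14_2 (iv F68164) D17863 (iv D17317)
theorem F70239 : act 0 n17698 = n17863 := d2_3 F70235 (iv F68177) D17698
def n17864 : Q := act 4 n17273
theorem D17864 : act 4 n17273 = n17864 := rfl
theorem F70240 : act 2 n17864 = n17274 := d16_1 D17864 (iv D17274) D17273
theorem F70241 : act 3 n17864 = n17553 := d21_1 D17864 (iv D17553) F67007 (iv F65966) (iv F68161)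
theorem F70242 : act 6 n17864 = n17296 := d27_2 (iv F68163) D17864 (iv D17296)
theorem F70243 : act 8 n17864 = n17318 := d29_2 (iv F68164) D17864 (iv D17318)
def n17865 : Q := act 5 n17274
theorem D17865 : act 5 n17274 = n17865 := rfl
theorem F70244 : act 1 n17865 = n17685 := d11_1 D17865 (iv D17685) (iv F68165)
theorem F70245 : act 3 n17865 = n17275 := d22_1 D17865 (iv D17275) (iv F68166)
theorem F70246 : act 4 n17865 = n17671 := d26_1 D17865 (iv D17671) (iv D17089) (iv F65960) D17274
theorem F70247 : act 8 n17865 = n17319 := d32_2 (iv F68168) D17865 (iv D17319)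
def n17866 : Q := act 6 n17275
theorem D17866 : act 6 n17275 = n17866 := rfl
theorem F70248 : act 2 n17866 = n17555 := d18_1 D17866 (iv D17555) (iv F68169)
theorem F70249 : act 5 n17866 = n17298 := d30_1 D17866 (iv D17298) (iv D16702) (iv F65964) D17275
theorem F70250 : act 8 n17866 = n17320 := d34_2 (iv F68170) D17866 (iv D17320)
def n17867 : Q := act 5 n17277
theorem D17867 : act 5 n17277 = n17867 := rfl
theorem F70251 : act 0 n17867 = n17284 := d4_1 D17867 (iv D17284) (iv F68178)
theorem F70252 : act 3 n17867 = n17746 := d22_1 D17867 (iv D17746) (iv F68179)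
theorem F70253 : act 4 n17867 = n17544 := d26_1 D17867 (iv D17544) (iv D16948) (iv F65972) D17277
theorem F70254 : act 8 n17867 = n17329 := d32_2 (iv F68181) D17867 (iv D17329)
def n17868 : Q := act 3 n17278
theorem D17868 : act 3 n17278 = n17868 := rfl
theorem F70255 : act 0 n17868 = n17587 := d2_1 D17868 (iv D17587) (iv F68182)
theorem F70256 : act 1 n17868 = n17288 := d9_1 D17868 (iv D17288) (iv F68183)
theorem F70257 : act 5 n17868 = n17280 := d22_2 (iv F68185) D17868 (iv D17280)
theorem F70258 : act 6 n17868 = n17576 := d23_2 (iv F68186) D17868 (iv D17576)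
theorem F70259 : act 7 n17868 = n17281 := d24_2 D17278 D17868 (iv D17281) (iv D16689) (iv F65978)
def n17869 : Q := act 3 n17279
theorem D17869 : act 3 n17279 = n17869 := rfl
theorem F70260 : act 0 n17869 = n17565 := d2_1 D17869 (iv D17565) (iv F68187)
theorem F70261 : act 1 n17869 = n17289 := d9_1 D17869 (iv D17289) (iv F68188)
theorem F70262 : act 6 n17869 = n17676 := d23_2 (iv F68191) D17869 (iv D17676)
theorem F70263 : act 7 n17869 = n17334 := d24_2 D17279 D17869 (iv D17334) (iv D16734) (iv F65984)
theorem F70264 : act 8 n17869 = n17280 := d25_2 (iv F68192) D17869 (iv D17280)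
def n17870 : Q := act 2 n17280
theorem D17870 : act 2 n17280 = n17870 := rfl
theorem F70265 : act 0 n17870 = n17730 := d1_1 D17870 (iv D17730) (iv F68193)
theorem F70266 : act 3 n17870 = n17392 := d15_2 D17280 D17870 F68605 (iv D17105) (iv F65989)
theorem F70267 : act 6 n17870 = n17677 := d18_2 (iv F68195) D17870 (iv D17677)
theorem F70268 : act 7 n17870 = n17282 := d19_2 (iv F68196) D17870 (iv D17282)
theorem F70269 : act 1 n17482 = n17870 := d13_3 F70268 (iv F68206) D17482
def n17871 : Q := act 4 n17280
theorem D17871 : act 4 n17280 = n17871 := rfl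
theorem F70270 : act 0 n17871 = n17731 := d3_1 D17871 (iv D17731) (iv F68193)
theorem F70271 : act 1 n17871 = n17291 := d10_1 D17871 (iv D17291) (iv F68194)
theorem F70272 : act 6 n17871 = n17678 := d27_2 (iv F68195) D17871 (iv D17678)
theorem F70273 : act 7 n17871 = n17283 := d28_2 (iv F68196) D17871 (iv D17283)
def n17872 : Q := act 4 n17281
theorem D17872 : act 4 n17281 = n17872 := rfl
theorem F70274 : act 0 n17872 = n17596 := d3_1 D17872 (iv D17596) (iv F68197)
theorem F70275 : act 1 n17872 = n17294 := d10_1 D17872 (iv D17294) (iv F68198)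
theorem F70276 : act 3 n17872 = n17552 := d21_1 D17872 (iv D17552) (iv D16954) (iv F65994) D17281
theorem F70277 : act 6 n17872 = n17581 := d27_2 (iv F68200) D17872 (iv D17581)
theorem F70278 : act 8 n17872 = n17339 := d29_2 (iv F68201) D17872 (iv D17339)
def n17873 : Q := act 4 n17282
theorem D17873 : act 4 n17282 = n17873 := rfl
theorem F70279 : act 0 n17873 = n17745 := d3_1 D17873 (iv D17745) (iv F68202)
theorem F70280 : act 1 n17873 = n17461 := d10_1 D17873 F68861 F68206
theorem F70281 : act 2 n17873 = n17283 := d16_1 D17873 (iv D17283) D17282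
theorem F70282 : act 3 n17873 = n17387 := d21_1 D17873 (iv D17387) F66417 (iv F66310) (iv F68203)
theorem F70283 : act 6 n17873 = n17684 := d27_2 (iv F68204) D17873 (iv D17684)
theorem F70284 : act 8 n17873 = n17341 := d29_2 (iv F68205) D17873 (iv D17341)
def n17874 : Q := act 5 n17283
theorem D17874 : act 5 n17283 = n17874 := rfl
theorem F70285 : act 0 n17874 = n17746 := d4_1 D17874 (iv D17746) (iv F68207)
theorem F70286 : act 1 n17874 = n17297 := d11_1 D17874 (iv D17297) (iv F68208)
theorem F70287 : act 3 n17874 = n17284 := d22_1 D17874 (iv D17284) (iv F68209)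
theorem F70288 : act 8 n17874 = n17342 := d32_2 (iv F68211) D17874 (iv D17342)
def n17875 : Q := act 6 n17284
theorem D17875 : act 6 n17284 = n17875 := rfl
theorem F70289 : act 1 n17875 = n17298 := d12_1 D17875 (iv D17298) (iv F68212)
theorem F70290 : act 4 n17875 = n17555 := d27_1 D17875 (iv D17555) (iv F68213)
theorem F70291 : act 8 n17875 = n17343 := d34_2 (iv F68214) D17875 (iv D17343)
def n17876 : Q := act 3 n17285
theorem D17876 : act 3 n17285 = n17876 := rfl
theorem F70292 : act 7 n17876 = n17556 := d24_2 D17285 D17876 (iv D17556) (iv D16958) (iv F66005)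
def n17877 : Q := act 3 n17286
theorem D17877 : act 3 n17286 = n17877 := rfl
theorem F70293 : act 0 n17877 = n17453 := d2_1 D17877 (iv D17453) (iv F68217)
theorem F70294 : act 1 n17877 = n17576 := d9_1 D17877 (iv D17576) (iv F68218)
theorem F70295 : act 5 n17877 = n17446 := d22_2 (iv F68220) D17877 (iv D17446)
theorem F70296 : act 6 n17877 = n17288 := d23_2 (iv F68221) D17877 (iv D17288)
theorem F70297 : act 7 n17877 = n17292 := d24_2 D17286 D17877 (iv D17292) (iv D16698) (iv F66010)
theorem F70298 : act 8 n17877 = n17876 := d25_2 (iv F68222) D17877 (iv D17876)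
def n17878 : Q := act 3 n17287
theorem D17878 : act 3 n17287 = n17878 := rfl
theorem F70299 : act 5 n17878 = n17289 := d22_2 (iv F68225) D17878 (iv D17289)
theorem F70300 : act 6 n17878 = n17876 := d23_2 (iv F68226) D17878 (iv D17876)
theorem F70301 : act 7 n17878 = n17346 := d24_2 D17287 D17878 (iv D17346) (iv D16743) (iv F66014)
theorem F70302 : act 8 n17878 = n17288 := d25_2 (iv F68227) D17878 (iv D17288)
def n17879 : Q := act 2 n17288
theorem D17879 : act 2 n17288 = n17879 := rfl
theorem F70303 : act 3 n17879 = n17879 := d15_2 D17288 D17879 (iv D17879) (iv D17288) F66018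
theorem F70304 : act 5 n17879 = n17290 := d17_2 (iv F68228) D17879 (iv D17290)
theorem F70305 : act 7 n17879 = n17293 := d19_2 (iv F68229) D17879 (iv D17293)
def n17880 : Q := act 4 n17288
theorem D17880 : act 4 n17288 = n17880 := rfl
theorem F70306 : act 7 n17880 = n17294 := d28_2 (iv F68229) D17880 (iv D17294)
def n17881 : Q := act 2 n17289
theorem D17881 : act 2 n17289 = n17881 := rfl
theorem F70307 : act 3 n17881 = n17881 := d15_2 D17289 D17881 (iv D17881) (iv D17289) F66020
theorem F70308 : act 7 n17881 = n17349 := d19_2 (iv F68230) D17881 (iv D17349)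
theorem F70309 : act 8 n17881 = n17290 := d20_2 (iv F68231) D17881 (iv D17290)
def n17882 : Q := act 4 n17289
theorem D17882 : act 4 n17289 = n17882 := rfl
theorem F70310 : act 7 n17882 = n17350 := d28_2 (iv F68230) D17882 (iv D17350)
theorem F70311 : act 8 n17882 = n17291 := d29_2 (iv F68231) D17882 (iv D17291)
def n17883 : Q := act 1 n17290
theorem D17883 : act 1 n17290 = n17883 := rfl
theorem F70312 : act 2 n17883 = n17482 := d8_2 D17290 D17883 F70269 (iv D17870) F68194
theorem F70313 : act 3 n17883 = n17883 := d9_2 F68232 D17883 (iv D17883)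
theorem F70314 : act 7 n17883 = n17295 := d13_2 (iv F68233) D17883 (iv D17295)
def n17884 : Q := act 4 n17290
theorem D17884 : act 4 n17290 = n17884 := rfl
theorem F70315 : act 2 n17884 = n17291 := d16_1 D17884 (iv D17291) D17290
theorem F70316 : act 7 n17884 = n17296 := d28_2 (iv F68233) D17884 (iv D17296)
def n17885 : Q := act 5 n17291
theorem D17885 : act 5 n17291 = n17885 := rfl
theorem F70317 : act 7 n17885 = n17297 := d31_2 (iv F68234) D17885 (iv D17297)
def n17886 : Q := act 4 n17292
theorem D17886 : act 4 n17292 = n17886 := rfl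
theorem F70318 : act 0 n17886 = n17458 := d3_1 D17886 (iv D17458) (iv F68235)
theorem F70319 : act 1 n17886 = n17581 := d10_1 D17886 (iv D17581) (iv F68236)
theorem F70320 : act 3 n17886 = n17562 := d21_1 D17886 (iv D17562) (iv D16964) (iv F66026) D17292
theorem F70321 : act 6 n17886 = n17294 := d27_2 (iv F68238) D17886 (iv D17294)
theorem F70322 : act 8 n17886 = n17354 := d29_2 (iv F68239) D17886 (iv D17354)
def n17887 : Q := act 1 n17293
theorem D17887 : act 1 n17293 = n17887 := rfl
theorem F70323 : act 0 n17887 = n17340 := d0_1 D17887 (iv D17340) (iv F68382) (iv F69939) F69938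
theorem F70324 : act 2 n17887 = n17358 := d8_2 D17293 D17887 (iv F70103) F70104 F68198
theorem F70325 : act 3 n17887 = n17299 := d9_2 (iv F68240) D17887 (iv D17299)
theorem F70326 : act 5 n17887 = n17295 := d11_2 (iv F68241) D17887 (iv D17295)
theorem F70327 : act 6 n17887 = n17697 := d12_2 F70127 D17887 (iv F70124)
theorem F70328 : act 8 n17887 = n17355 := d14_2 (iv F68242) D17887 (iv D17355)
def n17888 : Q := act 4 n17293
theorem D17888 : act 4 n17293 = n17888 := rfl
theorem F70329 : act 2 n17888 = n17294 := d16_1 D17888 (iv D17294) D17293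
theorem F70330 : act 8 n17888 = n17356 := d29_2 (iv F68242) D17888 (iv D17356)
def n17889 : Q := act 5 n17294
theorem D17889 : act 5 n17294 = n17889 := rfl
theorem F70331 : act 3 n17889 = n17563 := d22_1 D17889 (iv D17563) (iv F68243)
theorem F70332 : act 4 n17889 = n17297 := d26_1 D17889 (iv D17297) (iv D16701) (iv F66030) D17294
theorem F70333 : act 8 n17889 = n17357 := d32_2 (iv F68244) D17889 (iv D17357)
def n17890 : Q := act 0 n17295
theorem D17890 : act 0 n17295 = n17890 := rfl
theorem F70334 : act 1 n17890 = n17338 := d0_2 D17295 D17890 F69954 (iv D17796) F67859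
theorem F70335 : act 2 n17890 = n17355 := d1_2 (iv F68245) D17890 F68453
theorem F70336 : act 3 n17890 = n17300 := d2_2 (iv F68246) D17890 (iv D17300)
theorem F70337 : act 5 n17890 = n17340 := d4_2 F70326 D17890 (iv F70323)
theorem F70338 : act 6 n17890 = n17698 := d5_2 F70237 D17890 F70239
theorem F70339 : act 8 n17890 = n17358 := d7_2 (iv F68247) D17890 (iv D17358)
def n17891 : Q := act 4 n17295
theorem D17891 : act 4 n17295 = n17891 := rfl
theorem F70340 : act 1 n17891 = n17296 := d10_1 D17891 (iv D17296) D17295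
theorem F70341 : act 2 n17891 = n17461 := d16_1 D17891 F68861 (iv F68245)
theorem F70342 : act 3 n17891 = n17459 := d21_1 D17891 (iv D17459) F66668 (iv F66043) (iv F68246)
theorem F70343 : act 8 n17891 = n17359 := d29_2 (iv F68247) D17891 (iv D17359)
def n17892 : Q := act 5 n17296
theorem D17892 : act 5 n17296 = n17892 := rfl
theorem F70344 : act 2 n17892 = n17297 := d17_1 D17892 (iv D17297) (iv F68248)
theorem F70345 : act 3 n17892 = n17726 := d22_1 D17892 (iv D17726) (iv F68249)
theorem F70346 : act 8 n17892 = n17360 := d32_2 (iv F68250) D17892 (iv D17360)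
def n17893 : Q := act 6 n17297
theorem D17893 : act 6 n17297 = n17893 := rfl
theorem F70347 : act 3 n17893 = n17298 := d23_1 D17893 (iv D17298) (iv F68251)
theorem F70348 : act 8 n17893 = n17361 := d34_2 (iv F68252) D17893 (iv D17361)
def n17894 : Q := act 2 n17301
theorem D17894 : act 2 n17301 = n17894 := rfl
theorem F70349 : act 1 n17894 = n17401 := d8_1 D17894 (iv D17401) F66488 (iv F66392) (iv F68270)
theorem F70350 : act 3 n17894 = n17894 := d15_2 D17301 D17894 (iv D17894) (iv D17301) F66047
theorem F70351 : act 5 n17894 = n17647 := d17_2 (iv F68271) D17894 (iv D17647)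
theorem F70352 : act 6 n17894 = n17494 := d18_2 (iv F68272) D17894 (iv D17494)
theorem F70353 : act 7 n17894 = n17302 := d19_2 (iv F68273) D17894 (iv D17302)
theorem F70354 : act 8 n17894 = n17767 := d20_2 (iv F68274) D17894 (iv D17767)
def n17895 : Q := act 4 n17301
theorem D17895 : act 4 n17301 = n17895 := rfl
theorem F70355 : act 1 n17895 = n17380 := d10_1 D17895 (iv D17380) (iv F68270)
theorem F70356 : act 6 n17895 = n17495 := d27_2 (iv F68272) D17895 (iv D17495)
theorem F70357 : act 7 n17895 = n17303 := d28_2 (iv F68273) D17895 (iv D17303)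
theorem F70358 : act 8 n17895 = n17768 := d29_2 (iv F68274) D17895 (iv D17768)
def n17896 : Q := act 4 n17302
theorem D17896 : act 4 n17302 = n17896 := rfl
theorem F70359 : act 1 n17896 = n17420 := d10_1 D17896 (iv D17420) (iv F68275)
theorem F70360 : act 2 n17896 = n17303 := d16_1 D17896 (iv D17303) D17302
theorem F70361 : act 3 n17896 = n17341 := d21_1 D17896 (iv D17341) F66188 (iv F66059) (iv F68276)
theorem F70362 : act 6 n17896 = n17498 := d27_2 (iv F68278) D17896 (iv D17498)
theorem F70363 : act 8 n17896 = n17387 := d29_2 (iv F68279) D17896 (iv D17387)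
def n17897 : Q := act 5 n17303
theorem D17897 : act 5 n17303 = n17897 := rfl
theorem F70364 : act 1 n17897 = n17381 := d11_1 D17897 (iv D17381) (iv F68280)
theorem F70365 : act 3 n17897 = n17304 := d22_1 D17897 (iv D17304) (iv F68281)
theorem F70366 : act 4 n17897 = n17658 := d26_1 D17897 (iv D17658) (iv D17079) (iv F66052) D17303
theorem F70367 : act 8 n17897 = n17388 := d32_2 (iv F68283) D17897 (iv D17388)
def n17898 : Q := act 6 n17304
theorem D17898 : act 6 n17304 = n17898 := rfl
theorem F70368 : act 1 n17898 = n17491 := d12_1 D17898 (iv D17491) (iv F68284)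
theorem F70369 : act 2 n17898 = n17343 := d18_1 D17898 (iv D17343) (iv F68285)
theorem F70370 : act 4 n17898 = n17320 := d27_1 D17898 (iv D17320) (iv F68286)
theorem F70371 : act 5 n17898 = n17500 := d30_1 D17898 (iv D17500) (iv D16907) (iv F66057) D17304
def n17899 : Q := act 5 n17305
theorem D17899 : act 5 n17305 = n17899 := rfl
theorem F70372 : act 0 n17899 = n17309 := d4_1 D17899 (iv D17309) (iv F68287)
theorem F70373 : act 2 n17899 = n17433 := d17_1 D17899 (iv D17433) (iv F68288)
theorem F70374 : act 3 n17899 = n17725 := d22_1 D17899 (iv D17725) (iv F68289)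
theorem F70375 : act 4 n17899 = n17384 := d26_1 D17899 (iv D17384) (iv D16793) (iv F66066) D17305
theorem F70376 : act 7 n17899 = n17803 := d31_2 (iv F68291) D17899 (iv D17803)
theorem F70377 : act 8 n17899 = n17506 := d32_2 (iv F68292) D17899 (iv D17506)
def n17900 : Q := act 2 n17306
theorem D17900 : act 2 n17306 = n17900 := rfl
theorem F70378 : act 0 n17900 = n17718 := d1_1 D17900 (iv D17718) (iv F68293)
theorem F70379 : act 3 n17900 = n17900 := d15_2 D17306 D17900 (iv D17900) (iv D17306) F66072
theorem F70380 : act 5 n17900 = n17660 := d17_2 (iv F68295) D17900 (iv D17660)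
theorem F70381 : act 6 n17900 = n17335 := d18_2 (iv F68296) D17900 (iv D17335)
theorem F70382 : act 7 n17900 = n17307 := d19_2 (iv F68297) D17900 (iv D17307)
def n17901 : Q := act 4 n17306
theorem D17901 : act 4 n17306 = n17901 := rfl
theorem F70383 : act 0 n17901 = n17719 := d3_1 D17901 (iv D17719) (iv F68293)
theorem F70384 : act 1 n17901 = n17313 := d10_1 D17901 (iv D17313) (iv F68294)
theorem F70385 : act 3 n17901 = n17895 := d21_1 D17901 (iv D17895) (iv D17301) (iv F66073) D17306
theorem F70386 : act 6 n17901 = n17336 := d27_2 (iv F68296) D17901 (iv D17336)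
theorem F70387 : act 7 n17901 = n17308 := d28_2 (iv F68297) D17901 (iv D17308)
def n17902 : Q := act 1 n17307
theorem D17902 : act 1 n17307 = n17902 := rfl
theorem F70388 : act 0 n17902 = n17697 := d0_1 D17902 (iv F70124) F70123 F68851 (iv F68298)
theorem F70389 : act 2 n17902 = n17317 := d8_2 D17307 D17902 (iv D17317) (iv D16718) (iv F66077)
theorem F70390 : act 3 n17902 = n17376 := d9_2 (iv F68299) D17902 (iv D17376)
theorem F70391 : act 5 n17902 = n17662 := d11_2 (iv F68300) D17902 (iv D17662)
theorem F70392 : act 6 n17902 = n17340 := d12_2 (iv F68301) D17902 (iv D17340)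
theorem F70393 : act 8 n17902 = n17481 := d14_2 (iv F68302) D17902 F68929
def n17903 : Q := act 4 n17307
theorem D17903 : act 4 n17307 = n17903 := rfl
theorem F70394 : act 0 n17903 = n17724 := d3_1 D17903 (iv D17724) (iv F68298)
theorem F70395 : act 2 n17903 = n17308 := d16_1 D17903 (iv D17308) D17307
theorem F70396 : act 3 n17903 = n17498 := d21_1 D17903 (iv D17498) F66838 (iv F66329) (iv F68299)
theorem F70397 : act 6 n17903 = n17341 := d27_2 (iv F68301) D17903 (iv D17341)
theorem F70398 : act 8 n17903 = n17684 := d29_2 (iv F68302) D17903 (iv D17684)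
def n17904 : Q := act 5 n17308
theorem D17904 : act 5 n17308 = n17904 := rfl
theorem F70399 : act 0 n17904 = n17725 := d4_1 D17904 (iv D17725) (iv F68303)
theorem F70400 : act 1 n17904 = n17319 := d11_1 D17904 (iv D17319) (iv F68304)
theorem F70401 : act 3 n17904 = n17309 := d22_1 D17904 (iv D17309) (iv F68305)
theorem F70402 : act 4 n17904 = n17664 := d26_1 D17904 (iv D17664) (iv D17083) (iv F66078) D17308
theorem F70403 : act 8 n17904 = n17685 := d32_2 (iv F68307) D17904 (iv D17685)
def n17905 : Q := act 6 n17309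
theorem D17905 : act 6 n17309 = n17905 := rfl
theorem F70404 : act 1 n17905 = n17320 := d12_1 D17905 (iv D17320) (iv F68308)
theorem F70405 : act 2 n17905 = n17500 := d18_1 D17905 (iv D17500) (iv F68309)
theorem F70406 : act 4 n17905 = n17491 := d27_1 D17905 (iv D17491) (iv F68310)
theorem F70407 : act 5 n17905 = n17343 := d30_1 D17905 (iv D17343) (iv D16740) (iv F66083) D17309
theorem F70408 : act 7 n17905 = n17898 := d33_2 (iv F68311) D17905 (iv D17898)
def n17906 : Q := act 3 n17310
theorem D17906 : act 3 n17310 = n17906 := rfl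
theorem F70409 : act 0 n17906 = n17418 := d2_1 D17906 (iv D17418) (iv F68312)
theorem F70410 : act 1 n17906 = n17541 := d9_1 D17906 (iv D17541) (iv F68313)
theorem F70411 : act 2 n17906 = n17740 := d15_1 D17906 F69723 F67691 (iv F66228) (iv F68314)
theorem F70412 : act 5 n17906 = n17345 := d22_2 (iv F68315) D17906 (iv D17345)
theorem F70413 : act 6 n17906 = n17311 := d23_2 (iv F68316) D17906 (iv D17311)
theorem F70414 : act 7 n17906 = n17314 := d24_2 D17310 D17906 (iv D17314) (iv D16716) (iv F66088)
def n17907 : Q := act 2 n17311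
theorem D17907 : act 2 n17311 = n17907 := rfl
theorem F70415 : act 0 n17907 = n17593 := d1_1 D17907 F69283 (iv F68317)
theorem F70416 : act 3 n17907 = n17362 := d15_2 D17311 D17907 (iv D17362) (iv D16758) (iv F66093)
theorem F70417 : act 5 n17907 = n17312 := d17_2 (iv F68319) D17907 (iv D17312)
theorem F70418 : act 6 n17907 = n17740 := d18_2 F70413 D17907 (iv F70411)
theorem F70419 : act 7 n17907 = n17315 := d19_2 (iv F68320) D17907 (iv D17315)
def n17908 : Q := act 4 n17311
theorem D17908 : act 4 n17311 = n17908 := rfl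
theorem F70420 : act 0 n17908 = n17610 := d3_1 D17908 (iv D17610) (iv F68317)
theorem F70421 : act 1 n17908 = n17661 := d10_1 D17908 (iv D17661) (iv F68318)
theorem F70422 : act 7 n17908 = n17316 := d28_2 (iv F68320) D17908 (iv D17316)
def n17909 : Q := act 1 n17312
theorem D17909 : act 1 n17312 = n17909 := rfl
theorem F70423 : act 3 n17909 = n17364 := d9_2 (iv F68321) D17909 (iv D17364)
theorem F70424 : act 6 n17909 = n17351 := d12_2 (iv F68322) D17909 (iv D17351)
theorem F70425 : act 7 n17909 = n17317 := d13_2 (iv F68323) D17909 (iv D17317)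
def n17910 : Q := act 4 n17312
theorem D17910 : act 4 n17312 = n17910 := rfl
theorem F70426 : act 2 n17910 = n17313 := d16_1 D17910 (iv D17313) D17312
theorem F70427 : act 6 n17910 = n17352 := d27_2 (iv F68322) D17910 (iv D17352)
theorem F70428 : act 7 n17910 = n17318 := d28_2 (iv F68323) D17910 (iv D17318)
def n17911 : Q := act 5 n17313
theorem D17911 : act 5 n17313 = n17911 := rfl
theorem F70429 : act 7 n17911 = n17319 := d31_2 (iv F68325) D17911 (iv D17319)
def n17912 : Q := act 4 n17314
theorem D17912 : act 4 n17314 = n17912 := rfl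
theorem F70430 : act 0 n17912 = n17419 := d3_1 D17912 (iv D17419) (iv F68326)
theorem F70431 : act 1 n17912 = n17543 := d10_1 D17912 (iv D17543) (iv F68327)
theorem F70432 : act 2 n17912 = n17751 := d16_1 D17912 (iv D17751) (iv F68328)
theorem F70433 : act 3 n17912 = n17417 := d21_1 D17912 (iv D17417) (iv D16822) (iv F66100) D17314
theorem F70434 : act 6 n17912 = n17316 := d27_2 (iv F68330) D17912 (iv D17316)
theorem F70435 : act 8 n17912 = n17448 := d29_2 (iv F68331) D17912 (iv D17448)
def n17913 : Q := act 1 n17315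
theorem D17913 : act 1 n17315 = n17913 := rfl
theorem F70436 : act 0 n17913 = n17582 := d0_1 D17913 (iv D17582) F67100 D16997 (iv F68332)
theorem F70437 : act 2 n17913 = n17662 := d8_2 D17315 D17913 (iv D17662) (iv D17082) (iv F66105)
theorem F70438 : act 3 n17913 = n17321 := d9_2 (iv F68333) D17913 (iv D17321)
theorem F70439 : act 5 n17913 = n17317 := d11_2 (iv F68334) D17913 (iv D17317)
theorem F70440 : act 6 n17913 = n17686 := d12_2 (iv F68335) D17913 F69572
theorem F70441 : act 8 n17913 = n17669 := d14_2 (iv F68336) D17913 (iv D17669)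
def n17914 : Q := act 4 n17315
theorem D17914 : act 4 n17315 = n17914 := rfl
theorem F70442 : act 0 n17914 = n17599 := d3_1 D17914 (iv D17599) (iv F68332)
theorem F70443 : act 2 n17914 = n17316 := d16_1 D17914 (iv D17316) D17315
theorem F70444 : act 6 n17914 = n17751 := d27_2 (iv F68335) D17914 (iv D17751)
theorem F70445 : act 8 n17914 = n17670 := d29_2 (iv F68336) D17914 (iv D17670)
def n17915 : Q := act 5 n17316
theorem D17915 : act 5 n17316 = n17915 := rfl
theorem F70446 : act 0 n17915 = n17617 := d4_1 D17915 (iv D17617) (iv F68337)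
theorem F70447 : act 1 n17915 = n17664 := d11_1 D17915 (iv D17664) (iv F68338)
theorem F70448 : act 3 n17915 = n17658 := d22_1 D17915 (iv D17658) (iv F68339)
theorem F70449 : act 4 n17915 = n17319 := d26_1 D17915 (iv D17319) (iv D16719) (iv F66106) D17316
theorem F70450 : act 8 n17915 = n17671 := d32_2 (iv F68340) D17915 (iv D17671)
def n17916 : Q := act 0 n17317
theorem D17916 : act 0 n17317 = n17916 := rfl
theorem F70451 : act 1 n17916 = n17580 := d0_2 D17317 D17916 F69245 (iv F67918) F67917
theorem F70452 : act 2 n17916 = n17697 := d1_2 F70389 D17916 (iv F70388)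
theorem F70453 : act 3 n17916 = n17322 := d2_2 (iv F68341) D17916 F68356
theorem F70454 : act 5 n17916 = n17582 := d4_2 F70439 D17916 (iv F70436)
theorem F70455 : act 6 n17916 = n17358 := d5_2 (iv F68342) D17916 (iv D17358)
theorem F70456 : act 8 n17916 = n17698 := d7_2 F70238 D17916 F70239
def n17917 : Q := act 4 n17317
theorem D17917 : act 4 n17317 = n17917 := rfl
theorem F70457 : act 1 n17917 = n17318 := d10_1 D17917 (iv D17318) D17317
theorem F70458 : act 3 n17917 = n17599 := d21_1 D17917 (iv D17599) F67143 (iv F66126) (iv F68341)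
theorem F70459 : act 6 n17917 = n17359 := d27_2 (iv F68342) D17917 (iv D17359)
def n17918 : Q := act 5 n17318
theorem D17918 : act 5 n17318 = n17918 := rfl
theorem F70460 : act 2 n17918 = n17319 := d17_1 D17918 (iv D17319) (iv F68343)
theorem F70461 : act 3 n17918 = n17600 := d22_1 D17918 (iv D17600) (iv F68344)
def n17919 : Q := act 6 n17319
theorem D17919 : act 6 n17319 = n17919 := rfl
theorem F70462 : act 3 n17919 = n17320 := d23_1 D17919 (iv D17320) (iv F68346)
theorem F70463 : act 5 n17919 = n17361 := d30_1 D17919 (iv D17361) (iv D16753) (iv F66111) D17319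
def n17920 : Q := act 3 n17323
theorem D17920 : act 3 n17323 = n17920 := rfl
theorem F70464 : act 0 n17920 = n17333 := d2_1 D17920 (iv D17333) (iv F68363)
theorem F70465 : act 1 n17920 = n17557 := d9_1 D17920 (iv D17557) (iv F68364)
theorem F70466 : act 5 n17920 = n17325 := d22_2 (iv F68366) D17920 (iv D17325)
theorem F70467 : act 6 n17920 = n17547 := d23_2 (iv F68367) D17920 (iv D17547)
theorem F70468 : act 7 n17920 = n17326 := d24_2 D17323 D17920 (iv D17326) (iv D16727) (iv F66132)
def n17921 : Q := act 3 n17324
theorem D17921 : act 3 n17324 = n17921 := rfl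
theorem F70469 : act 0 n17921 = n17334 := d2_1 D17921 (iv D17334) (iv F68368)
theorem F70470 : act 1 n17921 = n17501 := d9_1 D17921 (iv D17501) (iv F68369)
theorem F70471 : act 6 n17921 = n17717 := d23_2 (iv F68372) D17921 (iv D17717)
theorem F70472 : act 7 n17921 = n17565 := d24_2 D17324 D17921 (iv D17565) (iv D16968) (iv F66138)
theorem F70473 : act 8 n17921 = n17325 := d25_2 (iv F68373) D17921 (iv D17325)
def n17922 : Q := act 2 n17325
theorem D17922 : act 2 n17325 = n17922 := rfl
theorem F70474 : act 0 n17922 = n17335 := d1_1 D17922 (iv D17335) (iv F68374)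
theorem F70475 : act 3 n17922 = n17922 := d15_2 D17325 D17922 (iv D17922) (iv D17325) F66142
theorem F70476 : act 6 n17922 = n17718 := d18_2 (iv F68375) D17922 (iv D17718)
theorem F70477 : act 7 n17922 = n17327 := d19_2 (iv F68376) D17922 (iv D17327)
def n17923 : Q := act 4 n17325
theorem D17923 : act 4 n17325 = n17923 := rfl
theorem F70478 : act 0 n17923 = n17336 := d3_1 D17923 (iv D17336) (iv F68374)
theorem F70479 : act 6 n17923 = n17719 := d27_2 (iv F68375) D17923 (iv D17719)
theorem F70480 : act 7 n17923 = n17328 := d28_2 (iv F68376) D17923 (iv D17328)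
def n17924 : Q := act 4 n17326
theorem D17924 : act 4 n17326 = n17924 := rfl
theorem F70481 : act 0 n17924 = n17339 := d3_1 D17924 (iv D17339) (iv F68377)
theorem F70482 : act 1 n17924 = n17562 := d10_1 D17924 (iv D17562) (iv F68378)
theorem F70483 : act 3 n17924 = n17581 := d21_1 D17924 (iv D17581) (iv D16983) (iv F66147) D17326
theorem F70484 : act 6 n17924 = n17552 := d27_2 (iv F68380) D17924 (iv D17552)
theorem F70485 : act 8 n17924 = n17596 := d29_2 (iv F68381) D17924 (iv D17596)
def n17925 : Q := act 4 n17327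
theorem D17925 : act 4 n17327 = n17925 := rfl
theorem F70486 : act 0 n17925 = n17341 := d3_1 D17925 (iv D17341) (iv F68382)
theorem F70487 : act 2 n17925 = n17328 := d16_1 D17925 (iv D17328) D17327
theorem F70488 : act 6 n17925 = n17724 := d27_2 (iv F68384) D17925 (iv D17724)
theorem F70489 : act 8 n17925 = n17745 := d29_2 (iv F68385) D17925 (iv D17745)
def n17926 : Q := act 5 n17328
theorem D17926 : act 5 n17328 = n17926 := rfl
theorem F70490 : act 0 n17926 = n17342 := d4_1 D17926 (iv D17342) (iv F68386)
theorem F70491 : act 3 n17926 = n17329 := d22_1 D17926 (iv D17329) (iv F68387)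
theorem F70492 : act 8 n17926 = n17746 := d32_2 (iv F68389) D17926 (iv D17746)
def n17927 : Q := act 6 n17329
theorem D17927 : act 6 n17329 = n17927 := rfl
theorem F70493 : act 0 n17927 = n17343 := d5_1 D17927 (iv D17343) (iv F68390)
theorem F70494 : act 4 n17927 = n17585 := d27_1 D17927 (iv D17585) (iv F68391)
def n17928 : Q := act 3 n17330
theorem D17928 : act 3 n17330 = n17928 := rfl
theorem F70495 : act 1 n17928 = n17344 := d9_1 D17928 (iv D17344) (iv F68392)
theorem F70496 : act 5 n17928 = n17921 := d22_2 (iv F68395) D17928 (iv D17921)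
theorem F70497 : act 7 n17928 = n17586 := d24_2 D17330 D17928 (iv D17586) (iv D16987) (iv F66157)
theorem F70498 : act 8 n17928 = n17920 := d25_2 (iv F68396) D17928 (iv D17920)
def n17929 : Q := act 3 n17331
theorem D17929 : act 3 n17331 = n17929 := rfl
theorem F70499 : act 0 n17929 = n17547 := d2_1 D17929 (iv D17547) (iv F68397)
theorem F70500 : act 1 n17929 = n17345 := d9_1 D17929 (iv D17345) (iv F68398)
theorem F70501 : act 5 n17929 = n17541 := d22_2 (iv F68400) D17929 (iv D17541)
theorem F70502 : act 6 n17929 = n17333 := d23_2 (iv F68401) D17929 (iv D17333)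
theorem F70503 : act 7 n17929 = n17337 := d24_2 D17331 D17929 (iv D17337) (iv D16736) (iv F66163)
def n17930 : Q := act 3 n17332
theorem D17930 : act 3 n17332 = n17930 := rfl
theorem F70504 : act 0 n17930 = n17928 := d2_1 D17930 (iv D17928) (iv F68402)
theorem F70505 : act 1 n17930 = n17346 := d9_1 D17930 (iv D17346) (iv F68403)
theorem F70506 : act 5 n17930 = n17334 := d22_2 (iv F68406) D17930 (iv D17334)
theorem F70507 : act 8 n17930 = n17333 := d25_2 (iv F68407) D17930 (iv D17333)
def n17931 : Q := act 2 n17333
theorem D17931 : act 2 n17333 = n17931 := rfl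
theorem F70508 : act 3 n17931 = n17931 := d15_2 D17333 D17931 (iv D17931) (iv D17333) F66172
theorem F70509 : act 5 n17931 = n17335 := d17_2 (iv F68409) D17931 (iv D17335)
theorem F70510 : act 7 n17931 = n17338 := d19_2 (iv F68410) D17931 (iv D17338)
def n17932 : Q := act 4 n17333
theorem D17932 : act 4 n17333 = n17932 := rfl
theorem F70511 : act 1 n17932 = n17348 := d10_1 D17932 (iv D17348) (iv F68408)
theorem F70512 : act 7 n17932 = n17339 := d28_2 (iv F68410) D17932 (iv D17339)
def n17933 : Q := act 2 n17334
theorem D17933 : act 2 n17334 = n17933 := rfl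
theorem F70513 : act 3 n17933 = n17933 := d15_2 D17334 D17933 (iv D17933) (iv D17334) F66175
theorem F70514 : act 8 n17933 = n17335 := d20_2 (iv F68412) D17933 (iv D17335)
def n17934 : Q := act 4 n17334
theorem D17934 : act 4 n17334 = n17934 := rfl
theorem F70515 : act 1 n17934 = n17350 := d10_1 D17934 (iv D17350) (iv F68411)
theorem F70516 : act 8 n17934 = n17336 := d29_2 (iv F68412) D17934 (iv D17336)
def n17935 : Q := act 1 n17335
theorem D17935 : act 1 n17335 = n17935 := rfl
theorem F70517 : act 2 n17935 = n17351 := d8_2 D17335 D17935 (iv D17351) (iv D16746) (iv F66177)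
theorem F70518 : act 3 n17935 = n17935 := d9_2 F68413 D17935 (iv D17935)
theorem F70519 : act 7 n17935 = n17340 := d13_2 (iv F68414) D17935 (iv D17340)
def n17936 : Q := act 4 n17335
theorem D17936 : act 4 n17335 = n17936 := rfl
theorem F70520 : act 2 n17936 = n17336 := d16_1 D17936 (iv D17336) D17335
theorem F70521 : act 7 n17936 = n17341 := d28_2 (iv F68414) D17936 (iv D17341)
def n17937 : Q := act 5 n17336
theorem D17937 : act 5 n17336 = n17937 := rfl
theorem F70522 : act 1 n17937 = n17353 := d11_1 D17937 (iv D17353) (iv F68415)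
theorem F70523 : act 7 n17937 = n17342 := d31_2 (iv F68416) D17937 (iv D17342)
def n17938 : Q := act 2 n17337
theorem D17938 : act 2 n17337 = n17938 := rfl
theorem F70524 : act 0 n17938 = n17551 := d1_1 D17938 (iv D17551) (iv F68417)
theorem F70525 : act 1 n17938 = n17698 := d8_1 D17938 F69616 (iv F68062) F68063 (iv F68418)
theorem F70526 : act 3 n17938 = n17377 := d15_2 D17337 D17938 (iv D17377) (iv D16783) (iv F66181)
theorem F70527 : act 5 n17938 = n17542 := d17_2 (iv F68419) D17938 (iv D17542)
theorem F70528 : act 6 n17938 = n17338 := d18_2 (iv F68420) D17938 (iv D17338)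
theorem F70529 : act 8 n17938 = n17580 := d20_2 (iv F68421) D17938 (iv D17580)
def n17939 : Q := act 4 n17337
theorem D17939 : act 4 n17337 = n17939 := rfl
theorem F70530 : act 0 n17939 = n17552 := d3_1 D17939 (iv D17552) (iv F68417)
theorem F70531 : act 1 n17939 = n17354 := d10_1 D17939 (iv D17354) (iv F68418)
theorem F70532 : act 3 n17939 = n17596 := d21_1 D17939 (iv D17596) (iv D16994) (iv F66182) D17337
theorem F70533 : act 6 n17939 = n17339 := d27_2 (iv F68420) D17939 (iv D17339)
theorem F70534 : act 8 n17939 = n17581 := d29_2 (iv F68421) D17939 (iv D17581)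
def n17940 : Q := act 4 n17338
theorem D17940 : act 4 n17338 = n17940 := rfl
theorem F70535 : act 2 n17940 = n17339 := d16_1 D17940 (iv D17339) D17338
def n17941 : Q := act 5 n17339
theorem D17941 : act 5 n17339 = n17941 := rfl
theorem F70536 : act 1 n17941 = n17357 := d11_1 D17941 (iv D17357) (iv F68424)
theorem F70537 : act 3 n17941 = n17598 := d22_1 D17941 (iv D17598) (iv F68425)
theorem F70538 : act 4 n17941 = n17342 := d26_1 D17941 (iv D17342) (iv D16739) (iv F66187) D17339
def n17942 : Q := act 4 n17340
theorem D17942 : act 4 n17340 = n17942 := rfl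
theorem F70539 : act 1 n17942 = n17341 := d10_1 D17942 (iv D17341) D17340
theorem F70540 : act 2 n17942 = n17359 := d16_1 D17942 (iv D17359) (iv F68426)
theorem F70541 : act 3 n17942 = n17420 := d21_1 D17942 (iv D17420) F66539 (iv F66369) (iv F68427)
theorem F70542 : act 8 n17942 = n17461 := d29_2 (iv F68428) D17942 F68861
def n17943 : Q := act 5 n17341
theorem D17943 : act 5 n17341 = n17943 := rfl
theorem F70543 : act 2 n17943 = n17342 := d17_1 D17943 (iv D17342) (iv F68429)
def n17944 : Q := act 6 n17342
theorem D17944 : act 6 n17342 = n17944 := rfl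
theorem F70544 : act 1 n17944 = n17361 := d12_1 D17944 (iv D17361) (iv F68430)
theorem F70545 : act 3 n17944 = n17343 := d23_1 D17944 (iv D17343) (iv F68431)
def n17945 : Q := act 4 n17344
theorem D17945 : act 4 n17344 = n17945 := rfl
theorem F70546 : act 3 n17945 = n17348 := d21_1 D17945 (iv D17348) (iv D16744) (iv F66194) D17344
theorem F70547 : act 7 n17945 = n17603 := d28_2 (iv F68434) D17945 (iv D17603)
def n17946 : Q := act 4 n17345
theorem D17946 : act 4 n17345 = n17946 := rfl
theorem F70548 : act 6 n17946 = n17348 := d27_2 (iv F68435) D17946 (iv D17348)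
theorem F70549 : act 7 n17946 = n17354 := d28_2 (iv F68436) D17946 (iv D17354)
def n17947 : Q := act 2 n17346
theorem D17947 : act 2 n17346 = n17947 := rfl
theorem F70550 : act 3 n17947 = n17368 := d15_2 D17346 D17947 (iv D17368) (iv D16766) (iv F66197)
theorem F70551 : act 5 n17947 = n17349 := d17_2 (iv F68437) D17947 (iv D17349)
theorem F70552 : act 8 n17947 = n17347 := d20_2 (iv F68438) D17947 (iv D17347)
def n17948 : Q := act 4 n17346
theorem D17948 : act 4 n17346 = n17948 := rfl
theorem F70553 : act 8 n17948 = n17348 := d29_2 (iv F68438) D17948 (iv D17348)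
def n17949 : Q := act 1 n17347
theorem D17949 : act 1 n17347 = n17949 := rfl
theorem F70554 : act 0 n17949 = n17482 := d0_1 D17949 F70269 F70265 (iv F69764) F69763
theorem F70555 : act 3 n17949 = n17369 := d9_2 (iv F68439) D17949 (iv D17369)
theorem F70556 : act 5 n17949 = n17351 := d11_2 (iv F68440) D17949 (iv D17351)
theorem F70557 : act 6 n17949 = n17699 := d12_2 F70134 D17949 (iv F70130)
theorem F70558 : act 7 n17949 = n17355 := d13_2 (iv F68441) D17949 (iv D17355)
def n17950 : Q := act 4 n17347
theorem D17950 : act 4 n17347 = n17950 := rfl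
theorem F70559 : act 2 n17950 = n17348 := d16_1 D17950 (iv D17348) D17347
theorem F70560 : act 7 n17950 = n17356 := d28_2 (iv F68441) D17950 (iv D17356)
def n17951 : Q := act 5 n17348
theorem D17951 : act 5 n17348 = n17951 := rfl
theorem F70561 : act 4 n17951 = n17353 := d26_1 D17951 (iv D17353) (iv D16747) (iv F66200) D17348
theorem F70562 : act 7 n17951 = n17357 := d31_2 (iv F68442) D17951 (iv D17357)
def n17952 : Q := act 1 n17349
theorem D17952 : act 1 n17349 = n17952 := rfl
theorem F70563 : act 3 n17952 = n17370 := d9_2 (iv F68443) D17952 (iv D17370)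
theorem F70564 : act 8 n17952 = n17351 := d14_2 (iv F68444) D17952 (iv D17351)
def n17953 : Q := act 4 n17349
theorem D17953 : act 4 n17349 = n17953 := rfl
theorem F70565 : act 2 n17953 = n17350 := d16_1 D17953 (iv D17350) D17349
theorem F70566 : act 8 n17953 = n17352 := d29_2 (iv F68444) D17953 (iv D17352)
def n17954 : Q := act 5 n17350
theorem D17954 : act 5 n17350 = n17954 := rfl
theorem F70567 : act 8 n17954 = n17353 := d32_2 (iv F68445) D17954 (iv D17353)
def n17955 : Q := act 0 n17351
theorem D17955 : act 0 n17351 = n17955 := rfl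
theorem F70568 : act 3 n17955 = n17372 := d2_2 (iv F68446) D17955 (iv D17372)
theorem F70569 : act 5 n17955 = n17482 := d4_2 F70556 D17955 (iv F70554)
theorem F70570 : act 7 n17955 = n17358 := d6_2 (iv F68447) D17955 (iv D17358)
def n17956 : Q := act 4 n17351
theorem D17956 : act 4 n17351 = n17956 := rfl
theorem F70571 : act 1 n17956 = n17352 := d10_1 D17956 (iv D17352) D17351
theorem F70572 : act 7 n17956 = n17359 := d28_2 (iv F68447) D17956 (iv D17359)
def n17957 : Q := act 3 n17352
theorem D17957 : act 3 n17352 = n17957 := rfl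
theorem F70573 : act 4 n17957 = n17374 := d21_2 D17352 D17957 (iv D17374) (iv D16771) (iv F66203)
theorem F70574 : act 7 n17957 = n17742 := d24_2 (iv F68449) D17957 (iv D17742) F67645 (iv F66212)
def n17958 : Q := act 5 n17352
theorem D17958 : act 5 n17352 = n17958 := rfl
theorem F70575 : act 2 n17958 = n17353 := d17_1 D17958 (iv D17353) (iv F68448)
theorem F70576 : act 7 n17958 = n17360 := d31_2 (iv F68449) D17958 (iv D17360)
def n17959 : Q := act 6 n17353
theorem D17959 : act 6 n17353 = n17959 := rfl
theorem F70577 : act 7 n17959 = n17361 := d33_2 (iv F68450) D17959 (iv D17361)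
def n17960 : Q := act 5 n17354
theorem D17960 : act 5 n17354 = n17960 := rfl
theorem F70578 : act 3 n17960 = n17614 := d22_1 D17960 (iv D17614) (iv F68451)
def n17961 : Q := act 4 n17355
theorem D17961 : act 4 n17355 = n17961 := rfl
theorem F70579 : act 0 n17961 = n17461 := d3_1 D17961 F68861 (iv F68453)
theorem F70580 : act 1 n17961 = n17356 := d10_1 D17961 (iv D17356) D17355
theorem F70581 : act 3 n17961 = n17449 := d21_1 D17961 (iv D17449) F66637 (iv F66217) (iv F68454)
theorem F70582 : act 6 n17961 = n17672 := d27_2 (iv F68456) D17961 F69536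
def n17962 : Q := act 5 n17356
theorem D17962 : act 5 n17356 = n17962 := rfl
theorem F70583 : act 2 n17962 = n17357 := d17_1 D17962 (iv D17357) (iv F68457)
theorem F70584 : act 4 n17962 = n17360 := d26_1 D17962 (iv D17360) (iv D16752) (iv F66208) D17356
def n17963 : Q := act 6 n17357
theorem D17963 : act 6 n17357 = n17963 := rfl
theorem F70585 : act 3 n17963 = n17616 := d23_1 D17963 (iv D17616) (iv F68458)
theorem F70586 : act 4 n17963 = n17361 := d27_1 D17963 (iv D17361) (iv F68459)
def n17964 : Q := act 4 n17358
theorem D17964 : act 4 n17358 = n17964 := rfl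
theorem F70587 : act 0 n17964 = n17359 := d3_1 D17964 (iv D17359) D17358
theorem F70588 : act 3 n17964 = n17751 := d21_1 D17964 (iv D17751) F67655 (iv F66223) (iv F68460)
def n17965 : Q := act 5 n17359
theorem D17965 : act 5 n17359 = n17965 := rfl
theorem F70589 : act 1 n17965 = n17360 := d11_1 D17965 (iv D17360) (iv F68462)
theorem F70590 : act 3 n17965 = n17752 := d22_1 D17965 (iv D17752) (iv F68463)
def n17966 : Q := act 6 n17360
theorem D17966 : act 6 n17360 = n17966 := rfl
theorem F70591 : act 2 n17966 = n17361 := d18_1 D17966 (iv D17361) (iv F68464)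
theorem F70592 : act 3 n17966 = n17753 := d23_1 D17966 (iv D17753) (iv F68465)
def n17967 : Q := act 1 n17362
theorem D17967 : act 1 n17362 = n17967 := rfl
theorem F70593 : act 0 n17967 = n17629 := d0_1 D17967 (iv D17629) F67278 D17048 (iv F68467)
theorem F70594 : act 2 n17967 = n17967 := d8_2 D17362 D17967 (iv D17967) (iv D17362) F66232
theorem F70595 : act 5 n17967 = n17364 := d11_2 (iv F68468) D17967 (iv D17364)
theorem F70596 : act 6 n17967 = n17693 := d12_2 (iv F68469) D17967 F69594
theorem F70597 : act 7 n17967 = n17365 := d13_2 (iv F68470) D17967 (iv D17365)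
def n17968 : Q := act 4 n17362
theorem D17968 : act 4 n17362 = n17968 := rfl
theorem F70598 : act 0 n17968 = n17632 := d3_1 D17968 (iv D17632) (iv F68467)
theorem F70599 : act 2 n17968 = n17363 := d16_1 D17968 (iv D17363) D17362
theorem F70600 : act 6 n17968 = n17761 := d27_2 (iv F68469) D17968 (iv D17761)
theorem F70601 : act 7 n17968 = n17366 := d28_2 (iv F68470) D17968 (iv D17366)
def n17969 : Q := act 0 n17364
theorem D17969 : act 0 n17364 = n17969 := rfl
theorem F70602 : act 1 n17969 = n17627 := d0_2 D17364 D17969 F69380 F67305 F66811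
theorem F70603 : act 2 n17969 = n17969 := d1_2 F68475 D17969 (iv D17969)
theorem F70604 : act 5 n17969 = n17629 := d4_2 F70595 D17969 (iv F70593)
theorem F70605 : act 6 n17969 = n17372 := d5_2 (iv F68476) D17969 (iv D17372)
theorem F70606 : act 7 n17969 = n17367 := d6_2 (iv F68477) D17969 (iv D17367)
def n17970 : Q := act 1 n17368
theorem D17970 : act 1 n17368 = n17970 := rfl
theorem F70607 : act 2 n17970 = n17970 := d8_2 D17368 D17970 (iv D17970) (iv D17368) F66269
theorem F70608 : act 5 n17970 = n17370 := d11_2 (iv F68494) D17970 (iv D17370)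
theorem F70609 : act 6 n17970 = n17700 := d12_2 F69462 D17970 F69618
theorem F70610 : act 7 n17970 = n17970 := d13_2 F68495 D17970 (iv D17970)
theorem F70611 : act 8 n17970 = n17369 := d14_2 (iv F68496) D17970 (iv D17369)
theorem F70612 : act 0 n17484 = n17970 := d7_3 F70611 (iv F68501) D17484
def n17971 : Q := act 0 n17370
theorem D17971 : act 0 n17370 = n17971 := rfl
theorem F70613 : act 2 n17971 = n17971 := d1_2 F68502 D17971 (iv D17971)
theorem F70614 : act 5 n17971 = n17484 := d4_2 F70608 D17971 F70612
theorem F70615 : act 7 n17971 = n17971 := d6_2 F68503 D17971 (iv D17971)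
theorem F70616 : act 8 n17971 = n17372 := d7_2 (iv F68504) D17971 (iv D17372)
def n17972 : Q := act 4 n17370
theorem D17972 : act 4 n17370 = n17972 := rfl
theorem F70617 : act 1 n17972 = n17371 := d10_1 D17972 (iv D17371) D17370
theorem F70618 : act 2 n17972 = n17972 := d16_1 D17972 (iv D17972) F68502
theorem F70619 : act 6 n17972 = n17656 := d27_2 F69853 D17972 (iv F69852)
theorem F70620 : act 7 n17972 = n17972 := d28_2 F68503 D17972 (iv D17972)
theorem F70621 : act 8 n17972 = n17373 := d29_2 (iv F68504) D17972 (iv D17373)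
def n17973 : Q := act 3 n17371
theorem D17973 : act 3 n17371 = n17973 := rfl
theorem F70622 : act 0 n17973 = n17519 := d2_1 D17973 F69057 (iv F68505)
theorem F70623 : act 2 n17973 = n17513 := d15_1 D17973 (iv D17513) F66890 (iv F66279) (iv F68506)
theorem F70624 : act 6 n17973 = n17651 := d23_2 (iv F68507) D17973 F69482
theorem F70625 : act 8 n17973 = n17374 := d25_2 (iv F68509) D17973 (iv D17374)
def n17974 : Q := act 4 n17372
theorem D17974 : act 4 n17372 = n17974 := rfl
theorem F70626 : act 0 n17974 = n17373 := d3_1 D17974 (iv D17373) D17372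
theorem F70627 : act 2 n17974 = n17974 := d16_1 D17974 (iv D17974) F68510
theorem F70628 : act 7 n17974 = n17375 := d28_2 (iv F68512) D17974 (iv D17375)
def n17975 : Q := act 3 n17373
theorem D17975 : act 3 n17373 = n17975 := rfl
theorem F70629 : act 1 n17975 = n17374 := d9_1 D17975 (iv D17374) (iv F68513)
theorem F70630 : act 7 n17975 = n17762 := d24_2 (iv F68515) D17975 (iv D17762) F67695 (iv F66299)
def n17976 : Q := act 3 n17378
theorem D17976 : act 3 n17378 = n17976 := rfl
theorem F70631 : act 0 n17976 = n17662 := d2_1 D17976 F69514 (iv F68535)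
theorem F70632 : act 1 n17976 = n17447 := d9_1 D17976 F68814 (iv F68536)
theorem F70633 : act 2 n17976 = n17582 := d15_1 D17976 F69249 F67232 (iv F66363) (iv F68537)
theorem F70634 : act 5 n17976 = n17697 := d22_2 (iv F68538) D17976 (iv D17697)
theorem F70635 : act 6 n17976 = n17669 := d23_2 (iv F68539) D17976 F69532
theorem F70636 : act 8 n17976 = n17686 := d25_2 (iv F68541) D17976 F69573
def n17977 : Q := act 5 n17380
theorem D17977 : act 5 n17380 = n17977 := rfl
theorem F70637 : act 0 n17977 = n17488 := d4_1 D17977 (iv D17488) (iv F68548)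
theorem F70638 : act 2 n17977 = n17408 := d17_1 D17977 (iv D17408) (iv F68549)
theorem F70639 : act 3 n17977 = n17911 := d22_1 D17977 (iv D17911) (iv F68550)
theorem F70640 : act 4 n17977 = n17653 := d26_1 D17977 (iv D17653) (iv D17075) (iv F66393) D17380
theorem F70641 : act 7 n17977 = n17381 := d31_2 (iv F68552) D17977 (iv D17381)
theorem F70642 : act 8 n17977 = n17773 := d32_2 (iv F68553) D17977 (iv D17773)
def n17978 : Q := act 6 n17381
theorem D17978 : act 6 n17381 = n17978 := rfl
theorem F70643 : act 0 n17978 = n17490 := d5_1 D17978 (iv D17490) (iv F68554)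
theorem F70644 : act 2 n17978 = n17429 := d18_1 D17978 (iv D17429) (iv F68555)
theorem F70645 : act 3 n17978 = n17491 := d23_1 D17978 (iv D17491) (iv F68556)
theorem F70646 : act 4 n17978 = n17665 := d27_1 D17978 (iv D17665) (iv F68557)
theorem F70647 : act 5 n17978 = n17507 := d30_1 D17978 (iv D17507) (iv D16914) (iv F66400) D17381
theorem F70648 : act 8 n17978 = n17391 := d34_2 (iv F68558) D17978 (iv D17391)
def n17979 : Q := act 4 n17382
theorem D17979 : act 4 n17382 = n17979 := rfl
theorem F70649 : act 0 n17979 = n17748 := d3_1 D17979 F69736 (iv F68559)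
theorem F70650 : act 1 n17979 = n17437 := d10_1 D17979 (iv D17437) (iv F68560)
theorem F70651 : act 2 n17979 = n17383 := d16_1 D17979 (iv D17383) D17382
theorem F70652 : act 3 n17979 = n17684 := d21_1 D17979 (iv D17684) F67499 (iv F66438) (iv F68561)
theorem F70653 : act 6 n17979 = n17387 := d27_2 (iv F68562) D17979 (iv D17387)
theorem F70654 : act 7 n17979 = n17805 := d28_2 (iv F68563) D17979 (iv D17805)
theorem F70655 : act 8 n17979 = n17498 := d29_2 (iv F68564) D17979 (iv D17498)
def n17980 : Q := act 5 n17383
theorem D17980 : act 5 n17383 = n17980 := rfl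
theorem F70656 : act 1 n17980 = n17384 := d11_1 D17980 (iv D17384) (iv F68565)
theorem F70657 : act 3 n17980 = n17489 := d22_1 D17980 (iv D17489) (iv F68566)
theorem F70658 : act 7 n17980 = n17806 := d31_2 (iv F68568) D17980 (iv D17806)
theorem F70659 : act 8 n17980 = n17499 := d32_2 (iv F68569) D17980 (iv D17499)
def n17981 : Q := act 6 n17384
theorem D17981 : act 6 n17384 = n17981 := rfl
theorem F70660 : act 0 n17981 = n17491 := d5_1 D17981 (iv D17491) (iv F68570)
theorem F70661 : act 2 n17981 = n17444 := d18_1 D17981 (iv D17444) (iv F68571)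
theorem F70662 : act 3 n17981 = n17490 := d23_1 D17981 (iv D17490) (iv F68572)
theorem F70663 : act 5 n17981 = n17391 := d30_1 D17981 (iv D17391) (iv D16799) (iv F66409) D17384
theorem F70664 : act 7 n17981 = n17809 := d33_2 (iv F68573) D17981 (iv D17809)
theorem F70665 : act 8 n17981 = n17507 := d34_2 (iv F68574) D17981 (iv D17507)
def n17982 : Q := act 4 n17385
theorem D17982 : act 4 n17385 = n17982 := rfl
theorem F70666 : act 0 n17982 = n17387 := d3_1 D17982 (iv D17387) (iv F68575)
theorem F70667 : act 2 n17982 = n17386 := d16_1 D17982 (iv D17386) D17385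
theorem F70668 : act 3 n17982 = n17745 := d21_1 D17982 (iv D17745) F67648 (iv F66443) (iv F68576)
theorem F70669 : act 6 n17982 = n17748 := d27_2 (iv F68578) D17982 F69736
theorem F70670 : act 7 n17982 = n17812 := d28_2 (iv F68579) D17982 (iv D17812)
def n17983 : Q := act 5 n17386
theorem D17983 : act 5 n17386 = n17983 := rfl
theorem F70671 : act 0 n17983 = n17388 := d4_1 D17983 (iv D17388) (iv F68580)
theorem F70672 : act 1 n17983 = n17433 := d11_1 D17983 (iv D17433) (iv F68581)
theorem F70673 : act 4 n17983 = n17438 := d26_1 D17983 (iv D17438) (iv D16842) (iv F66414) D17386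
theorem F70674 : act 7 n17983 = n17813 := d31_2 (iv F68582) D17983 (iv D17813)
def n17984 : Q := act 5 n17387
theorem D17984 : act 5 n17387 = n17984 := rfl
theorem F70675 : act 1 n17984 = n17462 := d11_1 D17984 (iv D17462) (iv F68583)
theorem F70676 : act 2 n17984 = n17388 := d17_1 D17984 (iv D17388) (iv F68584)
theorem F70677 : act 4 n17984 = n17673 := d26_1 D17984 (iv D17673) (iv D17090) (iv F66418) D17387
theorem F70678 : act 7 n17984 = n17819 := d31_2 (iv F68585) D17984 (iv D17819)
def n17985 : Q := act 6 n17388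
theorem D17985 : act 6 n17388 = n17985 := rfl
theorem F70679 : act 1 n17985 = n17391 := d12_1 D17985 (iv D17391) (iv F68586)
theorem F70680 : act 4 n17985 = n17674 := d27_1 D17985 (iv D17674) (iv F68587)
theorem F70681 : act 7 n17985 = n17820 := d33_2 (iv F68588) D17985 (iv D17820)
def n17986 : Q := act 5 n17389
theorem D17986 : act 5 n17389 = n17986 := rfl
theorem F70682 : act 0 n17986 = n17505 := d4_1 D17986 (iv D17505) (iv F68589)
theorem F70683 : act 2 n17986 = n17510 := d17_1 D17986 (iv D17510) (iv F68590)
theorem F70684 : act 3 n17986 = n17828 := d22_1 D17986 (iv D17828) (iv F68591)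
theorem F70685 : act 7 n17986 = n17390 := d31_2 (iv F68593) D17986 (iv D17390)
theorem F70686 : act 8 n17986 = n17841 := d32_2 (iv F68594) D17986 (iv D17841)
def n17987 : Q := act 6 n17390
theorem D17987 : act 6 n17390 = n17987 := rfl
theorem F70687 : act 0 n17987 = n17507 := d5_1 D17987 (iv D17507) (iv F68595)
theorem F70688 : act 2 n17987 = n17539 := d18_1 D17987 (iv D17539) (iv F68596)
theorem F70689 : act 3 n17987 = n17391 := d23_1 D17987 (iv D17391) (iv F68597)
theorem F70690 : act 5 n17987 = n17490 := d30_1 D17987 (iv D17490) (iv D16899) (iv F66430) D17390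
theorem F70691 : act 8 n17987 = n17491 := d34_2 (iv F68598) D17987 (iv D17491)
def n17988 : Q := act 8 n17392
theorem D17988 : act 8 n17392 = n17988 := rfl
theorem F70692 : act 0 n17988 = n17619 := d7_1 D17988 F69340 (iv F68603)
theorem F70693 : act 1 n17988 = n17484 := d14_1 D17988 (iv D17484) (iv F68604)
theorem F70694 : act 2 n17988 = n17478 := d20_1 D17988 F68915 (iv F68605)
theorem F70695 : act 4 n17988 = n17645 := d29_1 D17988 F69464 (iv F68606)
theorem F70696 : act 6 n17988 = n17690 := d34_1 D17988 F69584 (iv F68607)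
theorem F70697 : act 7 n17988 = n17988 := d35_1 D17988 (iv D17988) (iv D17392) F66452 D17392
def n17989 : Q := act 4 n17393
theorem D17989 : act 4 n17393 = n17989 := rfl
theorem F70698 : act 0 n17989 = n17485 := d3_1 D17989 (iv D17485) (iv F68608)
theorem F70699 : act 2 n17989 = n17503 := d16_1 D17989 (iv D17503) (iv F68609)
theorem F70700 : act 7 n17989 = n17412 := d28_2 (iv F68611) D17989 (iv D17412)
theorem F70701 : act 8 n17989 = n17843 := d29_2 (iv F68612) D17989 (iv D17843)
def n17990 : Q := act 2 n17394
theorem D17990 : act 2 n17394 = n17990 := rfl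
theorem F70702 : act 0 n17990 = n17647 := d1_1 D17990 (iv D17647) (iv F68613)
theorem F70703 : act 1 n17990 = n17494 := d8_1 D17990 (iv D17494) F66834 (iv F66466) (iv F68614)
theorem F70704 : act 3 n17990 = n17990 := d15_2 D17394 D17990 (iv D17990) (iv D17394) F66459
theorem F70705 : act 6 n17990 = n17401 := d18_2 (iv F68615) D17990 (iv D17401)
theorem F70706 : act 7 n17990 = n17413 := d19_2 (iv F68616) D17990 (iv D17413)
def n17991 : Q := act 4 n17394
theorem D17991 : act 4 n17394 = n17991 := rfl
theorem F70707 : act 0 n17991 = n17648 := d3_1 D17991 (iv D17648) (iv F68613)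
theorem F70708 : act 1 n17991 = n17396 := d10_1 D17991 (iv D17396) (iv F68614)
theorem F70709 : act 6 n17991 = n17402 := d27_2 (iv F68615) D17991 (iv D17402)
theorem F70710 : act 7 n17991 = n17414 := d28_2 (iv F68616) D17991 (iv D17414)
def n17992 : Q := act 4 n17395
theorem D17992 : act 4 n17395 = n17992 := rfl
theorem F70711 : act 0 n17992 = n17509 := d3_1 D17992 (iv D17509) (iv F68617)
theorem F70712 : act 2 n17992 = n17957 := d16_1 D17992 F70573 (iv F68618)
theorem F70713 : act 3 n17992 = n17396 := d21_1 D17992 (iv D17396) (iv D16806) (iv F66463) D17395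
theorem F70714 : act 6 n17992 = n17407 := d27_2 (iv F68619) D17992 (iv D17407)
theorem F70715 : act 7 n17992 = n17611 := d28_2 (iv F68620) D17992 F69329
def n17993 : Q := act 5 n17396
theorem D17993 : act 5 n17396 = n17993 := rfl
theorem F70716 : act 0 n17993 = n17510 := d4_1 D17993 (iv D17510) (iv F68621)
theorem F70717 : act 2 n17993 = n17505 := d17_1 D17993 (iv D17505) (iv F68622)
theorem F70718 : act 7 n17993 = n17415 := d31_2 (iv F68624) D17993 (iv D17415)
def n17994 : Q := act 3 n17397
theorem D17994 : act 3 n17397 = n17994 := rfl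
theorem F70719 : act 0 n17994 = n17400 := d2_1 D17994 (iv D17400) (iv F68625)
theorem F70720 : act 1 n17994 = n17513 := d9_1 D17994 (iv D17513) (iv F68626)
theorem F70721 : act 5 n17994 = n17702 := d22_2 (iv F68629) D17994 (iv D17702)
theorem F70722 : act 6 n17994 = n17646 := d23_2 (iv F68630) D17994 (iv D17646)
theorem F70723 : act 8 n17994 = n17701 := d25_2 (iv F68631) D17994 (iv D17701)
def n17995 : Q := act 2 n17398
theorem D17995 : act 2 n17398 = n17995 := rfl
theorem F70724 : act 0 n17995 = n17401 := d1_1 D17995 (iv D17401) (iv F68632)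
theorem F70725 : act 3 n17995 = n17995 := d15_2 D17398 D17995 (iv D17995) (iv D17398) F66477
theorem F70726 : act 6 n17995 = n17647 := d18_2 (iv F68634) D17995 (iv D17647)
theorem F70727 : act 7 n17995 = n17416 := d19_2 (iv F68635) D17995 (iv D17416)
theorem F70728 : act 8 n17995 = n17990 := d20_2 (iv F68636) D17995 (iv D17990)
def n17996 : Q := act 4 n17398
theorem D17996 : act 4 n17398 = n17996 := rfl
theorem F70729 : act 0 n17996 = n17402 := d3_1 D17996 (iv D17402) (iv F68632)
theorem F70730 : act 1 n17996 = n17514 := d10_1 D17996 (iv D17514) (iv F68633)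
theorem F70731 : act 6 n17996 = n17648 := d27_2 (iv F68634) D17996 (iv D17648)
theorem F70732 : act 7 n17996 = n17417 := d28_2 (iv F68635) D17996 (iv D17417)
theorem F70733 : act 8 n17996 = n17991 := d29_2 (iv F68636) D17996 (iv D17991)
def n17997 : Q := act 3 n17399
theorem D17997 : act 3 n17399 = n17997 := rfl
theorem F70734 : act 0 n17997 = n17702 := d2_1 D17997 (iv D17702) (iv F68637)
theorem F70735 : act 1 n17997 = n17405 := d9_1 D17997 (iv D17405) (iv F68638)
theorem F70736 : act 5 n17997 = n17400 := d22_2 (iv F68641) D17997 (iv D17400)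
theorem F70737 : act 8 n17997 = n17649 := d25_2 (iv F68642) D17997 (iv D17649)
def n17998 : Q := act 2 n17400
theorem D17998 : act 2 n17400 = n17998 := rfl
theorem F70738 : act 3 n17998 = n17998 := d15_2 D17400 D17998 (iv D17998) (iv D17400) F66486
def n17999 : Q := act 4 n17400
theorem D17999 : act 4 n17400 = n17999 := rfl
theorem F70739 : act 1 n17999 = n17407 := d10_1 D17999 (iv D17407) (iv F68643)
theorem F70740 : act 3 n17999 = n17402 := d21_1 D17999 (iv D17402) (iv D16811) (iv F66487) D17400
def n18000 : Q := act 4 n17401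
theorem D18000 : act 4 n17401 = n18000 := rfl
theorem F70741 : act 2 n18000 = n17402 := d16_1 D18000 (iv D17402) D17401
theorem F70742 : act 7 n18000 = n17420 := d28_2 (iv F68645) D18000 (iv D17420)
def n18001 : Q := act 5 n17402
theorem D18001 : act 5 n17402 = n18001 := rfl
theorem F70743 : act 1 n18001 = n17408 := d11_1 D18001 (iv D17408) (iv F68646)
theorem F70744 : act 7 n18001 = n17421 := d31_2 (iv F68647) D18001 (iv D17421)
def n18002 : Q := act 3 n17403
theorem D18002 : act 3 n17403 = n18002 := rfl
theorem F70745 : act 0 n18002 = n17525 := d2_1 D18002 (iv D17525) (iv F68648)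
theorem F70746 : act 1 n18002 = n17528 := d9_1 D18002 (iv D17528) (iv F68649)
theorem F70747 : act 5 n18002 = n17705 := d22_2 (iv F68652) D18002 (iv D17705)
theorem F70748 : act 6 n18002 = n17518 := d23_2 (iv F68653) D18002 (iv D17518)
theorem F70749 : act 7 n18002 = n17997 := d24_2 D17403 D18002 (iv D17997) (iv D17399) (iv F66493)
theorem F70750 : act 8 n18002 = n17404 := d25_2 (iv F68654) D18002 (iv D17404)
def n18003 : Q := act 4 n17404
theorem D18003 : act 4 n17404 = n18003 := rfl
theorem F70751 : act 0 n18003 = n17527 := d3_1 D18003 (iv D17527) (iv F68655)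
theorem F70752 : act 3 n18003 = n17426 := d21_1 D18003 (iv D17426) (iv D16831) (iv F66499) D17404
theorem F70753 : act 6 n18003 = n17611 := d27_2 (iv F68656) D18003 F69329
theorem F70754 : act 7 n18003 = n17407 := d28_2 (iv F68657) D18003 (iv D17407)
def n18004 : Q := act 2 n17405
theorem D18004 : act 2 n17405 = n18004 := rfl
theorem F70755 : act 0 n18004 = n17529 := d1_1 D18004 (iv D17529) (iv F68658)
theorem F70756 : act 3 n18004 = n17409 := d15_2 D17405 D18004 (iv D17409) (iv D16817) (iv F66502)
theorem F70757 : act 5 n18004 = n17406 := d17_2 (iv F68659) D18004 (iv D17406)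
def n18005 : Q := act 4 n17405
theorem D18005 : act 4 n17405 = n18005 := rfl
theorem F70758 : act 0 n18005 = n17530 := d3_1 D18005 (iv D17530) (iv F68658)
def n18006 : Q := act 1 n17406
theorem D18006 : act 1 n17406 = n18006 := rfl
theorem F70759 : act 3 n18006 = n17411 := d9_2 (iv F68661) D18006 (iv D17411)
theorem F70760 : act 6 n18006 = n17975 := d12_2 (iv F68662) D18006 F70629
def n18007 : Q := act 4 n17406
theorem D18007 : act 4 n17406 = n18007 := rfl
theorem F70761 : act 0 n18007 = n17532 := d3_1 D18007 (iv D17532) (iv F68660)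
theorem F70762 : act 2 n18007 = n17407 := d16_1 D18007 (iv D17407) D17406
theorem F70763 : act 3 n18007 = n17910 := d21_1 D18007 (iv D17910) F68321 (iv F66512) (iv F68661)
theorem F70764 : act 6 n18007 = n17957 := d27_2 (iv F68662) D18007 F70573
def n18008 : Q := act 5 n17407
theorem D18008 : act 5 n17407 = n18008 := rfl
theorem F70765 : act 0 n18008 = n17533 := d4_1 D18008 (iv D17533) (iv F68663)
theorem F70766 : act 3 n18008 = n17408 := d22_1 D18008 (iv D17408) (iv F68664)
def n18009 : Q := act 6 n17408
theorem D18009 : act 6 n17408 = n18009 := rfl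
theorem F70767 : act 0 n18009 = n17534 := d5_1 D18009 (iv D17534) (iv F68665)
theorem F70768 : act 7 n18009 = n17429 := d33_2 (iv F68666) D18009 (iv D17429)
def n18010 : Q := act 1 n17409
theorem D18010 : act 1 n17409 = n18010 := rfl
theorem F70769 : act 2 n18010 = n18010 := d8_2 D17409 D18010 (iv D18010) (iv D17409) F66508
theorem F70770 : act 5 n18010 = n17411 := d11_2 (iv F68668) D18010 (iv D17411)
theorem F70771 : act 7 n18010 = n17634 := d13_2 (iv F68669) D18010 (iv D17634)
def n18011 : Q := act 4 n17409
theorem D18011 : act 4 n17409 = n18011 := rfl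
theorem F70772 : act 0 n18011 = n17537 := d3_1 D18011 (iv D17537) (iv F68667)
theorem F70773 : act 2 n18011 = n17410 := d16_1 D18011 (iv D17410) D17409
theorem F70774 : act 5 n18011 = n17968 := d26_2 (iv F68668) D18011 (iv D17968) F68468 (iv F66512)
theorem F70775 : act 7 n18011 = n17635 := d28_2 (iv F68669) D18011 (iv D17635)
def n18012 : Q := act 0 n17411
theorem D18012 : act 0 n17411 = n18012 := rfl
theorem F70776 : act 1 n18012 = n17538 := d0_2 D17411 D18012 (iv D17538) (iv D16943) (iv F66511)
theorem F70777 : act 2 n18012 = n18012 := d1_2 F68674 D18012 (iv D18012)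
theorem F70778 : act 4 n18012 = n17969 := d3_2 (iv F68675) D18012 (iv D17969)
theorem F70779 : act 6 n18012 = n17974 := d5_2 (iv F68676) D18012 F70626
theorem F70780 : act 7 n18012 = n17636 := d6_2 (iv F68677) D18012 (iv D17636)
def n18013 : Q := act 5 n17412
theorem D18013 : act 5 n17412 = n18013 := rfl
theorem F70781 : act 0 n18013 = n17489 := d4_1 D18013 (iv D17489) (iv F68678)
theorem F70782 : act 2 n18013 = n17506 := d17_1 D18013 (iv D17506) (iv F68679)
theorem F70783 : act 4 n18013 = n17415 := d26_1 D18013 (iv D17415) (iv D16821) (iv F66517) D17412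
theorem F70784 : act 8 n18013 = n17433 := d32_2 (iv F68680) D18013 (iv D17433)
def n18014 : Q := act 4 n17413
theorem D18014 : act 4 n17413 = n18014 := rfl
theorem F70785 : act 0 n18014 = n17657 := d3_1 D18014 (iv D17657) (iv F68681)
theorem F70786 : act 1 n18014 = n17498 := d10_1 D18014 (iv D17498) (iv F68682)
theorem F70787 : act 2 n18014 = n17414 := d16_1 D18014 (iv D17414) D17413
theorem F70788 : act 6 n18014 = n17420 := d27_2 (iv F68684) D18014 (iv D17420)
theorem F70789 : act 8 n18014 = n17437 := d29_2 (iv F68685) D18014 (iv D17437)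
def n18015 : Q := act 5 n17414
theorem D18015 : act 5 n17414 = n18015 := rfl
theorem F70790 : act 0 n18015 = n17658 := d4_1 D18015 (iv D17658) (iv F68686)
theorem F70791 : act 1 n18015 = n17415 := d11_1 D18015 (iv D17415) (iv F68687)
theorem F70792 : act 3 n18015 = n17617 := d22_1 D18015 (iv D17617) (iv F68688)
theorem F70793 : act 8 n18015 = n17438 := d32_2 (iv F68690) D18015 (iv D17438)
def n18016 : Q := act 6 n17415
theorem D18016 : act 6 n17415 = n18016 := rfl
theorem F70794 : act 0 n18016 = n17539 := d5_1 D18016 (iv D17539) (iv F68691)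
theorem F70795 : act 2 n18016 = n17507 := d18_1 D18016 (iv D17507) (iv F68692)
theorem F70796 : act 3 n18016 = n17618 := d23_1 D18016 (iv D17618) (iv F68693)
theorem F70797 : act 5 n18016 = n17429 := d30_1 D18016 (iv D17429) (iv D16834) (iv F66526) D17415
theorem F70798 : act 8 n18016 = n17444 := d34_2 (iv F68694) D18016 (iv D17444)
def n18017 : Q := act 4 n17416
theorem D18017 : act 4 n17416 = n18017 := rfl
theorem F70799 : act 0 n18017 = n17420 := d3_1 D18017 (iv D17420) (iv F68695)
theorem F70800 : act 2 n18017 = n17417 := d16_1 D18017 (iv D17417) D17416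
theorem F70801 : act 6 n18017 = n17657 := d27_2 (iv F68697) D18017 (iv D17657)
theorem F70802 : act 8 n18017 = n17449 := d29_2 (iv F68698) D18017 (iv D17449)
def n18018 : Q := act 5 n17417
theorem D18018 : act 5 n17417 = n18018 := rfl
theorem F70803 : act 0 n18018 = n17421 := d4_1 D18018 (iv D17421) (iv F68699)
theorem F70804 : act 1 n18018 = n17544 := d11_1 D18018 (iv D17544) (iv F68700)
theorem F70805 : act 8 n18018 = n17450 := d32_2 (iv F68702) D18018 (iv D17450)
def n18019 : Q := act 4 n17418
theorem D18019 : act 4 n17418 = n18019 := rfl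
theorem F70806 : act 1 n18019 = n17426 := d10_1 D18019 (iv D17426) (iv F68703)
theorem F70807 : act 2 n18019 = n17741 := d16_1 D18019 (iv D17741) (iv F68704)
theorem F70808 : act 6 n18019 = n17610 := d27_2 (iv F68705) D18019 (iv D17610)
theorem F70809 : act 7 n18019 = n17419 := d28_2 (iv F68706) D18019 (iv D17419)
def n18020 : Q := act 5 n17419
theorem D18020 : act 5 n17419 = n18020 := rfl
theorem F70810 : act 1 n18020 = n17428 := d11_1 D18020 (iv D17428) (iv F68707)
theorem F70811 : act 2 n18020 = n17752 := d17_1 D18020 (iv D17752) (iv F68708)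
theorem F70812 : act 3 n18020 = n17421 := d22_1 D18020 (iv D17421) (iv F68709)
theorem F70813 : act 8 n18020 = n17460 := d32_2 (iv F68711) D18020 (iv D17460)
def n18021 : Q := act 5 n17420
theorem D18021 : act 5 n17420 = n18021 := rfl
theorem F70814 : act 2 n18021 = n17421 := d17_1 D18021 (iv D17421) (iv F68712)
theorem F70815 : act 8 n18021 = n17462 := d32_2 (iv F68713) D18021 (iv D17462)
def n18022 : Q := act 6 n17421
theorem D18022 : act 6 n17421 = n18022 := rfl
theorem F70816 : act 1 n18022 = n17429 := d12_1 D18022 (iv D17429) (iv F68714)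
theorem F70817 : act 8 n18022 = n17463 := d34_2 (iv F68715) D18022 (iv D17463)
def n18023 : Q := act 3 n17422
theorem D18023 : act 3 n17422 = n18023 := rfl
theorem F70818 : act 0 n18023 = n17556 := d2_1 D18023 (iv D17556) (iv F68716)
theorem F70819 : act 5 n18023 = n17850 := d22_2 (iv F68719) D18023 (iv D17850)
theorem F70820 : act 6 n18023 = n17822 := d23_2 (iv F68720) D18023 (iv D17822)
theorem F70821 : act 8 n18023 = n17821 := d25_2 (iv F68721) D18023 (iv D17821)
def n18024 : Q := act 3 n17423
theorem D18024 : act 3 n17423 = n18024 := rfl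
theorem F70822 : act 0 n18024 = n17558 := d2_1 D18024 (iv D17558) (iv F68722)
theorem F70823 : act 1 n18024 = n18023 := d9_1 D18024 (iv D18023) (iv F68723)
theorem F70824 : act 2 n18024 = n17567 := d15_1 D18024 (iv D17567) F67052 D17019 (iv F68724)
theorem F70825 : act 5 n18024 = n17425 := d22_2 (iv F68726) D18024 (iv D17425)
theorem F70826 : act 6 n18024 = n17728 := d23_2 (iv F68727) D18024 F69697
theorem F70827 : act 7 n18024 = n17466 := d24_2 D17423 D18024 (iv D17466) (iv D16866) (iv F66551)
theorem F70828 : act 8 n18024 = n17424 := d25_2 (iv F68728) D18024 (iv D17424)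
def n18025 : Q := act 4 n17424
theorem D18025 : act 4 n17424 = n18025 := rfl
theorem F70829 : act 0 n18025 = n17559 := d3_1 D18025 (iv D17559) (iv F68729)
theorem F70830 : act 2 n18025 = n17568 := d16_1 D18025 (iv D17568) (iv F68730)
theorem F70831 : act 7 n18025 = n17427 := d28_2 (iv F68732) D18025 (iv D17427)
def n18026 : Q := act 4 n17425
theorem D18026 : act 4 n17425 = n18026 := rfl
theorem F70832 : act 0 n18026 = n17560 := d3_1 D18026 (iv D17560) (iv F68733)
theorem F70833 : act 2 n18026 = n17569 := d16_1 D18026 (iv D17569) (iv F68734)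
theorem F70834 : act 6 n18026 = n17608 := d27_2 (iv F68735) D18026 (iv D17608)
theorem F70835 : act 7 n18026 = n17470 := d28_2 (iv F68736) D18026 (iv D17470)
theorem F70836 : act 8 n18026 = n17426 := d29_2 (iv F68737) D18026 (iv D17426)
def n18027 : Q := act 5 n17426
theorem D18027 : act 5 n17426 = n18027 := rfl
theorem F70837 : act 0 n18027 = n17561 := d4_1 D18027 (iv D17561) (iv F68738)
theorem F70838 : act 2 n18027 = n17570 := d17_1 D18027 (iv D17570) (iv F68739)
theorem F70839 : act 7 n18027 = n17428 := d31_2 (iv F68741) D18027 (iv D17428)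
def n18028 : Q := act 5 n17427
theorem D18028 : act 5 n17427 = n18028 := rfl
theorem F70840 : act 0 n18028 = n17563 := d4_1 D18028 (iv D17563) (iv F68742)
theorem F70841 : act 2 n18028 = n17572 := d17_1 D18028 (iv D17572) (iv F68743)
theorem F70842 : act 4 n18028 = n17428 := d26_1 D18028 (iv D17428) (iv D16833) (iv F66568) D17427
theorem F70843 : act 8 n18028 = n17475 := d32_2 (iv F68744) D18028 (iv D17475)
def n18029 : Q := act 6 n17428
theorem D18029 : act 6 n17428 = n18029 := rfl
theorem F70844 : act 0 n18029 = n17564 := d5_1 D18029 (iv D17564) (iv F68745)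
theorem F70845 : act 2 n18029 = n17573 := d18_1 D18029 (iv D17573) (iv F68746)
theorem F70846 : act 3 n18029 = n17429 := d23_1 D18029 (iv D17429) (iv F68747)
theorem F70847 : act 5 n18029 = n17618 := d30_1 D18029 (iv D17618) (iv D17015) (iv F66573) D17428
theorem F70848 : act 8 n18029 = n17477 := d34_2 (iv F68748) D18029 (iv D17477)
def n18030 : Q := act 2 n17430
theorem D18030 : act 2 n17430 = n18030 := rfl
theorem F70849 : act 0 n18030 = n17494 := d1_1 D18030 (iv D17494) (iv F68751)
theorem F70850 : act 3 n18030 = n18030 := d15_2 D17430 D18030 (iv D18030) (iv D17430) F66578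
theorem F70851 : act 7 n18030 = n17431 := d19_2 (iv F68752) D18030 (iv D17431)
def n18031 : Q := act 4 n17430
theorem D18031 : act 4 n17430 = n18031 := rfl
theorem F70852 : act 0 n18031 = n17495 := d3_1 D18031 (iv D17495) (iv F68751)
theorem F70853 : act 3 n18031 = n17923 := d21_1 D18031 (iv D17923) (iv D17325) (iv F66579) D17430
theorem F70854 : act 7 n18031 = n17432 := d28_2 (iv F68752) D18031 (iv D17432)
def n18032 : Q := act 4 n17431
theorem D18032 : act 4 n17431 = n18032 := rfl
theorem F70855 : act 0 n18032 = n17498 := d3_1 D18032 (iv D17498) (iv F68753)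
theorem F70856 : act 2 n18032 = n17432 := d16_1 D18032 (iv D17432) D17431
theorem F70857 : act 3 n18032 = n17724 := d21_1 D18032 (iv D17724) F67620 (iv F66584) (iv F68754)
theorem F70858 : act 8 n18032 = n17748 := d29_2 (iv F68755) D18032 F69736
def n18033 : Q := act 5 n17432
theorem D18033 : act 5 n17432 = n18033 := rfl
theorem F70859 : act 0 n18033 = n17499 := d4_1 D18033 (iv D17499) (iv F68756)
theorem F70860 : act 3 n18033 = n17433 := d22_1 D18033 (iv D17433) (iv F68757)
def n18034 : Q := act 6 n17433
theorem D18034 : act 6 n17433 = n18034 := rfl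
theorem F70861 : act 0 n18034 = n17500 := d5_1 D18034 (iv D17500) (iv F68758)
theorem F70862 : act 4 n18034 = n17444 := d27_1 D18034 (iv D17444) (iv F68759)
theorem F70863 : act 7 n18034 = n17927 := d33_2 (iv F68760) D18034 (iv D17927)
def n18035 : Q := act 2 n17434
theorem D18035 : act 2 n17434 = n18035 := rfl
theorem F70864 : act 0 n18035 = n17667 := d1_1 D18035 (iv D17667) (iv F68761)
theorem F70865 : act 1 n18035 = n17549 := d8_1 D18035 (iv D17549) F67001 (iv F66609) (iv F68762)
theorem F70866 : act 3 n18035 = n18035 := d15_2 D17434 D18035 (iv D18035) (iv D17434) F66589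
theorem F70867 : act 6 n18035 = n17455 := d18_2 (iv F68763) D18035 (iv D17455)
theorem F70868 : act 7 n18035 = n17435 := d19_2 (iv F68764) D18035 (iv D17435)
def n18036 : Q := act 4 n17434
theorem D18036 : act 4 n17434 = n18036 := rfl
theorem F70869 : act 0 n18036 = n17668 := d3_1 D18036 (iv D17668) (iv F68761)
theorem F70870 : act 1 n18036 = n17441 := d10_1 D18036 (iv D17441) (iv F68762)
theorem F70871 : act 6 n18036 = n17456 := d27_2 (iv F68763) D18036 (iv D17456)
theorem F70872 : act 7 n18036 = n17436 := d28_2 (iv F68764) D18036 (iv D17436)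
def n18037 : Q := act 4 n17435
theorem D18037 : act 4 n17435 = n18037 := rfl
theorem F70873 : act 0 n18037 = n17670 := d3_1 D18037 (iv D17670) (iv F68765)
theorem F70874 : act 1 n18037 = n17553 := d10_1 D18037 (iv D17553) (iv F68766)
theorem F70875 : act 2 n18037 = n17436 := d16_1 D18037 (iv D17436) D17435
theorem F70876 : act 6 n18037 = n17459 := d27_2 (iv F68768) D18037 (iv D17459)
theorem F70877 : act 8 n18037 = n17599 := d29_2 (iv F68769) D18037 (iv D17599)
def n18038 : Q := act 5 n17436
theorem D18038 : act 5 n17436 = n18038 := rfl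
theorem F70878 : act 0 n18038 = n17671 := d4_1 D18038 (iv D17671) (iv F68770)
theorem F70879 : act 1 n18038 = n17443 := d11_1 D18038 (iv D17443) (iv F68771)
theorem F70880 : act 3 n18038 = n17438 := d22_1 D18038 (iv D17438) (iv F68772)
theorem F70881 : act 8 n18038 = n17617 := d32_2 (iv F68774) D18038 (iv D17617)
def n18039 : Q := act 3 n17437
theorem D18039 : act 3 n17437 = n18039 := rfl
theorem F70882 : act 0 n18039 = n17672 := d2_1 D18039 (iv D17672) (iv F68775)
theorem F70883 : act 1 n18039 = n17684 := d9_1 D18039 (iv F70652) F70650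
theorem F70884 : act 4 n18039 = n17481 := d21_2 D17437 D18039 (iv D17481) (iv D16888) (iv F66596)
theorem F70885 : act 6 n18039 = n17461 := d23_2 (iv F68777) D18039 (iv D17461)
def n18040 : Q := act 5 n17437
theorem D18040 : act 5 n17437 = n18040 := rfl
theorem F70886 : act 0 n18040 = n17673 := d4_1 D18040 (iv D17673) (iv F68775)
theorem F70887 : act 2 n18040 = n17438 := d17_1 D18040 (iv D17438) (iv F68776)
def n18041 : Q := act 6 n17438
theorem D18041 : act 6 n17438 = n18041 := rfl
theorem F70888 : act 0 n18041 = n17674 := d5_1 D18041 (iv D17674) (iv F68778)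
theorem F70889 : act 1 n18041 = n17444 := d12_1 D18041 (iv D17444) (iv F68779)
theorem F70890 : act 5 n18041 = n17463 := d30_1 D18041 (iv D17463) (iv D16863) (iv F66600) D17438
def n18042 : Q := act 4 n17439
theorem D18042 : act 4 n17439 = n18042 := rfl
theorem F70891 : act 0 n18042 = n17568 := d3_1 D18042 (iv D17568) (iv F68780)
theorem F70892 : act 2 n18042 = n17559 := d16_1 D18042 (iv D17559) (iv F68781)
theorem F70893 : act 7 n18042 = n17442 := d28_2 (iv F68783) D18042 (iv D17442)
def n18043 : Q := act 4 n17440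
theorem D18043 : act 4 n17440 = n18043 := rfl
theorem F70894 : act 0 n18043 = n17569 := d3_1 D18043 (iv D17569) (iv F68784)
theorem F70895 : act 2 n18043 = n17560 := d16_1 D18043 (iv D17560) (iv F68785)
theorem F70896 : act 6 n18043 = n17470 := d27_2 (iv F68786) D18043 (iv D17470)
theorem F70897 : act 7 n18043 = n17608 := d28_2 (iv F68787) D18043 (iv D17608)
theorem F70898 : act 8 n18043 = n17441 := d29_2 (iv F68788) D18043 (iv D17441)
def n18044 : Q := act 5 n17441
theorem D18044 : act 5 n17441 = n18044 := rfl
theorem F70899 : act 0 n18044 = n17570 := d4_1 D18044 (iv D17570) (iv F68789)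
theorem F70900 : act 2 n18044 = n17561 := d17_1 D18044 (iv D17561) (iv F68790)
theorem F70901 : act 7 n18044 = n17443 := d31_2 (iv F68792) D18044 (iv D17443)
def n18045 : Q := act 5 n17442
theorem D18045 : act 5 n17442 = n18045 := rfl
theorem F70902 : act 0 n18045 = n17572 := d4_1 D18045 (iv D17572) (iv F68793)
theorem F70903 : act 2 n18045 = n17563 := d17_1 D18045 (iv D17563) (iv F68794)
theorem F70904 : act 4 n18045 = n17443 := d26_1 D18045 (iv D17443) (iv D16847) (iv F66614) D17442
theorem F70905 : act 8 n18045 = n17615 := d32_2 (iv F68795) D18045 (iv D17615)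
def n18046 : Q := act 6 n17443
theorem D18046 : act 6 n17443 = n18046 := rfl
theorem F70906 : act 0 n18046 = n17573 := d5_1 D18046 (iv D17573) (iv F68796)
theorem F70907 : act 2 n18046 = n17564 := d18_1 D18046 (iv D17564) (iv F68797)
theorem F70908 : act 3 n18046 = n17444 := d23_1 D18046 (iv D17444) (iv F68798)
theorem F70909 : act 5 n18046 = n17477 := d30_1 D18046 (iv D17477) (iv D16875) (iv F66619) D17443
theorem F70910 : act 8 n18046 = n17618 := d34_2 (iv F68799) D18046 (iv D17618)
def n18047 : Q := act 3 n17445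
theorem D18047 : act 3 n17445 = n18047 := rfl
theorem F70911 : act 0 n18047 = n17454 := d2_1 D18047 (iv D17454) (iv F68802)
theorem F70912 : act 1 n18047 = n17577 := d9_1 D18047 (iv D17577) (iv F68803)
theorem F70913 : act 5 n18047 = n17876 := d22_2 (iv F68806) D18047 (iv D17876)
theorem F70914 : act 6 n18047 = n17666 := d23_2 (iv F68807) D18047 (iv D17666)
theorem F70915 : act 8 n18047 = n17446 := d25_2 (iv F68808) D18047 (iv D17446)
def n18048 : Q := act 2 n17446
theorem D18048 : act 2 n17446 = n18048 := rfl
theorem F70916 : act 0 n18048 = n17455 := d1_1 D18048 (iv D17455) (iv F68809)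
theorem F70917 : act 3 n18048 = n18048 := d15_2 D17446 D18048 (iv D18048) (iv D17446) F66630
theorem F70918 : act 6 n18048 = n17667 := d18_2 (iv F68811) D18048 (iv D17667)
theorem F70919 : act 7 n18048 = n17447 := d19_2 (iv F68812) D18048 (iv D17447)
def n18049 : Q := act 4 n17446
theorem D18049 : act 4 n17446 = n18049 := rfl
theorem F70920 : act 0 n18049 = n17456 := d3_1 D18049 (iv D17456) (iv F68809)
theorem F70921 : act 1 n18049 = n17579 := d10_1 D18049 (iv D17579) (iv F68810)
theorem F70922 : act 3 n18049 = n18036 := d21_1 D18049 (iv D18036) (iv D17434) (iv F66631) D17446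
theorem F70923 : act 6 n18049 = n17668 := d27_2 (iv F68811) D18049 (iv D17668)
theorem F70924 : act 7 n18049 = n17448 := d28_2 (iv F68812) D18049 (iv D17448)
def n18050 : Q := act 4 n17447
theorem D18050 : act 4 n17447 = n18050 := rfl
theorem F70925 : act 0 n18050 = n17459 := d3_1 D18050 (iv D17459) (iv F68813)
theorem F70926 : act 2 n18050 = n17448 := d16_1 D18050 (iv D17448) D17447
theorem F70927 : act 6 n18050 = n17670 := d27_2 (iv F68815) D18050 (iv D17670)
theorem F70928 : act 8 n18050 = n17751 := d29_2 (iv F68816) D18050 (iv D17751)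
def n18051 : Q := act 5 n17448
theorem D18051 : act 5 n17448 = n18051 := rfl
theorem F70929 : act 0 n18051 = n17460 := d4_1 D18051 (iv D17460) (iv F68817)
theorem F70930 : act 1 n18051 = n17584 := d11_1 D18051 (iv D17584) (iv F68818)
theorem F70931 : act 3 n18051 = n17450 := d22_1 D18051 (iv D17450) (iv F68819)
def n18052 : Q := act 5 n17449
theorem D18052 : act 5 n17449 = n18052 := rfl
theorem F70932 : act 0 n18052 = n17462 := d4_1 D18052 (iv D17462) (iv F68821)
theorem F70933 : act 2 n18052 = n17450 := d17_1 D18052 (iv D17450) (iv F68822)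
theorem F70934 : act 7 n18052 = n18040 := d31_2 (iv F68824) D18052 (iv D18040)
def n18053 : Q := act 6 n17450
theorem D18053 : act 6 n17450 = n18053 := rfl
theorem F70935 : act 0 n18053 = n17463 := d5_1 D18053 (iv D17463) (iv F68825)
theorem F70936 : act 1 n18053 = n17585 := d12_1 D18053 (iv D17585) (iv F68826)
theorem F70937 : act 5 n18053 = n17674 := d30_1 D18053 (iv D17674) (iv D17091) (iv F66642) D17450
theorem F70938 : act 7 n18053 = n18041 := d33_2 (iv F68827) D18053 (iv D18041)
def n18054 : Q := act 3 n17451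
theorem D18054 : act 3 n17451 = n18054 := rfl
theorem F70939 : act 0 n18054 = n17878 := d2_1 D18054 (iv D17878) (iv F68828)
theorem F70940 : act 1 n18054 = n17464 := d9_1 D18054 (iv D17464) (iv F68829)
theorem F70941 : act 5 n18054 = n17791 := d22_2 (iv F68832) D18054 (iv D17791)
theorem F70942 : act 7 n18054 = n17822 := d24_2 D17451 D18054 (iv D17822) (iv D17231) (iv F66647)
theorem F70943 : act 8 n18054 = n17790 := d25_2 (iv F68833) D18054 (iv D17790)
def n18055 : Q := act 3 n17452
theorem D18055 : act 3 n17452 = n18055 := rfl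
theorem F70944 : act 0 n18055 = n17876 := d2_1 D18055 (iv D17876) (iv F68834)
theorem F70945 : act 1 n18055 = n17466 := d9_1 D18055 (iv D17466) (iv F68835)
theorem F70946 : act 5 n18055 = n17454 := d22_2 (iv F68838) D18055 (iv D17454)
theorem F70947 : act 6 n18055 = n18054 := d23_2 (iv F68839) D18055 (iv D18054)
theorem F70948 : act 7 n18055 = n18023 := d24_2 D17452 D18055 (iv D18023) (iv D17422) (iv F66653)
theorem F70949 : act 8 n18055 = n17453 := d25_2 (iv F68840) D18055 (iv D17453)
def n18056 : Q := act 2 n17453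
theorem D18056 : act 2 n17453 = n18056 := rfl
theorem F70950 : act 1 n18056 = n17718 := d8_1 D18056 (iv D17718) F68877 (iv D17467) (iv F68841)
theorem F70951 : act 3 n18056 = n18056 := d15_2 D17453 D18056 (iv D18056) (iv D17453) F66658
theorem F70952 : act 5 n18056 = n17455 := d17_2 (iv F68842) D18056 (iv D17455)
theorem F70953 : act 7 n18056 = n17457 := d19_2 (iv F68843) D18056 (iv D17457)
def n18057 : Q := act 4 n17453
theorem D18057 : act 4 n17453 = n18057 := rfl
theorem F70954 : act 1 n18057 = n17468 := d10_1 D18057 (iv D17468) (iv F68841)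
theorem F70955 : act 7 n18057 = n17458 := d28_2 (iv F68843) D18057 (iv D17458)
def n18058 : Q := act 2 n17454
theorem D18058 : act 2 n17454 = n18058 := rfl
theorem F70956 : act 1 n18058 = n17720 := d8_1 D18058 (iv D17720) F68885 (iv D17469) (iv F68844)
theorem F70957 : act 3 n18058 = n18058 := d15_2 D17454 D18058 (iv D18058) (iv D17454) F66661
theorem F70958 : act 7 n18058 = n17737 := d19_2 F70185 D18058 (iv F70183)
theorem F70959 : act 8 n18058 = n17455 := d20_2 (iv F68845) D18058 (iv D17455)
def n18059 : Q := act 4 n17454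
theorem D18059 : act 4 n17454 = n18059 := rfl
theorem F70960 : act 1 n18059 = n17470 := d10_1 D18059 (iv D17470) (iv F68844)
theorem F70961 : act 8 n18059 = n17456 := d29_2 (iv F68845) D18059 (iv D17456)
def n18060 : Q := act 4 n17455
theorem D18060 : act 4 n17455 = n18060 := rfl
theorem F70962 : act 1 n18060 = n17722 := d10_1 D18060 (iv D17722) (iv F68846)
theorem F70963 : act 2 n18060 = n17456 := d16_1 D18060 (iv D17456) D17455
theorem F70964 : act 7 n18060 = n17459 := d28_2 (iv F68848) D18060 (iv D17459)
def n18061 : Q := act 5 n17456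
theorem D18061 : act 5 n17456 = n18061 := rfl
theorem F70965 : act 1 n18061 = n17472 := d11_1 D18061 (iv D17472) (iv F68849)
theorem F70966 : act 7 n18061 = n17460 := d31_2 (iv F68850) D18061 (iv D17460)
def n18062 : Q := act 4 n17457
theorem D18062 : act 4 n17457 = n18062 := rfl
theorem F70967 : act 1 n18062 = n17724 := d10_1 D18062 (iv D17724) (iv F68851)
theorem F70968 : act 2 n18062 = n17458 := d16_1 D18062 (iv D17458) D17457
theorem F70969 : act 8 n18062 = n17747 := d29_2 (iv F68854) D18062 (iv D17747)
def n18063 : Q := act 5 n17458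
theorem D18063 : act 5 n17458 = n18063 := rfl
theorem F70970 : act 1 n18063 = n17475 := d11_1 D18063 (iv D17475) (iv F68855)
theorem F70971 : act 4 n18063 = n17460 := d26_1 D18063 (iv D17460) (iv D16861) (iv F66666) D17458
def n18064 : Q := act 5 n17459
theorem D18064 : act 5 n17459 = n18064 := rfl
theorem F70972 : act 1 n18064 = n17726 := d11_1 D18064 (iv D17726) (iv F68856)
theorem F70973 : act 2 n18064 = n17460 := d17_1 D18064 (iv D17460) (iv F68857)
theorem F70974 : act 8 n18064 = n17752 := d32_2 (iv F68858) D18064 (iv D17752)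
def n18065 : Q := act 6 n17460
theorem D18065 : act 6 n17460 = n18065 := rfl
theorem F70975 : act 1 n18065 = n17477 := d12_1 D18065 (iv D17477) (iv F68859)
theorem F70976 : act 3 n18065 = n17463 := d23_1 D18065 (iv D17463) (iv F68860)
def n18066 : Q := act 5 n17461
theorem D18066 : act 5 n17461 = n18066 := rfl
theorem F70977 : act 3 n18066 = n17462 := d22_1 D18066 (iv D17462) D17461
def n18067 : Q := act 7 n17461
theorem D18067 : act 7 n17461 = n18067 := rfl
theorem F70978 : act 4 n18067 = n17482 := d28_1 D18067 (iv D17482) (iv F68861)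
def n18068 : Q := act 6 n17462
theorem D18068 : act 6 n17462 = n18068 := rfl
theorem F70979 : act 2 n18068 = n17463 := d18_1 D18068 (iv D17463) (iv F68862)
def n18069 : Q := act 4 n17464
theorem D18069 : act 4 n17464 = n18069 := rfl
theorem F70980 : act 0 n18069 = n17603 := d3_1 D18069 (iv D17603) (iv F68864)
theorem F70981 : act 3 n18069 = n17468 := d21_1 D18069 (iv D17468) (iv D16867) (iv F66676) D17464
def n18070 : Q := act 4 n17465
theorem D18070 : act 4 n17465 = n18070 := rfl
theorem F70982 : act 0 n18070 = n17604 := d3_1 D18070 (iv D17604) (iv F68865)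
theorem F70983 : act 6 n18070 = n17468 := d27_2 (iv F68866) D18070 (iv D17468)
theorem F70984 : act 7 n18070 = n17473 := d28_2 (iv F68867) D18070 (iv D17473)
theorem F70985 : act 8 n18070 = n18069 := d29_2 (iv F68868) D18070 (iv D18069)
def n18071 : Q := act 4 n17466
theorem D18071 : act 4 n17466 = n18071 := rfl
theorem F70986 : act 0 n18071 = n17605 := d3_1 D18071 (iv D17605) (iv F68869)
theorem F70987 : act 3 n18071 = n18070 := d21_1 D18071 (iv D18070) (iv D17465) (iv F66683) D17466
theorem F70988 : act 6 n18071 = n18069 := d27_2 (iv F68871) D18071 (iv D18069)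
theorem F70989 : act 8 n18071 = n17468 := d29_2 (iv F68872) D18071 (iv D17468)
def n18072 : Q := act 4 n17467
theorem D18072 : act 4 n17467 = n18072 := rfl
theorem F70990 : act 0 n18072 = n17606 := d3_1 D18072 (iv D17606) (iv F68873)
theorem F70991 : act 1 n18072 = n17719 := d10_1 D18072 (iv D17719) F68877
theorem F70992 : act 2 n18072 = n17468 := d16_1 D18072 (iv D17468) D17467
theorem F70993 : act 3 n18072 = n17989 := d21_1 D18072 (iv D17989) (iv D17393) (iv F66743) (iv F68874)
theorem F70994 : act 7 n18072 = n17474 := d28_2 (iv F68876) D18072 (iv D17474)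
def n18073 : Q := act 5 n17468
theorem D18073 : act 5 n17468 = n18073 := rfl
theorem F70995 : act 0 n18073 = n17607 := d4_1 D18073 (iv D17607) (iv F68878)
theorem F70996 : act 4 n18073 = n17472 := d26_1 D18073 (iv D17472) (iv D16870) (iv F66688) D17468
theorem F70997 : act 7 n18073 = n17475 := d31_2 (iv F68879) D18073 (iv D17475)
def n18074 : Q := act 4 n17469
theorem D18074 : act 4 n17469 = n18074 := rfl
theorem F70998 : act 0 n18074 = n17608 := d3_1 D18074 (iv D17608) (iv F68880)
theorem F70999 : act 1 n18074 = n17721 := d10_1 D18074 (iv D17721) F68885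
theorem F71000 : act 2 n18074 = n17470 := d16_1 D18074 (iv D17470) D17469
theorem F71001 : act 6 n18074 = n17560 := d27_2 (iv F68882) D18074 (iv D17560)
theorem F71002 : act 7 n18074 = n17569 := d28_2 (iv F68883) D18074 (iv D17569)
theorem F71003 : act 8 n18074 = n17471 := d29_2 (iv F68884) D18074 (iv D17471)
def n18075 : Q := act 5 n17470
theorem D18075 : act 5 n17470 = n18075 := rfl
theorem F71004 : act 0 n18075 = n17609 := d4_1 D18075 (iv D17609) (iv F68886)
theorem F71005 : act 8 n18075 = n17472 := d32_2 (iv F68887) D18075 (iv D17472)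
def n18076 : Q := act 3 n17471
theorem D18076 : act 3 n17471 = n18076 := rfl
theorem F71006 : act 0 n18076 = n17611 := d2_1 D18076 (iv D17611) (iv F68888)
theorem F71007 : act 1 n18076 = n17704 := d9_1 D18076 F69631 (iv F68889)
theorem F71008 : act 4 n18076 = n17480 := d21_2 D17471 D18076 (iv D17480) (iv D16884) (iv F66693)
theorem F71009 : act 6 n18076 = n17527 := d23_2 (iv F68891) D18076 F69086
theorem F71010 : act 7 n18076 = n17509 := d24_2 (iv F68892) D18076 F69018 F66878 (iv F66710)
def n18077 : Q := act 5 n17471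
theorem D18077 : act 5 n17471 = n18077 := rfl
theorem F71011 : act 0 n18077 = n17612 := d4_1 D18077 (iv D17612) (iv F68888)
theorem F71012 : act 1 n18077 = n17723 := d11_1 D18077 (iv D17723) (iv F68889)
theorem F71013 : act 2 n18077 = n17472 := d17_1 D18077 (iv D17472) (iv F68890)
theorem F71014 : act 7 n18077 = n17476 := d31_2 (iv F68892) D18077 (iv D17476)
def n18078 : Q := act 6 n17472
theorem D18078 : act 6 n17472 = n18078 := rfl
theorem F71015 : act 0 n18078 = n17613 := d5_1 D18078 (iv D17613) (iv F68893)
theorem F71016 : act 7 n18078 = n17477 := d33_2 (iv F68894) D18078 (iv D17477)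
def n18079 : Q := act 5 n17473
theorem D18079 : act 5 n17473 = n18079 := rfl
theorem F71017 : act 0 n18079 = n17614 := d4_1 D18079 (iv D17614) (iv F68895)
def n18080 : Q := act 5 n17474
theorem D18080 : act 5 n17474 = n18080 := rfl
theorem F71018 : act 0 n18080 = n17615 := d4_1 D18080 (iv D17615) (iv F68897)
theorem F71019 : act 1 n18080 = n17725 := d11_1 D18080 (iv D17725) (iv F68898)
theorem F71020 : act 2 n18080 = n17475 := d17_1 D18080 (iv D17475) (iv F68899)
theorem F71021 : act 4 n18080 = n17476 := d26_1 D18080 (iv D17476) (iv D16874) (iv F66703) D17474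
theorem F71022 : act 8 n18080 = n17572 := d32_2 (iv F68900) D18080 (iv D17572)
def n18081 : Q := act 6 n17475
theorem D18081 : act 6 n17475 = n18081 := rfl
theorem F71023 : act 0 n18081 = n17616 := d5_1 D18081 (iv D17616) (iv F68901)
theorem F71024 : act 4 n18081 = n17477 := d27_1 D18081 (iv D17477) (iv F68902)
def n18082 : Q := act 6 n17476
theorem D18082 : act 6 n17476 = n18082 := rfl
theorem F71025 : act 0 n18082 = n17618 := d5_1 D18082 (iv D17618) (iv F68903)
theorem F71026 : act 1 n18082 = n17727 := d12_1 D18082 (iv D17727) (iv F68904)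
theorem F71027 : act 2 n18082 = n17477 := d18_1 D18082 (iv D17477) (iv F68905)
theorem F71028 : act 3 n18082 = n17539 := d23_1 D18082 (iv D17539) (iv F68906)
theorem F71029 : act 5 n18082 = n17564 := d30_1 D18082 (iv D17564) (iv D16966) (iv F66711) D17476
theorem F71030 : act 8 n18082 = n17573 := d34_2 (iv F68907) D18082 (iv D17573)
def n18083 : Q := act 3 n17479
theorem D18083 : act 3 n17479 = n18083 := rfl
theorem F71031 : act 0 n18083 = n17518 := d2_1 D18083 (iv D17518) (iv F68916)
theorem F71032 : act 1 n18083 = n17702 := d9_1 D18083 (iv D17702) (iv F68917)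
theorem F71033 : act 5 n18083 = n17513 := d22_2 (iv F68919) D18083 (iv D17513)
theorem F71034 : act 6 n18083 = n17525 := d23_2 (iv F68920) D18083 (iv D17525)
theorem F71035 : act 8 n18083 = n17480 := d25_2 (iv F68922) D18083 (iv D17480)
def n18084 : Q := act 7 n17481
theorem D18084 : act 7 n17481 = n18084 := rfl
theorem F71036 : act 0 n18084 = n17699 := d6_1 D18084 (iv D17699) (iv F68928)
theorem F71037 : act 1 n18084 = n17677 := d13_1 D18084 F69551 (iv F68929)
theorem F71038 : act 3 n18084 = n17483 := d24_1 D18084 (iv D17483) (iv D16892) (iv F66783) D17481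
theorem F71039 : act 5 n18084 = n17681 := d31_1 D18084 F69561 (iv F68930)
theorem F71040 : act 6 n18084 = n17482 := d33_1 D18084 (iv D17482) (iv F68931)
def n18085 : Q := act 8 n17482
theorem D18085 : act 8 n17482 = n18085 := rfl
theorem F71041 : act 3 n18085 = n17484 := d25_1 D18085 (iv D17484) (iv F68932)
def n18086 : Q := act 8 n17483
theorem D18086 : act 8 n17483 = n18086 := rfl
theorem F71042 : act 0 n18086 = n17700 := d7_1 D18086 (iv D17700) (iv F68933)
theorem F71043 : act 1 n18086 = n17690 := d14_1 D18086 F69584 (iv F68934)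
theorem F71044 : act 2 n18086 = n18086 := d20_1 D18086 (iv D18086) F68935
theorem F71045 : act 4 n18086 = n17970 := d29_1 D18086 F70611 (iv F68936)
theorem F71046 : act 5 n18086 = n17691 := d32_1 D18086 F69587 (iv F68937)
theorem F71047 : act 6 n18086 = n17484 := d34_1 D18086 (iv D17484) (iv F68938)
theorem F71048 : act 7 n18086 = n18086 := d35_1 D18086 (iv D18086) (iv D17483) F66798 D17483
def n18087 : Q := act 5 n17485
theorem D18087 : act 5 n17485 = n18087 := rfl
theorem F71049 : act 1 n18087 = n17488 := d11_1 D18087 (iv D17488) (iv F68941)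
theorem F71050 : act 4 n18087 = n17510 := d26_1 D18087 (iv D17510) (iv D16919) (iv F66801) D17485
theorem F71051 : act 7 n18087 = n17489 := d31_2 (iv F68942) D18087 (iv D17489)
theorem F71052 : act 8 n18087 = n17846 := d32_2 (iv F68943) D18087 (iv D17846)
def n18088 : Q := act 4 n17486
theorem D18088 : act 4 n17486 = n18088 := rfl
theorem F71053 : act 0 n18088 = n17910 := d3_1 D18088 (iv D17910) (iv F68944)
theorem F71054 : act 2 n18088 = n17487 := d16_1 D18088 (iv D17487) D17486
theorem F71055 : act 3 n18088 = n17532 := d21_1 D18088 (iv D17532) F66952 (iv F66812) (iv F68945)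
theorem F71056 : act 6 n18088 = n17827 := d27_2 (iv F68946) D18088 (iv D17827)
theorem F71057 : act 7 n18088 = n17807 := d28_2 (iv F68947) D18088 (iv D17807)
theorem F71058 : act 8 n18088 = n17854 := d29_2 (iv F68948) D18088 (iv D17854)
def n18089 : Q := act 5 n17487
theorem D18089 : act 5 n17487 = n18089 := rfl
theorem F71059 : act 0 n18089 = n17911 := d4_1 D18089 (iv D17911) (iv F68949)
theorem F71060 : act 3 n18089 = n17488 := d22_1 D18089 (iv D17488) (iv F68950)
theorem F71061 : act 7 n18089 = n17808 := d31_2 (iv F68952) D18089 (iv D17808)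
theorem F71062 : act 8 n18089 = n17855 := d32_2 (iv F68953) D18089 (iv D17855)
def n18090 : Q := act 6 n17488
theorem D18090 : act 6 n17488 = n18090 := rfl
theorem F71063 : act 2 n18090 = n17534 := d18_1 D18090 (iv D17534) (iv F68954)
theorem F71064 : act 4 n18090 = n17711 := d27_1 D18090 (iv D17711) (iv F68955)
theorem F71065 : act 7 n18090 = n17490 := d33_2 (iv F68956) D18090 (iv D17490)
theorem F71066 : act 8 n18090 = n17856 := d34_2 (iv F68957) D18090 (iv D17856)
def n18091 : Q := act 6 n17489
theorem D18091 : act 6 n17489 = n18091 := rfl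
theorem F71067 : act 1 n18091 = n17490 := d12_1 D18091 (iv D17490) (iv F68958)
theorem F71068 : act 4 n18091 = n17539 := d27_1 D18091 (iv D17539) (iv F68959)
theorem F71069 : act 8 n18091 = n17500 := d34_2 (iv F68960) D18091 (iv D17500)
def n18092 : Q := act 2 n17492
theorem D18092 : act 2 n17492 = n18092 := rfl
theorem F71070 : act 3 n18092 = n18092 := d15_2 D17492 D18092 (iv D18092) (iv D17492) F66824
theorem F71071 : act 5 n18092 = n17494 := d17_2 (iv F68968) D18092 (iv D17494)
theorem F71072 : act 7 n18092 = n17496 := d19_2 (iv F68969) D18092 (iv D17496)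
theorem F71073 : act 8 n18092 = n18030 := d20_2 (iv F68970) D18092 (iv D18030)
def n18093 : Q := act 4 n17492
theorem D18093 : act 4 n17492 = n18093 := rfl
theorem F71074 : act 1 n18093 = n17503 := d10_1 D18093 (iv D17503) (iv F68967)
theorem F71075 : act 7 n18093 = n17497 := d28_2 (iv F68969) D18093 (iv D17497)
theorem F71076 : act 8 n18093 = n18031 := d29_2 (iv F68970) D18093 (iv D18031)
def n18094 : Q := act 2 n17493
theorem D18094 : act 2 n17493 = n18094 := rfl
theorem F71077 : act 0 n18094 = n18092 := d1_1 D18094 (iv D18092) (iv F68971)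
theorem F71078 : act 1 n18094 = n17995 := d8_1 D18094 (iv D17995) F68633 F66895 (iv F68972)
theorem F71079 : act 3 n18094 = n18094 := d15_2 D17493 D18094 (iv D18094) (iv D17493) F66829
theorem F71080 : act 5 n18094 = n18030 := d17_2 (iv F68973) D18094 (iv D18030)
theorem F71081 : act 6 n18094 = n17767 := d18_2 (iv F68974) D18094 (iv D17767)
theorem F71082 : act 7 n18094 = n17778 := d19_2 (iv F68975) D18094 (iv D17778)
theorem F71083 : act 8 n18094 = n17494 := d20_2 (iv F68976) D18094 (iv D17494)
def n18095 : Q := act 4 n17493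
theorem D18095 : act 4 n17493 = n18095 := rfl
theorem F71084 : act 0 n18095 = n18093 := d3_1 D18095 (iv D18093) (iv F68971)
theorem F71085 : act 1 n18095 = n17504 := d10_1 D18095 (iv D17504) (iv F68972)
theorem F71086 : act 3 n18095 = n17934 := d21_1 D18095 (iv D17934) (iv D17334) (iv F66830) D17493
theorem F71087 : act 6 n18095 = n17768 := d27_2 (iv F68974) D18095 (iv D17768)
theorem F71088 : act 7 n18095 = n17779 := d28_2 (iv F68975) D18095 (iv D17779)
theorem F71089 : act 8 n18095 = n17495 := d29_2 (iv F68976) D18095 (iv D17495)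
def n18096 : Q := act 4 n17494
theorem D18096 : act 4 n17494 = n18096 := rfl
theorem F71090 : act 2 n18096 = n17495 := d16_1 D18096 (iv D17495) D17494
theorem F71091 : act 7 n18096 = n17498 := d28_2 (iv F68978) D18096 (iv D17498)
def n18097 : Q := act 5 n17495
theorem D18097 : act 5 n17495 = n18097 := rfl
theorem F71092 : act 1 n18097 = n17505 := d11_1 D18097 (iv D17505) (iv F68979)
theorem F71093 : act 3 n18097 = n17937 := d22_1 D18097 (iv D17937) (iv F68980)
theorem F71094 : act 7 n18097 = n17499 := d31_2 (iv F68981) D18097 (iv D17499)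
def n18098 : Q := act 4 n17496
theorem D18098 : act 4 n17496 = n18098 := rfl
theorem F71095 : act 2 n18098 = n17497 := d16_1 D18098 (iv D17497) D17496
def n18099 : Q := act 5 n17497
theorem D18099 : act 5 n17497 = n18099 := rfl
theorem F71096 : act 1 n18099 = n17506 := d11_1 D18099 (iv D17506) (iv F68984)
theorem F71097 : act 3 n18099 = n17572 := d22_1 D18099 (iv D17572) (iv F68985)
theorem F71098 : act 4 n18099 = n17499 := d26_1 D18099 (iv D17499) (iv D16906) (iv F66837) D17497
def n18100 : Q := act 5 n17498
theorem D18100 : act 5 n17498 = n18100 := rfl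
theorem F71099 : act 2 n18100 = n17499 := d17_1 D18100 (iv D17499) (iv F68986)
def n18101 : Q := act 6 n17499
theorem D18101 : act 6 n17499 = n18101 := rfl
theorem F71100 : act 1 n18101 = n17507 := d12_1 D18101 (iv D17507) (iv F68987)
theorem F71101 : act 3 n18101 = n17500 := d23_1 D18101 (iv D17500) (iv F68988)
def n18102 : Q := act 4 n17501
theorem D18102 : act 4 n17501 = n18102 := rfl
theorem F71102 : act 2 n18102 = n18069 := d16_1 D18102 (iv D18069) (iv F68992)
theorem F71103 : act 3 n18102 = n17503 := d21_1 D18102 (iv D17503) (iv D16910) (iv F66845) D17501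
theorem F71104 : act 7 n18102 = n17729 := d28_2 (iv F68994) D18102 (iv D17729)
def n18103 : Q := act 4 n17502
theorem D18103 : act 4 n17502 = n18103 := rfl
theorem F71105 : act 0 n18103 = n17839 := d3_1 D18103 (iv D17839) (iv F68995)
theorem F71106 : act 1 n18103 = n18031 := d10_1 D18103 (iv D18031) (iv F68996)
theorem F71107 : act 2 n18103 = n17843 := d16_1 D18103 (iv D17843) (iv F68997)
theorem F71108 : act 6 n18103 = n17989 := d27_2 (iv F68999) D18103 (iv D17989)
theorem F71109 : act 7 n18103 = n17777 := d28_2 (iv F69000) D18103 (iv D17777)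
theorem F71110 : act 8 n18103 = n17503 := d29_2 (iv F69001) D18103 (iv D17503)
def n18104 : Q := act 5 n17503
theorem D18104 : act 5 n17503 = n18104 := rfl
theorem F71111 : act 4 n18104 = n17505 := d26_1 D18104 (iv D17505) (iv D16912) (iv F66853) D17503
theorem F71112 : act 7 n18104 = n17506 := d31_2 (iv F69002) D18104 (iv D17506)
def n18105 : Q := act 5 n17504
theorem D18105 : act 5 n17504 = n18105 := rfl
theorem F71113 : act 0 n18105 = n17841 := d4_1 D18105 (iv D17841) (iv F69003)
theorem F71114 : act 3 n18105 = n17954 := d22_1 D18105 (iv D17954) (iv F69004)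
theorem F71115 : act 7 n18105 = n17783 := d31_2 (iv F69006) D18105 (iv D17783)
theorem F71116 : act 8 n18105 = n17505 := d32_2 (iv F69007) D18105 (iv D17505)
def n18106 : Q := act 6 n17505
theorem D18106 : act 6 n17505 = n18106 := rfl
theorem F71117 : act 3 n18106 = n17959 := d23_1 D18106 (iv D17959) (iv F69008)
theorem F71118 : act 7 n18106 = n17507 := d33_2 (iv F69009) D18106 (iv D17507)
def n18107 : Q := act 6 n17506
theorem D18107 : act 6 n17506 = n18107 := rfl
theorem F71119 : act 3 n18107 = n17750 := d23_1 D18107 (iv D17750) (iv F69010)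
theorem F71120 : act 4 n18107 = n17507 := d27_1 D18107 (iv D17507) (iv F69011)
def n18108 : Q := act 1 n17508
theorem D18108 : act 1 n17508 = n18108 := rfl
theorem F71121 : act 2 n18108 = n17708 := d8_2 D17508 D18108 (iv D17708) (iv D17124) (iv F66874)
theorem F71122 : act 3 n18108 = n17511 := d9_2 (iv F69014) D18108 (iv D17511)
theorem F71123 : act 5 n18108 = n17762 := d11_2 (iv F69015) D18108 F69784
theorem F71124 : act 6 n18108 = n17531 := d12_2 (iv F69016) D18108 (iv D17531)
def n18109 : Q := act 4 n17508
theorem D18109 : act 4 n17508 = n18109 := rfl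
theorem F71125 : act 0 n18109 = n17957 := d3_1 D18109 F70573 (iv F69013)
theorem F71126 : act 2 n18109 = n17509 := d16_1 D18109 (iv D17509) D17508
theorem F71127 : act 3 n18109 = n17827 := d21_1 D18109 (iv D17827) F67989 (iv F66880) (iv F69014)
theorem F71128 : act 6 n18109 = n17532 := d27_2 (iv F69016) D18109 (iv D17532)
def n18110 : Q := act 5 n17509
theorem D18110 : act 5 n17509 = n18110 := rfl
theorem F71129 : act 1 n18110 = n17710 := d11_1 D18110 (iv D17710) (iv F69017)
theorem F71130 : act 3 n18110 = n17510 := d22_1 D18110 (iv D17510) (iv F69018)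
def n18111 : Q := act 6 n17510
theorem D18111 : act 6 n17510 = n18111 := rfl
theorem F71131 : act 1 n18111 = n17711 := d12_1 D18111 (iv D17711) (iv F69020)
theorem F71132 : act 5 n18111 = n17534 := d30_1 D18111 (iv D17534) (iv D16939) (iv F66877) D17510
theorem F71133 : act 7 n18111 = n17539 := d33_2 (iv F69021) D18111 (iv D17539)
def n18112 : Q := act 0 n17511
theorem D18112 : act 0 n17511 = n18112 := rfl
theorem F71134 : act 1 n18112 = n17974 := d0_2 D17511 D18112 F70626 F68513 (iv F66879)
theorem F71135 : act 2 n18112 = n17621 := d1_2 (iv F69022) D18112 (iv D17621)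
theorem F71136 : act 4 n18112 = n17836 := d3_2 (iv F69023) D18112 (iv D17836)
theorem F71137 : act 5 n18112 = n17761 := d4_2 (iv F69024) D18112 F69781
theorem F71138 : act 6 n18112 = n17538 := d5_2 (iv F69025) D18112 (iv D17538)
theorem F71139 : act 7 n18112 = n17637 := d6_2 (iv F69026) D18112 (iv D17637)
def n18113 : Q := act 3 n17512
theorem D18113 : act 3 n17512 = n18113 := rfl
theorem F71140 : act 0 n18113 = n17517 := d2_1 D18113 (iv D17517) (iv F69027)
theorem F71141 : act 6 n18113 = n17649 := d23_2 (iv F69030) D18113 (iv D17649)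
theorem F71142 : act 7 n18113 = n17513 := d24_2 D17512 D18113 (iv D17513) (iv D16922) (iv F66886)
def n18114 : Q := act 4 n17513
theorem D18114 : act 4 n17513 = n18114 := rfl
theorem F71143 : act 0 n18114 = n17520 := d3_1 D18114 (iv D17520) (iv F69031)
theorem F71144 : act 3 n18114 = n17514 := d21_1 D18114 (iv D17514) (iv D16923) (iv F66891) D17513
theorem F71145 : act 6 n18114 = n17652 := d27_2 (iv F69032) D18114 (iv D17652)
theorem F71146 : act 8 n18114 = n17992 := d29_2 (iv F69033) D18114 (iv D17992)
def n18115 : Q := act 5 n17514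
theorem D18115 : act 5 n17514 = n18115 := rfl
theorem F71147 : act 0 n18115 = n17521 := d4_1 D18115 (iv D17521) (iv F69034)
theorem F71148 : act 2 n18115 = n18105 := d17_1 D18115 (iv D18105) (iv F69035)
theorem F71149 : act 7 n18115 = n17544 := d31_2 (iv F69037) D18115 (iv D17544)
theorem F71150 : act 8 n18115 = n17993 := d32_2 (iv F69038) D18115 (iv D17993)
def n18116 : Q := act 3 n17515
theorem D18116 : act 3 n17515 = n18116 := rfl
theorem F71151 : act 1 n18116 = n17524 := d9_1 D18116 (iv D17524) (iv F69039)
theorem F71152 : act 5 n18116 = n17517 := d22_2 (iv F69041) D18116 (iv D17517)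
theorem F71153 : act 6 n18116 = n17997 := d23_2 (iv F69042) D18116 (iv D17997)
theorem F71154 : act 7 n18116 = n17518 := d24_2 D17515 D18116 (iv D17518) (iv D16927) (iv F66901)
theorem F71155 : act 8 n18116 = n18113 := d25_2 (iv F69043) D18116 (iv D18113)
def n18117 : Q := act 3 n17516
theorem D18117 : act 3 n17516 = n18117 := rfl
theorem F71156 : act 0 n18117 = n18116 := d2_1 D18117 (iv D18116) (iv F69044)
theorem F71157 : act 1 n18117 = n17525 := d9_1 D18117 (iv D17525) (iv F69045)
theorem F71158 : act 5 n18117 = n18113 := d22_2 (iv F69048) D18117 (iv D18113)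
theorem F71159 : act 6 n18117 = n17702 := d23_2 (iv F69049) D18117 (iv D17702)
theorem F71160 : act 7 n18117 = n18083 := d24_2 D17516 D18117 (iv D18083) F68921 (iv F66907)
theorem F71161 : act 8 n18117 = n17517 := d25_2 (iv F69050) D18117 (iv D17517)
def n18118 : Q := act 2 n17517
theorem D18118 : act 2 n17517 = n18118 := rfl
theorem F71162 : act 3 n18118 = n18118 := d15_2 D17517 D18118 (iv D18118) (iv D17517) F66912
theorem F71163 : act 6 n18118 = n17703 := d18_2 (iv F69052) D18118 (iv D17703)
theorem F71164 : act 7 n18118 = n17519 := d19_2 (iv F69053) D18118 (iv D17519)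
def n18119 : Q := act 4 n17517
theorem D18119 : act 4 n17517 = n18119 := rfl
theorem F71165 : act 1 n18119 = n17527 := d10_1 D18119 (iv D17527) (iv F69051)
theorem F71166 : act 3 n18119 = n17550 := d21_1 D18119 (iv D17550) (iv D16953) (iv F66913) D17517
theorem F71167 : act 6 n18119 = n17704 := d27_2 (iv F69052) D18119 (iv D17704)
theorem F71168 : act 7 n18119 = n17520 := d28_2 (iv F69053) D18119 (iv D17520)
def n18120 : Q := act 4 n17518
theorem D18120 : act 4 n17518 = n18120 := rfl
theorem F71169 : act 1 n18120 = n17530 := d10_1 D18120 (iv D17530) (iv F69054)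
theorem F71170 : act 3 n18120 = n17608 := d21_1 D18120 (iv D17608) F67163 (iv F66917) D17518
theorem F71171 : act 8 n18120 = n17611 := d29_2 (iv F69056) D18120 F69329
def n18121 : Q := act 1 n17519
theorem D18121 : act 1 n17519 = n18121 := rfl
theorem F71172 : act 2 n18121 = n17531 := d8_2 D17519 D18121 (iv D17531) (iv D16937) (iv F66920)
theorem F71173 : act 3 n18121 = n17622 := d9_2 (iv F69057) D18121 (iv D17622)
theorem F71174 : act 6 n18121 = n17708 := d12_2 (iv F69058) D18121 (iv D17708)
theorem F71175 : act 8 n18121 = n18108 := d14_2 (iv F69059) D18121 (iv D18108)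
def n18122 : Q := act 4 n17519
theorem D18122 : act 4 n17519 = n18122 := rfl
theorem F71176 : act 2 n18122 = n17520 := d16_1 D18122 (iv D17520) D17519
theorem F71177 : act 6 n18122 = n17709 := d27_2 (iv F69058) D18122 (iv D17709)
theorem F71178 : act 8 n18122 = n18109 := d29_2 (iv F69059) D18122 (iv D18109)
def n18123 : Q := act 5 n17520
theorem D18123 : act 5 n17520 = n18123 := rfl
theorem F71179 : act 1 n18123 = n17533 := d11_1 D18123 (iv D17533) (iv F69060)
theorem F71180 : act 3 n18123 = n17521 := d22_1 D18123 (iv D17521) (iv F69061)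
theorem F71181 : act 8 n18123 = n18110 := d32_2 (iv F69063) D18123 (iv D18110)
def n18124 : Q := act 6 n17521
theorem D18124 : act 6 n17521 = n18124 := rfl
theorem F71182 : act 1 n18124 = n17534 := d12_1 D18124 (iv D17534) (iv F69064)
theorem F71183 : act 5 n18124 = n17711 := d30_1 D18124 (iv D17711) (iv D17126) (iv F66924) D17521
theorem F71184 : act 7 n18124 = n17555 := d33_2 (iv F69065) D18124 (iv D17555)
theorem F71185 : act 8 n18124 = n18111 := d34_2 (iv F69066) D18124 (iv D18111)
def n18125 : Q := act 3 n17522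
theorem D18125 : act 3 n17522 = n18125 := rfl
theorem F71186 : act 0 n18125 = n17850 := d2_1 D18125 (iv D17850) (iv F69067)
theorem F71187 : act 5 n18125 = n17556 := d22_2 (iv F69070) D18125 (iv D17556)
theorem F71188 : act 6 n18125 = n17770 := d23_2 (iv F69071) D18125 (iv D17770)
theorem F71189 : act 7 n18125 = n18047 := d24_2 D17522 D18125 (iv D18047) (iv D17445) (iv F66929)
theorem F71190 : act 8 n18125 = n17906 := d25_2 (iv F69072) D18125 (iv D17906)
def n18126 : Q := act 3 n17523
theorem D18126 : act 3 n17523 = n18126 := rfl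
theorem F71191 : act 0 n18126 = n17705 := d2_1 D18126 (iv D17705) (iv F69073)
theorem F71192 : act 1 n18126 = n18113 := d9_1 D18126 (iv D18113) (iv F69074)
theorem F71193 : act 5 n18126 = n17525 := d22_2 (iv F69077) D18126 (iv D17525)
theorem F71194 : act 6 n18126 = n17650 := d23_2 (iv F69078) D18126 (iv D17650)
theorem F71195 : act 7 n18126 = n17994 := d24_2 D17523 D18126 (iv D17994) (iv D17397) (iv F66936)
theorem F71196 : act 8 n18126 = n17524 := d25_2 (iv F69079) D18126 (iv D17524)
def n18127 : Q := act 2 n17524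
theorem D18127 : act 2 n17524 = n18127 := rfl
theorem F71197 : act 3 n18127 = n17639 := d15_2 D17524 D18127 (iv D17639) (iv D17059) (iv F66940)
theorem F71198 : act 5 n18127 = n17526 := d17_2 (iv F69080) D18127 (iv D17526)
theorem F71199 : act 6 n18127 = n18004 := d18_2 (iv F69081) D18127 (iv D18004)
theorem F71200 : act 7 n18127 = n17529 := d19_2 (iv F69082) D18127 (iv D17529)
def n18128 : Q := act 4 n17524
theorem D18128 : act 4 n17524 = n18128 := rfl
theorem F71201 : act 6 n18128 = n18005 := d27_2 (iv F69081) D18128 (iv D18005)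
theorem F71202 : act 7 n18128 = n17530 := d28_2 (iv F69082) D18128 (iv D17530)
def n18129 : Q := act 2 n17525
theorem D18129 : act 2 n17525 = n18129 := rfl
theorem F71203 : act 3 n18129 = n17640 := d15_2 D17525 D18129 (iv D17640) (iv D17060) (iv F66943)
theorem F71204 : act 8 n18129 = n17526 := d20_2 (iv F69083) D18129 (iv D17526)
def n18130 : Q := act 4 n17525
theorem D18130 : act 4 n17525 = n18130 := rfl
theorem F71205 : act 3 n18130 = n17560 := d21_1 D18130 (iv D17560) (iv D16962) (iv F66944) D17525
theorem F71206 : act 8 n18130 = n17527 := d29_2 (iv F69083) D18130 (iv D17527)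
def n18131 : Q := act 1 n17526
theorem D18131 : act 1 n17526 = n18131 := rfl
theorem F71207 : act 3 n18131 = n17641 := d9_2 (iv F69084) D18131 (iv D17641)
theorem F71208 : act 7 n18131 = n17531 := d13_2 (iv F69085) D18131 (iv D17531)
def n18132 : Q := act 4 n17526
theorem D18132 : act 4 n17526 = n18132 := rfl
theorem F71209 : act 2 n18132 = n17527 := d16_1 D18132 (iv D17527) D17526
theorem F71210 : act 7 n18132 = n17532 := d28_2 (iv F69085) D18132 (iv D17532)
def n18133 : Q := act 5 n17527
theorem D18133 : act 5 n17527 = n18133 := rfl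
theorem F71211 : act 3 n18133 = n17561 := d22_1 D18133 (iv D17561) (iv F69086)
theorem F71212 : act 7 n18133 = n17533 := d31_2 (iv F69087) D18133 (iv D17533)
def n18134 : Q := act 2 n17528
theorem D18134 : act 2 n17528 = n18134 := rfl
theorem F71213 : act 0 n18134 = n18127 := d1_1 D18134 (iv D18127) (iv F69088)
theorem F71214 : act 3 n18134 = n17535 := d15_2 D17528 D18134 (iv D17535) (iv D16940) (iv F66948)
theorem F71215 : act 5 n18134 = n17633 := d17_2 (iv F69089) D18134 F69407
theorem F71216 : act 6 n18134 = n17529 := d18_2 (iv F69090) D18134 (iv D17529)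
theorem F71217 : act 7 n18134 = n18004 := d19_2 (iv F69091) D18134 (iv D18004)
def n18135 : Q := act 4 n17528
theorem D18135 : act 4 n17528 = n18135 := rfl
theorem F71218 : act 0 n18135 = n18128 := d3_1 D18135 (iv D18128) (iv F69088)
theorem F71219 : act 6 n18135 = n17530 := d27_2 (iv F69090) D18135 (iv D17530)
theorem F71220 : act 7 n18135 = n18005 := d28_2 (iv F69091) D18135 (iv D18005)
def n18136 : Q := act 1 n17529
theorem D18136 : act 1 n17529 = n18136 := rfl
theorem F71221 : act 3 n18136 = n17536 := d9_2 (iv F69092) D18136 (iv D17536)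
theorem F71222 : act 5 n18136 = n17531 := d11_2 (iv F69093) D18136 (iv D17531)
def n18137 : Q := act 4 n17529
theorem D18137 : act 4 n17529 = n18137 := rfl
theorem F71223 : act 2 n18137 = n17530 := d16_1 D18137 (iv D17530) D17529
def n18138 : Q := act 5 n17530
theorem D18138 : act 5 n17530 = n18138 := rfl
theorem F71224 : act 4 n18138 = n17533 := d26_1 D18138 (iv D17533) (iv D16938) (iv F66951) D17530
def n18139 : Q := act 0 n17531
theorem D18139 : act 0 n17531 = n18139 := rfl
theorem F71225 : act 3 n18139 = n17538 := d2_2 (iv F69094) D18139 (iv D17538)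
def n18140 : Q := act 4 n17531
theorem D18140 : act 4 n17531 = n18140 := rfl
theorem F71226 : act 1 n18140 = n17532 := d10_1 D18140 (iv D17532) D17531
def n18141 : Q := act 5 n17532
theorem D18141 : act 5 n17532 = n18141 := rfl
theorem F71227 : act 2 n18141 = n17533 := d17_1 D18141 (iv D17533) (iv F69095)
def n18142 : Q := act 6 n17533
theorem D18142 : act 6 n17533 = n18142 := rfl
theorem F71228 : act 3 n18142 = n17534 := d23_1 D18142 (iv D17534) (iv F69096)
def n18143 : Q := act 0 n17536
theorem D18143 : act 0 n17536 = n18143 := rfl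
theorem F71229 : act 2 n18143 = n17624 := d1_2 (iv F69101) D18143 (iv D17624)
theorem F71230 : act 4 n18143 = n17639 := d3_2 F69104 D18143 F69436
theorem F71231 : act 5 n18143 = n17538 := d4_2 (iv F69102) D18143 (iv D17538)
theorem F71232 : act 6 n18143 = n18011 := d5_2 F69107 D18143 F70772
theorem F71233 : act 7 n18143 = n17643 := d6_2 (iv F69103) D18143 F69452
def n18144 : Q := act 3 n17537
theorem D18144 : act 3 n17537 = n18144 := rfl
theorem F71234 : act 1 n18144 = n18134 := d9_1 D18144 F71214 (iv F69105)
theorem F71235 : act 6 n18144 = n18136 := d23_2 (iv F69107) D18144 F71221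
def n18145 : Q := act 3 n17540
theorem D18145 : act 3 n17540 = n18145 := rfl
theorem F71236 : act 0 n18145 = n17548 := d2_1 D18145 (iv D17548) (iv F69114)
theorem F71237 : act 1 n18145 = n18125 := d9_1 D18145 (iv D18125) (iv F69115)
theorem F71238 : act 6 n18145 = n17659 := d23_2 (iv F69118) D18145 (iv D17659)
theorem F71239 : act 7 n18145 = n17577 := d24_2 D17540 D18145 (iv D17577) (iv D16981) (iv F66970)
theorem F71240 : act 8 n18145 = n17541 := d25_2 (iv F69119) D18145 (iv D17541)
def n18146 : Q := act 2 n17541
theorem D18146 : act 2 n17541 = n18146 := rfl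
theorem F71241 : act 0 n18146 = n17549 := d1_1 D18146 (iv D17549) (iv F69120)
theorem F71242 : act 3 n18146 = n18146 := d15_2 D17541 D18146 (iv D18146) (iv D17541) F66974
theorem F71243 : act 6 n18146 = n17660 := d18_2 (iv F69121) D18146 (iv D17660)
theorem F71244 : act 7 n18146 = n17542 := d19_2 (iv F69122) D18146 (iv D17542)
def n18147 : Q := act 4 n17541
theorem D18147 : act 4 n17541 = n18147 := rfl
theorem F71245 : act 0 n18147 = n17550 := d3_1 D18147 (iv D17550) (iv F69120)
theorem F71246 : act 6 n18147 = n17661 := d27_2 (iv F69121) D18147 (iv D17661)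
theorem F71247 : act 7 n18147 = n17543 := d28_2 (iv F69122) D18147 (iv D17543)
def n18148 : Q := act 1 n17542
theorem D18148 : act 1 n17542 = n18148 := rfl
theorem F71248 : act 0 n18148 = n17669 := d0_1 D18148 (iv D17669) (iv F68765) F68766 (iv F69123)
theorem F71249 : act 2 n18148 = n17686 := d8_2 D17542 D18148 F69572 (iv F68328) F68327
theorem F71250 : act 3 n18148 = n17620 := d9_2 (iv F69124) D18148 (iv D17620)
theorem F71251 : act 5 n18148 = n17698 := d11_2 F70527 D18148 (iv F70525)
theorem F71252 : act 6 n18148 = n17662 := d12_2 (iv F69125) D18148 (iv D17662)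
theorem F71253 : act 8 n18148 = n17582 := d14_2 (iv F69126) D18148 (iv D17582)
def n18149 : Q := act 4 n17542
theorem D18149 : act 4 n17542 = n18149 := rfl
theorem F71254 : act 0 n18149 = n17553 := d3_1 D18149 (iv D17553) (iv F69123)
theorem F71255 : act 2 n18149 = n17543 := d16_1 D18149 (iv D17543) D17542
theorem F71256 : act 6 n18149 = n17663 := d27_2 (iv F69125) D18149 (iv D17663)
theorem F71257 : act 8 n18149 = n17583 := d29_2 (iv F69126) D18149 (iv D17583)
def n18150 : Q := act 5 n17543
theorem D18150 : act 5 n17543 = n18150 := rfl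
theorem F71258 : act 0 n18150 = n17554 := d4_1 D18150 (iv D17554) (iv F69127)
theorem F71259 : act 3 n18150 = n17544 := d22_1 D18150 (iv D17544) (iv F69128)
theorem F71260 : act 8 n18150 = n17584 := d32_2 (iv F69130) D18150 (iv D17584)
def n18151 : Q := act 6 n17544
theorem D18151 : act 6 n17544 = n18151 := rfl
theorem F71261 : act 0 n18151 = n17555 := d5_1 D18151 (iv D17555) (iv F69131)
theorem F71262 : act 5 n18151 = n17665 := d30_1 D18151 (iv D17665) (iv D17084) (iv F66980) D17544
theorem F71263 : act 8 n18151 = n17585 := d34_2 (iv F69132) D18151 (iv D17585)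
def n18152 : Q := act 3 n17545
theorem D18152 : act 3 n17545 = n18152 := rfl
theorem F71264 : act 1 n18152 = n17556 := d9_1 D18152 (iv D17556) (iv F69133)
theorem F71265 : act 5 n18152 = n18145 := d22_2 (iv F69136) D18152 (iv D18145)
theorem F71266 : act 6 n18152 = n17930 := d23_2 (iv F69137) D18152 (iv D17930)
theorem F71267 : act 8 n18152 = n17929 := d25_2 (iv F69138) D18152 (iv D17929)
def n18153 : Q := act 3 n17546
theorem D18153 : act 3 n17546 = n18153 := rfl
theorem F71268 : act 0 n18153 = n18152 := d2_1 D18153 (iv D18152) (iv F69139)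
theorem F71269 : act 1 n18153 = n17558 := d9_1 D18153 (iv D17558) (iv F69140)
theorem F71270 : act 5 n18153 = n17548 := d22_2 (iv F69143) D18153 (iv D17548)
theorem F71271 : act 6 n18153 = n17928 := d23_2 (iv F69144) D18153 (iv D17928)
theorem F71272 : act 7 n18153 = n17588 := d24_2 D17546 D18153 (iv D17588) (iv D16989) (iv F66990)
theorem F71273 : act 8 n18153 = n17547 := d25_2 (iv F69145) D18153 (iv D17547)
def n18154 : Q := act 2 n17547
theorem D18154 : act 2 n17547 = n18154 := rfl
theorem F71274 : act 3 n18154 = n18154 := d15_2 D17547 D18154 (iv D18154) (iv D17547) F66995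
theorem F71275 : act 5 n18154 = n17549 := d17_2 (iv F69147) D18154 (iv D17549)
theorem F71276 : act 7 n18154 = n17551 := d19_2 (iv F69148) D18154 (iv D17551)
def n18155 : Q := act 4 n17547
theorem D18155 : act 4 n17547 = n18155 := rfl
theorem F71277 : act 1 n18155 = n17559 := d10_1 D18155 (iv D17559) (iv F69146)
theorem F71278 : act 7 n18155 = n17552 := d28_2 (iv F69148) D18155 (iv D17552)
def n18156 : Q := act 2 n17548
theorem D18156 : act 2 n17548 = n18156 := rfl
theorem F71279 : act 3 n18156 = n18156 := d15_2 D17548 D18156 (iv D18156) (iv D17548) F66998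
theorem F71280 : act 6 n18156 = n17720 := d18_2 (iv F69150) D18156 (iv D17720)
theorem F71281 : act 7 n18156 = n17591 := d19_2 (iv F69151) D18156 (iv D17591)
theorem F71282 : act 8 n18156 = n17549 := d20_2 (iv F69152) D18156 (iv D17549)
def n18157 : Q := act 4 n17548
theorem D18157 : act 4 n17548 = n18157 := rfl
theorem F71283 : act 1 n18157 = n17560 := d10_1 D18157 (iv D17560) (iv F69149)
theorem F71284 : act 6 n18157 = n17721 := d27_2 (iv F69150) D18157 (iv D17721)
theorem F71285 : act 7 n18157 = n17592 := d28_2 (iv F69151) D18157 (iv D17592)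
theorem F71286 : act 8 n18157 = n17550 := d29_2 (iv F69152) D18157 (iv D17550)
def n18158 : Q := act 4 n17549
theorem D18158 : act 4 n17549 = n18158 := rfl
theorem F71287 : act 2 n18158 = n17550 := d16_1 D18158 (iv D17550) D17549
theorem F71288 : act 6 n18158 = n17722 := d27_2 (iv F69154) D18158 (iv D17722)
theorem F71289 : act 7 n18158 = n17553 := d28_2 (iv F69155) D18158 (iv D17553)
def n18159 : Q := act 5 n17550
theorem D18159 : act 5 n17550 = n18159 := rfl
theorem F71290 : act 1 n18159 = n17561 := d11_1 D18159 (iv D17561) (iv F69156)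
theorem F71291 : act 7 n18159 = n17554 := d31_2 (iv F69158) D18159 (iv D17554)
def n18160 : Q := act 4 n17551
theorem D18160 : act 4 n17551 = n18160 := rfl
theorem F71292 : act 2 n18160 = n17552 := d16_1 D18160 (iv D17552) D17551
theorem F71293 : act 8 n18160 = n17597 := d29_2 (iv F69161) D18160 (iv D17597)
def n18161 : Q := act 5 n17552
theorem D18161 : act 5 n17552 = n18161 := rfl
theorem F71294 : act 1 n18161 = n17563 := d11_1 D18161 (iv D17563) (iv F69162)
theorem F71295 : act 4 n18161 = n17554 := d26_1 D18161 (iv D17554) (iv D16956) (iv F67005) D17552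
theorem F71296 : act 8 n18161 = n17598 := d32_2 (iv F69163) D18161 (iv D17598)
def n18162 : Q := act 5 n17553
theorem D18162 : act 5 n17553 = n18162 := rfl
theorem F71297 : act 2 n18162 = n17554 := d17_1 D18162 (iv D17554) (iv F69164)
theorem F71298 : act 8 n18162 = n17600 := d32_2 (iv F69166) D18162 (iv D17600)
def n18163 : Q := act 6 n17554
theorem D18163 : act 6 n17554 = n18163 := rfl
theorem F71299 : act 1 n18163 = n17564 := d12_1 D18163 (iv D17564) (iv F69167)
theorem F71300 : act 3 n18163 = n17555 := d23_1 D18163 (iv D17555) (iv F69168)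
theorem F71301 : act 5 n18163 = n17727 := d30_1 D18163 (iv D17727) (iv D17140) (iv F67012) D17554
theorem F71302 : act 8 n18163 = n17601 := d34_2 (iv F69169) D18163 (iv D17601)
def n18164 : Q := act 2 n17556
theorem D18164 : act 2 n17556 = n18164 := rfl
theorem F71303 : act 3 n18164 = n17645 := d15_2 D17556 D18164 (iv D17645) (iv D17068) (iv F67016)
theorem F71304 : act 6 n18164 = n17947 := d18_2 (iv F69173) D18164 (iv D17947)
theorem F71305 : act 8 n18164 = n17838 := d20_2 (iv F69174) D18164 F70131
def n18165 : Q := act 4 n17556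
theorem D18165 : act 4 n17556 = n18165 := rfl
theorem F71306 : act 3 n18165 = n17559 := d21_1 D18165 (iv D17559) (iv D16961) (iv F67017) D17556
theorem F71307 : act 6 n18165 = n17948 := d27_2 (iv F69173) D18165 (iv D17948)
theorem F71308 : act 8 n18165 = n17946 := d29_2 (iv F69174) D18165 (iv D17946)
def n18166 : Q := act 4 n17557
theorem D18166 : act 4 n17557 = n18166 := rfl
theorem F71309 : act 3 n18166 = n17948 := d21_1 D18166 (iv D17948) (iv D17346) (iv F67021) D17557
theorem F71310 : act 6 n18166 = n17559 := d27_2 (iv F69175) D18166 (iv D17559)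
theorem F71311 : act 7 n18166 = n17562 := d28_2 (iv F69176) D18166 (iv D17562)
theorem F71312 : act 8 n18166 = n17945 := d29_2 (iv F69177) D18166 (iv D17945)
def n18167 : Q := act 4 n17558
theorem D18167 : act 4 n17558 = n18167 := rfl
theorem F71313 : act 3 n18167 = n17946 := d21_1 D18167 (iv D17946) (iv D17345) (iv F67025) D17558
theorem F71314 : act 6 n18167 = n17945 := d27_2 (iv F69179) D18167 (iv D17945)
theorem F71315 : act 7 n18167 = n17605 := d28_2 (iv F69180) D18167 (iv D17605)
theorem F71316 : act 8 n18167 = n17559 := d29_2 (iv F69181) D18167 (iv D17559)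
def n18168 : Q := act 5 n17559
theorem D18168 : act 5 n17559 = n18168 := rfl
theorem F71317 : act 4 n18168 = n17561 := d26_1 D18168 (iv D17561) (iv D16963) (iv F67029) D17559
theorem F71318 : act 7 n18168 = n17563 := d31_2 (iv F69182) D18168 (iv D17563)
def n18169 : Q := act 5 n17560
theorem D18169 : act 5 n17560 = n18169 := rfl
theorem F71319 : act 7 n18169 = n17609 := d31_2 (iv F69183) D18169 (iv D17609)
theorem F71320 : act 8 n18169 = n17561 := d32_2 (iv F69184) D18169 (iv D17561)
def n18170 : Q := act 6 n17561
theorem D18170 : act 6 n17561 = n18170 := rfl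
theorem F71321 : act 7 n18170 = n17564 := d33_2 (iv F69185) D18170 (iv D17564)
def n18171 : Q := act 5 n17562
theorem D18171 : act 5 n17562 = n18171 := rfl
theorem F71322 : act 8 n18171 = n17614 := d32_2 (iv F69187) D18171 (iv D17614)
def n18172 : Q := act 6 n17563
theorem D18172 : act 6 n17563 = n18172 := rfl
theorem F71323 : act 4 n18172 = n17564 := d27_1 D18172 (iv D17564) (iv F69188)
theorem F71324 : act 8 n18172 = n17616 := d34_2 (iv F69189) D18172 (iv D17616)
def n18173 : Q := act 2 n17565
theorem D18173 : act 2 n17565 = n18173 := rfl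
theorem F71325 : act 3 n18173 = n17619 := d15_2 D17565 D18173 (iv D17619) (iv D17017) (iv F67041)
theorem F71326 : act 6 n18173 = n17732 := d18_2 (iv F69193) D18173 (iv D17732)
theorem F71327 : act 8 n18173 = n17730 := d20_2 (iv F69194) D18173 (iv D17730)
def n18174 : Q := act 4 n17565
theorem D18174 : act 4 n17565 = n18174 := rfl
theorem F71328 : act 1 n18174 = n17729 := d10_1 D18174 (iv D17729) (iv F69192)
theorem F71329 : act 3 n18174 = n17568 := d21_1 D18174 (iv D17568) (iv D16971) (iv F67042) D17565
theorem F71330 : act 6 n18174 = n17733 := d27_2 (iv F69193) D18174 (iv D17733)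
theorem F71331 : act 8 n18174 = n17731 := d29_2 (iv F69194) D18174 (iv D17731)
def n18175 : Q := act 4 n17566
theorem D18175 : act 4 n17566 = n18175 := rfl
theorem F71332 : act 1 n18175 = n17731 := d10_1 D18175 (iv D17731) (iv F69195)
theorem F71333 : act 3 n18175 = n17733 := d21_1 D18175 (iv D17733) (iv D17144) (iv F67047) D17566
theorem F71334 : act 6 n18175 = n17568 := d27_2 (iv F69197) D18175 (iv D17568)
theorem F71335 : act 7 n18175 = n17571 := d28_2 (iv F69198) D18175 (iv D17571)
theorem F71336 : act 8 n18175 = n17729 := d29_2 (iv F69199) D18175 (iv D17729)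
def n18176 : Q := act 4 n17567
theorem D18176 : act 4 n17567 = n18176 := rfl
theorem F71337 : act 1 n18176 = n17733 := d10_1 D18176 (iv D17733) (iv F69200)
theorem F71338 : act 3 n18176 = n17731 := d21_1 D18176 (iv D17731) (iv D17143) (iv F67053) D17567
theorem F71339 : act 6 n18176 = n17729 := d27_2 (iv F69202) D18176 (iv D17729)
theorem F71340 : act 8 n18176 = n17568 := d29_2 (iv F69203) D18176 (iv D17568)
def n18177 : Q := act 5 n17568
theorem D18177 : act 5 n17568 = n18177 := rfl
theorem F71341 : act 1 n18177 = n17736 := d11_1 D18177 (iv D17736) (iv F69204)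
theorem F71342 : act 4 n18177 = n17570 := d26_1 D18177 (iv D17570) (iv D16973) (iv F67058) D17568
theorem F71343 : act 7 n18177 = n17572 := d31_2 (iv F69205) D18177 (iv D17572)
def n18178 : Q := act 5 n17569
theorem D18178 : act 5 n17569 = n18178 := rfl
theorem F71344 : act 1 n18178 = n17739 := d11_1 D18178 (iv D17739) (iv F69206)
theorem F71345 : act 8 n18178 = n17570 := d32_2 (iv F69208) D18178 (iv D17570)
def n18179 : Q := act 6 n17570
theorem D18179 : act 6 n17570 = n18179 := rfl
theorem F71346 : act 1 n18179 = n17744 := d12_1 D18179 (iv D17744) (iv F69209)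
theorem F71347 : act 5 n18179 = n17613 := d30_1 D18179 (iv D17613) (iv D17010) (iv F67064) D17570
theorem F71348 : act 7 n18179 = n17573 := d33_2 (iv F69210) D18179 (iv D17573)
def n18180 : Q := act 5 n17571
theorem D18180 : act 5 n17571 = n18180 := rfl
theorem F71349 : act 1 n18180 = n17746 := d11_1 D18180 (iv D17746) (iv F69211)
theorem F71350 : act 4 n18180 = n17614 := d26_1 D18180 (iv D17614) (iv D17011) (iv F67067) D17571
def n18181 : Q := act 6 n17572
theorem D18181 : act 6 n17572 = n18181 := rfl
theorem F71351 : act 1 n18181 = n17750 := d12_1 D18181 (iv D17750) (iv F69213)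
theorem F71352 : act 4 n18181 = n17573 := d27_1 D18181 (iv D17573) (iv F69214)
def n18182 : Q := act 3 n17574
theorem D18182 : act 3 n17574 = n18182 := rfl
theorem F71353 : act 0 n18182 = n17586 := d2_1 D18182 (iv D17586) (iv F69218)
theorem F71354 : act 1 n18182 = n17878 := d9_1 D18182 (iv D17878) (iv F69219)
theorem F71355 : act 5 n18182 = n17869 := d22_2 (iv F69222) D18182 (iv D17869)
theorem F71356 : act 7 n18182 = n17930 := d24_2 D17574 D18182 (iv D17930) (iv D17332) (iv F67077)
theorem F71357 : act 8 n18182 = n17868 := d25_2 (iv F69223) D18182 (iv D17868)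
def n18183 : Q := act 3 n17575
theorem D18183 : act 3 n17575 = n18183 := rfl
theorem F71358 : act 0 n18183 = n17588 := d2_1 D18183 (iv D17588) (iv F69224)
theorem F71359 : act 1 n18183 = n17876 := d9_1 D18183 (iv D17876) (iv F69225)
theorem F71360 : act 5 n18183 = n17577 := d22_2 (iv F69228) D18183 (iv D17577)
theorem F71361 : act 6 n18183 = n18182 := d23_2 (iv F69229) D18183 (iv D18182)
theorem F71362 : act 7 n18183 = n18152 := d24_2 D17575 D18183 (iv D18152) (iv D17545) (iv F67083)
theorem F71363 : act 8 n18183 = n17576 := d25_2 (iv F69230) D18183 (iv D17576)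
def n18184 : Q := act 2 n17576
theorem D18184 : act 2 n17576 = n18184 := rfl
theorem F71364 : act 0 n18184 = n17589 := d1_1 D18184 (iv D17589) (iv F69231)
theorem F71365 : act 3 n18184 = n17627 := d15_2 D17576 D18184 (iv D17627) (iv D17037) (iv F67088)
theorem F71366 : act 5 n18184 = n17578 := d17_2 (iv F69232) D18184 (iv D17578)
theorem F71367 : act 7 n18184 = n17580 := d19_2 (iv F69233) D18184 (iv D17580)
def n18185 : Q := act 4 n17576
theorem D18185 : act 4 n17576 = n18185 := rfl
theorem F71368 : act 0 n18185 = n17590 := d3_1 D18185 (iv D17590) (iv F69231)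
theorem F71369 : act 7 n18185 = n17581 := d28_2 (iv F69233) D18185 (iv D17581)
def n18186 : Q := act 2 n17577
theorem D18186 : act 2 n17577 = n18186 := rfl
theorem F71370 : act 0 n18186 = n17591 := d1_1 D18186 (iv D17591) (iv F69234)
theorem F71371 : act 3 n18186 = n17628 := d15_2 D17577 D18186 (iv D17628) (iv D17038) (iv F67091)
theorem F71372 : act 6 n18186 = n17679 := d18_2 (iv F69235) D18186 (iv D17679)
theorem F71373 : act 8 n18186 = n17578 := d20_2 (iv F69236) D18186 (iv D17578)
def n18187 : Q := act 4 n17577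
theorem D18187 : act 4 n17577 = n18187 := rfl
theorem F71374 : act 0 n18187 = n17592 := d3_1 D18187 (iv D17592) (iv F69234)
theorem F71375 : act 3 n18187 = n18043 := d21_1 D18187 (iv D18043) (iv D17440) (iv F67092) D17577
theorem F71376 : act 6 n18187 = n17680 := d27_2 (iv F69235) D18187 (iv D17680)
theorem F71377 : act 8 n18187 = n17579 := d29_2 (iv F69236) D18187 (iv D17579)
def n18188 : Q := act 1 n17578
theorem D18188 : act 1 n17578 = n18188 := rfl
theorem F71378 : act 3 n18188 = n17629 := d9_2 (iv F69238) D18188 (iv D17629)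
theorem F71379 : act 6 n18188 = n17681 := d12_2 (iv F69239) D18188 (iv D17681)
theorem F71380 : act 7 n18188 = n17582 := d13_2 (iv F69240) D18188 (iv D17582)
def n18189 : Q := act 4 n17578
theorem D18189 : act 4 n17578 = n18189 := rfl
theorem F71381 : act 0 n18189 = n17594 := d3_1 D18189 (iv D17594) (iv F69237)
theorem F71382 : act 2 n18189 = n17579 := d16_1 D18189 (iv D17579) D17578
theorem F71383 : act 3 n18189 = n18132 := d21_1 D18189 (iv D18132) F69084 F67377 (iv F69238)
theorem F71384 : act 6 n18189 = n17682 := d27_2 (iv F69239) D18189 (iv D17682)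
theorem F71385 : act 7 n18189 = n17583 := d28_2 (iv F69240) D18189 (iv D17583)
def n18190 : Q := act 5 n17579
theorem D18190 : act 5 n17579 = n18190 := rfl
theorem F71386 : act 0 n18190 = n17595 := d4_1 D18190 (iv D17595) (iv F69241)
theorem F71387 : act 3 n18190 = n18044 := d22_1 D18190 (iv D18044) (iv F69242)
theorem F71388 : act 7 n18190 = n17584 := d31_2 (iv F69244) D18190 (iv D17584)
def n18191 : Q := act 4 n17580
theorem D18191 : act 4 n17580 = n18191 := rfl
theorem F71389 : act 0 n18191 = n17597 := d3_1 D18191 (iv D17597) (iv F69245)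
theorem F71390 : act 2 n18191 = n17581 := d16_1 D18191 (iv D17581) D17580
def n18192 : Q := act 5 n17581
theorem D18192 : act 5 n17581 = n18192 := rfl
theorem F71391 : act 0 n18192 = n17598 := d4_1 D18192 (iv D17598) (iv F69248)
theorem F71392 : act 4 n18192 = n17584 := d26_1 D18192 (iv D17584) (iv D16985) (iv F67099) D17581
def n18193 : Q := act 4 n17582
theorem D18193 : act 4 n17582 = n18193 := rfl
theorem F71393 : act 1 n18193 = n17583 := d10_1 D18193 (iv D17583) D17582
theorem F71394 : act 3 n18193 = n17597 := d21_1 D18193 (iv D17597) F67139 (iv F67233) (iv F69249)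
theorem F71395 : act 6 n18193 = n17687 := d27_2 (iv F69250) D18193 (iv D17687)
def n18194 : Q := act 5 n17583
theorem D18194 : act 5 n17583 = n18194 := rfl
theorem F71396 : act 0 n18194 = n17600 := d4_1 D18194 (iv D17600) (iv F69251)
theorem F71397 : act 2 n18194 = n17584 := d17_1 D18194 (iv D17584) (iv F69252)
def n18195 : Q := act 6 n17584
theorem D18195 : act 6 n17584 = n18195 := rfl
theorem F71398 : act 0 n18195 = n17601 := d5_1 D18195 (iv D17601) (iv F69254)
theorem F71399 : act 3 n18195 = n17585 := d23_1 D18195 (iv D17585) (iv F69255)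
theorem F71400 : act 5 n18195 = n17689 := d30_1 D18195 (iv D17689) (iv D17102) (iv F67105) D17584
def n18196 : Q := act 2 n17586
theorem D18196 : act 2 n17586 = n18196 := rfl
theorem F71401 : act 1 n18196 = n17824 := d8_1 D18196 (iv D17824) F69310 (iv D17602) (iv F69259)
theorem F71402 : act 3 n18196 = n17630 := d15_2 D17586 D18196 (iv D17630) (iv D17043) (iv F67109)
theorem F71403 : act 5 n18196 = n18173 := d17_2 (iv F69260) D18196 (iv D18173)
theorem F71404 : act 6 n18196 = n17853 := d18_2 F69268 D18196 F70195
theorem F71405 : act 8 n18196 = n17826 := d20_2 F69265 D18196 F70080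
def n18197 : Q := act 4 n17586
theorem D18197 : act 4 n17586 = n18197 := rfl
theorem F71406 : act 1 n18197 = n17603 := d10_1 D18197 (iv D17603) (iv F69259)
theorem F71407 : act 3 n18197 = n17590 := d21_1 D18197 (iv D17590) (iv D16990) (iv F67110) D17586
def n18198 : Q := act 4 n17587
theorem D18198 : act 4 n17587 = n18198 := rfl
theorem F71408 : act 1 n18198 = n17604 := d10_1 D18198 (iv D17604) (iv F69261)
theorem F71409 : act 6 n18198 = n17590 := d27_2 (iv F69263) D18198 (iv D17590)
theorem F71410 : act 7 n18198 = n17596 := d28_2 (iv F69264) D18198 (iv D17596)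
theorem F71411 : act 8 n18198 = n18197 := d29_2 (iv F69265) D18198 (iv D18197)
def n18199 : Q := act 4 n17588
theorem D18199 : act 4 n17588 = n18199 := rfl
theorem F71412 : act 1 n18199 = n17605 := d10_1 D18199 (iv D17605) (iv F69266)
theorem F71413 : act 3 n18199 = n18198 := d21_1 D18199 (iv D18198) (iv D17587) (iv F67119) D17588
theorem F71414 : act 6 n18199 = n18197 := d27_2 (iv F69268) D18199 (iv D18197)
theorem F71415 : act 8 n18199 = n17590 := d29_2 (iv F69269) D18199 (iv D17590)
def n18200 : Q := act 4 n17589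
theorem D18200 : act 4 n17589 = n18200 := rfl
theorem F71416 : act 1 n18200 = n18088 := d10_1 D18200 (iv D18088) (iv F69270)
theorem F71417 : act 2 n18200 = n17590 := d16_1 D18200 (iv D17590) D17589
theorem F71418 : act 3 n18200 = n18140 := d21_1 D18200 (iv D18140) F69094 (iv F67306) (iv F69271)
theorem F71419 : act 7 n18200 = n17597 := d28_2 (iv F69273) D18200 (iv D17597)
def n18201 : Q := act 5 n17590
theorem D18201 : act 5 n17590 = n18201 := rfl
theorem F71420 : act 1 n18201 = n17607 := d11_1 D18201 (iv D17607) (iv F69274)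
theorem F71421 : act 4 n18201 = n17595 := d26_1 D18201 (iv D17595) (iv D16993) (iv F67124) D17590
theorem F71422 : act 7 n18201 = n17598 := d31_2 (iv F69275) D18201 (iv D17598)
def n18202 : Q := act 4 n17591
theorem D18202 : act 4 n17591 = n18202 := rfl
theorem F71423 : act 2 n18202 = n17592 := d16_1 D18202 (iv D17592) D17591
theorem F71424 : act 6 n18202 = n17738 := d27_2 (iv F69277) D18202 (iv D17738)
theorem F71425 : act 8 n18202 = n17594 := d29_2 (iv F69278) D18202 (iv D17594)
def n18203 : Q := act 5 n17592
theorem D18203 : act 5 n17592 = n18203 := rfl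
theorem F71426 : act 1 n18203 = n17609 := d11_1 D18203 (iv D17609) (iv F69279)
theorem F71427 : act 3 n18203 = n18178 := d22_1 D18203 (iv D18178) (iv F69280)
theorem F71428 : act 8 n18203 = n17595 := d32_2 (iv F69282) D18203 (iv D17595)
def n18204 : Q := act 4 n17593
theorem D18204 : act 4 n17593 = n18204 := rfl
theorem F71429 : act 1 n18204 = n17594 := d10_1 D18204 (iv D17594) D17593
theorem F71430 : act 2 n18204 = n17610 := d16_1 D18204 (iv D17610) (iv F69283)
theorem F71431 : act 6 n18204 = n17741 := d27_2 (iv F69286) D18204 (iv D17741)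
theorem F71432 : act 7 n18204 = n17599 := d28_2 (iv F69287) D18204 (iv D17599)
def n18205 : Q := act 3 n17594
theorem D18205 : act 3 n17594 = n18205 := rfl
theorem F71433 : act 0 n18205 = n18132 := d2_1 D18205 (iv F71383) F71381
theorem F71434 : act 2 n18205 = n18003 := d15_1 D18205 F70752 F68739 (iv F67133) (iv F69288)
theorem F71435 : act 4 n18205 = n17633 := d21_2 D17594 D18205 (iv D17633) (iv D17049) (iv F67129)
theorem F71436 : act 6 n18205 = n17742 := d23_2 (iv F69289) D18205 (iv D17742)
theorem F71437 : act 7 n18205 = n18007 := d24_2 (iv F69290) D18205 F70763 F70428 F68344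
def n18206 : Q := act 5 n17594
theorem D18206 : act 5 n17594 = n18206 := rfl
theorem F71438 : act 2 n18206 = n17595 := d17_1 D18206 (iv D17595) (iv F69288)
theorem F71439 : act 7 n18206 = n17600 := d31_2 (iv F69290) D18206 (iv D17600)
def n18207 : Q := act 6 n17595
theorem D18207 : act 6 n17595 = n18207 := rfl
theorem F71440 : act 1 n18207 = n17613 := d12_1 D18207 (iv D17613) (iv F69291)
theorem F71441 : act 3 n18207 = n18179 := d23_1 D18207 (iv D18179) (iv F69292)
theorem F71442 : act 5 n18207 = n17744 := d30_1 D18207 (iv D17744) (iv D17151) (iv F67134) D17595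
theorem F71443 : act 7 n18207 = n17601 := d33_2 (iv F69293) D18207 (iv D17601)
def n18208 : Q := act 5 n17596
theorem D18208 : act 5 n17596 = n18208 := rfl
theorem F71444 : act 1 n18208 = n17614 := d11_1 D18208 (iv D17614) (iv F69294)
theorem F71445 : act 4 n18208 = n17746 := d26_1 D18208 (iv D17746) (iv D17153) (iv F67137) D17596
def n18209 : Q := act 5 n17597
theorem D18209 : act 5 n17597 = n18209 := rfl
theorem F71446 : act 2 n18209 = n17598 := d17_1 D18209 (iv D17598) (iv F69296)
theorem F71447 : act 4 n18209 = n17600 := d26_1 D18209 (iv D17600) (iv D16998) (iv F67140) D17597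
def n18210 : Q := act 6 n17598
theorem D18210 : act 6 n17598 = n18210 := rfl
theorem F71448 : act 1 n18210 = n17616 := d12_1 D18210 (iv D17616) (iv F69297)
theorem F71449 : act 4 n18210 = n17601 := d27_1 D18210 (iv D17601) (iv F69298)
def n18211 : Q := act 5 n17599
theorem D18211 : act 5 n17599 = n18211 := rfl
theorem F71450 : act 1 n18211 = n17600 := d11_1 D18211 (iv D17600) (iv F69299)
theorem F71451 : act 2 n18211 = n17617 := d17_1 D18211 (iv D17617) (iv F69300)
def n18212 : Q := act 6 n17600
theorem D18212 : act 6 n17600 = n18212 := rfl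
theorem F71452 : act 2 n18212 = n17601 := d18_1 D18212 (iv D17601) (iv F69302)
theorem F71453 : act 5 n18212 = n17753 := d30_1 D18212 (iv D17753) (iv D17159) (iv F67146) D17600
def n18213 : Q := act 4 n17602
theorem D18213 : act 4 n17602 = n18213 := rfl
theorem F71454 : act 0 n18213 = n18102 := d3_1 D18213 (iv D18102) (iv F69306)
theorem F71455 : act 1 n18213 = n17825 := d10_1 D18213 (iv D17825) F69310
theorem F71456 : act 2 n18213 = n17603 := d16_1 D18213 (iv D17603) D17602
theorem F71457 : act 3 n18213 = n17840 := d21_1 D18213 (iv D17840) (iv D17253) (iv F67210) (iv F69307)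
theorem F71458 : act 6 n18213 = n17845 := d27_2 (iv F69308) D18213 (iv D17845)
theorem F71459 : act 8 n18213 = n17815 := d29_2 (iv F69309) D18213 (iv D17815)
def n18214 : Q := act 5 n17603
theorem D18214 : act 5 n17603 = n18214 := rfl
theorem F71460 : act 3 n18214 = n17607 := d22_1 D18214 (iv D17607) (iv F69311)
def n18215 : Q := act 5 n17604
theorem D18215 : act 5 n17604 = n18215 := rfl
theorem F71461 : act 7 n18215 = n17614 := d31_2 (iv F69313) D18215 (iv D17614)
theorem F71462 : act 8 n18215 = n18214 := d32_2 (iv F69314) D18215 (iv D18214)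
def n18216 : Q := act 5 n17605
theorem D18216 : act 5 n17605 = n18216 := rfl
theorem F71463 : act 3 n18216 = n18215 := d22_1 D18216 (iv D18215) (iv F69315)
theorem F71464 : act 4 n18216 = n17609 := d26_1 D18216 (iv D17609) (iv D17007) (iv F67155) D17605
theorem F71465 : act 8 n18216 = n17607 := d32_2 (iv F69317) D18216 (iv D17607)
def n18217 : Q := act 5 n17606
theorem D18217 : act 5 n17606 = n18217 := rfl
theorem F71466 : act 1 n18217 = n18089 := d11_1 D18217 (iv D18089) (iv F69318)
theorem F71467 : act 2 n18217 = n17607 := d17_1 D18217 (iv D17607) (iv F69319)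
theorem F71468 : act 3 n18217 = n18087 := d22_1 D18217 (iv D18087) (iv F69320)
theorem F71469 : act 4 n18217 = n17612 := d26_1 D18217 (iv D17612) (iv D17009) (iv F67159) D17606
theorem F71470 : act 7 n18217 = n17615 := d31_2 (iv F69321) D18217 (iv D17615)
def n18218 : Q := act 6 n17607
theorem D18218 : act 6 n17607 = n18218 := rfl
theorem F71471 : act 4 n18218 = n17613 := d27_1 D18218 (iv D17613) (iv F69322)
theorem F71472 : act 7 n18218 = n17616 := d33_2 (iv F69323) D18218 (iv D17616)
def n18219 : Q := act 5 n17608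
theorem D18219 : act 5 n17608 = n18219 := rfl
theorem F71473 : act 2 n18219 = n17609 := d17_1 D18219 (iv D17609) (iv F69324)
theorem F71474 : act 8 n18219 = n17612 := d32_2 (iv F69325) D18219 (iv D17612)
def n18220 : Q := act 6 n17609
theorem D18220 : act 6 n17609 = n18220 := rfl
theorem F71475 : act 8 n18220 = n17613 := d34_2 (iv F69326) D18220 (iv D17613)
def n18221 : Q := act 5 n17610
theorem D18221 : act 5 n17610 = n18221 := rfl
theorem F71476 : act 1 n18221 = n17612 := d11_1 D18221 (iv D17612) (iv F69327)
theorem F71477 : act 4 n18221 = n18089 := d26_1 D18221 (iv D18089) (iv D17487) (iv F67167) D17610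
theorem F71478 : act 7 n18221 = n17617 := d31_2 (iv F69328) D18221 (iv D17617)
def n18222 : Q := act 5 n17611
theorem D18222 : act 5 n17611 = n18222 := rfl
theorem F71479 : act 3 n18222 = n17612 := d22_1 D18222 (iv D17612) D17611
theorem F71480 : act 4 n18222 = n18110 := d26_1 D18222 (iv D18110) (iv D17509) (iv F67214) (iv F69329)
def n18223 : Q := act 6 n17612
theorem D18223 : act 6 n17612 = n18223 := rfl
theorem F71481 : act 2 n18223 = n17613 := d18_1 D18223 (iv D17613) (iv F69330)
theorem F71482 : act 7 n18223 = n17618 := d33_2 (iv F69331) D18223 (iv D17618)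
def n18224 : Q := act 6 n17614
theorem D18224 : act 6 n17614 = n18224 := rfl
theorem F71483 : act 5 n18224 = n17616 := d30_1 D18224 (iv D17616) (iv D17013) (iv F67172) D17614
def n18225 : Q := act 6 n17615
theorem D18225 : act 6 n17615 = n18225 := rfl
theorem F71484 : act 2 n18225 = n17616 := d18_1 D18225 (iv D17616) (iv F69333)
theorem F71485 : act 4 n18225 = n17618 := d27_1 D18225 (iv D17618) (iv F69334)
def n18226 : Q := act 6 n17617
theorem D18226 : act 6 n17617 = n18226 := rfl
theorem F71486 : act 1 n18226 = n17618 := d12_1 D18226 (iv D17618) (iv F69336)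
def n18227 : Q := act 0 n17622
theorem D18227 : act 0 n17622 = n18227 := rfl
theorem F71487 : act 2 n18227 = n17623 := d1_2 (iv F69353) D18227 (iv D17623)
theorem F71488 : act 6 n18227 = n17715 := d5_2 (iv F69354) D18227 (iv D17715)
theorem F71489 : act 7 n18227 = n18227 := d6_2 F69355 D18227 (iv D18227)
theorem F71490 : act 8 n18227 = n18112 := d7_2 (iv F69356) D18227 (iv D18112)
def n18228 : Q := act 2 n17625
theorem D18228 : act 2 n17625 = n18228 := rfl
theorem F71491 : act 0 n18228 = n17630 := d1_1 D18228 (iv D17630) (iv F69367)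
theorem F71492 : act 4 n18228 = n18227 := d16_2 (iv F69369) D18228 F71487
theorem F71493 : act 5 n18228 = n17988 := d17_2 (iv F69370) D18228 F70694
theorem F71494 : act 6 n18228 = n17858 := d18_2 (iv F69371) D18228 F70211
theorem F71495 : act 7 n18228 = n18228 := d19_2 F69372 D18228 (iv D18228)
theorem F71496 : act 8 n18228 = n17836 := d20_2 F69379 D18228 F70119
theorem F71497 : act 1 n17971 = n18228 := d14_3 F71496 F70118 (iv F70616)
def n18229 : Q := act 1 n17628
theorem D18229 : act 1 n17628 = n18229 := rfl
theorem F71498 : act 2 n18229 = n18229 := d8_2 D17628 D18229 (iv D18229) (iv D17628) F67274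
theorem F71499 : act 6 n18229 = n17691 := d12_2 (iv F69385) D18229 (iv D17691)
theorem F71500 : act 7 n18229 = n18229 := d13_2 F69386 D18229 (iv D18229)
theorem F71501 : act 8 n18229 = n17629 := d14_2 (iv F69387) D18229 (iv D17629)
def n18230 : Q := act 3 n17631
theorem D18230 : act 3 n17631 = n18230 := rfl
theorem F71502 : act 0 n18230 = n18129 := d2_1 D18230 F71203 F69440
theorem F71503 : act 2 n18230 = n18002 := d15_1 D18230 (iv D18002) F68650 (iv F67313) (iv F69397)
theorem F71504 : act 6 n18230 = n17760 := d23_2 (iv F69398) D18230 (iv D17760)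
theorem F71505 : act 8 n18230 = n17633 := d25_2 (iv F69400) D18230 (iv D17633)
def n18231 : Q := act 3 n17632
theorem D18231 : act 3 n17632 = n18231 := rfl
theorem F71506 : act 1 n18231 = n17633 := d9_1 D18231 (iv D17633) (iv F69401)
theorem F71507 : act 5 n18231 = n18144 := d22_2 (iv F69403) D18231 (iv D18144)
theorem F71508 : act 6 n18231 = n17762 := d23_2 (iv F69404) D18231 (iv D17762)
theorem F71509 : act 7 n18231 = n18006 := d24_2 (iv F69405) D18231 F70759 F68677 F67345
def n18232 : Q := act 0 n17634
theorem D18232 : act 0 n17634 = n18232 := rfl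
theorem F71510 : act 1 n18232 = n17643 := d0_2 D17634 D18232 F69452 (iv D17065) (iv F67335)
theorem F71511 : act 2 n18232 = n18232 := d1_2 F69410 D18232 (iv D18232)
theorem F71512 : act 3 n18232 = n17635 := d2_2 (iv F69411) D18232 F69414
theorem F71513 : act 5 n18232 = n17636 := d4_2 (iv F69412) D18232 (iv D17636)
theorem F71514 : act 8 n18232 = n18232 := d7_2 F69413 D18232 (iv D18232)
theorem F71515 : act 4 n17642 = n18232 := d26_5 F71513 F69421 F68491 (iv F67392) (iv F69449)
def n18233 : Q := act 4 n17634
theorem D18233 : act 4 n17634 = n18233 := rfl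
theorem F71516 : act 0 n18233 = n17642 := d3_1 D18233 F71515 (iv D18232)
theorem F71517 : act 1 n18233 = n17635 := d10_1 D18233 (iv D17635) D17634
theorem F71518 : act 2 n18233 = n18233 := d16_1 D18233 (iv D18233) F69410
theorem F71519 : act 3 n18233 = n17643 := d21_1 D18233 (iv D17643) F67380 D17066 (iv F69411)
theorem F71520 : act 5 n18233 = n17644 := d26_2 (iv F69412) D18233 F69460 F68481 (iv F67346)
theorem F71521 : act 6 n18233 = n18232 := d27_2 F69450 D18233 (iv F71515)
theorem F71522 : act 8 n18233 = n18233 := d29_2 F69413 D18233 (iv D18233)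
def n18234 : Q := act 2 n17638
theorem D18234 : act 2 n17638 = n18234 := rfl
theorem F71523 : act 0 n18234 = n17712 := d1_1 D18234 (iv D17712) (iv F69430)
theorem F71524 : act 5 n18234 = n17640 := d17_2 (iv F69432) D18234 (iv D17640)
theorem F71525 : act 6 n18234 = n17654 := d18_2 (iv F69433) D18234 (iv D17654)
theorem F71526 : act 7 n18234 = n18234 := d19_2 F69434 D18234 (iv D18234)
theorem F71527 : act 8 n18234 = n17639 := d20_2 (iv F69435) D18234 (iv D17639)
def n18235 : Q := act 1 n17639
theorem D18235 : act 1 n17639 = n18235 := rfl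
theorem F71528 : act 2 n18235 = n18235 := d8_2 D17639 D18235 (iv D18235) (iv D17639) F67367
theorem F71529 : act 5 n18235 = n17641 := d11_2 (iv F69437) D18235 (iv D17641)
theorem F71530 : act 6 n18235 = n18010 := d12_2 (iv F69438) D18235 (iv D18010)
theorem F71531 : act 7 n18235 = n17642 := d13_2 (iv F69439) D18235 (iv D17642)
def n18236 : Q := act 1 n17640
theorem D18236 : act 1 n17640 = n18236 := rfl
theorem F71532 : act 2 n18236 = n18236 := d8_2 D17640 D18236 (iv D18236) (iv D17640) F67372
theorem F71533 : act 4 n18236 = n18229 := d10_2 (iv F69441) D18236 (iv D18229)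
theorem F71534 : act 7 n18236 = n18236 := d13_2 F69442 D18236 (iv D18236)
theorem F71535 : act 8 n18236 = n17641 := d14_2 (iv F69443) D18236 (iv D17641)
def n18237 : Q := act 0 n17641
theorem D18237 : act 0 n17641 = n18237 := rfl
theorem F71536 : act 1 n18237 = n17968 := d0_2 D17641 D18237 F70598 F69401 (iv F67376)
theorem F71537 : act 2 n18237 = n18237 := d1_2 F69444 D18237 (iv D18237)
theorem F71538 : act 4 n18237 = n17967 := d3_2 (iv F69445) D18237 F70593
theorem F71539 : act 7 n18237 = n17644 := d6_2 (iv F69446) D18237 (iv D17644)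
def n18238 : Q := act 2 n17646
theorem D18238 : act 2 n17646 = n18238 := rfl
theorem F71540 : act 3 n18238 = n18238 := d15_2 D17646 D18238 (iv D18238) (iv D17646) F67417
theorem F71541 : act 8 n18238 = n17998 := d20_2 (iv F69466) D18238 (iv D17998)
def n18239 : Q := act 4 n17646
theorem D18239 : act 4 n17646 = n18239 := rfl
theorem F71542 : act 1 n18239 = n17652 := d10_1 D18239 (iv D17652) (iv F69465)
theorem F71543 : act 3 n18239 = n17648 := d21_1 D18239 (iv D17648) (iv D17071) (iv F67418) D17646
theorem F71544 : act 8 n18239 = n17999 := d29_2 (iv F69466) D18239 (iv D17999)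
def n18240 : Q := act 4 n17647
theorem D18240 : act 4 n17647 = n18240 := rfl
theorem F71545 : act 2 n18240 = n17648 := d16_1 D18240 (iv D17648) D17647
theorem F71546 : act 7 n18240 = n17657 := d28_2 (iv F69468) D18240 (iv D17657)
theorem F71547 : act 8 n18240 = n18000 := d29_2 (iv F69469) D18240 (iv D18000)
def n18241 : Q := act 5 n17648
theorem D18241 : act 5 n17648 = n18241 := rfl
theorem F71548 : act 1 n18241 = n17653 := d11_1 D18241 (iv D17653) (iv F69470)
theorem F71549 : act 7 n18241 = n17658 := d31_2 (iv F69471) D18241 (iv D17658)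
theorem F71550 : act 8 n18241 = n18001 := d32_2 (iv F69472) D18241 (iv D18001)
def n18242 : Q := act 2 n17649
theorem D18242 : act 2 n17649 = n18242 := rfl
theorem F71551 : act 0 n18242 = n17703 := d1_1 D18242 (iv D17703) (iv F69473)
theorem F71552 : act 3 n18242 = n18242 := d15_2 D17649 D18242 (iv D18242) (iv D17649) F67424
theorem F71553 : act 5 n18242 = n18238 := d17_2 (iv F69474) D18242 (iv D18238)
theorem F71554 : act 7 n18242 = n17651 := d19_2 (iv F69475) D18242 (iv D17651)
def n18243 : Q := act 4 n17649
theorem D18243 : act 4 n17649 = n18243 := rfl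
theorem F71555 : act 0 n18243 = n17704 := d3_1 D18243 (iv D17704) (iv F69473)
theorem F71556 : act 3 n18243 = n17661 := d21_1 D18243 (iv D17661) (iv D17081) (iv F67425) D17649
theorem F71557 : act 7 n18243 = n17652 := d28_2 (iv F69475) D18243 (iv D17652)
def n18244 : Q := act 2 n17650
theorem D18244 : act 2 n17650 = n18244 := rfl
theorem F71558 : act 0 n18244 = n17706 := d1_1 D18244 (iv D17706) (iv F69476)
theorem F71559 : act 3 n18244 = n17654 := d15_2 D17650 D18244 (iv D17654) (iv D17076) (iv F67429)
theorem F71560 : act 5 n18244 = n17651 := d17_2 (iv F69478) D18244 (iv D17651)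
theorem F71561 : act 7 n18244 = n18238 := d19_2 (iv F69479) D18244 (iv D18238)
theorem F71562 : act 8 n18244 = n18004 := d20_2 (iv F69480) D18244 (iv D18004)
def n18245 : Q := act 4 n17650
theorem D18245 : act 4 n17650 = n18245 := rfl
theorem F71563 : act 0 n18245 = n17707 := d3_1 D18245 (iv D17707) (iv F69476)
theorem F71564 : act 1 n18245 = n18243 := d10_1 D18245 (iv D18243) (iv F69477)
theorem F71565 : act 3 n18245 = n17908 := d21_1 D18245 (iv D17908) (iv D17311) (iv F67430) D17650
theorem F71566 : act 7 n18245 = n18239 := d28_2 (iv F69479) D18245 (iv D18239)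
theorem F71567 : act 8 n18245 = n18005 := d29_2 (iv F69480) D18245 (iv D18005)
def n18246 : Q := act 1 n17651
theorem D18246 : act 1 n17651 = n18246 := rfl
theorem F71568 : act 3 n18246 = n17656 := d9_2 (iv F69482) D18246 (iv D17656)
theorem F71569 : act 8 n18246 = n18006 := d14_2 (iv F69483) D18246 (iv D18006)
def n18247 : Q := act 4 n17651
theorem D18247 : act 4 n17651 = n18247 := rfl
theorem F71570 : act 0 n18247 = n17709 := d3_1 D18247 (iv D17709) (iv F69481)
theorem F71571 : act 2 n18247 = n17652 := d16_1 D18247 (iv D17652) D17651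
theorem F71572 : act 8 n18247 = n18007 := d29_2 (iv F69483) D18247 (iv D18007)
def n18248 : Q := act 5 n17652
theorem D18248 : act 5 n17652 = n18248 := rfl
theorem F71573 : act 0 n18248 = n17710 := d4_1 D18248 (iv D17710) (iv F69484)
theorem F71574 : act 3 n18248 = n17653 := d22_1 D18248 (iv D17653) (iv F69485)
theorem F71575 : act 8 n18248 = n18008 := d32_2 (iv F69486) D18248 (iv D18008)
def n18249 : Q := act 6 n17653
theorem D18249 : act 6 n17653 = n18249 := rfl
theorem F71576 : act 0 n18249 = n17711 := d5_1 D18249 (iv D17711) (iv F69487)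
theorem F71577 : act 7 n18249 = n17665 := d33_2 (iv F69488) D18249 (iv D17665)
theorem F71578 : act 8 n18249 = n18009 := d34_2 (iv F69489) D18249 (iv D18009)
def n18250 : Q := act 1 n17654
theorem D18250 : act 1 n17654 = n18250 := rfl
theorem F71579 : act 2 n18250 = n18250 := d8_2 D17654 D18250 (iv D18250) (iv D17654) F67439
theorem F71580 : act 5 n18250 = n17656 := d11_2 (iv F69491) D18250 (iv D17656)
theorem F71581 : act 7 n18250 = n18250 := d13_2 F69492 D18250 (iv D18250)
theorem F71582 : act 8 n18250 = n18010 := d14_2 (iv F69493) D18250 (iv D18010)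
def n18251 : Q := act 4 n17654
theorem D18251 : act 4 n17654 = n18251 := rfl
theorem F71583 : act 0 n18251 = n17714 := d3_1 D18251 (iv D17714) (iv F69490)
theorem F71584 : act 2 n18251 = n17655 := d16_1 D18251 (iv D17655) D17654
theorem F71585 : act 7 n18251 = n18251 := d28_2 F69492 D18251 (iv D18251)
theorem F71586 : act 8 n18251 = n18011 := d29_2 (iv F69493) D18251 (iv D18011)
def n18252 : Q := act 0 n17656
theorem D18252 : act 0 n17656 = n18252 := rfl
theorem F71587 : act 1 n18252 = n17715 := d0_2 D17656 D18252 (iv D17715) (iv D17130) (iv F67443)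
theorem F71588 : act 2 n18252 = n18252 := d1_2 F69499 D18252 (iv D18252)
theorem F71589 : act 7 n18252 = n18252 := d6_2 F69500 D18252 (iv D18252)
theorem F71590 : act 8 n18252 = n18012 := d7_2 (iv F69501) D18252 (iv D18012)
def n18253 : Q := act 3 n17657
theorem D18253 : act 3 n17657 = n18253 := rfl
theorem F71591 : act 4 n18253 = n17697 := d21_2 D17657 D18253 (iv D17697) (iv D17114) (iv F67446)
theorem F71592 : act 8 n18253 = n17672 := d25_2 (iv F69503) D18253 (iv D17672)
def n18254 : Q := act 5 n17657
theorem D18254 : act 5 n17657 = n18254 := rfl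
theorem F71593 : act 2 n18254 = n17658 := d17_1 D18254 (iv D17658) (iv F69502)
theorem F71594 : act 8 n18254 = n17673 := d32_2 (iv F69503) D18254 (iv D17673)
def n18255 : Q := act 6 n17658
theorem D18255 : act 6 n17658 = n18255 := rfl
theorem F71595 : act 1 n18255 = n17665 := d12_1 D18255 (iv D17665) (iv F69504)
theorem F71596 : act 8 n18255 = n17674 := d34_2 (iv F69505) D18255 (iv D17674)
def n18256 : Q := act 2 n17659
theorem D18256 : act 2 n17659 = n18256 := rfl
theorem F71597 : act 0 n18256 = n17720 := d1_1 D18256 (iv D17720) (iv F69506)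
theorem F71598 : act 3 n18256 = n18256 := d15_2 D17659 D18256 (iv D18256) (iv D17659) F67451
theorem F71599 : act 7 n18256 = n17679 := d19_2 (iv F69507) D18256 (iv D17679)
theorem F71600 : act 8 n18256 = n17660 := d20_2 (iv F69508) D18256 (iv D17660)
def n18257 : Q := act 4 n17659
theorem D18257 : act 4 n17659 = n18257 := rfl
theorem F71601 : act 0 n18257 = n17721 := d3_1 D18257 (iv D17721) (iv F69506)
theorem F71602 : act 7 n18257 = n17680 := d28_2 (iv F69507) D18257 (iv D17680)
theorem F71603 : act 8 n18257 = n17661 := d29_2 (iv F69508) D18257 (iv D17661)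
def n18258 : Q := act 1 n17660
theorem D18258 : act 1 n17660 = n18258 := rfl
theorem F71604 : act 3 n18258 = n18258 := d9_2 F69510 D18258 (iv D18258)
theorem F71605 : act 7 n18258 = n17662 := d13_2 (iv F69511) D18258 (iv D17662)
def n18259 : Q := act 4 n17660
theorem D18259 : act 4 n17660 = n18259 := rfl
theorem F71606 : act 0 n18259 = n17722 := d3_1 D18259 (iv D17722) (iv F69509)
theorem F71607 : act 2 n18259 = n17661 := d16_1 D18259 (iv D17661) D17660
theorem F71608 : act 7 n18259 = n17663 := d28_2 (iv F69511) D18259 (iv D17663)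
def n18260 : Q := act 5 n17661
theorem D18260 : act 5 n17661 = n18260 := rfl
theorem F71609 : act 0 n18260 = n17723 := d4_1 D18260 (iv D17723) (iv F69512)
theorem F71610 : act 7 n18260 = n17664 := d31_2 (iv F69513) D18260 (iv D17664)
def n18261 : Q := act 4 n17662
theorem D18261 : act 4 n17662 = n18261 := rfl
theorem F71611 : act 1 n18261 = n17663 := d10_1 D18261 (iv D17663) D17662
theorem F71612 : act 8 n18261 = n17687 := d29_2 (iv F69515) D18261 (iv D17687)
def n18262 : Q := act 5 n17663
theorem D18262 : act 5 n17663 = n18262 := rfl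
theorem F71613 : act 0 n18262 = n17726 := d4_1 D18262 (iv D17726) (iv F69516)
theorem F71614 : act 2 n18262 = n17664 := d17_1 D18262 (iv D17664) (iv F69517)
theorem F71615 : act 8 n18262 = n17688 := d32_2 (iv F69518) D18262 (iv D17688)
def n18263 : Q := act 6 n17664
theorem D18263 : act 6 n17664 = n18263 := rfl
theorem F71616 : act 0 n18263 = n17727 := d5_1 D18263 (iv D17727) (iv F69519)
theorem F71617 : act 3 n18263 = n17665 := d23_1 D18263 (iv D17665) (iv F69520)
theorem F71618 : act 8 n18263 = n17689 := d34_2 (iv F69521) D18263 (iv D17689)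
def n18264 : Q := act 2 n17666
theorem D18264 : act 2 n17666 = n18264 := rfl
theorem F71619 : act 3 n18264 = n18264 := d15_2 D17666 D18264 (iv D18264) (iv D17666) F67467
theorem F71620 : act 8 n18264 = n17667 := d20_2 (iv F69525) D18264 (iv D17667)
def n18265 : Q := act 4 n17666
theorem D18265 : act 4 n17666 = n18265 := rfl
theorem F71621 : act 1 n18265 = n17680 := d10_1 D18265 (iv D17680) (iv F69524)
theorem F71622 : act 3 n18265 = n18059 := d21_1 D18265 (iv D18059) (iv D17454) (iv F67468) D17666
theorem F71623 : act 8 n18265 = n17668 := d29_2 (iv F69525) D18265 (iv D17668)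
def n18266 : Q := act 1 n17667
theorem D18266 : act 1 n17667 = n18266 := rfl
theorem F71624 : act 2 n18266 = n17681 := d8_2 D17667 D18266 (iv D17681) (iv D17096) (iv F67470)
theorem F71625 : act 3 n18266 = n18266 := d9_2 F69526 D18266 (iv D18266)
theorem F71626 : act 7 n18266 = n17669 := d13_2 (iv F69527) D18266 (iv D17669)
def n18267 : Q := act 4 n17667
theorem D18267 : act 4 n17667 = n18267 := rfl
theorem F71627 : act 2 n18267 = n17668 := d16_1 D18267 (iv D17668) D17667
theorem F71628 : act 7 n18267 = n17670 := d28_2 (iv F69527) D18267 (iv D17670)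
def n18268 : Q := act 5 n17668
theorem D18268 : act 5 n17668 = n18268 := rfl
theorem F71629 : act 1 n18268 = n17683 := d11_1 D18268 (iv D17683) (iv F69528)
theorem F71630 : act 3 n18268 = n18061 := d22_1 D18268 (iv D18061) (iv F69529)
theorem F71631 : act 7 n18268 = n17671 := d31_2 (iv F69530) D18268 (iv D17671)
def n18269 : Q := act 4 n17669
theorem D18269 : act 4 n17669 = n18269 := rfl
theorem F71632 : act 1 n18269 = n17670 := d10_1 D18269 (iv D17670) D17669
theorem F71633 : act 2 n18269 = n17687 := d16_1 D18269 (iv D17687) (iv F69531)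
def n18270 : Q := act 3 n17670
theorem D18270 : act 3 n17670 = n18270 := rfl
theorem F71634 : act 2 n18270 = n17672 := d15_1 D18270 (iv D17672) F67475 (iv F67474) (iv F69533)
theorem F71635 : act 4 n18270 = n17698 := d21_2 D17670 D18270 (iv D17698) (iv D17116) (iv F67472)
def n18271 : Q := act 5 n17670
theorem D18271 : act 5 n17670 = n18271 := rfl
theorem F71636 : act 2 n18271 = n17671 := d17_1 D18271 (iv D17671) (iv F69533)
def n18272 : Q := act 6 n17671
theorem D18272 : act 6 n17671 = n18272 := rfl
theorem F71637 : act 1 n18272 = n17689 := d12_1 D18272 (iv D17689) (iv F69534)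
theorem F71638 : act 3 n18272 = n17674 := d23_1 D18272 (iv D17674) (iv F69535)
def n18273 : Q := act 5 n17672
theorem D18273 : act 5 n17672 = n18273 := rfl
theorem F71639 : act 3 n18273 = n17673 := d22_1 D18273 (iv D17673) D17672
def n18274 : Q := act 7 n17672
theorem D18274 : act 7 n17672 = n18274 := rfl
theorem F71640 : act 3 n18274 = n18067 := d24_1 D18274 (iv D18067) (iv D17461) (iv F67476) D17672
theorem F71641 : act 4 n18274 = n17699 := d28_1 D18274 (iv D17699) (iv F69536)
def n18275 : Q := act 6 n17673
theorem D18275 : act 6 n17673 = n18275 := rfl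
theorem F71642 : act 2 n18275 = n17674 := d18_1 D18275 (iv D17674) (iv F69537)
theorem F71643 : act 7 n18275 = n18068 := d33_2 (iv F69538) D18275 (iv D18068)
def n18276 : Q := act 4 n17675
theorem D18276 : act 4 n17675 = n18276 := rfl
theorem F71644 : act 0 n18276 = n17729 := d3_1 D18276 (iv D17729) (iv F69541)
theorem F71645 : act 2 n18276 = n17945 := d16_1 D18276 (iv D17945) (iv F69542)
theorem F71646 : act 3 n18276 = n17678 := d21_1 D18276 (iv D17678) (iv D17094) (iv F67481) D17675
theorem F71647 : act 7 n18276 = n18213 := d28_2 (iv F69544) D18276 (iv D18213)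
def n18277 : Q := act 2 n17676
theorem D18277 : act 2 n17676 = n18277 := rfl
theorem F71648 : act 0 n18277 = n17732 := d1_1 D18277 (iv D17732) (iv F69545)
theorem F71649 : act 3 n18277 = n17690 := d15_2 D17676 D18277 (iv D17690) (iv D17106) (iv F67484)
theorem F71650 : act 5 n18277 = n17679 := d17_2 (iv F69546) D18277 (iv D17679)
theorem F71651 : act 8 n18277 = n17677 := d20_2 (iv F69547) D18277 (iv D17677)
def n18278 : Q := act 4 n17676
theorem D18278 : act 4 n17676 = n18278 := rfl
theorem F71652 : act 0 n18278 = n17733 := d3_1 D18278 (iv D17733) (iv F69545)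
theorem F71653 : act 8 n18278 = n17678 := d29_2 (iv F69547) D18278 (iv D17678)
def n18279 : Q := act 4 n17677
theorem D18279 : act 4 n17677 = n18279 := rfl
theorem F71654 : act 0 n18279 = n17735 := d3_1 D18279 (iv D17735) (iv F69548)
theorem F71655 : act 2 n18279 = n17678 := d16_1 D18279 (iv D17678) D17677
theorem F71656 : act 3 n18279 = n17950 := d21_1 D18279 (iv D17950) F68439 (iv F67525) (iv F69549)
theorem F71657 : act 7 n18279 = n17684 := d28_2 (iv F69551) D18279 (iv D17684)
def n18280 : Q := act 5 n17678
theorem D18280 : act 5 n17678 = n18280 := rfl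
theorem F71658 : act 0 n18280 = n17736 := d4_1 D18280 (iv D17736) (iv F69552)
theorem F71659 : act 4 n18280 = n17683 := d26_1 D18280 (iv D17683) (iv D17097) (iv F67488) D17678
theorem F71660 : act 7 n18280 = n17685 := d31_2 (iv F69553) D18280 (iv D17685)
def n18281 : Q := act 1 n17679
theorem D18281 : act 1 n17679 = n18281 := rfl
theorem F71661 : act 3 n18281 = n17691 := d9_2 (iv F69555) D18281 (iv D17691)
theorem F71662 : act 8 n18281 = n17681 := d14_2 (iv F69556) D18281 (iv D17681)
def n18282 : Q := act 4 n17679
theorem D18282 : act 4 n17679 = n18282 := rfl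
theorem F71663 : act 0 n18282 = n17738 := d3_1 D18282 (iv D17738) (iv F69554)
theorem F71664 : act 2 n18282 = n17680 := d16_1 D18282 (iv D17680) D17679
theorem F71665 : act 8 n18282 = n17682 := d29_2 (iv F69556) D18282 (iv D17682)
def n18283 : Q := act 5 n17680
theorem D18283 : act 5 n17680 = n18283 := rfl
theorem F71666 : act 0 n18283 = n17739 := d4_1 D18283 (iv D17739) (iv F69557)
theorem F71667 : act 3 n18283 = n18075 := d22_1 D18283 (iv D18075) (iv F69558)
theorem F71668 : act 8 n18283 = n17683 := d32_2 (iv F69559) D18283 (iv D17683)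
def n18284 : Q := act 0 n17681
theorem D18284 : act 0 n17681 = n18284 := rfl
theorem F71669 : act 1 n18284 = n17740 := d0_2 D17681 D18284 (iv D17740) (iv D17149) (iv F67492)
theorem F71670 : act 3 n18284 = n17693 := d2_2 (iv F69560) D18284 (iv D17693)
theorem F71671 : act 5 n18284 = n17699 := d4_2 F71039 D18284 (iv F71036)
theorem F71672 : act 7 n18284 = n17686 := d6_2 (iv F69561) D18284 (iv D17686)
def n18285 : Q := act 4 n17681
theorem D18285 : act 4 n17681 = n18285 := rfl
theorem F71673 : act 1 n18285 = n17682 := d10_1 D18285 (iv D17682) D17681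
theorem F71674 : act 7 n18285 = n17687 := d28_2 (iv F69561) D18285 (iv D17687)
def n18286 : Q := act 3 n17682
theorem D18286 : act 3 n17682 = n18286 := rfl
theorem F71675 : act 0 n18286 = n17742 := d2_1 D18286 (iv D17742) (iv F69562)
theorem F71676 : act 2 n18286 = n18076 := d15_1 D18286 (iv D18076) F68890 (iv F67496) (iv F69563)
theorem F71677 : act 4 n18286 = n17695 := d21_2 D17682 D18286 (iv D17695) (iv D17111) (iv F67493)
theorem F71678 : act 6 n18286 = n18132 := d23_2 F71384 D18286 (iv F71383)
theorem F71679 : act 7 n18286 = n18109 := d24_2 (iv F69564) D18286 F71127 F70087 F68012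
def n18287 : Q := act 5 n17682
theorem D18287 : act 5 n17682 = n18287 := rfl
theorem F71680 : act 0 n18287 = n17743 := d4_1 D18287 (iv D17743) (iv F69562)
theorem F71681 : act 2 n18287 = n17683 := d17_1 D18287 (iv D17683) (iv F69563)
theorem F71682 : act 7 n18287 = n17688 := d31_2 (iv F69564) D18287 (iv D17688)
def n18288 : Q := act 6 n17683
theorem D18288 : act 6 n17683 = n18288 := rfl
theorem F71683 : act 0 n18288 = n17744 := d5_1 D18288 (iv D17744) (iv F69565)
theorem F71684 : act 3 n18288 = n18078 := d23_1 D18288 (iv D18078) (iv F69566)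
theorem F71685 : act 7 n18288 = n17689 := d33_2 (iv F69567) D18288 (iv D17689)
def n18289 : Q := act 5 n17684
theorem D18289 : act 5 n17684 = n18289 := rfl
theorem F71686 : act 0 n18289 = n17749 := d4_1 D18289 (iv D17749) (iv F69568)
theorem F71687 : act 2 n18289 = n17685 := d17_1 D18289 (iv D17685) (iv F69569)
theorem F71688 : act 4 n18289 = n17688 := d26_1 D18289 (iv D17688) (iv D17101) (iv F67500) D17684
def n18290 : Q := act 6 n17685
theorem D18290 : act 6 n17685 = n18290 := rfl
theorem F71689 : act 0 n18290 = n17750 := d5_1 D18290 (iv D17750) (iv F69570)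
theorem F71690 : act 4 n18290 = n17689 := d27_1 D18290 (iv D17689) (iv F69571)
def n18291 : Q := act 4 n17686
theorem D18291 : act 4 n17686 = n18291 := rfl
theorem F71691 : act 0 n18291 = n17687 := d3_1 D18291 (iv D17687) D17686
theorem F71692 : act 1 n18291 = n17751 := d10_1 D18291 (iv D17751) (iv F69572)
def n18292 : Q := act 5 n17687
theorem D18292 : act 5 n17687 = n18292 := rfl
theorem F71693 : act 1 n18292 = n17688 := d11_1 D18292 (iv D17688) (iv F69575)
def n18293 : Q := act 6 n17688
theorem D18293 : act 6 n17688 = n18293 := rfl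
theorem F71694 : act 0 n18293 = n17753 := d5_1 D18293 (iv D17753) (iv F69576)
theorem F71695 : act 2 n18293 = n17689 := d18_1 D18293 (iv D17689) (iv F69577)
def n18294 : Q := act 0 n17691
theorem D18294 : act 0 n17691 = n18294 := rfl
theorem F71696 : act 1 n18294 = n17758 := d0_2 D17691 D18294 (iv D17758) (iv D17168) (iv F67528)
theorem F71697 : act 2 n18294 = n18294 := d1_2 F69585 D18294 (iv D18294)
theorem F71698 : act 5 n18294 = n17700 := d4_2 F71046 D18294 (iv F71042)
theorem F71699 : act 7 n18294 = n18294 := d6_2 F69586 D18294 (iv D18294)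
theorem F71700 : act 8 n18294 = n17693 := d7_2 (iv F69587) D18294 (iv D17693)
def n18295 : Q := act 4 n17691
theorem D18295 : act 4 n17691 = n18295 := rfl
theorem F71701 : act 1 n18295 = n17692 := d10_1 D18295 (iv D17692) D17691
theorem F71702 : act 2 n18295 = n18295 := d16_1 D18295 (iv D18295) F69585
theorem F71703 : act 5 n18295 = n17972 := d26_2 F71046 D18295 (iv D17972) (iv F70608) (iv F71045)
theorem F71704 : act 6 n18295 = n18236 := d27_2 F71499 D18295 F71533
theorem F71705 : act 7 n18295 = n18295 := d28_2 F69586 D18295 (iv D18295)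
theorem F71706 : act 8 n18295 = n17694 := d29_2 (iv F69587) D18295 (iv D17694)
def n18296 : Q := act 3 n17692
theorem D18296 : act 3 n17692 = n18296 := rfl
theorem F71707 : act 0 n18296 = n17760 := d2_1 D18296 (iv D17760) (iv F69588)
theorem F71708 : act 2 n18296 = n18083 := d15_1 D18296 (iv D18083) F68918 (iv F67533) (iv F69589)
theorem F71709 : act 5 n18296 = n17973 := d22_2 (iv F69590) D18296 (iv D17973)
theorem F71710 : act 6 n18296 = n18129 := d23_2 (iv F69591) D18296 F71203
theorem F71711 : act 8 n18296 = n17695 := d25_2 (iv F69593) D18296 (iv D17695)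
def n18297 : Q := act 4 n17693
theorem D18297 : act 4 n17693 = n18297 := rfl
theorem F71712 : act 0 n18297 = n17694 := d3_1 D18297 (iv D17694) D17693
theorem F71713 : act 1 n18297 = n17761 := d10_1 D18297 (iv D17761) (iv F69594)
theorem F71714 : act 2 n18297 = n18297 := d16_1 D18297 (iv D18297) F69595
theorem F71715 : act 5 n18297 = n17974 := d26_2 (iv F69596) D18297 (iv D17974) F68511 (iv F67564)
theorem F71716 : act 6 n18297 = n18237 := d27_2 F70596 D18297 F71538
theorem F71717 : act 7 n18297 = n17696 := d28_2 (iv F69597) D18297 (iv D17696)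
def n18298 : Q := act 3 n17694
theorem D18298 : act 3 n17694 = n18298 := rfl
theorem F71718 : act 1 n18298 = n17695 := d9_1 D18298 (iv D17695) (iv F69598)
theorem F71719 : act 5 n18298 = n17975 := d22_2 (iv F69600) D18298 (iv D17975)
theorem F71720 : act 6 n18298 = n18131 := d23_2 (iv F69601) D18298 F71207
theorem F71721 : act 7 n18298 = n18108 := d24_2 (iv F69602) D18298 F71122 F69026 (iv F67552)
def n18299 : Q := act 7 n17697
theorem D18299 : act 7 n17697 = n18299 := rfl
theorem F71722 : act 3 n18299 = n18299 := d24_1 D18299 (iv D18299) (iv D17697) F67557 D17697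
def n18300 : Q := act 7 n17698
theorem D18300 : act 7 n17698 = n18300 := rfl
theorem F71723 : act 2 n18300 = n17699 := d19_1 D18300 (iv D17699) (iv F69616)
theorem F71724 : act 3 n18300 = n18300 := d24_1 D18300 (iv D18300) (iv D17698) F67562 D17698
def n18301 : Q := act 8 n17699
theorem D18301 : act 8 n17699 = n18301 := rfl
theorem F71725 : act 1 n18301 = n18164 := d14_1 D18301 F71305 F70130
theorem F71726 : act 3 n18301 = n17700 := d25_1 D18301 (iv D17700) (iv F69617)
def n18302 : Q := act 2 n17701
theorem D18302 : act 2 n17701 = n18302 := rfl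
theorem F71727 : act 0 n18302 = n18238 := d1_1 D18302 (iv D18238) (iv F69622)
theorem F71728 : act 3 n18302 = n18302 := d15_2 D17701 D18302 (iv D18302) (iv D17701) F67567
theorem F71729 : act 5 n18302 = n17703 := d17_2 (iv F69624) D18302 (iv D17703)
theorem F71730 : act 6 n18302 = n17998 := d18_2 (iv F69625) D18302 (iv D17998)
theorem F71731 : act 7 n18302 = n17706 := d19_2 (iv F69626) D18302 (iv D17706)
def n18303 : Q := act 4 n17701
theorem D18303 : act 4 n17701 = n18303 := rfl
theorem F71732 : act 0 n18303 = n18239 := d3_1 D18303 (iv D18239) (iv F69622)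
theorem F71733 : act 1 n18303 = n17992 := d10_1 D18303 (iv D17992) (iv F69623)
theorem F71734 : act 3 n18303 = n17991 := d21_1 D18303 (iv D17991) (iv D17394) (iv F67568) D17701
theorem F71735 : act 6 n18303 = n17999 := d27_2 (iv F69625) D18303 (iv D17999)
theorem F71736 : act 7 n18303 = n17707 := d28_2 (iv F69626) D18303 (iv D17707)
def n18304 : Q := act 2 n17702
theorem D18304 : act 2 n17702 = n18304 := rfl
theorem F71737 : act 3 n18304 = n18304 := d15_2 D17702 D18304 (iv D18304) (iv D17702) F67571
theorem F71738 : act 7 n18304 = n18129 := d19_2 (iv F69627) D18304 (iv D18129)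
theorem F71739 : act 8 n18304 = n17703 := d20_2 (iv F69628) D18304 (iv D17703)
def n18305 : Q := act 4 n17702
theorem D18305 : act 4 n17702 = n18305 := rfl
theorem F71740 : act 3 n18305 = n17721 := d21_1 D18305 (iv D17721) (iv D17134) (iv F67572) D17702
theorem F71741 : act 7 n18305 = n18130 := d28_2 (iv F69627) D18305 (iv D18130)
theorem F71742 : act 8 n18305 = n17704 := d29_2 (iv F69628) D18305 (iv D17704)
def n18306 : Q := act 1 n17703
theorem D18306 : act 1 n17703 = n18306 := rfl
theorem F71743 : act 2 n18306 = n18298 := d8_2 D17703 D18306 F71718 F69604 F68924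
theorem F71744 : act 3 n18306 = n18306 := d9_2 F69629 D18306 (iv D18306)
theorem F71745 : act 7 n18306 = n17708 := d13_2 (iv F69630) D18306 (iv D17708)
def n18307 : Q := act 4 n17703
theorem D18307 : act 4 n17703 = n18307 := rfl
theorem F71746 : act 2 n18307 = n17704 := d16_1 D18307 (iv D17704) D17703
theorem F71747 : act 7 n18307 = n17709 := d28_2 (iv F69630) D18307 (iv D17709)
def n18308 : Q := act 5 n17704
theorem D18308 : act 5 n17704 = n18308 := rfl
theorem F71748 : act 3 n18308 = n17723 := d22_1 D18308 (iv D17723) (iv F69631)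
theorem F71749 : act 7 n18308 = n17710 := d31_2 (iv F69632) D18308 (iv D17710)
def n18309 : Q := act 2 n17705
theorem D18309 : act 2 n17705 = n18309 := rfl
theorem F71750 : act 3 n18309 = n17712 := d15_2 D17705 D18309 (iv D17712) (iv D17127) (iv F67576)
theorem F71751 : act 5 n18309 = n18230 := d17_2 F70747 D18309 F71503
theorem F71752 : act 6 n18309 = n17706 := d18_2 (iv F69634) D18309 (iv D17706)
theorem F71753 : act 7 n18309 = n17998 := d19_2 (iv F69635) D18309 (iv D17998)
theorem F71754 : act 8 n18309 = n18134 := d20_2 (iv F69636) D18309 (iv D18134)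
def n18310 : Q := act 4 n17705
theorem D18310 : act 4 n17705 = n18310 := rfl
theorem F71755 : act 1 n18310 = n18003 := d10_1 D18310 (iv D18003) (iv F69633)
theorem F71756 : act 3 n18310 = n18019 := d21_1 D18310 (iv D18019) (iv D17418) (iv F67577) D17705
theorem F71757 : act 6 n18310 = n17707 := d27_2 (iv F69634) D18310 (iv D17707)
theorem F71758 : act 7 n18310 = n17999 := d28_2 (iv F69635) D18310 (iv D17999)
theorem F71759 : act 8 n18310 = n18135 := d29_2 (iv F69636) D18310 (iv D18135)
def n18311 : Q := act 1 n17706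
theorem D18311 : act 1 n17706 = n18311 := rfl
theorem F71760 : act 2 n18311 = n17762 := d8_2 D17706 D18311 F69784 F67696 (iv F67580)
theorem F71761 : act 3 n18311 = n17713 := d9_2 (iv F69637) D18311 (iv D17713)
theorem F71762 : act 5 n18311 = n17708 := d11_2 (iv F69638) D18311 (iv D17708)
theorem F71763 : act 8 n18311 = n18136 := d14_2 (iv F69639) D18311 (iv D18136)
def n18312 : Q := act 4 n17706
theorem D18312 : act 4 n17706 = n18312 := rfl
theorem F71764 : act 2 n18312 = n17707 := d16_1 D18312 (iv D17707) D17706
theorem F71765 : act 8 n18312 = n18137 := d29_2 (iv F69639) D18312 (iv D18137)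
def n18313 : Q := act 5 n17707
theorem D18313 : act 5 n17707 = n18313 := rfl
theorem F71766 : act 1 n18313 = n18222 := d11_1 D18313 (iv D18222) (iv F69640)
theorem F71767 : act 3 n18313 = n18221 := d22_1 D18313 (iv D18221) (iv F69641)
theorem F71768 : act 4 n18313 = n17710 := d26_1 D18313 (iv D17710) (iv D17125) (iv F67581) D17707
theorem F71769 : act 8 n18313 = n18138 := d32_2 (iv F69642) D18313 (iv D18138)
def n18314 : Q := act 0 n17708
theorem D18314 : act 0 n17708 = n18314 := rfl
theorem F71770 : act 3 n18314 = n17715 := d2_2 (iv F69643) D18314 (iv D17715)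
theorem F71771 : act 8 n18314 = n18139 := d7_2 (iv F69644) D18314 (iv D18139)
def n18315 : Q := act 4 n17708
theorem D18315 : act 4 n17708 = n18315 := rfl
theorem F71772 : act 1 n18315 = n17709 := d10_1 D18315 (iv D17709) D17708
theorem F71773 : act 8 n18315 = n18140 := d29_2 (iv F69644) D18315 (iv D18140)
def n18316 : Q := act 5 n17709
theorem D18316 : act 5 n17709 = n18316 := rfl
theorem F71774 : act 2 n18316 = n17710 := d17_1 D18316 (iv D17710) (iv F69645)
theorem F71775 : act 8 n18316 = n18141 := d32_2 (iv F69646) D18316 (iv D18141)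
def n18317 : Q := act 6 n17710
theorem D18317 : act 6 n17710 = n18317 := rfl
theorem F71776 : act 3 n18317 = n17711 := d23_1 D18317 (iv D17711) (iv F69647)
theorem F71777 : act 8 n18317 = n18142 := d34_2 (iv F69648) D18317 (iv D18142)
def n18318 : Q := act 0 n17713
theorem D18318 : act 0 n17713 = n18318 := rfl
theorem F71778 : act 2 n18318 = n17763 := d1_2 (iv F69655) D18318 (iv D17763)
theorem F71779 : act 4 n18318 = n18234 := d3_2 F69659 D18318 F71523
theorem F71780 : act 5 n18318 = n17715 := d4_2 (iv F69656) D18318 (iv D17715)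
theorem F71781 : act 6 n18318 = n18251 := d5_2 F69662 D18318 F71583
theorem F71782 : act 7 n18318 = n18318 := d6_2 F69657 D18318 (iv D18318)
theorem F71783 : act 8 n18318 = n18143 := d7_2 (iv F69658) D18318 (iv D18143)
def n18319 : Q := act 3 n17714
theorem D18319 : act 3 n17714 = n18319 := rfl
theorem F71784 : act 1 n18319 = n18309 := d9_1 D18319 F71750 (iv F69660)
theorem F71785 : act 2 n18319 = n18231 := d15_1 D18319 (iv D18231) F69402 (iv F67598) (iv F69661)
theorem F71786 : act 6 n18319 = n18311 := d23_2 (iv F69662) D18319 F71761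
theorem F71787 : act 8 n18319 = n18144 := d25_2 (iv F69664) D18319 (iv D18144)
def n18320 : Q := act 2 n17716
theorem D18320 : act 2 n17716 = n18320 := rfl
theorem F71788 : act 0 n18320 = n17894 := d1_1 D18320 (iv D17894) (iv F69668)
theorem F71789 : act 1 n18320 = n18092 := d8_1 D18320 (iv D18092) F68967 (iv F68609) (iv F69669)
theorem F71790 : act 3 n18320 = n18320 := d15_2 D17716 D18320 (iv D18320) (iv D17716) F67606
theorem F71791 : act 5 n18320 = n17990 := d17_2 (iv F69670) D18320 (iv D17990)
theorem F71792 : act 6 n18320 = n18030 := d18_2 (iv F69671) D18320 (iv D18030)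
theorem F71793 : act 7 n18320 = n17801 := d19_2 (iv F69672) D18320 (iv D17801)
def n18321 : Q := act 4 n17716
theorem D18321 : act 4 n17716 = n18321 := rfl
theorem F71794 : act 0 n18321 = n17895 := d3_1 D18321 (iv D17895) (iv F69668)
theorem F71795 : act 1 n18321 = n17989 := d10_1 D18321 (iv D17989) (iv F69669)
theorem F71796 : act 3 n18321 = n17719 := d21_1 D18321 (iv D17719) (iv D17133) (iv F67607) D17716
theorem F71797 : act 6 n18321 = n18031 := d27_2 (iv F69671) D18321 (iv D18031)
theorem F71798 : act 7 n18321 = n17802 := d28_2 (iv F69672) D18321 (iv D17802)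
def n18322 : Q := act 2 n17717
theorem D18322 : act 2 n17717 = n18322 := rfl
theorem F71799 : act 3 n18322 = n18322 := d15_2 D17717 D18322 (iv D18322) (iv D17717) F67610
theorem F71800 : act 5 n18322 = n17720 := d17_2 (iv F69673) D18322 (iv D17720)
theorem F71801 : act 7 n18322 = n17732 := d19_2 (iv F69674) D18322 (iv D17732)
theorem F71802 : act 8 n18322 = n17718 := d20_2 (iv F69675) D18322 (iv D17718)
def n18323 : Q := act 4 n17717
theorem D18323 : act 4 n17717 = n18323 := rfl
theorem F71803 : act 7 n18323 = n17733 := d28_2 (iv F69674) D18323 (iv D17733)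
theorem F71804 : act 8 n18323 = n17719 := d29_2 (iv F69675) D18323 (iv D17719)
def n18324 : Q := act 4 n17718
theorem D18324 : act 4 n17718 = n18324 := rfl
theorem F71805 : act 2 n18324 = n17719 := d16_1 D18324 (iv D17719) D17718
theorem F71806 : act 7 n18324 = n17724 := d28_2 (iv F69678) D18324 (iv D17724)
def n18325 : Q := act 5 n17719
theorem D18325 : act 5 n17719 = n18325 := rfl
theorem F71807 : act 4 n18325 = n17723 := d26_1 D18325 (iv D17723) (iv D17136) (iv F67613) D17719
theorem F71808 : act 7 n18325 = n17725 := d31_2 (iv F69679) D18325 (iv D17725)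
def n18326 : Q := act 4 n17720
theorem D18326 : act 4 n17720 = n18326 := rfl
theorem F71809 : act 2 n18326 = n17721 := d16_1 D18326 (iv D17721) D17720
theorem F71810 : act 7 n18326 = n17738 := d28_2 (iv F69681) D18326 (iv D17738)
theorem F71811 : act 8 n18326 = n17722 := d29_2 (iv F69682) D18326 (iv D17722)
def n18327 : Q := act 5 n17721
theorem D18327 : act 5 n17721 = n18327 := rfl
theorem F71812 : act 7 n18327 = n17739 := d31_2 (iv F69683) D18327 (iv D17739)
theorem F71813 : act 8 n18327 = n17723 := d32_2 (iv F69684) D18327 (iv D17723)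
def n18328 : Q := act 3 n17722
theorem D18328 : act 3 n17722 = n18328 := rfl
theorem F71814 : act 4 n18328 = n18328 := d21_2 D17722 D18328 (iv D18328) (iv D17722) F67617
def n18329 : Q := act 5 n17722
theorem D18329 : act 5 n17722 = n18329 := rfl
theorem F71815 : act 2 n18329 = n17723 := d17_1 D18329 (iv D17723) (iv F69685)
theorem F71816 : act 7 n18329 = n17726 := d31_2 (iv F69686) D18329 (iv D17726)
def n18330 : Q := act 6 n17723
theorem D18330 : act 6 n17723 = n18330 := rfl
theorem F71817 : act 7 n18330 = n17727 := d33_2 (iv F69687) D18330 (iv D17727)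
def n18331 : Q := act 5 n17724
theorem D18331 : act 5 n17724 = n18331 := rfl
theorem F71818 : act 2 n18331 = n17725 := d17_1 D18331 (iv D17725) (iv F69688)
theorem F71819 : act 4 n18331 = n17726 := d26_1 D18331 (iv D17726) (iv D17139) (iv F67621) D17724
theorem F71820 : act 8 n18331 = n17749 := d32_2 (iv F69689) D18331 (iv D17749)
def n18332 : Q := act 6 n17725
theorem D18332 : act 6 n17725 = n18332 := rfl
theorem F71821 : act 4 n18332 = n17727 := d27_1 D18332 (iv D17727) (iv F69690)
theorem F71822 : act 8 n18332 = n17750 := d34_2 (iv F69691) D18332 (iv D17750)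
def n18333 : Q := act 6 n17726
theorem D18333 : act 6 n17726 = n18333 := rfl
theorem F71823 : act 2 n18333 = n17727 := d18_1 D18333 (iv D17727) (iv F69692)
theorem F71824 : act 8 n18333 = n17753 := d34_2 (iv F69693) D18333 (iv D17753)
def n18334 : Q := act 4 n17728
theorem D18334 : act 4 n17728 = n18334 := rfl
theorem F71825 : act 0 n18334 = n17945 := d3_1 D18334 (iv D17945) (iv F69696)
theorem F71826 : act 2 n18334 = n17729 := d16_1 D18334 (iv D17729) D17728
theorem F71827 : act 3 n18334 = n17823 := d21_1 D18334 (iv D17823) (iv D17232) (iv F67660) (iv F69697)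
theorem F71828 : act 7 n18334 = n18069 := d28_2 (iv F69699) D18334 (iv D18069)
def n18335 : Q := act 5 n17729
theorem D18335 : act 5 n17729 = n18335 := rfl
theorem F71829 : act 3 n18335 = n17736 := d22_1 D18335 (iv D17736) (iv F69700)
theorem F71830 : act 4 n18335 = n18214 := d26_1 D18335 (iv D18214) (iv D17603) (iv F67629) D17729
def n18336 : Q := act 4 n17730
theorem D18336 : act 4 n17730 = n18336 := rfl
theorem F71831 : act 2 n18336 = n17731 := d16_1 D18336 (iv D17731) D17730
theorem F71832 : act 6 n18336 = n17735 := d27_2 (iv F69702) D18336 (iv D17735)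
theorem F71833 : act 7 n18336 = n17745 := d28_2 (iv F69703) D18336 (iv D17745)
def n18337 : Q := act 5 n17731
theorem D18337 : act 5 n17731 = n18337 := rfl
theorem F71834 : act 7 n18337 = n17746 := d31_2 (iv F69705) D18337 (iv D17746)
def n18338 : Q := act 1 n17732
theorem D18338 : act 1 n17732 = n18338 := rfl
theorem F71835 : act 2 n18338 = n18023 := d8_2 D17732 D18338 (iv F70823) F70824 F69200
theorem F71836 : act 3 n18338 = n17755 := d9_2 (iv F69706) D18338 (iv D17755)
theorem F71837 : act 5 n18338 = n17737 := d11_2 (iv F69707) D18338 (iv D17737)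
theorem F71838 : act 8 n18338 = n17734 := d14_2 (iv F69708) D18338 (iv D17734)
theorem F71839 : act 0 n18164 = n18338 := d7_3 F71838 (iv F70129) (iv F71305)
def n18339 : Q := act 4 n17732
theorem D18339 : act 4 n17732 = n18339 := rfl
theorem F71840 : act 2 n18339 = n17733 := d16_1 D18339 (iv D17733) D17732
theorem F71841 : act 8 n18339 = n17735 := d29_2 (iv F69708) D18339 (iv D17735)
def n18340 : Q := act 5 n17733
theorem D18340 : act 5 n17733 = n18340 := rfl
theorem F71842 : act 4 n18340 = n17739 := d26_1 D18340 (iv D17739) (iv D17148) (iv F67632) D17733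
theorem F71843 : act 8 n18340 = n17736 := d32_2 (iv F69709) D18340 (iv D17736)
def n18341 : Q := act 4 n17734
theorem D18341 : act 4 n17734 = n18341 := rfl
theorem F71844 : act 1 n18341 = n17735 := d10_1 D18341 (iv D17735) D17734
theorem F71845 : act 3 n18341 = n18336 := d21_1 D18341 (iv D18336) F69701 F67677 (iv F69710)
theorem F71846 : act 7 n18341 = n17747 := d28_2 (iv F69712) D18341 (iv D17747)
def n18342 : Q := act 3 n17735
theorem D18342 : act 3 n17735 = n18342 := rfl
theorem F71847 : act 0 n18342 = n17950 := d2_1 D18342 (iv F71656) F71654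
theorem F71848 : act 1 n18342 = n18336 := d9_1 D18342 (iv F71845) F71844
theorem F71849 : act 2 n18342 = n17823 := d15_1 D18342 (iv F71827) F71826 F69700 (iv F69713)
theorem F71850 : act 4 n18342 = n17757 := d21_2 D17735 D18342 (iv D17757) (iv D17167) (iv F67634)
theorem F71851 : act 6 n18342 = n18341 := d23_2 F71832 D18342 F71845
theorem F71852 : act 7 n17830 = n18342 := d33_0 F71851 F71846 (iv F70099)
def n18343 : Q := act 5 n17735
theorem D18343 : act 5 n17735 = n18343 := rfl
theorem F71853 : act 2 n18343 = n17736 := d17_1 D18343 (iv D17736) (iv F69713)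
theorem F71854 : act 4 n18343 = n17743 := d26_1 D18343 (iv D17743) (iv D17150) (iv F67635) D17735
theorem F71855 : act 7 n18343 = n17749 := d31_2 (iv F69714) D18343 (iv D17749)
def n18344 : Q := act 6 n17736
theorem D18344 : act 6 n17736 = n18344 := rfl
theorem F71856 : act 4 n18344 = n17744 := d27_1 D18344 (iv D17744) (iv F69715)
theorem F71857 : act 7 n18344 = n17750 := d33_2 (iv F69716) D18344 (iv D17750)
def n18345 : Q := act 0 n17737
theorem D18345 : act 0 n17737 = n18345 := rfl
theorem F71858 : act 2 n18345 = n18125 := d1_2 F70183 D18345 F71186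
theorem F71859 : act 3 n18345 = n17758 := d2_2 (iv F69717) D18345 (iv D17758)
theorem F71860 : act 5 n18345 = n18164 := d4_2 F71837 D18345 F71839
theorem F71861 : act 8 n18345 = n17740 := d7_2 (iv F69718) D18345 (iv D17740)
def n18346 : Q := act 4 n17737
theorem D18346 : act 4 n17737 = n18346 := rfl
theorem F71862 : act 1 n18346 = n17738 := d10_1 D18346 (iv D17738) D17737
theorem F71863 : act 8 n18346 = n17741 := d29_2 (iv F69718) D18346 (iv D17741)
def n18347 : Q := act 3 n17738
theorem D18347 : act 3 n17738 = n18347 := rfl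
theorem F71864 : act 2 n18347 = n18120 := d15_1 D18347 F71170 F69324 (iv F67640) (iv F69719)
theorem F71865 : act 4 n18347 = n17760 := d21_2 D17738 D18347 (iv D17760) (iv D17169) (iv F67638)
theorem F71866 : act 8 n18347 = n17742 := d25_2 (iv F69720) D18347 (iv D17742)
def n18348 : Q := act 5 n17738
theorem D18348 : act 5 n17738 = n18348 := rfl
theorem F71867 : act 2 n18348 = n17739 := d17_1 D18348 (iv D17739) (iv F69719)
theorem F71868 : act 8 n18348 = n17743 := d32_2 (iv F69720) D18348 (iv D17743)
def n18349 : Q := act 6 n17739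
theorem D18349 : act 6 n17739 = n18349 := rfl
theorem F71869 : act 3 n18349 = n18220 := d23_1 D18349 (iv D18220) (iv F69721)
theorem F71870 : act 8 n18349 = n17744 := d34_2 (iv F69722) D18349 (iv D17744)
def n18350 : Q := act 4 n17740
theorem D18350 : act 4 n17740 = n18350 := rfl
theorem F71871 : act 0 n18350 = n17741 := d3_1 D18350 (iv D17741) D17740
theorem F71872 : act 7 n18350 = n17751 := d28_2 (iv F69724) D18350 (iv D17751)
def n18351 : Q := act 3 n17741
theorem D18351 : act 3 n17741 = n18351 := rfl
theorem F71873 : act 1 n18351 = n17742 := d9_1 D18351 (iv D17742) (iv F69725)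
theorem F71874 : act 4 n18351 = n17762 := d21_2 D17741 D18351 (iv D17762) (iv D17171) (iv F67642)
def n18352 : Q := act 5 n17741
theorem D18352 : act 5 n17741 = n18352 := rfl
theorem F71875 : act 1 n18352 = n17743 := d11_1 D18352 (iv D17743) (iv F69725)
theorem F71876 : act 7 n18352 = n17752 := d31_2 (iv F69726) D18352 (iv D17752)
def n18353 : Q := act 5 n17742
theorem D18353 : act 5 n17742 = n18353 := rfl
theorem F71877 : act 2 n18353 = n18222 := d17_1 D18353 (iv D18222) (iv F69727)
theorem F71878 : act 3 n18353 = n17743 := d22_1 D18353 (iv D17743) D17742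
def n18354 : Q := act 6 n17743
theorem D18354 : act 6 n17743 = n18354 := rfl
theorem F71879 : act 2 n18354 = n17744 := d18_1 D18354 (iv D17744) (iv F69729)
theorem F71880 : act 7 n18354 = n17753 := d33_2 (iv F69730) D18354 (iv D17753)
def n18355 : Q := act 5 n17745
theorem D18355 : act 5 n17745 = n18355 := rfl
theorem F71881 : act 2 n18355 = n17746 := d17_1 D18355 (iv D17746) (iv F69733)
def n18356 : Q := act 6 n17746
theorem D18356 : act 6 n17746 = n18356 := rfl
theorem F71882 : act 5 n18356 = n17750 := d30_1 D18356 (iv D17750) (iv D17156) (iv F67650) D17746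
def n18357 : Q := act 5 n17747
theorem D18357 : act 5 n17747 = n18357 := rfl
theorem F71883 : act 1 n18357 = n17749 := d11_1 D18357 (iv D17749) (iv F69735)
theorem F71884 : act 4 n18357 = n17752 := d26_1 D18357 (iv D17752) (iv D17158) (iv F67652) D17747
def n18358 : Q := act 5 n17748
theorem D18358 : act 5 n17748 = n18358 := rfl
theorem F71885 : act 3 n18358 = n17749 := d22_1 D18358 (iv D17749) D17748
def n18359 : Q := act 7 n17748
theorem D18359 : act 7 n17748 = n18359 := rfl
theorem F71886 : act 0 n18359 = n17805 := d6_1 D18359 (iv F70654) F70649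
theorem F71887 : act 1 n18359 = n17982 := d13_1 D18359 F70670 F70024
theorem F71888 : act 2 n18359 = n17804 := d19_1 D18359 F69990 F69968
theorem F71889 : act 3 n18359 = n17830 := d24_1 D18359 F71852 (iv D18342) F69714 D17748
theorem F71890 : act 4 n18359 = n17754 := d28_1 D18359 (iv D17754) (iv F69736)
theorem F71891 : act 6 n18359 = n17812 := d33_1 D18359 (iv F70670) F70669
theorem F71892 : act 8 n18098 = n18359 := d29_0 F71890 (iv F69749) D18098
def n18360 : Q := act 6 n17749
theorem D18360 : act 6 n17749 = n18360 := rfl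
theorem F71893 : act 2 n18360 = n17750 := d18_1 D18360 (iv D17750) (iv F69737)
theorem F71894 : act 4 n18360 = n17753 := d27_1 D18360 (iv D17753) (iv F69738)
def n18361 : Q := act 5 n17751
theorem D18361 : act 5 n17751 = n18361 := rfl
theorem F71895 : act 0 n18361 = n17752 := d4_1 D18361 (iv D17752) (iv F69740)
def n18362 : Q := act 6 n17752
theorem D18362 : act 6 n17752 = n18362 := rfl
theorem F71896 : act 1 n18362 = n17753 := d12_1 D18362 (iv D17753) (iv F69741)
def n18363 : Q := act 3 n17756
theorem D18363 : act 3 n17756 = n18363 := rfl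
theorem F71897 : act 0 n18363 = n17947 := d2_1 D18363 F70550 (iv F69756)
theorem F71898 : act 1 n18363 = n18173 := d9_1 D18363 F71325 (iv F69757)
theorem F71899 : act 2 n18363 = n17822 := d15_1 D18363 (iv D17822) F67978 (iv F67670) (iv F69758)
theorem F71900 : act 5 n18363 = n17824 := d22_2 (iv F69759) D18363 F70073
theorem F71901 : act 6 n18363 = n18338 := d23_2 (iv F69760) D18363 F71836
theorem F71902 : act 8 n18363 = n17757 := d25_2 (iv F69762) D18363 (iv D17757)
def n18364 : Q := act 4 n17758
theorem D18364 : act 4 n17758 = n18364 := rfl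
theorem F71903 : act 0 n18364 = n17759 := d3_1 D18364 (iv D17759) D17758
theorem F71904 : act 2 n18364 = n17764 := d16_1 D18364 (iv D17764) (iv F69769)
theorem F71905 : act 5 n18364 = n18227 := d26_2 (iv F69770) D18364 (iv F71492) F71493 F70695
theorem F71906 : act 7 n18364 = n18364 := d28_2 F69771 D18364 (iv D18364)
theorem F71907 : act 8 n18364 = n17761 := d29_2 (iv F69772) D18364 (iv D17761)
def n18365 : Q := act 3 n17759
theorem D18365 : act 3 n17759 = n18365 := rfl
theorem F71908 : act 1 n18365 = n17760 := d9_1 D18365 (iv D17760) (iv F69773)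
theorem F71909 : act 2 n18365 = n18136 := d15_1 D18365 F71221 F69101 (iv F67729) (iv F69774)
theorem F71910 : act 5 n18365 = n18121 := d22_2 (iv F69775) D18365 F71173
theorem F71911 : act 8 n18365 = n17762 := d25_2 (iv F69777) D18365 (iv D17762)
def n18366 : Q := act 7 n17760
theorem D18366 : act 7 n17760 = n18366 := rfl
theorem F71912 : act 2 n18366 = n18116 := d19_1 D18366 F71154 (iv F69778)
theorem F71913 : act 3 n18366 = n18366 := d24_1 D18366 (iv D18366) (iv D17760) F67688 D17760
theorem F71914 : act 5 n18366 = n18118 := d31_1 D18366 F71164 (iv F69779)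
def n18367 : Q := act 3 n17761
theorem D18367 : act 3 n17761 = n18367 := rfl
theorem F71915 : act 0 n18367 = n17762 := d2_1 D18367 (iv D17762) (iv F69781)
def n18368 : Q := act 2 n17765
theorem D18368 : act 2 n17765 = n18368 := rfl
theorem F71916 : act 0 n18368 = n17767 := d1_1 D18368 (iv D17767) (iv F69798)
theorem F71917 : act 1 n18368 = n18030 := d8_1 D18368 (iv D18030) (iv F68996) F68997 (iv F69799)
theorem F71918 : act 3 n18368 = n18368 := d15_2 D17765 D18368 (iv D18368) (iv D17765) F67738
theorem F71919 : act 5 n18368 = n17995 := d17_2 (iv F69800) D18368 (iv D17995)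
theorem F71920 : act 6 n18368 = n18092 := d18_2 (iv F69801) D18368 (iv D18092)
theorem F71921 : act 7 n18368 = n17784 := d19_2 (iv F69802) D18368 (iv D17784)
theorem F71922 : act 8 n18368 = n18320 := d20_2 (iv F69803) D18368 (iv D18320)
def n18369 : Q := act 4 n17765
theorem D18369 : act 4 n17765 = n18369 := rfl
theorem F71923 : act 0 n18369 = n17768 := d3_1 D18369 (iv D17768) (iv F69798)
theorem F71924 : act 1 n18369 = n17843 := d10_1 D18369 (iv D17843) (iv F69799)
theorem F71925 : act 3 n18369 = n18323 := d21_1 D18369 (iv D18323) (iv D17717) (iv F67739) D17765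
theorem F71926 : act 6 n18369 = n18093 := d27_2 (iv F69801) D18369 (iv D18093)
theorem F71927 : act 7 n18369 = n17785 := d28_2 (iv F69802) D18369 (iv D17785)
theorem F71928 : act 8 n18369 = n18321 := d29_2 (iv F69803) D18369 (iv D18321)
def n18370 : Q := act 2 n17766
theorem D18370 : act 2 n17766 = n18370 := rfl
theorem F71929 : act 0 n18370 = n18322 := d1_1 D18370 (iv D18322) (iv F69804)
theorem F71930 : act 3 n18370 = n18370 := d15_2 D17766 D18370 (iv D18370) (iv D17766) F67745
theorem F71931 : act 5 n18370 = n18256 := d17_2 (iv F69806) D18370 (iv D18256)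
theorem F71932 : act 6 n18370 = n17933 := d18_2 (iv F69807) D18370 (iv D17933)
theorem F71933 : act 7 n18370 = n18277 := d19_2 (iv F69808) D18370 (iv D18277)
theorem F71934 : act 8 n18370 = n17900 := d20_2 (iv F69809) D18370 (iv D17900)
def n18371 : Q := act 4 n17766
theorem D18371 : act 4 n17766 = n18371 := rfl
theorem F71935 : act 0 n18371 = n18323 := d3_1 D18371 (iv D18323) (iv F69804)
theorem F71936 : act 1 n18371 = n17772 := d10_1 D18371 (iv D17772) (iv F69805)
theorem F71937 : act 3 n18371 = n17768 := d21_1 D18371 (iv D17768) (iv D17183) (iv F67746) D17766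
theorem F71938 : act 6 n18371 = n17934 := d27_2 (iv F69807) D18371 (iv D17934)
theorem F71939 : act 7 n18371 = n18278 := d28_2 (iv F69808) D18371 (iv D18278)
theorem F71940 : act 8 n18371 = n17901 := d29_2 (iv F69809) D18371 (iv D17901)
def n18372 : Q := act 4 n17767
theorem D18372 : act 4 n17767 = n18372 := rfl
theorem F71941 : act 1 n18372 = n18240 := d10_1 D18372 (iv D18240) (iv F69810)
theorem F71942 : act 2 n18372 = n17768 := d16_1 D18372 (iv D17768) D17767
theorem F71943 : act 7 n18372 = n17788 := d28_2 (iv F69813) D18372 (iv D17788)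
def n18373 : Q := act 5 n17768
theorem D18373 : act 5 n17768 = n18373 := rfl
theorem F71944 : act 1 n18373 = n17773 := d11_1 D18373 (iv D17773) (iv F69814)
theorem F71945 : act 4 n18373 = n18001 := d26_1 D18373 (iv D18001) (iv D17402) (iv F67751) D17768
theorem F71946 : act 7 n18373 = n17789 := d31_2 (iv F69815) D18373 (iv D17789)
def n18374 : Q := act 2 n17769
theorem D18374 : act 2 n17769 = n18374 := rfl
theorem F71947 : act 0 n18374 = n17848 := d1_1 D18374 (iv D17848) (iv F69816)
theorem F71948 : act 3 n18374 = n18374 := d15_2 D17769 D18374 (iv D18374) (iv D17769) F67755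
theorem F71949 : act 5 n18374 = n18264 := d17_2 (iv F69818) D18374 (iv D18264)
theorem F71950 : act 6 n18374 = n17881 := d18_2 (iv F69819) D18374 (iv D17881)
theorem F71951 : act 7 n18374 = n17771 := d19_2 (iv F69820) D18374 (iv D17771)
theorem F71952 : act 8 n18374 = n17861 := d20_2 (iv F69821) D18374 (iv D17861)
def n18375 : Q := act 4 n17769
theorem D18375 : act 4 n17769 = n18375 := rfl
theorem F71953 : act 0 n18375 = n17849 := d3_1 D18375 (iv D17849) (iv F69816)
theorem F71954 : act 1 n18375 = n18278 := d10_1 D18375 (iv D18278) (iv F69817)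
theorem F71955 : act 3 n18375 = n17793 := d21_1 D18375 (iv D17793) (iv D17203) (iv F67756) D17769
theorem F71956 : act 6 n18375 = n17882 := d27_2 (iv F69819) D18375 (iv D17882)
theorem F71957 : act 7 n18375 = n17772 := d28_2 (iv F69820) D18375 (iv D17772)
theorem F71958 : act 8 n18375 = n17862 := d29_2 (iv F69821) D18375 (iv D17862)
def n18376 : Q := act 2 n17770
theorem D18376 : act 2 n17770 = n18376 := rfl
theorem F71959 : act 0 n18376 = n17851 := d1_1 D18376 (iv D17851) (iv F69822)
theorem F71960 : act 3 n18376 = n17774 := d15_2 D17770 D18376 (iv D17774) (iv D17188) (iv F67762)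
theorem F71961 : act 5 n18376 = n17771 := d17_2 (iv F69824) D18376 (iv D17771)
theorem F71962 : act 6 n18376 = n18345 := d18_2 F71188 D18376 F71858
theorem F71963 : act 7 n18376 = n18264 := d19_2 (iv F69825) D18376 (iv D18264)
theorem F71964 : act 8 n18376 = n17907 := d20_2 (iv F69826) D18376 (iv D17907)
def n18377 : Q := act 4 n17770
theorem D18377 : act 4 n17770 = n18377 := rfl
theorem F71965 : act 0 n18377 = n17852 := d3_1 D18377 (iv D17852) (iv F69822)
theorem F71966 : act 1 n18377 = n18257 := d10_1 D18377 (iv D18257) (iv F69823)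
theorem F71967 : act 3 n18377 = n18005 := d21_1 D18377 (iv D18005) (iv D17405) (iv F67763) D17770
theorem F71968 : act 7 n18377 = n18265 := d28_2 (iv F69825) D18377 (iv D18265)
theorem F71969 : act 8 n18377 = n17908 := d29_2 (iv F69826) D18377 (iv D17908)
def n18378 : Q := act 1 n17771
theorem D18378 : act 1 n17771 = n18378 := rfl
theorem F71970 : act 3 n18378 = n17776 := d9_2 (iv F69828) D18378 (iv D17776)
theorem F71971 : act 6 n18378 = n17952 := d12_2 (iv F69829) D18378 (iv D17952)
theorem F71972 : act 8 n18378 = n17909 := d14_2 (iv F69830) D18378 (iv D17909)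
def n18379 : Q := act 4 n17771
theorem D18379 : act 4 n17771 = n18379 := rfl
theorem F71973 : act 0 n18379 = n17854 := d3_1 D18379 (iv D17854) (iv F69827)
theorem F71974 : act 2 n18379 = n17772 := d16_1 D18379 (iv D17772) D17771
theorem F71975 : act 3 n18379 = n18247 := d21_1 D18379 (iv D18247) F69482 (iv F67779) (iv F69828)
theorem F71976 : act 6 n18379 = n17953 := d27_2 (iv F69829) D18379 (iv D17953)
theorem F71977 : act 8 n18379 = n17910 := d29_2 (iv F69830) D18379 (iv D17910)
def n18380 : Q := act 5 n17772
theorem D18380 : act 5 n17772 = n18380 := rfl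
theorem F71978 : act 0 n18380 = n17855 := d4_1 D18380 (iv D17855) (iv F69831)
theorem F71979 : act 3 n18380 = n17773 := d22_1 D18380 (iv D17773) (iv F69832)
theorem F71980 : act 8 n18380 = n17911 := d32_2 (iv F69834) D18380 (iv D17911)
def n18381 : Q := act 6 n17773
theorem D18381 : act 6 n17773 = n18381 := rfl
theorem F71981 : act 0 n18381 = n17856 := d5_1 D18381 (iv D17856) (iv F69835)
theorem F71982 : act 2 n18381 = n18249 := d18_1 D18381 (iv D18249) (iv F69836)
theorem F71983 : act 4 n18381 = n18009 := d27_1 D18381 (iv D18009) (iv F69837)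
theorem F71984 : act 7 n18381 = n17799 := d33_2 (iv F69838) D18381 (iv D17799)
def n18382 : Q := act 1 n17774
theorem D18382 : act 1 n17774 = n18382 := rfl
theorem F71985 : act 0 n18382 = n18229 := d0_1 D18382 (iv D18229) F69384 (iv F68130) (iv F69839)
theorem F71986 : act 2 n18382 = n18382 := d8_2 D17774 D18382 (iv D18382) (iv D17774) F67773
theorem F71987 : act 5 n18382 = n17776 := d11_2 (iv F69840) D18382 (iv D17776)
theorem F71988 : act 6 n18382 = n18294 := d12_2 (iv F69841) D18382 F71696
theorem F71989 : act 7 n18382 = n18382 := d13_2 F69842 D18382 (iv D18382)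
theorem F71990 : act 8 n18382 = n17967 := d14_2 (iv F69843) D18382 (iv D17967)
def n18383 : Q := act 4 n17774
theorem D18383 : act 4 n17774 = n18383 := rfl
theorem F71991 : act 0 n18383 = n17857 := d3_1 D18383 (iv D17857) (iv F69839)
theorem F71992 : act 2 n18383 = n17775 := d16_1 D18383 (iv D17775) D17774
theorem F71993 : act 5 n18383 = n18251 := d26_2 (iv F69840) D18383 (iv D18251) F69491 (iv F67779)
theorem F71994 : act 6 n18383 = n18364 := d27_2 (iv F69841) D18383 (iv D18364)
theorem F71995 : act 7 n18383 = n18383 := d28_2 F69842 D18383 (iv D18383)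
theorem F71996 : act 8 n18383 = n17968 := d29_2 (iv F69843) D18383 (iv D17968)
def n18384 : Q := act 0 n17776
theorem D18384 : act 0 n17776 = n18384 := rfl
theorem F71997 : act 1 n18384 = n17858 := d0_2 D17776 D18384 (iv D17858) (iv D17269) (iv F67778)
theorem F71998 : act 2 n18384 = n18384 := d1_2 F69851 D18384 (iv D18384)
theorem F71999 : act 4 n18384 = n18252 := d3_2 (iv F69852) D18384 (iv D18252)
theorem F72000 : act 5 n18384 = n18229 := d4_2 F71987 D18384 (iv F71985)
theorem F72001 : act 6 n18384 = n17971 := d5_2 (iv F69853) D18384 (iv D17971)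
theorem F72002 : act 7 n18384 = n18384 := d6_2 F69854 D18384 (iv D18384)
theorem F72003 : act 8 n18384 = n17969 := d7_2 (iv F69855) D18384 (iv D17969)
def n18385 : Q := act 5 n17777
theorem D18385 : act 5 n17777 = n18385 := rfl
theorem F72004 : act 0 n18385 = n17859 := d4_1 D18385 (iv D17859) (iv F69856)
theorem F72005 : act 1 n18385 = n18033 := d11_1 D18385 (iv D18033) (iv F69857)
theorem F72006 : act 2 n18385 = n17867 := d17_1 D18385 (iv D17867) (iv F69858)
theorem F72007 : act 3 n18385 = n17983 := d22_1 D18385 (iv D17983) (iv F69859)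
theorem F72008 : act 4 n18385 = n17783 := d26_1 D18385 (iv D17783) (iv D17194) (iv F67786) D17777
theorem F72009 : act 8 n18385 = n17803 := d32_2 (iv F69861) D18385 (iv D17803)
def n18386 : Q := act 4 n17778
theorem D18386 : act 4 n17778 = n18386 := rfl
theorem F72010 : act 0 n18386 = n18098 := d3_1 D18386 (iv D18098) (iv F69862)
theorem F72011 : act 1 n18386 = n18017 := d10_1 D18386 (iv D18017) (iv F69863)
theorem F72012 : act 2 n18386 = n17779 := d16_1 D18386 (iv D17779) D17778
theorem F72013 : act 3 n18386 = n17888 := d21_1 D18386 (iv D17888) F68240 (iv F68042) (iv F69864)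
theorem F72014 : act 6 n18386 = n17788 := d27_2 (iv F69866) D18386 (iv D17788)
theorem F72015 : act 8 n18386 = n17805 := d29_2 (iv F69867) D18386 (iv D17805)
def n18387 : Q := act 5 n17779
theorem D18387 : act 5 n17779 = n18387 := rfl
theorem F72016 : act 0 n18387 = n18099 := d4_1 D18387 (iv D18099) (iv F69868)
theorem F72017 : act 1 n18387 = n17783 := d11_1 D18387 (iv D17783) (iv F69869)
theorem F72018 : act 3 n18387 = n18045 := d22_1 D18387 (iv D18045) (iv F69870)
theorem F72019 : act 4 n18387 = n18033 := d26_1 D18387 (iv D18033) (iv D17432) (iv F67791) D17779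
theorem F72020 : act 8 n18387 = n17806 := d32_2 (iv F69872) D18387 (iv D17806)
def n18388 : Q := act 2 n17780
theorem D18388 : act 2 n17780 = n18388 := rfl
theorem F72021 : act 0 n18388 = n17861 := d1_1 D18388 (iv D17861) (iv F69873)
theorem F72022 : act 1 n18388 = n18154 := d8_1 D18388 (iv D18154) F69146 (iv F68781) (iv F69874)
theorem F72023 : act 3 n18388 = n18388 := d15_2 D17780 D18388 (iv D18388) (iv D17780) F67796
theorem F72024 : act 5 n18388 = n18035 := d17_2 (iv F69875) D18388 (iv D18035)
theorem F72025 : act 6 n18388 = n17792 := d18_2 (iv F69876) D18388 (iv D17792)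
theorem F72026 : act 7 n18388 = n17781 := d19_2 (iv F69877) D18388 (iv D17781)
theorem F72027 : act 8 n18388 = n17848 := d20_2 (iv F69878) D18388 (iv D17848)
def n18389 : Q := act 4 n17780
theorem D18389 : act 4 n17780 = n18389 := rfl
theorem F72028 : act 0 n18389 = n17862 := d3_1 D18389 (iv D17862) (iv F69873)
theorem F72029 : act 1 n18389 = n18042 := d10_1 D18389 (iv D18042) (iv F69874)
theorem F72030 : act 3 n18389 = n17882 := d21_1 D18389 (iv D17882) (iv D17289) (iv F67797) D17780
theorem F72031 : act 6 n18389 = n17793 := d27_2 (iv F69876) D18389 (iv D17793)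
theorem F72032 : act 7 n18389 = n17782 := d28_2 (iv F69877) D18389 (iv D17782)
theorem F72033 : act 8 n18389 = n17849 := d29_2 (iv F69878) D18389 (iv D17849)
def n18390 : Q := act 4 n17781
theorem D18390 : act 4 n17781 = n18390 := rfl
theorem F72034 : act 0 n18390 = n17864 := d3_1 D18390 (iv D17864) (iv F69879)
theorem F72035 : act 1 n18390 = n18160 := d10_1 D18390 (iv D18160) (iv F69880)
theorem F72036 : act 2 n18390 = n17782 := d16_1 D18390 (iv D17782) D17781
theorem F72037 : act 3 n18390 = n18149 := d21_1 D18390 (iv D18149) F69124 (iv F67812) (iv F69881)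
theorem F72038 : act 6 n18390 = n17797 := d27_2 (iv F69883) D18390 (iv D17797)
theorem F72039 : act 8 n18390 = n17807 := d29_2 (iv F69884) D18390 (iv D17807)
def n18391 : Q := act 5 n17782
theorem D18391 : act 5 n17782 = n18391 := rfl
theorem F72040 : act 0 n18391 = n17865 := d4_1 D18391 (iv D17865) (iv F69885)
theorem F72041 : act 1 n18391 = n18045 := d11_1 D18391 (iv D18045) (iv F69886)
theorem F72042 : act 3 n18391 = n17783 := d22_1 D18391 (iv D17783) (iv F69887)
theorem F72043 : act 4 n18391 = n18038 := d26_1 D18391 (iv D18038) (iv D17436) (iv F67803) D17782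
theorem F72044 : act 8 n18391 = n17808 := d32_2 (iv F69889) D18391 (iv D17808)
def n18392 : Q := act 6 n17783
theorem D18392 : act 6 n17783 = n18392 := rfl
theorem F72045 : act 0 n18392 = n17866 := d5_1 D18392 (iv D17866) (iv F69890)
theorem F72046 : act 2 n18392 = n18151 := d18_1 D18392 (iv D18151) (iv F69891)
theorem F72047 : act 5 n18392 = n17799 := d30_1 D18392 (iv D17799) (iv D17207) (iv F67808) D17783
theorem F72048 : act 8 n18392 = n17809 := d34_2 (iv F69892) D18392 (iv D17809)
def n18393 : Q := act 4 n17784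
theorem D18393 : act 4 n17784 = n18393 := rfl
theorem F72049 : act 0 n18393 = n17788 := d3_1 D18393 (iv D17788) (iv F69893)
theorem F72050 : act 1 n18393 = n18032 := d10_1 D18393 (iv D18032) (iv F69894)
theorem F72051 : act 2 n18393 = n17785 := d16_1 D18393 (iv D17785) D17784
theorem F72052 : act 3 n18393 = n18062 := d21_1 D18393 (iv D18062) F68852 (iv F68049) (iv F69895)
theorem F72053 : act 6 n18393 = n18098 := d27_2 (iv F69897) D18393 (iv D18098)
theorem F72054 : act 8 n18393 = n17812 := d29_2 (iv F69898) D18393 (iv D17812)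
def n18394 : Q := act 5 n17785
theorem D18394 : act 5 n17785 = n18394 := rfl
theorem F72055 : act 0 n18394 = n17789 := d4_1 D18394 (iv D17789) (iv F69899)
theorem F72056 : act 1 n18394 = n17867 := d11_1 D18394 (iv D17867) (iv F69900)
theorem F72057 : act 3 n18394 = n18180 := d22_1 D18394 (iv D18180) (iv F69901)
theorem F72058 : act 4 n18394 = n18018 := d26_1 D18394 (iv D18018) (iv D17417) (iv F67819) D17785
theorem F72059 : act 8 n18394 = n17813 := d32_2 (iv F69903) D18394 (iv D17813)
def n18395 : Q := act 4 n17786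
theorem D18395 : act 4 n17786 = n18395 := rfl
theorem F72060 : act 0 n18395 = n18175 := d3_1 D18395 (iv D18175) (iv F69904)
theorem F72061 : act 1 n18395 = n17793 := d10_1 D18395 (iv D17793) (iv F69905)
theorem F72062 : act 2 n18395 = n18166 := d16_1 D18395 (iv D18166) (iv F69906)
theorem F72063 : act 3 n18395 = n18278 := d21_1 D18395 (iv D18278) (iv D17676) (iv F67825) D17786
theorem F72064 : act 6 n18395 = n18042 := d27_2 (iv F69908) D18395 (iv D18042)
theorem F72065 : act 7 n18395 = n17787 := d28_2 (iv F69909) D18395 (iv D17787)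
theorem F72066 : act 8 n18395 = n18276 := d29_2 (iv F69910) D18395 (iv D18276)
def n18396 : Q := act 5 n17787
theorem D18396 : act 5 n17787 = n18396 := rfl
theorem F72067 : act 0 n18396 = n18180 := d4_1 D18396 (iv D18180) (iv F69911)
theorem F72068 : act 1 n18396 = n17798 := d11_1 D18396 (iv D17798) (iv F69912)
theorem F72069 : act 2 n18396 = n18171 := d17_1 D18396 (iv D18171) (iv F69913)
theorem F72070 : act 3 n18396 = n17789 := d22_1 D18396 (iv D17789) (iv F69914)
theorem F72071 : act 4 n18396 = n18079 := d26_1 D18396 (iv D18079) (iv D17473) (iv F67832) D17787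
theorem F72072 : act 8 n18396 = n17817 := d32_2 (iv F69916) D18396 (iv D17817)
def n18397 : Q := act 3 n17788
theorem D18397 : act 3 n17788 = n18397 := rfl
theorem F72073 : act 0 n18397 = n18062 := d2_1 D18397 (iv F72052) F72049
theorem F72074 : act 1 n18397 = n18253 := d9_1 D18397 (iv D18253) (iv F69917)
theorem F72075 : act 2 n18397 = n17886 := d15_1 D18397 F70320 (iv F69913) F69914 (iv F69918)
theorem F72076 : act 4 n18397 = n17837 := d21_2 D17788 D18397 (iv D17837) (iv D17249) (iv F67836)
theorem F72077 : act 6 n18397 = n17888 := d23_2 F72014 D18397 (iv F72013)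
theorem F72078 : act 8 n18397 = n17818 := d25_2 (iv F69919) D18397 (iv D17818)
def n18398 : Q := act 5 n17788
theorem D18398 : act 5 n17788 = n18398 := rfl
theorem F72079 : act 1 n18398 = n18254 := d11_1 D18398 (iv D18254) (iv F69917)
theorem F72080 : act 2 n18398 = n17789 := d17_1 D18398 (iv D17789) (iv F69918)
theorem F72081 : act 4 n18398 = n18021 := d26_1 D18398 (iv D18021) (iv D17420) (iv F67837) D17788
theorem F72082 : act 8 n18398 = n17819 := d32_2 (iv F69919) D18398 (iv D17819)
def n18399 : Q := act 6 n17789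
theorem D18399 : act 6 n17789 = n18399 := rfl
theorem F72083 : act 1 n18399 = n17799 := d12_1 D18399 (iv D17799) (iv F69920)
theorem F72084 : act 4 n18399 = n18022 := d27_1 D18399 (iv D18022) (iv F69921)
theorem F72085 : act 8 n18399 = n17820 := d34_2 (iv F69922) D18399 (iv D17820)
def n18400 : Q := act 2 n17790
theorem D18400 : act 2 n17790 = n18400 := rfl
theorem F72086 : act 0 n18400 = n17879 := d1_1 D18400 (iv D17879) (iv F69923)
theorem F72087 : act 1 n18400 = n17922 := d8_1 D18400 (iv D17922) (iv F70011) F70012 (iv F69924)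
theorem F72088 : act 3 n18400 = n18400 := d15_2 D17790 D18400 (iv D18400) (iv D17790) F67843
theorem F72089 : act 5 n18400 = n17792 := d17_2 (iv F69925) D18400 (iv D17792)
theorem F72090 : act 6 n18400 = n18056 := d18_2 (iv F69926) D18400 (iv D18056)
theorem F72091 : act 7 n18400 = n17794 := d19_2 (iv F69927) D18400 (iv D17794)
def n18401 : Q := act 4 n17790
theorem D18401 : act 4 n17790 = n18401 := rfl
theorem F72092 : act 0 n18401 = n17880 := d3_1 D18401 (iv D17880) (iv F69923)
theorem F72093 : act 1 n18401 = n18070 := d10_1 D18401 (iv D18070) (iv F69924)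
theorem F72094 : act 6 n18401 = n18057 := d27_2 (iv F69926) D18401 (iv D18057)
theorem F72095 : act 7 n18401 = n17795 := d28_2 (iv F69927) D18401 (iv D17795)
def n18402 : Q := act 2 n17791
theorem D18402 : act 2 n17791 = n18402 := rfl
theorem F72096 : act 0 n18402 = n17881 := d1_1 D18402 (iv D17881) (iv F69928)
theorem F72097 : act 3 n18402 = n18402 := d15_2 D17791 D18402 (iv D18402) (iv D17791) F67848
theorem F72098 : act 6 n18402 = n17848 := d18_2 (iv F69930) D18402 (iv D17848)
theorem F72099 : act 7 n18402 = n17824 := d19_2 (iv F69931) D18402 (iv D17824)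
theorem F72100 : act 8 n18402 = n17792 := d20_2 (iv F69932) D18402 (iv D17792)
def n18403 : Q := act 4 n17791
theorem D18403 : act 4 n17791 = n18403 := rfl
theorem F72101 : act 0 n18403 = n17882 := d3_1 D18403 (iv D17882) (iv F69928)
theorem F72102 : act 1 n18403 = n18276 := d10_1 D18403 (iv D18276) (iv F69929)
theorem F72103 : act 3 n18403 = n17862 := d21_1 D18403 (iv D17862) (iv D17272) (iv F67849) D17791
theorem F72104 : act 6 n18403 = n17849 := d27_2 (iv F69930) D18403 (iv D17849)
theorem F72105 : act 7 n18403 = n17825 := d28_2 (iv F69931) D18403 (iv D17825)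
theorem F72106 : act 8 n18403 = n17793 := d29_2 (iv F69932) D18403 (iv D17793)
def n18404 : Q := act 1 n17792
theorem D18404 : act 1 n17792 = n18404 := rfl
theorem F72107 : act 2 n18404 = n17920 := d8_2 D17792 D18404 F70465 (iv F69906) F69905
theorem F72108 : act 3 n18404 = n18404 := d9_2 F69934 D18404 (iv D18404)
theorem F72109 : act 5 n18404 = n17922 := d11_2 F72089 D18404 (iv F72087)
theorem F72110 : act 6 n18404 = n18154 := d12_2 F72025 D18404 (iv F72022)
theorem F72111 : act 7 n18404 = n17796 := d13_2 (iv F69935) D18404 (iv D17796)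
theorem F72112 : act 0 n17931 = n18404 := d6_3 F72111 (iv F69954) (iv F70510)
def n18405 : Q := act 4 n17792
theorem D18405 : act 4 n17792 = n18405 := rfl
theorem F72113 : act 0 n18405 = n17884 := d3_1 D18405 (iv D17884) (iv F69933)
theorem F72114 : act 2 n18405 = n17793 := d16_1 D18405 (iv D17793) D17792
theorem F72115 : act 7 n18405 = n17797 := d28_2 (iv F69935) D18405 (iv D17797)
def n18406 : Q := act 5 n17793
theorem D18406 : act 5 n17793 = n18406 := rfl
theorem F72116 : act 0 n18406 = n17885 := d4_1 D18406 (iv D17885) (iv F69936)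
theorem F72117 : act 7 n18406 = n17798 := d31_2 (iv F69937) D18406 (iv D17798)
def n18407 : Q := act 4 n17794
theorem D18407 : act 4 n17794 = n18407 := rfl
theorem F72118 : act 0 n18407 = n17888 := d3_1 D18407 (iv D17888) (iv F69938)
theorem F72119 : act 1 n18407 = n17925 := d10_1 D18407 (iv D17925) (iv F69939)
theorem F72120 : act 2 n18407 = n17795 := d16_1 D18407 (iv D17795) D17794
theorem F72121 : act 3 n18407 = n18098 := d21_1 D18407 (iv D18098) F68982 (iv F67871) (iv F69940)
theorem F72122 : act 6 n18407 = n18062 := d27_2 (iv F69942) D18407 (iv D18062)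
theorem F72123 : act 8 n18407 = n17830 := d29_2 (iv F69943) D18407 (iv D17830)
def n18408 : Q := act 5 n17795
theorem D18408 : act 5 n17795 = n18408 := rfl
theorem F72124 : act 0 n18408 = n17889 := d4_1 D18408 (iv D17889) (iv F69944)
theorem F72125 : act 1 n18408 = n18079 := d11_1 D18408 (iv D18079) (iv F69945)
theorem F72126 : act 3 n18408 = n18028 := d22_1 D18408 (iv D18028) (iv F69946)
theorem F72127 : act 4 n18408 = n17798 := d26_1 D18408 (iv D17798) (iv D17206) (iv F67856) D17795
theorem F72128 : act 8 n18408 = n17831 := d32_2 (iv F69948) D18408 (iv D17831)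
def n18409 : Q := act 4 n17796
theorem D18409 : act 4 n17796 = n18409 := rfl
theorem F72129 : act 0 n18409 = n17940 := d3_1 D18409 (iv D17940) F69954
theorem F72130 : act 1 n18409 = n17797 := d10_1 D18409 (iv D17797) D17796
theorem F72131 : act 2 n18409 = n17924 := d16_1 D18409 (iv D17924) (iv F69949)
theorem F72132 : act 3 n18409 = n18261 := d21_1 D18409 (iv D18261) F69514 (iv F67877) (iv F69950)
theorem F72133 : act 6 n18409 = n18160 := d27_2 (iv F69952) D18409 (iv D18160)
theorem F72134 : act 8 n18409 = n17833 := d29_2 (iv F69953) D18409 (iv D17833)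
def n18410 : Q := act 5 n17797
theorem D18410 : act 5 n17797 = n18410 := rfl
theorem F72135 : act 0 n18410 = n17892 := d4_1 D18410 (iv D17892) (iv F69955)
theorem F72136 : act 2 n18410 = n17798 := d17_1 D18410 (iv D17798) (iv F69956)
theorem F72137 : act 3 n18410 = n18262 := d22_1 D18410 (iv D18262) (iv F69957)
theorem F72138 : act 8 n18410 = n17834 := d32_2 (iv F69958) D18410 (iv D17834)
def n18411 : Q := act 6 n17798
theorem D18411 : act 6 n17798 = n18411 := rfl
theorem F72139 : act 0 n18411 = n17893 := d5_1 D18411 (iv D17893) (iv F69959)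
theorem F72140 : act 3 n18411 = n17799 := d23_1 D18411 (iv D17799) (iv F69960)
theorem F72141 : act 8 n18411 = n17835 := d34_2 (iv F69961) D18411 (iv D17835)
def n18412 : Q := act 5 n17800
theorem D18412 : act 5 n17800 = n18412 := rfl
theorem F72142 : act 0 n18412 = n17980 := d4_1 D18412 (iv D17980) (iv F69966)
theorem F72143 : act 1 n18412 = n17803 := d11_1 D18412 (iv D17803) (iv F69967)
theorem F72144 : act 2 n18412 = n18358 := d17_1 D18412 (iv D18358) (iv F69968)
theorem F72145 : act 3 n18412 = n18013 := d22_1 D18412 (iv D18013) (iv F69969)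
theorem F72146 : act 4 n18412 = n17806 := d26_1 D18412 (iv D17806) (iv D17216) (iv F67886) D17800
theorem F72147 : act 8 n18412 = n18033 := d32_2 (iv F69971) D18412 (iv D18033)
def n18413 : Q := act 4 n17801
theorem D18413 : act 4 n17801 = n18413 := rfl
theorem F72148 : act 0 n18413 = n17896 := d3_1 D18413 (iv D17896) (iv F69972)
theorem F72149 : act 1 n18413 = n18098 := d10_1 D18413 (iv D18098) (iv F69973)
theorem F72150 : act 2 n18413 = n17802 := d16_1 D18413 (iv D17802) D17801
theorem F72151 : act 3 n18413 = n17925 := d21_1 D18413 (iv D17925) F68383 (iv F67899) (iv F69974)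
theorem F72152 : act 6 n18413 = n18032 := d27_2 (iv F69976) D18413 (iv D18032)
theorem F72153 : act 8 n18413 = n17982 := d29_2 (iv F69977) D18413 (iv D17982)
def n18414 : Q := act 5 n17802
theorem D18414 : act 5 n17802 = n18414 := rfl
theorem F72154 : act 0 n18414 = n17897 := d4_1 D18414 (iv D17897) (iv F69978)
theorem F72155 : act 1 n18414 = n18013 := d11_1 D18414 (iv D18013) (iv F69979)
theorem F72156 : act 3 n18414 = n17803 := d22_1 D18414 (iv D17803) (iv F69980)
theorem F72157 : act 4 n18414 = n18015 := d26_1 D18414 (iv D18015) (iv D17414) (iv F67891) D17802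
theorem F72158 : act 8 n18414 = n17983 := d32_2 (iv F69982) D18414 (iv D17983)
def n18415 : Q := act 6 n17803
theorem D18415 : act 6 n17803 = n18415 := rfl
theorem F72159 : act 0 n18415 = n17898 := d5_1 D18415 (iv D17898) (iv F69983)
theorem F72160 : act 2 n18415 = n17927 := d18_1 D18415 (iv D17927) (iv F69984)
theorem F72161 : act 4 n18415 = n17809 := d27_1 D18415 (iv D17809) (iv F69985)
theorem F72162 : act 5 n18415 = n18034 := d30_1 D18415 (iv D18034) (iv D17433) (iv F67896) D17803
def n18416 : Q := act 5 n17804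
theorem D18416 : act 5 n17804 = n18416 := rfl
theorem F72163 : act 0 n18416 = n17806 := d4_1 D18416 (iv D17806) (iv F69986)
theorem F72164 : act 1 n18416 = n17899 := d11_1 D18416 (iv D17899) (iv F69987)
theorem F72165 : act 3 n18416 = n18080 := d22_1 D18416 (iv D18080) (iv F69988)
theorem F72166 : act 4 n18416 = n17980 := d26_1 D18416 (iv D17980) (iv D17383) (iv F67906) D17804
theorem F72167 : act 7 n18416 = n18412 := d31_2 (iv F69990) D18416 (iv D18412)
theorem F72168 : act 8 n18416 = n18099 := d32_2 (iv F69991) D18416 (iv D18099)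
def n18417 : Q := act 5 n17805
theorem D18417 : act 5 n17805 = n18417 := rfl
theorem F72169 : act 1 n18417 = n18052 := d11_1 D18417 (iv D18052) (iv F69992)
theorem F72170 : act 2 n18417 = n17806 := d17_1 D18417 (iv D17806) (iv F69993)
theorem F72171 : act 3 n18417 = n17962 := d22_1 D18417 (iv D17962) (iv F69994)
theorem F72172 : act 4 n18417 = n18358 := d26_1 D18417 (iv D18358) F69736 (iv F67912) D17805
def n18418 : Q := act 6 n17806
theorem D18418 : act 6 n17806 = n18418 := rfl
theorem F72173 : act 1 n18418 = n17809 := d12_1 D18418 (iv D17809) (iv F69996)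
theorem F72174 : act 3 n18418 = n18225 := d23_1 D18418 (iv D18225) (iv F69997)
theorem F72175 : act 5 n18418 = n17820 := d30_1 D18418 (iv D17820) (iv D17229) (iv F67916) D17806
def n18419 : Q := act 5 n17807
theorem D18419 : act 5 n17807 = n18419 := rfl
theorem F72176 : act 0 n18419 = n17918 := d4_1 D18419 (iv D17918) (iv F69998)
theorem F72177 : act 1 n18419 = n18209 := d11_1 D18419 (iv D18209) (iv F69999)
theorem F72178 : act 2 n18419 = n17808 := d17_1 D18419 (iv D17808) (iv F70000)
theorem F72179 : act 3 n18419 = n18194 := d22_1 D18419 (iv D18194) (iv F70001)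
theorem F72180 : act 4 n18419 = n18211 := d26_1 D18419 (iv D18211) (iv D17599) (iv F67920) D17807
def n18420 : Q := act 6 n17808
theorem D18420 : act 6 n17808 = n18420 := rfl
theorem F72181 : act 0 n18420 = n17919 := d5_1 D18420 (iv D17919) (iv F70003)
theorem F72182 : act 1 n18420 = n18225 := d12_1 D18420 (iv D18225) (iv F70004)
theorem F72183 : act 3 n18420 = n17809 := d23_1 D18420 (iv D17809) (iv F70005)
theorem F72184 : act 4 n18420 = n18226 := d27_1 D18420 (iv D18226) (iv F70006)
theorem F72185 : act 5 n18420 = n17835 := d30_1 D18420 (iv D17835) (iv D17241) (iv F67925) D17808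
def n18421 : Q := act 4 n17810
theorem D18421 : act 4 n17810 = n18421 := rfl
theorem F72186 : act 0 n18421 = n17815 := d3_1 D18421 (iv D17815) (iv F70010)
theorem F72187 : act 1 n18421 = n17923 := d10_1 D18421 (iv D17923) (iv F70011)
theorem F72188 : act 2 n18421 = n18070 := d16_1 D18421 (iv D18070) (iv F70012)
theorem F72189 : act 3 n18421 = n18103 := d21_1 D18421 (iv D18103) (iv D17502) (iv F67931) D17810
theorem F72190 : act 6 n18421 = n18072 := d27_2 (iv F70014) D18421 (iv D18072)
theorem F72191 : act 7 n18421 = n17811 := d28_2 (iv F70015) D18421 (iv D17811)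
theorem F72192 : act 8 n18421 = n18102 := d29_2 (iv F70016) D18421 (iv D18102)
def n18422 : Q := act 5 n17811
theorem D18422 : act 5 n17811 = n18422 := rfl
theorem F72193 : act 0 n18422 = n17817 := d4_1 D18422 (iv D17817) (iv F70017)
theorem F72194 : act 1 n18422 = n17926 := d11_1 D18422 (iv D17926) (iv F70018)
theorem F72195 : act 2 n18422 = n18079 := d17_1 D18422 (iv D18079) (iv F70019)
theorem F72196 : act 3 n18422 = n17813 := d22_1 D18422 (iv D17813) (iv F70020)
theorem F72197 : act 4 n18422 = n18171 := d26_1 D18422 (iv D18171) (iv D17562) (iv F67938) D17811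
theorem F72198 : act 8 n18422 = n18180 := d32_2 (iv F70022) D18422 (iv D18180)
def n18423 : Q := act 5 n17812
theorem D18423 : act 5 n17812 = n18423 := rfl
theorem F72199 : act 0 n18423 = n17819 := d4_1 D18423 (iv D17819) (iv F70023)
theorem F72200 : act 1 n18423 = n18358 := d11_1 D18423 (iv D18358) (iv F70024)
theorem F72201 : act 2 n18423 = n17813 := d17_1 D18423 (iv D17813) (iv F70025)
theorem F72202 : act 3 n18423 = n18357 := d22_1 D18423 (iv D18357) (iv F70026)
theorem F72203 : act 4 n18423 = n18052 := d26_1 D18423 (iv D18052) (iv D17449) (iv F67944) D17812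
def n18424 : Q := act 6 n17813
theorem D18424 : act 6 n17813 = n18424 := rfl
theorem F72204 : act 0 n18424 = n17820 := d5_1 D18424 (iv D17820) (iv F70027)
theorem F72205 : act 1 n18424 = n17927 := d12_1 D18424 (iv D17927) (iv F70028)
theorem F72206 : act 4 n18424 = n18053 := d27_1 D18424 (iv D18053) (iv F70029)
def n18425 : Q := act 4 n17814
theorem D18425 : act 4 n17814 = n18425 := rfl
theorem F72207 : act 0 n18425 = n18166 := d3_1 D18425 (iv D18166) (iv F70030)
theorem F72208 : act 1 n18425 = n17823 := d10_1 D18425 (iv D17823) (iv F70031)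
theorem F72209 : act 2 n18425 = n18175 := d16_1 D18425 (iv D18175) (iv F70032)
theorem F72210 : act 6 n18425 = n18025 := d27_2 (iv F70034) D18425 (iv D18025)
theorem F72211 : act 7 n18425 = n17816 := d28_2 (iv F70035) D18425 (iv D17816)
theorem F72212 : act 8 n18425 = n18334 := d29_2 (iv F70036) D18425 (iv D18334)
def n18426 : Q := act 5 n17815
theorem D18426 : act 5 n17815 = n18426 := rfl
theorem F72213 : act 1 n18426 = n17828 := d11_1 D18426 (iv D17828) (iv F70037)
theorem F72214 : act 2 n18426 = n18215 := d17_1 D18426 (iv D18215) (iv F70038)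
theorem F72215 : act 7 n18426 = n17817 := d31_2 (iv F70040) D18426 (iv D17817)
def n18427 : Q := act 5 n17816
theorem D18427 : act 5 n17816 = n18427 := rfl
theorem F72216 : act 0 n18427 = n18171 := d4_1 D18427 (iv D18171) (iv F70041)
theorem F72217 : act 1 n18427 = n17831 := d11_1 D18427 (iv D17831) (iv F70042)
theorem F72218 : act 2 n18427 = n18180 := d17_1 D18427 (iv D18180) (iv F70043)
theorem F72219 : act 3 n18427 = n18063 := d22_1 D18427 (iv D18063) (iv F70044)
theorem F72220 : act 4 n18427 = n17817 := d26_1 D18427 (iv D17817) (iv D17227) (iv F67960) D17816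
theorem F72221 : act 8 n18427 = n18079 := d32_2 (iv F70046) D18427 (iv D18079)
def n18428 : Q := act 6 n17817
theorem D18428 : act 6 n17817 = n18428 := rfl
theorem F72222 : act 1 n18428 = n17835 := d12_1 D18428 (iv D17835) (iv F70047)
theorem F72223 : act 2 n18428 = n18224 := d18_1 D18428 (iv D18224) (iv F70048)
theorem F72224 : act 3 n18428 = n17820 := d23_1 D18428 (iv D17820) (iv F70049)
theorem F72225 : act 5 n18428 = n18225 := d30_1 D18428 (iv D18225) (iv D17615) (iv F67966) D17817
def n18429 : Q := act 5 n17818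
theorem D18429 : act 5 n17818 = n18429 := rfl
theorem F72226 : act 0 n18429 = n18357 := d4_1 D18429 (iv D18357) (iv F70050)
theorem F72227 : act 1 n18429 = n18273 := d11_1 D18429 (iv D18273) (iv F70051)
theorem F72228 : act 2 n18429 = n17960 := d17_1 D18429 (iv D17960) (iv F70052)
theorem F72229 : act 3 n18429 = n17819 := d22_1 D18429 (iv D17819) D17818
theorem F72230 : act 4 n18429 = n18361 := d26_1 D18429 (iv D18361) (iv D17751) (iv F68064) (iv F70053)
def n18430 : Q := act 7 n17818
theorem D18430 : act 7 n17818 = n18430 := rfl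
theorem F72231 : act 0 n18430 = n18341 := d6_1 D18430 F71846 (iv F70050)
theorem F72232 : act 1 n18430 = n18274 := d13_1 D18430 (iv D18274) (iv F70051)
theorem F72233 : act 2 n18430 = n17946 := d19_1 D18430 F70549 (iv F70052)
theorem F72234 : act 4 n18430 = n17838 := d28_1 D18430 (iv D17838) (iv F70053)
theorem F72235 : act 6 n18430 = n17950 := d33_1 D18430 F70560 (iv F70054)
def n18431 : Q := act 6 n17819
theorem D18431 : act 6 n17819 = n18431 := rfl
theorem F72236 : act 1 n18431 = n18275 := d12_1 D18431 (iv D18275) (iv F70055)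
theorem F72237 : act 2 n18431 = n17820 := d18_1 D18431 (iv D17820) (iv F70056)
theorem F72238 : act 4 n18431 = n18068 := d27_1 D18431 (iv D18068) (iv F70057)
def n18432 : Q := act 4 n17821
theorem D18432 : act 4 n17821 = n18432 := rfl
theorem F72239 : act 0 n18432 = n17946 := d3_1 D18432 (iv D17946) (iv F70060)
theorem F72240 : act 1 n18432 = n18025 := d10_1 D18432 (iv D18025) (iv F70061)
theorem F72241 : act 2 n18432 = n18341 := d16_1 D18432 (iv D18341) (iv F70062)
theorem F72242 : act 6 n18432 = n17823 := d27_2 (iv F70064) D18432 (iv D17823)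
theorem F72243 : act 7 n18432 = n17829 := d28_2 (iv F70065) D18432 (iv D17829)
def n18433 : Q := act 4 n17822
theorem D18433 : act 4 n17822 = n18433 := rfl
theorem F72244 : act 0 n18433 = n17948 := d3_1 D18433 (iv D17948) (iv F70066)
theorem F72245 : act 1 n18433 = n18334 := d10_1 D18433 (iv D18334) (iv F70067)
theorem F72246 : act 3 n18433 = n18425 := d21_1 D18433 (iv D18425) (iv D17814) (iv F67979) D17822
theorem F72247 : act 8 n18433 = n17823 := d29_2 (iv F70069) D18433 (iv D17823)
def n18434 : Q := act 5 n17823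
theorem D18434 : act 5 n17823 = n18434 := rfl
theorem F72248 : act 0 n18434 = n17951 := d4_1 D18434 (iv D17951) (iv F70070)
theorem F72249 : act 4 n18434 = n17828 := d26_1 D18434 (iv D17828) (iv D17235) (iv F67983) D17823
theorem F72250 : act 7 n18434 = n17831 := d31_2 (iv F70071) D18434 (iv D17831)
def n18435 : Q := act 4 n17824
theorem D18435 : act 4 n17824 = n18435 := rfl
theorem F72251 : act 0 n18435 = n17953 := d3_1 D18435 (iv D17953) (iv F70072)
theorem F72252 : act 2 n18435 = n17825 := d16_1 D18435 (iv D17825) D17824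
theorem F72253 : act 3 n18435 = n18122 := d21_1 D18435 (iv D18122) F69057 (iv F68026) (iv F70073)
theorem F72254 : act 6 n18435 = n17854 := d27_2 (iv F70074) D18435 (iv D17854)
theorem F72255 : act 8 n18435 = n17827 := d29_2 (iv F70075) D18435 (iv D17827)
def n18436 : Q := act 5 n17825
theorem D18436 : act 5 n17825 = n18436 := rfl
theorem F72256 : act 0 n18436 = n17954 := d4_1 D18436 (iv D17954) (iv F70076)
theorem F72257 : act 3 n18436 = n17841 := d22_1 D18436 (iv D17841) (iv F70077)
theorem F72258 : act 8 n18436 = n17828 := d32_2 (iv F70079) D18436 (iv D17828)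
def n18437 : Q := act 0 n17826
theorem D18437 : act 0 n17826 = n18437 := rfl
theorem F72259 : act 1 n18437 = n17955 := d0_2 D17826 D18437 (iv D17955) (iv D17351) (iv F67988)
theorem F72260 : act 2 n18437 = n17868 := d1_2 (iv F70080) D18437 F70255
theorem F72261 : act 3 n18437 = n17836 := d2_2 (iv F70081) D18437 (iv D17836)
theorem F72262 : act 5 n18437 = n17870 := d4_2 (iv F70082) D18437 F70265
theorem F72263 : act 6 n18437 = n18184 := d5_2 (iv F70083) D18437 F71364
theorem F72264 : act 7 n18437 = n17832 := d6_2 (iv F70084) D18437 (iv D17832)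
def n18438 : Q := act 4 n17826
theorem D18438 : act 4 n17826 = n18438 := rfl
theorem F72265 : act 1 n18438 = n17827 := d10_1 D18438 (iv D17827) D17826
theorem F72266 : act 2 n18438 = n18198 := d16_1 D18438 (iv D18198) (iv F70080)
theorem F72267 : act 6 n18438 = n18200 := d27_2 (iv F70083) D18438 (iv D18200)
theorem F72268 : act 7 n18438 = n17833 := d28_2 (iv F70084) D18438 (iv D17833)
def n18439 : Q := act 5 n17827
theorem D18439 : act 5 n17827 = n18439 := rfl
theorem F72269 : act 0 n18439 = n17958 := d4_1 D18439 (iv D17958) (iv F70085)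
theorem F72270 : act 2 n18439 = n17828 := d17_1 D18439 (iv D17828) (iv F70086)
theorem F72271 : act 7 n18439 = n17834 := d31_2 (iv F70087) D18439 (iv D17834)
def n18440 : Q := act 6 n17828
theorem D18440 : act 6 n17828 = n18440 := rfl
theorem F72272 : act 0 n18440 = n17959 := d5_1 D18440 (iv D17959) (iv F70088)
theorem F72273 : act 7 n18440 = n17835 := d33_2 (iv F70089) D18440 (iv D17835)
def n18441 : Q := act 5 n17829
theorem D18441 : act 5 n17829 = n18441 := rfl
theorem F72274 : act 0 n18441 = n17960 := d4_1 D18441 (iv D17960) (iv F70090)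
theorem F72275 : act 1 n18441 = n18028 := d11_1 D18441 (iv D18028) (iv F70091)
theorem F72276 : act 2 n18441 = n18357 := d17_1 D18441 (iv D18357) (iv F70092)
theorem F72277 : act 3 n18441 = n18079 := d22_1 D18441 (iv D18079) (iv F70093)
theorem F72278 : act 4 n18441 = n18020 := d26_1 D18441 (iv D18020) (iv D17419) (iv F67996) D17829
theorem F72279 : act 8 n18441 = n18063 := d32_2 (iv F70095) D18441 (iv D18063)
def n18442 : Q := act 5 n17830
theorem D18442 : act 5 n17830 = n18442 := rfl
theorem F72280 : act 0 n18442 = n17962 := d4_1 D18442 (iv D17962) (iv F70096)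
theorem F72281 : act 1 n18442 = n18355 := d11_1 D18442 (iv D18355) (iv F70097)
theorem F72282 : act 2 n18442 = n17831 := d17_1 D18442 (iv D17831) (iv F70098)
theorem F72283 : act 4 n18442 = n17834 := d26_1 D18442 (iv D17834) (iv D17240) (iv F68002) D17830
def n18443 : Q := act 6 n17831
theorem D18443 : act 6 n17831 = n18443 := rfl
theorem F72284 : act 0 n18443 = n17963 := d5_1 D18443 (iv D17963) (iv F70100)
theorem F72285 : act 3 n18443 = n18081 := d23_1 D18443 (iv D18081) (iv F70101)
theorem F72286 : act 4 n18443 = n17835 := d27_1 D18443 (iv D17835) (iv F70102)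
def n18444 : Q := act 4 n17832
theorem D18444 : act 4 n17832 = n18444 := rfl
theorem F72287 : act 0 n18444 = n17833 := d3_1 D18444 (iv D17833) D17832
theorem F72288 : act 1 n18444 = n17964 := d10_1 D18444 (iv D17964) (iv F70103)
theorem F72289 : act 2 n18444 = n17872 := d16_1 D18444 (iv D17872) (iv F70104)
theorem F72290 : act 3 n18444 = n18291 := d21_1 D18444 (iv D18291) F69573 (iv F68020) (iv F70105)
theorem F72291 : act 6 n18444 = n18191 := d27_2 (iv F70107) D18444 (iv D18191)
theorem F72292 : act 8 n18444 = n17940 := d29_2 (iv F70108) D18444 (iv D17940)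
def n18445 : Q := act 5 n17833
theorem D18445 : act 5 n17833 = n18445 := rfl
theorem F72293 : act 1 n18445 = n17834 := d11_1 D18445 (iv D17834) (iv F70109)
theorem F72294 : act 2 n18445 = n18208 := d17_1 D18445 (iv D18208) (iv F70110)
theorem F72295 : act 3 n18445 = n18292 := d22_1 D18445 (iv D18292) (iv F70111)
theorem F72296 : act 4 n18445 = n18355 := d26_1 D18445 (iv D18355) (iv D17745) (iv F68008) D17833
def n18446 : Q := act 6 n17834
theorem D18446 : act 6 n17834 = n18446 := rfl
theorem F72297 : act 0 n18446 = n17966 := d5_1 D18446 (iv D17966) (iv F70113)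
theorem F72298 : act 2 n18446 = n17835 := d18_1 D18446 (iv D17835) (iv F70114)
theorem F72299 : act 3 n18446 = n18293 := d23_1 D18446 (iv D18293) (iv F70115)
def n18447 : Q := act 7 n17837
theorem D18447 : act 7 n17837 = n18447 := rfl
theorem F72300 : act 0 n18447 = n18056 := d6_1 D18447 F70953 (iv F70123)
theorem F72301 : act 1 n18447 = n18299 := d13_1 D18447 (iv D18299) (iv F70124)
theorem F72302 : act 2 n18447 = n17877 := d19_1 D18447 F70297 (iv F70125)
theorem F72303 : act 3 n18447 = n18447 := d24_1 D18447 (iv D18447) (iv D17837) F68058 D17837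
theorem F72304 : act 5 n18447 = n18048 := d31_1 D18447 F70919 (iv F70126)
theorem F72305 : act 6 n18447 = n17879 := d33_1 D18447 F70305 (iv F70127)
def n18448 : Q := act 5 n17839
theorem D18448 : act 5 n17839 = n18448 := rfl
theorem F72306 : act 1 n18448 = n17986 := d11_1 D18448 (iv D17986) (iv F70135)
theorem F72307 : act 2 n18448 = n17846 := d17_1 D18448 (iv D17846) (iv F70136)
theorem F72308 : act 3 n18448 = n18426 := d22_1 D18448 (iv D18426) (iv F70137)
theorem F72309 : act 4 n18448 = n17841 := d26_1 D18448 (iv D17841) (iv D17254) (iv F68073) D17839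
theorem F72310 : act 7 n18448 = n17859 := d31_2 (iv F70139) D18448 (iv D17859)
def n18449 : Q := act 5 n17840
theorem D18449 : act 5 n17840 = n18449 := rfl
theorem F72311 : act 0 n18449 = n18104 := d4_1 D18449 (iv D18104) (iv F70140)
theorem F72312 : act 1 n18449 = n17841 := d11_1 D18449 (iv D17841) (iv F70141)
theorem F72313 : act 2 n18449 = n18087 := d17_1 D18449 (iv D18087) (iv F70142)
theorem F72314 : act 4 n18449 = n17986 := d26_1 D18449 (iv D17986) (iv D17389) (iv F68079) D17840
theorem F72315 : act 7 n18449 = n17860 := d31_2 (iv F70144) D18449 (iv D17860)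
theorem F72316 : act 8 n18449 = n18448 := d32_2 (iv F70145) D18449 (iv D18448)
def n18450 : Q := act 6 n17841
theorem D18450 : act 6 n17841 = n18450 := rfl
theorem F72317 : act 2 n18450 = n18124 := d18_1 D18450 (iv D18124) (iv F70146)
theorem F72318 : act 5 n18450 = n17856 := d30_1 D18450 (iv D17856) (iv D17266) (iv F68084) D17841
theorem F72319 : act 7 n18450 = n17866 := d33_2 (iv F70147) D18450 (iv D17866)
def n18451 : Q := act 4 n17842
theorem D18451 : act 4 n17842 = n18451 := rfl
theorem F72320 : act 0 n18451 = n17845 := d3_1 D18451 (iv D17845) (iv F70148)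
theorem F72321 : act 1 n18451 = n18323 := d10_1 D18451 (iv D18323) (iv F70149)
theorem F72322 : act 2 n18451 = n18071 := d16_1 D18451 (iv D18071) (iv F70150)
theorem F72323 : act 3 n18451 = n17843 := d21_1 D18451 (iv D17843) (iv D17256) (iv F68089) D17842
theorem F72324 : act 6 n18451 = n18102 := d27_2 (iv F70152) D18451 (iv D18102)
theorem F72325 : act 7 n18451 = n18176 := d28_2 (iv F70153) D18451 (iv D18176)
theorem F72326 : act 8 n18451 = n18072 := d29_2 (iv F70154) D18451 (iv D18072)
def n18452 : Q := act 5 n17843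
theorem D18452 : act 5 n17843 = n18452 := rfl
theorem F72327 : act 0 n18452 = n17846 := d4_1 D18452 (iv D17846) (iv F70155)
theorem F72328 : act 4 n18452 = n18115 := d26_1 D18452 (iv D18115) (iv D17514) (iv F68094) D17843
theorem F72329 : act 7 n18452 = n17867 := d31_2 (iv F70157) D18452 (iv D17867)
def n18453 : Q := act 4 n17844
theorem D18453 : act 4 n17844 = n18453 := rfl
theorem F72330 : act 0 n18453 = n18176 := d3_1 D18453 (iv D18176) (iv F70158)
theorem F72331 : act 1 n18453 = n17849 := d10_1 D18453 (iv D17849) (iv F70159)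
theorem F72332 : act 2 n18453 = n18167 := d16_1 D18453 (iv D18167) (iv F70160)
theorem F72333 : act 3 n18453 = n17871 := d21_1 D18453 (iv D17871) (iv D17280) (iv F68100) D17844
theorem F72334 : act 6 n18453 = n18276 := d27_2 (iv F70162) D18453 (iv D18276)
theorem F72335 : act 7 n18453 = n17845 := d28_2 (iv F70163) D18453 (iv D17845)
theorem F72336 : act 8 n18453 = n18042 := d29_2 (iv F70164) D18453 (iv D18042)
def n18454 : Q := act 5 n17845
theorem D18454 : act 5 n17845 = n18454 := rfl
theorem F72337 : act 1 n18454 = n17855 := d11_1 D18454 (iv D17855) (iv F70165)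
theorem F72338 : act 2 n18454 = n18216 := d17_1 D18454 (iv D18216) (iv F70166)
theorem F72339 : act 3 n18454 = n17846 := d22_1 D18454 (iv D17846) (iv F70167)
theorem F72340 : act 4 n18454 = n18219 := d26_1 D18454 (iv D18219) (iv D17608) (iv F68106) D17845
theorem F72341 : act 8 n18454 = n18217 := d32_2 (iv F70168) D18454 (iv D18217)
def n18455 : Q := act 6 n17846
theorem D18455 : act 6 n17846 = n18455 := rfl
theorem F72342 : act 1 n18455 = n17856 := d12_1 D18455 (iv D17856) (iv F70169)
theorem F72343 : act 4 n18455 = n18124 := d27_1 D18455 (iv D18124) (iv F70170)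
theorem F72344 : act 7 n18455 = n17875 := d33_2 (iv F70171) D18455 (iv D17875)
def n18456 : Q := act 2 n17847
theorem D18456 : act 2 n17847 = n18456 := rfl
theorem F72345 : act 0 n18456 = n18264 := d1_1 D18456 (iv D18264) (iv F70172)
theorem F72346 : act 1 n18456 = n18156 := d8_1 D18456 (iv D18156) F69149 (iv F68785) (iv F70173)
theorem F72347 : act 3 n18456 = n18456 := d15_2 D17847 D18456 (iv D18456) (iv D17847) F68112
theorem F72348 : act 5 n18456 = n17848 := d17_2 (iv F70174) D18456 (iv D17848)
theorem F72349 : act 6 n18456 = n18058 := d18_2 (iv F70175) D18456 (iv D18058)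
theorem F72350 : act 7 n18456 = n17851 := d19_2 (iv F70176) D18456 (iv D17851)
theorem F72351 : act 8 n18456 = n18035 := d20_2 (iv F70177) D18456 (iv D18035)
def n18457 : Q := act 4 n17847
theorem D18457 : act 4 n17847 = n18457 := rfl
theorem F72352 : act 0 n18457 = n18265 := d3_1 D18457 (iv D18265) (iv F70172)
theorem F72353 : act 1 n18457 = n18043 := d10_1 D18457 (iv D18043) (iv F70173)
theorem F72354 : act 6 n18457 = n18059 := d27_2 (iv F70175) D18457 (iv D18059)
theorem F72355 : act 7 n18457 = n17852 := d28_2 (iv F70176) D18457 (iv D17852)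
theorem F72356 : act 8 n18457 = n18036 := d29_2 (iv F70177) D18457 (iv D18036)
def n18458 : Q := act 1 n17848
theorem D18458 : act 1 n17848 = n18458 := rfl
theorem F72357 : act 2 n18458 = n18153 := d8_2 D17848 D18458 F71269 (iv F70160) F70159
theorem F72358 : act 3 n18458 = n18458 := d9_2 F70178 D18458 (iv D18458)
theorem F72359 : act 5 n18458 = n18156 := d11_2 F72348 D18458 (iv F72346)
theorem F72360 : act 7 n18458 = n17853 := d13_2 (iv F70179) D18458 (iv D17853)
theorem F72361 : act 8 n18458 = n18154 := d14_2 F72027 D18458 (iv F72022)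
def n18459 : Q := act 4 n17848
theorem D18459 : act 4 n17848 = n18459 := rfl
theorem F72362 : act 2 n18459 = n17849 := d16_1 D18459 (iv D17849) D17848
theorem F72363 : act 7 n18459 = n17854 := d28_2 (iv F70179) D18459 (iv D17854)
def n18460 : Q := act 5 n17849
theorem D18460 : act 5 n17849 = n18460 := rfl
theorem F72364 : act 3 n18460 = n17885 := d22_1 D18460 (iv D17885) (iv F70180)
theorem F72365 : act 7 n18460 = n17855 := d31_2 (iv F70181) D18460 (iv D17855)
def n18461 : Q := act 4 n17850
theorem D18461 : act 4 n17850 = n18461 := rfl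
theorem F72366 : act 1 n18461 = n18026 := d10_1 D18461 (iv D18026) (iv F70182)
theorem F72367 : act 2 n18461 = n18346 := d16_1 D18461 (iv D18346) (iv F70183)
theorem F72368 : act 3 n18461 = n18135 := d21_1 D18461 (iv D18135) (iv D17528) (iv F68119) D17850
theorem F72369 : act 6 n18461 = n17852 := d27_2 (iv F70184) D18461 (iv D17852)
theorem F72370 : act 7 n18461 = n18059 := d28_2 (iv F70185) D18461 (iv D18059)
theorem F72371 : act 8 n18461 = n18019 := d29_2 (iv F70186) D18461 (iv D18019)
def n18462 : Q := act 4 n17851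
theorem D18462 : act 4 n17851 = n18462 := rfl
theorem F72372 : act 1 n18462 = n18202 := d10_1 D18462 (iv D18202) (iv F70187)
theorem F72373 : act 2 n18462 = n17852 := d16_1 D18462 (iv D17852) D17851
theorem F72374 : act 6 n18462 = n18346 := d27_2 (iv F70190) D18462 (iv D18346)
theorem F72375 : act 8 n18462 = n18204 := d29_2 (iv F70191) D18462 (iv D18204)
def n18463 : Q := act 5 n17852
theorem D18463 : act 5 n17852 = n18463 := rfl
theorem F72376 : act 1 n18463 = n18219 := d11_1 D18463 (iv D18219) (iv F70192)
theorem F72377 : act 3 n18463 = n18138 := d22_1 D18463 (iv D18138) (iv F70193)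
theorem F72378 : act 4 n18463 = n17855 := d26_1 D18463 (iv D17855) (iv D17265) (iv F68123) D17852
theorem F72379 : act 8 n18463 = n18221 := d32_2 (iv F70194) D18463 (iv D18221)
def n18464 : Q := act 0 n17853
theorem D18464 : act 0 n17853 = n18464 := rfl
theorem F72380 : act 2 n18464 = n18183 := d1_2 (iv F70195) D18464 F71358
theorem F72381 : act 3 n18464 = n17858 := d2_2 (iv F70196) D18464 (iv D17858)
theorem F72382 : act 5 n18464 = n18186 := d4_2 (iv F70197) D18464 F71370
theorem F72383 : act 8 n18464 = n18184 := d7_2 (iv F70198) D18464 F71364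
def n18465 : Q := act 4 n17853
theorem D18465 : act 4 n17853 = n18465 := rfl
theorem F72384 : act 1 n18465 = n17854 := d10_1 D18465 (iv D17854) D17853
theorem F72385 : act 2 n18465 = n18199 := d16_1 D18465 (iv D18199) (iv F70195)
theorem F72386 : act 3 n18465 = n18315 := d21_1 D18465 (iv D18315) F69643 (iv F68142) (iv F70196)
theorem F72387 : act 8 n18465 = n18200 := d29_2 (iv F70198) D18465 (iv D18200)
def n18466 : Q := act 5 n17854
theorem D18466 : act 5 n17854 = n18466 := rfl
theorem F72388 : act 2 n18466 = n17855 := d17_1 D18466 (iv D17855) (iv F70199)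
theorem F72389 : act 3 n18466 = n18316 := d22_1 D18466 (iv D18316) (iv F70200)
def n18467 : Q := act 6 n17855
theorem D18467 : act 6 n17855 = n18467 := rfl
theorem F72390 : act 3 n18467 = n17856 := d23_1 D18467 (iv D17856) (iv F70201)
def n18468 : Q := act 3 n17857
theorem D18468 : act 3 n17857 = n18468 := rfl
theorem F72391 : act 1 n18468 = n18230 := d9_1 D18468 (iv D18230) (iv F70205)
theorem F72392 : act 2 n18468 = n18144 := d15_1 D18468 (iv D18144) F69106 (iv F68136) (iv F70206)
theorem F72393 : act 5 n18468 = n18319 := d22_2 (iv F70207) D18468 (iv D18319)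
theorem F72394 : act 6 n18468 = n18365 := d23_2 (iv F70208) D18468 (iv D18365)
theorem F72395 : act 8 n18468 = n18231 := d25_2 (iv F70210) D18468 (iv D18231)
def n18469 : Q := act 6 n17859
theorem D18469 : act 6 n17859 = n18469 := rfl
theorem F72396 : act 1 n18469 = n17987 := d12_1 D18469 (iv D17987) (iv F70216)
theorem F72397 : act 2 n18469 = n17875 := d18_1 D18469 (iv D17875) (iv F70217)
theorem F72398 : act 3 n18469 = n17985 := d23_1 D18469 (iv D17985) (iv F70218)
theorem F72399 : act 4 n18469 = n17866 := d27_1 D18469 (iv D17866) (iv F70219)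
theorem F72400 : act 5 n18469 = n18091 := d30_1 D18469 (iv D18091) (iv D17489) (iv F68149) D17859
theorem F72401 : act 8 n18469 = n17898 := d34_2 (iv F70220) D18469 (iv D17898)
def n18470 : Q := act 6 n17860
theorem D18470 : act 6 n17860 = n18470 := rfl
theorem F72402 : act 0 n18470 = n18107 := d5_1 D18470 (iv D18107) (iv F70221)
theorem F72403 : act 1 n18470 = n17866 := d12_1 D18470 (iv D17866) (iv F70222)
theorem F72404 : act 2 n18470 = n18091 := d18_1 D18470 (iv D18091) (iv F70223)
theorem F72405 : act 3 n18470 = n18290 := d23_1 D18470 (iv D18290) (iv F70224)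
theorem F72406 : act 4 n18470 = n17987 := d27_1 D18470 (iv D17987) (iv F70225)
theorem F72407 : act 5 n18470 = n17875 := d30_1 D18470 (iv D17875) (iv D17284) (iv F68155) D17860
theorem F72408 : act 8 n18470 = n17905 := d34_2 (iv F70226) D18470 (iv D17905)
def n18471 : Q := act 1 n17861
theorem D18471 : act 1 n17861 = n18471 := rfl
theorem F72409 : act 2 n18471 = n18084 := d8_2 D17861 D18471 F71037 (iv D17677) (iv F68157)
theorem F72410 : act 3 n18471 = n18471 := d9_2 F70227 D18471 (iv D18471)
theorem F72411 : act 5 n18471 = n18266 := d11_2 (iv F70228) D18471 (iv D18266)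
theorem F72412 : act 6 n18471 = n17883 := d12_2 (iv F70229) D18471 (iv D17883)
theorem F72413 : act 7 n18471 = n17863 := d13_2 (iv F70230) D18471 (iv D17863)
theorem F72414 : act 0 n18300 = n18471 := d6_3 F72413 (iv F70239) D18300
def n18472 : Q := act 4 n17861
theorem D18472 : act 4 n17861 = n18472 := rfl
theorem F72415 : act 2 n18472 = n17862 := d16_1 D18472 (iv D17862) D17861
theorem F72416 : act 6 n18472 = n17884 := d27_2 (iv F70229) D18472 (iv D17884)
theorem F72417 : act 7 n18472 = n17864 := d28_2 (iv F70230) D18472 (iv D17864)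
def n18473 : Q := act 5 n17862
theorem D18473 : act 5 n17862 = n18473 := rfl
theorem F72418 : act 1 n18473 = n18280 := d11_1 D18473 (iv D18280) (iv F70231)
theorem F72419 : act 4 n18473 = n18268 := d26_1 D18473 (iv D18268) (iv D17668) (iv F68158) D17862
theorem F72420 : act 7 n18473 = n17865 := d31_2 (iv F70233) D18473 (iv D17865)
def n18474 : Q := act 4 n17863
theorem D18474 : act 4 n17863 = n18474 := rfl
theorem F72421 : act 0 n18474 = n18270 := d3_1 D18474 F71635 F70239
theorem F72422 : act 1 n18474 = n17864 := d10_1 D18474 (iv D17864) D17863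
theorem F72423 : act 2 n18474 = n18039 := d16_1 D18474 F70884 (iv F70234)
theorem F72424 : act 3 n18474 = n18037 := d21_1 D18474 (iv D18037) F68767 (iv F68172) (iv F70235)
theorem F72425 : act 6 n18474 = n17891 := d27_2 (iv F70237) D18474 (iv D17891)
theorem F72426 : act 8 n18474 = n17917 := d29_2 (iv F70238) D18474 (iv D17917)
def n18475 : Q := act 5 n17864
theorem D18475 : act 5 n17864 = n18475 := rfl
theorem F72427 : act 2 n18475 = n17865 := d17_1 D18475 (iv D17865) (iv F70240)
theorem F72428 : act 3 n18475 = n18162 := d22_1 D18475 (iv D18162) (iv F70241)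
theorem F72429 : act 4 n18475 = n18271 := d26_1 D18475 (iv D18271) (iv D17670) (iv F68162) D17864
theorem F72430 : act 8 n18475 = n17918 := d32_2 (iv F70243) D18475 (iv D17918)
def n18476 : Q := act 6 n17865
theorem D18476 : act 6 n17865 = n18476 := rfl
theorem F72431 : act 1 n18476 = n18290 := d12_1 D18476 (iv D18290) (iv F70244)
theorem F72432 : act 3 n18476 = n17866 := d23_1 D18476 (iv D17866) (iv F70245)
theorem F72433 : act 4 n18476 = n18272 := d27_1 D18476 (iv D18272) (iv F70246)
theorem F72434 : act 5 n18476 = n17893 := d30_1 D18476 (iv D17893) (iv D17297) (iv F68167) D17865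
theorem F72435 : act 8 n18476 = n17919 := d34_2 (iv F70247) D18476 (iv D17919)
def n18477 : Q := act 6 n17867
theorem D18477 : act 6 n17867 = n18477 := rfl
theorem F72436 : act 0 n18477 = n17875 := d5_1 D18477 (iv D17875) (iv F70251)
theorem F72437 : act 3 n18477 = n18356 := d23_1 D18477 (iv D18356) (iv F70252)
theorem F72438 : act 4 n18477 = n18151 := d27_1 D18477 (iv D18151) (iv F70253)
theorem F72439 : act 5 n18477 = n18107 := d30_1 D18477 (iv D18107) (iv D17506) (iv F68180) D17867
theorem F72440 : act 8 n18477 = n17927 := d34_2 (iv F70254) D18477 (iv D17927)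
def n18478 : Q := act 4 n17868
theorem D18478 : act 4 n17868 = n18478 := rfl
theorem F72441 : act 0 n18478 = n18198 := d3_1 D18478 (iv D18198) (iv F70255)
theorem F72442 : act 1 n18478 = n17880 := d10_1 D18478 (iv D17880) (iv F70256)
theorem F72443 : act 6 n18478 = n18185 := d27_2 (iv F70258) D18478 (iv D18185)
theorem F72444 : act 7 n18478 = n17872 := d28_2 (iv F70259) D18478 (iv D17872)
def n18479 : Q := act 2 n17869
theorem D18479 : act 2 n17869 = n18479 := rfl
theorem F72445 : act 0 n18479 = n18173 := d1_1 D18479 (iv D18173) (iv F70260)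
theorem F72446 : act 3 n18479 = n17988 := d15_2 D17869 D18479 F70694 (iv D17478) (iv F68189)
theorem F72447 : act 6 n18479 = n18277 := d18_2 (iv F70262) D18479 (iv D18277)
theorem F72448 : act 7 n18479 = n17933 := d19_2 (iv F70263) D18479 (iv D17933)
theorem F72449 : act 8 n18479 = n17870 := d20_2 (iv F70264) D18479 (iv D17870)
theorem F72450 : act 1 n18085 = n18479 := d14_3 F72449 (iv F70269) D18085
def n18480 : Q := act 4 n17869
theorem D18480 : act 4 n17869 = n18480 := rfl
theorem F72451 : act 0 n18480 = n18174 := d3_1 D18480 (iv D18174) (iv F70260)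
theorem F72452 : act 1 n18480 = n17882 := d10_1 D18480 (iv D17882) (iv F70261)
theorem F72453 : act 3 n18480 = n18042 := d21_1 D18480 (iv D18042) (iv D17439) (iv F68190) D17869
theorem F72454 : act 6 n18480 = n18278 := d27_2 (iv F70262) D18480 (iv D18278)
theorem F72455 : act 7 n18480 = n17934 := d28_2 (iv F70263) D18480 (iv D17934)
theorem F72456 : act 8 n18480 = n17871 := d29_2 (iv F70264) D18480 (iv D17871)
def n18481 : Q := act 4 n17870
theorem D18481 : act 4 n17870 = n18481 := rfl
theorem F72457 : act 0 n18481 = n18336 := d3_1 D18481 (iv D18336) (iv F70265)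
theorem F72458 : act 1 n18481 = n18067 := d10_1 D18481 F70978 F70269
theorem F72459 : act 2 n18481 = n17871 := d16_1 D18481 (iv D17871) D17870
theorem F72460 : act 3 n18481 = n18430 := d21_1 D18481 F72234 F70132 (iv F68606) (iv F70266)
theorem F72461 : act 6 n18481 = n18279 := d27_2 (iv F70267) D18481 (iv D18279)
theorem F72462 : act 7 n18481 = n17873 := d28_2 (iv F70268) D18481 (iv D17873)
def n18482 : Q := act 5 n17871
theorem D18482 : act 5 n17871 = n18482 := rfl
theorem F72463 : act 0 n18482 = n18337 := d4_1 D18482 (iv D18337) (iv F70270)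
theorem F72464 : act 1 n18482 = n17885 := d11_1 D18482 (iv D17885) (iv F70271)
theorem F72465 : act 7 n18482 = n17874 := d31_2 (iv F70273) D18482 (iv D17874)
def n18483 : Q := act 5 n17872
theorem D18483 : act 5 n17872 = n18483 := rfl
theorem F72466 : act 0 n18483 = n18208 := d4_1 D18483 (iv D18208) (iv F70274)
theorem F72467 : act 1 n18483 = n17889 := d11_1 D18483 (iv D17889) (iv F70275)
theorem F72468 : act 3 n18483 = n18161 := d22_1 D18483 (iv D18161) (iv F70276)
theorem F72469 : act 4 n18483 = n17874 := d26_1 D18483 (iv D17874) (iv D17283) (iv F68199) D17872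
theorem F72470 : act 8 n18483 = n17941 := d32_2 (iv F70278) D18483 (iv D17941)
def n18484 : Q := act 5 n17873
theorem D18484 : act 5 n17873 = n18484 := rfl
theorem F72471 : act 0 n18484 = n18355 := d4_1 D18484 (iv D18355) (iv F70279)
theorem F72472 : act 1 n18484 = n18066 := d11_1 D18484 (iv D18066) (iv F70280)
theorem F72473 : act 2 n18484 = n17874 := d17_1 D18484 (iv D17874) (iv F70281)
theorem F72474 : act 3 n18484 = n17984 := d22_1 D18484 (iv D17984) (iv F70282)
theorem F72475 : act 8 n18484 = n17943 := d32_2 (iv F70284) D18484 (iv D17943)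
def n18485 : Q := act 6 n17874
theorem D18485 : act 6 n17874 = n18485 := rfl
theorem F72476 : act 0 n18485 = n18356 := d5_1 D18485 (iv D18356) (iv F70285)
theorem F72477 : act 1 n18485 = n17893 := d12_1 D18485 (iv D17893) (iv F70286)
theorem F72478 : act 3 n18485 = n17875 := d23_1 D18485 (iv D17875) (iv F70287)
theorem F72479 : act 5 n18485 = n18290 := d30_1 D18485 (iv D18290) (iv D17685) (iv F68210) D17874
theorem F72480 : act 8 n18485 = n17944 := d34_2 (iv F70288) D18485 (iv D17944)
def n18486 : Q := act 2 n17876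
theorem D18486 : act 2 n17876 = n18486 := rfl
theorem F72481 : act 3 n18486 = n18486 := d15_2 D17876 D18486 (iv D18486) (iv D17876) F68215
theorem F72482 : act 7 n18486 = n18164 := d19_2 (iv F70292) D18486 (iv D18164)
theorem F72483 : act 8 n18486 = n18447 := d20_2 F70298 D18486 F72302
def n18487 : Q := act 4 n17876
theorem D18487 : act 4 n17876 = n18487 := rfl
theorem F72484 : act 3 n18487 = n17880 := d21_1 D18487 (iv D17880) (iv D17288) (iv F68216) D17876
theorem F72485 : act 7 n18487 = n18165 := d28_2 (iv F70292) D18487 (iv D18165)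
def n18488 : Q := act 4 n17877
theorem D18488 : act 4 n17877 = n18488 := rfl
theorem F72486 : act 0 n18488 = n18057 := d3_1 D18488 (iv D18057) (iv F70293)
theorem F72487 : act 1 n18488 = n18185 := d10_1 D18488 (iv D18185) (iv F70294)
theorem F72488 : act 6 n18488 = n17880 := d27_2 (iv F70296) D18488 (iv D17880)
theorem F72489 : act 7 n18488 = n17886 := d28_2 (iv F70297) D18488 (iv D17886)
theorem F72490 : act 8 n18488 = n18487 := d29_2 (iv F70298) D18488 (iv D18487)
def n18489 : Q := act 2 n17878
theorem D18489 : act 2 n17878 = n18489 := rfl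
theorem F72491 : act 3 n18489 = n18489 := d15_2 D17878 D18489 (iv D18489) (iv D17878) F68223
theorem F72492 : act 5 n18489 = n17881 := d17_2 (iv F70299) D18489 (iv D17881)
theorem F72493 : act 6 n18489 = n18486 := d18_2 (iv F70300) D18489 (iv D18486)
theorem F72494 : act 7 n18489 = n17947 := d19_2 (iv F70301) D18489 (iv D17947)
theorem F72495 : act 8 n18489 = n17879 := d20_2 (iv F70302) D18489 (iv D17879)
def n18490 : Q := act 4 n17878
theorem D18490 : act 4 n17878 = n18490 := rfl
theorem F72496 : act 3 n18490 = n18488 := d21_1 D18490 (iv D18488) (iv D17877) (iv F68224) D17878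
theorem F72497 : act 6 n18490 = n18487 := d27_2 (iv F70300) D18490 (iv D18487)
theorem F72498 : act 7 n18490 = n17948 := d28_2 (iv F70301) D18490 (iv D17948)
theorem F72499 : act 8 n18490 = n17880 := d29_2 (iv F70302) D18490 (iv D17880)
def n18491 : Q := act 1 n17879
theorem D18491 : act 1 n17879 = n18491 := rfl
theorem F72500 : act 0 n18491 = n17935 := d0_1 D18491 (iv D17935) (iv F70474) (iv F72087) F72086
theorem F72501 : act 2 n18491 = n17955 := d8_2 D17879 D18491 (iv F72259) F72260 F70256
theorem F72502 : act 3 n18491 = n18491 := d9_2 F70303 D18491 (iv D18491)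
theorem F72503 : act 5 n18491 = n17883 := d11_2 (iv F70304) D18491 (iv D17883)
theorem F72504 : act 6 n18491 = n18299 := d12_2 F72305 D18491 (iv F72301)
theorem F72505 : act 7 n18491 = n17887 := d13_2 (iv F70305) D18491 (iv D17887)
def n18492 : Q := act 4 n17879
theorem D18492 : act 4 n17879 = n18492 := rfl
theorem F72506 : act 2 n18492 = n17880 := d16_1 D18492 (iv D17880) D17879
theorem F72507 : act 7 n18492 = n17888 := d28_2 (iv F70305) D18492 (iv D17888)
def n18493 : Q := act 5 n17880
theorem D18493 : act 5 n17880 = n18493 := rfl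
theorem F72508 : act 4 n18493 = n17885 := d26_1 D18493 (iv D17885) (iv D17291) (iv F68228) D17880
theorem F72509 : act 7 n18493 = n17889 := d31_2 (iv F70306) D18493 (iv D17889)
def n18494 : Q := act 1 n17881
theorem D18494 : act 1 n17881 = n18494 := rfl
theorem F72510 : act 2 n18494 = n18085 := d8_2 D17881 D18494 F72450 (iv D18479) F70261
theorem F72511 : act 3 n18494 = n18494 := d9_2 F70307 D18494 (iv D18494)
theorem F72512 : act 7 n18494 = n17952 := d13_2 (iv F70308) D18494 (iv D17952)
theorem F72513 : act 8 n18494 = n17883 := d14_2 (iv F70309) D18494 (iv D17883)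
def n18495 : Q := act 4 n17881
theorem D18495 : act 4 n17881 = n18495 := rfl
theorem F72514 : act 2 n18495 = n17882 := d16_1 D18495 (iv D17882) D17881
theorem F72515 : act 7 n18495 = n17953 := d28_2 (iv F70308) D18495 (iv D17953)
theorem F72516 : act 8 n18495 = n17884 := d29_2 (iv F70309) D18495 (iv D17884)
def n18496 : Q := act 5 n17882
theorem D18496 : act 5 n17882 = n18496 := rfl
theorem F72517 : act 7 n18496 = n17954 := d31_2 (iv F70310) D18496 (iv D17954)
theorem F72518 : act 8 n18496 = n17885 := d32_2 (iv F70311) D18496 (iv D17885)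
def n18497 : Q := act 0 n17883
theorem D18497 : act 0 n17883 = n18497 := rfl
theorem F72519 : act 1 n18497 = n17931 := d0_2 D17883 D18497 F72112 (iv D18404) F69933
theorem F72520 : act 2 n18497 = n17949 := d1_2 (iv F70312) D18497 F70554
theorem F72521 : act 3 n18497 = n18497 := d2_2 F70313 D18497 (iv D18497)
theorem F72522 : act 5 n18497 = n17935 := d4_2 F72503 D18497 (iv F72500)
theorem F72523 : act 6 n18497 = n18300 := d5_2 F72412 D18497 F72414
theorem F72524 : act 7 n18497 = n17890 := d6_2 (iv F70314) D18497 (iv D17890)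
def n18498 : Q := act 4 n17883
theorem D18498 : act 4 n17883 = n18498 := rfl
theorem F72525 : act 1 n18498 = n17884 := d10_1 D18498 (iv D17884) D17883
theorem F72526 : act 2 n18498 = n18067 := d16_1 D18498 F70978 (iv F70312)
theorem F72527 : act 7 n18498 = n17891 := d28_2 (iv F70314) D18498 (iv D17891)
def n18499 : Q := act 3 n17884
theorem D18499 : act 3 n17884 = n18499 := rfl
theorem F72528 : act 4 n18499 = n18499 := d21_2 D17884 D18499 (iv D18499) (iv D17884) F68232
theorem F72529 : act 7 n18499 = n18328 := d24_2 (iv F70316) D18499 (iv D18328) F69686 (iv F68249)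
def n18500 : Q := act 5 n17884
theorem D18500 : act 5 n17884 = n18500 := rfl
theorem F72530 : act 2 n18500 = n17885 := d17_1 D18500 (iv D17885) (iv F70315)
theorem F72531 : act 7 n18500 = n17892 := d31_2 (iv F70316) D18500 (iv D17892)
def n18501 : Q := act 6 n17885
theorem D18501 : act 6 n17885 = n18501 := rfl
theorem F72532 : act 7 n18501 = n17893 := d33_2 (iv F70317) D18501 (iv D17893)
def n18502 : Q := act 5 n17886
theorem D18502 : act 5 n17886 = n18502 := rfl
theorem F72533 : act 0 n18502 = n18063 := d4_1 D18502 (iv D18063) (iv F70318)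
theorem F72534 : act 1 n18502 = n18192 := d11_1 D18502 (iv D18192) (iv F70319)
theorem F72535 : act 3 n18502 = n18171 := d22_1 D18502 (iv D18171) (iv F70320)
theorem F72536 : act 4 n18502 = n18051 := d26_1 D18502 (iv D18051) (iv D17448) (iv F68237) D17886
theorem F72537 : act 8 n18502 = n17960 := d32_2 (iv F70322) D18502 (iv D17960)
def n18503 : Q := act 4 n17887
theorem D18503 : act 4 n17887 = n18503 := rfl
theorem F72538 : act 0 n18503 = n17942 := d3_1 D18503 (iv D17942) (iv F70323)
theorem F72539 : act 1 n18503 = n17888 := d10_1 D18503 (iv D17888) D17887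
theorem F72540 : act 2 n18503 = n17964 := d16_1 D18503 (iv D17964) (iv F70324)
theorem F72541 : act 3 n18503 = n18017 := d21_1 D18503 (iv D18017) F68696 (iv F68258) (iv F70325)
theorem F72542 : act 6 n18503 = n18253 := d27_2 (iv F70327) D18503 F71591
theorem F72543 : act 8 n18503 = n17961 := d29_2 (iv F70328) D18503 (iv D17961)
def n18504 : Q := act 5 n17888
theorem D18504 : act 5 n17888 = n18504 := rfl
theorem F72544 : act 2 n18504 = n17889 := d17_1 D18504 (iv D17889) (iv F70329)
theorem F72545 : act 4 n18504 = n17892 := d26_1 D18504 (iv D17892) (iv D17296) (iv F68241) D17888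
theorem F72546 : act 8 n18504 = n17962 := d32_2 (iv F70330) D18504 (iv D17962)
def n18505 : Q := act 6 n17889
theorem D18505 : act 6 n17889 = n18505 := rfl
theorem F72547 : act 3 n18505 = n18172 := d23_1 D18505 (iv D18172) (iv F70331)
theorem F72548 : act 4 n18505 = n17893 := d27_1 D18505 (iv D17893) (iv F70332)
theorem F72549 : act 8 n18505 = n17963 := d34_2 (iv F70333) D18505 (iv D17963)
def n18506 : Q := act 4 n17890
theorem D18506 : act 4 n17890 = n18506 := rfl
theorem F72550 : act 0 n18506 = n17891 := d3_1 D18506 (iv D17891) D17890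
theorem F72551 : act 1 n18506 = n17940 := d10_1 D18506 (iv D17940) (iv F70334)
theorem F72552 : act 2 n18506 = n17961 := d16_1 D18506 (iv D17961) (iv F70335)
theorem F72553 : act 3 n18506 = n18050 := d21_1 D18506 (iv D18050) F68814 (iv F68265) (iv F70336)
theorem F72554 : act 6 n18506 = n18270 := d27_2 (iv F70338) D18506 F71635
theorem F72555 : act 8 n18506 = n17964 := d29_2 (iv F70339) D18506 (iv D17964)
def n18507 : Q := act 5 n17891
theorem D18507 : act 5 n17891 = n18507 := rfl
theorem F72556 : act 1 n18507 = n17892 := d11_1 D18507 (iv D17892) (iv F70340)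
theorem F72557 : act 2 n18507 = n18066 := d17_1 D18507 (iv D18066) (iv F70341)
theorem F72558 : act 3 n18507 = n18064 := d22_1 D18507 (iv D18064) (iv F70342)
theorem F72559 : act 8 n18507 = n17965 := d32_2 (iv F70343) D18507 (iv D17965)
def n18508 : Q := act 6 n17892
theorem D18508 : act 6 n17892 = n18508 := rfl
theorem F72560 : act 2 n18508 = n17893 := d18_1 D18508 (iv D17893) (iv F70344)
theorem F72561 : act 3 n18508 = n18333 := d23_1 D18508 (iv D18333) (iv F70345)
theorem F72562 : act 8 n18508 = n17966 := d34_2 (iv F70346) D18508 (iv D17966)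
def n18509 : Q := act 4 n17894
theorem D18509 : act 4 n17894 = n18509 := rfl
theorem F72563 : act 1 n18509 = n18000 := d10_1 D18509 (iv D18000) (iv F70349)
theorem F72564 : act 2 n18509 = n17895 := d16_1 D18509 (iv D17895) D17894
theorem F72565 : act 6 n18509 = n18096 := d27_2 (iv F70352) D18509 (iv D18096)
theorem F72566 : act 7 n18509 = n17896 := d28_2 (iv F70353) D18509 (iv D17896)
theorem F72567 : act 8 n18509 = n18372 := d29_2 (iv F70354) D18509 (iv D18372)
def n18510 : Q := act 5 n17895
theorem D18510 : act 5 n17895 = n18510 := rfl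
theorem F72568 : act 1 n18510 = n17977 := d11_1 D18510 (iv D17977) (iv F70355)
theorem F72569 : act 4 n18510 = n18241 := d26_1 D18510 (iv D18241) (iv D17648) (iv F68271) D17895
theorem F72570 : act 7 n18510 = n17897 := d31_2 (iv F70357) D18510 (iv D17897)
theorem F72571 : act 8 n18510 = n18373 := d32_2 (iv F70358) D18510 (iv D18373)
def n18511 : Q := act 5 n17896
theorem D18511 : act 5 n17896 = n18511 := rfl
theorem F72572 : act 1 n18511 = n18021 := d11_1 D18511 (iv D18021) (iv F70359)
theorem F72573 : act 2 n18511 = n17897 := d17_1 D18511 (iv D17897) (iv F70360)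
theorem F72574 : act 3 n18511 = n17943 := d22_1 D18511 (iv D17943) (iv F70361)
theorem F72575 : act 4 n18511 = n18254 := d26_1 D18511 (iv D18254) (iv D17657) (iv F68277) D17896
theorem F72576 : act 8 n18511 = n17984 := d32_2 (iv F70363) D18511 (iv D17984)
def n18512 : Q := act 6 n17897
theorem D18512 : act 6 n17897 = n18512 := rfl
theorem F72577 : act 1 n18512 = n17978 := d12_1 D18512 (iv D17978) (iv F70364)
theorem F72578 : act 3 n18512 = n17898 := d23_1 D18512 (iv D17898) (iv F70365)
theorem F72579 : act 4 n18512 = n18255 := d27_1 D18512 (iv D18255) (iv F70366)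
theorem F72580 : act 5 n18512 = n18101 := d30_1 D18512 (iv D18101) (iv D17499) (iv F68282) D17897
theorem F72581 : act 8 n18512 = n17985 := d34_2 (iv F70367) D18512 (iv D17985)
def n18513 : Q := act 6 n17899
theorem D18513 : act 6 n17899 = n18513 := rfl
theorem F72582 : act 0 n18513 = n17905 := d5_1 D18513 (iv D17905) (iv F70372)
theorem F72583 : act 2 n18513 = n18034 := d18_1 D18513 (iv D18034) (iv F70373)
theorem F72584 : act 3 n18513 = n18332 := d23_1 D18513 (iv D18332) (iv F70374)
theorem F72585 : act 4 n18513 = n17981 := d27_1 D18513 (iv D17981) (iv F70375)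
theorem F72586 : act 5 n18513 = n17927 := d30_1 D18513 (iv D17927) (iv D17329) (iv F68290) D17899
theorem F72587 : act 7 n18513 = n18415 := d33_2 (iv F70376) D18513 (iv D18415)
theorem F72588 : act 8 n18513 = n18107 := d34_2 (iv F70377) D18513 (iv D18107)
def n18514 : Q := act 1 n17900
theorem D18514 : act 1 n17900 = n18514 := rfl
theorem F72589 : act 0 n18514 = n18299 := d0_1 D18514 (iv F72301) F72300 F70950 (iv F70378)
theorem F72590 : act 2 n18514 = n17909 := d8_2 D17900 D18514 (iv D17909) (iv D17312) (iv F68294)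
theorem F72591 : act 3 n18514 = n18514 := d9_2 F70379 D18514 (iv D18514)
theorem F72592 : act 5 n18514 = n18258 := d11_2 (iv F70380) D18514 (iv D18258)
theorem F72593 : act 6 n18514 = n17935 := d12_2 (iv F70381) D18514 (iv D17935)
theorem F72594 : act 7 n18514 = n17902 := d13_2 (iv F70382) D18514 (iv D17902)
def n18515 : Q := act 4 n17900
theorem D18515 : act 4 n17900 = n18515 := rfl
theorem F72595 : act 0 n18515 = n18324 := d3_1 D18515 (iv D18324) (iv F70378)
theorem F72596 : act 2 n18515 = n17901 := d16_1 D18515 (iv D17901) D17900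
theorem F72597 : act 6 n18515 = n17936 := d27_2 (iv F70381) D18515 (iv D17936)
theorem F72598 : act 7 n18515 = n17903 := d28_2 (iv F70382) D18515 (iv D17903)
def n18516 : Q := act 5 n17901
theorem D18516 : act 5 n17901 = n18516 := rfl
theorem F72599 : act 0 n18516 = n18325 := d4_1 D18516 (iv D18325) (iv F70383)
theorem F72600 : act 1 n18516 = n17911 := d11_1 D18516 (iv D17911) (iv F70384)
theorem F72601 : act 3 n18516 = n18510 := d22_1 D18516 (iv D18510) (iv F70385)
theorem F72602 : act 4 n18516 = n18260 := d26_1 D18516 (iv D18260) (iv D17661) (iv F68295) D17901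
theorem F72603 : act 7 n18516 = n17904 := d31_2 (iv F70387) D18516 (iv D17904)
def n18517 : Q := act 4 n17902
theorem D18517 : act 4 n17902 = n18517 := rfl
theorem F72604 : act 0 n18517 = n18253 := d3_1 D18517 F71591 (iv F70388)
theorem F72605 : act 1 n18517 = n17903 := d10_1 D18517 (iv D17903) D17902
theorem F72606 : act 2 n18517 = n17917 := d16_1 D18517 (iv D17917) (iv F70389)
theorem F72607 : act 3 n18517 = n18014 := d21_1 D18517 (iv D18014) F68683 (iv F68523) (iv F70390)
theorem F72608 : act 6 n18517 = n17942 := d27_2 (iv F70392) D18517 (iv D17942)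
theorem F72609 : act 8 n18517 = n18039 := d29_2 (iv F70393) D18517 F70884
def n18518 : Q := act 5 n17903
theorem D18518 : act 5 n17903 = n18518 := rfl
theorem F72610 : act 0 n18518 = n18331 := d4_1 D18518 (iv D18331) (iv F70394)
theorem F72611 : act 2 n18518 = n17904 := d17_1 D18518 (iv D17904) (iv F70395)
theorem F72612 : act 3 n18518 = n18100 := d22_1 D18518 (iv D18100) (iv F70396)
theorem F72613 : act 4 n18518 = n18262 := d26_1 D18518 (iv D18262) (iv D17663) (iv F68300) D17903
theorem F72614 : act 8 n18518 = n18289 := d32_2 (iv F70398) D18518 (iv D18289)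
def n18519 : Q := act 6 n17904
theorem D18519 : act 6 n17904 = n18519 := rfl
theorem F72615 : act 0 n18519 = n18332 := d5_1 D18519 (iv D18332) (iv F70399)
theorem F72616 : act 1 n18519 = n17919 := d12_1 D18519 (iv D17919) (iv F70400)
theorem F72617 : act 3 n18519 = n17905 := d23_1 D18519 (iv D17905) (iv F70401)
theorem F72618 : act 4 n18519 = n18263 := d27_1 D18519 (iv D18263) (iv F70402)
theorem F72619 : act 5 n18519 = n17944 := d30_1 D18519 (iv D17944) (iv D17342) (iv F68306) D17904
theorem F72620 : act 8 n18519 = n18290 := d34_2 (iv F70403) D18519 (iv D18290)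
def n18520 : Q := act 4 n17906
theorem D18520 : act 4 n17906 = n18520 := rfl
theorem F72621 : act 0 n18520 = n18019 := d3_1 D18520 (iv D18019) (iv F70409)
theorem F72622 : act 1 n18520 = n18147 := d10_1 D18520 (iv D18147) (iv F70410)
theorem F72623 : act 2 n18520 = n18350 := d16_1 D18520 (iv D18350) (iv F70411)
theorem F72624 : act 6 n18520 = n17908 := d27_2 (iv F70413) D18520 (iv D17908)
theorem F72625 : act 7 n18520 = n17912 := d28_2 (iv F70414) D18520 (iv D17912)
def n18521 : Q := act 1 n17907
theorem D18521 : act 1 n17907 = n18521 := rfl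
theorem F72626 : act 0 n18521 = n18188 := d0_1 D18521 (iv D18188) F69237 D17593 (iv F70415)
theorem F72627 : act 2 n18521 = n18258 := d8_2 D17907 D18521 (iv D18258) (iv D17660) (iv F68318)
theorem F72628 : act 3 n18521 = n17967 := d9_2 (iv F70416) D18521 (iv D17967)
theorem F72629 : act 5 n18521 = n17909 := d11_2 (iv F70417) D18521 (iv D17909)
theorem F72630 : act 6 n18521 = n18284 := d12_2 (iv F70418) D18521 F71669
theorem F72631 : act 7 n18521 = n17913 := d13_2 (iv F70419) D18521 (iv D17913)
def n18522 : Q := act 4 n17907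
theorem D18522 : act 4 n17907 = n18522 := rfl
theorem F72632 : act 0 n18522 = n18204 := d3_1 D18522 (iv D18204) (iv F70415)
theorem F72633 : act 2 n18522 = n17908 := d16_1 D18522 (iv D17908) D17907
theorem F72634 : act 6 n18522 = n18350 := d27_2 (iv F70418) D18522 (iv D18350)
theorem F72635 : act 7 n18522 = n17914 := d28_2 (iv F70419) D18522 (iv D17914)
def n18523 : Q := act 5 n17908
theorem D18523 : act 5 n17908 = n18523 := rfl
theorem F72636 : act 0 n18523 = n18221 := d4_1 D18523 (iv D18221) (iv F70420)
theorem F72637 : act 1 n18523 = n18260 := d11_1 D18523 (iv D18260) (iv F70421)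
theorem F72638 : act 4 n18523 = n17911 := d26_1 D18523 (iv D17911) (iv D17313) (iv F68319) D17908
theorem F72639 : act 7 n18523 = n17915 := d31_2 (iv F70422) D18523 (iv D17915)
def n18524 : Q := act 0 n17909
theorem D18524 : act 0 n17909 = n18524 := rfl
theorem F72640 : act 1 n18524 = n18184 := d0_2 D17909 D18524 F71364 F69270 F68944
theorem F72641 : act 2 n18524 = n18299 := d1_2 F72590 D18524 (iv F72589)
theorem F72642 : act 3 n18524 = n17969 := d2_2 (iv F70423) D18524 (iv D17969)
theorem F72643 : act 5 n18524 = n18188 := d4_2 F72629 D18524 (iv F72626)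
theorem F72644 : act 6 n18524 = n17955 := d5_2 (iv F70424) D18524 (iv D17955)
theorem F72645 : act 7 n18524 = n17916 := d6_2 (iv F70425) D18524 (iv D17916)
def n18525 : Q := act 4 n17909
theorem D18525 : act 4 n17909 = n18525 := rfl
theorem F72646 : act 1 n18525 = n17910 := d10_1 D18525 (iv D17910) D17909
theorem F72647 : act 6 n18525 = n17956 := d27_2 (iv F70424) D18525 (iv D17956)
theorem F72648 : act 7 n18525 = n17917 := d28_2 (iv F70425) D18525 (iv D17917)
def n18526 : Q := act 5 n17910
theorem D18526 : act 5 n17910 = n18526 := rfl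
theorem F72649 : act 2 n18526 = n17911 := d17_1 D18526 (iv D17911) (iv F70426)
theorem F72650 : act 7 n18526 = n17918 := d31_2 (iv F70428) D18526 (iv D17918)
def n18527 : Q := act 6 n17911
theorem D18527 : act 6 n17911 = n18527 := rfl
theorem F72651 : act 5 n18527 = n17959 := d30_1 D18527 (iv D17959) (iv D17353) (iv F68324) D17911
theorem F72652 : act 7 n18527 = n17919 := d33_2 (iv F70429) D18527 (iv D17919)
def n18528 : Q := act 5 n17912
theorem D18528 : act 5 n17912 = n18528 := rfl
theorem F72653 : act 0 n18528 = n18020 := d4_1 D18528 (iv D18020) (iv F70430)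
theorem F72654 : act 1 n18528 = n18150 := d11_1 D18528 (iv D18150) (iv F70431)
theorem F72655 : act 2 n18528 = n18361 := d17_1 D18528 (iv D18361) (iv F70432)
theorem F72656 : act 3 n18528 = n18018 := d22_1 D18528 (iv D18018) (iv F70433)
theorem F72657 : act 4 n18528 = n17960 := d26_1 D18528 (iv D17960) (iv D17354) (iv F68329) D17912
theorem F72658 : act 8 n18528 = n18051 := d32_2 (iv F70435) D18528 (iv D18051)
def n18529 : Q := act 4 n17913
theorem D18529 : act 4 n17913 = n18529 := rfl
theorem F72659 : act 0 n18529 = n18193 := d3_1 D18529 (iv D18193) (iv F70436)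
theorem F72660 : act 1 n18529 = n17914 := d10_1 D18529 (iv D17914) D17913
theorem F72661 : act 2 n18529 = n18261 := d16_1 D18529 (iv D18261) (iv F70437)
theorem F72662 : act 3 n18529 = n18191 := d21_1 D18529 (iv D18191) F69246 F68355 (iv F70438)
theorem F72663 : act 6 n18529 = n18291 := d27_2 (iv F70440) D18529 (iv D18291)
theorem F72664 : act 8 n18529 = n18269 := d29_2 (iv F70441) D18529 (iv D18269)
def n18530 : Q := act 3 n17914
theorem D18530 : act 3 n17914 = n18530 := rfl
theorem F72665 : act 0 n18530 = n17917 := d2_1 D18530 F70458 (iv F70442)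
theorem F72666 : act 1 n18530 = n18191 := d9_1 D18530 (iv F72662) F72660
theorem F72667 : act 2 n18530 = n18253 := d15_1 D18530 (iv D18253) F69502 (iv F68339) (iv F70443)
theorem F72668 : act 4 n18530 = n17916 := d21_2 D17914 D18530 F70453 (iv D17322) (iv F68333)
theorem F72669 : act 6 n18530 = n17964 := d23_2 (iv F70444) D18530 F70588
theorem F72670 : act 8 n18530 = n18270 := d25_2 (iv F70445) D18530 (iv D18270)
def n18531 : Q := act 5 n17914
theorem D18531 : act 5 n17914 = n18531 := rfl
theorem F72671 : act 0 n18531 = n18211 := d4_1 D18531 (iv D18211) (iv F70442)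
theorem F72672 : act 2 n18531 = n17915 := d17_1 D18531 (iv D17915) (iv F70443)
theorem F72673 : act 4 n18531 = n17918 := d26_1 D18531 (iv D17918) (iv D17318) (iv F68334) D17914
theorem F72674 : act 8 n18531 = n18271 := d32_2 (iv F70445) D18531 (iv D18271)
def n18532 : Q := act 6 n17915
theorem D18532 : act 6 n17915 = n18532 := rfl
theorem F72675 : act 0 n18532 = n18226 := d5_1 D18532 (iv D18226) (iv F70446)
theorem F72676 : act 1 n18532 = n18263 := d12_1 D18532 (iv D18263) (iv F70447)
theorem F72677 : act 3 n18532 = n18255 := d23_1 D18532 (iv D18255) (iv F70448)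
theorem F72678 : act 4 n18532 = n17919 := d27_1 D18532 (iv D17919) (iv F70449)
theorem F72679 : act 8 n18532 = n18272 := d34_2 (iv F70450) D18532 (iv D18272)
def n18533 : Q := act 5 n17917
theorem D18533 : act 5 n17917 = n18533 := rfl
theorem F72680 : act 1 n18533 = n17918 := d11_1 D18533 (iv D17918) (iv F70457)
theorem F72681 : act 3 n18533 = n18211 := d22_1 D18533 (iv D18211) (iv F70458)
def n18534 : Q := act 6 n17918
theorem D18534 : act 6 n17918 = n18534 := rfl
theorem F72682 : act 2 n18534 = n17919 := d18_1 D18534 (iv D17919) (iv F70460)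
theorem F72683 : act 3 n18534 = n18212 := d23_1 D18534 (iv D18212) (iv F70461)
theorem F72684 : act 5 n18534 = n17966 := d30_1 D18534 (iv D17966) (iv D17360) (iv F68345) D17918
def n18535 : Q := act 4 n17920
theorem D18535 : act 4 n17920 = n18535 := rfl
theorem F72685 : act 0 n18535 = n17932 := d3_1 D18535 (iv D17932) (iv F70464)
theorem F72686 : act 1 n18535 = n18166 := d10_1 D18535 (iv D18166) (iv F70465)
theorem F72687 : act 6 n18535 = n18155 := d27_2 (iv F70467) D18535 (iv D18155)
theorem F72688 : act 7 n18535 = n17924 := d28_2 (iv F70468) D18535 (iv D17924)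
def n18536 : Q := act 2 n17921
theorem D18536 : act 2 n17921 = n18536 := rfl
theorem F72689 : act 0 n18536 = n17933 := d1_1 D18536 (iv D17933) (iv F70469)
theorem F72690 : act 3 n18536 = n18536 := d15_2 D17921 D18536 (iv D18536) (iv D17921) F68370
theorem F72691 : act 6 n18536 = n18322 := d18_2 (iv F70471) D18536 (iv D18322)
theorem F72692 : act 7 n18536 = n18173 := d19_2 (iv F70472) D18536 (iv D18173)
theorem F72693 : act 8 n18536 = n17922 := d20_2 (iv F70473) D18536 (iv D17922)
def n18537 : Q := act 4 n17921
theorem D18537 : act 4 n17921 = n18537 := rfl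
theorem F72694 : act 0 n18537 = n17934 := d3_1 D18537 (iv D17934) (iv F70469)
theorem F72695 : act 1 n18537 = n18102 := d10_1 D18537 (iv D18102) (iv F70470)
theorem F72696 : act 3 n18537 = n18093 := d21_1 D18537 (iv D18093) (iv D17492) (iv F68371) D17921
theorem F72697 : act 6 n18537 = n18323 := d27_2 (iv F70471) D18537 (iv D18323)
theorem F72698 : act 7 n18537 = n18174 := d28_2 (iv F70472) D18537 (iv D18174)
theorem F72699 : act 8 n18537 = n17923 := d29_2 (iv F70473) D18537 (iv D17923)
def n18538 : Q := act 4 n17922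
theorem D18538 : act 4 n17922 = n18538 := rfl
theorem F72700 : act 0 n18538 = n17936 := d3_1 D18538 (iv D17936) (iv F70474)
theorem F72701 : act 2 n18538 = n17923 := d16_1 D18538 (iv D17923) D17922
theorem F72702 : act 6 n18538 = n18324 := d27_2 (iv F70476) D18538 (iv D18324)
theorem F72703 : act 7 n18538 = n17925 := d28_2 (iv F70477) D18538 (iv D17925)
def n18539 : Q := act 5 n17923
theorem D18539 : act 5 n17923 = n18539 := rfl
theorem F72704 : act 0 n18539 = n17937 := d4_1 D18539 (iv D17937) (iv F70478)
theorem F72705 : act 7 n18539 = n17926 := d31_2 (iv F70480) D18539 (iv D17926)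
def n18540 : Q := act 5 n17924
theorem D18540 : act 5 n17924 = n18540 := rfl
theorem F72706 : act 0 n18540 = n17941 := d4_1 D18540 (iv D17941) (iv F70481)
theorem F72707 : act 1 n18540 = n18171 := d11_1 D18540 (iv D18171) (iv F70482)
theorem F72708 : act 3 n18540 = n18192 := d22_1 D18540 (iv D18192) (iv F70483)
theorem F72709 : act 4 n18540 = n17926 := d26_1 D18540 (iv D17926) (iv D17328) (iv F68379) D17924
theorem F72710 : act 8 n18540 = n18208 := d32_2 (iv F70485) D18540 (iv D18208)
def n18541 : Q := act 5 n17925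
theorem D18541 : act 5 n17925 = n18541 := rfl
theorem F72711 : act 0 n18541 = n17943 := d4_1 D18541 (iv D17943) (iv F70486)
theorem F72712 : act 2 n18541 = n17926 := d17_1 D18541 (iv D17926) (iv F70487)
theorem F72713 : act 8 n18541 = n18355 := d32_2 (iv F70489) D18541 (iv D18355)
def n18542 : Q := act 6 n17926
theorem D18542 : act 6 n17926 = n18542 := rfl
theorem F72714 : act 0 n18542 = n17944 := d5_1 D18542 (iv D17944) (iv F70490)
theorem F72715 : act 3 n18542 = n17927 := d23_1 D18542 (iv D17927) (iv F70491)
theorem F72716 : act 5 n18542 = n18332 := d30_1 D18542 (iv D18332) (iv D17725) (iv F68388) D17926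
theorem F72717 : act 8 n18542 = n18356 := d34_2 (iv F70492) D18542 (iv D18356)
def n18543 : Q := act 2 n17928
theorem D18543 : act 2 n17928 = n18543 := rfl
theorem F72718 : act 1 n18543 = n18402 := d8_1 D18543 (iv D18402) F69929 F69542 (iv F70495)
theorem F72719 : act 3 n18543 = n18543 := d15_2 D17928 D18543 (iv D18543) (iv D17928) F68393
theorem F72720 : act 5 n18543 = n18536 := d17_2 (iv F70496) D18543 (iv D18536)
theorem F72721 : act 6 n18543 = n18458 := d18_2 F71271 D18543 F72357
theorem F72722 : act 7 n18543 = n18196 := d19_2 (iv F70497) D18543 (iv D18196)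
theorem F72723 : act 8 n18543 = n18404 := d20_2 (iv F70498) D18543 F72107
def n18544 : Q := act 4 n17928
theorem D18544 : act 4 n17928 = n18544 := rfl
theorem F72724 : act 1 n18544 = n17945 := d10_1 D18544 (iv D17945) (iv F70495)
theorem F72725 : act 3 n18544 = n17932 := d21_1 D18544 (iv D17932) (iv D17333) (iv F68394) D17928
theorem F72726 : act 7 n18544 = n18197 := d28_2 (iv F70497) D18544 (iv D18197)
theorem F72727 : act 8 n18544 = n18535 := d29_2 (iv F70498) D18544 (iv D18535)
def n18545 : Q := act 2 n17929
theorem D18545 : act 2 n17929 = n18545 := rfl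
theorem F72728 : act 0 n18545 = n18154 := d1_1 D18545 (iv D18154) (iv F70499)
theorem F72729 : act 1 n18545 = n18300 := d8_1 D18545 F71723 (iv F70130) F70131 (iv F70500)
theorem F72730 : act 3 n18545 = n18545 := d15_2 D17929 D18545 (iv D18545) (iv D17929) F68399
theorem F72731 : act 5 n18545 = n18146 := d17_2 (iv F70501) D18545 (iv D18146)
theorem F72732 : act 6 n18545 = n17931 := d18_2 (iv F70502) D18545 (iv D17931)
theorem F72733 : act 7 n18545 = n17938 := d19_2 (iv F70503) D18545 (iv D17938)
def n18546 : Q := act 4 n17929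
theorem D18546 : act 4 n17929 = n18546 := rfl
theorem F72734 : act 0 n18546 = n18155 := d3_1 D18546 (iv D18155) (iv F70499)
theorem F72735 : act 1 n18546 = n17946 := d10_1 D18546 (iv D17946) (iv F70500)
theorem F72736 : act 6 n18546 = n17932 := d27_2 (iv F70502) D18546 (iv D17932)
theorem F72737 : act 7 n18546 = n17939 := d28_2 (iv F70503) D18546 (iv D17939)
def n18547 : Q := act 2 n17930
theorem D18547 : act 2 n17930 = n18547 := rfl
theorem F72738 : act 0 n18547 = n18543 := d1_1 D18547 (iv D18543) (iv F70504)
theorem F72739 : act 3 n18547 = n18547 := d15_2 D17930 D18547 (iv D18547) (iv D17930) F68404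
theorem F72740 : act 5 n18547 = n17933 := d17_2 (iv F70506) D18547 (iv D17933)
theorem F72741 : act 8 n18547 = n17931 := d20_2 (iv F70507) D18547 (iv D17931)
def n18548 : Q := act 4 n17930
theorem D18548 : act 4 n17930 = n18548 := rfl
theorem F72742 : act 0 n18548 = n18544 := d3_1 D18548 (iv D18544) (iv F70504)
theorem F72743 : act 1 n18548 = n17948 := d10_1 D18548 (iv D17948) (iv F70505)
theorem F72744 : act 3 n18548 = n18535 := d21_1 D18548 (iv D18535) (iv D17920) (iv F68405) D17930
theorem F72745 : act 8 n18548 = n17932 := d29_2 (iv F70507) D18548 (iv D17932)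
def n18549 : Q := act 4 n17931
theorem D18549 : act 4 n17931 = n18549 := rfl
theorem F72746 : act 2 n18549 = n17932 := d16_1 D18549 (iv D17932) D17931
theorem F72747 : act 7 n18549 = n17940 := d28_2 (iv F70510) D18549 (iv D17940)
def n18550 : Q := act 5 n17932
theorem D18550 : act 5 n17932 = n18550 := rfl
theorem F72748 : act 1 n18550 = n17951 := d11_1 D18550 (iv D17951) (iv F70511)
theorem F72749 : act 4 n18550 = n17937 := d26_1 D18550 (iv D17937) (iv D17336) (iv F68409) D17932
theorem F72750 : act 7 n18550 = n17941 := d31_2 (iv F70512) D18550 (iv D17941)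
def n18551 : Q := act 1 n17933
theorem D18551 : act 1 n17933 = n18551 := rfl
theorem F72751 : act 2 n18551 = n17952 := d8_2 D17933 D18551 (iv D17952) (iv D17349) (iv F68411)
theorem F72752 : act 3 n18551 = n18551 := d9_2 F70513 D18551 (iv D18551)
theorem F72753 : act 7 n18551 = n18085 := d13_2 F72448 D18551 F72450
theorem F72754 : act 8 n18551 = n17935 := d14_2 (iv F70514) D18551 (iv D17935)
def n18552 : Q := act 4 n17933
theorem D18552 : act 4 n17933 = n18552 := rfl
theorem F72755 : act 2 n18552 = n17934 := d16_1 D18552 (iv D17934) D17933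
theorem F72756 : act 8 n18552 = n17936 := d29_2 (iv F70514) D18552 (iv D17936)
def n18553 : Q := act 5 n17934
theorem D18553 : act 5 n17934 = n18553 := rfl
theorem F72757 : act 1 n18553 = n17954 := d11_1 D18553 (iv D17954) (iv F70515)
theorem F72758 : act 8 n18553 = n17937 := d32_2 (iv F70516) D18553 (iv D17937)
def n18554 : Q := act 4 n17935
theorem D18554 : act 4 n17935 = n18554 := rfl
theorem F72759 : act 1 n18554 = n17936 := d10_1 D18554 (iv D17936) D17935
theorem F72760 : act 2 n18554 = n17956 := d16_1 D18554 (iv D17956) (iv F70517)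
theorem F72761 : act 7 n18554 = n17942 := d28_2 (iv F70519) D18554 (iv D17942)
def n18555 : Q := act 3 n17936
theorem D18555 : act 3 n17936 = n18555 := rfl
theorem F72762 : act 4 n18555 = n18555 := d21_2 D17936 D18555 (iv D18555) (iv D17936) F68413
def n18556 : Q := act 5 n17936
theorem D18556 : act 5 n17936 = n18556 := rfl
theorem F72763 : act 2 n18556 = n17937 := d17_1 D18556 (iv D17937) (iv F70520)
theorem F72764 : act 7 n18556 = n17943 := d31_2 (iv F70521) D18556 (iv D17943)
def n18557 : Q := act 6 n17937
theorem D18557 : act 6 n17937 = n18557 := rfl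
theorem F72765 : act 1 n18557 = n17959 := d12_1 D18557 (iv D17959) (iv F70522)
theorem F72766 : act 7 n18557 = n17944 := d33_2 (iv F70523) D18557 (iv D17944)
def n18558 : Q := act 4 n17938
theorem D18558 : act 4 n17938 = n18558 := rfl
theorem F72767 : act 0 n18558 = n18160 := d3_1 D18558 (iv D18160) (iv F70524)
theorem F72768 : act 1 n18558 = n18270 := d10_1 D18558 F71635 (iv F70525)
theorem F72769 : act 2 n18558 = n17939 := d16_1 D18558 (iv D17939) D17938
theorem F72770 : act 3 n18558 = n18269 := d21_1 D18558 (iv D18269) F69532 (iv F68530) (iv F70526)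
theorem F72771 : act 6 n18558 = n17940 := d27_2 (iv F70528) D18558 (iv D17940)
theorem F72772 : act 8 n18558 = n18191 := d29_2 (iv F70529) D18558 (iv D18191)
def n18559 : Q := act 5 n17939
theorem D18559 : act 5 n17939 = n18559 := rfl
theorem F72773 : act 0 n18559 = n18161 := d4_1 D18559 (iv D18161) (iv F70530)
theorem F72774 : act 1 n18559 = n17960 := d11_1 D18559 (iv D17960) (iv F70531)
theorem F72775 : act 3 n18559 = n18208 := d22_1 D18559 (iv D18208) (iv F70532)
theorem F72776 : act 4 n18559 = n18150 := d26_1 D18559 (iv D18150) (iv D17543) (iv F68419) D17939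
theorem F72777 : act 8 n18559 = n18192 := d32_2 (iv F70534) D18559 (iv D18192)
def n18560 : Q := act 3 n17940
theorem D18560 : act 3 n17940 = n18560 := rfl
theorem F72778 : act 0 n18560 = n18261 := d2_1 D18560 (iv F72132) F72129
theorem F72779 : act 1 n18560 = n18050 := d9_1 D18560 (iv F72553) F72551
theorem F72780 : act 2 n18560 = n18193 := d15_1 D18560 F71394 F69296 (iv F68425) (iv F70535)
theorem F72781 : act 4 n18560 = n17976 := d21_2 D17940 D18560 (iv D17976) (iv D17378) (iv F68422)
theorem F72782 : act 6 n18560 = n18269 := d23_2 F72771 D18560 (iv F72770)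
theorem F72783 : act 8 n18560 = n18291 := d25_2 F72292 D18560 (iv F72290)
def n18561 : Q := act 5 n17940
theorem D18561 : act 5 n17940 = n18561 := rfl
theorem F72784 : act 2 n18561 = n17941 := d17_1 D18561 (iv D17941) (iv F70535)
theorem F72785 : act 4 n18561 = n17943 := d26_1 D18561 (iv D17943) (iv D17341) (iv F68423) D17940
def n18562 : Q := act 6 n17941
theorem D18562 : act 6 n17941 = n18562 := rfl
theorem F72786 : act 1 n18562 = n17963 := d12_1 D18562 (iv D17963) (iv F70536)
theorem F72787 : act 3 n18562 = n18210 := d23_1 D18562 (iv D18210) (iv F70537)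
theorem F72788 : act 4 n18562 = n17944 := d27_1 D18562 (iv D17944) (iv F70538)
def n18563 : Q := act 5 n17942
theorem D18563 : act 5 n17942 = n18563 := rfl
theorem F72789 : act 1 n18563 = n17943 := d11_1 D18563 (iv D17943) (iv F70539)
theorem F72790 : act 2 n18563 = n17965 := d17_1 D18563 (iv D17965) (iv F70540)
theorem F72791 : act 3 n18563 = n18021 := d22_1 D18563 (iv D18021) (iv F70541)
theorem F72792 : act 8 n18563 = n18066 := d32_2 (iv F70542) D18563 (iv D18066)
def n18564 : Q := act 6 n17943
theorem D18564 : act 6 n17943 = n18564 := rfl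
theorem F72793 : act 2 n18564 = n17944 := d18_1 D18564 (iv D17944) (iv F70543)
def n18565 : Q := act 5 n17945
theorem D18565 : act 5 n17945 = n18565 := rfl
theorem F72794 : act 3 n18565 = n17951 := d22_1 D18565 (iv D17951) (iv F70546)
theorem F72795 : act 7 n18565 = n18214 := d31_2 (iv F70547) D18565 (iv D18214)
def n18566 : Q := act 5 n17946
theorem D18566 : act 5 n17946 = n18566 := rfl
theorem F72796 : act 7 n18566 = n17960 := d31_2 (iv F70549) D18566 (iv D17960)
def n18567 : Q := act 1 n17947
theorem D18567 : act 1 n17947 = n18567 := rfl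
theorem F72797 : act 0 n18567 = n18085 := d0_1 D18567 F72450 F72445 (iv F71898) F71897
theorem F72798 : act 3 n18567 = n17970 := d9_2 (iv F70550) D18567 (iv D17970)
theorem F72799 : act 5 n18567 = n17952 := d11_2 (iv F70551) D18567 (iv D17952)
theorem F72800 : act 6 n18567 = n18301 := d12_2 F71304 D18567 F71725
theorem F72801 : act 8 n18567 = n17949 := d14_2 (iv F70552) D18567 (iv D17949)
def n18568 : Q := act 4 n17947
theorem D18568 : act 4 n17947 = n18568 := rfl
theorem F72802 : act 2 n18568 = n17948 := d16_1 D18568 (iv D17948) D17947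
theorem F72803 : act 8 n18568 = n17950 := d29_2 (iv F70552) D18568 (iv D17950)
def n18569 : Q := act 5 n17948
theorem D18569 : act 5 n17948 = n18569 := rfl
theorem F72804 : act 4 n18569 = n17954 := d26_1 D18569 (iv D17954) (iv D17350) (iv F68437) D17948
theorem F72805 : act 8 n18569 = n17951 := d32_2 (iv F70553) D18569 (iv D17951)
def n18570 : Q := act 4 n17949
theorem D18570 : act 4 n17949 = n18570 := rfl
theorem F72806 : act 0 n18570 = n18067 := d3_1 D18570 F70978 (iv F70554)
theorem F72807 : act 1 n18570 = n17950 := d10_1 D18570 (iv D17950) D17949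
theorem F72808 : act 6 n18570 = n18274 := d27_2 (iv F70557) D18570 F71641
theorem F72809 : act 7 n18570 = n17961 := d28_2 (iv F70558) D18570 (iv D17961)
def n18571 : Q := act 5 n17950
theorem D18571 : act 5 n17950 = n18571 := rfl
theorem F72810 : act 2 n18571 = n17951 := d17_1 D18571 (iv D17951) (iv F70559)
theorem F72811 : act 4 n18571 = n17958 := d26_1 D18571 (iv D17958) (iv D17352) (iv F68440) D17950
theorem F72812 : act 7 n18571 = n17962 := d31_2 (iv F70560) D18571 (iv D17962)
def n18572 : Q := act 6 n17951
theorem D18572 : act 6 n17951 = n18572 := rfl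
theorem F72813 : act 4 n18572 = n17959 := d27_1 D18572 (iv D17959) (iv F70561)
theorem F72814 : act 7 n18572 = n17963 := d33_2 (iv F70562) D18572 (iv D17963)
def n18573 : Q := act 0 n17952
theorem D18573 : act 0 n17952 = n18573 := rfl
theorem F72815 : act 3 n18573 = n17971 := d2_2 (iv F70563) D18573 (iv D17971)
theorem F72816 : act 5 n18573 = n18085 := d4_2 F72799 D18573 (iv F72797)
theorem F72817 : act 8 n18573 = n17955 := d7_2 (iv F70564) D18573 (iv D17955)
def n18574 : Q := act 4 n17952
theorem D18574 : act 4 n17952 = n18574 := rfl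
theorem F72818 : act 1 n18574 = n17953 := d10_1 D18574 (iv D17953) D17952
theorem F72819 : act 8 n18574 = n17956 := d29_2 (iv F70564) D18574 (iv D17956)
def n18575 : Q := act 3 n17953
theorem D18575 : act 3 n17953 = n18575 := rfl
theorem F72820 : act 0 n18575 = n18122 := d2_1 D18575 (iv F72253) F72251
theorem F72821 : act 2 n18575 = n18114 := d15_1 D18575 F71144 F69035 F69004 (iv F70565)
theorem F72822 : act 4 n18575 = n17973 := d21_2 D17953 D18575 (iv D17973) (iv D17371) (iv F68443)
theorem F72823 : act 6 n18575 = n18247 := d23_2 F71976 D18575 (iv F71975)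
theorem F72824 : act 8 n18575 = n17957 := d25_2 (iv F70566) D18575 (iv D17957)
def n18576 : Q := act 5 n17953
theorem D18576 : act 5 n17953 = n18576 := rfl
theorem F72825 : act 2 n18576 = n17954 := d17_1 D18576 (iv D17954) (iv F70565)
theorem F72826 : act 8 n18576 = n17958 := d32_2 (iv F70566) D18576 (iv D17958)
def n18577 : Q := act 6 n17954
theorem D18577 : act 6 n17954 = n18577 := rfl
theorem F72827 : act 8 n18577 = n17959 := d34_2 (iv F70567) D18577 (iv D17959)
def n18578 : Q := act 4 n17955
theorem D18578 : act 4 n17955 = n18578 := rfl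
theorem F72828 : act 0 n18578 = n17956 := d3_1 D18578 (iv D17956) D17955
theorem F72829 : act 7 n18578 = n17964 := d28_2 (iv F70570) D18578 (iv D17964)
def n18579 : Q := act 3 n17956
theorem D18579 : act 3 n17956 = n18579 := rfl
theorem F72830 : act 1 n18579 = n17957 := d9_1 D18579 (iv D17957) (iv F70571)
theorem F72831 : act 4 n18579 = n17975 := d21_2 D17956 D18579 (iv D17975) (iv D17373) (iv F68446)
theorem F72832 : act 7 n18579 = n18351 := d24_2 (iv F70572) D18579 (iv D18351) F69726 (iv F68463)
def n18580 : Q := act 5 n17956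
theorem D18580 : act 5 n17956 = n18580 := rfl
theorem F72833 : act 1 n18580 = n17958 := d11_1 D18580 (iv D17958) (iv F70571)
theorem F72834 : act 7 n18580 = n17965 := d31_2 (iv F70572) D18580 (iv D17965)
def n18581 : Q := act 5 n17957
theorem D18581 : act 5 n17957 = n18581 := rfl
theorem F72835 : act 3 n18581 = n17958 := d22_1 D18581 (iv D17958) D17957
theorem F72836 : act 7 n18581 = n18353 := d31_2 (iv F70574) D18581 (iv D18353)
def n18582 : Q := act 6 n17958
theorem D18582 : act 6 n17958 = n18582 := rfl
theorem F72837 : act 2 n18582 = n17959 := d18_1 D18582 (iv D17959) (iv F70575)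
theorem F72838 : act 7 n18582 = n17966 := d33_2 (iv F70576) D18582 (iv D17966)
def n18583 : Q := act 6 n17960
theorem D18583 : act 6 n17960 = n18583 := rfl
theorem F72839 : act 3 n18583 = n18224 := d23_1 D18583 (iv D18224) (iv F70578)
theorem F72840 : act 5 n18583 = n17963 := d30_1 D18583 (iv D17963) (iv D17357) (iv F68452) D17960
def n18584 : Q := act 5 n17961
theorem D18584 : act 5 n17961 = n18584 := rfl
theorem F72841 : act 0 n18584 = n18066 := d4_1 D18584 (iv D18066) (iv F70579)
theorem F72842 : act 1 n18584 = n17962 := d11_1 D18584 (iv D17962) (iv F70580)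
theorem F72843 : act 3 n18584 = n18052 := d22_1 D18584 (iv D18052) (iv F70581)
theorem F72844 : act 4 n18584 = n17965 := d26_1 D18584 (iv D17965) (iv D17359) (iv F68455) D17961
def n18585 : Q := act 6 n17962
theorem D18585 : act 6 n17962 = n18585 := rfl
theorem F72845 : act 2 n18585 = n17963 := d18_1 D18585 (iv D17963) (iv F70583)
theorem F72846 : act 4 n18585 = n17966 := d27_1 D18585 (iv D17966) (iv F70584)
def n18586 : Q := act 5 n17964
theorem D18586 : act 5 n17964 = n18586 := rfl
theorem F72847 : act 0 n18586 = n17965 := d4_1 D18586 (iv D17965) (iv F70587)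
theorem F72848 : act 3 n18586 = n18361 := d22_1 D18586 (iv D18361) (iv F70588)
theorem F72849 : act 4 n18586 = n18066 := d26_1 D18586 (iv D18066) F68861 (iv F68461) D17964
def n18587 : Q := act 6 n17965
theorem D18587 : act 6 n17965 = n18587 := rfl
theorem F72850 : act 1 n18587 = n17966 := d12_1 D18587 (iv D17966) (iv F70589)
theorem F72851 : act 3 n18587 = n18362 := d23_1 D18587 (iv D18362) (iv F70590)
def n18588 : Q := act 3 n17968
theorem D18588 : act 3 n17968 = n18588 := rfl
theorem F72852 : act 0 n18588 = n18231 := d2_1 D18588 (iv D18231) (iv F70598)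
theorem F72853 : act 6 n18588 = n18367 := d23_2 (iv F70600) D18588 (iv D18367)
def n18589 : Q := act 4 n17971
theorem D18589 : act 4 n17971 = n18589 := rfl
theorem F72854 : act 0 n18589 = n17972 := d3_1 D18589 (iv D17972) D17971
theorem F72855 : act 1 n18589 = n18227 := d10_1 D18589 (iv F71492) (iv F71497)
theorem F72856 : act 2 n18589 = n18589 := d16_1 D18589 (iv D18589) F70613
theorem F72857 : act 6 n18589 = n18252 := d27_2 F72001 D18589 (iv F71999)
theorem F72858 : act 7 n18589 = n18589 := d28_2 F70615 D18589 (iv D18589)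
theorem F72859 : act 8 n18589 = n17974 := d29_2 (iv F70616) D18589 (iv D17974)
def n18590 : Q := act 3 n17972
theorem D18590 : act 3 n17972 = n18590 := rfl
theorem F72860 : act 1 n18590 = n17973 := d9_1 D18590 (iv D17973) (iv F70617)
theorem F72861 : act 6 n18590 = n18246 := d23_2 (iv F70619) D18590 F71568
theorem F72862 : act 8 n18590 = n17975 := d25_2 (iv F70621) D18590 (iv D17975)
def n18591 : Q := act 7 n17973
theorem D18591 : act 7 n17973 = n18591 := rfl
theorem F72863 : act 0 n18591 = n18118 := d6_1 D18591 F71164 (iv F70622)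
theorem F72864 : act 2 n18591 = n18113 := d19_1 D18591 F71142 (iv F70623)
theorem F72865 : act 3 n18591 = n18591 := d24_1 D18591 (iv D18591) (iv D17973) F68508 D17973
theorem F72866 : act 6 n18591 = n18242 := d33_1 D18591 F71554 (iv F70624)
theorem F72867 : act 8 n18591 = n18366 := d35_2 (iv F70625) D18591 (iv D18366) F69780 (iv F68516)
def n18592 : Q := act 3 n17974
theorem D18592 : act 3 n17974 = n18592 := rfl
theorem F72868 : act 0 n18592 = n17975 := d2_1 D18592 (iv D17975) (iv F70626)
theorem F72869 : act 7 n18592 = n18367 := d24_2 (iv F70628) D18592 (iv D18367) F69783 (iv F68519)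
def n18593 : Q := act 2 n17975
theorem D18593 : act 2 n17975 = n18593 := rfl
theorem F72870 : act 1 n18593 = n18302 := d8_1 D18593 (iv D18302) F69623 F68618 (iv F70629)
theorem F72871 : act 3 n18593 = n18593 := d15_2 D17975 D18593 (iv D18593) (iv D17975) F68514
theorem F72872 : act 5 n18593 = n18306 := d17_2 F71719 D18593 F71743
theorem F72873 : act 7 n18593 = n18311 := d19_2 (iv F70630) D18593 F71760
def n18594 : Q := act 7 n17976
theorem D18594 : act 7 n17976 = n18594 := rfl
theorem F72874 : act 0 n18594 = n18258 := d6_1 D18594 F71605 (iv F70631)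
theorem F72875 : act 1 n18594 = n18048 := d13_1 D18594 F70919 (iv F70632)
theorem F72876 : act 2 n18594 = n18188 := d19_1 D18594 F71380 (iv F70633)
theorem F72877 : act 3 n18594 = n18594 := d24_1 D18594 (iv D18594) (iv D17976) F68540 D17976
theorem F72878 : act 5 n18594 = n18299 := d31_1 D18594 (iv D18299) (iv F70634)
theorem F72879 : act 6 n18594 = n18266 := d33_1 D18594 F71626 (iv F70635)
def n18595 : Q := act 6 n17977
theorem D18595 : act 6 n17977 = n18595 := rfl
theorem F72880 : act 0 n18595 = n18090 := d5_1 D18595 (iv D18090) (iv F70637)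
theorem F72881 : act 2 n18595 = n18009 := d18_1 D18595 (iv D18009) (iv F70638)
theorem F72882 : act 3 n18595 = n18527 := d23_1 D18595 (iv D18527) (iv F70639)
theorem F72883 : act 4 n18595 = n18249 := d27_1 D18595 (iv D18249) (iv F70640)
theorem F72884 : act 5 n18595 = n18106 := d30_1 D18595 (iv D18106) (iv D17505) (iv F68551) D17977
theorem F72885 : act 7 n18595 = n17978 := d33_2 (iv F70641) D18595 (iv D17978)
theorem F72886 : act 8 n18595 = n18381 := d34_2 (iv F70642) D18595 (iv D18381)
def n18596 : Q := act 5 n17979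
theorem D18596 : act 5 n17979 = n18596 := rfl
theorem F72887 : act 0 n18596 = n18358 := d4_1 D18596 (iv D18358) (iv F70649)
theorem F72888 : act 1 n18596 = n18040 := d11_1 D18596 (iv D18040) (iv F70650)
theorem F72889 : act 2 n18596 = n17980 := d17_1 D18596 (iv D17980) (iv F70651)
theorem F72890 : act 3 n18596 = n18289 := d22_1 D18596 (iv D18289) (iv F70652)
theorem F72891 : act 7 n18596 = n18417 := d31_2 (iv F70654) D18596 (iv D18417)
theorem F72892 : act 8 n18596 = n18100 := d32_2 (iv F70655) D18596 (iv D18100)
def n18597 : Q := act 6 n17980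
theorem D18597 : act 6 n17980 = n18597 := rfl
theorem F72893 : act 1 n18597 = n17981 := d12_1 D18597 (iv D17981) (iv F70656)
theorem F72894 : act 3 n18597 = n18091 := d23_1 D18597 (iv D18091) (iv F70657)
theorem F72895 : act 5 n18597 = n17985 := d30_1 D18597 (iv D17985) (iv D17388) (iv F68567) D17980
theorem F72896 : act 7 n18597 = n18418 := d33_2 (iv F70658) D18597 (iv D18418)
theorem F72897 : act 8 n18597 = n18101 := d34_2 (iv F70659) D18597 (iv D18101)
def n18598 : Q := act 5 n17982
theorem D18598 : act 5 n17982 = n18598 := rfl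
theorem F72898 : act 0 n18598 = n17984 := d4_1 D18598 (iv D17984) (iv F70666)
theorem F72899 : act 2 n18598 = n17983 := d17_1 D18598 (iv D17983) (iv F70667)
theorem F72900 : act 3 n18598 = n18355 := d22_1 D18598 (iv D18355) (iv F70668)
theorem F72901 : act 4 n18598 = n18040 := d26_1 D18598 (iv D18040) (iv D17437) (iv F68577) D17982
theorem F72902 : act 7 n18598 = n18423 := d31_2 (iv F70670) D18598 (iv D18423)
def n18599 : Q := act 6 n17983
theorem D18599 : act 6 n17983 = n18599 := rfl
theorem F72903 : act 0 n18599 = n17985 := d5_1 D18599 (iv D17985) (iv F70671)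
theorem F72904 : act 1 n18599 = n18034 := d12_1 D18599 (iv D18034) (iv F70672)
theorem F72905 : act 4 n18599 = n18041 := d27_1 D18599 (iv D18041) (iv F70673)
theorem F72906 : act 7 n18599 = n18424 := d33_2 (iv F70674) D18599 (iv D18424)
def n18600 : Q := act 6 n17984
theorem D18600 : act 6 n17984 = n18600 := rfl
theorem F72907 : act 1 n18600 = n18068 := d12_1 D18600 (iv D18068) (iv F70675)
theorem F72908 : act 2 n18600 = n17985 := d18_1 D18600 (iv D17985) (iv F70676)
theorem F72909 : act 4 n18600 = n18275 := d27_1 D18600 (iv D18275) (iv F70677)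
theorem F72910 : act 7 n18600 = n18431 := d33_2 (iv F70678) D18600 (iv D18431)
def n18601 : Q := act 6 n17986
theorem D18601 : act 6 n17986 = n18601 := rfl
theorem F72911 : act 0 n18601 = n18106 := d5_1 D18601 (iv D18106) (iv F70682)
theorem F72912 : act 2 n18601 = n18111 := d18_1 D18601 (iv D18111) (iv F70683)
theorem F72913 : act 3 n18601 = n18440 := d23_1 D18601 (iv D18440) (iv F70684)
theorem F72914 : act 5 n18601 = n18090 := d30_1 D18601 (iv D18090) (iv D17488) (iv F68592) D17986
theorem F72915 : act 7 n18601 = n17987 := d33_2 (iv F70685) D18601 (iv D17987)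
theorem F72916 : act 8 n18601 = n18450 := d34_2 (iv F70686) D18601 (iv D18450)
def n18602 : Q := act 5 n17989
theorem D18602 : act 5 n17989 = n18602 := rfl
theorem F72917 : act 0 n18602 = n18087 := d4_1 D18602 (iv D18087) (iv F70698)
theorem F72918 : act 2 n18602 = n18104 := d17_1 D18602 (iv D18104) (iv F70699)
theorem F72919 : act 4 n18602 = n17993 := d26_1 D18602 (iv D17993) (iv D17396) (iv F68610) D17989
theorem F72920 : act 7 n18602 = n18013 := d31_2 (iv F70700) D18602 (iv D18013)
theorem F72921 : act 8 n18602 = n18452 := d32_2 (iv F70701) D18602 (iv D18452)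
def n18603 : Q := act 4 n17990
theorem D18603 : act 4 n17990 = n18603 := rfl
theorem F72922 : act 0 n18603 = n18240 := d3_1 D18603 (iv D18240) (iv F70702)
theorem F72923 : act 1 n18603 = n18096 := d10_1 D18603 (iv D18096) (iv F70703)
theorem F72924 : act 2 n18603 = n17991 := d16_1 D18603 (iv D17991) D17990
theorem F72925 : act 6 n18603 = n18000 := d27_2 (iv F70705) D18603 (iv D18000)
theorem F72926 : act 7 n18603 = n18014 := d28_2 (iv F70706) D18603 (iv D18014)
def n18604 : Q := act 5 n17991
theorem D18604 : act 5 n17991 = n18604 := rfl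
theorem F72927 : act 0 n18604 = n18241 := d4_1 D18604 (iv D18241) (iv F70707)
theorem F72928 : act 1 n18604 = n17993 := d11_1 D18604 (iv D17993) (iv F70708)
theorem F72929 : act 7 n18604 = n18015 := d31_2 (iv F70710) D18604 (iv D18015)
def n18605 : Q := act 5 n17992
theorem D18605 : act 5 n17992 = n18605 := rfl
theorem F72930 : act 0 n18605 = n18110 := d4_1 D18605 (iv D18110) (iv F70711)
theorem F72931 : act 2 n18605 = n18581 := d17_1 D18605 (iv D18581) (iv F70712)
theorem F72932 : act 3 n18605 = n17993 := d22_1 D18605 (iv D17993) (iv F70713)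
theorem F72933 : act 7 n18605 = n18222 := d31_2 (iv F70715) D18605 (iv D18222)
def n18606 : Q := act 6 n17993
theorem D18606 : act 6 n17993 = n18606 := rfl
theorem F72934 : act 0 n18606 = n18111 := d5_1 D18606 (iv D18111) (iv F70716)
theorem F72935 : act 2 n18606 = n18106 := d18_1 D18606 (iv D18106) (iv F70717)
theorem F72936 : act 5 n18606 = n18009 := d30_1 D18606 (iv D18009) (iv D17408) (iv F68623) D17993
theorem F72937 : act 7 n18606 = n18016 := d33_2 (iv F70718) D18606 (iv D18016)
def n18607 : Q := act 2 n17994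
theorem D18607 : act 2 n17994 = n18607 := rfl
theorem F72938 : act 0 n18607 = n17998 := d1_1 D18607 (iv D17998) (iv F70719)
theorem F72939 : act 3 n18607 = n18607 := d15_2 D17994 D18607 (iv D18607) (iv D17994) F68627
theorem F72940 : act 5 n18607 = n18304 := d17_2 (iv F70721) D18607 (iv D18304)
theorem F72941 : act 6 n18607 = n18238 := d18_2 (iv F70722) D18607 (iv D18238)
theorem F72942 : act 8 n18607 = n18302 := d20_2 (iv F70723) D18607 (iv D18302)
def n18608 : Q := act 4 n17994
theorem D18608 : act 4 n17994 = n18608 := rfl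
theorem F72943 : act 0 n18608 = n17999 := d3_1 D18608 (iv D17999) (iv F70719)
theorem F72944 : act 1 n18608 = n18114 := d10_1 D18608 (iv D18114) (iv F70720)
theorem F72945 : act 3 n18608 = n17996 := d21_1 D18608 (iv D17996) (iv D17398) (iv F68628) D17994
theorem F72946 : act 6 n18608 = n18239 := d27_2 (iv F70722) D18608 (iv D18239)
theorem F72947 : act 8 n18608 = n18303 := d29_2 (iv F70723) D18608 (iv D18303)
def n18609 : Q := act 4 n17995
theorem D18609 : act 4 n17995 = n18609 := rfl
theorem F72948 : act 0 n18609 = n18000 := d3_1 D18609 (iv D18000) (iv F70724)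
theorem F72949 : act 2 n18609 = n17996 := d16_1 D18609 (iv D17996) D17995
theorem F72950 : act 6 n18609 = n18240 := d27_2 (iv F70726) D18609 (iv D18240)
theorem F72951 : act 7 n18609 = n18017 := d28_2 (iv F70727) D18609 (iv D18017)
theorem F72952 : act 8 n18609 = n18603 := d29_2 (iv F70728) D18609 (iv D18603)
def n18610 : Q := act 5 n17996
theorem D18610 : act 5 n17996 = n18610 := rfl
theorem F72953 : act 0 n18610 = n18001 := d4_1 D18610 (iv D18001) (iv F70729)
theorem F72954 : act 1 n18610 = n18115 := d11_1 D18610 (iv D18115) (iv F70730)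
theorem F72955 : act 7 n18610 = n18018 := d31_2 (iv F70732) D18610 (iv D18018)
theorem F72956 : act 8 n18610 = n18604 := d32_2 (iv F70733) D18610 (iv D18604)
def n18611 : Q := act 2 n17997
theorem D18611 : act 2 n17997 = n18611 := rfl
theorem F72957 : act 0 n18611 = n18304 := d1_1 D18611 (iv D18304) (iv F70734)
theorem F72958 : act 3 n18611 = n18611 := d15_2 D17997 D18611 (iv D18611) (iv D17997) F68639
theorem F72959 : act 5 n18611 = n17998 := d17_2 (iv F70736) D18611 (iv D17998)
theorem F72960 : act 6 n18611 = n18366 := d18_2 F71153 D18611 F71912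
theorem F72961 : act 7 n18611 = n18230 := d19_2 F70749 D18611 F71503
theorem F72962 : act 8 n18611 = n18242 := d20_2 (iv F70737) D18611 (iv D18242)
def n18612 : Q := act 4 n17997
theorem D18612 : act 4 n17997 = n18612 := rfl
theorem F72963 : act 0 n18612 = n18305 := d3_1 D18612 (iv D18305) (iv F70734)
theorem F72964 : act 1 n18612 = n18005 := d10_1 D18612 (iv D18005) (iv F70735)
theorem F72965 : act 3 n18612 = n18257 := d21_1 D18612 (iv D18257) (iv D17659) (iv F68640) D17997
theorem F72966 : act 8 n18612 = n18243 := d29_2 (iv F70737) D18612 (iv D18243)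
def n18613 : Q := act 1 n17998
theorem D18613 : act 1 n17998 = n18613 := rfl
theorem F72967 : act 2 n18613 = n18006 := d8_2 D17998 D18613 (iv D18006) (iv D17406) (iv F68643)
theorem F72968 : act 3 n18613 = n18613 := d9_2 F70738 D18613 (iv D18613)
theorem F72969 : act 6 n18613 = n18593 := d12_2 F71730 D18613 F72870
theorem F72970 : act 7 n18613 = n18319 := d13_2 F71753 D18613 F71784
def n18614 : Q := act 4 n17998
theorem D18614 : act 4 n17998 = n18614 := rfl
theorem F72971 : act 2 n18614 = n17999 := d16_1 D18614 (iv D17999) D17998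
def n18615 : Q := act 5 n17999
theorem D18615 : act 5 n17999 = n18615 := rfl
theorem F72972 : act 1 n18615 = n18008 := d11_1 D18615 (iv D18008) (iv F70739)
theorem F72973 : act 3 n18615 = n18001 := d22_1 D18615 (iv D18001) (iv F70740)
def n18616 : Q := act 3 n18000
theorem D18616 : act 3 n18000 = n18616 := rfl
theorem F72974 : act 4 n18616 = n18616 := d21_2 D18000 D18616 (iv D18616) (iv D18000) F68644
def n18617 : Q := act 5 n18000
theorem D18617 : act 5 n18000 = n18617 := rfl
theorem F72975 : act 2 n18617 = n18001 := d17_1 D18617 (iv D18001) (iv F70741)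
theorem F72976 : act 7 n18617 = n18021 := d31_2 (iv F70742) D18617 (iv D18021)
def n18618 : Q := act 6 n18001
theorem D18618 : act 6 n18001 = n18618 := rfl
theorem F72977 : act 1 n18618 = n18009 := d12_1 D18618 (iv D18009) (iv F70743)
theorem F72978 : act 7 n18618 = n18022 := d33_2 (iv F70744) D18618 (iv D18022)
def n18619 : Q := act 4 n18002
theorem D18619 : act 4 n18002 = n18619 := rfl
theorem F72979 : act 0 n18619 = n18130 := d3_1 D18619 (iv D18130) (iv F70745)
theorem F72980 : act 1 n18619 = n18135 := d10_1 D18619 (iv D18135) (iv F70746)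
theorem F72981 : act 3 n18619 = n18026 := d21_1 D18619 (iv D18026) (iv D17425) (iv F68651) D18002
theorem F72982 : act 6 n18619 = n18120 := d27_2 (iv F70748) D18619 (iv D18120)
theorem F72983 : act 7 n18619 = n18612 := d28_2 (iv F70749) D18619 (iv D18612)
theorem F72984 : act 8 n18619 = n18003 := d29_2 (iv F70750) D18619 (iv D18003)
def n18620 : Q := act 5 n18003
theorem D18620 : act 5 n18003 = n18620 := rfl
theorem F72985 : act 0 n18620 = n18133 := d4_1 D18620 (iv D18133) (iv F70751)
theorem F72986 : act 3 n18620 = n18027 := d22_1 D18620 (iv D18027) (iv F70752)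
theorem F72987 : act 7 n18620 = n18008 := d31_2 (iv F70754) D18620 (iv D18008)
def n18621 : Q := act 1 n18004
theorem D18621 : act 1 n18004 = n18621 := rfl
theorem F72988 : act 3 n18621 = n18010 := d9_2 (iv F70756) D18621 (iv D18010)
theorem F72989 : act 5 n18621 = n18006 := d11_2 (iv F70757) D18621 (iv D18006)
theorem F72990 : act 7 n18621 = n18144 := d13_2 F71217 D18621 F71234
def n18622 : Q := act 4 n18004
theorem D18622 : act 4 n18004 = n18622 := rfl
theorem F72991 : act 0 n18622 = n18137 := d3_1 D18622 (iv D18137) (iv F70755)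
theorem F72992 : act 2 n18622 = n18005 := d16_1 D18622 (iv D18005) D18004
def n18623 : Q := act 5 n18005
theorem D18623 : act 5 n18005 = n18623 := rfl
theorem F72993 : act 0 n18623 = n18138 := d4_1 D18623 (iv D18138) (iv F70758)
theorem F72994 : act 4 n18623 = n18008 := d26_1 D18623 (iv D18008) (iv D17407) (iv F68659) D18005
def n18624 : Q := act 0 n18006
theorem D18624 : act 0 n18006 = n18624 := rfl
theorem F72995 : act 1 n18624 = n18139 := d0_2 D18006 D18624 (iv D18139) (iv D17531) (iv F68660)
theorem F72996 : act 3 n18624 = n18012 := d2_2 (iv F70759) D18624 (iv D18012)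
theorem F72997 : act 6 n18624 = n18592 := d5_2 (iv F70760) D18624 F72868
theorem F72998 : act 7 n18624 = n18588 := d6_2 F71509 D18624 F72852
def n18625 : Q := act 4 n18006
theorem D18625 : act 4 n18006 = n18625 := rfl
theorem F72999 : act 1 n18625 = n18007 := d10_1 D18625 (iv D18007) D18006
theorem F73000 : act 3 n18625 = n18525 := d21_1 D18625 (iv D18525) F70423 (iv F68675) (iv F70759)
theorem F73001 : act 6 n18625 = n18579 := d27_2 (iv F70760) D18625 F72831
def n18626 : Q := act 5 n18007
theorem D18626 : act 5 n18007 = n18626 := rfl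
theorem F73002 : act 0 n18626 = n18141 := d4_1 D18626 (iv D18141) (iv F70761)
theorem F73003 : act 2 n18626 = n18008 := d17_1 D18626 (iv D18008) (iv F70762)
theorem F73004 : act 3 n18626 = n18526 := d22_1 D18626 (iv D18526) (iv F70763)
def n18627 : Q := act 6 n18008
theorem D18627 : act 6 n18008 = n18627 := rfl
theorem F73005 : act 0 n18627 = n18142 := d5_1 D18627 (iv D18142) (iv F70765)
theorem F73006 : act 3 n18627 = n18009 := d23_1 D18627 (iv D18009) (iv F70766)
def n18628 : Q := act 0 n18010
theorem D18628 : act 0 n18010 = n18628 := rfl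
theorem F73007 : act 1 n18628 = n18143 := d0_2 D18010 D18628 (iv D18143) (iv D17536) (iv F68667)
theorem F73008 : act 2 n18628 = n18628 := d1_2 F70769 D18628 (iv D18628)
theorem F73009 : act 5 n18628 = n18012 := d4_2 (iv F70770) D18628 (iv D18012)
theorem F73010 : act 7 n18628 = n18232 := d6_2 (iv F70771) D18628 (iv D18232)
theorem F73011 : act 4 n18235 = n18628 := d28_3 F73010 (iv F71515) (iv F71531)
def n18629 : Q := act 4 n18010
theorem D18629 : act 4 n18010 = n18629 := rfl
theorem F73012 : act 0 n18629 = n18235 := d3_1 D18629 F73011 (iv D18628)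
theorem F73013 : act 1 n18629 = n18011 := d10_1 D18629 (iv D18011) D18010
theorem F73014 : act 2 n18629 = n18629 := d16_1 D18629 (iv D18629) F70769
theorem F73015 : act 5 n18629 = n18237 := d26_2 (iv F70770) D18629 F71538 F70595 (iv F68675)
theorem F73016 : act 6 n18629 = n18628 := d27_2 F71530 D18629 (iv F73011)
theorem F73017 : act 7 n18629 = n18233 := d28_2 (iv F70771) D18629 (iv D18233)
def n18630 : Q := act 3 n18011
theorem D18630 : act 3 n18011 = n18630 := rfl
theorem F73018 : act 0 n18630 = n18144 := d2_1 D18630 (iv D18144) (iv F70772)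
theorem F73019 : act 5 n18630 = n18588 := d22_2 (iv F70774) D18630 (iv D18588)
def n18631 : Q := act 6 n18013
theorem D18631 : act 6 n18013 = n18631 := rfl
theorem F73020 : act 0 n18631 = n18091 := d5_1 D18631 (iv D18091) (iv F70781)
theorem F73021 : act 2 n18631 = n18107 := d18_1 D18631 (iv D18107) (iv F70782)
theorem F73022 : act 4 n18631 = n18016 := d27_1 D18631 (iv D18016) (iv F70783)
theorem F73023 : act 8 n18631 = n18034 := d34_2 (iv F70784) D18631 (iv D18034)
def n18632 : Q := act 5 n18014
theorem D18632 : act 5 n18014 = n18632 := rfl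
theorem F73024 : act 0 n18632 = n18254 := d4_1 D18632 (iv D18254) (iv F70785)
theorem F73025 : act 1 n18632 = n18100 := d11_1 D18632 (iv D18100) (iv F70786)
theorem F73026 : act 2 n18632 = n18015 := d17_1 D18632 (iv D18015) (iv F70787)
theorem F73027 : act 8 n18632 = n18040 := d32_2 (iv F70789) D18632 (iv D18040)
def n18633 : Q := act 6 n18015
theorem D18633 : act 6 n18015 = n18633 := rfl
theorem F73028 : act 0 n18633 = n18255 := d5_1 D18633 (iv D18255) (iv F70790)
theorem F73029 : act 1 n18633 = n18016 := d12_1 D18633 (iv D18016) (iv F70791)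
theorem F73030 : act 3 n18633 = n18226 := d23_1 D18633 (iv D18226) (iv F70792)
theorem F73031 : act 5 n18633 = n18022 := d30_1 D18633 (iv D18022) (iv D17421) (iv F68689) D18015
theorem F73032 : act 8 n18633 = n18041 := d34_2 (iv F70793) D18633 (iv D18041)
def n18634 : Q := act 5 n18017
theorem D18634 : act 5 n18017 = n18634 := rfl
theorem F73033 : act 0 n18634 = n18021 := d4_1 D18634 (iv D18021) (iv F70799)
theorem F73034 : act 2 n18634 = n18018 := d17_1 D18634 (iv D18018) (iv F70800)
theorem F73035 : act 8 n18634 = n18052 := d32_2 (iv F70802) D18634 (iv D18052)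
def n18635 : Q := act 6 n18018
theorem D18635 : act 6 n18018 = n18635 := rfl
theorem F73036 : act 0 n18635 = n18022 := d5_1 D18635 (iv D18022) (iv F70803)
theorem F73037 : act 1 n18635 = n18151 := d12_1 D18635 (iv D18151) (iv F70804)
theorem F73038 : act 5 n18635 = n18255 := d30_1 D18635 (iv D18255) (iv D17658) (iv F68701) D18018
theorem F73039 : act 8 n18635 = n18053 := d34_2 (iv F70805) D18635 (iv D18053)
def n18636 : Q := act 5 n18019
theorem D18636 : act 5 n18019 = n18636 := rfl
theorem F73040 : act 1 n18636 = n18027 := d11_1 D18636 (iv D18027) (iv F70806)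
theorem F73041 : act 2 n18636 = n18352 := d17_1 D18636 (iv D18352) (iv F70807)
theorem F73042 : act 7 n18636 = n18020 := d31_2 (iv F70809) D18636 (iv D18020)
def n18637 : Q := act 6 n18020
theorem D18637 : act 6 n18020 = n18637 := rfl
theorem F73043 : act 1 n18637 = n18029 := d12_1 D18637 (iv D18029) (iv F70810)
theorem F73044 : act 2 n18637 = n18362 := d18_1 D18637 (iv D18362) (iv F70811)
theorem F73045 : act 3 n18637 = n18022 := d23_1 D18637 (iv D18022) (iv F70812)
theorem F73046 : act 5 n18637 = n18226 := d30_1 D18637 (iv D18226) (iv D17617) (iv F68710) D18020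
theorem F73047 : act 8 n18637 = n18065 := d34_2 (iv F70813) D18637 (iv D18065)
def n18638 : Q := act 6 n18021
theorem D18638 : act 6 n18021 = n18638 := rfl
theorem F73048 : act 2 n18638 = n18022 := d18_1 D18638 (iv D18022) (iv F70814)
theorem F73049 : act 8 n18638 = n18068 := d34_2 (iv F70815) D18638 (iv D18068)
def n18639 : Q := act 4 n18023
theorem D18639 : act 4 n18023 = n18639 := rfl
theorem F73050 : act 0 n18639 = n18165 := d3_1 D18639 (iv D18165) (iv F70818)
theorem F73051 : act 3 n18639 = n18025 := d21_1 D18639 (iv D18025) (iv D17424) (iv F68718) D18023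
theorem F73052 : act 6 n18639 = n18433 := d27_2 (iv F70820) D18639 (iv D18433)
theorem F73053 : act 8 n18639 = n18432 := d29_2 (iv F70821) D18639 (iv D18432)
def n18640 : Q := act 4 n18024
theorem D18640 : act 4 n18024 = n18640 := rfl
theorem F73054 : act 0 n18640 = n18167 := d3_1 D18640 (iv D18167) (iv F70822)
theorem F73055 : act 1 n18640 = n18639 := d10_1 D18640 (iv D18639) (iv F70823)
theorem F73056 : act 2 n18640 = n18176 := d16_1 D18640 (iv D18176) (iv F70824)
theorem F73057 : act 3 n18640 = n18432 := d21_1 D18640 (iv D18432) (iv D17821) (iv F68725) D18024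
theorem F73058 : act 6 n18640 = n18334 := d27_2 (iv F70826) D18640 (iv D18334)
theorem F73059 : act 7 n18640 = n18071 := d28_2 (iv F70827) D18640 (iv D18071)
theorem F73060 : act 8 n18640 = n18025 := d29_2 (iv F70828) D18640 (iv D18025)
def n18641 : Q := act 5 n18025
theorem D18641 : act 5 n18025 = n18641 := rfl
theorem F73061 : act 0 n18641 = n18168 := d4_1 D18641 (iv D18168) (iv F70829)
theorem F73062 : act 2 n18641 = n18177 := d17_1 D18641 (iv D18177) (iv F70830)
theorem F73063 : act 4 n18641 = n18027 := d26_1 D18641 (iv D18027) (iv D17426) (iv F68731) D18025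
theorem F73064 : act 7 n18641 = n18028 := d31_2 (iv F70831) D18641 (iv D18028)
def n18642 : Q := act 5 n18026
theorem D18642 : act 5 n18026 = n18642 := rfl
theorem F73065 : act 0 n18642 = n18169 := d4_1 D18642 (iv D18169) (iv F70832)
theorem F73066 : act 2 n18642 = n18178 := d17_1 D18642 (iv D18178) (iv F70833)
theorem F73067 : act 7 n18642 = n18075 := d31_2 (iv F70835) D18642 (iv D18075)
theorem F73068 : act 8 n18642 = n18027 := d32_2 (iv F70836) D18642 (iv D18027)
def n18643 : Q := act 6 n18027
theorem D18643 : act 6 n18027 = n18643 := rfl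
theorem F73069 : act 0 n18643 = n18170 := d5_1 D18643 (iv D18170) (iv F70837)
theorem F73070 : act 2 n18643 = n18179 := d18_1 D18643 (iv D18179) (iv F70838)
theorem F73071 : act 5 n18643 = n18223 := d30_1 D18643 (iv D18223) (iv D17612) (iv F68740) D18027
theorem F73072 : act 7 n18643 = n18029 := d33_2 (iv F70839) D18643 (iv D18029)
def n18644 : Q := act 6 n18028
theorem D18644 : act 6 n18028 = n18644 := rfl
theorem F73073 : act 0 n18644 = n18172 := d5_1 D18644 (iv D18172) (iv F70840)
theorem F73074 : act 2 n18644 = n18181 := d18_1 D18644 (iv D18181) (iv F70841)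
theorem F73075 : act 4 n18644 = n18029 := d27_1 D18644 (iv D18029) (iv F70842)
theorem F73076 : act 8 n18644 = n18081 := d34_2 (iv F70843) D18644 (iv D18081)
def n18645 : Q := act 4 n18030
theorem D18645 : act 4 n18030 = n18645 := rfl
theorem F73077 : act 0 n18645 = n18096 := d3_1 D18645 (iv D18096) (iv F70849)
theorem F73078 : act 2 n18645 = n18031 := d16_1 D18645 (iv D18031) D18030
theorem F73079 : act 7 n18645 = n18032 := d28_2 (iv F70851) D18645 (iv D18032)
def n18646 : Q := act 5 n18031
theorem D18646 : act 5 n18031 = n18646 := rfl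
theorem F73080 : act 0 n18646 = n18097 := d4_1 D18646 (iv D18097) (iv F70852)
theorem F73081 : act 3 n18646 = n18539 := d22_1 D18646 (iv D18539) (iv F70853)
theorem F73082 : act 7 n18646 = n18033 := d31_2 (iv F70854) D18646 (iv D18033)
def n18647 : Q := act 5 n18032
theorem D18647 : act 5 n18032 = n18647 := rfl
theorem F73083 : act 0 n18647 = n18100 := d4_1 D18647 (iv D18100) (iv F70855)
theorem F73084 : act 2 n18647 = n18033 := d17_1 D18647 (iv D18033) (iv F70856)
theorem F73085 : act 3 n18647 = n18331 := d22_1 D18647 (iv D18331) (iv F70857)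
theorem F73086 : act 8 n18647 = n18358 := d32_2 (iv F70858) D18647 (iv D18358)
def n18648 : Q := act 6 n18033
theorem D18648 : act 6 n18033 = n18648 := rfl
theorem F73087 : act 0 n18648 = n18101 := d5_1 D18648 (iv D18101) (iv F70859)
theorem F73088 : act 3 n18648 = n18034 := d23_1 D18648 (iv D18034) (iv F70860)
def n18649 : Q := act 4 n18035
theorem D18649 : act 4 n18035 = n18649 := rfl
theorem F73089 : act 0 n18649 = n18267 := d3_1 D18649 (iv D18267) (iv F70864)
theorem F73090 : act 1 n18649 = n18158 := d10_1 D18649 (iv D18158) (iv F70865)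
theorem F73091 : act 2 n18649 = n18036 := d16_1 D18649 (iv D18036) D18035
theorem F73092 : act 6 n18649 = n18060 := d27_2 (iv F70867) D18649 (iv D18060)
theorem F73093 : act 7 n18649 = n18037 := d28_2 (iv F70868) D18649 (iv D18037)
def n18650 : Q := act 5 n18036
theorem D18650 : act 5 n18036 = n18650 := rfl
theorem F73094 : act 0 n18650 = n18268 := d4_1 D18650 (iv D18268) (iv F70869)
theorem F73095 : act 1 n18650 = n18044 := d11_1 D18650 (iv D18044) (iv F70870)
theorem F73096 : act 7 n18650 = n18038 := d31_2 (iv F70872) D18650 (iv D18038)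
def n18651 : Q := act 5 n18037
theorem D18651 : act 5 n18037 = n18651 := rfl
theorem F73097 : act 0 n18651 = n18271 := d4_1 D18651 (iv D18271) (iv F70873)
theorem F73098 : act 1 n18651 = n18162 := d11_1 D18651 (iv D18162) (iv F70874)
theorem F73099 : act 2 n18651 = n18038 := d17_1 D18651 (iv D18038) (iv F70875)
theorem F73100 : act 8 n18651 = n18211 := d32_2 (iv F70877) D18651 (iv D18211)
def n18652 : Q := act 6 n18038
theorem D18652 : act 6 n18038 = n18652 := rfl
theorem F73101 : act 0 n18652 = n18272 := d5_1 D18652 (iv D18272) (iv F70878)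
theorem F73102 : act 1 n18652 = n18046 := d12_1 D18652 (iv D18046) (iv F70879)
theorem F73103 : act 3 n18652 = n18041 := d23_1 D18652 (iv D18041) (iv F70880)
theorem F73104 : act 5 n18652 = n18065 := d30_1 D18652 (iv D18065) (iv D17460) (iv F68773) D18038
theorem F73105 : act 8 n18652 = n18226 := d34_2 (iv F70881) D18652 (iv D18226)
def n18653 : Q := act 5 n18039
theorem D18653 : act 5 n18039 = n18653 := rfl
theorem F73106 : act 0 n18653 = n18273 := d4_1 D18653 (iv D18273) (iv F70882)
theorem F73107 : act 1 n18653 = n18289 := d11_1 D18653 (iv D18289) (iv F70883)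
theorem F73108 : act 3 n18653 = n18040 := d22_1 D18653 (iv D18040) D18039
theorem F73109 : act 4 n18653 = n18292 := d26_1 D18653 (iv D18292) (iv D17687) (iv F68930) (iv F70884)
def n18654 : Q := act 7 n18039
theorem D18654 : act 7 n18039 = n18654 := rfl
theorem F73110 : act 0 n18654 = n18274 := d6_1 D18654 (iv D18274) (iv F70882)
theorem F73111 : act 1 n18654 = n18279 := d13_1 D18654 F71657 (iv F70883)
theorem F73112 : act 3 n18654 = n18570 := d24_1 D18654 F72809 F70581 F68824 D18039
theorem F73113 : act 4 n18654 = n18084 := d28_1 D18654 (iv D18084) (iv F70884)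
theorem F73114 : act 6 n18654 = n18067 := d33_1 D18654 (iv D18067) (iv F70885)
def n18655 : Q := act 6 n18040
theorem D18655 : act 6 n18040 = n18655 := rfl
theorem F73115 : act 0 n18655 = n18275 := d5_1 D18655 (iv D18275) (iv F70886)
theorem F73116 : act 2 n18655 = n18041 := d18_1 D18655 (iv D18041) (iv F70887)
theorem F73117 : act 5 n18655 = n18068 := d30_1 D18655 (iv D18068) (iv D17462) (iv F68777) D18040
def n18656 : Q := act 5 n18042
theorem D18656 : act 5 n18042 = n18656 := rfl
theorem F73118 : act 0 n18656 = n18177 := d4_1 D18656 (iv D18177) (iv F70891)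
theorem F73119 : act 2 n18656 = n18168 := d17_1 D18656 (iv D18168) (iv F70892)
theorem F73120 : act 4 n18656 = n18044 := d26_1 D18656 (iv D18044) (iv D17441) (iv F68782) D18042
theorem F73121 : act 7 n18656 = n18045 := d31_2 (iv F70893) D18656 (iv D18045)
def n18657 : Q := act 5 n18043
theorem D18657 : act 5 n18043 = n18657 := rfl
theorem F73122 : act 0 n18657 = n18178 := d4_1 D18657 (iv D18178) (iv F70894)
theorem F73123 : act 2 n18657 = n18169 := d17_1 D18657 (iv D18169) (iv F70895)
theorem F73124 : act 7 n18657 = n18219 := d31_2 (iv F70897) D18657 (iv D18219)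
theorem F73125 : act 8 n18657 = n18044 := d32_2 (iv F70898) D18657 (iv D18044)
def n18658 : Q := act 6 n18044
theorem D18658 : act 6 n18044 = n18658 := rfl
theorem F73126 : act 0 n18658 = n18179 := d5_1 D18658 (iv D18179) (iv F70899)
theorem F73127 : act 2 n18658 = n18170 := d18_1 D18658 (iv D18170) (iv F70900)
theorem F73128 : act 5 n18658 = n18078 := d30_1 D18658 (iv D18078) (iv D17472) (iv F68791) D18044
theorem F73129 : act 7 n18658 = n18046 := d33_2 (iv F70901) D18658 (iv D18046)
def n18659 : Q := act 6 n18045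
theorem D18659 : act 6 n18045 = n18659 := rfl
theorem F73130 : act 0 n18659 = n18181 := d5_1 D18659 (iv D18181) (iv F70902)
theorem F73131 : act 2 n18659 = n18172 := d18_1 D18659 (iv D18172) (iv F70903)
theorem F73132 : act 4 n18659 = n18046 := d27_1 D18659 (iv D18046) (iv F70904)
theorem F73133 : act 8 n18659 = n18225 := d34_2 (iv F70905) D18659 (iv D18225)
def n18660 : Q := act 2 n18047
theorem D18660 : act 2 n18047 = n18660 := rfl
theorem F73134 : act 0 n18660 = n18058 := d1_1 D18660 (iv D18058) (iv F70911)
theorem F73135 : act 3 n18660 = n18660 := d15_2 D18047 D18660 (iv D18660) (iv D18047) F68804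
theorem F73136 : act 5 n18660 = n18486 := d17_2 (iv F70913) D18660 (iv D18486)
theorem F73137 : act 6 n18660 = n18264 := d18_2 (iv F70914) D18660 (iv D18264)
theorem F73138 : act 7 n18660 = n18345 := d19_2 F71189 D18660 F71858
theorem F73139 : act 8 n18660 = n18048 := d20_2 (iv F70915) D18660 (iv D18048)
def n18661 : Q := act 4 n18047
theorem D18661 : act 4 n18047 = n18661 := rfl
theorem F73140 : act 0 n18661 = n18059 := d3_1 D18661 (iv D18059) (iv F70911)
theorem F73141 : act 1 n18661 = n18187 := d10_1 D18661 (iv D18187) (iv F70912)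
theorem F73142 : act 3 n18661 = n18457 := d21_1 D18661 (iv D18457) (iv D17847) (iv F68805) D18047
theorem F73143 : act 6 n18661 = n18265 := d27_2 (iv F70914) D18661 (iv D18265)
theorem F73144 : act 8 n18661 = n18049 := d29_2 (iv F70915) D18661 (iv D18049)
def n18662 : Q := act 4 n18048
theorem D18662 : act 4 n18048 = n18662 := rfl
theorem F73145 : act 0 n18662 = n18060 := d3_1 D18662 (iv D18060) (iv F70916)
theorem F73146 : act 2 n18662 = n18049 := d16_1 D18662 (iv D18049) D18048
theorem F73147 : act 6 n18662 = n18267 := d27_2 (iv F70918) D18662 (iv D18267)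
theorem F73148 : act 7 n18662 = n18050 := d28_2 (iv F70919) D18662 (iv D18050)
def n18663 : Q := act 5 n18049
theorem D18663 : act 5 n18049 = n18663 := rfl
theorem F73149 : act 0 n18663 = n18061 := d4_1 D18663 (iv D18061) (iv F70920)
theorem F73150 : act 1 n18663 = n18190 := d11_1 D18663 (iv D18190) (iv F70921)
theorem F73151 : act 3 n18663 = n18650 := d22_1 D18663 (iv D18650) (iv F70922)
theorem F73152 : act 7 n18663 = n18051 := d31_2 (iv F70924) D18663 (iv D18051)
def n18664 : Q := act 5 n18050
theorem D18664 : act 5 n18050 = n18664 := rfl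
theorem F73153 : act 0 n18664 = n18064 := d4_1 D18664 (iv D18064) (iv F70925)
theorem F73154 : act 2 n18664 = n18051 := d17_1 D18664 (iv D18051) (iv F70926)
theorem F73155 : act 8 n18664 = n18361 := d32_2 (iv F70928) D18664 (iv D18361)
def n18665 : Q := act 6 n18051
theorem D18665 : act 6 n18051 = n18665 := rfl
theorem F73156 : act 0 n18665 = n18065 := d5_1 D18665 (iv D18065) (iv F70929)
theorem F73157 : act 1 n18665 = n18195 := d12_1 D18665 (iv D18195) (iv F70930)
theorem F73158 : act 3 n18665 = n18053 := d23_1 D18665 (iv D18053) (iv F70931)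
theorem F73159 : act 5 n18665 = n18272 := d30_1 D18665 (iv D18272) (iv D17671) (iv F68820) D18051
def n18666 : Q := act 6 n18052
theorem D18666 : act 6 n18052 = n18666 := rfl
theorem F73160 : act 0 n18666 = n18068 := d5_1 D18666 (iv D18068) (iv F70932)
theorem F73161 : act 2 n18666 = n18053 := d18_1 D18666 (iv D18053) (iv F70933)
theorem F73162 : act 5 n18666 = n18275 := d30_1 D18666 (iv D18275) (iv D17673) (iv F68823) D18052
theorem F73163 : act 7 n18666 = n18655 := d33_2 (iv F70934) D18666 (iv D18655)
def n18667 : Q := act 2 n18054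
theorem D18667 : act 2 n18054 = n18667 := rfl
theorem F73164 : act 0 n18667 = n18489 := d1_1 D18667 (iv D18489) (iv F70939)
theorem F73165 : act 1 n18667 = n18536 := d8_1 D18667 (iv D18536) F70470 F68992 (iv F70940)
theorem F73166 : act 3 n18667 = n18667 := d15_2 D18054 D18667 (iv D18667) (iv D18054) F68830
theorem F73167 : act 5 n18667 = n18402 := d17_2 (iv F70941) D18667 (iv D18402)
theorem F73168 : act 7 n18667 = n18363 := d19_2 (iv F70942) D18667 F71899
theorem F73169 : act 8 n18667 = n18400 := d20_2 (iv F70943) D18667 (iv D18400)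
def n18668 : Q := act 4 n18054
theorem D18668 : act 4 n18054 = n18668 := rfl
theorem F73170 : act 0 n18668 = n18490 := d3_1 D18668 (iv D18490) (iv F70939)
theorem F73171 : act 1 n18668 = n18069 := d10_1 D18668 (iv D18069) (iv F70940)
theorem F73172 : act 3 n18668 = n18057 := d21_1 D18668 (iv D18057) (iv D17453) (iv F68831) D18054
theorem F73173 : act 7 n18668 = n18433 := d28_2 (iv F70942) D18668 (iv D18433)
theorem F73174 : act 8 n18668 = n18401 := d29_2 (iv F70943) D18668 (iv D18401)
def n18669 : Q := act 2 n18055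
theorem D18669 : act 2 n18055 = n18669 := rfl
theorem F73175 : act 0 n18669 = n18486 := d1_1 D18669 (iv D18486) (iv F70944)
theorem F73176 : act 1 n18669 = n18322 := d8_1 D18669 (iv D18322) (iv F70149) F70150 (iv F70945)
theorem F73177 : act 3 n18669 = n18669 := d15_2 D18055 D18669 (iv D18669) (iv D18055) F68836
theorem F73178 : act 5 n18669 = n18058 := d17_2 (iv F70946) D18669 (iv D18058)
theorem F73179 : act 6 n18669 = n18667 := d18_2 (iv F70947) D18669 (iv D18667)
theorem F73180 : act 7 n18669 = n18338 := d19_2 (iv F70948) D18669 F71835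
theorem F73181 : act 8 n18669 = n18056 := d20_2 (iv F70949) D18669 (iv D18056)
def n18670 : Q := act 4 n18055
theorem D18670 : act 4 n18055 = n18670 := rfl
theorem F73182 : act 0 n18670 = n18487 := d3_1 D18670 (iv D18487) (iv F70944)
theorem F73183 : act 1 n18670 = n18071 := d10_1 D18670 (iv D18071) (iv F70945)
theorem F73184 : act 3 n18670 = n18401 := d21_1 D18670 (iv D18401) (iv D17790) (iv F68837) D18055
theorem F73185 : act 6 n18670 = n18668 := d27_2 (iv F70947) D18670 (iv D18668)
theorem F73186 : act 7 n18670 = n18639 := d28_2 (iv F70948) D18670 (iv D18639)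
theorem F73187 : act 8 n18670 = n18057 := d29_2 (iv F70949) D18670 (iv D18057)
def n18671 : Q := act 4 n18056
theorem D18671 : act 4 n18056 = n18671 := rfl
theorem F73188 : act 1 n18671 = n18324 := d10_1 D18671 (iv D18324) (iv F70950)
theorem F73189 : act 2 n18671 = n18057 := d16_1 D18671 (iv D18057) D18056
theorem F73190 : act 7 n18671 = n18062 := d28_2 (iv F70953) D18671 (iv D18062)
def n18672 : Q := act 5 n18057
theorem D18672 : act 5 n18057 = n18672 := rfl
theorem F73191 : act 1 n18672 = n18073 := d11_1 D18672 (iv D18073) (iv F70954)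
theorem F73192 : act 4 n18672 = n18061 := d26_1 D18672 (iv D18061) (iv D17456) (iv F68842) D18057
theorem F73193 : act 7 n18672 = n18063 := d31_2 (iv F70955) D18672 (iv D18063)
def n18673 : Q := act 4 n18058
theorem D18673 : act 4 n18058 = n18673 := rfl
theorem F73194 : act 1 n18673 = n18326 := d10_1 D18673 (iv D18326) (iv F70956)
theorem F73195 : act 2 n18673 = n18059 := d16_1 D18673 (iv D18059) D18058
theorem F73196 : act 7 n18673 = n18346 := d28_2 (iv F70958) D18673 (iv D18346)
theorem F73197 : act 8 n18673 = n18060 := d29_2 (iv F70959) D18673 (iv D18060)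
def n18674 : Q := act 5 n18059
theorem D18674 : act 5 n18059 = n18674 := rfl
theorem F73198 : act 1 n18674 = n18075 := d11_1 D18674 (iv D18075) (iv F70960)
theorem F73199 : act 8 n18674 = n18061 := d32_2 (iv F70961) D18674 (iv D18061)
def n18675 : Q := act 3 n18060
theorem D18675 : act 3 n18060 = n18675 := rfl
theorem F73200 : act 1 n18675 = n18328 := d9_1 D18675 (iv D18328) (iv F70962)
theorem F73201 : act 4 n18675 = n18675 := d21_2 D18060 D18675 (iv D18675) (iv D18060) F68847
def n18676 : Q := act 5 n18060
theorem D18676 : act 5 n18060 = n18676 := rfl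
theorem F73202 : act 1 n18676 = n18329 := d11_1 D18676 (iv D18329) (iv F70962)
theorem F73203 : act 2 n18676 = n18061 := d17_1 D18676 (iv D18061) (iv F70963)
theorem F73204 : act 7 n18676 = n18064 := d31_2 (iv F70964) D18676 (iv D18064)
def n18677 : Q := act 6 n18061
theorem D18677 : act 6 n18061 = n18677 := rfl
theorem F73205 : act 1 n18677 = n18078 := d12_1 D18677 (iv D18078) (iv F70965)
theorem F73206 : act 7 n18677 = n18065 := d33_2 (iv F70966) D18677 (iv D18065)
def n18678 : Q := act 5 n18062
theorem D18678 : act 5 n18062 = n18678 := rfl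
theorem F73207 : act 1 n18678 = n18331 := d11_1 D18678 (iv D18331) (iv F70967)
theorem F73208 : act 2 n18678 = n18063 := d17_1 D18678 (iv D18063) (iv F70968)
theorem F73209 : act 4 n18678 = n18064 := d26_1 D18678 (iv D18064) (iv D17459) (iv F68853) D18062
theorem F73210 : act 8 n18678 = n18357 := d32_2 (iv F70969) D18678 (iv D18357)
def n18679 : Q := act 6 n18063
theorem D18679 : act 6 n18063 = n18679 := rfl
theorem F73211 : act 1 n18679 = n18081 := d12_1 D18679 (iv D18081) (iv F70970)
theorem F73212 : act 4 n18679 = n18065 := d27_1 D18679 (iv D18065) (iv F70971)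
def n18680 : Q := act 6 n18064
theorem D18680 : act 6 n18064 = n18680 := rfl
theorem F73213 : act 1 n18680 = n18333 := d12_1 D18680 (iv D18333) (iv F70972)
theorem F73214 : act 2 n18680 = n18065 := d18_1 D18680 (iv D18065) (iv F70973)
theorem F73215 : act 8 n18680 = n18362 := d34_2 (iv F70974) D18680 (iv D18362)
def n18681 : Q := act 6 n18066
theorem D18681 : act 6 n18066 = n18681 := rfl
theorem F73216 : act 3 n18681 = n18068 := d23_1 D18681 (iv D18068) (iv F70977)
def n18682 : Q := act 7 n18066
theorem D18682 : act 7 n18066 = n18682 := rfl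
theorem F73217 : act 5 n18682 = n18067 := d31_1 D18682 (iv D18067) D18066
def n18683 : Q := act 8 n18067
theorem D18683 : act 8 n18067 = n18683 := rfl
theorem F73218 : act 4 n18683 = n18085 := d29_1 D18683 (iv D18085) (iv F70978)
def n18684 : Q := act 5 n18069
theorem D18684 : act 5 n18069 = n18684 := rfl
theorem F73219 : act 0 n18684 = n18214 := d4_1 D18684 (iv D18214) (iv F70980)
theorem F73220 : act 3 n18684 = n18073 := d22_1 D18684 (iv D18073) (iv F70981)
def n18685 : Q := act 5 n18070
theorem D18685 : act 5 n18070 = n18685 := rfl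
theorem F73221 : act 0 n18685 = n18215 := d4_1 D18685 (iv D18215) (iv F70982)
theorem F73222 : act 7 n18685 = n18079 := d31_2 (iv F70984) D18685 (iv D18079)
theorem F73223 : act 8 n18685 = n18684 := d32_2 (iv F70985) D18685 (iv D18684)
def n18686 : Q := act 5 n18071
theorem D18686 : act 5 n18071 = n18686 := rfl
theorem F73224 : act 0 n18686 = n18216 := d4_1 D18686 (iv D18216) (iv F70986)
theorem F73225 : act 3 n18686 = n18685 := d22_1 D18686 (iv D18685) (iv F70987)
theorem F73226 : act 4 n18686 = n18075 := d26_1 D18686 (iv D18075) (iv D17470) (iv F68870) D18071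
theorem F73227 : act 8 n18686 = n18073 := d32_2 (iv F70989) D18686 (iv D18073)
def n18687 : Q := act 5 n18072
theorem D18687 : act 5 n18072 = n18687 := rfl
theorem F73228 : act 0 n18687 = n18217 := d4_1 D18687 (iv D18217) (iv F70990)
theorem F73229 : act 1 n18687 = n18325 := d11_1 D18687 (iv D18325) (iv F70991)
theorem F73230 : act 2 n18687 = n18073 := d17_1 D18687 (iv D18073) (iv F70992)
theorem F73231 : act 3 n18687 = n18602 := d22_1 D18687 (iv D18602) (iv F70993)
theorem F73232 : act 4 n18687 = n18077 := d26_1 D18687 (iv D18077) (iv D17471) (iv F68875) D18072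
theorem F73233 : act 7 n18687 = n18080 := d31_2 (iv F70994) D18687 (iv D18080)
def n18688 : Q := act 6 n18073
theorem D18688 : act 6 n18073 = n18688 := rfl
theorem F73234 : act 0 n18688 = n18218 := d5_1 D18688 (iv D18218) (iv F70995)
theorem F73235 : act 4 n18688 = n18078 := d27_1 D18688 (iv D18078) (iv F70996)
theorem F73236 : act 7 n18688 = n18081 := d33_2 (iv F70997) D18688 (iv D18081)
def n18689 : Q := act 3 n18074
theorem D18689 : act 3 n18074 = n18689 := rfl
theorem F73237 : act 0 n18689 = n18120 := d2_1 D18689 F71170 (iv F70998)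
theorem F73238 : act 1 n18689 = n18305 := d9_1 D18689 F71740 (iv F70999)
theorem F73239 : act 4 n18689 = n18083 := d21_2 D18074 D18689 (iv D18083) (iv D17479) (iv F68881)
theorem F73240 : act 6 n18689 = n18130 := d23_2 (iv F71001) D18689 F71205
theorem F73241 : act 8 n18689 = n18076 := d25_2 (iv F71003) D18689 (iv D18076)
def n18690 : Q := act 5 n18074
theorem D18690 : act 5 n18074 = n18690 := rfl
theorem F73242 : act 0 n18690 = n18219 := d4_1 D18690 (iv D18219) (iv F70998)
theorem F73243 : act 1 n18690 = n18327 := d11_1 D18690 (iv D18327) (iv F70999)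
theorem F73244 : act 2 n18690 = n18075 := d17_1 D18690 (iv D18075) (iv F71000)
theorem F73245 : act 7 n18690 = n18178 := d31_2 (iv F71002) D18690 (iv D18178)
theorem F73246 : act 8 n18690 = n18077 := d32_2 (iv F71003) D18690 (iv D18077)
def n18691 : Q := act 6 n18075
theorem D18691 : act 6 n18075 = n18691 := rfl
theorem F73247 : act 0 n18691 = n18220 := d5_1 D18691 (iv D18220) (iv F71004)
theorem F73248 : act 8 n18691 = n18078 := d34_2 (iv F71005) D18691 (iv D18078)
def n18692 : Q := act 5 n18076
theorem D18692 : act 5 n18076 = n18692 := rfl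
theorem F73249 : act 0 n18692 = n18222 := d4_1 D18692 (iv D18222) (iv F71006)
theorem F73250 : act 1 n18692 = n18308 := d11_1 D18692 (iv D18308) (iv F71007)
theorem F73251 : act 3 n18692 = n18077 := d22_1 D18692 (iv D18077) D18076
theorem F73252 : act 4 n18692 = n18605 := d26_1 D18692 (iv D18605) (iv D17992) (iv F68925) (iv F71008)
theorem F73253 : act 7 n18692 = n18110 := d31_2 (iv F71010) D18692 (iv D18110)
def n18693 : Q := act 6 n18077
theorem D18693 : act 6 n18077 = n18693 := rfl
theorem F73254 : act 0 n18693 = n18223 := d5_1 D18693 (iv D18223) (iv F71011)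
theorem F73255 : act 1 n18693 = n18330 := d12_1 D18693 (iv D18330) (iv F71012)
theorem F73256 : act 2 n18693 = n18078 := d18_1 D18693 (iv D18078) (iv F71013)
theorem F73257 : act 5 n18693 = n18170 := d30_1 D18693 (iv D18170) (iv D17561) (iv F68891) D18077
theorem F73258 : act 7 n18693 = n18082 := d33_2 (iv F71014) D18693 (iv D18082)
def n18694 : Q := act 6 n18079
theorem D18694 : act 6 n18079 = n18694 := rfl
theorem F73259 : act 0 n18694 = n18224 := d5_1 D18694 (iv D18224) (iv F71017)
theorem F73260 : act 5 n18694 = n18081 := d30_1 D18694 (iv D18081) (iv D17475) (iv F68896) D18079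
def n18695 : Q := act 6 n18080
theorem D18695 : act 6 n18080 = n18695 := rfl
theorem F73261 : act 0 n18695 = n18225 := d5_1 D18695 (iv D18225) (iv F71018)
theorem F73262 : act 1 n18695 = n18332 := d12_1 D18695 (iv D18332) (iv F71019)
theorem F73263 : act 2 n18695 = n18081 := d18_1 D18695 (iv D18081) (iv F71020)
theorem F73264 : act 4 n18695 = n18082 := d27_1 D18695 (iv D18082) (iv F71021)
theorem F73265 : act 8 n18695 = n18181 := d34_2 (iv F71022) D18695 (iv D18181)
def n18696 : Q := act 8 n18084
theorem D18696 : act 8 n18084 = n18696 := rfl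
theorem F73266 : act 0 n18696 = n18301 := d7_1 D18696 (iv D18301) (iv F71036)
theorem F73267 : act 1 n18696 = n18277 := d14_1 D18696 F71651 (iv F71037)
theorem F73268 : act 3 n18696 = n18086 := d25_1 D18696 (iv D18086) (iv F71038)
theorem F73269 : act 5 n18696 = n18281 := d32_1 D18696 F71662 (iv F71039)
theorem F73270 : act 6 n18696 = n18085 := d34_1 D18696 (iv D18085) (iv F71040)
def n18697 : Q := act 6 n18087
theorem D18697 : act 6 n18087 = n18697 := rfl
theorem F73271 : act 1 n18697 = n18090 := d12_1 D18697 (iv D18090) (iv F71049)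
theorem F73272 : act 4 n18697 = n18111 := d27_1 D18697 (iv D18111) (iv F71050)
theorem F73273 : act 7 n18697 = n18091 := d33_2 (iv F71051) D18697 (iv D18091)
theorem F73274 : act 8 n18697 = n18455 := d34_2 (iv F71052) D18697 (iv D18455)
def n18698 : Q := act 5 n18088
theorem D18698 : act 5 n18088 = n18698 := rfl
theorem F73275 : act 0 n18698 = n18526 := d4_1 D18698 (iv D18526) (iv F71053)
theorem F73276 : act 2 n18698 = n18089 := d17_1 D18698 (iv D18089) (iv F71054)
theorem F73277 : act 3 n18698 = n18141 := d22_1 D18698 (iv D18141) (iv F71055)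
theorem F73278 : act 7 n18698 = n18419 := d31_2 (iv F71057) D18698 (iv D18419)
theorem F73279 : act 8 n18698 = n18466 := d32_2 (iv F71058) D18698 (iv D18466)
def n18699 : Q := act 6 n18089
theorem D18699 : act 6 n18089 = n18699 := rfl
theorem F73280 : act 0 n18699 = n18527 := d5_1 D18699 (iv D18527) (iv F71059)
theorem F73281 : act 3 n18699 = n18090 := d23_1 D18699 (iv D18090) (iv F71060)
theorem F73282 : act 5 n18699 = n18440 := d30_1 D18699 (iv D18440) (iv D17828) (iv F68951) D18089
theorem F73283 : act 7 n18699 = n18420 := d33_2 (iv F71061) D18699 (iv D18420)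
theorem F73284 : act 8 n18699 = n18467 := d34_2 (iv F71062) D18699 (iv D18467)
def n18700 : Q := act 4 n18092
theorem D18700 : act 4 n18092 = n18700 := rfl
theorem F73285 : act 2 n18700 = n18093 := d16_1 D18700 (iv D18093) D18092
theorem F73286 : act 7 n18700 = n18098 := d28_2 (iv F71072) D18700 (iv D18098)
theorem F73287 : act 8 n18700 = n18645 := d29_2 (iv F71073) D18700 (iv D18645)
def n18701 : Q := act 5 n18093
theorem D18701 : act 5 n18093 = n18701 := rfl
theorem F73288 : act 1 n18701 = n18104 := d11_1 D18701 (iv D18104) (iv F71074)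
theorem F73289 : act 4 n18701 = n18097 := d26_1 D18701 (iv D18097) (iv D17495) (iv F68968) D18093
theorem F73290 : act 7 n18701 = n18099 := d31_2 (iv F71075) D18701 (iv D18099)
theorem F73291 : act 8 n18701 = n18646 := d32_2 (iv F71076) D18701 (iv D18646)
def n18702 : Q := act 4 n18094
theorem D18702 : act 4 n18094 = n18702 := rfl
theorem F73292 : act 0 n18702 = n18700 := d3_1 D18702 (iv D18700) (iv F71077)
theorem F73293 : act 1 n18702 = n18609 := d10_1 D18702 (iv D18609) (iv F71078)
theorem F73294 : act 2 n18702 = n18095 := d16_1 D18702 (iv D18095) D18094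
theorem F73295 : act 6 n18702 = n18372 := d27_2 (iv F71081) D18702 (iv D18372)
theorem F73296 : act 7 n18702 = n18386 := d28_2 (iv F71082) D18702 (iv D18386)
theorem F73297 : act 8 n18702 = n18096 := d29_2 (iv F71083) D18702 (iv D18096)
def n18703 : Q := act 5 n18095
theorem D18703 : act 5 n18095 = n18703 := rfl
theorem F73298 : act 0 n18703 = n18701 := d4_1 D18703 (iv D18701) (iv F71084)
theorem F73299 : act 1 n18703 = n18105 := d11_1 D18703 (iv D18105) (iv F71085)
theorem F73300 : act 3 n18703 = n18553 := d22_1 D18703 (iv D18553) (iv F71086)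
theorem F73301 : act 4 n18703 = n18646 := d26_1 D18703 (iv D18646) (iv D18031) (iv F68973) D18095
theorem F73302 : act 7 n18703 = n18387 := d31_2 (iv F71088) D18703 (iv D18387)
theorem F73303 : act 8 n18703 = n18097 := d32_2 (iv F71089) D18703 (iv D18097)
def n18704 : Q := act 3 n18096
theorem D18704 : act 3 n18096 = n18704 := rfl
theorem F73304 : act 2 n18704 = n18555 := d15_1 D18704 (iv D18555) F70520 (iv F68980) (iv F71090)
theorem F73305 : act 4 n18704 = n18704 := d21_2 D18096 D18704 (iv D18704) (iv D18096) F68977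
def n18705 : Q := act 5 n18096
theorem D18705 : act 5 n18096 = n18705 := rfl
theorem F73306 : act 2 n18705 = n18097 := d17_1 D18705 (iv D18097) (iv F71090)
theorem F73307 : act 7 n18705 = n18100 := d31_2 (iv F71091) D18705 (iv D18100)
def n18706 : Q := act 6 n18097
theorem D18706 : act 6 n18097 = n18706 := rfl
theorem F73308 : act 1 n18706 = n18106 := d12_1 D18706 (iv D18106) (iv F71092)
theorem F73309 : act 3 n18706 = n18557 := d23_1 D18706 (iv D18557) (iv F71093)
theorem F73310 : act 7 n18706 = n18101 := d33_2 (iv F71094) D18706 (iv D18101)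
def n18707 : Q := act 5 n18098
theorem D18707 : act 5 n18098 = n18707 := rfl
theorem F73311 : act 2 n18707 = n18099 := d17_1 D18707 (iv D18099) (iv F71095)
theorem F73312 : act 4 n18707 = n18100 := d26_1 D18707 (iv D18100) (iv D17498) (iv F68983) D18098
def n18708 : Q := act 6 n18099
theorem D18708 : act 6 n18099 = n18708 := rfl
theorem F73313 : act 1 n18708 = n18107 := d12_1 D18708 (iv D18107) (iv F71096)
theorem F73314 : act 3 n18708 = n18181 := d23_1 D18708 (iv D18181) (iv F71097)
theorem F73315 : act 4 n18708 = n18101 := d27_1 D18708 (iv D18101) (iv F71098)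
def n18709 : Q := act 6 n18100
theorem D18709 : act 6 n18100 = n18709 := rfl
theorem F73316 : act 2 n18709 = n18101 := d18_1 D18709 (iv D18101) (iv F71099)
def n18710 : Q := act 5 n18102
theorem D18710 : act 5 n18102 = n18710 := rfl
theorem F73317 : act 2 n18710 = n18684 := d17_1 D18710 (iv D18684) (iv F71102)
theorem F73318 : act 3 n18710 = n18104 := d22_1 D18710 (iv D18104) (iv F71103)
theorem F73319 : act 4 n18710 = n18565 := d26_1 D18710 (iv D18565) (iv D17945) (iv F68993) D18102
theorem F73320 : act 7 n18710 = n18335 := d31_2 (iv F71104) D18710 (iv D18335)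
def n18711 : Q := act 5 n18103
theorem D18711 : act 5 n18103 = n18711 := rfl
theorem F73321 : act 0 n18711 = n18448 := d4_1 D18711 (iv D18448) (iv F71105)
theorem F73322 : act 1 n18711 = n18646 := d11_1 D18711 (iv D18646) (iv F71106)
theorem F73323 : act 2 n18711 = n18452 := d17_1 D18711 (iv D18452) (iv F71107)
theorem F73324 : act 4 n18711 = n18105 := d26_1 D18711 (iv D18105) (iv D17504) (iv F68998) D18103
theorem F73325 : act 7 n18711 = n18385 := d31_2 (iv F71109) D18711 (iv D18385)
theorem F73326 : act 8 n18711 = n18104 := d32_2 (iv F71110) D18711 (iv D18104)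
def n18712 : Q := act 6 n18104
theorem D18712 : act 6 n18104 = n18712 := rfl
theorem F73327 : act 4 n18712 = n18106 := d27_1 D18712 (iv D18106) (iv F71111)
theorem F73328 : act 7 n18712 = n18107 := d33_2 (iv F71112) D18712 (iv D18107)
def n18713 : Q := act 6 n18105
theorem D18713 : act 6 n18105 = n18713 := rfl
theorem F73329 : act 0 n18713 = n18450 := d5_1 D18713 (iv D18450) (iv F71113)
theorem F73330 : act 3 n18713 = n18577 := d23_1 D18713 (iv D18577) (iv F71114)
theorem F73331 : act 5 n18713 = n18381 := d30_1 D18713 (iv D18381) (iv D17773) (iv F69005) D18105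
theorem F73332 : act 7 n18713 = n18392 := d33_2 (iv F71115) D18713 (iv D18392)
theorem F73333 : act 8 n18713 = n18106 := d34_2 (iv F71116) D18713 (iv D18106)
def n18714 : Q := act 0 n18108
theorem D18714 : act 0 n18108 = n18714 := rfl
theorem F73334 : act 1 n18714 = n18592 := d0_2 D18108 D18714 F72868 F70629 (iv F69013)
theorem F73335 : act 2 n18714 = n18314 := d1_2 (iv F71121) D18714 (iv D18314)
theorem F73336 : act 3 n18714 = n18112 := d2_2 (iv F71122) D18714 (iv D18112)
theorem F73337 : act 5 n18714 = n18367 := d4_2 (iv F71123) D18714 F71915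
theorem F73338 : act 6 n18714 = n18139 := d5_2 (iv F71124) D18714 (iv D18139)
def n18715 : Q := act 4 n18108
theorem D18715 : act 4 n18108 = n18715 := rfl
theorem F73339 : act 1 n18715 = n18109 := d10_1 D18715 (iv D18109) D18108
theorem F73340 : act 2 n18715 = n18315 := d16_1 D18715 (iv D18315) (iv F71121)
theorem F73341 : act 3 n18715 = n18438 := d21_1 D18715 (iv D18438) F70081 (iv F69023) (iv F71122)
theorem F73342 : act 6 n18715 = n18140 := d27_2 (iv F71124) D18715 (iv D18140)
def n18716 : Q := act 5 n18109
theorem D18716 : act 5 n18109 = n18716 := rfl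
theorem F73343 : act 0 n18716 = n18581 := d4_1 D18716 (iv D18581) (iv F71125)
theorem F73344 : act 2 n18716 = n18110 := d17_1 D18716 (iv D18110) (iv F71126)
theorem F73345 : act 3 n18716 = n18439 := d22_1 D18716 (iv D18439) (iv F71127)
theorem F73346 : act 4 n18716 = n18353 := d26_1 D18716 (iv D18353) F69728 (iv F69015) D18109
def n18717 : Q := act 6 n18110
theorem D18717 : act 6 n18110 = n18717 := rfl
theorem F73347 : act 1 n18717 = n18317 := d12_1 D18717 (iv D18317) (iv F71129)
theorem F73348 : act 3 n18717 = n18111 := d23_1 D18717 (iv D18111) (iv F71130)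
theorem F73349 : act 5 n18717 = n18142 := d30_1 D18717 (iv D18142) (iv D17533) (iv F69019) D18110
def n18718 : Q := act 4 n18113
theorem D18718 : act 4 n18113 = n18718 := rfl
theorem F73350 : act 0 n18718 = n18119 := d3_1 D18718 (iv D18119) (iv F71140)
theorem F73351 : act 3 n18718 = n18147 := d21_1 D18718 (iv D18147) (iv D17541) (iv F69029) D18113
theorem F73352 : act 6 n18718 = n18243 := d27_2 (iv F71141) D18718 (iv D18243)
theorem F73353 : act 7 n18718 = n18114 := d28_2 (iv F71142) D18718 (iv D18114)
def n18719 : Q := act 5 n18114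
theorem D18719 : act 5 n18114 = n18719 := rfl
theorem F73354 : act 0 n18719 = n18123 := d4_1 D18719 (iv D18123) (iv F71143)
theorem F73355 : act 3 n18719 = n18115 := d22_1 D18719 (iv D18115) (iv F71144)
theorem F73356 : act 8 n18719 = n18605 := d32_2 (iv F71146) D18719 (iv D18605)
def n18720 : Q := act 6 n18115
theorem D18720 : act 6 n18115 = n18720 := rfl
theorem F73357 : act 0 n18720 = n18124 := d5_1 D18720 (iv D18124) (iv F71147)
theorem F73358 : act 2 n18720 = n18713 := d18_1 D18720 (iv D18713) (iv F71148)
theorem F73359 : act 5 n18720 = n18249 := d30_1 D18720 (iv D18249) (iv D17653) (iv F69036) D18115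
theorem F73360 : act 7 n18720 = n18151 := d33_2 (iv F71149) D18720 (iv D18151)
theorem F73361 : act 8 n18720 = n18606 := d34_2 (iv F71150) D18720 (iv D18606)
def n18721 : Q := act 4 n18116
theorem D18721 : act 4 n18116 = n18721 := rfl
theorem F73362 : act 1 n18721 = n18128 := d10_1 D18721 (iv D18128) (iv F71151)
theorem F73363 : act 6 n18721 = n18612 := d27_2 (iv F71153) D18721 (iv D18612)
theorem F73364 : act 7 n18721 = n18120 := d28_2 (iv F71154) D18721 (iv D18120)
theorem F73365 : act 8 n18721 = n18718 := d29_2 (iv F71155) D18721 (iv D18718)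
def n18722 : Q := act 2 n18117
theorem D18722 : act 2 n18117 = n18722 := rfl
theorem F73366 : act 0 n18722 = n18366 := d1_1 D18722 F71912 (iv F71156)
theorem F73367 : act 3 n18722 = n18722 := d15_2 D18117 D18722 (iv D18722) (iv D18117) F69046
theorem F73368 : act 5 n18722 = n18591 := d17_2 (iv F71158) D18722 F72864
theorem F73369 : act 6 n18722 = n18304 := d18_2 (iv F71159) D18722 (iv D18304)
theorem F73370 : act 7 n18722 = n18296 := d19_2 (iv F71160) D18722 F71708
theorem F73371 : act 8 n18722 = n18118 := d20_2 (iv F71161) D18722 (iv D18118)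
def n18723 : Q := act 4 n18117
theorem D18723 : act 4 n18117 = n18723 := rfl
theorem F73372 : act 0 n18723 = n18721 := d3_1 D18723 (iv D18721) (iv F71156)
theorem F73373 : act 1 n18723 = n18130 := d10_1 D18723 (iv D18130) (iv F71157)
theorem F73374 : act 3 n18723 = n18157 := d21_1 D18723 (iv D18157) (iv D17548) (iv F69047) D18117
theorem F73375 : act 6 n18723 = n18305 := d27_2 (iv F71159) D18723 (iv D18305)
theorem F73376 : act 7 n18723 = n18689 := d28_2 (iv F71160) D18723 F73239
theorem F73377 : act 8 n18723 = n18119 := d29_2 (iv F71161) D18723 (iv D18119)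
def n18724 : Q := act 1 n18118
theorem D18724 : act 1 n18118 = n18724 := rfl
theorem F73378 : act 2 n18724 = n18131 := d8_2 D18118 D18724 (iv D18131) (iv D17526) (iv F69051)
theorem F73379 : act 3 n18724 = n18724 := d9_2 F71162 D18724 (iv D18724)
theorem F73380 : act 6 n18724 = n18306 := d12_2 (iv F71163) D18724 (iv D18306)
theorem F73381 : act 7 n18724 = n18121 := d13_2 (iv F71164) D18724 (iv D18121)
def n18725 : Q := act 4 n18118
theorem D18725 : act 4 n18118 = n18725 := rfl
theorem F73382 : act 2 n18725 = n18119 := d16_1 D18725 (iv D18119) D18118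
theorem F73383 : act 6 n18725 = n18307 := d27_2 (iv F71163) D18725 (iv D18307)
theorem F73384 : act 7 n18725 = n18122 := d28_2 (iv F71164) D18725 (iv D18122)
def n18726 : Q := act 5 n18119
theorem D18726 : act 5 n18119 = n18726 := rfl
theorem F73385 : act 1 n18726 = n18133 := d11_1 D18726 (iv D18133) (iv F71165)
theorem F73386 : act 3 n18726 = n18159 := d22_1 D18726 (iv D18159) (iv F71166)
theorem F73387 : act 7 n18726 = n18123 := d31_2 (iv F71168) D18726 (iv D18123)
def n18727 : Q := act 5 n18120
theorem D18727 : act 5 n18120 = n18727 := rfl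
theorem F73388 : act 1 n18727 = n18138 := d11_1 D18727 (iv D18138) (iv F71169)
theorem F73389 : act 3 n18727 = n18219 := d22_1 D18727 (iv D18219) (iv F71170)
theorem F73390 : act 4 n18727 = n18123 := d26_1 D18727 (iv D18123) (iv D17520) (iv F69055) D18120
theorem F73391 : act 8 n18727 = n18222 := d32_2 (iv F71171) D18727 (iv D18222)
def n18728 : Q := act 0 n18121
theorem D18728 : act 0 n18121 = n18728 := rfl
theorem F73392 : act 2 n18728 = n18139 := d1_2 (iv F71172) D18728 (iv D18139)
theorem F73393 : act 3 n18728 = n18227 := d2_2 (iv F71173) D18728 (iv D18227)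
theorem F73394 : act 6 n18728 = n18314 := d5_2 (iv F71174) D18728 (iv D18314)
theorem F73395 : act 8 n18728 = n18714 := d7_2 (iv F71175) D18728 (iv D18714)
def n18729 : Q := act 4 n18121
theorem D18729 : act 4 n18121 = n18729 := rfl
theorem F73396 : act 1 n18729 = n18122 := d10_1 D18729 (iv D18122) D18121
theorem F73397 : act 2 n18729 = n18140 := d16_1 D18729 (iv D18140) (iv F71172)
theorem F73398 : act 6 n18729 = n18315 := d27_2 (iv F71174) D18729 (iv D18315)
theorem F73399 : act 8 n18729 = n18715 := d29_2 (iv F71175) D18729 (iv D18715)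
def n18730 : Q := act 5 n18122
theorem D18730 : act 5 n18122 = n18730 := rfl
theorem F73400 : act 2 n18730 = n18123 := d17_1 D18730 (iv D18123) (iv F71176)
theorem F73401 : act 8 n18730 = n18716 := d32_2 (iv F71178) D18730 (iv D18716)
def n18731 : Q := act 6 n18123
theorem D18731 : act 6 n18123 = n18731 := rfl
theorem F73402 : act 1 n18731 = n18142 := d12_1 D18731 (iv D18142) (iv F71179)
theorem F73403 : act 3 n18731 = n18124 := d23_1 D18731 (iv D18124) (iv F71180)
theorem F73404 : act 5 n18731 = n18317 := d30_1 D18731 (iv D18317) (iv D17710) (iv F69062) D18123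
theorem F73405 : act 8 n18731 = n18717 := d34_2 (iv F71181) D18731 (iv D18717)
def n18732 : Q := act 4 n18125
theorem D18732 : act 4 n18125 = n18732 := rfl
theorem F73406 : act 0 n18732 = n18461 := d3_1 D18732 (iv D18461) (iv F71186)
theorem F73407 : act 3 n18732 = n18128 := d21_1 D18732 (iv D18128) (iv D17524) (iv F69069) D18125
theorem F73408 : act 6 n18732 = n18377 := d27_2 (iv F71188) D18732 (iv D18377)
theorem F73409 : act 7 n18732 = n18661 := d28_2 (iv F71189) D18732 (iv D18661)
theorem F73410 : act 8 n18732 = n18520 := d29_2 (iv F71190) D18732 (iv D18520)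
def n18733 : Q := act 2 n18126
theorem D18733 : act 2 n18126 = n18733 := rfl
theorem F73411 : act 0 n18733 = n18309 := d1_1 D18733 (iv D18309) (iv F71191)
theorem F73412 : act 3 n18733 = n18234 := d15_2 D18126 D18733 (iv D18234) (iv D17638) (iv F69075)
theorem F73413 : act 5 n18733 = n18129 := d17_2 (iv F71193) D18733 (iv D18129)
theorem F73414 : act 6 n18733 = n18244 := d18_2 (iv F71194) D18733 (iv D18244)
theorem F73415 : act 7 n18733 = n18607 := d19_2 (iv F71195) D18733 (iv D18607)
theorem F73416 : act 8 n18733 = n18127 := d20_2 (iv F71196) D18733 (iv D18127)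
def n18734 : Q := act 4 n18126
theorem D18734 : act 4 n18126 = n18734 := rfl
theorem F73417 : act 0 n18734 = n18310 := d3_1 D18734 (iv D18310) (iv F71191)
theorem F73418 : act 1 n18734 = n18718 := d10_1 D18734 (iv D18718) (iv F71192)
theorem F73419 : act 3 n18734 = n18520 := d21_1 D18734 (iv D18520) (iv D17906) (iv F69076) D18126
theorem F73420 : act 6 n18734 = n18245 := d27_2 (iv F71194) D18734 (iv D18245)
theorem F73421 : act 7 n18734 = n18608 := d28_2 (iv F71195) D18734 (iv D18608)
theorem F73422 : act 8 n18734 = n18128 := d29_2 (iv F71196) D18734 (iv D18128)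
def n18735 : Q := act 1 n18127
theorem D18735 : act 1 n18127 = n18735 := rfl
theorem F73423 : act 3 n18735 = n18235 := d9_2 (iv F71197) D18735 (iv D18235)
theorem F73424 : act 5 n18735 = n18131 := d11_2 (iv F71198) D18735 (iv D18131)
theorem F73425 : act 6 n18735 = n18621 := d12_2 (iv F71199) D18735 (iv D18621)
theorem F73426 : act 7 n18735 = n18136 := d13_2 (iv F71200) D18735 (iv D18136)
def n18736 : Q := act 4 n18127
theorem D18736 : act 4 n18127 = n18736 := rfl
theorem F73427 : act 2 n18736 = n18128 := d16_1 D18736 (iv D18128) D18127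
theorem F73428 : act 6 n18736 = n18622 := d27_2 (iv F71199) D18736 (iv D18622)
theorem F73429 : act 7 n18736 = n18137 := d28_2 (iv F71200) D18736 (iv D18137)
def n18737 : Q := act 5 n18128
theorem D18737 : act 5 n18128 = n18737 := rfl
theorem F73430 : act 4 n18737 = n18133 := d26_1 D18737 (iv D18133) (iv D17527) (iv F69080) D18128
theorem F73431 : act 7 n18737 = n18138 := d31_2 (iv F71202) D18737 (iv D18138)
def n18738 : Q := act 1 n18129
theorem D18738 : act 1 n18129 = n18738 := rfl
theorem F73432 : act 3 n18738 = n18236 := d9_2 (iv F71203) D18738 (iv D18236)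
theorem F73433 : act 8 n18738 = n18131 := d14_2 (iv F71204) D18738 (iv D18131)
def n18739 : Q := act 4 n18129
theorem D18739 : act 4 n18129 = n18739 := rfl
theorem F73434 : act 2 n18739 = n18130 := d16_1 D18739 (iv D18130) D18129
theorem F73435 : act 8 n18739 = n18132 := d29_2 (iv F71204) D18739 (iv D18132)
def n18740 : Q := act 5 n18130
theorem D18740 : act 5 n18130 = n18740 := rfl
theorem F73436 : act 3 n18740 = n18169 := d22_1 D18740 (iv D18169) (iv F71205)
theorem F73437 : act 8 n18740 = n18133 := d32_2 (iv F71206) D18740 (iv D18133)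
def n18741 : Q := act 0 n18131
theorem D18741 : act 0 n18131 = n18741 := rfl
theorem F73438 : act 1 n18741 = n18588 := d0_2 D18131 D18741 F72852 F71506 F69406
theorem F73439 : act 3 n18741 = n18237 := d2_2 (iv F71207) D18741 (iv D18237)
theorem F73440 : act 7 n18741 = n18139 := d6_2 (iv F71208) D18741 (iv D18139)
def n18742 : Q := act 4 n18131
theorem D18742 : act 4 n18131 = n18742 := rfl
theorem F73441 : act 1 n18742 = n18132 := d10_1 D18742 (iv D18132) D18131
theorem F73442 : act 7 n18742 = n18140 := d28_2 (iv F71208) D18742 (iv D18140)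
def n18743 : Q := act 5 n18132
theorem D18743 : act 5 n18132 = n18743 := rfl
theorem F73443 : act 2 n18743 = n18133 := d17_1 D18743 (iv D18133) (iv F71209)
theorem F73444 : act 7 n18743 = n18141 := d31_2 (iv F71210) D18743 (iv D18141)
def n18744 : Q := act 6 n18133
theorem D18744 : act 6 n18133 = n18744 := rfl
theorem F73445 : act 3 n18744 = n18170 := d23_1 D18744 (iv D18170) (iv F71211)
theorem F73446 : act 7 n18744 = n18142 := d33_2 (iv F71212) D18744 (iv D18142)
def n18745 : Q := act 4 n18134
theorem D18745 : act 4 n18134 = n18745 := rfl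
theorem F73447 : act 0 n18745 = n18736 := d3_1 D18745 (iv D18736) (iv F71213)
theorem F73448 : act 2 n18745 = n18135 := d16_1 D18745 (iv D18135) D18134
theorem F73449 : act 6 n18745 = n18137 := d27_2 (iv F71216) D18745 (iv D18137)
theorem F73450 : act 7 n18745 = n18622 := d28_2 (iv F71217) D18745 (iv D18622)
def n18746 : Q := act 5 n18135
theorem D18746 : act 5 n18135 = n18746 := rfl
theorem F73451 : act 0 n18746 = n18737 := d4_1 D18746 (iv D18737) (iv F71218)
theorem F73452 : act 4 n18746 = n18620 := d26_1 D18746 (iv D18620) (iv D18003) (iv F69089) D18135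
theorem F73453 : act 7 n18746 = n18623 := d31_2 (iv F71220) D18746 (iv D18623)
def n18747 : Q := act 0 n18136
theorem D18747 : act 0 n18136 = n18747 := rfl
theorem F73454 : act 3 n18747 = n18143 := d2_2 (iv F71221) D18747 (iv D18143)
theorem F73455 : act 5 n18747 = n18139 := d4_2 (iv F71222) D18747 (iv D18139)
theorem F73456 : act 6 n18747 = n18630 := d5_2 F71235 D18747 F73018
def n18748 : Q := act 4 n18136
theorem D18748 : act 4 n18136 = n18748 := rfl
theorem F73457 : act 1 n18748 = n18137 := d10_1 D18748 (iv D18137) D18136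
theorem F73458 : act 3 n18748 = n18745 := d21_1 D18748 (iv D18745) F71214 F69104 (iv F71221)
def n18749 : Q := act 3 n18137
theorem D18749 : act 3 n18137 = n18749 := rfl
theorem F73459 : act 1 n18749 = n18745 := d9_1 D18749 (iv F73458) F73457
theorem F73460 : act 4 n18749 = n18144 := d21_2 D18137 D18749 (iv D18144) (iv D17537) (iv F69092)
theorem F73461 : act 6 n18749 = n18748 := d23_2 F73449 D18749 F73458
def n18750 : Q := act 5 n18137
theorem D18750 : act 5 n18137 = n18750 := rfl
theorem F73462 : act 2 n18750 = n18138 := d17_1 D18750 (iv D18138) (iv F71223)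
theorem F73463 : act 4 n18750 = n18141 := d26_1 D18750 (iv D18141) (iv D17532) (iv F69093) D18137
def n18751 : Q := act 6 n18138
theorem D18751 : act 6 n18138 = n18751 := rfl
theorem F73464 : act 4 n18751 = n18142 := d27_1 D18751 (iv D18142) (iv F71224)
def n18752 : Q := act 4 n18139
theorem D18752 : act 4 n18139 = n18752 := rfl
theorem F73465 : act 0 n18752 = n18140 := d3_1 D18752 (iv D18140) D18139
def n18753 : Q := act 5 n18140
theorem D18753 : act 5 n18140 = n18753 := rfl
theorem F73466 : act 1 n18753 = n18141 := d11_1 D18753 (iv D18141) (iv F71226)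
def n18754 : Q := act 6 n18141
theorem D18754 : act 6 n18141 = n18754 := rfl
theorem F73467 : act 2 n18754 = n18142 := d18_1 D18754 (iv D18142) (iv F71227)
def n18755 : Q := act 2 n18145
theorem D18755 : act 2 n18145 = n18755 := rfl
theorem F73468 : act 0 n18755 = n18156 := d1_1 D18755 (iv D18156) (iv F71236)
theorem F73469 : act 3 n18755 = n18755 := d15_2 D18145 D18755 (iv D18755) (iv D18145) F69116
theorem F73470 : act 6 n18755 = n18256 := d18_2 (iv F71238) D18755 (iv D18256)
theorem F73471 : act 7 n18755 = n18186 := d19_2 (iv F71239) D18755 (iv D18186)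
theorem F73472 : act 8 n18755 = n18146 := d20_2 (iv F71240) D18755 (iv D18146)
def n18756 : Q := act 4 n18145
theorem D18756 : act 4 n18145 = n18756 := rfl
theorem F73473 : act 0 n18756 = n18157 := d3_1 D18756 (iv D18157) (iv F71236)
theorem F73474 : act 1 n18756 = n18732 := d10_1 D18756 (iv D18732) (iv F71237)
theorem F73475 : act 3 n18756 = n18721 := d21_1 D18756 (iv D18721) (iv D18116) (iv F69117) D18145
theorem F73476 : act 6 n18756 = n18257 := d27_2 (iv F71238) D18756 (iv D18257)
theorem F73477 : act 7 n18756 = n18187 := d28_2 (iv F71239) D18756 (iv D18187)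
theorem F73478 : act 8 n18756 = n18147 := d29_2 (iv F71240) D18756 (iv D18147)
def n18757 : Q := act 1 n18146
theorem D18757 : act 1 n18146 = n18757 := rfl
theorem F73479 : act 0 n18757 = n18266 := d0_1 D18757 (iv D18266) (iv F70864) F70865 (iv F71241)
theorem F73480 : act 2 n18757 = n18284 := d8_2 D18146 D18757 F71669 (iv F70411) F70410
theorem F73481 : act 3 n18757 = n18757 := d9_2 F71242 D18757 (iv D18757)
theorem F73482 : act 5 n18757 = n18300 := d11_2 F72731 D18757 (iv F72729)
theorem F73483 : act 6 n18757 = n18258 := d12_2 (iv F71243) D18757 (iv D18258)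
theorem F73484 : act 7 n18757 = n18148 := d13_2 (iv F71244) D18757 (iv D18148)
def n18758 : Q := act 4 n18146
theorem D18758 : act 4 n18146 = n18758 := rfl
theorem F73485 : act 0 n18758 = n18158 := d3_1 D18758 (iv D18158) (iv F71241)
theorem F73486 : act 2 n18758 = n18147 := d16_1 D18758 (iv D18147) D18146
theorem F73487 : act 6 n18758 = n18259 := d27_2 (iv F71243) D18758 (iv D18259)
theorem F73488 : act 7 n18758 = n18149 := d28_2 (iv F71244) D18758 (iv D18149)
def n18759 : Q := act 5 n18147
theorem D18759 : act 5 n18147 = n18759 := rfl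
theorem F73489 : act 0 n18759 = n18159 := d4_1 D18759 (iv D18159) (iv F71245)
theorem F73490 : act 7 n18759 = n18150 := d31_2 (iv F71247) D18759 (iv D18150)
def n18760 : Q := act 4 n18148
theorem D18760 : act 4 n18148 = n18760 := rfl
theorem F73491 : act 0 n18760 = n18269 := d3_1 D18760 (iv D18269) (iv F71248)
theorem F73492 : act 1 n18760 = n18149 := d10_1 D18760 (iv D18149) D18148
theorem F73493 : act 2 n18760 = n18291 := d16_1 D18760 (iv D18291) (iv F71249)
theorem F73494 : act 3 n18760 = n18160 := d21_1 D18760 (iv D18160) F69159 (iv F69343) (iv F71250)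
theorem F73495 : act 6 n18760 = n18261 := d27_2 (iv F71252) D18760 (iv D18261)
theorem F73496 : act 8 n18760 = n18193 := d29_2 (iv F71253) D18760 (iv D18193)
def n18761 : Q := act 5 n18149
theorem D18761 : act 5 n18149 = n18761 := rfl
theorem F73497 : act 0 n18761 = n18162 := d4_1 D18761 (iv D18162) (iv F71254)
theorem F73498 : act 2 n18761 = n18150 := d17_1 D18761 (iv D18150) (iv F71255)
theorem F73499 : act 8 n18761 = n18194 := d32_2 (iv F71257) D18761 (iv D18194)
def n18762 : Q := act 6 n18150
theorem D18762 : act 6 n18150 = n18762 := rfl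
theorem F73500 : act 0 n18762 = n18163 := d5_1 D18762 (iv D18163) (iv F71258)
theorem F73501 : act 3 n18762 = n18151 := d23_1 D18762 (iv D18151) (iv F71259)
theorem F73502 : act 5 n18762 = n18263 := d30_1 D18762 (iv D18263) (iv D17664) (iv F69129) D18150
theorem F73503 : act 8 n18762 = n18195 := d34_2 (iv F71260) D18762 (iv D18195)
def n18763 : Q := act 2 n18152
theorem D18763 : act 2 n18152 = n18763 := rfl
theorem F73504 : act 0 n18763 = n18458 := d1_1 D18763 F72357 F71268
theorem F73505 : act 3 n18763 = n18763 := d15_2 D18152 D18763 (iv D18763) (iv D18152) F69134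
theorem F73506 : act 5 n18763 = n18755 := d17_2 (iv F71265) D18763 (iv D18755)
theorem F73507 : act 6 n18763 = n18547 := d18_2 (iv F71266) D18763 (iv D18547)
theorem F73508 : act 7 n18763 = n18464 := d19_2 F71362 D18763 F72380
theorem F73509 : act 8 n18763 = n18545 := d20_2 (iv F71267) D18763 (iv D18545)
def n18764 : Q := act 4 n18152
theorem D18764 : act 4 n18152 = n18764 := rfl
theorem F73510 : act 1 n18764 = n18165 := d10_1 D18764 (iv D18165) (iv F71264)
theorem F73511 : act 3 n18764 = n18155 := d21_1 D18764 (iv D18155) (iv D17547) (iv F69135) D18152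
theorem F73512 : act 6 n18764 = n18548 := d27_2 (iv F71266) D18764 (iv D18548)
theorem F73513 : act 8 n18764 = n18546 := d29_2 (iv F71267) D18764 (iv D18546)
def n18765 : Q := act 4 n18153
theorem D18765 : act 4 n18153 = n18765 := rfl
theorem F73514 : act 0 n18765 = n18764 := d3_1 D18765 (iv D18764) (iv F71268)
theorem F73515 : act 1 n18765 = n18167 := d10_1 D18765 (iv D18167) (iv F71269)
theorem F73516 : act 3 n18765 = n18546 := d21_1 D18765 (iv D18546) (iv D17929) (iv F69142) D18153
theorem F73517 : act 6 n18765 = n18544 := d27_2 (iv F71271) D18765 (iv D18544)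
theorem F73518 : act 7 n18765 = n18199 := d28_2 (iv F71272) D18765 (iv D18199)
theorem F73519 : act 8 n18765 = n18155 := d29_2 (iv F71273) D18765 (iv D18155)
def n18766 : Q := act 4 n18154
theorem D18766 : act 4 n18154 = n18766 := rfl
theorem F73520 : act 2 n18766 = n18155 := d16_1 D18766 (iv D18155) D18154
theorem F73521 : act 7 n18766 = n18160 := d28_2 (iv F71276) D18766 (iv D18160)
def n18767 : Q := act 5 n18155
theorem D18767 : act 5 n18155 = n18767 := rfl
theorem F73522 : act 1 n18767 = n18168 := d11_1 D18767 (iv D18168) (iv F71277)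
theorem F73523 : act 4 n18767 = n18159 := d26_1 D18767 (iv D18159) (iv D17550) (iv F69147) D18155
theorem F73524 : act 7 n18767 = n18161 := d31_2 (iv F71278) D18767 (iv D18161)
def n18768 : Q := act 4 n18156
theorem D18768 : act 4 n18156 = n18768 := rfl
theorem F73525 : act 2 n18768 = n18157 := d16_1 D18768 (iv D18157) D18156
theorem F73526 : act 6 n18768 = n18326 := d27_2 (iv F71280) D18768 (iv D18326)
theorem F73527 : act 7 n18768 = n18202 := d28_2 (iv F71281) D18768 (iv D18202)
theorem F73528 : act 8 n18768 = n18158 := d29_2 (iv F71282) D18768 (iv D18158)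
def n18769 : Q := act 5 n18157
theorem D18769 : act 5 n18157 = n18769 := rfl
theorem F73529 : act 1 n18769 = n18169 := d11_1 D18769 (iv D18169) (iv F71283)
theorem F73530 : act 7 n18769 = n18203 := d31_2 (iv F71285) D18769 (iv D18203)
theorem F73531 : act 8 n18769 = n18159 := d32_2 (iv F71286) D18769 (iv D18159)
def n18770 : Q := act 3 n18158
theorem D18770 : act 3 n18158 = n18770 := rfl
theorem F73532 : act 4 n18770 = n18770 := d21_2 D18158 D18770 (iv D18770) (iv D18158) F69153
theorem F73533 : act 6 n18770 = n18328 := d23_2 (iv F71288) D18770 (iv D18328)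
def n18771 : Q := act 5 n18158
theorem D18771 : act 5 n18158 = n18771 := rfl
theorem F73534 : act 2 n18771 = n18159 := d17_1 D18771 (iv D18159) (iv F71287)
theorem F73535 : act 7 n18771 = n18162 := d31_2 (iv F71289) D18771 (iv D18162)
def n18772 : Q := act 6 n18159
theorem D18772 : act 6 n18159 = n18772 := rfl
theorem F73536 : act 1 n18772 = n18170 := d12_1 D18772 (iv D18170) (iv F71290)
theorem F73537 : act 5 n18772 = n18330 := d30_1 D18772 (iv D18330) (iv D17723) (iv F69157) D18159
theorem F73538 : act 7 n18772 = n18163 := d33_2 (iv F71291) D18772 (iv D18163)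
def n18773 : Q := act 5 n18160
theorem D18773 : act 5 n18160 = n18773 := rfl
theorem F73539 : act 2 n18773 = n18161 := d17_1 D18773 (iv D18161) (iv F71292)
theorem F73540 : act 4 n18773 = n18162 := d26_1 D18773 (iv D18162) (iv D17553) (iv F69160) D18160
theorem F73541 : act 8 n18773 = n18209 := d32_2 (iv F71293) D18773 (iv D18209)
def n18774 : Q := act 6 n18161
theorem D18774 : act 6 n18161 = n18774 := rfl
theorem F73542 : act 1 n18774 = n18172 := d12_1 D18774 (iv D18172) (iv F71294)
theorem F73543 : act 4 n18774 = n18163 := d27_1 D18774 (iv D18163) (iv F71295)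
theorem F73544 : act 8 n18774 = n18210 := d34_2 (iv F71296) D18774 (iv D18210)
def n18775 : Q := act 6 n18162
theorem D18775 : act 6 n18162 = n18775 := rfl
theorem F73545 : act 2 n18775 = n18163 := d18_1 D18775 (iv D18163) (iv F71297)
theorem F73546 : act 5 n18775 = n18333 := d30_1 D18775 (iv D18333) (iv D17726) (iv F69165) D18162
theorem F73547 : act 8 n18775 = n18212 := d34_2 (iv F71298) D18775 (iv D18212)
def n18776 : Q := act 4 n18164
theorem D18776 : act 4 n18164 = n18776 := rfl
theorem F73548 : act 2 n18776 = n18165 := d16_1 D18776 (iv D18165) D18164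
theorem F73549 : act 6 n18776 = n18568 := d27_2 (iv F71304) D18776 (iv D18568)
theorem F73550 : act 8 n18776 = n18430 := d29_2 (iv F71305) D18776 F72234
def n18777 : Q := act 5 n18165
theorem D18777 : act 5 n18165 = n18777 := rfl
theorem F73551 : act 3 n18777 = n18168 := d22_1 D18777 (iv D18168) (iv F71306)
theorem F73552 : act 8 n18777 = n18566 := d32_2 (iv F71308) D18777 (iv D18566)
def n18778 : Q := act 5 n18166
theorem D18778 : act 5 n18166 = n18778 := rfl
theorem F73553 : act 3 n18778 = n18569 := d22_1 D18778 (iv D18569) (iv F71309)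
theorem F73554 : act 7 n18778 = n18171 := d31_2 (iv F71311) D18778 (iv D18171)
theorem F73555 : act 8 n18778 = n18565 := d32_2 (iv F71312) D18778 (iv D18565)
def n18779 : Q := act 5 n18167
theorem D18779 : act 5 n18167 = n18779 := rfl
theorem F73556 : act 3 n18779 = n18566 := d22_1 D18779 (iv D18566) (iv F71313)
theorem F73557 : act 4 n18779 = n18169 := d26_1 D18779 (iv D18169) (iv D17560) (iv F69178) D18167
theorem F73558 : act 7 n18779 = n18216 := d31_2 (iv F71315) D18779 (iv D18216)
theorem F73559 : act 8 n18779 = n18168 := d32_2 (iv F71316) D18779 (iv D18168)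
def n18780 : Q := act 6 n18168
theorem D18780 : act 6 n18168 = n18780 := rfl
theorem F73560 : act 4 n18780 = n18170 := d27_1 D18780 (iv D18170) (iv F71317)
theorem F73561 : act 7 n18780 = n18172 := d33_2 (iv F71318) D18780 (iv D18172)
def n18781 : Q := act 6 n18169
theorem D18781 : act 6 n18169 = n18781 := rfl
theorem F73562 : act 7 n18781 = n18220 := d33_2 (iv F71319) D18781 (iv D18220)
theorem F73563 : act 8 n18781 = n18170 := d34_2 (iv F71320) D18781 (iv D18170)
def n18782 : Q := act 6 n18171
theorem D18782 : act 6 n18171 = n18782 := rfl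
theorem F73564 : act 5 n18782 = n18172 := d30_1 D18782 (iv D18172) (iv D17563) (iv F69186) D18171
theorem F73565 : act 8 n18782 = n18224 := d34_2 (iv F71322) D18782 (iv D18224)
def n18783 : Q := act 4 n18173
theorem D18783 : act 4 n18173 = n18783 := rfl
theorem F73566 : act 2 n18783 = n18174 := d16_1 D18783 (iv D18174) D18173
theorem F73567 : act 6 n18783 = n18339 := d27_2 (iv F71326) D18783 (iv D18339)
theorem F73568 : act 8 n18783 = n18336 := d29_2 (iv F71327) D18783 (iv D18336)
def n18784 : Q := act 5 n18174
theorem D18784 : act 5 n18174 = n18784 := rfl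
theorem F73569 : act 1 n18784 = n18335 := d11_1 D18784 (iv D18335) (iv F71328)
theorem F73570 : act 3 n18784 = n18177 := d22_1 D18784 (iv D18177) (iv F71329)
theorem F73571 : act 8 n18784 = n18337 := d32_2 (iv F71331) D18784 (iv D18337)
def n18785 : Q := act 5 n18175
theorem D18785 : act 5 n18175 = n18785 := rfl
theorem F73572 : act 1 n18785 = n18337 := d11_1 D18785 (iv D18337) (iv F71332)
theorem F73573 : act 3 n18785 = n18340 := d22_1 D18785 (iv D18340) (iv F71333)
theorem F73574 : act 4 n18785 = n18215 := d26_1 D18785 (iv D18215) (iv D17604) (iv F69196) D18175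
theorem F73575 : act 7 n18785 = n18180 := d31_2 (iv F71335) D18785 (iv D18180)
theorem F73576 : act 8 n18785 = n18335 := d32_2 (iv F71336) D18785 (iv D18335)
def n18786 : Q := act 5 n18176
theorem D18786 : act 5 n18176 = n18786 := rfl
theorem F73577 : act 1 n18786 = n18340 := d11_1 D18786 (iv D18340) (iv F71337)
theorem F73578 : act 3 n18786 = n18337 := d22_1 D18786 (iv D18337) (iv F71338)
theorem F73579 : act 4 n18786 = n18178 := d26_1 D18786 (iv D18178) (iv D17569) (iv F69201) D18176
theorem F73580 : act 8 n18786 = n18177 := d32_2 (iv F71340) D18786 (iv D18177)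
def n18787 : Q := act 6 n18177
theorem D18787 : act 6 n18177 = n18787 := rfl
theorem F73581 : act 1 n18787 = n18344 := d12_1 D18787 (iv D18344) (iv F71341)
theorem F73582 : act 4 n18787 = n18179 := d27_1 D18787 (iv D18179) (iv F71342)
theorem F73583 : act 7 n18787 = n18181 := d33_2 (iv F71343) D18787 (iv D18181)
def n18788 : Q := act 6 n18178
theorem D18788 : act 6 n18178 = n18788 := rfl
theorem F73584 : act 1 n18788 = n18349 := d12_1 D18788 (iv D18349) (iv F71344)
theorem F73585 : act 5 n18788 = n18220 := d30_1 D18788 (iv D18220) (iv D17609) (iv F69207) D18178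
theorem F73586 : act 8 n18788 = n18179 := d34_2 (iv F71345) D18788 (iv D18179)
def n18789 : Q := act 6 n18180
theorem D18789 : act 6 n18180 = n18789 := rfl
theorem F73587 : act 1 n18789 = n18356 := d12_1 D18789 (iv D18356) (iv F71349)
theorem F73588 : act 4 n18789 = n18224 := d27_1 D18789 (iv D18224) (iv F71350)
theorem F73589 : act 5 n18789 = n18181 := d30_1 D18789 (iv D18181) (iv D17572) (iv F69212) D18180
def n18790 : Q := act 2 n18182
theorem D18790 : act 2 n18182 = n18790 := rfl
theorem F73590 : act 0 n18790 = n18196 := d1_1 D18790 (iv D18196) (iv F71353)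
theorem F73591 : act 3 n18790 = n18228 := d15_2 D18182 D18790 (iv D18228) (iv D17625) (iv F69220)
theorem F73592 : act 5 n18790 = n18479 := d17_2 (iv F71355) D18790 (iv D18479)
theorem F73593 : act 6 n18790 = n18464 := d18_2 F71361 D18790 F72380
theorem F73594 : act 7 n18790 = n18547 := d19_2 (iv F71356) D18790 (iv D18547)
theorem F73595 : act 8 n18790 = n18437 := d20_2 (iv F71357) D18790 F72260
theorem F73596 : act 1 n18573 = n18790 := d14_3 F73595 F72259 (iv F72817)
def n18791 : Q := act 4 n18182
theorem D18791 : act 4 n18182 = n18791 := rfl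
theorem F73597 : act 0 n18791 = n18197 := d3_1 D18791 (iv D18197) (iv F71353)
theorem F73598 : act 1 n18791 = n18490 := d10_1 D18791 (iv D18490) (iv F71354)
theorem F73599 : act 3 n18791 = n18185 := d21_1 D18791 (iv D18185) (iv D17576) (iv F69221) D18182
theorem F73600 : act 7 n18791 = n18548 := d28_2 (iv F71356) D18791 (iv D18548)
theorem F73601 : act 8 n18791 = n18478 := d29_2 (iv F71357) D18791 (iv D18478)
def n18792 : Q := act 4 n18183
theorem D18792 : act 4 n18183 = n18792 := rfl
theorem F73602 : act 0 n18792 = n18199 := d3_1 D18792 (iv D18199) (iv F71358)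
theorem F73603 : act 1 n18792 = n18487 := d10_1 D18792 (iv D18487) (iv F71359)
theorem F73604 : act 3 n18792 = n18478 := d21_1 D18792 (iv D18478) (iv D17868) (iv F69227) D18183
theorem F73605 : act 6 n18792 = n18791 := d27_2 (iv F71361) D18792 (iv D18791)
theorem F73606 : act 7 n18792 = n18764 := d28_2 (iv F71362) D18792 (iv D18764)
theorem F73607 : act 8 n18792 = n18185 := d29_2 (iv F71363) D18792 (iv D18185)
def n18793 : Q := act 4 n18184
theorem D18793 : act 4 n18184 = n18793 := rfl
theorem F73608 : act 0 n18793 = n18200 := d3_1 D18793 (iv D18200) (iv F71364)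
theorem F73609 : act 2 n18793 = n18185 := d16_1 D18793 (iv D18185) D18184
theorem F73610 : act 3 n18793 = n18752 := d21_1 D18793 (iv D18752) F71225 (iv F69381) (iv F71365)
theorem F73611 : act 7 n18793 = n18191 := d28_2 (iv F71367) D18793 (iv D18191)
def n18794 : Q := act 5 n18185
theorem D18794 : act 5 n18185 = n18794 := rfl
theorem F73612 : act 0 n18794 = n18201 := d4_1 D18794 (iv D18201) (iv F71368)
theorem F73613 : act 4 n18794 = n18190 := d26_1 D18794 (iv D18190) (iv D17579) (iv F69232) D18185
theorem F73614 : act 7 n18794 = n18192 := d31_2 (iv F71369) D18794 (iv D18192)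
def n18795 : Q := act 1 n18186
theorem D18795 : act 1 n18186 = n18795 := rfl
theorem F73615 : act 3 n18795 = n18229 := d9_2 (iv F71371) D18795 (iv D18229)
theorem F73616 : act 6 n18795 = n18281 := d12_2 (iv F71372) D18795 (iv D18281)
theorem F73617 : act 8 n18795 = n18188 := d14_2 (iv F71373) D18795 (iv D18188)
def n18796 : Q := act 4 n18186
theorem D18796 : act 4 n18186 = n18796 := rfl
theorem F73618 : act 0 n18796 = n18202 := d3_1 D18796 (iv D18202) (iv F71370)
theorem F73619 : act 2 n18796 = n18187 := d16_1 D18796 (iv D18187) D18186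
theorem F73620 : act 3 n18796 = n18739 := d21_1 D18796 (iv D18739) F71203 F69441 (iv F71371)
theorem F73621 : act 6 n18796 = n18282 := d27_2 (iv F71372) D18796 (iv D18282)
theorem F73622 : act 8 n18796 = n18189 := d29_2 (iv F71373) D18796 (iv D18189)
def n18797 : Q := act 5 n18187
theorem D18797 : act 5 n18187 = n18797 := rfl
theorem F73623 : act 0 n18797 = n18203 := d4_1 D18797 (iv D18203) (iv F71374)
theorem F73624 : act 3 n18797 = n18657 := d22_1 D18797 (iv D18657) (iv F71375)
theorem F73625 : act 8 n18797 = n18190 := d32_2 (iv F71377) D18797 (iv D18190)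
def n18798 : Q := act 4 n18188
theorem D18798 : act 4 n18188 = n18798 := rfl
theorem F73626 : act 1 n18798 = n18189 := d10_1 D18798 (iv D18189) D18188
theorem F73627 : act 3 n18798 = n18742 := d21_1 D18798 (iv D18742) F71207 F69445 (iv F71378)
theorem F73628 : act 6 n18798 = n18285 := d27_2 (iv F71379) D18798 (iv D18285)
theorem F73629 : act 7 n18798 = n18193 := d28_2 (iv F71380) D18798 (iv D18193)
def n18799 : Q := act 5 n18189
theorem D18799 : act 5 n18189 = n18799 := rfl
theorem F73630 : act 0 n18799 = n18206 := d4_1 D18799 (iv D18206) (iv F71381)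
theorem F73631 : act 2 n18799 = n18190 := d17_1 D18799 (iv D18190) (iv F71382)
theorem F73632 : act 3 n18799 = n18743 := d22_1 D18799 (iv D18743) (iv F71383)
theorem F73633 : act 7 n18799 = n18194 := d31_2 (iv F71385) D18799 (iv D18194)
def n18800 : Q := act 6 n18190
theorem D18800 : act 6 n18190 = n18800 := rfl
theorem F73634 : act 0 n18800 = n18207 := d5_1 D18800 (iv D18207) (iv F71386)
theorem F73635 : act 3 n18800 = n18658 := d23_1 D18800 (iv D18658) (iv F71387)
theorem F73636 : act 5 n18800 = n18288 := d30_1 D18800 (iv D18288) (iv D17683) (iv F69243) D18190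
theorem F73637 : act 7 n18800 = n18195 := d33_2 (iv F71388) D18800 (iv D18195)
def n18801 : Q := act 5 n18191
theorem D18801 : act 5 n18191 = n18801 := rfl
theorem F73638 : act 0 n18801 = n18209 := d4_1 D18801 (iv D18209) (iv F71389)
theorem F73639 : act 2 n18801 = n18192 := d17_1 D18801 (iv D18192) (iv F71390)
theorem F73640 : act 4 n18801 = n18194 := d26_1 D18801 (iv D18194) (iv D17583) (iv F69247) D18191
def n18802 : Q := act 6 n18192
theorem D18802 : act 6 n18192 = n18802 := rfl
theorem F73641 : act 0 n18802 = n18210 := d5_1 D18802 (iv D18210) (iv F71391)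
theorem F73642 : act 4 n18802 = n18195 := d27_1 D18802 (iv D18195) (iv F71392)
def n18803 : Q := act 5 n18193
theorem D18803 : act 5 n18193 = n18803 := rfl
theorem F73643 : act 1 n18803 = n18194 := d11_1 D18803 (iv D18194) (iv F71393)
theorem F73644 : act 3 n18803 = n18209 := d22_1 D18803 (iv D18209) (iv F71394)
def n18804 : Q := act 6 n18194
theorem D18804 : act 6 n18194 = n18804 := rfl
theorem F73645 : act 0 n18804 = n18212 := d5_1 D18804 (iv D18212) (iv F71396)
theorem F73646 : act 2 n18804 = n18195 := d18_1 D18804 (iv D18195) (iv F71397)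
theorem F73647 : act 5 n18804 = n18293 := d30_1 D18804 (iv D18293) (iv D17688) (iv F69253) D18194
def n18805 : Q := act 4 n18196
theorem D18805 : act 4 n18196 = n18805 := rfl
theorem F73648 : act 1 n18805 = n18435 := d10_1 D18805 (iv D18435) (iv F71401)
theorem F73649 : act 2 n18805 = n18197 := d16_1 D18805 (iv D18197) D18196
theorem F73650 : act 3 n18805 = n18729 := d21_1 D18805 (iv D18729) F71173 (iv F69392) (iv F71402)
theorem F73651 : act 6 n18805 = n18465 := d27_2 (iv F71404) D18805 (iv D18465)
theorem F73652 : act 8 n18805 = n18438 := d29_2 (iv F71405) D18805 (iv D18438)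
def n18806 : Q := act 5 n18197
theorem D18806 : act 5 n18197 = n18806 := rfl
theorem F73653 : act 1 n18806 = n18214 := d11_1 D18806 (iv D18214) (iv F71406)
theorem F73654 : act 3 n18806 = n18201 := d22_1 D18806 (iv D18201) (iv F71407)
theorem F73655 : act 4 n18806 = n18784 := d26_1 D18806 (iv D18784) (iv D18174) (iv F69260) D18197
def n18807 : Q := act 5 n18198
theorem D18807 : act 5 n18198 = n18807 := rfl
theorem F73656 : act 1 n18807 = n18215 := d11_1 D18807 (iv D18215) (iv F71408)
theorem F73657 : act 4 n18807 = n18337 := d26_1 D18807 (iv D18337) (iv D17731) (iv F69262) D18198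
theorem F73658 : act 7 n18807 = n18208 := d31_2 (iv F71410) D18807 (iv D18208)
theorem F73659 : act 8 n18807 = n18806 := d32_2 (iv F71411) D18807 (iv D18806)
def n18808 : Q := act 5 n18199
theorem D18808 : act 5 n18199 = n18808 := rfl
theorem F73660 : act 1 n18808 = n18216 := d11_1 D18808 (iv D18216) (iv F71412)
theorem F73661 : act 3 n18808 = n18807 := d22_1 D18808 (iv D18807) (iv F71413)
theorem F73662 : act 4 n18808 = n18203 := d26_1 D18808 (iv D18203) (iv D17592) (iv F69267) D18199
theorem F73663 : act 8 n18808 = n18201 := d32_2 (iv F71415) D18808 (iv D18201)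
def n18809 : Q := act 5 n18200
theorem D18809 : act 5 n18200 = n18809 := rfl
theorem F73664 : act 1 n18809 = n18698 := d11_1 D18809 (iv D18698) (iv F71416)
theorem F73665 : act 2 n18809 = n18201 := d17_1 D18809 (iv D18201) (iv F71417)
theorem F73666 : act 3 n18809 = n18753 := d22_1 D18809 (iv D18753) (iv F71418)
theorem F73667 : act 4 n18809 = n18206 := d26_1 D18809 (iv D18206) (iv D17594) (iv F69272) D18200
theorem F73668 : act 7 n18809 = n18209 := d31_2 (iv F71419) D18809 (iv D18209)
def n18810 : Q := act 6 n18201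
theorem D18810 : act 6 n18201 = n18810 := rfl
theorem F73669 : act 1 n18810 = n18218 := d12_1 D18810 (iv D18218) (iv F71420)
theorem F73670 : act 4 n18810 = n18207 := d27_1 D18810 (iv D18207) (iv F71421)
theorem F73671 : act 7 n18810 = n18210 := d33_2 (iv F71422) D18810 (iv D18210)
def n18811 : Q := act 3 n18202
theorem D18811 : act 3 n18202 = n18811 := rfl
theorem F73672 : act 0 n18811 = n18739 := d2_1 D18811 (iv F73620) F73618
theorem F73673 : act 2 n18811 = n18619 := d15_1 D18811 F72981 F70833 (iv F69280) (iv F71423)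
theorem F73674 : act 4 n18811 = n18230 := d21_2 D18202 D18811 (iv D18230) (iv D17631) (iv F69276)
theorem F73675 : act 6 n18811 = n18347 := d23_2 (iv F71424) D18811 (iv D18347)
theorem F73676 : act 8 n18811 = n18205 := d25_2 (iv F71425) D18811 (iv D18205)
def n18812 : Q := act 5 n18202
theorem D18812 : act 5 n18202 = n18812 := rfl
theorem F73677 : act 2 n18812 = n18203 := d17_1 D18812 (iv D18203) (iv F71423)
theorem F73678 : act 8 n18812 = n18206 := d32_2 (iv F71425) D18812 (iv D18206)
def n18813 : Q := act 6 n18203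
theorem D18813 : act 6 n18203 = n18813 := rfl
theorem F73679 : act 1 n18813 = n18220 := d12_1 D18813 (iv D18220) (iv F71426)
theorem F73680 : act 3 n18813 = n18788 := d23_1 D18813 (iv D18788) (iv F71427)
theorem F73681 : act 5 n18813 = n18349 := d30_1 D18813 (iv D18349) (iv D17739) (iv F69281) D18203
theorem F73682 : act 8 n18813 = n18207 := d34_2 (iv F71428) D18813 (iv D18207)
def n18814 : Q := act 3 n18204
theorem D18814 : act 3 n18204 = n18814 := rfl
theorem F73683 : act 1 n18814 = n18205 := d9_1 D18814 (iv D18205) (iv F71429)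
theorem F73684 : act 4 n18814 = n18231 := d21_2 D18204 D18814 (iv D18231) (iv D17632) (iv F69284)
theorem F73685 : act 6 n18814 = n18351 := d23_2 (iv F71431) D18814 (iv D18351)
theorem F73686 : act 7 n18814 = n18625 := d24_2 (iv F71432) D18814 F73000 F72648 F70458
def n18815 : Q := act 5 n18204
theorem D18815 : act 5 n18204 = n18815 := rfl
theorem F73687 : act 1 n18815 = n18206 := d11_1 D18815 (iv D18206) (iv F71429)
theorem F73688 : act 2 n18815 = n18221 := d17_1 D18815 (iv D18221) (iv F71430)
theorem F73689 : act 4 n18815 = n18698 := d26_1 D18815 (iv D18698) (iv D18088) (iv F69285) D18204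
theorem F73690 : act 7 n18815 = n18211 := d31_2 (iv F71432) D18815 (iv D18211)
def n18816 : Q := act 5 n18205
theorem D18816 : act 5 n18205 = n18816 := rfl
theorem F73691 : act 0 n18816 = n18743 := d4_1 D18816 (iv D18743) (iv F71433)
theorem F73692 : act 2 n18816 = n18620 := d17_1 D18816 (iv D18620) (iv F71434)
theorem F73693 : act 3 n18816 = n18206 := d22_1 D18816 (iv D18206) D18205
theorem F73694 : act 7 n18816 = n18626 := d31_2 (iv F71437) D18816 (iv D18626)
def n18817 : Q := act 6 n18206
theorem D18817 : act 6 n18206 = n18817 := rfl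
theorem F73695 : act 2 n18817 = n18207 := d18_1 D18817 (iv D18207) (iv F71438)
theorem F73696 : act 5 n18817 = n18354 := d30_1 D18817 (iv D18354) (iv D17743) (iv F69289) D18206
theorem F73697 : act 7 n18817 = n18212 := d33_2 (iv F71439) D18817 (iv D18212)
def n18818 : Q := act 6 n18208
theorem D18818 : act 6 n18208 = n18818 := rfl
theorem F73698 : act 1 n18818 = n18224 := d12_1 D18818 (iv D18224) (iv F71444)
theorem F73699 : act 4 n18818 = n18356 := d27_1 D18818 (iv D18356) (iv F71445)
theorem F73700 : act 5 n18818 = n18210 := d30_1 D18818 (iv D18210) (iv D17598) (iv F69295) D18208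
def n18819 : Q := act 6 n18209
theorem D18819 : act 6 n18209 = n18819 := rfl
theorem F73701 : act 2 n18819 = n18210 := d18_1 D18819 (iv D18210) (iv F71446)
theorem F73702 : act 4 n18819 = n18212 := d27_1 D18819 (iv D18212) (iv F71447)
def n18820 : Q := act 6 n18211
theorem D18820 : act 6 n18211 = n18820 := rfl
theorem F73703 : act 1 n18820 = n18212 := d12_1 D18820 (iv D18212) (iv F71450)
theorem F73704 : act 2 n18820 = n18226 := d18_1 D18820 (iv D18226) (iv F71451)
theorem F73705 : act 5 n18820 = n18362 := d30_1 D18820 (iv D18362) (iv D17752) (iv F69301) D18211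
def n18821 : Q := act 5 n18213
theorem D18821 : act 5 n18213 = n18821 := rfl
theorem F73706 : act 0 n18821 = n18710 := d4_1 D18821 (iv D18710) (iv F71454)
theorem F73707 : act 1 n18821 = n18436 := d11_1 D18821 (iv D18436) (iv F71455)
theorem F73708 : act 2 n18821 = n18214 := d17_1 D18821 (iv D18214) (iv F71456)
theorem F73709 : act 3 n18821 = n18449 := d22_1 D18821 (iv D18449) (iv F71457)
theorem F73710 : act 8 n18821 = n18426 := d32_2 (iv F71459) D18821 (iv D18426)
def n18822 : Q := act 6 n18214
theorem D18822 : act 6 n18214 = n18822 := rfl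
theorem F73711 : act 3 n18822 = n18218 := d23_1 D18822 (iv D18218) (iv F71460)
def n18823 : Q := act 6 n18215
theorem D18823 : act 6 n18215 = n18823 := rfl
theorem F73712 : act 5 n18823 = n18218 := d30_1 D18823 (iv D18218) (iv D17607) (iv F69312) D18215
theorem F73713 : act 7 n18823 = n18224 := d33_2 (iv F71461) D18823 (iv D18224)
theorem F73714 : act 8 n18823 = n18822 := d34_2 (iv F71462) D18823 (iv D18822)
def n18824 : Q := act 6 n18216
theorem D18824 : act 6 n18216 = n18824 := rfl
theorem F73715 : act 3 n18824 = n18823 := d23_1 D18824 (iv D18823) (iv F71463)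
theorem F73716 : act 4 n18824 = n18220 := d27_1 D18824 (iv D18220) (iv F71464)
theorem F73717 : act 5 n18824 = n18822 := d30_1 D18824 (iv D18822) (iv D18214) (iv F69316) D18216
theorem F73718 : act 8 n18824 = n18218 := d34_2 (iv F71465) D18824 (iv D18218)
def n18825 : Q := act 6 n18217
theorem D18825 : act 6 n18217 = n18825 := rfl
theorem F73719 : act 1 n18825 = n18699 := d12_1 D18825 (iv D18699) (iv F71466)
theorem F73720 : act 2 n18825 = n18218 := d18_1 D18825 (iv D18218) (iv F71467)
theorem F73721 : act 3 n18825 = n18697 := d23_1 D18825 (iv D18697) (iv F71468)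
theorem F73722 : act 4 n18825 = n18223 := d27_1 D18825 (iv D18223) (iv F71469)
theorem F73723 : act 7 n18825 = n18225 := d33_2 (iv F71470) D18825 (iv D18225)
def n18826 : Q := act 6 n18219
theorem D18826 : act 6 n18219 = n18826 := rfl
theorem F73724 : act 2 n18826 = n18220 := d18_1 D18826 (iv D18220) (iv F71473)
theorem F73725 : act 8 n18826 = n18223 := d34_2 (iv F71474) D18826 (iv D18223)
def n18827 : Q := act 6 n18221
theorem D18827 : act 6 n18221 = n18827 := rfl
theorem F73726 : act 1 n18827 = n18223 := d12_1 D18827 (iv D18223) (iv F71476)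
theorem F73727 : act 4 n18827 = n18699 := d27_1 D18827 (iv D18699) (iv F71477)
theorem F73728 : act 7 n18827 = n18226 := d33_2 (iv F71478) D18827 (iv D18226)
def n18828 : Q := act 6 n18222
theorem D18828 : act 6 n18222 = n18828 := rfl
theorem F73729 : act 3 n18828 = n18223 := d23_1 D18828 (iv D18223) (iv F71479)
theorem F73730 : act 4 n18828 = n18717 := d27_1 D18828 (iv D18717) (iv F71480)
def n18829 : Q := act 1 n18234
theorem D18829 : act 1 n18234 = n18829 := rfl
theorem F73731 : act 2 n18829 = n18829 := d8_2 D18234 D18829 (iv D18829) (iv D18234) F69431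
theorem F73732 : act 5 n18829 = n18236 := d11_2 (iv F71524) D18829 (iv D18236)
theorem F73733 : act 6 n18829 = n18250 := d12_2 (iv F71525) D18829 (iv D18250)
theorem F73734 : act 7 n18829 = n18829 := d13_2 F71526 D18829 (iv D18829)
theorem F73735 : act 8 n18829 = n18235 := d14_2 (iv F71527) D18829 (iv D18235)
def n18830 : Q := act 0 n18236
theorem D18830 : act 0 n18236 = n18830 := rfl
theorem F73736 : act 1 n18830 = n18383 := d0_2 D18236 D18830 F71991 F70205 (iv F69440)
theorem F73737 : act 2 n18830 = n18830 := d1_2 F71532 D18830 (iv D18830)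
theorem F73738 : act 4 n18830 = n18382 := d3_2 (iv F71533) D18830 F71985
theorem F73739 : act 7 n18830 = n18830 := d6_2 F71534 D18830 (iv D18830)
theorem F73740 : act 8 n18830 = n18237 := d7_2 (iv F71535) D18830 (iv D18237)
def n18831 : Q := act 1 n18238
theorem D18831 : act 1 n18238 = n18831 := rfl
theorem F73741 : act 2 n18831 = n18246 := d8_2 D18238 D18831 (iv D18246) (iv D17651) (iv F69465)
theorem F73742 : act 3 n18831 = n18831 := d9_2 F71540 D18831 (iv D18831)
theorem F73743 : act 8 n18831 = n18613 := d14_2 (iv F71541) D18831 (iv D18613)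
def n18832 : Q := act 4 n18238
theorem D18832 : act 4 n18238 = n18832 := rfl
theorem F73744 : act 2 n18832 = n18239 := d16_1 D18832 (iv D18239) D18238
theorem F73745 : act 8 n18832 = n18614 := d29_2 (iv F71541) D18832 (iv D18614)
def n18833 : Q := act 5 n18239
theorem D18833 : act 5 n18239 = n18833 := rfl
theorem F73746 : act 1 n18833 = n18248 := d11_1 D18833 (iv D18248) (iv F71542)
theorem F73747 : act 3 n18833 = n18241 := d22_1 D18833 (iv D18241) (iv F71543)
theorem F73748 : act 8 n18833 = n18615 := d32_2 (iv F71544) D18833 (iv D18615)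
def n18834 : Q := act 3 n18240
theorem D18834 : act 3 n18240 = n18834 := rfl
theorem F73749 : act 4 n18834 = n18834 := d21_2 D18240 D18834 (iv D18834) (iv D18240) F69467
theorem F73750 : act 8 n18834 = n18616 := d25_2 (iv F71547) D18834 (iv D18616)
def n18835 : Q := act 5 n18240
theorem D18835 : act 5 n18240 = n18835 := rfl
theorem F73751 : act 2 n18835 = n18241 := d17_1 D18835 (iv D18241) (iv F71545)
theorem F73752 : act 7 n18835 = n18254 := d31_2 (iv F71546) D18835 (iv D18254)
theorem F73753 : act 8 n18835 = n18617 := d32_2 (iv F71547) D18835 (iv D18617)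
def n18836 : Q := act 6 n18241
theorem D18836 : act 6 n18241 = n18836 := rfl
theorem F73754 : act 1 n18836 = n18249 := d12_1 D18836 (iv D18249) (iv F71548)
theorem F73755 : act 7 n18836 = n18255 := d33_2 (iv F71549) D18836 (iv D18255)
theorem F73756 : act 8 n18836 = n18618 := d34_2 (iv F71550) D18836 (iv D18618)
def n18837 : Q := act 1 n18242
theorem D18837 : act 1 n18242 = n18837 := rfl
theorem F73757 : act 3 n18837 = n18837 := d9_2 F71552 D18837 (iv D18837)
theorem F73758 : act 5 n18837 = n18831 := d11_2 (iv F71553) D18837 (iv D18831)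
theorem F73759 : act 7 n18837 = n18246 := d13_2 (iv F71554) D18837 (iv D18246)
def n18838 : Q := act 4 n18242
theorem D18838 : act 4 n18242 = n18838 := rfl
theorem F73760 : act 0 n18838 = n18307 := d3_1 D18838 (iv D18307) (iv F71551)
theorem F73761 : act 2 n18838 = n18243 := d16_1 D18838 (iv D18243) D18242
theorem F73762 : act 7 n18838 = n18247 := d28_2 (iv F71554) D18838 (iv D18247)
def n18839 : Q := act 5 n18243
theorem D18839 : act 5 n18243 = n18839 := rfl
theorem F73763 : act 0 n18839 = n18308 := d4_1 D18839 (iv D18308) (iv F71555)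
theorem F73764 : act 3 n18839 = n18260 := d22_1 D18839 (iv D18260) (iv F71556)
theorem F73765 : act 4 n18839 = n18833 := d26_1 D18839 (iv D18833) (iv D18239) (iv F69474) D18243
theorem F73766 : act 7 n18839 = n18248 := d31_2 (iv F71557) D18839 (iv D18248)
def n18840 : Q := act 1 n18244
theorem D18840 : act 1 n18244 = n18840 := rfl
theorem F73767 : act 2 n18840 = n18837 := d8_2 D18244 D18840 (iv D18837) (iv D18242) (iv F69477)
theorem F73768 : act 3 n18840 = n18250 := d9_2 (iv F71559) D18840 (iv D18250)
theorem F73769 : act 5 n18840 = n18246 := d11_2 (iv F71560) D18840 (iv D18246)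
theorem F73770 : act 7 n18840 = n18831 := d13_2 (iv F71561) D18840 (iv D18831)
theorem F73771 : act 8 n18840 = n18621 := d14_2 (iv F71562) D18840 (iv D18621)
def n18841 : Q := act 4 n18244
theorem D18841 : act 4 n18244 = n18841 := rfl
theorem F73772 : act 0 n18841 = n18312 := d3_1 D18841 (iv D18312) (iv F71558)
theorem F73773 : act 2 n18841 = n18245 := d16_1 D18841 (iv D18245) D18244
theorem F73774 : act 7 n18841 = n18832 := d28_2 (iv F71561) D18841 (iv D18832)
theorem F73775 : act 8 n18841 = n18622 := d29_2 (iv F71562) D18841 (iv D18622)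
def n18842 : Q := act 5 n18245
theorem D18842 : act 5 n18245 = n18842 := rfl
theorem F73776 : act 0 n18842 = n18313 := d4_1 D18842 (iv D18313) (iv F71563)
theorem F73777 : act 1 n18842 = n18839 := d11_1 D18842 (iv D18839) (iv F71564)
theorem F73778 : act 3 n18842 = n18523 := d22_1 D18842 (iv D18523) (iv F71565)
theorem F73779 : act 4 n18842 = n18248 := d26_1 D18842 (iv D18248) (iv D17652) (iv F69478) D18245
theorem F73780 : act 7 n18842 = n18833 := d31_2 (iv F71566) D18842 (iv D18833)
theorem F73781 : act 8 n18842 = n18623 := d32_2 (iv F71567) D18842 (iv D18623)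
def n18843 : Q := act 0 n18246
theorem D18843 : act 0 n18246 = n18843 := rfl
theorem F73782 : act 1 n18843 = n18314 := d0_2 D18246 D18843 (iv D18314) (iv D17708) (iv F69481)
theorem F73783 : act 3 n18843 = n18252 := d2_2 (iv F71568) D18843 (iv D18252)
theorem F73784 : act 8 n18843 = n18624 := d7_2 (iv F71569) D18843 (iv D18624)
def n18844 : Q := act 4 n18246
theorem D18844 : act 4 n18246 = n18844 := rfl
theorem F73785 : act 1 n18844 = n18247 := d10_1 D18844 (iv D18247) D18246
theorem F73786 : act 8 n18844 = n18625 := d29_2 (iv F71569) D18844 (iv D18625)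
def n18845 : Q := act 5 n18247
theorem D18845 : act 5 n18247 = n18845 := rfl
theorem F73787 : act 0 n18845 = n18316 := d4_1 D18845 (iv D18316) (iv F71570)
theorem F73788 : act 2 n18845 = n18248 := d17_1 D18845 (iv D18248) (iv F71571)
theorem F73789 : act 8 n18845 = n18626 := d32_2 (iv F71572) D18845 (iv D18626)
def n18846 : Q := act 6 n18248
theorem D18846 : act 6 n18248 = n18846 := rfl
theorem F73790 : act 0 n18846 = n18317 := d5_1 D18846 (iv D18317) (iv F71573)
theorem F73791 : act 3 n18846 = n18249 := d23_1 D18846 (iv D18249) (iv F71574)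
theorem F73792 : act 8 n18846 = n18627 := d34_2 (iv F71575) D18846 (iv D18627)
def n18847 : Q := act 0 n18250
theorem D18847 : act 0 n18250 = n18847 := rfl
theorem F73793 : act 1 n18847 = n18318 := d0_2 D18250 D18847 (iv D18318) (iv D17713) (iv F69490)
theorem F73794 : act 2 n18847 = n18847 := d1_2 F71579 D18847 (iv D18847)
theorem F73795 : act 5 n18847 = n18252 := d4_2 (iv F71580) D18847 (iv D18252)
theorem F73796 : act 7 n18847 = n18847 := d6_2 F71581 D18847 (iv D18847)
theorem F73797 : act 8 n18847 = n18628 := d7_2 (iv F71582) D18847 (iv D18628)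
theorem F73798 : act 4 n18829 = n18847 := d29_3 F73797 (iv F73011) (iv F73735)
def n18848 : Q := act 4 n18250
theorem D18848 : act 4 n18250 = n18848 := rfl
theorem F73799 : act 0 n18848 = n18829 := d3_1 D18848 F73798 (iv D18847)
theorem F73800 : act 1 n18848 = n18251 := d10_1 D18848 (iv D18251) D18250
theorem F73801 : act 2 n18848 = n18848 := d16_1 D18848 (iv D18848) F71579
theorem F73802 : act 5 n18848 = n18830 := d26_2 (iv F71580) D18848 F73738 F71987 F69852
theorem F73803 : act 6 n18848 = n18847 := d27_2 F73733 D18848 (iv F73798)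
theorem F73804 : act 7 n18848 = n18848 := d28_2 F71581 D18848 (iv D18848)
theorem F73805 : act 8 n18848 = n18629 := d29_2 (iv F71582) D18848 (iv D18629)
def n18849 : Q := act 3 n18251
theorem D18849 : act 3 n18251 = n18849 := rfl
theorem F73806 : act 0 n18849 = n18319 := d2_1 D18849 (iv D18319) (iv F71583)
theorem F73807 : act 2 n18849 = n18588 := d15_1 D18849 (iv D18588) F70599 (iv F69496) (iv F71584)
theorem F73808 : act 8 n18849 = n18630 := d25_2 (iv F71586) D18849 (iv D18630)
def n18850 : Q := act 5 n18253
theorem D18850 : act 5 n18253 = n18850 := rfl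
theorem F73809 : act 3 n18850 = n18254 := d22_1 D18850 (iv D18254) D18253
theorem F73810 : act 8 n18850 = n18273 := d32_2 (iv F71592) D18850 (iv D18273)
def n18851 : Q := act 7 n18253
theorem D18851 : act 7 n18253 = n18851 := rfl
theorem F73811 : act 4 n18851 = n18299 := d28_1 D18851 (iv D18299) (iv F71591)
def n18852 : Q := act 6 n18254
theorem D18852 : act 6 n18254 = n18852 := rfl
theorem F73812 : act 2 n18852 = n18255 := d18_1 D18852 (iv D18255) (iv F71593)
theorem F73813 : act 8 n18852 = n18275 := d34_2 (iv F71594) D18852 (iv D18275)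
def n18853 : Q := act 1 n18256
theorem D18853 : act 1 n18256 = n18853 := rfl
theorem F73814 : act 3 n18853 = n18853 := d9_2 F71598 D18853 (iv D18853)
theorem F73815 : act 7 n18853 = n18281 := d13_2 (iv F71599) D18853 (iv D18281)
theorem F73816 : act 8 n18853 = n18258 := d14_2 (iv F71600) D18853 (iv D18258)
def n18854 : Q := act 4 n18256
theorem D18854 : act 4 n18256 = n18854 := rfl
theorem F73817 : act 0 n18854 = n18326 := d3_1 D18854 (iv D18326) (iv F71597)
theorem F73818 : act 2 n18854 = n18257 := d16_1 D18854 (iv D18257) D18256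
theorem F73819 : act 7 n18854 = n18282 := d28_2 (iv F71599) D18854 (iv D18282)
theorem F73820 : act 8 n18854 = n18259 := d29_2 (iv F71600) D18854 (iv D18259)
def n18855 : Q := act 5 n18257
theorem D18855 : act 5 n18257 = n18855 := rfl
theorem F73821 : act 0 n18855 = n18327 := d4_1 D18855 (iv D18327) (iv F71601)
theorem F73822 : act 7 n18855 = n18283 := d31_2 (iv F71602) D18855 (iv D18283)
theorem F73823 : act 8 n18855 = n18260 := d32_2 (iv F71603) D18855 (iv D18260)
def n18856 : Q := act 4 n18258
theorem D18856 : act 4 n18258 = n18856 := rfl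
theorem F73824 : act 1 n18856 = n18259 := d10_1 D18856 (iv D18259) D18258
theorem F73825 : act 7 n18856 = n18261 := d28_2 (iv F71605) D18856 (iv D18261)
def n18857 : Q := act 3 n18259
theorem D18857 : act 3 n18259 = n18857 := rfl
theorem F73826 : act 0 n18857 = n18328 := d2_1 D18857 (iv D18328) (iv F71606)
theorem F73827 : act 4 n18857 = n18857 := d21_2 D18259 D18857 (iv D18857) (iv D18259) F69510
def n18858 : Q := act 5 n18259
theorem D18858 : act 5 n18259 = n18858 := rfl
theorem F73828 : act 0 n18858 = n18329 := d4_1 D18858 (iv D18329) (iv F71606)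
theorem F73829 : act 2 n18858 = n18260 := d17_1 D18858 (iv D18260) (iv F71607)
theorem F73830 : act 7 n18858 = n18262 := d31_2 (iv F71608) D18858 (iv D18262)
def n18859 : Q := act 6 n18260
theorem D18859 : act 6 n18260 = n18859 := rfl
theorem F73831 : act 0 n18859 = n18330 := d5_1 D18859 (iv D18330) (iv F71609)
theorem F73832 : act 7 n18859 = n18263 := d33_2 (iv F71610) D18859 (iv D18263)
def n18860 : Q := act 5 n18261
theorem D18860 : act 5 n18261 = n18860 := rfl
theorem F73833 : act 1 n18860 = n18262 := d11_1 D18860 (iv D18262) (iv F71611)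
theorem F73834 : act 8 n18860 = n18292 := d32_2 (iv F71612) D18860 (iv D18292)
def n18861 : Q := act 6 n18262
theorem D18861 : act 6 n18262 = n18861 := rfl
theorem F73835 : act 0 n18861 = n18333 := d5_1 D18861 (iv D18333) (iv F71613)
theorem F73836 : act 2 n18861 = n18263 := d18_1 D18861 (iv D18263) (iv F71614)
theorem F73837 : act 8 n18861 = n18293 := d34_2 (iv F71615) D18861 (iv D18293)
def n18862 : Q := act 1 n18264
theorem D18862 : act 1 n18264 = n18862 := rfl
theorem F73838 : act 2 n18862 = n18281 := d8_2 D18264 D18862 (iv D18281) (iv D17679) (iv F69524)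
theorem F73839 : act 3 n18862 = n18862 := d9_2 F71619 D18862 (iv D18862)
theorem F73840 : act 8 n18862 = n18266 := d14_2 (iv F71620) D18862 (iv D18266)
def n18863 : Q := act 4 n18264
theorem D18863 : act 4 n18264 = n18863 := rfl
theorem F73841 : act 2 n18863 = n18265 := d16_1 D18863 (iv D18265) D18264
theorem F73842 : act 8 n18863 = n18267 := d29_2 (iv F71620) D18863 (iv D18267)
def n18864 : Q := act 5 n18265
theorem D18864 : act 5 n18265 = n18864 := rfl
theorem F73843 : act 1 n18864 = n18283 := d11_1 D18864 (iv D18283) (iv F71621)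
theorem F73844 : act 3 n18864 = n18674 := d22_1 D18864 (iv D18674) (iv F71622)
theorem F73845 : act 8 n18864 = n18268 := d32_2 (iv F71623) D18864 (iv D18268)
def n18865 : Q := act 4 n18266
theorem D18865 : act 4 n18266 = n18865 := rfl
theorem F73846 : act 1 n18865 = n18267 := d10_1 D18865 (iv D18267) D18266
theorem F73847 : act 2 n18865 = n18285 := d16_1 D18865 (iv D18285) (iv F71624)
theorem F73848 : act 7 n18865 = n18269 := d28_2 (iv F71626) D18865 (iv D18269)
def n18866 : Q := act 3 n18267
theorem D18866 : act 3 n18267 = n18866 := rfl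
theorem F73849 : act 2 n18866 = n18675 := d15_1 D18866 (iv D18675) F70963 (iv F69529) (iv F71627)
theorem F73850 : act 4 n18866 = n18866 := d21_2 D18267 D18866 (iv D18866) (iv D18267) F69526
def n18867 : Q := act 5 n18267
theorem D18867 : act 5 n18267 = n18867 := rfl
theorem F73851 : act 2 n18867 = n18268 := d17_1 D18867 (iv D18268) (iv F71627)
theorem F73852 : act 7 n18867 = n18271 := d31_2 (iv F71628) D18867 (iv D18271)
def n18868 : Q := act 6 n18268
theorem D18868 : act 6 n18268 = n18868 := rfl
theorem F73853 : act 1 n18868 = n18288 := d12_1 D18868 (iv D18288) (iv F71629)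
theorem F73854 : act 3 n18868 = n18677 := d23_1 D18868 (iv D18677) (iv F71630)
theorem F73855 : act 7 n18868 = n18272 := d33_2 (iv F71631) D18868 (iv D18272)
def n18869 : Q := act 5 n18269
theorem D18869 : act 5 n18269 = n18869 := rfl
theorem F73856 : act 1 n18869 = n18271 := d11_1 D18869 (iv D18271) (iv F71632)
theorem F73857 : act 2 n18869 = n18292 := d17_1 D18869 (iv D18292) (iv F71633)
def n18870 : Q := act 5 n18270
theorem D18870 : act 5 n18270 = n18870 := rfl
theorem F73858 : act 2 n18870 = n18273 := d17_1 D18870 (iv D18273) (iv F71634)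
theorem F73859 : act 3 n18870 = n18271 := d22_1 D18870 (iv D18271) D18270
def n18871 : Q := act 7 n18270
theorem D18871 : act 7 n18270 = n18871 := rfl
theorem F73860 : act 2 n18871 = n18274 := d19_1 D18871 (iv D18274) (iv F71634)
theorem F73861 : act 4 n18871 = n18300 := d28_1 D18871 (iv D18300) (iv F71635)
def n18872 : Q := act 6 n18271
theorem D18872 : act 6 n18271 = n18872 := rfl
theorem F73862 : act 2 n18872 = n18272 := d18_1 D18872 (iv D18272) (iv F71636)
def n18873 : Q := act 4 n18273
theorem D18873 : act 4 n18273 = n18873 := rfl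
theorem F73863 : act 0 n18873 = n18292 := d3_1 D18873 (iv F73109) F73106
theorem F73864 : act 1 n18873 = n18361 := d10_1 D18873 (iv F72230) F72227
theorem F73865 : act 5 n18873 = n18291 := d26_2 D18273 D18873 (iv D18291) F69574 (iv F69536)
def n18874 : Q := act 6 n18273
theorem D18874 : act 6 n18273 = n18874 := rfl
theorem F73866 : act 3 n18874 = n18275 := d23_1 D18874 (iv D18275) (iv F71639)
def n18875 : Q := act 7 n18273
theorem D18875 : act 7 n18273 = n18875 := rfl
theorem F73867 : act 3 n18875 = n18682 := d24_1 D18875 (iv D18682) F70977 (iv F69538) (iv F71639)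
theorem F73868 : act 5 n18875 = n18274 := d31_1 D18875 (iv D18274) D18273
def n18876 : Q := act 8 n18274
theorem D18876 : act 8 n18274 = n18876 := rfl
theorem F73869 : act 1 n18876 = n18776 := d14_1 D18876 F73550 F72232
theorem F73870 : act 3 n18876 = n18683 := d25_1 D18876 (iv D18683) (iv F71640)
theorem F73871 : act 4 n18876 = n18301 := d29_1 D18876 (iv D18301) (iv F71641)
def n18877 : Q := act 5 n18276
theorem D18877 : act 5 n18276 = n18877 := rfl
theorem F73872 : act 0 n18877 = n18335 := d4_1 D18877 (iv D18335) (iv F71644)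
theorem F73873 : act 2 n18877 = n18565 := d17_1 D18877 (iv D18565) (iv F71645)
theorem F73874 : act 3 n18877 = n18280 := d22_1 D18877 (iv D18280) (iv F71646)
theorem F73875 : act 4 n18877 = n18684 := d26_1 D18877 (iv D18684) (iv D18069) (iv F69543) D18276
theorem F73876 : act 7 n18877 = n18821 := d31_2 (iv F71647) D18877 (iv D18821)
def n18878 : Q := act 4 n18277
theorem D18878 : act 4 n18277 = n18878 := rfl
theorem F73877 : act 0 n18878 = n18339 := d3_1 D18878 (iv D18339) (iv F71648)
theorem F73878 : act 2 n18878 = n18278 := d16_1 D18878 (iv D18278) D18277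
theorem F73879 : act 3 n18878 = n18568 := d21_1 D18878 (iv D18568) F70550 (iv F69581) (iv F71649)
theorem F73880 : act 8 n18878 = n18279 := d29_2 (iv F71651) D18878 (iv D18279)
def n18879 : Q := act 5 n18278
theorem D18879 : act 5 n18278 = n18879 := rfl
theorem F73881 : act 0 n18879 = n18340 := d4_1 D18879 (iv D18340) (iv F71652)
theorem F73882 : act 4 n18879 = n18283 := d26_1 D18879 (iv D18283) (iv D17680) (iv F69546) D18278
theorem F73883 : act 8 n18879 = n18280 := d32_2 (iv F71653) D18879 (iv D18280)
def n18880 : Q := act 5 n18279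
theorem D18880 : act 5 n18279 = n18880 := rfl
theorem F73884 : act 0 n18880 = n18343 := d4_1 D18880 (iv D18343) (iv F71654)
theorem F73885 : act 2 n18880 = n18280 := d17_1 D18880 (iv D18280) (iv F71655)
theorem F73886 : act 3 n18880 = n18571 := d22_1 D18880 (iv D18571) (iv F71656)
theorem F73887 : act 4 n18880 = n18287 := d26_1 D18880 (iv D18287) (iv D17682) (iv F69550) D18279
theorem F73888 : act 7 n18880 = n18289 := d31_2 (iv F71657) D18880 (iv D18289)
def n18881 : Q := act 6 n18280
theorem D18881 : act 6 n18280 = n18881 := rfl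
theorem F73889 : act 0 n18881 = n18344 := d5_1 D18881 (iv D18344) (iv F71658)
theorem F73890 : act 4 n18881 = n18288 := d27_1 D18881 (iv D18288) (iv F71659)
theorem F73891 : act 7 n18881 = n18290 := d33_2 (iv F71660) D18881 (iv D18290)
def n18882 : Q := act 0 n18281
theorem D18882 : act 0 n18281 = n18882 := rfl
theorem F73892 : act 1 n18882 = n18345 := d0_2 D18281 D18882 (iv D18345) (iv D17737) (iv F69554)
theorem F73893 : act 3 n18882 = n18294 := d2_2 (iv F71661) D18882 (iv D18294)
theorem F73894 : act 5 n18882 = n18301 := d4_2 F73269 D18882 (iv F73266)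
theorem F73895 : act 8 n18882 = n18284 := d7_2 (iv F71662) D18882 (iv D18284)
def n18883 : Q := act 4 n18281
theorem D18883 : act 4 n18281 = n18883 := rfl
theorem F73896 : act 1 n18883 = n18282 := d10_1 D18883 (iv D18282) D18281
theorem F73897 : act 8 n18883 = n18285 := d29_2 (iv F71662) D18883 (iv D18285)
def n18884 : Q := act 3 n18282
theorem D18884 : act 3 n18282 = n18884 := rfl
theorem F73898 : act 0 n18884 = n18347 := d2_1 D18884 (iv D18347) (iv F71663)
theorem F73899 : act 2 n18884 = n18689 := d15_1 D18884 (iv D18689) F71000 (iv F69558) (iv F71664)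
theorem F73900 : act 4 n18884 = n18296 := d21_2 D18282 D18884 (iv D18296) (iv D17692) (iv F69555)
theorem F73901 : act 6 n18884 = n18739 := d23_2 F73621 D18884 (iv F73620)
theorem F73902 : act 8 n18884 = n18286 := d25_2 (iv F71665) D18884 (iv D18286)
def n18885 : Q := act 5 n18282
theorem D18885 : act 5 n18282 = n18885 := rfl
theorem F73903 : act 0 n18885 = n18348 := d4_1 D18885 (iv D18348) (iv F71663)
theorem F73904 : act 2 n18885 = n18283 := d17_1 D18885 (iv D18283) (iv F71664)
theorem F73905 : act 8 n18885 = n18287 := d32_2 (iv F71665) D18885 (iv D18287)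
def n18886 : Q := act 6 n18283
theorem D18886 : act 6 n18283 = n18886 := rfl
theorem F73906 : act 0 n18886 = n18349 := d5_1 D18886 (iv D18349) (iv F71666)
theorem F73907 : act 3 n18886 = n18691 := d23_1 D18886 (iv D18691) (iv F71667)
theorem F73908 : act 8 n18886 = n18288 := d34_2 (iv F71668) D18886 (iv D18288)
def n18887 : Q := act 4 n18284
theorem D18887 : act 4 n18284 = n18887 := rfl
theorem F73909 : act 0 n18887 = n18285 := d3_1 D18887 (iv D18285) D18284
theorem F73910 : act 1 n18887 = n18350 := d10_1 D18887 (iv D18350) (iv F71669)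
theorem F73911 : act 7 n18887 = n18291 := d28_2 (iv F71672) D18887 (iv D18291)
def n18888 : Q := act 3 n18285
theorem D18888 : act 3 n18285 = n18888 := rfl
theorem F73912 : act 1 n18888 = n18286 := d9_1 D18888 (iv D18286) (iv F71673)
theorem F73913 : act 4 n18888 = n18298 := d21_2 D18285 D18888 (iv D18298) (iv D17694) (iv F69560)
theorem F73914 : act 6 n18888 = n18742 := d23_2 F73628 D18888 (iv F73627)
theorem F73915 : act 7 n18888 = n18715 := d24_2 (iv F71674) D18888 F73341 F72268 F70111
def n18889 : Q := act 5 n18285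
theorem D18889 : act 5 n18285 = n18889 := rfl
theorem F73916 : act 1 n18889 = n18287 := d11_1 D18889 (iv D18287) (iv F71673)
theorem F73917 : act 7 n18889 = n18292 := d31_2 (iv F71674) D18889 (iv D18292)
def n18890 : Q := act 5 n18286
theorem D18890 : act 5 n18286 = n18890 := rfl
theorem F73918 : act 0 n18890 = n18353 := d4_1 D18890 (iv D18353) (iv F71675)
theorem F73919 : act 2 n18890 = n18692 := d17_1 D18890 (iv D18692) (iv F71676)
theorem F73920 : act 3 n18890 = n18287 := d22_1 D18890 (iv D18287) D18286
theorem F73921 : act 4 n18890 = n18581 := d26_1 D18890 (iv D18581) F70573 (iv F69605) (iv F71677)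
theorem F73922 : act 7 n18890 = n18716 := d31_2 (iv F71679) D18890 (iv D18716)
def n18891 : Q := act 6 n18287
theorem D18891 : act 6 n18287 = n18891 := rfl
theorem F73923 : act 0 n18891 = n18354 := d5_1 D18891 (iv D18354) (iv F71680)
theorem F73924 : act 2 n18891 = n18288 := d18_1 D18891 (iv D18288) (iv F71681)
theorem F73925 : act 7 n18891 = n18293 := d33_2 (iv F71682) D18891 (iv D18293)
def n18892 : Q := act 6 n18289
theorem D18892 : act 6 n18289 = n18892 := rfl
theorem F73926 : act 0 n18892 = n18360 := d5_1 D18892 (iv D18360) (iv F71686)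
theorem F73927 : act 2 n18892 = n18290 := d18_1 D18892 (iv D18290) (iv F71687)
theorem F73928 : act 4 n18892 = n18293 := d27_1 D18892 (iv D18293) (iv F71688)
def n18893 : Q := act 6 n18292
theorem D18893 : act 6 n18292 = n18893 := rfl
theorem F73929 : act 1 n18893 = n18293 := d12_1 D18893 (iv D18293) (iv F71693)
def n18894 : Q := act 4 n18294
theorem D18894 : act 4 n18294 = n18894 := rfl
theorem F73930 : act 0 n18894 = n18295 := d3_1 D18894 (iv D18295) D18294
theorem F73931 : act 1 n18894 = n18364 := d10_1 D18894 (iv D18364) (iv F71696)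
theorem F73932 : act 2 n18894 = n18894 := d16_1 D18894 (iv D18894) F71697
theorem F73933 : act 5 n18894 = n18589 := d26_2 (iv F71698) D18894 (iv D18589) F70614 (iv F69620)
theorem F73934 : act 6 n18894 = n18830 := d27_2 F71988 D18894 F73738
theorem F73935 : act 7 n18894 = n18894 := d28_2 F71699 D18894 (iv D18894)
theorem F73936 : act 8 n18894 = n18297 := d29_2 (iv F71700) D18894 (iv D18297)
def n18895 : Q := act 3 n18295
theorem D18895 : act 3 n18295 = n18895 := rfl
theorem F73937 : act 1 n18895 = n18296 := d9_1 D18895 (iv D18296) (iv F71701)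
theorem F73938 : act 5 n18895 = n18590 := d22_2 (iv F71703) D18895 (iv D18590)
theorem F73939 : act 6 n18895 = n18738 := d23_2 (iv F71704) D18895 F73432
theorem F73940 : act 8 n18895 = n18298 := d25_2 (iv F71706) D18895 (iv D18298)
def n18896 : Q := act 3 n18297
theorem D18896 : act 3 n18297 = n18896 := rfl
theorem F73941 : act 0 n18896 = n18298 := d2_1 D18896 (iv D18298) (iv F71712)
theorem F73942 : act 1 n18896 = n18367 := d9_1 D18896 (iv D18367) (iv F71713)
theorem F73943 : act 5 n18896 = n18592 := d22_2 (iv F71715) D18896 (iv D18592)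
theorem F73944 : act 6 n18896 = n18741 := d23_2 (iv F71716) D18896 F73439
theorem F73945 : act 7 n18896 = n18714 := d24_2 (iv F71717) D18896 F73336 F71139 (iv F69611)
def n18897 : Q := act 8 n18299
theorem D18897 : act 8 n18299 = n18897 := rfl
theorem F73946 : act 1 n18897 = n18486 := d14_1 D18897 F72483 F72301
theorem F73947 : act 3 n18897 = n18897 := d25_1 D18897 (iv D18897) F71722
theorem F73948 : act 7 n18897 = n18301 := d35_1 D18897 (iv D18301) (iv D17699) (iv F69615) D18299
def n18898 : Q := act 8 n18300
theorem D18898 : act 8 n18300 = n18898 := rfl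
theorem F73949 : act 1 n18898 = n18763 := d14_1 D18898 F73509 F72729
theorem F73950 : act 2 n18898 = n18301 := d20_1 D18898 (iv D18301) (iv F71723)
theorem F73951 : act 3 n18898 = n18898 := d25_1 D18898 (iv D18898) F71724
def n18899 : Q := act 4 n18302
theorem D18899 : act 4 n18302 = n18899 := rfl
theorem F73952 : act 0 n18899 = n18832 := d3_1 D18899 (iv D18832) (iv F71727)
theorem F73953 : act 2 n18899 = n18303 := d16_1 D18899 (iv D18303) D18302
theorem F73954 : act 6 n18899 = n18614 := d27_2 (iv F71730) D18899 (iv D18614)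
theorem F73955 : act 7 n18899 = n18312 := d28_2 (iv F71731) D18899 (iv D18312)
def n18900 : Q := act 5 n18303
theorem D18900 : act 5 n18303 = n18900 := rfl
theorem F73956 : act 0 n18900 = n18833 := d4_1 D18900 (iv D18833) (iv F71732)
theorem F73957 : act 1 n18900 = n18605 := d11_1 D18900 (iv D18605) (iv F71733)
theorem F73958 : act 3 n18900 = n18604 := d22_1 D18900 (iv D18604) (iv F71734)
theorem F73959 : act 4 n18900 = n18308 := d26_1 D18900 (iv D18308) (iv D17704) (iv F69624) D18303
theorem F73960 : act 7 n18900 = n18313 := d31_2 (iv F71736) D18900 (iv D18313)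
def n18901 : Q := act 1 n18304
theorem D18901 : act 1 n18304 = n18901 := rfl
theorem F73961 : act 2 n18901 = n18895 := d8_2 D18304 D18901 F73937 F71708 F71032
theorem F73962 : act 3 n18901 = n18901 := d9_2 F71737 D18901 (iv D18901)
theorem F73963 : act 7 n18901 = n18738 := d13_2 (iv F71738) D18901 (iv D18738)
theorem F73964 : act 8 n18901 = n18306 := d14_2 (iv F71739) D18901 (iv D18306)
def n18902 : Q := act 4 n18304
theorem D18902 : act 4 n18304 = n18902 := rfl
theorem F73965 : act 2 n18902 = n18305 := d16_1 D18902 (iv D18305) D18304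
theorem F73966 : act 7 n18902 = n18739 := d28_2 (iv F71738) D18902 (iv D18739)
theorem F73967 : act 8 n18902 = n18307 := d29_2 (iv F71739) D18902 (iv D18307)
def n18903 : Q := act 5 n18305
theorem D18903 : act 5 n18305 = n18903 := rfl
theorem F73968 : act 3 n18903 = n18327 := d22_1 D18903 (iv D18327) (iv F71740)
theorem F73969 : act 7 n18903 = n18740 := d31_2 (iv F71741) D18903 (iv D18740)
theorem F73970 : act 8 n18903 = n18308 := d32_2 (iv F71742) D18903 (iv D18308)
def n18904 : Q := act 0 n18306
theorem D18904 : act 0 n18306 = n18904 := rfl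
theorem F73971 : act 2 n18904 = n18896 := d1_2 (iv F71743) D18904 F73941
theorem F73972 : act 3 n18904 = n18904 := d2_2 F71744 D18904 (iv D18904)
theorem F73973 : act 7 n18904 = n18314 := d6_2 (iv F71745) D18904 (iv D18314)
def n18905 : Q := act 4 n18306
theorem D18905 : act 4 n18306 = n18905 := rfl
theorem F73974 : act 1 n18905 = n18307 := d10_1 D18905 (iv D18307) D18306
theorem F73975 : act 2 n18905 = n18888 := d16_1 D18905 F73913 (iv F71743)
theorem F73976 : act 7 n18905 = n18315 := d28_2 (iv F71745) D18905 (iv D18315)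
def n18906 : Q := act 3 n18307
theorem D18906 : act 3 n18307 = n18906 := rfl
theorem F73977 : act 2 n18906 = n18328 := d15_1 D18906 (iv D18328) F69685 (iv F69631) (iv F71746)
theorem F73978 : act 4 n18906 = n18906 := d21_2 D18307 D18906 (iv D18906) (iv D18307) F69629
def n18907 : Q := act 5 n18307
theorem D18907 : act 5 n18307 = n18907 := rfl
theorem F73979 : act 2 n18907 = n18308 := d17_1 D18907 (iv D18308) (iv F71746)
theorem F73980 : act 7 n18907 = n18316 := d31_2 (iv F71747) D18907 (iv D18316)
def n18908 : Q := act 6 n18308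
theorem D18908 : act 6 n18308 = n18908 := rfl
theorem F73981 : act 3 n18908 = n18330 := d23_1 D18908 (iv D18330) (iv F71748)
theorem F73982 : act 7 n18908 = n18317 := d33_2 (iv F71749) D18908 (iv D18317)
def n18909 : Q := act 4 n18309
theorem D18909 : act 4 n18309 = n18909 := rfl
theorem F73983 : act 2 n18909 = n18310 := d16_1 D18909 (iv D18310) D18309
theorem F73984 : act 6 n18909 = n18312 := d27_2 (iv F71752) D18909 (iv D18312)
theorem F73985 : act 7 n18909 = n18614 := d28_2 (iv F71753) D18909 (iv D18614)
theorem F73986 : act 8 n18909 = n18745 := d29_2 (iv F71754) D18909 (iv D18745)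
def n18910 : Q := act 5 n18310
theorem D18910 : act 5 n18310 = n18910 := rfl
theorem F73987 : act 1 n18910 = n18620 := d11_1 D18910 (iv D18620) (iv F71755)
theorem F73988 : act 3 n18910 = n18636 := d22_1 D18910 (iv D18636) (iv F71756)
theorem F73989 : act 7 n18910 = n18615 := d31_2 (iv F71758) D18910 (iv D18615)
theorem F73990 : act 8 n18910 = n18746 := d32_2 (iv F71759) D18910 (iv D18746)
def n18911 : Q := act 0 n18311
theorem D18911 : act 0 n18311 = n18911 := rfl
theorem F73991 : act 2 n18911 = n18367 := d1_2 (iv F71760) D18911 F71915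
theorem F73992 : act 3 n18911 = n18318 := d2_2 (iv F71761) D18911 (iv D18318)
theorem F73993 : act 5 n18911 = n18314 := d4_2 (iv F71762) D18911 (iv D18314)
theorem F73994 : act 6 n18911 = n18849 := d5_2 F71786 D18911 F73806
theorem F73995 : act 8 n18911 = n18747 := d7_2 (iv F71763) D18911 (iv D18747)
def n18912 : Q := act 4 n18311
theorem D18912 : act 4 n18311 = n18912 := rfl
theorem F73996 : act 1 n18912 = n18312 := d10_1 D18912 (iv D18312) D18311
theorem F73997 : act 2 n18912 = n18351 := d16_1 D18912 F71874 (iv F71760)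
theorem F73998 : act 3 n18912 = n18909 := d21_1 D18912 (iv D18909) F71750 F69659 (iv F71761)
theorem F73999 : act 8 n18912 = n18748 := d29_2 (iv F71763) D18912 (iv D18748)
def n18913 : Q := act 3 n18312
theorem D18913 : act 3 n18312 = n18913 := rfl
theorem F74000 : act 1 n18913 = n18909 := d9_1 D18913 (iv F73998) F73996
theorem F74001 : act 2 n18913 = n18814 := d15_1 D18913 (iv D18814) F71430 (iv F69641) (iv F71764)
theorem F74002 : act 4 n18913 = n18319 := d21_2 D18312 D18913 (iv D18319) (iv D17714) (iv F69637)
theorem F74003 : act 6 n18913 = n18912 := d23_2 F73984 D18913 F73998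
theorem F74004 : act 8 n18913 = n18749 := d25_2 (iv F71765) D18913 (iv D18749)
def n18914 : Q := act 5 n18312
theorem D18914 : act 5 n18312 = n18914 := rfl
theorem F74005 : act 2 n18914 = n18313 := d17_1 D18914 (iv D18313) (iv F71764)
theorem F74006 : act 4 n18914 = n18316 := d26_1 D18914 (iv D18316) (iv D17709) (iv F69638) D18312
theorem F74007 : act 8 n18914 = n18750 := d32_2 (iv F71765) D18914 (iv D18750)
def n18915 : Q := act 6 n18313
theorem D18915 : act 6 n18313 = n18915 := rfl
theorem F74008 : act 1 n18915 = n18828 := d12_1 D18915 (iv D18828) (iv F71766)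
theorem F74009 : act 3 n18915 = n18827 := d23_1 D18915 (iv D18827) (iv F71767)
theorem F74010 : act 4 n18915 = n18317 := d27_1 D18915 (iv D18317) (iv F71768)
theorem F74011 : act 8 n18915 = n18751 := d34_2 (iv F71769) D18915 (iv D18751)
def n18916 : Q := act 4 n18314
theorem D18916 : act 4 n18314 = n18916 := rfl
theorem F74012 : act 0 n18916 = n18315 := d3_1 D18916 (iv D18315) D18314
theorem F74013 : act 8 n18916 = n18752 := d29_2 (iv F71771) D18916 (iv D18752)
def n18917 : Q := act 5 n18315
theorem D18917 : act 5 n18315 = n18917 := rfl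
theorem F74014 : act 1 n18917 = n18316 := d11_1 D18917 (iv D18316) (iv F71772)
theorem F74015 : act 8 n18917 = n18753 := d32_2 (iv F71773) D18917 (iv D18753)
def n18918 : Q := act 6 n18316
theorem D18918 : act 6 n18316 = n18918 := rfl
theorem F74016 : act 2 n18918 = n18317 := d18_1 D18918 (iv D18317) (iv F71774)
theorem F74017 : act 8 n18918 = n18754 := d34_2 (iv F71775) D18918 (iv D18754)
def n18919 : Q := act 4 n18320
theorem D18919 : act 4 n18320 = n18919 := rfl
theorem F74018 : act 0 n18919 = n18509 := d3_1 D18919 (iv D18509) (iv F71788)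
theorem F74019 : act 1 n18919 = n18700 := d10_1 D18919 (iv D18700) (iv F71789)
theorem F74020 : act 2 n18919 = n18321 := d16_1 D18919 (iv D18321) D18320
theorem F74021 : act 6 n18919 = n18645 := d27_2 (iv F71792) D18919 (iv D18645)
theorem F74022 : act 7 n18919 = n18413 := d28_2 (iv F71793) D18919 (iv D18413)
def n18920 : Q := act 5 n18321
theorem D18920 : act 5 n18321 = n18920 := rfl
theorem F74023 : act 0 n18920 = n18510 := d4_1 D18920 (iv D18510) (iv F71794)
theorem F74024 : act 1 n18920 = n18602 := d11_1 D18920 (iv D18602) (iv F71795)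
theorem F74025 : act 3 n18920 = n18325 := d22_1 D18920 (iv D18325) (iv F71796)
theorem F74026 : act 4 n18920 = n18604 := d26_1 D18920 (iv D18604) (iv D17991) (iv F69670) D18321
theorem F74027 : act 7 n18920 = n18414 := d31_2 (iv F71798) D18920 (iv D18414)
def n18921 : Q := act 4 n18322
theorem D18921 : act 4 n18322 = n18921 := rfl
theorem F74028 : act 2 n18921 = n18323 := d16_1 D18921 (iv D18323) D18322
theorem F74029 : act 7 n18921 = n18339 := d28_2 (iv F71801) D18921 (iv D18339)
theorem F74030 : act 8 n18921 = n18324 := d29_2 (iv F71802) D18921 (iv D18324)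
def n18922 : Q := act 5 n18323
theorem D18922 : act 5 n18323 = n18922 := rfl
theorem F74031 : act 4 n18922 = n18327 := d26_1 D18922 (iv D18327) (iv D17721) (iv F69673) D18323
theorem F74032 : act 7 n18922 = n18340 := d31_2 (iv F71803) D18922 (iv D18340)
theorem F74033 : act 8 n18922 = n18325 := d32_2 (iv F71804) D18922 (iv D18325)
def n18923 : Q := act 3 n18324
theorem D18923 : act 3 n18324 = n18923 := rfl
theorem F74034 : act 4 n18923 = n18923 := d21_2 D18324 D18923 (iv D18923) (iv D18324) F69676
def n18924 : Q := act 5 n18324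
theorem D18924 : act 5 n18324 = n18924 := rfl
theorem F74035 : act 2 n18924 = n18325 := d17_1 D18924 (iv D18325) (iv F71805)
theorem F74036 : act 4 n18924 = n18329 := d26_1 D18924 (iv D18329) (iv D17722) (iv F69677) D18324
theorem F74037 : act 7 n18924 = n18331 := d31_2 (iv F71806) D18924 (iv D18331)
def n18925 : Q := act 6 n18325
theorem D18925 : act 6 n18325 = n18925 := rfl
theorem F74038 : act 4 n18925 = n18330 := d27_1 D18925 (iv D18330) (iv F71807)
theorem F74039 : act 7 n18925 = n18332 := d33_2 (iv F71808) D18925 (iv D18332)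
def n18926 : Q := act 3 n18326
theorem D18926 : act 3 n18326 = n18926 := rfl
theorem F74040 : act 4 n18926 = n18926 := d21_2 D18326 D18926 (iv D18926) (iv D18326) F69680
theorem F74041 : act 8 n18926 = n18328 := d25_2 (iv F71811) D18926 (iv D18328)
def n18927 : Q := act 5 n18326
theorem D18927 : act 5 n18326 = n18927 := rfl
theorem F74042 : act 2 n18927 = n18327 := d17_1 D18927 (iv D18327) (iv F71809)
theorem F74043 : act 7 n18927 = n18348 := d31_2 (iv F71810) D18927 (iv D18348)
theorem F74044 : act 8 n18927 = n18329 := d32_2 (iv F71811) D18927 (iv D18329)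
def n18928 : Q := act 6 n18327
theorem D18928 : act 6 n18327 = n18928 := rfl
theorem F74045 : act 7 n18928 = n18349 := d33_2 (iv F71812) D18928 (iv D18349)
theorem F74046 : act 8 n18928 = n18330 := d34_2 (iv F71813) D18928 (iv D18330)
def n18929 : Q := act 5 n18328
theorem D18929 : act 5 n18328 = n18929 := rfl
theorem F74047 : act 3 n18929 = n18329 := d22_1 D18929 (iv D18329) D18328
def n18930 : Q := act 6 n18329
theorem D18930 : act 6 n18329 = n18930 := rfl
theorem F74048 : act 2 n18930 = n18330 := d18_1 D18930 (iv D18330) (iv F71815)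
theorem F74049 : act 7 n18930 = n18333 := d33_2 (iv F71816) D18930 (iv D18333)
def n18931 : Q := act 6 n18331
theorem D18931 : act 6 n18331 = n18931 := rfl
theorem F74050 : act 2 n18931 = n18332 := d18_1 D18931 (iv D18332) (iv F71818)
theorem F74051 : act 4 n18931 = n18333 := d27_1 D18931 (iv D18333) (iv F71819)
theorem F74052 : act 8 n18931 = n18360 := d34_2 (iv F71820) D18931 (iv D18360)
def n18932 : Q := act 5 n18334
theorem D18932 : act 5 n18334 = n18932 := rfl
theorem F74053 : act 0 n18932 = n18565 := d4_1 D18932 (iv D18565) (iv F71825)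
theorem F74054 : act 2 n18932 = n18335 := d17_1 D18932 (iv D18335) (iv F71826)
theorem F74055 : act 3 n18932 = n18434 := d22_1 D18932 (iv D18434) (iv F71827)
theorem F74056 : act 4 n18932 = n18821 := d26_1 D18932 (iv D18821) (iv D18213) (iv F69698) D18334
theorem F74057 : act 7 n18932 = n18684 := d31_2 (iv F71828) D18932 (iv D18684)
def n18933 : Q := act 6 n18335
theorem D18933 : act 6 n18335 = n18933 := rfl
theorem F74058 : act 3 n18933 = n18344 := d23_1 D18933 (iv D18344) (iv F71829)
theorem F74059 : act 4 n18933 = n18822 := d27_1 D18933 (iv D18822) (iv F71830)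
def n18934 : Q := act 5 n18336
theorem D18934 : act 5 n18336 = n18934 := rfl
theorem F74060 : act 2 n18934 = n18337 := d17_1 D18934 (iv D18337) (iv F71831)
theorem F74061 : act 7 n18934 = n18355 := d31_2 (iv F71833) D18934 (iv D18355)
def n18935 : Q := act 6 n18337
theorem D18935 : act 6 n18337 = n18935 := rfl
theorem F74062 : act 5 n18935 = n18344 := d30_1 D18935 (iv D18344) (iv D17736) (iv F69704) D18337
theorem F74063 : act 7 n18935 = n18356 := d33_2 (iv F71834) D18935 (iv D18356)
def n18936 : Q := act 4 n18338
theorem D18936 : act 4 n18338 = n18936 := rfl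
theorem F74064 : act 0 n18936 = n18776 := d3_1 D18936 (iv D18776) F71839
theorem F74065 : act 1 n18936 = n18339 := d10_1 D18936 (iv D18339) D18338
theorem F74066 : act 2 n18936 = n18639 := d16_1 D18936 (iv D18639) (iv F71835)
theorem F74067 : act 3 n18936 = n18783 := d21_1 D18936 (iv D18783) F71325 F69755 (iv F71836)
theorem F74068 : act 8 n18936 = n18341 := d29_2 (iv F71838) D18936 (iv D18341)
def n18937 : Q := act 3 n18339
theorem D18937 : act 3 n18339 = n18937 := rfl
theorem F74069 : act 0 n18937 = n18568 := d2_1 D18937 (iv F73879) F73877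
theorem F74070 : act 1 n18937 = n18783 := d9_1 D18937 (iv F74067) F74065
theorem F74071 : act 2 n18937 = n18433 := d15_1 D18937 F72246 F72209 F71333 (iv F71840)
theorem F74072 : act 4 n18937 = n18363 := d21_2 D18339 D18937 (iv D18363) (iv D17756) (iv F69706)
theorem F74073 : act 6 n18937 = n18936 := d23_2 F73567 D18937 F74067
theorem F74074 : act 8 n18937 = n18342 := d25_2 (iv F71841) D18937 (iv D18342)
def n18938 : Q := act 5 n18339
theorem D18938 : act 5 n18339 = n18938 := rfl
theorem F74075 : act 2 n18938 = n18340 := d17_1 D18938 (iv D18340) (iv F71840)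
theorem F74076 : act 4 n18938 = n18348 := d26_1 D18938 (iv D18348) (iv D17738) (iv F69707) D18339
theorem F74077 : act 8 n18938 = n18343 := d32_2 (iv F71841) D18938 (iv D18343)
def n18939 : Q := act 6 n18340
theorem D18939 : act 6 n18340 = n18939 := rfl
theorem F74078 : act 4 n18939 = n18349 := d27_1 D18939 (iv D18349) (iv F71842)
theorem F74079 : act 8 n18939 = n18344 := d34_2 (iv F71843) D18939 (iv D18344)
def n18940 : Q := act 5 n18341
theorem D18940 : act 5 n18341 = n18940 := rfl
theorem F74080 : act 1 n18940 = n18343 := d11_1 D18940 (iv D18343) (iv F71844)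
theorem F74081 : act 3 n18940 = n18934 := d22_1 D18940 (iv D18934) (iv F71845)
theorem F74082 : act 4 n18940 = n18352 := d26_1 D18940 (iv D18352) (iv D17741) (iv F69711) D18341
theorem F74083 : act 7 n18940 = n18357 := d31_2 (iv F71846) D18940 (iv D18357)
def n18941 : Q := act 5 n18342
theorem D18941 : act 5 n18342 = n18941 := rfl
theorem F74084 : act 0 n18941 = n18571 := d4_1 D18941 (iv D18571) (iv F71847)
theorem F74085 : act 1 n18941 = n18934 := d11_1 D18941 (iv D18934) (iv F71848)
theorem F74086 : act 2 n18941 = n18434 := d17_1 D18941 (iv D18434) (iv F71849)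
theorem F74087 : act 3 n18941 = n18343 := d22_1 D18941 (iv D18343) D18342
theorem F74088 : act 4 n18941 = n18439 := d26_1 D18941 (iv D18439) (iv D17827) (iv F69766) (iv F71850)
theorem F74089 : act 7 n18941 = n18442 := d31_2 F71852 D18941 (iv D18442)
def n18942 : Q := act 6 n18343
theorem D18942 : act 6 n18343 = n18942 := rfl
theorem F74090 : act 2 n18942 = n18344 := d18_1 D18942 (iv D18344) (iv F71853)
theorem F74091 : act 4 n18942 = n18354 := d27_1 D18942 (iv D18354) (iv F71854)
theorem F74092 : act 7 n18942 = n18360 := d33_2 (iv F71855) D18942 (iv D18360)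
def n18943 : Q := act 4 n18345
theorem D18943 : act 4 n18345 = n18943 := rfl
theorem F74093 : act 0 n18943 = n18346 := d3_1 D18943 (iv D18346) D18345
theorem F74094 : act 2 n18943 = n18732 := d16_1 D18943 (iv D18732) (iv F71858)
theorem F74095 : act 8 n18943 = n18350 := d29_2 (iv F71861) D18943 (iv D18350)
def n18944 : Q := act 3 n18346
theorem D18944 : act 3 n18346 = n18944 := rfl
theorem F74096 : act 1 n18944 = n18347 := d9_1 D18944 (iv D18347) (iv F71862)
theorem F74097 : act 2 n18944 = n18748 := d15_1 D18944 F73458 F73448 (iv F72368) F72367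
theorem F74098 : act 4 n18944 = n18365 := d21_2 D18346 D18944 (iv D18365) (iv D17759) (iv F69717)
theorem F74099 : act 8 n18944 = n18351 := d25_2 (iv F71863) D18944 (iv D18351)
def n18945 : Q := act 5 n18346
theorem D18945 : act 5 n18346 = n18945 := rfl
theorem F74100 : act 1 n18945 = n18348 := d11_1 D18945 (iv D18348) (iv F71862)
theorem F74101 : act 8 n18945 = n18352 := d32_2 (iv F71863) D18945 (iv D18352)
def n18946 : Q := act 5 n18347
theorem D18946 : act 5 n18347 = n18946 := rfl
theorem F74102 : act 2 n18946 = n18727 := d17_1 D18946 (iv D18727) (iv F71864)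
theorem F74103 : act 3 n18946 = n18348 := d22_1 D18946 (iv D18348) D18347
theorem F74104 : act 4 n18946 = n18730 := d26_1 D18946 (iv D18730) (iv D18122) (iv F69779) (iv F71865)
theorem F74105 : act 8 n18946 = n18353 := d32_2 (iv F71866) D18946 (iv D18353)
def n18947 : Q := act 7 n18347
theorem D18947 : act 7 n18347 = n18947 := rfl
theorem F74106 : act 2 n18947 = n18721 := d19_1 D18947 F73364 (iv F71864)
theorem F74107 : act 4 n18947 = n18366 := d28_1 D18947 (iv D18366) (iv F71865)
def n18948 : Q := act 6 n18348
theorem D18948 : act 6 n18348 = n18948 := rfl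
theorem F74108 : act 2 n18948 = n18349 := d18_1 D18948 (iv D18349) (iv F71867)
theorem F74109 : act 8 n18948 = n18354 := d34_2 (iv F71868) D18948 (iv D18354)
def n18949 : Q := act 3 n18350
theorem D18949 : act 3 n18350 = n18949 := rfl
theorem F74110 : act 0 n18949 = n18351 := d2_1 D18949 (iv D18351) (iv F71871)
theorem F74111 : act 4 n18949 = n18367 := d21_2 D18350 D18949 (iv D18367) (iv D17761) (iv F69723)
def n18950 : Q := act 5 n18350
theorem D18950 : act 5 n18350 = n18950 := rfl
theorem F74112 : act 0 n18950 = n18352 := d4_1 D18950 (iv D18352) (iv F71871)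
theorem F74113 : act 7 n18950 = n18361 := d31_2 (iv F71872) D18950 (iv D18361)
def n18951 : Q := act 5 n18351
theorem D18951 : act 5 n18351 = n18951 := rfl
theorem F74114 : act 1 n18951 = n18353 := d11_1 D18951 (iv D18353) (iv F71873)
theorem F74115 : act 3 n18951 = n18352 := d22_1 D18951 (iv D18352) D18351
def n18952 : Q := act 6 n18352
theorem D18952 : act 6 n18352 = n18952 := rfl
theorem F74116 : act 1 n18952 = n18354 := d12_1 D18952 (iv D18354) (iv F71875)
theorem F74117 : act 7 n18952 = n18362 := d33_2 (iv F71876) D18952 (iv D18362)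
def n18953 : Q := act 6 n18353
theorem D18953 : act 6 n18353 = n18953 := rfl
theorem F74118 : act 2 n18953 = n18828 := d18_1 D18953 (iv D18828) (iv F71877)
theorem F74119 : act 3 n18953 = n18354 := d23_1 D18953 (iv D18354) (iv F71878)
def n18954 : Q := act 6 n18355
theorem D18954 : act 6 n18355 = n18954 := rfl
theorem F74120 : act 2 n18954 = n18356 := d18_1 D18954 (iv D18356) (iv F71881)
theorem F74121 : act 5 n18954 = n18360 := d30_1 D18954 (iv D18360) (iv D17749) (iv F69734) D18355
def n18955 : Q := act 6 n18357
theorem D18955 : act 6 n18357 = n18955 := rfl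
theorem F74122 : act 1 n18955 = n18360 := d12_1 D18955 (iv D18360) (iv F71883)
theorem F74123 : act 4 n18955 = n18362 := d27_1 D18955 (iv D18362) (iv F71884)
def n18956 : Q := act 6 n18358
theorem D18956 : act 6 n18358 = n18956 := rfl
theorem F74124 : act 3 n18956 = n18360 := d23_1 D18956 (iv D18360) (iv F71885)
def n18957 : Q := act 7 n18358
theorem D18957 : act 7 n18358 = n18957 := rfl
theorem F74125 : act 0 n18957 = n18417 := d6_1 D18957 (iv F72891) F72887
theorem F74126 : act 1 n18957 = n18598 := d13_1 D18957 F72902 F72200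
theorem F74127 : act 2 n18957 = n18416 := d19_1 D18957 F72167 F72144
theorem F74128 : act 3 n18957 = n18442 := d24_1 D18957 (iv F74089) F74087 F71855 (iv F71885)
theorem F74129 : act 4 n18957 = n18596 := d28_1 D18957 F72891 F72172
theorem F74130 : act 5 n18957 = n18359 := d31_1 D18957 (iv D18359) D18358
theorem F74131 : act 8 n18707 = n18957 := d32_0 F74130 (iv F71892) D18707
def n18958 : Q := act 6 n18361
theorem D18958 : act 6 n18361 = n18958 := rfl
theorem F74132 : act 0 n18958 = n18362 := d5_1 D18958 (iv D18362) (iv F71895)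
def n18959 : Q := act 3 n18364
theorem D18959 : act 3 n18364 = n18959 := rfl
theorem F74133 : act 0 n18959 = n18365 := d2_1 D18959 (iv D18365) (iv F71903)
theorem F74134 : act 2 n18959 = n18747 := d15_1 D18959 F73454 F71229 (iv F69794) (iv F71904)
theorem F74135 : act 5 n18959 = n18728 := d22_2 (iv F71905) D18959 F73393
theorem F74136 : act 8 n18959 = n18367 := d25_2 (iv F71907) D18959 (iv D18367)
def n18960 : Q := act 7 n18365
theorem D18960 : act 7 n18365 = n18960 := rfl
theorem F74137 : act 1 n18960 = n18366 := d13_1 D18960 (iv D18366) (iv F71908)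
theorem F74138 : act 2 n18960 = n18735 := d19_1 D18960 F73426 (iv F71909)
theorem F74139 : act 3 n18960 = n18960 := d24_1 D18960 (iv D18960) (iv D18365) F69776 D18365
theorem F74140 : act 5 n18960 = n18724 := d31_1 D18960 F73381 (iv F71910)
def n18961 : Q := act 4 n18368
theorem D18961 : act 4 n18368 = n18961 := rfl
theorem F74141 : act 0 n18961 = n18372 := d3_1 D18961 (iv D18372) (iv F71916)
theorem F74142 : act 1 n18961 = n18645 := d10_1 D18961 (iv D18645) (iv F71917)
theorem F74143 : act 2 n18961 = n18369 := d16_1 D18961 (iv D18369) D18368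
theorem F74144 : act 6 n18961 = n18700 := d27_2 (iv F71920) D18961 (iv D18700)
theorem F74145 : act 7 n18961 = n18393 := d28_2 (iv F71921) D18961 (iv D18393)
theorem F74146 : act 8 n18961 = n18919 := d29_2 (iv F71922) D18961 (iv D18919)
def n18962 : Q := act 5 n18369
theorem D18962 : act 5 n18369 = n18962 := rfl
theorem F74147 : act 0 n18962 = n18373 := d4_1 D18962 (iv D18373) (iv F71923)
theorem F74148 : act 1 n18962 = n18452 := d11_1 D18962 (iv D18452) (iv F71924)
theorem F74149 : act 3 n18962 = n18922 := d22_1 D18962 (iv D18922) (iv F71925)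
theorem F74150 : act 4 n18962 = n18610 := d26_1 D18962 (iv D18610) (iv D17996) (iv F69800) D18369
theorem F74151 : act 7 n18962 = n18394 := d31_2 (iv F71927) D18962 (iv D18394)
theorem F74152 : act 8 n18962 = n18920 := d32_2 (iv F71928) D18962 (iv D18920)
def n18963 : Q := act 1 n18370
theorem D18963 : act 1 n18370 = n18963 := rfl
theorem F74153 : act 0 n18963 = n18897 := d0_1 D18963 F73946 (iv F73175) F73176 (iv F71929)
theorem F74154 : act 2 n18963 = n18378 := d8_2 D18370 D18963 (iv D18378) (iv D17771) (iv F69805)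
theorem F74155 : act 3 n18963 = n18963 := d9_2 F71930 D18963 (iv D18963)
theorem F74156 : act 5 n18963 = n18853 := d11_2 (iv F71931) D18963 (iv D18853)
theorem F74157 : act 6 n18963 = n18551 := d12_2 (iv F71932) D18963 (iv D18551)
theorem F74158 : act 7 n18963 = n18696 := d13_2 (iv F71933) D18963 F73267
theorem F74159 : act 8 n18963 = n18514 := d14_2 (iv F71934) D18963 (iv D18514)
def n18964 : Q := act 4 n18370
theorem D18964 : act 4 n18370 = n18964 := rfl
theorem F74160 : act 0 n18964 = n18921 := d3_1 D18964 (iv D18921) (iv F71929)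
theorem F74161 : act 2 n18964 = n18371 := d16_1 D18964 (iv D18371) D18370
theorem F74162 : act 6 n18964 = n18552 := d27_2 (iv F71932) D18964 (iv D18552)
theorem F74163 : act 7 n18964 = n18878 := d28_2 (iv F71933) D18964 (iv D18878)
theorem F74164 : act 8 n18964 = n18515 := d29_2 (iv F71934) D18964 (iv D18515)
def n18965 : Q := act 5 n18371
theorem D18965 : act 5 n18371 = n18965 := rfl
theorem F74165 : act 0 n18965 = n18922 := d4_1 D18965 (iv D18922) (iv F71935)
theorem F74166 : act 1 n18965 = n18380 := d11_1 D18965 (iv D18380) (iv F71936)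
theorem F74167 : act 3 n18965 = n18373 := d22_1 D18965 (iv D18373) (iv F71937)
theorem F74168 : act 4 n18965 = n18855 := d26_1 D18965 (iv D18855) (iv D18257) (iv F69806) D18371
theorem F74169 : act 7 n18965 = n18879 := d31_2 (iv F71939) D18965 (iv D18879)
theorem F74170 : act 8 n18965 = n18516 := d32_2 (iv F71940) D18965 (iv D18516)
def n18966 : Q := act 3 n18372
theorem D18966 : act 3 n18372 = n18966 := rfl
theorem F74171 : act 1 n18966 = n18834 := d9_1 D18966 (iv D18834) (iv F71941)
theorem F74172 : act 4 n18966 = n18966 := d21_2 D18372 D18966 (iv D18966) (iv D18372) F69811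
def n18967 : Q := act 5 n18372
theorem D18967 : act 5 n18372 = n18967 := rfl
theorem F74173 : act 1 n18967 = n18835 := d11_1 D18967 (iv D18835) (iv F71941)
theorem F74174 : act 2 n18967 = n18373 := d17_1 D18967 (iv D18373) (iv F71942)
theorem F74175 : act 4 n18967 = n18617 := d26_1 D18967 (iv D18617) (iv D18000) (iv F69812) D18372
theorem F74176 : act 7 n18967 = n18398 := d31_2 (iv F71943) D18967 (iv D18398)
def n18968 : Q := act 6 n18373
theorem D18968 : act 6 n18373 = n18968 := rfl
theorem F74177 : act 1 n18968 = n18381 := d12_1 D18968 (iv D18381) (iv F71944)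
theorem F74178 : act 4 n18968 = n18618 := d27_1 D18968 (iv D18618) (iv F71945)
theorem F74179 : act 7 n18968 = n18399 := d33_2 (iv F71946) D18968 (iv D18399)
def n18969 : Q := act 1 n18374
theorem D18969 : act 1 n18374 = n18969 := rfl
theorem F74180 : act 0 n18969 = n18898 := d0_1 D18969 F73949 F73504 (iv D18458) (iv F71947)
theorem F74181 : act 2 n18969 = n18696 := d8_2 D18374 D18969 F73267 (iv D18277) (iv F69817)
theorem F74182 : act 3 n18969 = n18969 := d9_2 F71948 D18969 (iv D18969)
theorem F74183 : act 5 n18969 = n18862 := d11_2 (iv F71949) D18969 (iv D18862)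
theorem F74184 : act 6 n18969 = n18494 := d12_2 (iv F71950) D18969 (iv D18494)
theorem F74185 : act 7 n18969 = n18378 := d13_2 (iv F71951) D18969 (iv D18378)
theorem F74186 : act 8 n18969 = n18471 := d14_2 (iv F71952) D18969 (iv D18471)
def n18970 : Q := act 4 n18374
theorem D18970 : act 4 n18374 = n18970 := rfl
theorem F74187 : act 0 n18970 = n18459 := d3_1 D18970 (iv D18459) (iv F71947)
theorem F74188 : act 2 n18970 = n18375 := d16_1 D18970 (iv D18375) D18374
theorem F74189 : act 6 n18970 = n18495 := d27_2 (iv F71950) D18970 (iv D18495)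
theorem F74190 : act 7 n18970 = n18379 := d28_2 (iv F71951) D18970 (iv D18379)
theorem F74191 : act 8 n18970 = n18472 := d29_2 (iv F71952) D18970 (iv D18472)
def n18971 : Q := act 5 n18375
theorem D18971 : act 5 n18375 = n18971 := rfl
theorem F74192 : act 0 n18971 = n18460 := d4_1 D18971 (iv D18460) (iv F71953)
theorem F74193 : act 1 n18971 = n18879 := d11_1 D18971 (iv D18879) (iv F71954)
theorem F74194 : act 3 n18971 = n18406 := d22_1 D18971 (iv D18406) (iv F71955)
theorem F74195 : act 4 n18971 = n18864 := d26_1 D18971 (iv D18864) (iv D18265) (iv F69818) D18375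
theorem F74196 : act 7 n18971 = n18380 := d31_2 (iv F71957) D18971 (iv D18380)
theorem F74197 : act 8 n18971 = n18473 := d32_2 (iv F71958) D18971 (iv D18473)
def n18972 : Q := act 1 n18376
theorem D18972 : act 1 n18376 = n18972 := rfl
theorem F74198 : act 0 n18972 = n18795 := d0_1 D18972 (iv D18795) F71370 (iv F70187) (iv F71959)
theorem F74199 : act 2 n18972 = n18853 := d8_2 D18376 D18972 (iv D18853) (iv D18256) (iv F69823)
theorem F74200 : act 3 n18972 = n18382 := d9_2 (iv F71960) D18972 (iv D18382)
theorem F74201 : act 5 n18972 = n18378 := d11_2 (iv F71961) D18972 (iv D18378)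
theorem F74202 : act 6 n18972 = n18882 := d12_2 (iv F71962) D18972 F73892
theorem F74203 : act 7 n18972 = n18862 := d13_2 (iv F71963) D18972 (iv D18862)
theorem F74204 : act 8 n18972 = n18521 := d14_2 (iv F71964) D18972 (iv D18521)
def n18973 : Q := act 4 n18376
theorem D18973 : act 4 n18376 = n18973 := rfl
theorem F74205 : act 0 n18973 = n18462 := d3_1 D18973 (iv D18462) (iv F71959)
theorem F74206 : act 2 n18973 = n18377 := d16_1 D18973 (iv D18377) D18376
theorem F74207 : act 6 n18973 = n18943 := d27_2 (iv F71962) D18973 (iv D18943)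
theorem F74208 : act 7 n18973 = n18863 := d28_2 (iv F71963) D18973 (iv D18863)
theorem F74209 : act 8 n18973 = n18522 := d29_2 (iv F71964) D18973 (iv D18522)
def n18974 : Q := act 5 n18377
theorem D18974 : act 5 n18377 = n18974 := rfl
theorem F74210 : act 0 n18974 = n18463 := d4_1 D18974 (iv D18463) (iv F71965)
theorem F74211 : act 1 n18974 = n18855 := d11_1 D18974 (iv D18855) (iv F71966)
theorem F74212 : act 3 n18974 = n18623 := d22_1 D18974 (iv D18623) (iv F71967)
theorem F74213 : act 4 n18974 = n18380 := d26_1 D18974 (iv D18380) (iv D17772) (iv F69824) D18377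
theorem F74214 : act 7 n18974 = n18864 := d31_2 (iv F71968) D18974 (iv D18864)
theorem F74215 : act 8 n18974 = n18523 := d32_2 (iv F71969) D18974 (iv D18523)
def n18975 : Q := act 0 n18378
theorem D18975 : act 0 n18378 = n18975 := rfl
theorem F74216 : act 1 n18975 = n18464 := d0_2 D18378 D18975 (iv D18464) (iv D17853) (iv F69827)
theorem F74217 : act 2 n18975 = n18897 := d1_2 F74154 D18975 (iv F74153)
theorem F74218 : act 3 n18975 = n18384 := d2_2 (iv F71970) D18975 (iv D18384)
theorem F74219 : act 5 n18975 = n18795 := d4_2 F74201 D18975 (iv F74198)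
theorem F74220 : act 6 n18975 = n18573 := d5_2 (iv F71971) D18975 (iv D18573)
theorem F74221 : act 7 n18975 = n18898 := d6_2 F74185 D18975 (iv F74180)
theorem F74222 : act 8 n18975 = n18524 := d7_2 (iv F71972) D18975 (iv D18524)
def n18976 : Q := act 4 n18378
theorem D18976 : act 4 n18378 = n18976 := rfl
theorem F74223 : act 1 n18976 = n18379 := d10_1 D18976 (iv D18379) D18378
theorem F74224 : act 3 n18976 = n18844 := d21_1 D18976 (iv D18844) F71568 (iv F69852) (iv F71970)
theorem F74225 : act 6 n18976 = n18574 := d27_2 (iv F71971) D18976 (iv D18574)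
theorem F74226 : act 8 n18976 = n18525 := d29_2 (iv F71972) D18976 (iv D18525)
def n18977 : Q := act 5 n18379
theorem D18977 : act 5 n18379 = n18977 := rfl
theorem F74227 : act 0 n18977 = n18466 := d4_1 D18977 (iv D18466) (iv F71973)
theorem F74228 : act 2 n18977 = n18380 := d17_1 D18977 (iv D18380) (iv F71974)
theorem F74229 : act 3 n18977 = n18845 := d22_1 D18977 (iv D18845) (iv F71975)
theorem F74230 : act 8 n18977 = n18526 := d32_2 (iv F71977) D18977 (iv D18526)
def n18978 : Q := act 6 n18380
theorem D18978 : act 6 n18380 = n18978 := rfl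
theorem F74231 : act 0 n18978 = n18467 := d5_1 D18978 (iv D18467) (iv F71978)
theorem F74232 : act 3 n18978 = n18381 := d23_1 D18978 (iv D18381) (iv F71979)
theorem F74233 : act 5 n18978 = n18577 := d30_1 D18978 (iv D18577) (iv D17954) (iv F69833) D18380
theorem F74234 : act 8 n18978 = n18527 := d34_2 (iv F71980) D18978 (iv D18527)
def n18979 : Q := act 3 n18383
theorem D18979 : act 3 n18383 = n18979 := rfl
theorem F74235 : act 0 n18979 = n18468 := d2_1 D18979 (iv D18468) (iv F71991)
theorem F74236 : act 2 n18979 = n18630 := d15_1 D18979 (iv D18630) F70773 (iv F69846) (iv F71992)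
theorem F74237 : act 5 n18979 = n18849 := d22_2 (iv F71993) D18979 (iv D18849)
theorem F74238 : act 6 n18979 = n18959 := d23_2 (iv F71994) D18979 (iv D18959)
theorem F74239 : act 8 n18979 = n18588 := d25_2 (iv F71996) D18979 (iv D18588)
def n18980 : Q := act 6 n18385
theorem D18980 : act 6 n18385 = n18980 := rfl
theorem F74240 : act 0 n18980 = n18469 := d5_1 D18980 (iv D18469) (iv F72004)
theorem F74241 : act 1 n18980 = n18648 := d12_1 D18980 (iv D18648) (iv F72005)
theorem F74242 : act 2 n18980 = n18477 := d18_1 D18980 (iv D18477) (iv F72006)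
theorem F74243 : act 3 n18980 = n18599 := d23_1 D18980 (iv D18599) (iv F72007)
theorem F74244 : act 4 n18980 = n18392 := d27_1 D18980 (iv D18392) (iv F72008)
theorem F74245 : act 5 n18980 = n18631 := d30_1 D18980 (iv D18631) (iv D18013) (iv F69860) D18385
theorem F74246 : act 8 n18980 = n18415 := d34_2 (iv F72009) D18980 (iv D18415)
def n18981 : Q := act 5 n18386
theorem D18981 : act 5 n18386 = n18981 := rfl
theorem F74247 : act 0 n18981 = n18707 := d4_1 D18981 (iv D18707) (iv F72010)
theorem F74248 : act 1 n18981 = n18634 := d11_1 D18981 (iv D18634) (iv F72011)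
theorem F74249 : act 2 n18981 = n18387 := d17_1 D18981 (iv D18387) (iv F72012)
theorem F74250 : act 3 n18981 = n18504 := d22_1 D18981 (iv D18504) (iv F72013)
theorem F74251 : act 4 n18981 = n18647 := d26_1 D18981 (iv D18647) (iv D18032) (iv F69865) D18386
theorem F74252 : act 8 n18981 = n18417 := d32_2 (iv F72015) D18981 (iv D18417)
def n18982 : Q := act 6 n18387
theorem D18982 : act 6 n18387 = n18982 := rfl
theorem F74253 : act 0 n18982 = n18708 := d5_1 D18982 (iv D18708) (iv F72016)
theorem F74254 : act 1 n18982 = n18392 := d12_1 D18982 (iv D18392) (iv F72017)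
theorem F74255 : act 3 n18982 = n18659 := d23_1 D18982 (iv D18659) (iv F72018)
theorem F74256 : act 4 n18982 = n18648 := d27_1 D18982 (iv D18648) (iv F72019)
theorem F74257 : act 5 n18982 = n18399 := d30_1 D18982 (iv D18399) (iv D17789) (iv F69871) D18387
theorem F74258 : act 8 n18982 = n18418 := d34_2 (iv F72020) D18982 (iv D18418)
def n18983 : Q := act 4 n18388
theorem D18983 : act 4 n18388 = n18983 := rfl
theorem F74259 : act 0 n18983 = n18472 := d3_1 D18983 (iv D18472) (iv F72021)
theorem F74260 : act 1 n18983 = n18766 := d10_1 D18983 (iv D18766) (iv F72022)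
theorem F74261 : act 2 n18983 = n18389 := d16_1 D18983 (iv D18389) D18388
theorem F74262 : act 6 n18983 = n18405 := d27_2 (iv F72025) D18983 (iv D18405)
theorem F74263 : act 7 n18983 = n18390 := d28_2 (iv F72026) D18983 (iv D18390)
theorem F74264 : act 8 n18983 = n18459 := d29_2 (iv F72027) D18983 (iv D18459)
def n18984 : Q := act 5 n18389
theorem D18984 : act 5 n18389 = n18984 := rfl
theorem F74265 : act 0 n18984 = n18473 := d4_1 D18984 (iv D18473) (iv F72028)
theorem F74266 : act 1 n18984 = n18656 := d11_1 D18984 (iv D18656) (iv F72029)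
theorem F74267 : act 3 n18984 = n18496 := d22_1 D18984 (iv D18496) (iv F72030)
theorem F74268 : act 4 n18984 = n18650 := d26_1 D18984 (iv D18650) (iv D18036) (iv F69875) D18389
theorem F74269 : act 7 n18984 = n18391 := d31_2 (iv F72032) D18984 (iv D18391)
theorem F74270 : act 8 n18984 = n18460 := d32_2 (iv F72033) D18984 (iv D18460)
def n18985 : Q := act 5 n18390
theorem D18985 : act 5 n18390 = n18985 := rfl
theorem F74271 : act 0 n18985 = n18475 := d4_1 D18985 (iv D18475) (iv F72034)
theorem F74272 : act 1 n18985 = n18773 := d11_1 D18985 (iv D18773) (iv F72035)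
theorem F74273 : act 2 n18985 = n18391 := d17_1 D18985 (iv D18391) (iv F72036)
theorem F74274 : act 3 n18985 = n18761 := d22_1 D18985 (iv D18761) (iv F72037)
theorem F74275 : act 4 n18985 = n18651 := d26_1 D18985 (iv D18651) (iv D18037) (iv F69882) D18390
theorem F74276 : act 8 n18985 = n18419 := d32_2 (iv F72039) D18985 (iv D18419)
def n18986 : Q := act 6 n18391
theorem D18986 : act 6 n18391 = n18986 := rfl
theorem F74277 : act 0 n18986 = n18476 := d5_1 D18986 (iv D18476) (iv F72040)
theorem F74278 : act 1 n18986 = n18659 := d12_1 D18986 (iv D18659) (iv F72041)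
theorem F74279 : act 3 n18986 = n18392 := d23_1 D18986 (iv D18392) (iv F72042)
theorem F74280 : act 4 n18986 = n18652 := d27_1 D18986 (iv D18652) (iv F72043)
theorem F74281 : act 5 n18986 = n18411 := d30_1 D18986 (iv D18411) (iv D17798) (iv F69888) D18391
theorem F74282 : act 8 n18986 = n18420 := d34_2 (iv F72044) D18986 (iv D18420)
def n18987 : Q := act 5 n18393
theorem D18987 : act 5 n18393 = n18987 := rfl
theorem F74283 : act 0 n18987 = n18398 := d4_1 D18987 (iv D18398) (iv F72049)
theorem F74284 : act 1 n18987 = n18647 := d11_1 D18987 (iv D18647) (iv F72050)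
theorem F74285 : act 2 n18987 = n18394 := d17_1 D18987 (iv D18394) (iv F72051)
theorem F74286 : act 3 n18987 = n18678 := d22_1 D18987 (iv D18678) (iv F72052)
theorem F74287 : act 4 n18987 = n18634 := d26_1 D18987 (iv D18634) (iv D18017) (iv F69896) D18393
theorem F74288 : act 8 n18987 = n18423 := d32_2 (iv F72054) D18987 (iv D18423)
def n18988 : Q := act 6 n18394
theorem D18988 : act 6 n18394 = n18988 := rfl
theorem F74289 : act 0 n18988 = n18399 := d5_1 D18988 (iv D18399) (iv F72055)
theorem F74290 : act 1 n18988 = n18477 := d12_1 D18988 (iv D18477) (iv F72056)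
theorem F74291 : act 3 n18988 = n18789 := d23_1 D18988 (iv D18789) (iv F72057)
theorem F74292 : act 4 n18988 = n18635 := d27_1 D18988 (iv D18635) (iv F72058)
theorem F74293 : act 5 n18988 = n18708 := d30_1 D18988 (iv D18708) (iv D18099) (iv F69902) D18394
theorem F74294 : act 8 n18988 = n18424 := d34_2 (iv F72059) D18988 (iv D18424)
def n18989 : Q := act 5 n18395
theorem D18989 : act 5 n18395 = n18989 := rfl
theorem F74295 : act 0 n18989 = n18785 := d4_1 D18989 (iv D18785) (iv F72060)
theorem F74296 : act 1 n18989 = n18406 := d11_1 D18989 (iv D18406) (iv F72061)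
theorem F74297 : act 2 n18989 = n18778 := d17_1 D18989 (iv D18778) (iv F72062)
theorem F74298 : act 3 n18989 = n18879 := d22_1 D18989 (iv D18879) (iv F72063)
theorem F74299 : act 4 n18989 = n18685 := d26_1 D18989 (iv D18685) (iv D18070) (iv F69907) D18395
theorem F74300 : act 7 n18989 = n18396 := d31_2 (iv F72065) D18989 (iv D18396)
theorem F74301 : act 8 n18989 = n18877 := d32_2 (iv F72066) D18989 (iv D18877)
def n18990 : Q := act 6 n18396
theorem D18990 : act 6 n18396 = n18990 := rfl
theorem F74302 : act 0 n18990 = n18789 := d5_1 D18990 (iv D18789) (iv F72067)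
theorem F74303 : act 1 n18990 = n18411 := d12_1 D18990 (iv D18411) (iv F72068)
theorem F74304 : act 2 n18990 = n18782 := d18_1 D18990 (iv D18782) (iv F72069)
theorem F74305 : act 3 n18990 = n18399 := d23_1 D18990 (iv D18399) (iv F72070)
theorem F74306 : act 4 n18990 = n18694 := d27_1 D18990 (iv D18694) (iv F72071)
theorem F74307 : act 5 n18990 = n18659 := d30_1 D18990 (iv D18659) (iv D18045) (iv F69915) D18396
theorem F74308 : act 8 n18990 = n18428 := d34_2 (iv F72072) D18990 (iv D18428)
def n18991 : Q := act 5 n18397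
theorem D18991 : act 5 n18397 = n18991 := rfl
theorem F74309 : act 0 n18991 = n18678 := d4_1 D18991 (iv D18678) (iv F72073)
theorem F74310 : act 1 n18991 = n18850 := d11_1 D18991 (iv D18850) (iv F72074)
theorem F74311 : act 2 n18991 = n18502 := d17_1 D18991 (iv D18502) (iv F72075)
theorem F74312 : act 3 n18991 = n18398 := d22_1 D18991 (iv D18398) D18397
theorem F74313 : act 4 n18991 = n18664 := d26_1 D18991 (iv D18664) (iv D18050) (iv F70126) (iv F72076)
theorem F74314 : act 8 n18991 = n18429 := d32_2 (iv F72078) D18991 (iv D18429)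
def n18992 : Q := act 7 n18397
theorem D18992 : act 7 n18397 = n18992 := rfl
theorem F74315 : act 0 n18992 = n18671 := d6_1 D18992 F73190 (iv F72073)
theorem F74316 : act 1 n18992 = n18851 := d13_1 D18992 (iv D18851) (iv F72074)
theorem F74317 : act 2 n18992 = n18488 := d19_1 D18992 F72489 (iv F72075)
theorem F74318 : act 4 n18992 = n18447 := d28_1 D18992 (iv D18447) (iv F72076)
theorem F74319 : act 6 n18992 = n18492 := d33_1 D18992 F72507 (iv F72077)
def n18993 : Q := act 6 n18398
theorem D18993 : act 6 n18398 = n18993 := rfl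
theorem F74320 : act 1 n18993 = n18852 := d12_1 D18993 (iv D18852) (iv F72079)
theorem F74321 : act 2 n18993 = n18399 := d18_1 D18993 (iv D18399) (iv F72080)
theorem F74322 : act 4 n18993 = n18638 := d27_1 D18993 (iv D18638) (iv F72081)
theorem F74323 : act 8 n18993 = n18431 := d34_2 (iv F72082) D18993 (iv D18431)
def n18994 : Q := act 4 n18400
theorem D18994 : act 4 n18400 = n18994 := rfl
theorem F74324 : act 0 n18994 = n18492 := d3_1 D18994 (iv D18492) (iv F72086)
theorem F74325 : act 1 n18994 = n18538 := d10_1 D18994 (iv D18538) (iv F72087)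
theorem F74326 : act 2 n18994 = n18401 := d16_1 D18994 (iv D18401) D18400
theorem F74327 : act 6 n18994 = n18671 := d27_2 (iv F72090) D18994 (iv D18671)
theorem F74328 : act 7 n18994 = n18407 := d28_2 (iv F72091) D18994 (iv D18407)
def n18995 : Q := act 5 n18401
theorem D18995 : act 5 n18401 = n18995 := rfl
theorem F74329 : act 0 n18995 = n18493 := d4_1 D18995 (iv D18493) (iv F72092)
theorem F74330 : act 1 n18995 = n18685 := d11_1 D18995 (iv D18685) (iv F72093)
theorem F74331 : act 4 n18995 = n18406 := d26_1 D18995 (iv D18406) (iv D17793) (iv F69925) D18401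
theorem F74332 : act 7 n18995 = n18408 := d31_2 (iv F72095) D18995 (iv D18408)
def n18996 : Q := act 4 n18402
theorem D18996 : act 4 n18402 = n18996 := rfl
theorem F74333 : act 0 n18996 = n18495 := d3_1 D18996 (iv D18495) (iv F72096)
theorem F74334 : act 2 n18996 = n18403 := d16_1 D18996 (iv D18403) D18402
theorem F74335 : act 6 n18996 = n18459 := d27_2 (iv F72098) D18996 (iv D18459)
theorem F74336 : act 7 n18996 = n18435 := d28_2 (iv F72099) D18996 (iv D18435)
theorem F74337 : act 8 n18996 = n18405 := d29_2 (iv F72100) D18996 (iv D18405)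
def n18997 : Q := act 5 n18403
theorem D18997 : act 5 n18403 = n18997 := rfl
theorem F74338 : act 0 n18997 = n18496 := d4_1 D18997 (iv D18496) (iv F72101)
theorem F74339 : act 1 n18997 = n18877 := d11_1 D18997 (iv D18877) (iv F72102)
theorem F74340 : act 3 n18997 = n18473 := d22_1 D18997 (iv D18473) (iv F72103)
theorem F74341 : act 7 n18997 = n18436 := d31_2 (iv F72105) D18997 (iv D18436)
theorem F74342 : act 8 n18997 = n18406 := d32_2 (iv F72106) D18997 (iv D18406)
def n18998 : Q := act 4 n18404
theorem D18998 : act 4 n18404 = n18998 := rfl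
theorem F74343 : act 0 n18998 = n18549 := d3_1 D18998 (iv D18549) F72112
theorem F74344 : act 1 n18998 = n18405 := d10_1 D18998 (iv D18405) D18404
theorem F74345 : act 2 n18998 = n18535 := d16_1 D18998 (iv D18535) (iv F72107)
theorem F74346 : act 6 n18998 = n18766 := d27_2 (iv F72110) D18998 (iv D18766)
theorem F74347 : act 7 n18998 = n18409 := d28_2 (iv F72111) D18998 (iv D18409)
def n18999 : Q := act 3 n18405
theorem D18999 : act 3 n18405 = n18999 := rfl
theorem F74348 : act 0 n18999 = n18499 := d2_1 D18999 (iv D18499) (iv F72113)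
theorem F74349 : act 4 n18999 = n18999 := d21_2 D18405 D18999 (iv D18999) (iv D18405) F69934
theorem F74350 : act 7 n18999 = n18857 := d24_2 (iv F72115) D18999 (iv D18857) F71608 (iv F69957)
def n19000 : Q := act 5 n18405
theorem D19000 : act 5 n18405 = n19000 := rfl
theorem F74351 : act 0 n19000 = n18500 := d4_1 D19000 (iv D18500) (iv F72113)
theorem F74352 : act 2 n19000 = n18406 := d17_1 D19000 (iv D18406) (iv F72114)
theorem F74353 : act 7 n19000 = n18410 := d31_2 (iv F72115) D19000 (iv D18410)
def n19001 : Q := act 6 n18406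
theorem D19001 : act 6 n18406 = n19001 := rfl
theorem F74354 : act 0 n19001 = n18501 := d5_1 D19001 (iv D18501) (iv F72116)
theorem F74355 : act 7 n19001 = n18411 := d33_2 (iv F72117) D19001 (iv D18411)
def n19002 : Q := act 5 n18407
theorem D19002 : act 5 n18407 = n19002 := rfl
theorem F74356 : act 0 n19002 = n18504 := d4_1 D19002 (iv D18504) (iv F72118)
theorem F74357 : act 1 n19002 = n18541 := d11_1 D19002 (iv D18541) (iv F72119)
theorem F74358 : act 2 n19002 = n18408 := d17_1 D19002 (iv D18408) (iv F72120)
theorem F74359 : act 3 n19002 = n18707 := d22_1 D19002 (iv D18707) (iv F72121)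
theorem F74360 : act 4 n19002 = n18410 := d26_1 D19002 (iv D18410) (iv D17797) (iv F69941) D18407
theorem F74361 : act 8 n19002 = n18442 := d32_2 (iv F72123) D19002 (iv D18442)
def n19003 : Q := act 6 n18408
theorem D19003 : act 6 n18408 = n19003 := rfl
theorem F74362 : act 0 n19003 = n18505 := d5_1 D19003 (iv D18505) (iv F72124)
theorem F74363 : act 1 n19003 = n18694 := d12_1 D19003 (iv D18694) (iv F72125)
theorem F74364 : act 3 n19003 = n18644 := d23_1 D19003 (iv D18644) (iv F72126)
theorem F74365 : act 4 n19003 = n18411 := d27_1 D19003 (iv D18411) (iv F72127)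
theorem F74366 : act 5 n19003 = n18679 := d30_1 D19003 (iv D18679) (iv D18063) (iv F69947) D18408
theorem F74367 : act 8 n19003 = n18443 := d34_2 (iv F72128) D19003 (iv D18443)
def n19004 : Q := act 5 n18409
theorem D19004 : act 5 n18409 = n19004 := rfl
theorem F74368 : act 0 n19004 = n18561 := d4_1 D19004 (iv D18561) (iv F72129)
theorem F74369 : act 1 n19004 = n18410 := d11_1 D19004 (iv D18410) (iv F72130)
theorem F74370 : act 2 n19004 = n18540 := d17_1 D19004 (iv D18540) (iv F72131)
theorem F74371 : act 3 n19004 = n18860 := d22_1 D19004 (iv D18860) (iv F72132)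
theorem F74372 : act 4 n19004 = n18541 := d26_1 D19004 (iv D18541) (iv D17925) (iv F69951) D18409
theorem F74373 : act 8 n19004 = n18445 := d32_2 (iv F72134) D19004 (iv D18445)
def n19005 : Q := act 6 n18410
theorem D19005 : act 6 n18410 = n19005 := rfl
theorem F74374 : act 0 n19005 = n18508 := d5_1 D19005 (iv D18508) (iv F72135)
theorem F74375 : act 2 n19005 = n18411 := d18_1 D19005 (iv D18411) (iv F72136)
theorem F74376 : act 3 n19005 = n18861 := d23_1 D19005 (iv D18861) (iv F72137)
theorem F74377 : act 8 n19005 = n18446 := d34_2 (iv F72138) D19005 (iv D18446)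
def n19006 : Q := act 6 n18412
theorem D19006 : act 6 n18412 = n19006 := rfl
theorem F74378 : act 0 n19006 = n18597 := d5_1 D19006 (iv D18597) (iv F72142)
theorem F74379 : act 1 n19006 = n18415 := d12_1 D19006 (iv D18415) (iv F72143)
theorem F74380 : act 2 n19006 = n18956 := d18_1 D19006 (iv D18956) (iv F72144)
theorem F74381 : act 3 n19006 = n18631 := d23_1 D19006 (iv D18631) (iv F72145)
theorem F74382 : act 4 n19006 = n18418 := d27_1 D19006 (iv D18418) (iv F72146)
theorem F74383 : act 5 n19006 = n18599 := d30_1 D19006 (iv D18599) (iv D17983) (iv F69970) D18412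
theorem F74384 : act 8 n19006 = n18648 := d34_2 (iv F72147) D19006 (iv D18648)
def n19007 : Q := act 5 n18413
theorem D19007 : act 5 n18413 = n19007 := rfl
theorem F74385 : act 0 n19007 = n18511 := d4_1 D19007 (iv D18511) (iv F72148)
theorem F74386 : act 1 n19007 = n18707 := d11_1 D19007 (iv D18707) (iv F72149)
theorem F74387 : act 2 n19007 = n18414 := d17_1 D19007 (iv D18414) (iv F72150)
theorem F74388 : act 3 n19007 = n18541 := d22_1 D19007 (iv D18541) (iv F72151)
theorem F74389 : act 4 n19007 = n18632 := d26_1 D19007 (iv D18632) (iv D18014) (iv F69975) D18413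
theorem F74390 : act 8 n19007 = n18598 := d32_2 (iv F72153) D19007 (iv D18598)
def n19008 : Q := act 6 n18414
theorem D19008 : act 6 n18414 = n19008 := rfl
theorem F74391 : act 0 n19008 = n18512 := d5_1 D19008 (iv D18512) (iv F72154)
theorem F74392 : act 1 n19008 = n18631 := d12_1 D19008 (iv D18631) (iv F72155)
theorem F74393 : act 3 n19008 = n18415 := d23_1 D19008 (iv D18415) (iv F72156)
theorem F74394 : act 4 n19008 = n18633 := d27_1 D19008 (iv D18633) (iv F72157)
theorem F74395 : act 5 n19008 = n18648 := d30_1 D19008 (iv D18648) (iv D18033) (iv F69981) D18414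
theorem F74396 : act 8 n19008 = n18599 := d34_2 (iv F72158) D19008 (iv D18599)
def n19009 : Q := act 6 n18416
theorem D19009 : act 6 n18416 = n19009 := rfl
theorem F74397 : act 0 n19009 = n18418 := d5_1 D19009 (iv D18418) (iv F72163)
theorem F74398 : act 1 n19009 = n18513 := d12_1 D19009 (iv D18513) (iv F72164)
theorem F74399 : act 3 n19009 = n18695 := d23_1 D19009 (iv D18695) (iv F72165)
theorem F74400 : act 4 n19009 = n18597 := d27_1 D19009 (iv D18597) (iv F72166)
theorem F74401 : act 5 n19009 = n18424 := d30_1 D19009 (iv D18424) (iv D17813) (iv F69989) D18416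
theorem F74402 : act 7 n19009 = n19006 := d33_2 (iv F72167) D19009 (iv D19006)
theorem F74403 : act 8 n19009 = n18708 := d34_2 (iv F72168) D19009 (iv D18708)
def n19010 : Q := act 6 n18417
theorem D19010 : act 6 n18417 = n19010 := rfl
theorem F74404 : act 1 n19010 = n18666 := d12_1 D19010 (iv D18666) (iv F72169)
theorem F74405 : act 2 n19010 = n18418 := d18_1 D19010 (iv D18418) (iv F72170)
theorem F74406 : act 3 n19010 = n18585 := d23_1 D19010 (iv D18585) (iv F72171)
theorem F74407 : act 4 n19010 = n18956 := d27_1 D19010 (iv D18956) (iv F72172)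
theorem F74408 : act 5 n19010 = n18431 := d30_1 D19010 (iv D18431) (iv D17819) (iv F69995) D18417
def n19011 : Q := act 6 n18419
theorem D19011 : act 6 n18419 = n19011 := rfl
theorem F74409 : act 0 n19011 = n18534 := d5_1 D19011 (iv D18534) (iv F72176)
theorem F74410 : act 1 n19011 = n18819 := d12_1 D19011 (iv D18819) (iv F72177)
theorem F74411 : act 2 n19011 = n18420 := d18_1 D19011 (iv D18420) (iv F72178)
theorem F74412 : act 3 n19011 = n18804 := d23_1 D19011 (iv D18804) (iv F72179)
theorem F74413 : act 4 n19011 = n18820 := d27_1 D19011 (iv D18820) (iv F72180)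
theorem F74414 : act 5 n19011 = n18446 := d30_1 D19011 (iv D18446) (iv D17834) (iv F70002) D18419
def n19012 : Q := act 5 n18421
theorem D19012 : act 5 n18421 = n19012 := rfl
theorem F74415 : act 0 n19012 = n18426 := d4_1 D19012 (iv D18426) (iv F72186)
theorem F74416 : act 1 n19012 = n18539 := d11_1 D19012 (iv D18539) (iv F72187)
theorem F74417 : act 2 n19012 = n18685 := d17_1 D19012 (iv D18685) (iv F72188)
theorem F74418 : act 3 n19012 = n18711 := d22_1 D19012 (iv D18711) (iv F72189)
theorem F74419 : act 4 n19012 = n18778 := d26_1 D19012 (iv D18778) (iv D18166) (iv F70013) D18421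
theorem F74420 : act 7 n19012 = n18422 := d31_2 (iv F72191) D19012 (iv D18422)
theorem F74421 : act 8 n19012 = n18710 := d32_2 (iv F72192) D19012 (iv D18710)
def n19013 : Q := act 6 n18422
theorem D19013 : act 6 n18422 = n19013 := rfl
theorem F74422 : act 0 n19013 = n18428 := d5_1 D19013 (iv D18428) (iv F72193)
theorem F74423 : act 1 n19013 = n18542 := d12_1 D19013 (iv D18542) (iv F72194)
theorem F74424 : act 2 n19013 = n18694 := d18_1 D19013 (iv D18694) (iv F72195)
theorem F74425 : act 3 n19013 = n18424 := d23_1 D19013 (iv D18424) (iv F72196)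
theorem F74426 : act 4 n19013 = n18782 := d27_1 D19013 (iv D18782) (iv F72197)
theorem F74427 : act 5 n19013 = n18695 := d30_1 D19013 (iv D18695) (iv D18080) (iv F70021) D18422
theorem F74428 : act 8 n19013 = n18789 := d34_2 (iv F72198) D19013 (iv D18789)
def n19014 : Q := act 6 n18423
theorem D19014 : act 6 n18423 = n19014 := rfl
theorem F74429 : act 0 n19014 = n18431 := d5_1 D19014 (iv D18431) (iv F72199)
theorem F74430 : act 1 n19014 = n18956 := d12_1 D19014 (iv D18956) (iv F72200)
theorem F74431 : act 2 n19014 = n18424 := d18_1 D19014 (iv D18424) (iv F72201)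
theorem F74432 : act 3 n19014 = n18955 := d23_1 D19014 (iv D18955) (iv F72202)
theorem F74433 : act 4 n19014 = n18666 := d27_1 D19014 (iv D18666) (iv F72203)
def n19015 : Q := act 5 n18425
theorem D19015 : act 5 n18425 = n19015 := rfl
theorem F74434 : act 0 n19015 = n18778 := d4_1 D19015 (iv D18778) (iv F72207)
theorem F74435 : act 1 n19015 = n18434 := d11_1 D19015 (iv D18434) (iv F72208)
theorem F74436 : act 2 n19015 = n18785 := d17_1 D19015 (iv D18785) (iv F72209)
theorem F74437 : act 4 n19015 = n18426 := d26_1 D19015 (iv D18426) (iv D17815) (iv F70033) D18425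
theorem F74438 : act 7 n19015 = n18427 := d31_2 (iv F72211) D19015 (iv D18427)
theorem F74439 : act 8 n19015 = n18932 := d32_2 (iv F72212) D19015 (iv D18932)
def n19016 : Q := act 6 n18426
theorem D19016 : act 6 n18426 = n19016 := rfl
theorem F74440 : act 1 n19016 = n18440 := d12_1 D19016 (iv D18440) (iv F72213)
theorem F74441 : act 2 n19016 = n18823 := d18_1 D19016 (iv D18823) (iv F72214)
theorem F74442 : act 5 n19016 = n18825 := d30_1 D19016 (iv D18825) (iv D18217) (iv F70039) D18426
theorem F74443 : act 7 n19016 = n18428 := d33_2 (iv F72215) D19016 (iv D18428)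
def n19017 : Q := act 6 n18427
theorem D19017 : act 6 n18427 = n19017 := rfl
theorem F74444 : act 0 n19017 = n18782 := d5_1 D19017 (iv D18782) (iv F72216)
theorem F74445 : act 1 n19017 = n18443 := d12_1 D19017 (iv D18443) (iv F72217)
theorem F74446 : act 2 n19017 = n18789 := d18_1 D19017 (iv D18789) (iv F72218)
theorem F74447 : act 3 n19017 = n18679 := d23_1 D19017 (iv D18679) (iv F72219)
theorem F74448 : act 4 n19017 = n18428 := d27_1 D19017 (iv D18428) (iv F72220)
theorem F74449 : act 5 n19017 = n18644 := d30_1 D19017 (iv D18644) (iv D18028) (iv F70045) D18427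
theorem F74450 : act 8 n19017 = n18694 := d34_2 (iv F72221) D19017 (iv D18694)
def n19018 : Q := act 6 n18429
theorem D19018 : act 6 n18429 = n19018 := rfl
theorem F74451 : act 0 n19018 = n18955 := d5_1 D19018 (iv D18955) (iv F72226)
theorem F74452 : act 1 n19018 = n18874 := d12_1 D19018 (iv D18874) (iv F72227)
theorem F74453 : act 2 n19018 = n18583 := d18_1 D19018 (iv D18583) (iv F72228)
theorem F74454 : act 3 n19018 = n18431 := d23_1 D19018 (iv D18431) (iv F72229)
theorem F74455 : act 4 n19018 = n18958 := d27_1 D19018 (iv D18958) (iv F72230)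
theorem F74456 : act 5 n19018 = n18585 := d30_1 D19018 (iv D18585) (iv D17962) (iv F70054) D18429
def n19019 : Q := act 7 n18429
theorem D19019 : act 7 n18429 = n19019 := rfl
theorem F74457 : act 0 n19019 = n18940 := d6_1 D19019 F74083 (iv F72226)
theorem F74458 : act 1 n19019 = n18875 := d13_1 D19019 (iv D18875) (iv F72227)
theorem F74459 : act 2 n19019 = n18566 := d19_1 D19019 F72796 (iv F72228)
theorem F74460 : act 4 n19019 = n18950 := d28_1 D19019 F74113 (iv F72230)
theorem F74461 : act 5 n19019 = n18430 := d31_1 D19019 (iv D18430) D18429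
def n19020 : Q := act 5 n18432
theorem D19020 : act 5 n18432 = n19020 := rfl
theorem F74462 : act 0 n19020 = n18566 := d4_1 D19020 (iv D18566) (iv F72239)
theorem F74463 : act 1 n19020 = n18641 := d11_1 D19020 (iv D18641) (iv F72240)
theorem F74464 : act 2 n19020 = n18940 := d17_1 D19020 (iv D18940) (iv F72241)
theorem F74465 : act 4 n19020 = n18636 := d26_1 D19020 (iv D18636) (iv D18019) (iv F70063) D18432
theorem F74466 : act 7 n19020 = n18441 := d31_2 (iv F72243) D19020 (iv D18441)
def n19021 : Q := act 5 n18433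
theorem D19021 : act 5 n18433 = n19021 := rfl
theorem F74467 : act 0 n19021 = n18569 := d4_1 D19021 (iv D18569) (iv F72244)
theorem F74468 : act 1 n19021 = n18932 := d11_1 D19021 (iv D18932) (iv F72245)
theorem F74469 : act 3 n19021 = n19015 := d22_1 D19021 (iv D19015) (iv F72246)
theorem F74470 : act 4 n19021 = n18436 := d26_1 D19021 (iv D18436) (iv D17825) (iv F70068) D18433
theorem F74471 : act 8 n19021 = n18434 := d32_2 (iv F72247) D19021 (iv D18434)
def n19022 : Q := act 6 n18434
theorem D19022 : act 6 n18434 = n19022 := rfl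
theorem F74472 : act 0 n19022 = n18572 := d5_1 D19022 (iv D18572) (iv F72248)
theorem F74473 : act 4 n19022 = n18440 := d27_1 D19022 (iv D18440) (iv F72249)
theorem F74474 : act 7 n19022 = n18443 := d33_2 (iv F72250) D19022 (iv D18443)
def n19023 : Q := act 5 n18435
theorem D19023 : act 5 n18435 = n19023 := rfl
theorem F74475 : act 0 n19023 = n18576 := d4_1 D19023 (iv D18576) (iv F72251)
theorem F74476 : act 2 n19023 = n18436 := d17_1 D19023 (iv D18436) (iv F72252)
theorem F74477 : act 3 n19023 = n18730 := d22_1 D19023 (iv D18730) (iv F72253)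
theorem F74478 : act 8 n19023 = n18439 := d32_2 (iv F72255) D19023 (iv D18439)
def n19024 : Q := act 6 n18436
theorem D19024 : act 6 n18436 = n19024 := rfl
theorem F74479 : act 0 n19024 = n18577 := d5_1 D19024 (iv D18577) (iv F72256)
theorem F74480 : act 3 n19024 = n18450 := d23_1 D19024 (iv D18450) (iv F72257)
theorem F74481 : act 5 n19024 = n18467 := d30_1 D19024 (iv D18467) (iv D17855) (iv F70078) D18436
theorem F74482 : act 8 n19024 = n18440 := d34_2 (iv F72258) D19024 (iv D18440)
def n19025 : Q := act 4 n18437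
theorem D19025 : act 4 n18437 = n19025 := rfl
theorem F74483 : act 0 n19025 = n18438 := d3_1 D19025 (iv D18438) D18437
theorem F74484 : act 1 n19025 = n18578 := d10_1 D19025 (iv D18578) (iv F72259)
theorem F74485 : act 2 n19025 = n18478 := d16_1 D19025 (iv D18478) (iv F72260)
theorem F74486 : act 6 n19025 = n18793 := d27_2 (iv F72263) D19025 (iv D18793)
theorem F74487 : act 7 n19025 = n18444 := d28_2 (iv F72264) D19025 (iv D18444)
def n19026 : Q := act 5 n18438
theorem D19026 : act 5 n18438 = n19026 := rfl
theorem F74488 : act 1 n19026 = n18439 := d11_1 D19026 (iv D18439) (iv F72265)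
theorem F74489 : act 2 n19026 = n18807 := d17_1 D19026 (iv D18807) (iv F72266)
theorem F74490 : act 4 n19026 = n18934 := d26_1 D19026 (iv D18934) (iv D18336) (iv F70082) D18438
theorem F74491 : act 7 n19026 = n18445 := d31_2 (iv F72268) D19026 (iv D18445)
def n19027 : Q := act 6 n18439
theorem D19027 : act 6 n18439 = n19027 := rfl
theorem F74492 : act 0 n19027 = n18582 := d5_1 D19027 (iv D18582) (iv F72269)
theorem F74493 : act 2 n19027 = n18440 := d18_1 D19027 (iv D18440) (iv F72270)
theorem F74494 : act 7 n19027 = n18446 := d33_2 (iv F72271) D19027 (iv D18446)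
def n19028 : Q := act 6 n18441
theorem D19028 : act 6 n18441 = n19028 := rfl
theorem F74495 : act 0 n19028 = n18583 := d5_1 D19028 (iv D18583) (iv F72274)
theorem F74496 : act 1 n19028 = n18644 := d12_1 D19028 (iv D18644) (iv F72275)
theorem F74497 : act 2 n19028 = n18955 := d18_1 D19028 (iv D18955) (iv F72276)
theorem F74498 : act 3 n19028 = n18694 := d23_1 D19028 (iv D18694) (iv F72277)
theorem F74499 : act 4 n19028 = n18637 := d27_1 D19028 (iv D18637) (iv F72278)
theorem F74500 : act 5 n19028 = n18443 := d30_1 D19028 (iv D18443) (iv D17831) (iv F70094) D18441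
theorem F74501 : act 8 n19028 = n18679 := d34_2 (iv F72279) D19028 (iv D18679)
def n19029 : Q := act 6 n18442
theorem D19029 : act 6 n18442 = n19029 := rfl
theorem F74502 : act 0 n19029 = n18585 := d5_1 D19029 (iv D18585) (iv F72280)
theorem F74503 : act 1 n19029 = n18954 := d12_1 D19029 (iv D18954) (iv F72281)
theorem F74504 : act 2 n19029 = n18443 := d18_1 D19029 (iv D18443) (iv F72282)
theorem F74505 : act 4 n19029 = n18446 := d27_1 D19029 (iv D18446) (iv F72283)
theorem F74506 : act 5 n19029 = n18955 := d30_1 D19029 (iv D18955) (iv D18357) (iv F70099) D18442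
def n19030 : Q := act 5 n18444
theorem D19030 : act 5 n18444 = n19030 := rfl
theorem F74507 : act 0 n19030 = n18445 := d4_1 D19030 (iv D18445) (iv F72287)
theorem F74508 : act 1 n19030 = n18586 := d11_1 D19030 (iv D18586) (iv F72288)
theorem F74509 : act 2 n19030 = n18483 := d17_1 D19030 (iv D18483) (iv F72289)
theorem F74510 : act 3 n19030 = n18873 := d22_1 D19030 F73865 (iv F72290)
theorem F74511 : act 4 n19030 = n18484 := d26_1 D19030 (iv D18484) (iv D17873) (iv F70106) D18444
theorem F74512 : act 8 n19030 = n18561 := d32_2 (iv F72292) D19030 (iv D18561)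
def n19031 : Q := act 6 n18445
theorem D19031 : act 6 n18445 = n19031 := rfl
theorem F74513 : act 1 n19031 = n18446 := d12_1 D19031 (iv D18446) (iv F72293)
theorem F74514 : act 2 n19031 = n18818 := d18_1 D19031 (iv D18818) (iv F72294)
theorem F74515 : act 3 n19031 = n18893 := d23_1 D19031 (iv D18893) (iv F72295)
theorem F74516 : act 4 n19031 = n18954 := d27_1 D19031 (iv D18954) (iv F72296)
theorem F74517 : act 5 n19031 = n18819 := d30_1 D19031 (iv D18819) (iv D18209) (iv F70112) D18445
def n19032 : Q := act 6 n18448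
theorem D19032 : act 6 n18448 = n19032 := rfl
theorem F74518 : act 1 n19032 = n18601 := d12_1 D19032 (iv D18601) (iv F72306)
theorem F74519 : act 2 n19032 = n18455 := d18_1 D19032 (iv D18455) (iv F72307)
theorem F74520 : act 3 n19032 = n19016 := d23_1 D19032 (iv D19016) (iv F72308)
theorem F74521 : act 4 n19032 = n18450 := d27_1 D19032 (iv D18450) (iv F72309)
theorem F74522 : act 5 n19032 = n18697 := d30_1 D19032 (iv D18697) (iv D18087) (iv F70138) D18448
theorem F74523 : act 7 n19032 = n18469 := d33_2 (iv F72310) D19032 (iv D18469)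
def n19033 : Q := act 6 n18449
theorem D19033 : act 6 n18449 = n19033 := rfl
theorem F74524 : act 0 n19033 = n18712 := d5_1 D19033 (iv D18712) (iv F72311)
theorem F74525 : act 1 n19033 = n18450 := d12_1 D19033 (iv D18450) (iv F72312)
theorem F74526 : act 2 n19033 = n18697 := d18_1 D19033 (iv D18697) (iv F72313)
theorem F74527 : act 4 n19033 = n18601 := d27_1 D19033 (iv D18601) (iv F72314)
theorem F74528 : act 5 n19033 = n18455 := d30_1 D19033 (iv D18455) (iv D17846) (iv F70143) D18449
theorem F74529 : act 7 n19033 = n18470 := d33_2 (iv F72315) D19033 (iv D18470)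
theorem F74530 : act 8 n19033 = n19032 := d34_2 (iv F72316) D19033 (iv D19032)
def n19034 : Q := act 5 n18451
theorem D19034 : act 5 n18451 = n19034 := rfl
theorem F74531 : act 0 n19034 = n18454 := d4_1 D19034 (iv D18454) (iv F72320)
theorem F74532 : act 1 n19034 = n18922 := d11_1 D19034 (iv D18922) (iv F72321)
theorem F74533 : act 2 n19034 = n18686 := d17_1 D19034 (iv D18686) (iv F72322)
theorem F74534 : act 3 n19034 = n18452 := d22_1 D19034 (iv D18452) (iv F72323)
theorem F74535 : act 4 n19034 = n18690 := d26_1 D19034 (iv D18690) (iv D18074) (iv F70151) D18451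
theorem F74536 : act 7 n19034 = n18786 := d31_2 (iv F72325) D19034 (iv D18786)
theorem F74537 : act 8 n19034 = n18687 := d32_2 (iv F72326) D19034 (iv D18687)
def n19035 : Q := act 6 n18452
theorem D19035 : act 6 n18452 = n19035 := rfl
theorem F74538 : act 0 n19035 = n18455 := d5_1 D19035 (iv D18455) (iv F72327)
theorem F74539 : act 4 n19035 = n18720 := d27_1 D19035 (iv D18720) (iv F72328)
theorem F74540 : act 5 n19035 = n18712 := d30_1 D19035 (iv D18712) (iv D18104) (iv F70156) D18452
theorem F74541 : act 7 n19035 = n18477 := d33_2 (iv F72329) D19035 (iv D18477)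
def n19036 : Q := act 5 n18453
theorem D19036 : act 5 n18453 = n19036 := rfl
theorem F74542 : act 0 n19036 = n18786 := d4_1 D19036 (iv D18786) (iv F72330)
theorem F74543 : act 1 n19036 = n18460 := d11_1 D19036 (iv D18460) (iv F72331)
theorem F74544 : act 2 n19036 = n18779 := d17_1 D19036 (iv D18779) (iv F72332)
theorem F74545 : act 3 n19036 = n18482 := d22_1 D19036 (iv D18482) (iv F72333)
theorem F74546 : act 4 n19036 = n18657 := d26_1 D19036 (iv D18657) (iv D18043) (iv F70161) D18453
theorem F74547 : act 7 n19036 = n18454 := d31_2 (iv F72335) D19036 (iv D18454)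
theorem F74548 : act 8 n19036 = n18656 := d32_2 (iv F72336) D19036 (iv D18656)
def n19037 : Q := act 6 n18454
theorem D19037 : act 6 n18454 = n19037 := rfl
theorem F74549 : act 1 n19037 = n18467 := d12_1 D19037 (iv D18467) (iv F72337)
theorem F74550 : act 2 n19037 = n18824 := d18_1 D19037 (iv D18824) (iv F72338)
theorem F74551 : act 3 n19037 = n18455 := d23_1 D19037 (iv D18455) (iv F72339)
theorem F74552 : act 4 n19037 = n18826 := d27_1 D19037 (iv D18826) (iv F72340)
theorem F74553 : act 8 n19037 = n18825 := d34_2 (iv F72341) D19037 (iv D18825)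
def n19038 : Q := act 4 n18456
theorem D19038 : act 4 n18456 = n19038 := rfl
theorem F74554 : act 0 n19038 = n18863 := d3_1 D19038 (iv D18863) (iv F72345)
theorem F74555 : act 1 n19038 = n18768 := d10_1 D19038 (iv D18768) (iv F72346)
theorem F74556 : act 2 n19038 = n18457 := d16_1 D19038 (iv D18457) D18456
theorem F74557 : act 6 n19038 = n18673 := d27_2 (iv F72349) D19038 (iv D18673)
theorem F74558 : act 7 n19038 = n18462 := d28_2 (iv F72350) D19038 (iv D18462)
theorem F74559 : act 8 n19038 = n18649 := d29_2 (iv F72351) D19038 (iv D18649)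
def n19039 : Q := act 5 n18457
theorem D19039 : act 5 n18457 = n19039 := rfl
theorem F74560 : act 0 n19039 = n18864 := d4_1 D19039 (iv D18864) (iv F72352)
theorem F74561 : act 1 n19039 = n18657 := d11_1 D19039 (iv D18657) (iv F72353)
theorem F74562 : act 4 n19039 = n18460 := d26_1 D19039 (iv D18460) (iv D17849) (iv F70174) D18457
theorem F74563 : act 7 n19039 = n18463 := d31_2 (iv F72355) D19039 (iv D18463)
theorem F74564 : act 8 n19039 = n18650 := d32_2 (iv F72356) D19039 (iv D18650)
def n19040 : Q := act 4 n18458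
theorem D19040 : act 4 n18458 = n19040 := rfl
theorem F74565 : act 1 n19040 = n18459 := d10_1 D19040 (iv D18459) D18458
theorem F74566 : act 2 n19040 = n18765 := d16_1 D19040 (iv D18765) (iv F72357)
theorem F74567 : act 7 n19040 = n18465 := d28_2 (iv F72360) D19040 (iv D18465)
theorem F74568 : act 8 n19040 = n18766 := d29_2 (iv F72361) D19040 (iv D18766)
def n19041 : Q := act 3 n18459
theorem D19041 : act 3 n18459 = n19041 := rfl
theorem F74569 : act 2 n19041 = n18499 := d15_1 D19041 (iv D18499) F70315 (iv F70180) (iv F72362)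
theorem F74570 : act 4 n19041 = n19041 := d21_2 D18459 D19041 (iv D19041) (iv D18459) F70178
theorem F74571 : act 7 n19041 = n18906 := d24_2 (iv F72363) D19041 (iv D18906) F71747 (iv F70200)
def n19042 : Q := act 5 n18459
theorem D19042 : act 5 n18459 = n19042 := rfl
theorem F74572 : act 2 n19042 = n18460 := d17_1 D19042 (iv D18460) (iv F72362)
theorem F74573 : act 7 n19042 = n18466 := d31_2 (iv F72363) D19042 (iv D18466)
def n19043 : Q := act 6 n18460
theorem D19043 : act 6 n18460 = n19043 := rfl
theorem F74574 : act 3 n19043 = n18501 := d23_1 D19043 (iv D18501) (iv F72364)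
theorem F74575 : act 7 n19043 = n18467 := d33_2 (iv F72365) D19043 (iv D18467)
def n19044 : Q := act 5 n18461
theorem D19044 : act 5 n18461 = n19044 := rfl
theorem F74576 : act 1 n19044 = n18642 := d11_1 D19044 (iv D18642) (iv F72366)
theorem F74577 : act 2 n19044 = n18945 := d17_1 D19044 (iv D18945) (iv F72367)
theorem F74578 : act 3 n19044 = n18746 := d22_1 D19044 (iv D18746) (iv F72368)
theorem F74579 : act 7 n19044 = n18674 := d31_2 (iv F72370) D19044 (iv D18674)
theorem F74580 : act 8 n19044 = n18636 := d32_2 (iv F72371) D19044 (iv D18636)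
def n19045 : Q := act 3 n18462
theorem D19045 : act 3 n18462 = n19045 := rfl
theorem F74581 : act 1 n19045 = n18811 := d9_1 D19045 (iv D18811) (iv F72372)
theorem F74582 : act 2 n19045 = n18749 := d15_1 D19045 (iv D18749) F71223 (iv F70193) (iv F72373)
theorem F74583 : act 4 n19045 = n18468 := d21_2 D18462 D19045 (iv D18468) (iv D17857) (iv F70188)
theorem F74584 : act 6 n19045 = n18944 := d23_2 (iv F72374) D19045 (iv D18944)
theorem F74585 : act 8 n19045 = n18814 := d25_2 (iv F72375) D19045 (iv D18814)
def n19046 : Q := act 5 n18462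
theorem D19046 : act 5 n18462 = n19046 := rfl
theorem F74586 : act 1 n19046 = n18812 := d11_1 D19046 (iv D18812) (iv F72372)
theorem F74587 : act 2 n19046 = n18463 := d17_1 D19046 (iv D18463) (iv F72373)
theorem F74588 : act 4 n19046 = n18466 := d26_1 D19046 (iv D18466) (iv D17854) (iv F70189) D18462
theorem F74589 : act 8 n19046 = n18815 := d32_2 (iv F72375) D19046 (iv D18815)
def n19047 : Q := act 6 n18463
theorem D19047 : act 6 n18463 = n19047 := rfl
theorem F74590 : act 1 n19047 = n18826 := d12_1 D19047 (iv D18826) (iv F72376)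
theorem F74591 : act 3 n19047 = n18751 := d23_1 D19047 (iv D18751) (iv F72377)
theorem F74592 : act 4 n19047 = n18467 := d27_1 D19047 (iv D18467) (iv F72378)
theorem F74593 : act 8 n19047 = n18827 := d34_2 (iv F72379) D19047 (iv D18827)
def n19048 : Q := act 4 n18464
theorem D19048 : act 4 n18464 = n19048 := rfl
theorem F74594 : act 0 n19048 = n18465 := d3_1 D19048 (iv D18465) D18464
theorem F74595 : act 2 n19048 = n18792 := d16_1 D19048 (iv D18792) (iv F72380)
theorem F74596 : act 3 n19048 = n18916 := d21_1 D19048 (iv D18916) F71770 (iv F70212) (iv F72381)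
theorem F74597 : act 8 n19048 = n18793 := d29_2 (iv F72383) D19048 (iv D18793)
def n19049 : Q := act 5 n18465
theorem D19049 : act 5 n18465 = n19049 := rfl
theorem F74598 : act 1 n19049 = n18466 := d11_1 D19049 (iv D18466) (iv F72384)
theorem F74599 : act 2 n19049 = n18808 := d17_1 D19049 (iv D18808) (iv F72385)
theorem F74600 : act 3 n19049 = n18917 := d22_1 D19049 (iv D18917) (iv F72386)
theorem F74601 : act 4 n19049 = n18812 := d26_1 D19049 (iv D18812) (iv D18202) (iv F70197) D18465
theorem F74602 : act 8 n19049 = n18809 := d32_2 (iv F72387) D19049 (iv D18809)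
def n19050 : Q := act 6 n18466
theorem D19050 : act 6 n18466 = n19050 := rfl
theorem F74603 : act 2 n19050 = n18467 := d18_1 D19050 (iv D18467) (iv F72388)
theorem F74604 : act 3 n19050 = n18918 := d23_1 D19050 (iv D18918) (iv F72389)
def n19051 : Q := act 7 n18468
theorem D19051 : act 7 n18468 = n19051 := rfl
theorem F74605 : act 1 n19051 = n18611 := d13_1 D19051 F72961 (iv F72391)
theorem F74606 : act 2 n19051 = n18621 := d19_1 D19051 F72990 (iv F72392)
theorem F74607 : act 3 n19051 = n19051 := d24_1 D19051 (iv D19051) (iv D18468) F70209 D18468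
theorem F74608 : act 5 n19051 = n18613 := d31_1 D19051 F72970 (iv F72393)
theorem F74609 : act 6 n19051 = n18960 := d33_1 D19051 (iv D18960) (iv F72394)
theorem F74610 : act 8 n19051 = n18837 := d35_2 (iv F72395) D19051 F73759 F71569 (iv F71509)
def n19052 : Q := act 4 n18471
theorem D19052 : act 4 n18471 = n19052 := rfl
theorem F74611 : act 0 n19052 = n18871 := d3_1 D19052 F73861 F72414
theorem F74612 : act 1 n19052 = n18472 := d10_1 D19052 (iv D18472) D18471
theorem F74613 : act 2 n19052 = n18654 := d16_1 D19052 F73113 (iv F72409)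
theorem F74614 : act 6 n19052 = n18498 := d27_2 (iv F72412) D19052 (iv D18498)
theorem F74615 : act 7 n19052 = n18474 := d28_2 (iv F72413) D19052 (iv D18474)
def n19053 : Q := act 3 n18472
theorem D19053 : act 3 n18472 = n19053 := rfl
theorem F74616 : act 4 n19053 = n19053 := d21_2 D18472 D19053 (iv D19053) (iv D18472) F70227
theorem F74617 : act 6 n19053 = n18499 := d23_2 (iv F72416) D19053 (iv D18499)
theorem F74618 : act 7 n19053 = n18770 := d24_2 (iv F72417) D19053 (iv D18770) F71289 (iv F70241)
def n19054 : Q := act 5 n18472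
theorem D19054 : act 5 n18472 = n19054 := rfl
theorem F74619 : act 2 n19054 = n18473 := d17_1 D19054 (iv D18473) (iv F72415)
theorem F74620 : act 4 n19054 = n18867 := d26_1 D19054 (iv D18867) (iv D18267) (iv F70228) D18472
theorem F74621 : act 7 n19054 = n18475 := d31_2 (iv F72417) D19054 (iv D18475)
def n19055 : Q := act 6 n18473
theorem D19055 : act 6 n18473 = n19055 := rfl
theorem F74622 : act 1 n19055 = n18881 := d12_1 D19055 (iv D18881) (iv F72418)
theorem F74623 : act 4 n19055 = n18868 := d27_1 D19055 (iv D18868) (iv F72419)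
theorem F74624 : act 5 n19055 = n18501 := d30_1 D19055 (iv D18501) (iv D17885) (iv F70232) D18473
theorem F74625 : act 7 n19055 = n18476 := d33_2 (iv F72420) D19055 (iv D18476)
def n19056 : Q := act 5 n18474
theorem D19056 : act 5 n18474 = n19056 := rfl
theorem F74626 : act 0 n19056 = n18870 := d4_1 D19056 (iv D18870) (iv F72421)
theorem F74627 : act 1 n19056 = n18475 := d11_1 D19056 (iv D18475) (iv F72422)
theorem F74628 : act 2 n19056 = n18653 := d17_1 D19056 (iv D18653) (iv F72423)
theorem F74629 : act 3 n19056 = n18651 := d22_1 D19056 (iv D18651) (iv F72424)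
theorem F74630 : act 4 n19056 = n18869 := d26_1 D19056 (iv D18869) (iv D18269) (iv F70236) D18474
theorem F74631 : act 8 n19056 = n18533 := d32_2 (iv F72426) D19056 (iv D18533)
def n19057 : Q := act 6 n18475
theorem D19057 : act 6 n18475 = n19057 := rfl
theorem F74632 : act 2 n19057 = n18476 := d18_1 D19057 (iv D18476) (iv F72427)
theorem F74633 : act 3 n19057 = n18775 := d23_1 D19057 (iv D18775) (iv F72428)
theorem F74634 : act 4 n19057 = n18872 := d27_1 D19057 (iv D18872) (iv F72429)
theorem F74635 : act 5 n19057 = n18508 := d30_1 D19057 (iv D18508) (iv D17892) (iv F70242) D18475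
theorem F74636 : act 8 n19057 = n18534 := d34_2 (iv F72430) D19057 (iv D18534)
def n19058 : Q := act 5 n18478
theorem D19058 : act 5 n18478 = n19058 := rfl
theorem F74637 : act 0 n19058 = n18807 := d4_1 D19058 (iv D18807) (iv F72441)
theorem F74638 : act 1 n19058 = n18493 := d11_1 D19058 (iv D18493) (iv F72442)
theorem F74639 : act 4 n19058 = n18482 := d26_1 D19058 (iv D18482) (iv D17871) (iv F70257) D18478
theorem F74640 : act 7 n19058 = n18483 := d31_2 (iv F72444) D19058 (iv D18483)
def n19059 : Q := act 4 n18479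
theorem D19059 : act 4 n18479 = n19059 := rfl
theorem F74641 : act 0 n19059 = n18783 := d3_1 D19059 (iv D18783) (iv F72445)
theorem F74642 : act 1 n19059 = n18683 := d10_1 D19059 F73218 F72450
theorem F74643 : act 2 n19059 = n18480 := d16_1 D19059 (iv D18480) D18479
theorem F74644 : act 3 n19059 = n18776 := d21_1 D19059 (iv D18776) F71303 (iv F70695) (iv F72446)
theorem F74645 : act 6 n19059 = n18878 := d27_2 (iv F72447) D19059 (iv D18878)
theorem F74646 : act 7 n19059 = n18552 := d28_2 (iv F72448) D19059 (iv D18552)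
theorem F74647 : act 8 n19059 = n18481 := d29_2 (iv F72449) D19059 (iv D18481)
def n19060 : Q := act 5 n18480
theorem D19060 : act 5 n18480 = n19060 := rfl
theorem F74648 : act 0 n19060 = n18784 := d4_1 D19060 (iv D18784) (iv F72451)
theorem F74649 : act 1 n19060 = n18496 := d11_1 D19060 (iv D18496) (iv F72452)
theorem F74650 : act 3 n19060 = n18656 := d22_1 D19060 (iv D18656) (iv F72453)
theorem F74651 : act 7 n19060 = n18553 := d31_2 (iv F72455) D19060 (iv D18553)
theorem F74652 : act 8 n19060 = n18482 := d32_2 (iv F72456) D19060 (iv D18482)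
def n19061 : Q := act 5 n18481
theorem D19061 : act 5 n18481 = n19061 := rfl
theorem F74653 : act 0 n19061 = n18934 := d4_1 D19061 (iv D18934) (iv F72457)
theorem F74654 : act 1 n19061 = n18682 := d11_1 D19061 F73217 (iv F72458)
theorem F74655 : act 2 n19061 = n18482 := d17_1 D19061 (iv D18482) (iv F72459)
theorem F74656 : act 3 n19061 = n19019 := d22_1 D19061 F74461 (iv F72460)
theorem F74657 : act 7 n19061 = n18484 := d31_2 (iv F72462) D19061 (iv D18484)
def n19062 : Q := act 6 n18482
theorem D19062 : act 6 n18482 = n19062 := rfl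
theorem F74658 : act 0 n19062 = n18935 := d5_1 D19062 (iv D18935) (iv F72463)
theorem F74659 : act 1 n19062 = n18501 := d12_1 D19062 (iv D18501) (iv F72464)
theorem F74660 : act 5 n19062 = n18881 := d30_1 D19062 (iv D18881) (iv D18280) (iv F70272) D18482
theorem F74661 : act 7 n19062 = n18485 := d33_2 (iv F72465) D19062 (iv D18485)
def n19063 : Q := act 6 n18483
theorem D19063 : act 6 n18483 = n19063 := rfl
theorem F74662 : act 0 n19063 = n18818 := d5_1 D19063 (iv D18818) (iv F72466)
theorem F74663 : act 1 n19063 = n18505 := d12_1 D19063 (iv D18505) (iv F72467)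
theorem F74664 : act 3 n19063 = n18774 := d23_1 D19063 (iv D18774) (iv F72468)
theorem F74665 : act 4 n19063 = n18485 := d27_1 D19063 (iv D18485) (iv F72469)
theorem F74666 : act 5 n19063 = n18802 := d30_1 D19063 (iv D18802) (iv D18192) (iv F70277) D18483
theorem F74667 : act 8 n19063 = n18562 := d34_2 (iv F72470) D19063 (iv D18562)
def n19064 : Q := act 6 n18484
theorem D19064 : act 6 n18484 = n19064 := rfl
theorem F74668 : act 0 n19064 = n18954 := d5_1 D19064 (iv D18954) (iv F72471)
theorem F74669 : act 1 n19064 = n18681 := d12_1 D19064 (iv D18681) (iv F72472)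
theorem F74670 : act 2 n19064 = n18485 := d18_1 D19064 (iv D18485) (iv F72473)
theorem F74671 : act 3 n19064 = n18600 := d23_1 D19064 (iv D18600) (iv F72474)
theorem F74672 : act 5 n19064 = n18892 := d30_1 D19064 (iv D18892) (iv D18289) (iv F70283) D18484
theorem F74673 : act 8 n19064 = n18564 := d34_2 (iv F72475) D19064 (iv D18564)
def n19065 : Q := act 4 n18486
theorem D19065 : act 4 n18486 = n19065 := rfl
theorem F74674 : act 2 n19065 = n18487 := d16_1 D19065 (iv D18487) D18486
theorem F74675 : act 7 n19065 = n18776 := d28_2 (iv F72482) D19065 (iv D18776)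
theorem F74676 : act 8 n19065 = n18992 := d29_2 (iv F72483) D19065 F74318
def n19066 : Q := act 5 n18487
theorem D19066 : act 5 n18487 = n19066 := rfl
theorem F74677 : act 3 n19066 = n18493 := d22_1 D19066 (iv D18493) (iv F72484)
theorem F74678 : act 7 n19066 = n18777 := d31_2 (iv F72485) D19066 (iv D18777)
def n19067 : Q := act 5 n18488
theorem D19067 : act 5 n18488 = n19067 := rfl
theorem F74679 : act 0 n19067 = n18672 := d4_1 D19067 (iv D18672) (iv F72486)
theorem F74680 : act 1 n19067 = n18794 := d11_1 D19067 (iv D18794) (iv F72487)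
theorem F74681 : act 4 n19067 = n18663 := d26_1 D19067 (iv D18663) (iv D18049) (iv F70295) D18488
theorem F74682 : act 7 n19067 = n18502 := d31_2 (iv F72489) D19067 (iv D18502)
theorem F74683 : act 8 n19067 = n19066 := d32_2 (iv F72490) D19067 (iv D19066)
def n19068 : Q := act 1 n18489
theorem D19068 : act 1 n18489 = n19068 := rfl
theorem F74684 : act 0 n19068 = n18551 := d0_1 D19068 (iv D18551) (iv F72689) (iv F73165) F73164
theorem F74685 : act 2 n19068 = n18573 := d8_2 D18489 D19068 F73596 (iv D18790) F71354
theorem F74686 : act 3 n19068 = n19068 := d9_2 F72491 D19068 (iv D19068)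
theorem F74687 : act 5 n19068 = n18494 := d11_2 (iv F72492) D19068 (iv D18494)
theorem F74688 : act 6 n19068 = n18897 := d12_2 (iv F72493) D19068 F73946
theorem F74689 : act 7 n19068 = n18567 := d13_2 (iv F72494) D19068 (iv D18567)
theorem F74690 : act 8 n19068 = n18491 := d14_2 (iv F72495) D19068 (iv D18491)
def n19069 : Q := act 4 n18489
theorem D19069 : act 4 n18489 = n19069 := rfl
theorem F74691 : act 2 n19069 = n18490 := d16_1 D19069 (iv D18490) D18489
theorem F74692 : act 6 n19069 = n19065 := d27_2 (iv F72493) D19069 (iv D19065)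
theorem F74693 : act 7 n19069 = n18568 := d28_2 (iv F72494) D19069 (iv D18568)
theorem F74694 : act 8 n19069 = n18492 := d29_2 (iv F72495) D19069 (iv D18492)
def n19070 : Q := act 5 n18490
theorem D19070 : act 5 n18490 = n19070 := rfl
theorem F74695 : act 3 n19070 = n19067 := d22_1 D19070 (iv D19067) (iv F72496)
theorem F74696 : act 4 n19070 = n18496 := d26_1 D19070 (iv D18496) (iv D17882) (iv F70299) D18490
theorem F74697 : act 7 n19070 = n18569 := d31_2 (iv F72498) D19070 (iv D18569)
theorem F74698 : act 8 n19070 = n18493 := d32_2 (iv F72499) D19070 (iv D18493)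
def n19071 : Q := act 4 n18491
theorem D19071 : act 4 n18491 = n19071 := rfl
theorem F74699 : act 0 n19071 = n18554 := d3_1 D19071 (iv D18554) (iv F72500)
theorem F74700 : act 1 n19071 = n18492 := d10_1 D19071 (iv D18492) D18491
theorem F74701 : act 2 n19071 = n18578 := d16_1 D19071 (iv D18578) (iv F72501)
theorem F74702 : act 6 n19071 = n18851 := d27_2 (iv F72504) D19071 F73811
theorem F74703 : act 7 n19071 = n18503 := d28_2 (iv F72505) D19071 (iv D18503)
def n19072 : Q := act 3 n18492
theorem D19072 : act 3 n18492 = n19072 := rfl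
theorem F74704 : act 4 n19072 = n19072 := d21_2 D18492 D19072 (iv D19072) (iv D18492) F70303
def n19073 : Q := act 5 n18492
theorem D19073 : act 5 n18492 = n19073 := rfl
theorem F74705 : act 2 n19073 = n18493 := d17_1 D19073 (iv D18493) (iv F72506)
theorem F74706 : act 4 n19073 = n18500 := d26_1 D19073 (iv D18500) (iv D17884) (iv F70304) D18492
theorem F74707 : act 7 n19073 = n18504 := d31_2 (iv F72507) D19073 (iv D18504)
def n19074 : Q := act 6 n18493
theorem D19074 : act 6 n18493 = n19074 := rfl
theorem F74708 : act 4 n19074 = n18501 := d27_1 D19074 (iv D18501) (iv F72508)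
theorem F74709 : act 7 n19074 = n18505 := d33_2 (iv F72509) D19074 (iv D18505)
def n19075 : Q := act 0 n18494
theorem D19075 : act 0 n18494 = n19075 := rfl
theorem F74710 : act 1 n19075 = n18547 := d0_2 D18494 D19075 F72738 F72718 F72096
theorem F74711 : act 2 n19075 = n18567 := d1_2 (iv F72510) D19075 F72797
theorem F74712 : act 3 n19075 = n19075 := d2_2 F72511 D19075 (iv D19075)
theorem F74713 : act 5 n19075 = n18551 := d4_2 F74687 D19075 (iv F74684)
theorem F74714 : act 6 n19075 = n18898 := d5_2 F74184 D19075 (iv F74180)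
theorem F74715 : act 7 n19075 = n18573 := d6_2 (iv F72512) D19075 (iv D18573)
theorem F74716 : act 8 n19075 = n18497 := d7_2 (iv F72513) D19075 (iv D18497)
def n19076 : Q := act 4 n18494
theorem D19076 : act 4 n18494 = n19076 := rfl
theorem F74717 : act 1 n19076 = n18495 := d10_1 D19076 (iv D18495) D18494
theorem F74718 : act 2 n19076 = n18683 := d16_1 D19076 F73218 (iv F72510)
theorem F74719 : act 7 n19076 = n18574 := d28_2 (iv F72512) D19076 (iv D18574)
theorem F74720 : act 8 n19076 = n18498 := d29_2 (iv F72513) D19076 (iv D18498)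
def n19077 : Q := act 3 n18495
theorem D19077 : act 3 n18495 = n19077 := rfl
theorem F74721 : act 4 n19077 = n19077 := d21_2 D18495 D19077 (iv D19077) (iv D18495) F70307
theorem F74722 : act 8 n19077 = n18499 := d25_2 (iv F72516) D19077 (iv D18499)
def n19078 : Q := act 5 n18495
theorem D19078 : act 5 n18495 = n19078 := rfl
theorem F74723 : act 2 n19078 = n18496 := d17_1 D19078 (iv D18496) (iv F72514)
theorem F74724 : act 7 n19078 = n18576 := d31_2 (iv F72515) D19078 (iv D18576)
theorem F74725 : act 8 n19078 = n18500 := d32_2 (iv F72516) D19078 (iv D18500)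
def n19079 : Q := act 6 n18496
theorem D19079 : act 6 n18496 = n19079 := rfl
theorem F74726 : act 7 n19079 = n18577 := d33_2 (iv F72517) D19079 (iv D18577)
theorem F74727 : act 8 n19079 = n18501 := d34_2 (iv F72518) D19079 (iv D18501)
def n19080 : Q := act 4 n18497
theorem D19080 : act 4 n18497 = n19080 := rfl
theorem F74728 : act 0 n19080 = n18498 := d3_1 D19080 (iv D18498) D18497
theorem F74729 : act 1 n19080 = n18549 := d10_1 D19080 (iv D18549) (iv F72519)
theorem F74730 : act 2 n19080 = n18570 := d16_1 D19080 (iv D18570) (iv F72520)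
theorem F74731 : act 6 n19080 = n18871 := d27_2 (iv F72523) D19080 F73861
theorem F74732 : act 7 n19080 = n18506 := d28_2 (iv F72524) D19080 (iv D18506)
def n19081 : Q := act 3 n18498
theorem D19081 : act 3 n18498 = n19081 := rfl
theorem F74733 : act 1 n19081 = n18499 := d9_1 D19081 (iv D18499) (iv F72525)
theorem F74734 : act 4 n19081 = n19081 := d21_2 D18498 D19081 (iv D19081) (iv D18498) F70313
theorem F74735 : act 7 n19081 = n18675 := d24_2 (iv F72527) D19081 (iv D18675) F70964 (iv F70342)
def n19082 : Q := act 5 n18498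
theorem D19082 : act 5 n18498 = n19082 := rfl
theorem F74736 : act 1 n19082 = n18500 := d11_1 D19082 (iv D18500) (iv F72525)
theorem F74737 : act 2 n19082 = n18682 := d17_1 D19082 F73217 (iv F72526)
theorem F74738 : act 7 n19082 = n18507 := d31_2 (iv F72527) D19082 (iv D18507)
def n19083 : Q := act 5 n18499
theorem D19083 : act 5 n18499 = n19083 := rfl
theorem F74739 : act 3 n19083 = n18500 := d22_1 D19083 (iv D18500) D18499
theorem F74740 : act 7 n19083 = n18929 := d31_2 (iv F72529) D19083 (iv D18929)
def n19084 : Q := act 6 n18500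
theorem D19084 : act 6 n18500 = n19084 := rfl
theorem F74741 : act 2 n19084 = n18501 := d18_1 D19084 (iv D18501) (iv F72530)
theorem F74742 : act 7 n19084 = n18508 := d33_2 (iv F72531) D19084 (iv D18508)
def n19085 : Q := act 6 n18502
theorem D19085 : act 6 n18502 = n19085 := rfl
theorem F74743 : act 0 n19085 = n18679 := d5_1 D19085 (iv D18679) (iv F72533)
theorem F74744 : act 1 n19085 = n18802 := d12_1 D19085 (iv D18802) (iv F72534)
theorem F74745 : act 3 n19085 = n18782 := d23_1 D19085 (iv D18782) (iv F72535)
theorem F74746 : act 4 n19085 = n18665 := d27_1 D19085 (iv D18665) (iv F72536)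
theorem F74747 : act 5 n19085 = n18505 := d30_1 D19085 (iv D18505) (iv D17889) (iv F70321) D18502
theorem F74748 : act 8 n19085 = n18583 := d34_2 (iv F72537) D19085 (iv D18583)
def n19086 : Q := act 5 n18503
theorem D19086 : act 5 n18503 = n19086 := rfl
theorem F74749 : act 0 n19086 = n18563 := d4_1 D19086 (iv D18563) (iv F72538)
theorem F74750 : act 1 n19086 = n18504 := d11_1 D19086 (iv D18504) (iv F72539)
theorem F74751 : act 2 n19086 = n18586 := d17_1 D19086 (iv D18586) (iv F72540)
theorem F74752 : act 3 n19086 = n18634 := d22_1 D19086 (iv D18634) (iv F72541)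
theorem F74753 : act 4 n19086 = n18507 := d26_1 D19086 (iv D18507) (iv D17891) (iv F70326) D18503
theorem F74754 : act 8 n19086 = n18584 := d32_2 (iv F72543) D19086 (iv D18584)
def n19087 : Q := act 6 n18504
theorem D19087 : act 6 n18504 = n19087 := rfl
theorem F74755 : act 2 n19087 = n18505 := d18_1 D19087 (iv D18505) (iv F72544)
theorem F74756 : act 4 n19087 = n18508 := d27_1 D19087 (iv D18508) (iv F72545)
theorem F74757 : act 8 n19087 = n18585 := d34_2 (iv F72546) D19087 (iv D18585)
def n19088 : Q := act 5 n18506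
theorem D19088 : act 5 n18506 = n19088 := rfl
theorem F74758 : act 0 n19088 = n18507 := d4_1 D19088 (iv D18507) (iv F72550)
theorem F74759 : act 1 n19088 = n18561 := d11_1 D19088 (iv D18561) (iv F72551)
theorem F74760 : act 2 n19088 = n18584 := d17_1 D19088 (iv D18584) (iv F72552)
theorem F74761 : act 3 n19088 = n18664 := d22_1 D19088 (iv D18664) (iv F72553)
theorem F74762 : act 4 n19088 = n18563 := d26_1 D19088 (iv D18563) (iv D17942) (iv F70337) D18506
theorem F74763 : act 8 n19088 = n18586 := d32_2 (iv F72555) D19088 (iv D18586)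
def n19089 : Q := act 6 n18507
theorem D19089 : act 6 n18507 = n19089 := rfl
theorem F74764 : act 1 n19089 = n18508 := d12_1 D19089 (iv D18508) (iv F72556)
theorem F74765 : act 2 n19089 = n18681 := d18_1 D19089 (iv D18681) (iv F72557)
theorem F74766 : act 3 n19089 = n18680 := d23_1 D19089 (iv D18680) (iv F72558)
theorem F74767 : act 8 n19089 = n18587 := d34_2 (iv F72559) D19089 (iv D18587)
def n19090 : Q := act 3 n18509
theorem D19090 : act 3 n18509 = n19090 := rfl
theorem F74768 : act 1 n19090 = n18616 := d9_1 D19090 (iv D18616) (iv F72563)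
theorem F74769 : act 4 n19090 = n19090 := d21_2 D18509 D19090 (iv D19090) (iv D18509) F70350
theorem F74770 : act 6 n19090 = n18704 := d23_2 (iv F72565) D19090 (iv D18704)
theorem F74771 : act 7 n19090 = n18555 := d24_2 (iv F72566) D19090 (iv D18555) F70521 (iv F70361)
theorem F74772 : act 8 n19090 = n18966 := d25_2 (iv F72567) D19090 (iv D18966)
def n19091 : Q := act 5 n18509
theorem D19091 : act 5 n18509 = n19091 := rfl
theorem F74773 : act 1 n19091 = n18617 := d11_1 D19091 (iv D18617) (iv F72563)
theorem F74774 : act 2 n19091 = n18510 := d17_1 D19091 (iv D18510) (iv F72564)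
theorem F74775 : act 4 n19091 = n18835 := d26_1 D19091 (iv D18835) (iv D18240) (iv F70351) D18509
theorem F74776 : act 7 n19091 = n18511 := d31_2 (iv F72566) D19091 (iv D18511)
theorem F74777 : act 8 n19091 = n18967 := d32_2 (iv F72567) D19091 (iv D18967)
def n19092 : Q := act 6 n18510
theorem D19092 : act 6 n18510 = n19092 := rfl
theorem F74778 : act 1 n19092 = n18595 := d12_1 D19092 (iv D18595) (iv F72568)
theorem F74779 : act 4 n19092 = n18836 := d27_1 D19092 (iv D18836) (iv F72569)
theorem F74780 : act 5 n19092 = n18706 := d30_1 D19092 (iv D18706) (iv D18097) (iv F70356) D18510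
theorem F74781 : act 7 n19092 = n18512 := d33_2 (iv F72570) D19092 (iv D18512)
theorem F74782 : act 8 n19092 = n18968 := d34_2 (iv F72571) D19092 (iv D18968)
def n19093 : Q := act 6 n18511
theorem D19093 : act 6 n18511 = n19093 := rfl
theorem F74783 : act 1 n19093 = n18638 := d12_1 D19093 (iv D18638) (iv F72572)
theorem F74784 : act 2 n19093 = n18512 := d18_1 D19093 (iv D18512) (iv F72573)
theorem F74785 : act 3 n19093 = n18564 := d23_1 D19093 (iv D18564) (iv F72574)
theorem F74786 : act 4 n19093 = n18852 := d27_1 D19093 (iv D18852) (iv F72575)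
theorem F74787 : act 5 n19093 = n18709 := d30_1 D19093 (iv D18709) (iv D18100) (iv F70362) D18511
theorem F74788 : act 8 n19093 = n18600 := d34_2 (iv F72576) D19093 (iv D18600)
def n19094 : Q := act 4 n18514
theorem D19094 : act 4 n18514 = n19094 := rfl
theorem F74789 : act 0 n19094 = n18851 := d3_1 D19094 F73811 (iv F72589)
theorem F74790 : act 1 n19094 = n18515 := d10_1 D19094 (iv D18515) D18514
theorem F74791 : act 2 n19094 = n18525 := d16_1 D19094 (iv D18525) (iv F72590)
theorem F74792 : act 6 n19094 = n18554 := d27_2 (iv F72593) D19094 (iv D18554)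
theorem F74793 : act 7 n19094 = n18517 := d28_2 (iv F72594) D19094 (iv D18517)
def n19095 : Q := act 3 n18515
theorem D19095 : act 3 n18515 = n19095 := rfl
theorem F74794 : act 0 n19095 = n18923 := d2_1 D19095 (iv D18923) (iv F72595)
theorem F74795 : act 2 n19095 = n19090 := d15_1 D19095 (iv D19090) F72564 (iv F70385) (iv F72596)
theorem F74796 : act 4 n19095 = n19095 := d21_2 D18515 D19095 (iv D19095) (iv D18515) F70379
theorem F74797 : act 6 n19095 = n18555 := d23_2 (iv F72597) D19095 (iv D18555)
theorem F74798 : act 7 n19095 = n18704 := d24_2 (iv F72598) D19095 (iv D18704) F71091 (iv F70396)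
def n19096 : Q := act 5 n18515
theorem D19096 : act 5 n18515 = n19096 := rfl
theorem F74799 : act 0 n19096 = n18924 := d4_1 D19096 (iv D18924) (iv F72595)
theorem F74800 : act 2 n19096 = n18516 := d17_1 D19096 (iv D18516) (iv F72596)
theorem F74801 : act 4 n19096 = n18858 := d26_1 D19096 (iv D18858) (iv D18259) (iv F70380) D18515
theorem F74802 : act 7 n19096 = n18518 := d31_2 (iv F72598) D19096 (iv D18518)
def n19097 : Q := act 6 n18516
theorem D19097 : act 6 n18516 = n19097 := rfl
theorem F74803 : act 0 n19097 = n18925 := d5_1 D19097 (iv D18925) (iv F72599)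
theorem F74804 : act 1 n19097 = n18527 := d12_1 D19097 (iv D18527) (iv F72600)
theorem F74805 : act 3 n19097 = n19092 := d23_1 D19097 (iv D19092) (iv F72601)
theorem F74806 : act 4 n19097 = n18859 := d27_1 D19097 (iv D18859) (iv F72602)
theorem F74807 : act 5 n19097 = n18557 := d30_1 D19097 (iv D18557) (iv D17937) (iv F70386) D18516
theorem F74808 : act 7 n19097 = n18519 := d33_2 (iv F72603) D19097 (iv D18519)
def n19098 : Q := act 5 n18517
theorem D19098 : act 5 n18517 = n19098 := rfl
theorem F74809 : act 0 n19098 = n18850 := d4_1 D19098 (iv D18850) (iv F72604)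
theorem F74810 : act 1 n19098 = n18518 := d11_1 D19098 (iv D18518) (iv F72605)
theorem F74811 : act 2 n19098 = n18533 := d17_1 D19098 (iv D18533) (iv F72606)
theorem F74812 : act 3 n19098 = n18632 := d22_1 D19098 (iv D18632) (iv F72607)
theorem F74813 : act 4 n19098 = n18860 := d26_1 D19098 (iv D18860) (iv D18261) (iv F70391) D18517
theorem F74814 : act 8 n19098 = n18653 := d32_2 (iv F72609) D19098 (iv D18653)
def n19099 : Q := act 6 n18518
theorem D19099 : act 6 n18518 = n19099 := rfl
theorem F74815 : act 0 n19099 = n18931 := d5_1 D19099 (iv D18931) (iv F72610)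
theorem F74816 : act 2 n19099 = n18519 := d18_1 D19099 (iv D18519) (iv F72611)
theorem F74817 : act 3 n19099 = n18709 := d23_1 D19099 (iv D18709) (iv F72612)
theorem F74818 : act 4 n19099 = n18861 := d27_1 D19099 (iv D18861) (iv F72613)
theorem F74819 : act 5 n19099 = n18564 := d30_1 D19099 (iv D18564) (iv D17943) (iv F70397) D18518
theorem F74820 : act 8 n19099 = n18892 := d34_2 (iv F72614) D19099 (iv D18892)
def n19100 : Q := act 5 n18520
theorem D19100 : act 5 n18520 = n19100 := rfl
theorem F74821 : act 0 n19100 = n18636 := d4_1 D19100 (iv D18636) (iv F72621)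
theorem F74822 : act 1 n19100 = n18759 := d11_1 D19100 (iv D18759) (iv F72622)
theorem F74823 : act 2 n19100 = n18950 := d17_1 D19100 (iv D18950) (iv F72623)
theorem F74824 : act 4 n19100 = n18566 := d26_1 D19100 (iv D18566) (iv D17946) (iv F70412) D18520
theorem F74825 : act 7 n19100 = n18528 := d31_2 (iv F72625) D19100 (iv D18528)
def n19101 : Q := act 4 n18521
theorem D19101 : act 4 n18521 = n19101 := rfl
theorem F74826 : act 0 n19101 = n18798 := d3_1 D19101 (iv D18798) (iv F72626)
theorem F74827 : act 1 n19101 = n18522 := d10_1 D19101 (iv D18522) D18521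
theorem F74828 : act 2 n19101 = n18856 := d16_1 D19101 (iv D18856) (iv F72627)
theorem F74829 : act 6 n19101 = n18887 := d27_2 (iv F72630) D19101 (iv D18887)
theorem F74830 : act 7 n19101 = n18529 := d28_2 (iv F72631) D19101 (iv D18529)
def n19102 : Q := act 3 n18522
theorem D19102 : act 3 n18522 = n19102 := rfl
theorem F74831 : act 0 n19102 = n18814 := d2_1 D19102 (iv D18814) (iv F72632)
theorem F74832 : act 4 n19102 = n18588 := d21_2 D18522 D19102 (iv D18588) (iv D17968) (iv F70416)
theorem F74833 : act 6 n19102 = n18949 := d23_2 (iv F72634) D19102 (iv D18949)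
def n19103 : Q := act 5 n18522
theorem D19103 : act 5 n18522 = n19103 := rfl
theorem F74834 : act 0 n19103 = n18815 := d4_1 D19103 (iv D18815) (iv F72632)
theorem F74835 : act 2 n19103 = n18523 := d17_1 D19103 (iv D18523) (iv F72633)
theorem F74836 : act 4 n19103 = n18526 := d26_1 D19103 (iv D18526) (iv D17910) (iv F70417) D18522
theorem F74837 : act 7 n19103 = n18531 := d31_2 (iv F72635) D19103 (iv D18531)
def n19104 : Q := act 6 n18523
theorem D19104 : act 6 n18523 = n19104 := rfl
theorem F74838 : act 0 n19104 = n18827 := d5_1 D19104 (iv D18827) (iv F72636)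
theorem F74839 : act 1 n19104 = n18859 := d12_1 D19104 (iv D18859) (iv F72637)
theorem F74840 : act 4 n19104 = n18527 := d27_1 D19104 (iv D18527) (iv F72638)
theorem F74841 : act 7 n19104 = n18532 := d33_2 (iv F72639) D19104 (iv D18532)
def n19105 : Q := act 4 n18524
theorem D19105 : act 4 n18524 = n19105 := rfl
theorem F74842 : act 0 n19105 = n18525 := d3_1 D19105 (iv D18525) D18524
theorem F74843 : act 1 n19105 = n18793 := d10_1 D19105 (iv D18793) (iv F72640)
theorem F74844 : act 2 n19105 = n18851 := d16_1 D19105 F73811 (iv F72641)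
theorem F74845 : act 6 n19105 = n18578 := d27_2 (iv F72644) D19105 (iv D18578)
theorem F74846 : act 7 n19105 = n18530 := d28_2 (iv F72645) D19105 F72668
def n19106 : Q := act 5 n18525
theorem D19106 : act 5 n18525 = n19106 := rfl
theorem F74847 : act 1 n19106 = n18526 := d11_1 D19106 (iv D18526) (iv F72646)
theorem F74848 : act 7 n19106 = n18533 := d31_2 (iv F72648) D19106 (iv D18533)
def n19107 : Q := act 6 n18526
theorem D19107 : act 6 n18526 = n19107 := rfl
theorem F74849 : act 2 n19107 = n18527 := d18_1 D19107 (iv D18527) (iv F72649)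
theorem F74850 : act 5 n19107 = n18582 := d30_1 D19107 (iv D18582) (iv D17958) (iv F70427) D18526
theorem F74851 : act 7 n19107 = n18534 := d33_2 (iv F72650) D19107 (iv D18534)
def n19108 : Q := act 6 n18528
theorem D19108 : act 6 n18528 = n19108 := rfl
theorem F74852 : act 0 n19108 = n18637 := d5_1 D19108 (iv D18637) (iv F72653)
theorem F74853 : act 1 n19108 = n18762 := d12_1 D19108 (iv D18762) (iv F72654)
theorem F74854 : act 2 n19108 = n18958 := d18_1 D19108 (iv D18958) (iv F72655)
theorem F74855 : act 3 n19108 = n18635 := d23_1 D19108 (iv D18635) (iv F72656)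
theorem F74856 : act 4 n19108 = n18583 := d27_1 D19108 (iv D18583) (iv F72657)
theorem F74857 : act 5 n19108 = n18532 := d30_1 D19108 (iv D18532) (iv D17915) (iv F70434) D18528
theorem F74858 : act 8 n19108 = n18665 := d34_2 (iv F72658) D19108 (iv D18665)
def n19109 : Q := act 5 n18529
theorem D19109 : act 5 n18529 = n19109 := rfl
theorem F74859 : act 0 n19109 = n18803 := d4_1 D19109 (iv D18803) (iv F72659)
theorem F74860 : act 1 n19109 = n18531 := d11_1 D19109 (iv D18531) (iv F72660)
theorem F74861 : act 2 n19109 = n18860 := d17_1 D19109 (iv D18860) (iv F72661)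
theorem F74862 : act 3 n19109 = n18801 := d22_1 D19109 (iv D18801) (iv F72662)
theorem F74863 : act 4 n19109 = n18533 := d26_1 D19109 (iv D18533) (iv D17917) (iv F70439) D18529
theorem F74864 : act 8 n19109 = n18869 := d32_2 (iv F72664) D19109 (iv D18869)
def n19110 : Q := act 5 n18530
theorem D19110 : act 5 n18530 = n19110 := rfl
theorem F74865 : act 0 n19110 = n18533 := d4_1 D19110 (iv D18533) (iv F72665)
theorem F74866 : act 1 n19110 = n18801 := d11_1 D19110 (iv D18801) (iv F72666)
theorem F74867 : act 2 n19110 = n18850 := d17_1 D19110 (iv D18850) (iv F72667)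
theorem F74868 : act 3 n19110 = n18531 := d22_1 D19110 (iv D18531) D18530
theorem F74869 : act 4 n19110 = n18803 := d26_1 D19110 (iv D18803) (iv D18193) (iv F70454) (iv F72668)
theorem F74870 : act 8 n19110 = n18870 := d32_2 (iv F72670) D19110 (iv D18870)
def n19111 : Q := act 6 n18531
theorem D19111 : act 6 n18531 = n19111 := rfl
theorem F74871 : act 0 n19111 = n18820 := d5_1 D19111 (iv D18820) (iv F72671)
theorem F74872 : act 2 n19111 = n18532 := d18_1 D19111 (iv D18532) (iv F72672)
theorem F74873 : act 4 n19111 = n18534 := d27_1 D19111 (iv D18534) (iv F72673)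
theorem F74874 : act 5 n19111 = n18958 := d30_1 D19111 (iv D18958) (iv D18361) (iv F70444) D18531
theorem F74875 : act 8 n19111 = n18872 := d34_2 (iv F72674) D19111 (iv D18872)
def n19112 : Q := act 6 n18533
theorem D19112 : act 6 n18533 = n19112 := rfl
theorem F74876 : act 1 n19112 = n18534 := d12_1 D19112 (iv D18534) (iv F72680)
theorem F74877 : act 3 n19112 = n18820 := d23_1 D19112 (iv D18820) (iv F72681)
theorem F74878 : act 5 n19112 = n18587 := d30_1 D19112 (iv D18587) (iv D17965) (iv F70459) D18533
def n19113 : Q := act 5 n18535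
theorem D19113 : act 5 n18535 = n19113 := rfl
theorem F74879 : act 0 n19113 = n18550 := d4_1 D19113 (iv D18550) (iv F72685)
theorem F74880 : act 1 n19113 = n18778 := d11_1 D19113 (iv D18778) (iv F72686)
theorem F74881 : act 4 n19113 = n18539 := d26_1 D19113 (iv D18539) (iv D17923) (iv F70466) D18535
theorem F74882 : act 7 n19113 = n18540 := d31_2 (iv F72688) D19113 (iv D18540)
def n19114 : Q := act 4 n18536
theorem D19114 : act 4 n18536 = n19114 := rfl
theorem F74883 : act 0 n19114 = n18552 := d3_1 D19114 (iv D18552) (iv F72689)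
theorem F74884 : act 2 n19114 = n18537 := d16_1 D19114 (iv D18537) D18536
theorem F74885 : act 6 n19114 = n18921 := d27_2 (iv F72691) D19114 (iv D18921)
theorem F74886 : act 7 n19114 = n18783 := d28_2 (iv F72692) D19114 (iv D18783)
theorem F74887 : act 8 n19114 = n18538 := d29_2 (iv F72693) D19114 (iv D18538)
def n19115 : Q := act 5 n18537
theorem D19115 : act 5 n18537 = n19115 := rfl
theorem F74888 : act 0 n19115 = n18553 := d4_1 D19115 (iv D18553) (iv F72694)
theorem F74889 : act 1 n19115 = n18710 := d11_1 D19115 (iv D18710) (iv F72695)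
theorem F74890 : act 3 n19115 = n18701 := d22_1 D19115 (iv D18701) (iv F72696)
theorem F74891 : act 7 n19115 = n18784 := d31_2 (iv F72698) D19115 (iv D18784)
theorem F74892 : act 8 n19115 = n18539 := d32_2 (iv F72699) D19115 (iv D18539)
def n19116 : Q := act 3 n18538
theorem D19116 : act 3 n18538 = n19116 := rfl
theorem F74893 : act 0 n19116 = n18555 := d2_1 D19116 (iv D18555) (iv F72700)
theorem F74894 : act 4 n19116 = n19116 := d21_2 D18538 D19116 (iv D19116) (iv D18538) F70475
theorem F74895 : act 6 n19116 = n18923 := d23_2 (iv F72702) D19116 (iv D18923)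
def n19117 : Q := act 5 n18538
theorem D19117 : act 5 n18538 = n19117 := rfl
theorem F74896 : act 0 n19117 = n18556 := d4_1 D19117 (iv D18556) (iv F72700)
theorem F74897 : act 2 n19117 = n18539 := d17_1 D19117 (iv D18539) (iv F72701)
theorem F74898 : act 7 n19117 = n18541 := d31_2 (iv F72703) D19117 (iv D18541)
def n19118 : Q := act 6 n18539
theorem D19118 : act 6 n18539 = n19118 := rfl
theorem F74899 : act 0 n19118 = n18557 := d5_1 D19118 (iv D18557) (iv F72704)
theorem F74900 : act 5 n19118 = n18925 := d30_1 D19118 (iv D18925) (iv D18325) (iv F70479) D18539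
theorem F74901 : act 7 n19118 = n18542 := d33_2 (iv F72705) D19118 (iv D18542)
def n19119 : Q := act 6 n18540
theorem D19119 : act 6 n18540 = n19119 := rfl
theorem F74902 : act 0 n19119 = n18562 := d5_1 D19119 (iv D18562) (iv F72706)
theorem F74903 : act 1 n19119 = n18782 := d12_1 D19119 (iv D18782) (iv F72707)
theorem F74904 : act 3 n19119 = n18802 := d23_1 D19119 (iv D18802) (iv F72708)
theorem F74905 : act 4 n19119 = n18542 := d27_1 D19119 (iv D18542) (iv F72709)
theorem F74906 : act 5 n19119 = n18774 := d30_1 D19119 (iv D18774) (iv D18161) (iv F70484) D18540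
theorem F74907 : act 8 n19119 = n18818 := d34_2 (iv F72710) D19119 (iv D18818)
def n19120 : Q := act 6 n18541
theorem D19120 : act 6 n18541 = n19120 := rfl
theorem F74908 : act 0 n19120 = n18564 := d5_1 D19120 (iv D18564) (iv F72711)
theorem F74909 : act 2 n19120 = n18542 := d18_1 D19120 (iv D18542) (iv F72712)
theorem F74910 : act 5 n19120 = n18931 := d30_1 D19120 (iv D18931) (iv D18331) (iv F70488) D18541
theorem F74911 : act 8 n19120 = n18954 := d34_2 (iv F72713) D19120 (iv D18954)
def n19121 : Q := act 4 n18543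
theorem D19121 : act 4 n18543 = n19121 := rfl
theorem F74912 : act 1 n19121 = n18996 := d10_1 D19121 (iv D18996) (iv F72718)
theorem F74913 : act 2 n19121 = n18544 := d16_1 D19121 (iv D18544) D18543
theorem F74914 : act 6 n19121 = n19040 := d27_2 (iv F72721) D19121 (iv D19040)
theorem F74915 : act 7 n19121 = n18805 := d28_2 (iv F72722) D19121 (iv D18805)
theorem F74916 : act 8 n19121 = n18998 := d29_2 (iv F72723) D19121 (iv D18998)
def n19122 : Q := act 5 n18544
theorem D19122 : act 5 n18544 = n19122 := rfl
theorem F74917 : act 1 n19122 = n18565 := d11_1 D19122 (iv D18565) (iv F72724)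
theorem F74918 : act 3 n19122 = n18550 := d22_1 D19122 (iv D18550) (iv F72725)
theorem F74919 : act 4 n19122 = n19115 := d26_1 D19122 (iv D19115) (iv D18537) (iv F70496) D18544
theorem F74920 : act 7 n19122 = n18806 := d31_2 (iv F72726) D19122 (iv D18806)
theorem F74921 : act 8 n19122 = n19113 := d32_2 (iv F72727) D19122 (iv D19113)
def n19123 : Q := act 4 n18545
theorem D19123 : act 4 n18545 = n19123 := rfl
theorem F74922 : act 0 n19123 = n18766 := d3_1 D19123 (iv D18766) (iv F72728)
theorem F74923 : act 1 n19123 = n18871 := d10_1 D19123 F73861 (iv F72729)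
theorem F74924 : act 2 n19123 = n18546 := d16_1 D19123 (iv D18546) D18545
theorem F74925 : act 6 n19123 = n18549 := d27_2 (iv F72732) D19123 (iv D18549)
theorem F74926 : act 7 n19123 = n18558 := d28_2 (iv F72733) D19123 (iv D18558)
def n19124 : Q := act 5 n18546
theorem D19124 : act 5 n18546 = n19124 := rfl
theorem F74927 : act 0 n19124 = n18767 := d4_1 D19124 (iv D18767) (iv F72734)
theorem F74928 : act 1 n19124 = n18566 := d11_1 D19124 (iv D18566) (iv F72735)
theorem F74929 : act 4 n19124 = n18759 := d26_1 D19124 (iv D18759) (iv D18147) (iv F70501) D18546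
theorem F74930 : act 7 n19124 = n18559 := d31_2 (iv F72737) D19124 (iv D18559)
def n19125 : Q := act 4 n18547
theorem D19125 : act 4 n18547 = n19125 := rfl
theorem F74931 : act 0 n19125 = n19121 := d3_1 D19125 (iv D19121) (iv F72738)
theorem F74932 : act 2 n19125 = n18548 := d16_1 D19125 (iv D18548) D18547
theorem F74933 : act 8 n19125 = n18549 := d29_2 (iv F72741) D19125 (iv D18549)
def n19126 : Q := act 5 n18548
theorem D19126 : act 5 n18548 = n19126 := rfl
theorem F74934 : act 0 n19126 = n19122 := d4_1 D19126 (iv D19122) (iv F72742)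
theorem F74935 : act 1 n19126 = n18569 := d11_1 D19126 (iv D18569) (iv F72743)
theorem F74936 : act 3 n19126 = n19113 := d22_1 D19126 (iv D19113) (iv F72744)
theorem F74937 : act 4 n19126 = n18553 := d26_1 D19126 (iv D18553) (iv D17934) (iv F70506) D18548
theorem F74938 : act 8 n19126 = n18550 := d32_2 (iv F72745) D19126 (iv D18550)
def n19127 : Q := act 3 n18549
theorem D19127 : act 3 n18549 = n19127 := rfl
theorem F74939 : act 4 n19127 = n19127 := d21_2 D18549 D19127 (iv D19127) (iv D18549) F70508
def n19128 : Q := act 5 n18549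
theorem D19128 : act 5 n18549 = n19128 := rfl
theorem F74940 : act 2 n19128 = n18550 := d17_1 D19128 (iv D18550) (iv F72746)
theorem F74941 : act 4 n19128 = n18556 := d26_1 D19128 (iv D18556) (iv D17936) (iv F70509) D18549
theorem F74942 : act 7 n19128 = n18561 := d31_2 (iv F72747) D19128 (iv D18561)
def n19129 : Q := act 6 n18550
theorem D19129 : act 6 n18550 = n19129 := rfl
theorem F74943 : act 1 n19129 = n18572 := d12_1 D19129 (iv D18572) (iv F72748)
theorem F74944 : act 4 n19129 = n18557 := d27_1 D19129 (iv D18557) (iv F72749)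
theorem F74945 : act 7 n19129 = n18562 := d33_2 (iv F72750) D19129 (iv D18562)
def n19130 : Q := act 4 n18551
theorem D19130 : act 4 n18551 = n19130 := rfl
theorem F74946 : act 1 n19130 = n18552 := d10_1 D19130 (iv D18552) D18551
theorem F74947 : act 2 n19130 = n18574 := d16_1 D19130 (iv D18574) (iv F72751)
theorem F74948 : act 7 n19130 = n18683 := d28_2 (iv F72753) D19130 F73218
theorem F74949 : act 8 n19130 = n18554 := d29_2 (iv F72754) D19130 (iv D18554)
def n19131 : Q := act 3 n18552
theorem D19131 : act 3 n18552 = n19131 := rfl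
theorem F74950 : act 4 n19131 = n19131 := d21_2 D18552 D19131 (iv D19131) (iv D18552) F70513
theorem F74951 : act 8 n19131 = n18555 := d25_2 (iv F72756) D19131 (iv D18555)
def n19132 : Q := act 5 n18552
theorem D19132 : act 5 n18552 = n19132 := rfl
theorem F74952 : act 2 n19132 = n18553 := d17_1 D19132 (iv D18553) (iv F72755)
theorem F74953 : act 8 n19132 = n18556 := d32_2 (iv F72756) D19132 (iv D18556)
def n19133 : Q := act 6 n18553
theorem D19133 : act 6 n18553 = n19133 := rfl
theorem F74954 : act 1 n19133 = n18577 := d12_1 D19133 (iv D18577) (iv F72757)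
theorem F74955 : act 8 n19133 = n18557 := d34_2 (iv F72758) D19133 (iv D18557)
def n19134 : Q := act 3 n18554
theorem D19134 : act 3 n18554 = n19134 := rfl
theorem F74956 : act 1 n19134 = n18555 := d9_1 D19134 (iv D18555) (iv F72759)
theorem F74957 : act 4 n19134 = n19134 := d21_2 D18554 D19134 (iv D19134) (iv D18554) F70518
theorem F74958 : act 7 n19134 = n18616 := d24_2 (iv F72761) D19134 (iv D18616) F70742 (iv F70541)
def n19135 : Q := act 5 n18554
theorem D19135 : act 5 n18554 = n19135 := rfl
theorem F74959 : act 1 n19135 = n18556 := d11_1 D19135 (iv D18556) (iv F72759)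
theorem F74960 : act 2 n19135 = n18580 := d17_1 D19135 (iv D18580) (iv F72760)
theorem F74961 : act 7 n19135 = n18563 := d31_2 (iv F72761) D19135 (iv D18563)
def n19136 : Q := act 5 n18555
theorem D19136 : act 5 n18555 = n19136 := rfl
theorem F74962 : act 3 n19136 = n18556 := d22_1 D19136 (iv D18556) D18555
def n19137 : Q := act 6 n18556
theorem D19137 : act 6 n18556 = n19137 := rfl
theorem F74963 : act 2 n19137 = n18557 := d18_1 D19137 (iv D18557) (iv F72763)
theorem F74964 : act 7 n19137 = n18564 := d33_2 (iv F72764) D19137 (iv D18564)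
def n19138 : Q := act 5 n18558
theorem D19138 : act 5 n18558 = n19138 := rfl
theorem F74965 : act 0 n19138 = n18773 := d4_1 D19138 (iv D18773) (iv F72767)
theorem F74966 : act 1 n19138 = n18870 := d11_1 D19138 (iv D18870) (iv F72768)
theorem F74967 : act 2 n19138 = n18559 := d17_1 D19138 (iv D18559) (iv F72769)
theorem F74968 : act 3 n19138 = n18869 := d22_1 D19138 (iv D18869) (iv F72770)
theorem F74969 : act 4 n19138 = n18761 := d26_1 D19138 (iv D18761) (iv D18149) (iv F70527) D18558
theorem F74970 : act 8 n19138 = n18801 := d32_2 (iv F72772) D19138 (iv D18801)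
def n19139 : Q := act 6 n18559
theorem D19139 : act 6 n18559 = n19139 := rfl
theorem F74971 : act 0 n19139 = n18774 := d5_1 D19139 (iv D18774) (iv F72773)
theorem F74972 : act 1 n19139 = n18583 := d12_1 D19139 (iv D18583) (iv F72774)
theorem F74973 : act 3 n19139 = n18818 := d23_1 D19139 (iv D18818) (iv F72775)
theorem F74974 : act 4 n19139 = n18762 := d27_1 D19139 (iv D18762) (iv F72776)
theorem F74975 : act 5 n19139 = n18562 := d30_1 D19139 (iv D18562) (iv D17941) (iv F70533) D18559
theorem F74976 : act 8 n19139 = n18802 := d34_2 (iv F72777) D19139 (iv D18802)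
def n19140 : Q := act 5 n18560
theorem D19140 : act 5 n18560 = n19140 := rfl
theorem F74977 : act 0 n19140 = n18860 := d4_1 D19140 (iv D18860) (iv F72778)
theorem F74978 : act 1 n19140 = n18664 := d11_1 D19140 (iv D18664) (iv F72779)
theorem F74979 : act 2 n19140 = n18803 := d17_1 D19140 (iv D18803) (iv F72780)
theorem F74980 : act 3 n19140 = n18561 := d22_1 D19140 (iv D18561) D18560
theorem F74981 : act 4 n19140 = n18850 := d26_1 D19140 (iv D18850) F71591 (iv F70634) (iv F72781)
theorem F74982 : act 8 n19140 = n18873 := d32_2 (iv F72783) D19140 F73865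
def n19141 : Q := act 7 n18560
theorem D19141 : act 7 n18560 = n19141 := rfl
theorem F74983 : act 0 n19141 = n18856 := d6_1 D19141 F73825 (iv F72778)
theorem F74984 : act 1 n19141 = n18662 := d13_1 D19141 F73148 (iv F72779)
theorem F74985 : act 2 n19141 = n18798 := d19_1 D19141 F73629 (iv F72780)
theorem F74986 : act 4 n19141 = n18594 := d28_1 D19141 (iv D18594) (iv F72781)
theorem F74987 : act 6 n19141 = n18865 := d33_1 D19141 F73848 (iv F72782)
def n19142 : Q := act 6 n18561
theorem D19142 : act 6 n18561 = n19142 := rfl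
theorem F74988 : act 2 n19142 = n18562 := d18_1 D19142 (iv D18562) (iv F72784)
theorem F74989 : act 4 n19142 = n18564 := d27_1 D19142 (iv D18564) (iv F72785)
def n19143 : Q := act 6 n18563
theorem D19143 : act 6 n18563 = n19143 := rfl
theorem F74990 : act 1 n19143 = n18564 := d12_1 D19143 (iv D18564) (iv F72789)
theorem F74991 : act 2 n19143 = n18587 := d18_1 D19143 (iv D18587) (iv F72790)
theorem F74992 : act 3 n19143 = n18638 := d23_1 D19143 (iv D18638) (iv F72791)
theorem F74993 : act 8 n19143 = n18681 := d34_2 (iv F72792) D19143 (iv D18681)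
def n19144 : Q := act 6 n18565
theorem D19144 : act 6 n18565 = n19144 := rfl
theorem F74994 : act 3 n19144 = n18572 := d23_1 D19144 (iv D18572) (iv F72794)
theorem F74995 : act 7 n19144 = n18822 := d33_2 (iv F72795) D19144 (iv D18822)
def n19145 : Q := act 6 n18566
theorem D19145 : act 6 n18566 = n19145 := rfl
theorem F74996 : act 5 n19145 = n18572 := d30_1 D19145 (iv D18572) (iv D17951) (iv F70548) D18566
theorem F74997 : act 7 n19145 = n18583 := d33_2 (iv F72796) D19145 (iv D18583)
def n19146 : Q := act 4 n18567
theorem D19146 : act 4 n18567 = n19146 := rfl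
theorem F74998 : act 0 n19146 = n18683 := d3_1 D19146 F73218 (iv F72797)
theorem F74999 : act 1 n19146 = n18568 := d10_1 D19146 (iv D18568) D18567
theorem F75000 : act 6 n19146 = n18876 := d27_2 (iv F72800) D19146 F73871
theorem F75001 : act 8 n19146 = n18570 := d29_2 (iv F72801) D19146 (iv D18570)
def n19147 : Q := act 5 n18568
theorem D19147 : act 5 n18568 = n19147 := rfl
theorem F75002 : act 2 n19147 = n18569 := d17_1 D19147 (iv D18569) (iv F72802)
theorem F75003 : act 4 n19147 = n18576 := d26_1 D19147 (iv D18576) (iv D17953) (iv F70551) D18568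
theorem F75004 : act 8 n19147 = n18571 := d32_2 (iv F72803) D19147 (iv D18571)
def n19148 : Q := act 6 n18569
theorem D19148 : act 6 n18569 = n19148 := rfl
theorem F75005 : act 4 n19148 = n18577 := d27_1 D19148 (iv D18577) (iv F72804)
theorem F75006 : act 8 n19148 = n18572 := d34_2 (iv F72805) D19148 (iv D18572)
def n19149 : Q := act 5 n18570
theorem D19149 : act 5 n18570 = n19149 := rfl
theorem F75007 : act 0 n19149 = n18682 := d4_1 D19149 F73217 (iv F72806)
theorem F75008 : act 1 n19149 = n18571 := d11_1 D19149 (iv D18571) (iv F72807)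
theorem F75009 : act 4 n19149 = n18580 := d26_1 D19149 (iv D18580) (iv D17956) (iv F70556) D18570
theorem F75010 : act 7 n19149 = n18584 := d31_2 (iv F72809) D19149 (iv D18584)
def n19150 : Q := act 6 n18571
theorem D19150 : act 6 n18571 = n19150 := rfl
theorem F75011 : act 2 n19150 = n18572 := d18_1 D19150 (iv D18572) (iv F72810)
theorem F75012 : act 4 n19150 = n18582 := d27_1 D19150 (iv D18582) (iv F72811)
theorem F75013 : act 7 n19150 = n18585 := d33_2 (iv F72812) D19150 (iv D18585)
def n19151 : Q := act 4 n18573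
theorem D19151 : act 4 n18573 = n19151 := rfl
theorem F75014 : act 0 n19151 = n18574 := d3_1 D19151 (iv D18574) D18573
theorem F75015 : act 8 n19151 = n18578 := d29_2 (iv F72817) D19151 (iv D18578)
def n19152 : Q := act 3 n18574
theorem D19152 : act 3 n18574 = n19152 := rfl
theorem F75016 : act 1 n19152 = n18575 := d9_1 D19152 (iv D18575) (iv F72818)
theorem F75017 : act 4 n19152 = n18590 := d21_2 D18574 D19152 (iv D18590) (iv D17972) (iv F70563)
theorem F75018 : act 6 n19152 = n18844 := d23_2 F74225 D19152 (iv F74224)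
theorem F75019 : act 8 n19152 = n18579 := d25_2 (iv F72819) D19152 (iv D18579)
def n19153 : Q := act 5 n18574
theorem D19153 : act 5 n18574 = n19153 := rfl
theorem F75020 : act 1 n19153 = n18576 := d11_1 D19153 (iv D18576) (iv F72818)
theorem F75021 : act 8 n19153 = n18580 := d32_2 (iv F72819) D19153 (iv D18580)
def n19154 : Q := act 5 n18575
theorem D19154 : act 5 n18575 = n19154 := rfl
theorem F75022 : act 0 n19154 = n18730 := d4_1 D19154 (iv D18730) (iv F72820)
theorem F75023 : act 2 n19154 = n18719 := d17_1 D19154 (iv D18719) (iv F72821)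
theorem F75024 : act 3 n19154 = n18576 := d22_1 D19154 (iv D18576) D18575
theorem F75025 : act 8 n19154 = n18581 := d32_2 (iv F72824) D19154 (iv D18581)
def n19155 : Q := act 7 n18575
theorem D19155 : act 7 n18575 = n19155 := rfl
theorem F75026 : act 0 n19155 = n18725 := d6_1 D19155 F73384 (iv F72820)
theorem F75027 : act 2 n19155 = n18718 := d19_1 D19155 F73353 (iv F72821)
theorem F75028 : act 4 n19155 = n18591 := d28_1 D19155 (iv D18591) (iv F72822)
theorem F75029 : act 6 n19155 = n18838 := d33_1 D19155 F73762 (iv F72823)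
theorem F75030 : act 8 n19155 = n18947 := d35_2 (iv F72824) D19155 (iv D18947) F71866 (iv F70574)
def n19156 : Q := act 6 n18576
theorem D19156 : act 6 n18576 = n19156 := rfl
theorem F75031 : act 2 n19156 = n18577 := d18_1 D19156 (iv D18577) (iv F72825)
theorem F75032 : act 8 n19156 = n18582 := d34_2 (iv F72826) D19156 (iv D18582)
def n19157 : Q := act 3 n18578
theorem D19157 : act 3 n18578 = n19157 := rfl
theorem F75033 : act 0 n19157 = n18579 := d2_1 D19157 (iv D18579) (iv F72828)
theorem F75034 : act 4 n19157 = n18592 := d21_2 D18578 D19157 (iv D18592) (iv D17974) (iv F70568)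
theorem F75035 : act 7 n19157 = n18949 := d24_2 (iv F72829) D19157 (iv D18949) F71872 (iv F70588)
def n19158 : Q := act 5 n18578
theorem D19158 : act 5 n18578 = n19158 := rfl
theorem F75036 : act 0 n19158 = n18580 := d4_1 D19158 (iv D18580) (iv F72828)
theorem F75037 : act 4 n19158 = n18682 := d26_1 D19158 F73217 F70978 (iv F70569) D18578
theorem F75038 : act 7 n19158 = n18586 := d31_2 (iv F72829) D19158 (iv D18586)
def n19159 : Q := act 2 n18579
theorem D19159 : act 2 n18579 = n19159 := rfl
theorem F75039 : act 1 n19159 = n18899 := d8_1 D19159 F73953 F71733 F70712 (iv F72830)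
theorem F75040 : act 4 n19159 = n18593 := d16_2 (iv F72831) D19159 (iv D18593)
theorem F75041 : act 7 n19159 = n18912 := d19_2 (iv F72832) D19159 F73997
def n19160 : Q := act 5 n18579
theorem D19160 : act 5 n18579 = n19160 := rfl
theorem F75042 : act 1 n19160 = n18581 := d11_1 D19160 (iv D18581) (iv F72830)
theorem F75043 : act 3 n19160 = n18580 := d22_1 D19160 (iv D18580) D18579
theorem F75044 : act 7 n19160 = n18951 := d31_2 (iv F72832) D19160 (iv D18951)
def n19161 : Q := act 6 n18580
theorem D19161 : act 6 n18580 = n19161 := rfl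
theorem F75045 : act 1 n19161 = n18582 := d12_1 D19161 (iv D18582) (iv F72833)
theorem F75046 : act 7 n19161 = n18587 := d33_2 (iv F72834) D19161 (iv D18587)
def n19162 : Q := act 6 n18581
theorem D19162 : act 6 n18581 = n19162 := rfl
theorem F75047 : act 3 n19162 = n18582 := d23_1 D19162 (iv D18582) (iv F72835)
theorem F75048 : act 7 n19162 = n18953 := d33_2 (iv F72836) D19162 (iv D18953)
def n19163 : Q := act 6 n18584
theorem D19163 : act 6 n18584 = n19163 := rfl
theorem F75049 : act 0 n19163 = n18681 := d5_1 D19163 (iv D18681) (iv F72841)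
theorem F75050 : act 1 n19163 = n18585 := d12_1 D19163 (iv D18585) (iv F72842)
theorem F75051 : act 3 n19163 = n18666 := d23_1 D19163 (iv D18666) (iv F72843)
theorem F75052 : act 4 n19163 = n18587 := d27_1 D19163 (iv D18587) (iv F72844)
theorem F75053 : act 5 n19163 = n18874 := d30_1 D19163 (iv D18874) (iv D18273) (iv F70582) D18584
def n19164 : Q := act 6 n18586
theorem D19164 : act 6 n18586 = n19164 := rfl
theorem F75054 : act 0 n19164 = n18587 := d5_1 D19164 (iv D18587) (iv F72847)
theorem F75055 : act 3 n19164 = n18958 := d23_1 D19164 (iv D18958) (iv F72848)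
theorem F75056 : act 4 n19164 = n18681 := d27_1 D19164 (iv D18681) (iv F72849)
def n19165 : Q := act 3 n18589
theorem D19165 : act 3 n18589 = n19165 := rfl
theorem F75057 : act 0 n19165 = n18590 := d2_1 D19165 (iv D18590) (iv F72854)
theorem F75058 : act 1 n19165 = n18728 := d9_1 D19165 F73393 (iv F72855)
theorem F75059 : act 6 n19165 = n18843 := d23_2 (iv F72857) D19165 F73783
theorem F75060 : act 8 n19165 = n18592 := d25_2 (iv F72859) D19165 (iv D18592)
def n19166 : Q := act 2 n18590
theorem D19166 : act 2 n18590 = n19166 := rfl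
theorem F75061 : act 1 n19166 = n18607 := d8_1 D19166 (iv D18607) F70720 (iv F70623) (iv F72860)
theorem F75062 : act 3 n19166 = n19166 := d15_2 D18590 D19166 (iv D19166) (iv D18590) F70618
theorem F75063 : act 5 n19166 = n18901 := d17_2 F73938 D19166 F73961
theorem F75064 : act 6 n19166 = n18831 := d18_2 (iv F72861) D19166 F73741
theorem F75065 : act 8 n19166 = n18593 := d20_2 (iv F72862) D19166 (iv D18593)
def n19167 : Q := act 7 n18590
theorem D19167 : act 7 n18590 = n19167 := rfl
theorem F75066 : act 1 n19167 = n18591 := d13_1 D19167 (iv D18591) (iv F72860)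
theorem F75067 : act 3 n19167 = n19167 := d24_1 D19167 (iv D19167) (iv D18590) F70620 D18590
theorem F75068 : act 6 n19167 = n18837 := d33_1 D19167 F73759 (iv F72861)
theorem F75069 : act 8 n19167 = n18960 := d35_2 (iv F72862) D19167 (iv D18960) F71911 (iv F70630)
def n19168 : Q := act 2 n18592
theorem D19168 : act 2 n18592 = n19168 := rfl
theorem F75070 : act 0 n19168 = n18593 := d1_1 D19168 (iv D18593) (iv F72868)
theorem F75071 : act 3 n19168 = n19168 := d15_2 D18592 D19168 (iv D19168) (iv D18592) F70627
theorem F75072 : act 5 n19168 = n18904 := d17_2 F73943 D19168 F73971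
theorem F75073 : act 7 n19168 = n18911 := d19_2 (iv F72869) D19168 F73991
def n19169 : Q := act 8 n18594
theorem D19169 : act 8 n18594 = n19169 := rfl
theorem F75074 : act 0 n19169 = n18853 := d7_1 D19169 F73816 (iv F72874)
theorem F75075 : act 1 n19169 = n18660 := d14_1 D19169 F73139 (iv F72875)
theorem F75076 : act 2 n19169 = n18795 := d20_1 D19169 F73617 (iv F72876)
theorem F75077 : act 3 n19169 = n19169 := d25_1 D19169 (iv D19169) F72877
theorem F75078 : act 5 n19169 = n18897 := d32_1 D19169 (iv D18897) (iv F72878)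
theorem F75079 : act 6 n19169 = n18862 := d34_1 D19169 F73840 (iv F72879)
theorem F75080 : act 7 n19169 = n18882 := d35_1 D19169 F73895 F71672 (iv F70636) D18594
def n19170 : Q := act 6 n18596
theorem D19170 : act 6 n18596 = n19170 := rfl
theorem F75081 : act 0 n19170 = n18956 := d5_1 D19170 (iv D18956) (iv F72887)
theorem F75082 : act 1 n19170 = n18655 := d12_1 D19170 (iv D18655) (iv F72888)
theorem F75083 : act 2 n19170 = n18597 := d18_1 D19170 (iv D18597) (iv F72889)
theorem F75084 : act 3 n19170 = n18892 := d23_1 D19170 (iv D18892) (iv F72890)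
theorem F75085 : act 5 n19170 = n18600 := d30_1 D19170 (iv D18600) (iv D17984) (iv F70653) D18596
theorem F75086 : act 7 n19170 = n19010 := d33_2 (iv F72891) D19170 (iv D19010)
theorem F75087 : act 8 n19170 = n18709 := d34_2 (iv F72892) D19170 (iv D18709)
def n19171 : Q := act 6 n18598
theorem D19171 : act 6 n18598 = n19171 := rfl
theorem F75088 : act 0 n19171 = n18600 := d5_1 D19171 (iv D18600) (iv F72898)
theorem F75089 : act 2 n19171 = n18599 := d18_1 D19171 (iv D18599) (iv F72899)
theorem F75090 : act 3 n19171 = n18954 := d23_1 D19171 (iv D18954) (iv F72900)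
theorem F75091 : act 4 n19171 = n18655 := d27_1 D19171 (iv D18655) (iv F72901)
theorem F75092 : act 5 n19171 = n18956 := d30_1 D19171 (iv D18956) (iv D18358) (iv F70669) D18598
theorem F75093 : act 7 n19171 = n19014 := d33_2 (iv F72902) D19171 (iv D19014)
def n19172 : Q := act 6 n18602
theorem D19172 : act 6 n18602 = n19172 := rfl
theorem F75094 : act 0 n19172 = n18697 := d5_1 D19172 (iv D18697) (iv F72917)
theorem F75095 : act 2 n19172 = n18712 := d18_1 D19172 (iv D18712) (iv F72918)
theorem F75096 : act 4 n19172 = n18606 := d27_1 D19172 (iv D18606) (iv F72919)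
theorem F75097 : act 7 n19172 = n18631 := d33_2 (iv F72920) D19172 (iv D18631)
theorem F75098 : act 8 n19172 = n19035 := d34_2 (iv F72921) D19172 (iv D19035)
def n19173 : Q := act 3 n18603
theorem D19173 : act 3 n18603 = n19173 := rfl
theorem F75099 : act 0 n19173 = n18834 := d2_1 D19173 (iv D18834) (iv F72922)
theorem F75100 : act 1 n19173 = n18704 := d9_1 D19173 (iv D18704) (iv F72923)
theorem F75101 : act 4 n19173 = n19173 := d21_2 D18603 D19173 (iv D19173) (iv D18603) F70704
theorem F75102 : act 6 n19173 = n18616 := d23_2 (iv F72925) D19173 (iv D18616)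
def n19174 : Q := act 5 n18603
theorem D19174 : act 5 n18603 = n19174 := rfl
theorem F75103 : act 0 n19174 = n18835 := d4_1 D19174 (iv D18835) (iv F72922)
theorem F75104 : act 1 n19174 = n18705 := d11_1 D19174 (iv D18705) (iv F72923)
theorem F75105 : act 2 n19174 = n18604 := d17_1 D19174 (iv D18604) (iv F72924)
theorem F75106 : act 7 n19174 = n18632 := d31_2 (iv F72926) D19174 (iv D18632)
def n19175 : Q := act 6 n18604
theorem D19175 : act 6 n18604 = n19175 := rfl
theorem F75107 : act 0 n19175 = n18836 := d5_1 D19175 (iv D18836) (iv F72927)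
theorem F75108 : act 1 n19175 = n18606 := d12_1 D19175 (iv D18606) (iv F72928)
theorem F75109 : act 5 n19175 = n18618 := d30_1 D19175 (iv D18618) (iv D18001) (iv F70709) D18604
theorem F75110 : act 7 n19175 = n18633 := d33_2 (iv F72929) D19175 (iv D18633)
def n19176 : Q := act 6 n18605
theorem D19176 : act 6 n18605 = n19176 := rfl
theorem F75111 : act 0 n19176 = n18717 := d5_1 D19176 (iv D18717) (iv F72930)
theorem F75112 : act 2 n19176 = n19162 := d18_1 D19176 (iv D19162) (iv F72931)
theorem F75113 : act 3 n19176 = n18606 := d23_1 D19176 (iv D18606) (iv F72932)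
theorem F75114 : act 5 n19176 = n18627 := d30_1 D19176 (iv D18627) (iv D18008) (iv F70714) D18605
theorem F75115 : act 7 n19176 = n18828 := d33_2 (iv F72933) D19176 (iv D18828)
def n19177 : Q := act 4 n18607
theorem D19177 : act 4 n18607 = n19177 := rfl
theorem F75116 : act 0 n19177 = n18614 := d3_1 D19177 (iv D18614) (iv F72938)
theorem F75117 : act 2 n19177 = n18608 := d16_1 D19177 (iv D18608) D18607
theorem F75118 : act 6 n19177 = n18832 := d27_2 (iv F72941) D19177 (iv D18832)
theorem F75119 : act 8 n19177 = n18899 := d29_2 (iv F72942) D19177 (iv D18899)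
def n19178 : Q := act 5 n18608
theorem D19178 : act 5 n18608 = n19178 := rfl
theorem F75120 : act 0 n19178 = n18615 := d4_1 D19178 (iv D18615) (iv F72943)
theorem F75121 : act 1 n19178 = n18719 := d11_1 D19178 (iv D18719) (iv F72944)
theorem F75122 : act 3 n19178 = n18610 := d22_1 D19178 (iv D18610) (iv F72945)
theorem F75123 : act 4 n19178 = n18903 := d26_1 D19178 (iv D18903) (iv D18305) (iv F70721) D18608
theorem F75124 : act 8 n19178 = n18900 := d32_2 (iv F72947) D19178 (iv D18900)
def n19179 : Q := act 3 n18609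
theorem D19179 : act 3 n18609 = n19179 := rfl
theorem F75125 : act 0 n19179 = n18616 := d2_1 D19179 (iv D18616) (iv F72948)
theorem F75126 : act 4 n19179 = n19179 := d21_2 D18609 D19179 (iv D19179) (iv D18609) F70725
theorem F75127 : act 6 n19179 = n18834 := d23_2 (iv F72950) D19179 (iv D18834)
theorem F75128 : act 8 n19179 = n19173 := d25_2 (iv F72952) D19179 (iv D19173)
def n19180 : Q := act 5 n18609
theorem D19180 : act 5 n18609 = n19180 := rfl
theorem F75129 : act 0 n19180 = n18617 := d4_1 D19180 (iv D18617) (iv F72948)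
theorem F75130 : act 2 n19180 = n18610 := d17_1 D19180 (iv D18610) (iv F72949)
theorem F75131 : act 7 n19180 = n18634 := d31_2 (iv F72951) D19180 (iv D18634)
theorem F75132 : act 8 n19180 = n19174 := d32_2 (iv F72952) D19180 (iv D19174)
def n19181 : Q := act 6 n18610
theorem D19181 : act 6 n18610 = n19181 := rfl
theorem F75133 : act 0 n19181 = n18618 := d5_1 D19181 (iv D18618) (iv F72953)
theorem F75134 : act 1 n19181 = n18720 := d12_1 D19181 (iv D18720) (iv F72954)
theorem F75135 : act 5 n19181 = n18836 := d30_1 D19181 (iv D18836) (iv D18241) (iv F70731) D18610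
theorem F75136 : act 7 n19181 = n18635 := d33_2 (iv F72955) D19181 (iv D18635)
theorem F75137 : act 8 n19181 = n19175 := d34_2 (iv F72956) D19181 (iv D19175)
def n19182 : Q := act 4 n18611
theorem D19182 : act 4 n18611 = n19182 := rfl
theorem F75138 : act 0 n19182 = n18902 := d3_1 D19182 (iv D18902) (iv F72957)
theorem F75139 : act 2 n19182 = n18612 := d16_1 D19182 (iv D18612) D18611
theorem F75140 : act 6 n19182 = n18947 := d27_2 (iv F72960) D19182 F74107
theorem F75141 : act 7 n19182 = n18811 := d28_2 (iv F72961) D19182 F73674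
theorem F75142 : act 8 n19182 = n18838 := d29_2 (iv F72962) D19182 (iv D18838)
def n19183 : Q := act 5 n18612
theorem D19183 : act 5 n18612 = n19183 := rfl
theorem F75143 : act 0 n19183 = n18903 := d4_1 D19183 (iv D18903) (iv F72963)
theorem F75144 : act 1 n19183 = n18623 := d11_1 D19183 (iv D18623) (iv F72964)
theorem F75145 : act 3 n19183 = n18855 := d22_1 D19183 (iv D18855) (iv F72965)
theorem F75146 : act 4 n19183 = n18615 := d26_1 D19183 (iv D18615) (iv D17999) (iv F70736) D18612
theorem F75147 : act 8 n19183 = n18839 := d32_2 (iv F72966) D19183 (iv D18839)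
def n19184 : Q := act 0 n18613
theorem D19184 : act 0 n18613 = n19184 := rfl
theorem F75148 : act 2 n19184 = n18624 := d1_2 (iv F72967) D19184 (iv D18624)
theorem F75149 : act 3 n19184 = n19184 := d2_2 F72968 D19184 (iv D19184)
theorem F75150 : act 6 n19184 = n19168 := d5_2 (iv F72969) D19184 F75070
theorem F75151 : act 7 n19184 = n18849 := d6_2 (iv F72970) D19184 F73806
def n19185 : Q := act 4 n18613
theorem D19185 : act 4 n18613 = n19185 := rfl
theorem F75152 : act 1 n19185 = n18614 := d10_1 D19185 (iv D18614) D18613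
theorem F75153 : act 2 n19185 = n18625 := d16_1 D19185 (iv D18625) (iv F72967)
theorem F75154 : act 6 n19185 = n19159 := d27_2 (iv F72969) D19185 F75040
theorem F75155 : act 7 n19185 = n18913 := d28_2 (iv F72970) D19185 F74002
def n19186 : Q := act 3 n18614
theorem D19186 : act 3 n18614 = n19186 := rfl
theorem F75156 : act 2 n19186 = n18616 := d15_1 D19186 (iv D18616) F70741 (iv F70740) (iv F72971)
theorem F75157 : act 4 n19186 = n19186 := d21_2 D18614 D19186 (iv D19186) (iv D18614) F70738
def n19187 : Q := act 5 n18614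
theorem D19187 : act 5 n18614 = n19187 := rfl
theorem F75158 : act 2 n19187 = n18615 := d17_1 D19187 (iv D18615) (iv F72971)
def n19188 : Q := act 6 n18615
theorem D19188 : act 6 n18615 = n19188 := rfl
theorem F75159 : act 1 n19188 = n18627 := d12_1 D19188 (iv D18627) (iv F72972)
theorem F75160 : act 3 n19188 = n18618 := d23_1 D19188 (iv D18618) (iv F72973)
def n19189 : Q := act 5 n18616
theorem D19189 : act 5 n18616 = n19189 := rfl
theorem F75161 : act 3 n19189 = n18617 := d22_1 D19189 (iv D18617) D18616
def n19190 : Q := act 6 n18617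
theorem D19190 : act 6 n18617 = n19190 := rfl
theorem F75162 : act 2 n19190 = n18618 := d18_1 D19190 (iv D18618) (iv F72975)
theorem F75163 : act 7 n19190 = n18638 := d33_2 (iv F72976) D19190 (iv D18638)
def n19191 : Q := act 5 n18619
theorem D19191 : act 5 n18619 = n19191 := rfl
theorem F75164 : act 0 n19191 = n18740 := d4_1 D19191 (iv D18740) (iv F72979)
theorem F75165 : act 1 n19191 = n18746 := d11_1 D19191 (iv D18746) (iv F72980)
theorem F75166 : act 3 n19191 = n18642 := d22_1 D19191 (iv D18642) (iv F72981)
theorem F75167 : act 4 n19191 = n18910 := d26_1 D19191 (iv D18910) (iv D18310) (iv F70747) D18619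
theorem F75168 : act 7 n19191 = n19183 := d31_2 (iv F72983) D19191 (iv D19183)
theorem F75169 : act 8 n19191 = n18620 := d32_2 (iv F72984) D19191 (iv D18620)
def n19192 : Q := act 6 n18620
theorem D19192 : act 6 n18620 = n19192 := rfl
theorem F75170 : act 0 n19192 = n18744 := d5_1 D19192 (iv D18744) (iv F72985)
theorem F75171 : act 3 n19192 = n18643 := d23_1 D19192 (iv D18643) (iv F72986)
theorem F75172 : act 5 n19192 = n18828 := d30_1 D19192 (iv D18828) (iv D18222) (iv F70753) D18620
theorem F75173 : act 7 n19192 = n18627 := d33_2 (iv F72987) D19192 (iv D18627)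
def n19193 : Q := act 0 n18621
theorem D19193 : act 0 n18621 = n19193 := rfl
theorem F75174 : act 1 n19193 = n18747 := d0_2 D18621 D19193 (iv D18747) (iv D18136) (iv F70755)
theorem F75175 : act 3 n19193 = n18628 := d2_2 (iv F72988) D19193 (iv D18628)
theorem F75176 : act 5 n19193 = n18624 := d4_2 (iv F72989) D19193 (iv D18624)
theorem F75177 : act 7 n19193 = n18630 := d6_2 (iv F72990) D19193 F73018
def n19194 : Q := act 4 n18621
theorem D19194 : act 4 n18621 = n19194 := rfl
theorem F75178 : act 1 n19194 = n18622 := d10_1 D19194 (iv D18622) D18621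
theorem F75179 : act 7 n19194 = n18749 := d28_2 (iv F72990) D19194 F73460
def n19195 : Q := act 3 n18622
theorem D19195 : act 3 n18622 = n19195 := rfl
theorem F75180 : act 0 n19195 = n18749 := d2_1 D19195 (iv D18749) (iv F72991)
theorem F75181 : act 4 n19195 = n18630 := d21_2 D18622 D19195 (iv D18630) (iv D18011) (iv F70756)
def n19196 : Q := act 5 n18622
theorem D19196 : act 5 n18622 = n19196 := rfl
theorem F75182 : act 0 n19196 = n18750 := d4_1 D19196 (iv D18750) (iv F72991)
theorem F75183 : act 2 n19196 = n18623 := d17_1 D19196 (iv D18623) (iv F72992)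
theorem F75184 : act 4 n19196 = n18626 := d26_1 D19196 (iv D18626) (iv D18007) (iv F70757) D18622
def n19197 : Q := act 6 n18623
theorem D19197 : act 6 n18623 = n19197 := rfl
theorem F75185 : act 0 n19197 = n18751 := d5_1 D19197 (iv D18751) (iv F72993)
theorem F75186 : act 4 n19197 = n18627 := d27_1 D19197 (iv D18627) (iv F72994)
def n19198 : Q := act 4 n18624
theorem D19198 : act 4 n18624 = n19198 := rfl
theorem F75187 : act 0 n19198 = n18625 := d3_1 D19198 (iv D18625) D18624
theorem F75188 : act 1 n19198 = n18752 := d10_1 D19198 (iv D18752) (iv F72995)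
theorem F75189 : act 3 n19198 = n19105 := d21_1 D19198 (iv D19105) F72642 (iv F70778) (iv F72996)
theorem F75190 : act 6 n19198 = n19157 := d27_2 (iv F72997) D19198 F75034
theorem F75191 : act 7 n19198 = n19102 := d28_2 (iv F72998) D19198 F74832
def n19199 : Q := act 5 n18625
theorem D19199 : act 5 n18625 = n19199 := rfl
theorem F75192 : act 1 n19199 = n18626 := d11_1 D19199 (iv D18626) (iv F72999)
theorem F75193 : act 3 n19199 = n19106 := d22_1 D19199 (iv D19106) (iv F73000)
def n19200 : Q := act 6 n18626
theorem D19200 : act 6 n18626 = n19200 := rfl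
theorem F75194 : act 0 n19200 = n18754 := d5_1 D19200 (iv D18754) (iv F73002)
theorem F75195 : act 2 n19200 = n18627 := d18_1 D19200 (iv D18627) (iv F73003)
theorem F75196 : act 3 n19200 = n19107 := d23_1 D19200 (iv D19107) (iv F73004)
theorem F75197 : act 5 n19200 = n19162 := d30_1 D19200 (iv D19162) (iv D18581) (iv F70764) D18626
def n19201 : Q := act 3 n18629
theorem D19201 : act 3 n18629 = n19201 := rfl
theorem F75198 : act 0 n19201 = n18735 := d2_1 D19201 F73423 (iv F73012)
theorem F75199 : act 1 n19201 = n18630 := d9_1 D19201 (iv D18630) (iv F73013)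
theorem F75200 : act 5 n19201 = n18741 := d22_2 (iv F73015) D19201 F73439
theorem F75201 : act 6 n19201 = n19193 := d23_2 (iv F73016) D19201 F75175
theorem F75202 : act 7 n19201 = n18747 := d24_2 (iv F73017) D19201 F73454 F71233 (iv F71519)
def n19202 : Q := act 6 n18632
theorem D19202 : act 6 n18632 = n19202 := rfl
theorem F75203 : act 0 n19202 = n18852 := d5_1 D19202 (iv D18852) (iv F73024)
theorem F75204 : act 1 n19202 = n18709 := d12_1 D19202 (iv D18709) (iv F73025)
theorem F75205 : act 2 n19202 = n18633 := d18_1 D19202 (iv D18633) (iv F73026)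
theorem F75206 : act 5 n19202 = n18638 := d30_1 D19202 (iv D18638) (iv D18021) (iv F70788) D18632
theorem F75207 : act 8 n19202 = n18655 := d34_2 (iv F73027) D19202 (iv D18655)
def n19203 : Q := act 6 n18634
theorem D19203 : act 6 n18634 = n19203 := rfl
theorem F75208 : act 0 n19203 = n18638 := d5_1 D19203 (iv D18638) (iv F73033)
theorem F75209 : act 2 n19203 = n18635 := d18_1 D19203 (iv D18635) (iv F73034)
theorem F75210 : act 5 n19203 = n18852 := d30_1 D19203 (iv D18852) (iv D18254) (iv F70801) D18634
theorem F75211 : act 8 n19203 = n18666 := d34_2 (iv F73035) D19203 (iv D18666)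
def n19204 : Q := act 6 n18636
theorem D19204 : act 6 n18636 = n19204 := rfl
theorem F75212 : act 1 n19204 = n18643 := d12_1 D19204 (iv D18643) (iv F73040)
theorem F75213 : act 2 n19204 = n18952 := d18_1 D19204 (iv D18952) (iv F73041)
theorem F75214 : act 5 n19204 = n18827 := d30_1 D19204 (iv D18827) (iv D18221) (iv F70808) D18636
theorem F75215 : act 7 n19204 = n18637 := d33_2 (iv F73042) D19204 (iv D18637)
def n19205 : Q := act 5 n18639
theorem D19205 : act 5 n18639 = n19205 := rfl
theorem F75216 : act 0 n19205 = n18777 := d4_1 D19205 (iv D18777) (iv F73050)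
theorem F75217 : act 3 n19205 = n18641 := d22_1 D19205 (iv D18641) (iv F73051)
theorem F75218 : act 4 n19205 = n19044 := d26_1 D19205 (iv D19044) (iv D18461) (iv F70819) D18639
theorem F75219 : act 8 n19205 = n19020 := d32_2 (iv F73053) D19205 (iv D19020)
def n19206 : Q := act 5 n18640
theorem D19206 : act 5 n18640 = n19206 := rfl
theorem F75220 : act 0 n19206 = n18779 := d4_1 D19206 (iv D18779) (iv F73054)
theorem F75221 : act 1 n19206 = n19205 := d11_1 D19206 (iv D19205) (iv F73055)
theorem F75222 : act 2 n19206 = n18786 := d17_1 D19206 (iv D18786) (iv F73056)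
theorem F75223 : act 3 n19206 = n19020 := d22_1 D19206 (iv D19020) (iv F73057)
theorem F75224 : act 4 n19206 = n18642 := d26_1 D19206 (iv D18642) (iv D18026) (iv F70825) D18640
theorem F75225 : act 7 n19206 = n18686 := d31_2 (iv F73059) D19206 (iv D18686)
theorem F75226 : act 8 n19206 = n18641 := d32_2 (iv F73060) D19206 (iv D18641)
def n19207 : Q := act 6 n18641
theorem D19207 : act 6 n18641 = n19207 := rfl
theorem F75227 : act 0 n19207 = n18780 := d5_1 D19207 (iv D18780) (iv F73061)
theorem F75228 : act 2 n19207 = n18787 := d18_1 D19207 (iv D18787) (iv F73062)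
theorem F75229 : act 4 n19207 = n18643 := d27_1 D19207 (iv D18643) (iv F73063)
theorem F75230 : act 7 n19207 = n18644 := d33_2 (iv F73064) D19207 (iv D18644)
def n19208 : Q := act 6 n18642
theorem D19208 : act 6 n18642 = n19208 := rfl
theorem F75231 : act 0 n19208 = n18781 := d5_1 D19208 (iv D18781) (iv F73065)
theorem F75232 : act 2 n19208 = n18788 := d18_1 D19208 (iv D18788) (iv F73066)
theorem F75233 : act 5 n19208 = n18826 := d30_1 D19208 (iv D18826) (iv D18219) (iv F70834) D18642
theorem F75234 : act 7 n19208 = n18691 := d33_2 (iv F73067) D19208 (iv D18691)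
theorem F75235 : act 8 n19208 = n18643 := d34_2 (iv F73068) D19208 (iv D18643)
def n19209 : Q := act 3 n18645
theorem D19209 : act 3 n18645 = n19209 := rfl
theorem F75236 : act 0 n19209 = n18704 := d2_1 D19209 (iv D18704) (iv F73077)
theorem F75237 : act 2 n19209 = n19116 := d15_1 D19209 (iv D19116) F72701 (iv F70853) (iv F73078)
theorem F75238 : act 4 n19209 = n19209 := d21_2 D18645 D19209 (iv D19209) (iv D18645) F70850
theorem F75239 : act 7 n19209 = n18923 := d24_2 (iv F73079) D19209 (iv D18923) F71806 (iv F70857)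
def n19210 : Q := act 5 n18645
theorem D19210 : act 5 n18645 = n19210 := rfl
theorem F75240 : act 0 n19210 = n18705 := d4_1 D19210 (iv D18705) (iv F73077)
theorem F75241 : act 2 n19210 = n18646 := d17_1 D19210 (iv D18646) (iv F73078)
theorem F75242 : act 7 n19210 = n18647 := d31_2 (iv F73079) D19210 (iv D18647)
def n19211 : Q := act 6 n18646
theorem D19211 : act 6 n18646 = n19211 := rfl
theorem F75243 : act 0 n19211 = n18706 := d5_1 D19211 (iv D18706) (iv F73080)
theorem F75244 : act 3 n19211 = n19118 := d23_1 D19211 (iv D19118) (iv F73081)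
theorem F75245 : act 7 n19211 = n18648 := d33_2 (iv F73082) D19211 (iv D18648)
def n19212 : Q := act 6 n18647
theorem D19212 : act 6 n18647 = n19212 := rfl
theorem F75246 : act 0 n19212 = n18709 := d5_1 D19212 (iv D18709) (iv F73083)
theorem F75247 : act 2 n19212 = n18648 := d18_1 D19212 (iv D18648) (iv F73084)
theorem F75248 : act 3 n19212 = n18931 := d23_1 D19212 (iv D18931) (iv F73085)
theorem F75249 : act 8 n19212 = n18956 := d34_2 (iv F73086) D19212 (iv D18956)
def n19213 : Q := act 3 n18649
theorem D19213 : act 3 n18649 = n19213 := rfl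
theorem F75250 : act 0 n19213 = n18866 := d2_1 D19213 (iv D18866) (iv F73089)
theorem F75251 : act 1 n19213 = n18770 := d9_1 D19213 (iv D18770) (iv F73090)
theorem F75252 : act 4 n19213 = n19213 := d21_2 D18649 D19213 (iv D19213) (iv D18649) F70866
theorem F75253 : act 6 n19213 = n18675 := d23_2 (iv F73092) D19213 (iv D18675)
def n19214 : Q := act 5 n18649
theorem D19214 : act 5 n18649 = n19214 := rfl
theorem F75254 : act 0 n19214 = n18867 := d4_1 D19214 (iv D18867) (iv F73089)
theorem F75255 : act 1 n19214 = n18771 := d11_1 D19214 (iv D18771) (iv F73090)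
theorem F75256 : act 2 n19214 = n18650 := d17_1 D19214 (iv D18650) (iv F73091)
theorem F75257 : act 7 n19214 = n18651 := d31_2 (iv F73093) D19214 (iv D18651)
def n19215 : Q := act 6 n18650
theorem D19215 : act 6 n18650 = n19215 := rfl
theorem F75258 : act 0 n19215 = n18868 := d5_1 D19215 (iv D18868) (iv F73094)
theorem F75259 : act 1 n19215 = n18658 := d12_1 D19215 (iv D18658) (iv F73095)
theorem F75260 : act 5 n19215 = n18677 := d30_1 D19215 (iv D18677) (iv D18061) (iv F70871) D18650
theorem F75261 : act 7 n19215 = n18652 := d33_2 (iv F73096) D19215 (iv D18652)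
def n19216 : Q := act 6 n18651
theorem D19216 : act 6 n18651 = n19216 := rfl
theorem F75262 : act 0 n19216 = n18872 := d5_1 D19216 (iv D18872) (iv F73097)
theorem F75263 : act 1 n19216 = n18775 := d12_1 D19216 (iv D18775) (iv F73098)
theorem F75264 : act 2 n19216 = n18652 := d18_1 D19216 (iv D18652) (iv F73099)
theorem F75265 : act 5 n19216 = n18680 := d30_1 D19216 (iv D18680) (iv D18064) (iv F70876) D18651
theorem F75266 : act 8 n19216 = n18820 := d34_2 (iv F73100) D19216 (iv D18820)
def n19217 : Q := act 6 n18653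
theorem D19217 : act 6 n18653 = n19217 := rfl
theorem F75267 : act 0 n19217 = n18874 := d5_1 D19217 (iv D18874) (iv F73106)
theorem F75268 : act 1 n19217 = n18892 := d12_1 D19217 (iv D18892) (iv F73107)
theorem F75269 : act 3 n19217 = n18655 := d23_1 D19217 (iv D18655) (iv F73108)
theorem F75270 : act 4 n19217 = n18893 := d27_1 D19217 (iv D18893) (iv F73109)
theorem F75271 : act 5 n19217 = n18681 := d30_1 D19217 (iv D18681) (iv D18066) (iv F70885) D18653
def n19218 : Q := act 7 n18653
theorem D19218 : act 7 n18653 = n19218 := rfl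
theorem F75272 : act 0 n19218 = n18875 := d6_1 D19218 (iv D18875) (iv F73106)
theorem F75273 : act 1 n19218 = n18880 := d13_1 D19218 F73888 (iv F73107)
theorem F75274 : act 3 n19218 = n19149 := d24_1 D19218 F75010 F72843 F70934 (iv F73108)
theorem F75275 : act 4 n19218 = n18889 := d28_1 D19218 F73917 (iv F73109)
theorem F75276 : act 5 n19218 = n18654 := d31_1 D19218 (iv D18654) D18653
def n19219 : Q := act 8 n18654
theorem D19219 : act 8 n18654 = n19219 := rfl
theorem F75277 : act 0 n19219 = n18876 := d7_1 D19219 (iv D18876) (iv F73110)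
theorem F75278 : act 1 n19219 = n18878 := d14_1 D19219 F73880 (iv F73111)
theorem F75279 : act 3 n19219 = n19146 := d25_1 D19219 F75001 (iv F73112)
theorem F75280 : act 4 n19219 = n18696 := d29_1 D19219 (iv D18696) (iv F73113)
theorem F75281 : act 6 n19219 = n18683 := d34_1 D19219 (iv D18683) (iv F73114)
def n19220 : Q := act 6 n18656
theorem D19220 : act 6 n18656 = n19220 := rfl
theorem F75282 : act 0 n19220 = n18787 := d5_1 D19220 (iv D18787) (iv F73118)
theorem F75283 : act 2 n19220 = n18780 := d18_1 D19220 (iv D18780) (iv F73119)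
theorem F75284 : act 4 n19220 = n18658 := d27_1 D19220 (iv D18658) (iv F73120)
theorem F75285 : act 7 n19220 = n18659 := d33_2 (iv F73121) D19220 (iv D18659)
def n19221 : Q := act 6 n18657
theorem D19221 : act 6 n18657 = n19221 := rfl
theorem F75286 : act 0 n19221 = n18788 := d5_1 D19221 (iv D18788) (iv F73122)
theorem F75287 : act 2 n19221 = n18781 := d18_1 D19221 (iv D18781) (iv F73123)
theorem F75288 : act 5 n19221 = n18691 := d30_1 D19221 (iv D18691) (iv D18075) (iv F70896) D18657
theorem F75289 : act 7 n19221 = n18826 := d33_2 (iv F73124) D19221 (iv D18826)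
theorem F75290 : act 8 n19221 = n18658 := d34_2 (iv F73125) D19221 (iv D18658)
def n19222 : Q := act 4 n18660
theorem D19222 : act 4 n18660 = n19222 := rfl
theorem F75291 : act 0 n19222 = n18673 := d3_1 D19222 (iv D18673) (iv F73134)
theorem F75292 : act 2 n19222 = n18661 := d16_1 D19222 (iv D18661) D18660
theorem F75293 : act 6 n19222 = n18863 := d27_2 (iv F73137) D19222 (iv D18863)
theorem F75294 : act 7 n19222 = n18943 := d28_2 (iv F73138) D19222 (iv D18943)
theorem F75295 : act 8 n19222 = n18662 := d29_2 (iv F73139) D19222 (iv D18662)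
def n19223 : Q := act 5 n18661
theorem D19223 : act 5 n18661 = n19223 := rfl
theorem F75296 : act 0 n19223 = n18674 := d4_1 D19223 (iv D18674) (iv F73140)
theorem F75297 : act 1 n19223 = n18797 := d11_1 D19223 (iv D18797) (iv F73141)
theorem F75298 : act 3 n19223 = n19039 := d22_1 D19223 (iv D19039) (iv F73142)
theorem F75299 : act 4 n19223 = n19066 := d26_1 D19223 (iv D19066) (iv D18487) (iv F70913) D18661
theorem F75300 : act 8 n19223 = n18663 := d32_2 (iv F73144) D19223 (iv D18663)
def n19224 : Q := act 3 n18662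
theorem D19224 : act 3 n18662 = n19224 := rfl
theorem F75301 : act 0 n19224 = n18675 := d2_1 D19224 (iv D18675) (iv F73145)
theorem F75302 : act 2 n19224 = n19213 := d15_1 D19224 (iv D19213) F73091 (iv F70922) (iv F73146)
theorem F75303 : act 4 n19224 = n19224 := d21_2 D18662 D19224 (iv D19224) (iv D18662) F70917
theorem F75304 : act 6 n19224 = n18866 := d23_2 (iv F73147) D19224 (iv D18866)
def n19225 : Q := act 5 n18662
theorem D19225 : act 5 n18662 = n19225 := rfl
theorem F75305 : act 0 n19225 = n18676 := d4_1 D19225 (iv D18676) (iv F73145)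
theorem F75306 : act 2 n19225 = n18663 := d17_1 D19225 (iv D18663) (iv F73146)
theorem F75307 : act 7 n19225 = n18664 := d31_2 (iv F73148) D19225 (iv D18664)
def n19226 : Q := act 6 n18663
theorem D19226 : act 6 n18663 = n19226 := rfl
theorem F75308 : act 0 n19226 = n18677 := d5_1 D19226 (iv D18677) (iv F73149)
theorem F75309 : act 1 n19226 = n18800 := d12_1 D19226 (iv D18800) (iv F73150)
theorem F75310 : act 3 n19226 = n19215 := d23_1 D19226 (iv D19215) (iv F73151)
theorem F75311 : act 5 n19226 = n18868 := d30_1 D19226 (iv D18868) (iv D18268) (iv F70923) D18663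
theorem F75312 : act 7 n19226 = n18665 := d33_2 (iv F73152) D19226 (iv D18665)
def n19227 : Q := act 6 n18664
theorem D19227 : act 6 n18664 = n19227 := rfl
theorem F75313 : act 0 n19227 = n18680 := d5_1 D19227 (iv D18680) (iv F73153)
theorem F75314 : act 2 n19227 = n18665 := d18_1 D19227 (iv D18665) (iv F73154)
theorem F75315 : act 5 n19227 = n18872 := d30_1 D19227 (iv D18872) (iv D18271) (iv F70927) D18664
theorem F75316 : act 8 n19227 = n18958 := d34_2 (iv F73155) D19227 (iv D18958)
def n19228 : Q := act 4 n18667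
theorem D19228 : act 4 n18667 = n19228 := rfl
theorem F75317 : act 0 n19228 = n19069 := d3_1 D19228 (iv D19069) (iv F73164)
theorem F75318 : act 1 n19228 = n19114 := d10_1 D19228 (iv D19114) (iv F73165)
theorem F75319 : act 2 n19228 = n18668 := d16_1 D19228 (iv D18668) D18667
theorem F75320 : act 7 n19228 = n18937 := d28_2 (iv F73168) D19228 F74072
theorem F75321 : act 8 n19228 = n18994 := d29_2 (iv F73169) D19228 (iv D18994)
def n19229 : Q := act 5 n18668
theorem D19229 : act 5 n18668 = n19229 := rfl
theorem F75322 : act 0 n19229 = n19070 := d4_1 D19229 (iv D19070) (iv F73170)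
theorem F75323 : act 1 n19229 = n18684 := d11_1 D19229 (iv D18684) (iv F73171)
theorem F75324 : act 3 n19229 = n18672 := d22_1 D19229 (iv D18672) (iv F73172)
theorem F75325 : act 4 n19229 = n18997 := d26_1 D19229 (iv D18997) (iv D18403) (iv F70941) D18668
theorem F75326 : act 7 n19229 = n19021 := d31_2 (iv F73173) D19229 (iv D19021)
theorem F75327 : act 8 n19229 = n18995 := d32_2 (iv F73174) D19229 (iv D18995)
def n19230 : Q := act 4 n18669
theorem D19230 : act 4 n18669 = n19230 := rfl
theorem F75328 : act 0 n19230 = n19065 := d3_1 D19230 (iv D19065) (iv F73175)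
theorem F75329 : act 1 n19230 = n18921 := d10_1 D19230 (iv D18921) (iv F73176)
theorem F75330 : act 2 n19230 = n18670 := d16_1 D19230 (iv D18670) D18669
theorem F75331 : act 6 n19230 = n19228 := d27_2 (iv F73179) D19230 (iv D19228)
theorem F75332 : act 7 n19230 = n18936 := d28_2 (iv F73180) D19230 (iv D18936)
theorem F75333 : act 8 n19230 = n18671 := d29_2 (iv F73181) D19230 (iv D18671)
def n19231 : Q := act 5 n18670
theorem D19231 : act 5 n18670 = n19231 := rfl
theorem F75334 : act 0 n19231 = n19066 := d4_1 D19231 (iv D19066) (iv F73182)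
theorem F75335 : act 1 n19231 = n18686 := d11_1 D19231 (iv D18686) (iv F73183)
theorem F75336 : act 3 n19231 = n18995 := d22_1 D19231 (iv D18995) (iv F73184)
theorem F75337 : act 4 n19231 = n18674 := d26_1 D19231 (iv D18674) (iv D18059) (iv F70946) D18670
theorem F75338 : act 7 n19231 = n19205 := d31_2 (iv F73186) D19231 (iv D19205)
theorem F75339 : act 8 n19231 = n18672 := d32_2 (iv F73187) D19231 (iv D18672)
def n19232 : Q := act 3 n18671
theorem D19232 : act 3 n18671 = n19232 := rfl
theorem F75340 : act 1 n19232 = n18923 := d9_1 D19232 (iv D18923) (iv F73188)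
theorem F75341 : act 4 n19232 = n19232 := d21_2 D18671 D19232 (iv D19232) (iv D18671) F70951
def n19233 : Q := act 5 n18671
theorem D19233 : act 5 n18671 = n19233 := rfl
theorem F75342 : act 1 n19233 = n18924 := d11_1 D19233 (iv D18924) (iv F73188)
theorem F75343 : act 2 n19233 = n18672 := d17_1 D19233 (iv D18672) (iv F73189)
theorem F75344 : act 4 n19233 = n18676 := d26_1 D19233 (iv D18676) (iv D18060) (iv F70952) D18671
theorem F75345 : act 7 n19233 = n18678 := d31_2 (iv F73190) D19233 (iv D18678)
def n19234 : Q := act 6 n18672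
theorem D19234 : act 6 n18672 = n19234 := rfl
theorem F75346 : act 1 n19234 = n18688 := d12_1 D19234 (iv D18688) (iv F73191)
theorem F75347 : act 4 n19234 = n18677 := d27_1 D19234 (iv D18677) (iv F73192)
theorem F75348 : act 7 n19234 = n18679 := d33_2 (iv F73193) D19234 (iv D18679)
def n19235 : Q := act 3 n18673
theorem D19235 : act 3 n18673 = n19235 := rfl
theorem F75349 : act 1 n19235 = n18926 := d9_1 D19235 (iv D18926) (iv F73194)
theorem F75350 : act 4 n19235 = n19235 := d21_2 D18673 D19235 (iv D19235) (iv D18673) F70957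
theorem F75351 : act 8 n19235 = n18675 := d25_2 (iv F73197) D19235 (iv D18675)
def n19236 : Q := act 5 n18673
theorem D19236 : act 5 n18673 = n19236 := rfl
theorem F75352 : act 1 n19236 = n18927 := d11_1 D19236 (iv D18927) (iv F73194)
theorem F75353 : act 2 n19236 = n18674 := d17_1 D19236 (iv D18674) (iv F73195)
theorem F75354 : act 7 n19236 = n18945 := d31_2 (iv F73196) D19236 (iv D18945)
theorem F75355 : act 8 n19236 = n18676 := d32_2 (iv F73197) D19236 (iv D18676)
def n19237 : Q := act 6 n18674
theorem D19237 : act 6 n18674 = n19237 := rfl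
theorem F75356 : act 1 n19237 = n18691 := d12_1 D19237 (iv D18691) (iv F73198)
theorem F75357 : act 8 n19237 = n18677 := d34_2 (iv F73199) D19237 (iv D18677)
def n19238 : Q := act 5 n18675
theorem D19238 : act 5 n18675 = n19238 := rfl
theorem F75358 : act 1 n19238 = n18929 := d11_1 D19238 (iv D18929) (iv F73200)
theorem F75359 : act 3 n19238 = n18676 := d22_1 D19238 (iv D18676) D18675
def n19239 : Q := act 6 n18676
theorem D19239 : act 6 n18676 = n19239 := rfl
theorem F75360 : act 1 n19239 = n18930 := d12_1 D19239 (iv D18930) (iv F73202)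
theorem F75361 : act 2 n19239 = n18677 := d18_1 D19239 (iv D18677) (iv F73203)
theorem F75362 : act 7 n19239 = n18680 := d33_2 (iv F73204) D19239 (iv D18680)
def n19240 : Q := act 6 n18678
theorem D19240 : act 6 n18678 = n19240 := rfl
theorem F75363 : act 1 n19240 = n18931 := d12_1 D19240 (iv D18931) (iv F73207)
theorem F75364 : act 2 n19240 = n18679 := d18_1 D19240 (iv D18679) (iv F73208)
theorem F75365 : act 4 n19240 = n18680 := d27_1 D19240 (iv D18680) (iv F73209)
theorem F75366 : act 8 n19240 = n18955 := d34_2 (iv F73210) D19240 (iv D18955)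
def n19241 : Q := act 7 n18681
theorem D19241 : act 7 n18681 = n19241 := rfl
theorem F75367 : act 6 n19241 = n18682 := d33_1 D19241 (iv D18682) D18681
def n19242 : Q := act 8 n18682
theorem D19242 : act 8 n18682 = n19242 := rfl
theorem F75368 : act 5 n19242 = n18683 := d32_1 D19242 (iv D18683) (iv F73217)
def n19243 : Q := act 6 n18684
theorem D19243 : act 6 n18684 = n19243 := rfl
theorem F75369 : act 0 n19243 = n18822 := d5_1 D19243 (iv D18822) (iv F73219)
theorem F75370 : act 3 n19243 = n18688 := d23_1 D19243 (iv D18688) (iv F73220)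
def n19244 : Q := act 6 n18685
theorem D19244 : act 6 n18685 = n19244 := rfl
theorem F75371 : act 0 n19244 = n18823 := d5_1 D19244 (iv D18823) (iv F73221)
theorem F75372 : act 5 n19244 = n18688 := d30_1 D19244 (iv D18688) (iv D18073) (iv F70983) D18685
theorem F75373 : act 7 n19244 = n18694 := d33_2 (iv F73222) D19244 (iv D18694)
theorem F75374 : act 8 n19244 = n19243 := d34_2 (iv F73223) D19244 (iv D19243)
def n19245 : Q := act 6 n18686
theorem D19245 : act 6 n18686 = n19245 := rfl
theorem F75375 : act 0 n19245 = n18824 := d5_1 D19245 (iv D18824) (iv F73224)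
theorem F75376 : act 3 n19245 = n19244 := d23_1 D19245 (iv D19244) (iv F73225)
theorem F75377 : act 4 n19245 = n18691 := d27_1 D19245 (iv D18691) (iv F73226)
theorem F75378 : act 5 n19245 = n19243 := d30_1 D19245 (iv D19243) (iv D18684) (iv F70988) D18686
theorem F75379 : act 8 n19245 = n18688 := d34_2 (iv F73227) D19245 (iv D18688)
def n19246 : Q := act 6 n18687
theorem D19246 : act 6 n18687 = n19246 := rfl
theorem F75380 : act 0 n19246 = n18825 := d5_1 D19246 (iv D18825) (iv F73228)
theorem F75381 : act 1 n19246 = n18925 := d12_1 D19246 (iv D18925) (iv F73229)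
theorem F75382 : act 2 n19246 = n18688 := d18_1 D19246 (iv D18688) (iv F73230)
theorem F75383 : act 3 n19246 = n19172 := d23_1 D19246 (iv D19172) (iv F73231)
theorem F75384 : act 4 n19246 = n18693 := d27_1 D19246 (iv D18693) (iv F73232)
theorem F75385 : act 7 n19246 = n18695 := d33_2 (iv F73233) D19246 (iv D18695)
def n19247 : Q := act 5 n18689
theorem D19247 : act 5 n18689 = n19247 := rfl
theorem F75386 : act 0 n19247 = n18727 := d4_1 D19247 (iv D18727) (iv F73237)
theorem F75387 : act 1 n19247 = n18903 := d11_1 D19247 (iv D18903) (iv F73238)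
theorem F75388 : act 3 n19247 = n18690 := d22_1 D19247 (iv D18690) D18689
theorem F75389 : act 4 n19247 = n18719 := d26_1 D19247 (iv D18719) (iv D18114) (iv F71033) (iv F73239)
theorem F75390 : act 8 n19247 = n18692 := d32_2 (iv F73241) D19247 (iv D18692)
def n19248 : Q := act 6 n18690
theorem D19248 : act 6 n18690 = n19248 := rfl
theorem F75391 : act 0 n19248 = n18826 := d5_1 D19248 (iv D18826) (iv F73242)
theorem F75392 : act 1 n19248 = n18928 := d12_1 D19248 (iv D18928) (iv F73243)
theorem F75393 : act 2 n19248 = n18691 := d18_1 D19248 (iv D18691) (iv F73244)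
theorem F75394 : act 5 n19248 = n18781 := d30_1 D19248 (iv D18781) (iv D18169) (iv F71001) D18690
theorem F75395 : act 7 n19248 = n18788 := d33_2 (iv F73245) D19248 (iv D18788)
theorem F75396 : act 8 n19248 = n18693 := d34_2 (iv F73246) D19248 (iv D18693)
def n19249 : Q := act 6 n18692
theorem D19249 : act 6 n18692 = n19249 := rfl
theorem F75397 : act 0 n19249 = n18828 := d5_1 D19249 (iv D18828) (iv F73249)
theorem F75398 : act 1 n19249 = n18908 := d12_1 D19249 (iv D18908) (iv F73250)
theorem F75399 : act 3 n19249 = n18693 := d23_1 D19249 (iv D18693) (iv F73251)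
theorem F75400 : act 4 n19249 = n19176 := d27_1 D19249 (iv D19176) (iv F73252)
theorem F75401 : act 5 n19249 = n18744 := d30_1 D19249 (iv D18744) (iv D18133) (iv F71009) D18692
theorem F75402 : act 7 n19249 = n18717 := d33_2 (iv F73253) D19249 (iv D18717)
def n19250 : Q := act 6 n18698
theorem D19250 : act 6 n18698 = n19250 := rfl
theorem F75403 : act 0 n19250 = n19107 := d5_1 D19250 (iv D19107) (iv F73275)
theorem F75404 : act 2 n19250 = n18699 := d18_1 D19250 (iv D18699) (iv F73276)
theorem F75405 : act 3 n19250 = n18754 := d23_1 D19250 (iv D18754) (iv F73277)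
theorem F75406 : act 5 n19250 = n19027 := d30_1 D19250 (iv D19027) (iv D18439) (iv F71056) D18698
theorem F75407 : act 7 n19250 = n19011 := d33_2 (iv F73278) D19250 (iv D19011)
theorem F75408 : act 8 n19250 = n19050 := d34_2 (iv F73279) D19250 (iv D19050)
def n19251 : Q := act 3 n18700
theorem D19251 : act 3 n18700 = n19251 := rfl
theorem F75409 : act 4 n19251 = n19251 := d21_2 D18700 D19251 (iv D19251) (iv D18700) F71070
theorem F75410 : act 8 n19251 = n19209 := d25_2 (iv F73287) D19251 (iv D19209)
def n19252 : Q := act 5 n18700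
theorem D19252 : act 5 n18700 = n19252 := rfl
theorem F75411 : act 2 n19252 = n18701 := d17_1 D19252 (iv D18701) (iv F73285)
theorem F75412 : act 4 n19252 = n18705 := d26_1 D19252 (iv D18705) (iv D18096) (iv F71071) D18700
theorem F75413 : act 7 n19252 = n18707 := d31_2 (iv F73286) D19252 (iv D18707)
theorem F75414 : act 8 n19252 = n19210 := d32_2 (iv F73287) D19252 (iv D19210)
def n19253 : Q := act 6 n18701
theorem D19253 : act 6 n18701 = n19253 := rfl
theorem F75415 : act 1 n19253 = n18712 := d12_1 D19253 (iv D18712) (iv F73288)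
theorem F75416 : act 4 n19253 = n18706 := d27_1 D19253 (iv D18706) (iv F73289)
theorem F75417 : act 7 n19253 = n18708 := d33_2 (iv F73290) D19253 (iv D18708)
theorem F75418 : act 8 n19253 = n19211 := d34_2 (iv F73291) D19253 (iv D19211)
def n19254 : Q := act 3 n18702
theorem D19254 : act 3 n18702 = n19254 := rfl
theorem F75419 : act 0 n19254 = n19251 := d2_1 D19254 (iv D19251) (iv F73292)
theorem F75420 : act 1 n19254 = n19179 := d9_1 D19254 (iv D19179) (iv F73293)
theorem F75421 : act 2 n19254 = n19131 := d15_1 D19254 (iv D19131) F72755 (iv F71086) (iv F73294)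
theorem F75422 : act 4 n19254 = n19254 := d21_2 D18702 D19254 (iv D19254) (iv D18702) F71079
theorem F75423 : act 6 n19254 = n18966 := d23_2 (iv F73295) D19254 (iv D18966)
theorem F75424 : act 7 n19254 = n19072 := d24_2 (iv F73296) D19254 (iv D19072) F72507 (iv F72013)
theorem F75425 : act 8 n19254 = n18704 := d25_2 (iv F73297) D19254 (iv D18704)
def n19255 : Q := act 5 n18702
theorem D19255 : act 5 n18702 = n19255 := rfl
theorem F75426 : act 0 n19255 = n19252 := d4_1 D19255 (iv D19252) (iv F73292)
theorem F75427 : act 1 n19255 = n19180 := d11_1 D19255 (iv D19180) (iv F73293)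
theorem F75428 : act 2 n19255 = n18703 := d17_1 D19255 (iv D18703) (iv F73294)
theorem F75429 : act 4 n19255 = n19210 := d26_1 D19255 (iv D19210) (iv D18645) (iv F71080) D18702
theorem F75430 : act 7 n19255 = n18981 := d31_2 (iv F73296) D19255 (iv D18981)
theorem F75431 : act 8 n19255 = n18705 := d32_2 (iv F73297) D19255 (iv D18705)
def n19256 : Q := act 6 n18703
theorem D19256 : act 6 n18703 = n19256 := rfl
theorem F75432 : act 0 n19256 = n19253 := d5_1 D19256 (iv D19253) (iv F73298)
theorem F75433 : act 1 n19256 = n18713 := d12_1 D19256 (iv D18713) (iv F73299)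
theorem F75434 : act 3 n19256 = n19133 := d23_1 D19256 (iv D19133) (iv F73300)
theorem F75435 : act 4 n19256 = n19211 := d27_1 D19256 (iv D19211) (iv F73301)
theorem F75436 : act 5 n19256 = n18968 := d30_1 D19256 (iv D18968) (iv D18373) (iv F71087) D18703
theorem F75437 : act 7 n19256 = n18982 := d33_2 (iv F73302) D19256 (iv D18982)
theorem F75438 : act 8 n19256 = n18706 := d34_2 (iv F73303) D19256 (iv D18706)
def n19257 : Q := act 5 n18704
theorem D19257 : act 5 n18704 = n19257 := rfl
theorem F75439 : act 2 n19257 = n19136 := d17_1 D19257 (iv D19136) (iv F73304)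
theorem F75440 : act 3 n19257 = n18705 := d22_1 D19257 (iv D18705) D18704
def n19258 : Q := act 6 n18705
theorem D19258 : act 6 n18705 = n19258 := rfl
theorem F75441 : act 2 n19258 = n18706 := d18_1 D19258 (iv D18706) (iv F73306)
theorem F75442 : act 7 n19258 = n18709 := d33_2 (iv F73307) D19258 (iv D18709)
def n19259 : Q := act 6 n18707
theorem D19259 : act 6 n18707 = n19259 := rfl
theorem F75443 : act 2 n19259 = n18708 := d18_1 D19259 (iv D18708) (iv F73311)
theorem F75444 : act 4 n19259 = n18709 := d27_1 D19259 (iv D18709) (iv F73312)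
def n19260 : Q := act 6 n18710
theorem D19260 : act 6 n18710 = n19260 := rfl
theorem F75445 : act 2 n19260 = n19243 := d18_1 D19260 (iv D19243) (iv F73317)
theorem F75446 : act 3 n19260 = n18712 := d23_1 D19260 (iv D18712) (iv F73318)
theorem F75447 : act 4 n19260 = n19144 := d27_1 D19260 (iv D19144) (iv F73319)
theorem F75448 : act 7 n19260 = n18933 := d33_2 (iv F73320) D19260 (iv D18933)
def n19261 : Q := act 6 n18711
theorem D19261 : act 6 n18711 = n19261 := rfl
theorem F75449 : act 0 n19261 = n19032 := d5_1 D19261 (iv D19032) (iv F73321)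
theorem F75450 : act 1 n19261 = n19211 := d12_1 D19261 (iv D19211) (iv F73322)
theorem F75451 : act 2 n19261 = n19035 := d18_1 D19261 (iv D19035) (iv F73323)
theorem F75452 : act 4 n19261 = n18713 := d27_1 D19261 (iv D18713) (iv F73324)
theorem F75453 : act 5 n19261 = n19172 := d30_1 D19261 (iv D19172) (iv D18602) (iv F71108) D18711
theorem F75454 : act 7 n19261 = n18980 := d33_2 (iv F73325) D19261 (iv D18980)
theorem F75455 : act 8 n19261 = n18712 := d34_2 (iv F73326) D19261 (iv D18712)
def n19262 : Q := act 4 n18714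
theorem D19262 : act 4 n18714 = n19262 := rfl
theorem F75456 : act 0 n19262 = n18715 := d3_1 D19262 (iv D18715) D18714
theorem F75457 : act 1 n19262 = n19157 := d10_1 D19262 F75034 (iv F73334)
theorem F75458 : act 2 n19262 = n18916 := d16_1 D19262 (iv D18916) (iv F73335)
theorem F75459 : act 3 n19262 = n19025 := d21_1 D19262 (iv D19025) F72261 (iv F71136) (iv F73336)
theorem F75460 : act 6 n19262 = n18752 := d27_2 (iv F73338) D19262 (iv D18752)
def n19263 : Q := act 5 n18715
theorem D19263 : act 5 n18715 = n19263 := rfl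
theorem F75461 : act 1 n19263 = n18716 := d11_1 D19263 (iv D18716) (iv F73339)
theorem F75462 : act 2 n19263 = n18917 := d17_1 D19263 (iv D18917) (iv F73340)
theorem F75463 : act 3 n19263 = n19026 := d22_1 D19263 (iv D19026) (iv F73341)
theorem F75464 : act 4 n19263 = n18951 := d26_1 D19263 (iv D18951) F71874 (iv F71123) D18715
def n19264 : Q := act 6 n18716
theorem D19264 : act 6 n18716 = n19264 := rfl
theorem F75465 : act 0 n19264 = n19162 := d5_1 D19264 (iv D19162) (iv F73343)
theorem F75466 : act 2 n19264 = n18717 := d18_1 D19264 (iv D18717) (iv F73344)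
theorem F75467 : act 3 n19264 = n19027 := d23_1 D19264 (iv D19027) (iv F73345)
theorem F75468 : act 4 n19264 = n18953 := d27_1 D19264 (iv D18953) (iv F73346)
theorem F75469 : act 5 n19264 = n18754 := d30_1 D19264 (iv D18754) (iv D18141) (iv F71128) D18716
def n19265 : Q := act 5 n18718
theorem D19265 : act 5 n18718 = n19265 := rfl
theorem F75470 : act 0 n19265 = n18726 := d4_1 D19265 (iv D18726) (iv F73350)
theorem F75471 : act 3 n19265 = n18759 := d22_1 D19265 (iv D18759) (iv F73351)
theorem F75472 : act 7 n19265 = n18719 := d31_2 (iv F73353) D19265 (iv D18719)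
def n19266 : Q := act 6 n18719
theorem D19266 : act 6 n18719 = n19266 := rfl
theorem F75473 : act 0 n19266 = n18731 := d5_1 D19266 (iv D18731) (iv F73354)
theorem F75474 : act 3 n19266 = n18720 := d23_1 D19266 (iv D18720) (iv F73355)
theorem F75475 : act 5 n19266 = n18846 := d30_1 D19266 (iv D18846) (iv D18248) (iv F71145) D18719
theorem F75476 : act 8 n19266 = n19176 := d34_2 (iv F73356) D19266 (iv D19176)
def n19267 : Q := act 5 n18721
theorem D19267 : act 5 n18721 = n19267 := rfl
theorem F75477 : act 1 n19267 = n18737 := d11_1 D19267 (iv D18737) (iv F73362)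
theorem F75478 : act 4 n19267 = n18726 := d26_1 D19267 (iv D18726) (iv D18119) (iv F71152) D18721
theorem F75479 : act 7 n19267 = n18727 := d31_2 (iv F73364) D19267 (iv D18727)
theorem F75480 : act 8 n19267 = n19265 := d32_2 (iv F73365) D19267 (iv D19265)
def n19268 : Q := act 1 n18722
theorem D19268 : act 1 n18722 = n19268 := rfl
theorem F75481 : act 2 n19268 = n18738 := d8_2 D18722 D19268 (iv D18738) (iv D18129) (iv F71157)
theorem F75482 : act 3 n19268 = n19268 := d9_2 F73367 D19268 (iv D19268)
theorem F75483 : act 5 n19268 = n19167 := d11_2 (iv F73368) D19268 F75066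
theorem F75484 : act 6 n19268 = n18901 := d12_2 (iv F73369) D19268 (iv D18901)
theorem F75485 : act 7 n19268 = n18895 := d13_2 (iv F73370) D19268 F73937
theorem F75486 : act 8 n19268 = n18724 := d14_2 (iv F73371) D19268 (iv D18724)
def n19269 : Q := act 4 n18722
theorem D19269 : act 4 n18722 = n19269 := rfl
theorem F75487 : act 0 n19269 = n18947 := d3_1 D19269 F74107 (iv F73366)
theorem F75488 : act 2 n19269 = n18723 := d16_1 D19269 (iv D18723) D18722
theorem F75489 : act 6 n19269 = n18902 := d27_2 (iv F73369) D19269 (iv D18902)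
theorem F75490 : act 7 n19269 = n18884 := d28_2 (iv F73370) D19269 F73900
theorem F75491 : act 8 n19269 = n18725 := d29_2 (iv F73371) D19269 (iv D18725)
def n19270 : Q := act 5 n18723
theorem D19270 : act 5 n18723 = n19270 := rfl
theorem F75492 : act 0 n19270 = n19267 := d4_1 D19270 (iv D19267) (iv F73372)
theorem F75493 : act 1 n19270 = n18740 := d11_1 D19270 (iv D18740) (iv F73373)
theorem F75494 : act 3 n19270 = n18769 := d22_1 D19270 (iv D18769) (iv F73374)
theorem F75495 : act 4 n19270 = n19265 := d26_1 D19270 (iv D19265) (iv D18718) (iv F71158) D18723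
theorem F75496 : act 7 n19270 = n19247 := d31_2 (iv F73376) D19270 (iv D19247)
theorem F75497 : act 8 n19270 = n18726 := d32_2 (iv F73377) D19270 (iv D18726)
def n19271 : Q := act 0 n18724
theorem D19271 : act 0 n18724 = n19271 := rfl
theorem F75498 : act 2 n19271 = n18741 := d1_2 (iv F73378) D19271 (iv D18741)
theorem F75499 : act 3 n19271 = n19271 := d2_2 F73379 D19271 (iv D19271)
theorem F75500 : act 6 n19271 = n18904 := d5_2 (iv F73380) D19271 (iv D18904)
theorem F75501 : act 7 n19271 = n18728 := d6_2 (iv F73381) D19271 (iv D18728)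
def n19272 : Q := act 4 n18724
theorem D19272 : act 4 n18724 = n19272 := rfl
theorem F75502 : act 1 n19272 = n18725 := d10_1 D19272 (iv D18725) D18724
theorem F75503 : act 2 n19272 = n18742 := d16_1 D19272 (iv D18742) (iv F73378)
theorem F75504 : act 6 n19272 = n18905 := d27_2 (iv F73380) D19272 (iv D18905)
theorem F75505 : act 7 n19272 = n18729 := d28_2 (iv F73381) D19272 (iv D18729)
def n19273 : Q := act 3 n18725
theorem D19273 : act 3 n18725 = n19273 := rfl
theorem F75506 : act 2 n19273 = n18770 := d15_1 D19273 (iv D18770) F71287 (iv F71166) (iv F73382)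
theorem F75507 : act 4 n19273 = n19273 := d21_2 D18725 D19273 (iv D19273) (iv D18725) F71162
theorem F75508 : act 6 n19273 = n18906 := d23_2 (iv F73383) D19273 (iv D18906)
def n19274 : Q := act 5 n18725
theorem D19274 : act 5 n18725 = n19274 := rfl
theorem F75509 : act 2 n19274 = n18726 := d17_1 D19274 (iv D18726) (iv F73382)
theorem F75510 : act 7 n19274 = n18730 := d31_2 (iv F73384) D19274 (iv D18730)
def n19275 : Q := act 6 n18726
theorem D19275 : act 6 n18726 = n19275 := rfl
theorem F75511 : act 1 n19275 = n18744 := d12_1 D19275 (iv D18744) (iv F73385)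
theorem F75512 : act 3 n19275 = n18772 := d23_1 D19275 (iv D18772) (iv F73386)
theorem F75513 : act 5 n19275 = n18908 := d30_1 D19275 (iv D18908) (iv D18308) (iv F71167) D18726
theorem F75514 : act 7 n19275 = n18731 := d33_2 (iv F73387) D19275 (iv D18731)
def n19276 : Q := act 6 n18727
theorem D19276 : act 6 n18727 = n19276 := rfl
theorem F75515 : act 1 n19276 = n18751 := d12_1 D19276 (iv D18751) (iv F73388)
theorem F75516 : act 3 n19276 = n18826 := d23_1 D19276 (iv D18826) (iv F73389)
theorem F75517 : act 4 n19276 = n18731 := d27_1 D19276 (iv D18731) (iv F73390)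
theorem F75518 : act 8 n19276 = n18828 := d34_2 (iv F73391) D19276 (iv D18828)
def n19277 : Q := act 4 n18728
theorem D19277 : act 4 n18728 = n19277 := rfl
theorem F75519 : act 0 n19277 = n18729 := d3_1 D19277 (iv D18729) D18728
theorem F75520 : act 2 n19277 = n18752 := d16_1 D19277 (iv D18752) (iv F73392)
theorem F75521 : act 6 n19277 = n18916 := d27_2 (iv F73394) D19277 (iv D18916)
theorem F75522 : act 8 n19277 = n19262 := d29_2 (iv F73395) D19277 (iv D19262)
def n19278 : Q := act 5 n18729
theorem D19278 : act 5 n18729 = n19278 := rfl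
theorem F75523 : act 1 n19278 = n18730 := d11_1 D19278 (iv D18730) (iv F73396)
theorem F75524 : act 2 n19278 = n18753 := d17_1 D19278 (iv D18753) (iv F73397)
theorem F75525 : act 8 n19278 = n19263 := d32_2 (iv F73399) D19278 (iv D19263)
def n19279 : Q := act 6 n18730
theorem D19279 : act 6 n18730 = n19279 := rfl
theorem F75526 : act 2 n19279 = n18731 := d18_1 D19279 (iv D18731) (iv F73400)
theorem F75527 : act 5 n19279 = n18918 := d30_1 D19279 (iv D18918) (iv D18316) (iv F71177) D18730
theorem F75528 : act 8 n19279 = n19264 := d34_2 (iv F73401) D19279 (iv D19264)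
def n19280 : Q := act 5 n18732
theorem D19280 : act 5 n18732 = n19280 := rfl
theorem F75529 : act 0 n19280 = n19044 := d4_1 D19280 (iv D19044) (iv F73406)
theorem F75530 : act 3 n19280 = n18737 := d22_1 D19280 (iv D18737) (iv F73407)
theorem F75531 : act 4 n19280 = n18777 := d26_1 D19280 (iv D18777) (iv D18165) (iv F71187) D18732
theorem F75532 : act 7 n19280 = n19223 := d31_2 (iv F73409) D19280 (iv D19223)
theorem F75533 : act 8 n19280 = n19100 := d32_2 (iv F73410) D19280 (iv D19100)
def n19281 : Q := act 1 n18733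
theorem D19281 : act 1 n18733 = n19281 := rfl
theorem F75534 : act 2 n19281 = n19167 := d8_2 D18733 D19281 F75066 F72864 (iv F71192)
theorem F75535 : act 3 n19281 = n18829 := d9_2 (iv F73412) D19281 (iv D18829)
theorem F75536 : act 5 n19281 = n18738 := d11_2 (iv F73413) D19281 (iv D18738)
theorem F75537 : act 6 n19281 = n18840 := d12_2 (iv F73414) D19281 (iv D18840)
theorem F75538 : act 7 n19281 = n19166 := d13_2 (iv F73415) D19281 F75061
theorem F75539 : act 8 n19281 = n18735 := d14_2 (iv F73416) D19281 (iv D18735)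
def n19282 : Q := act 4 n18733
theorem D19282 : act 4 n18733 = n19282 := rfl
theorem F75540 : act 0 n19282 = n18909 := d3_1 D19282 (iv D18909) (iv F73411)
theorem F75541 : act 2 n19282 = n18734 := d16_1 D19282 (iv D18734) D18733
theorem F75542 : act 6 n19282 = n18841 := d27_2 (iv F73414) D19282 (iv D18841)
theorem F75543 : act 7 n19282 = n19177 := d28_2 (iv F73415) D19282 (iv D19177)
theorem F75544 : act 8 n19282 = n18736 := d29_2 (iv F73416) D19282 (iv D18736)
def n19283 : Q := act 5 n18734
theorem D19283 : act 5 n18734 = n19283 := rfl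
theorem F75545 : act 0 n19283 = n18910 := d4_1 D19283 (iv D18910) (iv F73417)
theorem F75546 : act 1 n19283 = n19265 := d11_1 D19283 (iv D19265) (iv F73418)
theorem F75547 : act 3 n19283 = n19100 := d22_1 D19283 (iv D19100) (iv F73419)
theorem F75548 : act 4 n19283 = n18740 := d26_1 D19283 (iv D18740) (iv D18130) (iv F71193) D18734
theorem F75549 : act 7 n19283 = n19178 := d31_2 (iv F73421) D19283 (iv D19178)
theorem F75550 : act 8 n19283 = n18737 := d32_2 (iv F73422) D19283 (iv D18737)
def n19284 : Q := act 4 n18735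
theorem D19284 : act 4 n18735 = n19284 := rfl
theorem F75551 : act 1 n19284 = n18736 := d10_1 D19284 (iv D18736) D18735
theorem F75552 : act 6 n19284 = n19194 := d27_2 (iv F73425) D19284 (iv D19194)
theorem F75553 : act 7 n19284 = n18748 := d28_2 (iv F73426) D19284 (iv D18748)
def n19285 : Q := act 3 n18736
theorem D19285 : act 3 n18736 = n19285 := rfl
theorem F75554 : act 0 n19285 = n18748 := d2_1 D19285 F73458 F73447
theorem F75555 : act 4 n19285 = n18747 := d21_2 D18736 D19285 F73454 F71230 (iv F71197)
theorem F75556 : act 6 n19285 = n19195 := d23_2 (iv F73428) D19285 (iv D19195)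
def n19286 : Q := act 5 n18736
theorem D19286 : act 5 n18736 = n19286 := rfl
theorem F75557 : act 2 n19286 = n18737 := d17_1 D19286 (iv D18737) (iv F73427)
theorem F75558 : act 4 n19286 = n18743 := d26_1 D19286 (iv D18743) (iv D18132) (iv F71198) D18736
theorem F75559 : act 7 n19286 = n18750 := d31_2 (iv F73429) D19286 (iv D18750)
def n19287 : Q := act 6 n18737
theorem D19287 : act 6 n18737 = n19287 := rfl
theorem F75560 : act 4 n19287 = n18744 := d27_1 D19287 (iv D18744) (iv F73430)
theorem F75561 : act 5 n19287 = n19197 := d30_1 D19287 (iv D19197) (iv D18623) (iv F71201) D18737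
theorem F75562 : act 7 n19287 = n18751 := d33_2 (iv F73431) D19287 (iv D18751)
def n19288 : Q := act 0 n18738
theorem D19288 : act 0 n18738 = n19288 := rfl
theorem F75563 : act 1 n19288 = n18979 := d0_2 D18738 D19288 F74235 F72391 F71502
theorem F75564 : act 3 n19288 = n18830 := d2_2 (iv F73432) D19288 (iv D18830)
theorem F75565 : act 8 n19288 = n18741 := d7_2 (iv F73433) D19288 (iv D18741)
def n19289 : Q := act 4 n18738
theorem D19289 : act 4 n18738 = n19289 := rfl
theorem F75566 : act 1 n19289 = n18739 := d10_1 D19289 (iv D18739) D18738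
theorem F75567 : act 8 n19289 = n18742 := d29_2 (iv F73433) D19289 (iv D18742)
def n19290 : Q := act 5 n18739
theorem D19290 : act 5 n18739 = n19290 := rfl
theorem F75568 : act 2 n19290 = n18740 := d17_1 D19290 (iv D18740) (iv F73434)
theorem F75569 : act 8 n19290 = n18743 := d32_2 (iv F73435) D19290 (iv D18743)
def n19291 : Q := act 6 n18740
theorem D19291 : act 6 n18740 = n19291 := rfl
theorem F75570 : act 3 n19291 = n18781 := d23_1 D19291 (iv D18781) (iv F73436)
theorem F75571 : act 8 n19291 = n18744 := d34_2 (iv F73437) D19291 (iv D18744)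
def n19292 : Q := act 4 n18741
theorem D19292 : act 4 n18741 = n19292 := rfl
theorem F75572 : act 0 n19292 = n18742 := d3_1 D19292 (iv D18742) D18741
theorem F75573 : act 1 n19292 = n19102 := d10_1 D19292 F74832 (iv F73438)
theorem F75574 : act 3 n19292 = n19101 := d21_1 D19292 (iv D19101) F72628 (iv F71538) (iv F73439)
theorem F75575 : act 7 n19292 = n18752 := d28_2 (iv F73440) D19292 (iv D18752)
def n19293 : Q := act 5 n18742
theorem D19293 : act 5 n18742 = n19293 := rfl
theorem F75576 : act 1 n19293 = n18743 := d11_1 D19293 (iv D18743) (iv F73441)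
theorem F75577 : act 7 n19293 = n18753 := d31_2 (iv F73442) D19293 (iv D18753)
def n19294 : Q := act 6 n18743
theorem D19294 : act 6 n18743 = n19294 := rfl
theorem F75578 : act 2 n19294 = n18744 := d18_1 D19294 (iv D18744) (iv F73443)
theorem F75579 : act 7 n19294 = n18754 := d33_2 (iv F73444) D19294 (iv D18754)
def n19295 : Q := act 5 n18745
theorem D19295 : act 5 n18745 = n19295 := rfl
theorem F75580 : act 0 n19295 = n19286 := d4_1 D19295 (iv D19286) (iv F73447)
theorem F75581 : act 2 n19295 = n18746 := d17_1 D19295 (iv D18746) (iv F73448)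
theorem F75582 : act 4 n19295 = n18816 := d26_1 D19295 (iv D18816) F71435 (iv F71215) D18745
theorem F75583 : act 7 n19295 = n19196 := d31_2 (iv F73450) D19295 (iv D19196)
def n19296 : Q := act 6 n18746
theorem D19296 : act 6 n18746 = n19296 := rfl
theorem F75584 : act 0 n19296 = n19287 := d5_1 D19296 (iv D19287) (iv F73451)
theorem F75585 : act 4 n19296 = n19192 := d27_1 D19296 (iv D19192) (iv F73452)
theorem F75586 : act 5 n19296 = n18751 := d30_1 D19296 (iv D18751) (iv D18138) (iv F71219) D18746
theorem F75587 : act 7 n19296 = n19197 := d33_2 (iv F73453) D19296 (iv D19197)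
def n19297 : Q := act 5 n18748
theorem D19297 : act 5 n18748 = n19297 := rfl
theorem F75588 : act 1 n19297 = n18750 := d11_1 D19297 (iv D18750) (iv F73457)
theorem F75589 : act 3 n19297 = n19295 := d22_1 D19297 (iv D19295) (iv F73458)
theorem F75590 : act 4 n19297 = n18753 := d26_1 D19297 (iv D18753) (iv D18140) (iv F71222) D18748
def n19298 : Q := act 5 n18749
theorem D19298 : act 5 n18749 = n19298 := rfl
theorem F75591 : act 1 n19298 = n19295 := d11_1 D19298 (iv D19295) (iv F73459)
theorem F75592 : act 3 n19298 = n18750 := d22_1 D19298 (iv D18750) D18749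
def n19299 : Q := act 6 n18750
theorem D19299 : act 6 n18750 = n19299 := rfl
theorem F75593 : act 2 n19299 = n18751 := d18_1 D19299 (iv D18751) (iv F73462)
theorem F75594 : act 4 n19299 = n18754 := d27_1 D19299 (iv D18754) (iv F73463)
def n19300 : Q := act 5 n18752
theorem D19300 : act 5 n18752 = n19300 := rfl
theorem F75595 : act 0 n19300 = n18753 := d4_1 D19300 (iv D18753) (iv F73465)
def n19301 : Q := act 6 n18753
theorem D19301 : act 6 n18753 = n19301 := rfl
theorem F75596 : act 1 n19301 = n18754 := d12_1 D19301 (iv D18754) (iv F73466)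
def n19302 : Q := act 1 n18755
theorem D19302 : act 1 n18755 = n19302 := rfl
theorem F75597 : act 0 n19302 = n18862 := d0_1 D19302 (iv D18862) (iv F72345) F72346 (iv F73468)
theorem F75598 : act 2 n19302 = n18882 := d8_2 D18755 D19302 F73892 F71858 (iv F71237)
theorem F75599 : act 3 n19302 = n19302 := d9_2 F73469 D19302 (iv D19302)
theorem F75600 : act 5 n19302 = n18898 := d11_2 F73506 D19302 F73949
theorem F75601 : act 6 n19302 = n18853 := d12_2 (iv F73470) D19302 (iv D18853)
theorem F75602 : act 7 n19302 = n18795 := d13_2 (iv F73471) D19302 (iv D18795)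
theorem F75603 : act 8 n19302 = n18757 := d14_2 (iv F73472) D19302 (iv D18757)
def n19303 : Q := act 4 n18755
theorem D19303 : act 4 n18755 = n19303 := rfl
theorem F75604 : act 0 n19303 = n18768 := d3_1 D19303 (iv D18768) (iv F73468)
theorem F75605 : act 2 n19303 = n18756 := d16_1 D19303 (iv D18756) D18755
theorem F75606 : act 6 n19303 = n18854 := d27_2 (iv F73470) D19303 (iv D18854)
theorem F75607 : act 7 n19303 = n18796 := d28_2 (iv F73471) D19303 (iv D18796)
theorem F75608 : act 8 n19303 = n18758 := d29_2 (iv F73472) D19303 (iv D18758)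
def n19304 : Q := act 5 n18756
theorem D19304 : act 5 n18756 = n19304 := rfl
theorem F75609 : act 0 n19304 = n18769 := d4_1 D19304 (iv D18769) (iv F73473)
theorem F75610 : act 1 n19304 = n19280 := d11_1 D19304 (iv D19280) (iv F73474)
theorem F75611 : act 3 n19304 = n19267 := d22_1 D19304 (iv D19267) (iv F73475)
theorem F75612 : act 7 n19304 = n18797 := d31_2 (iv F73477) D19304 (iv D18797)
theorem F75613 : act 8 n19304 = n18759 := d32_2 (iv F73478) D19304 (iv D18759)
def n19305 : Q := act 4 n18757
theorem D19305 : act 4 n18757 = n19305 := rfl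
theorem F75614 : act 0 n19305 = n18865 := d3_1 D19305 (iv D18865) (iv F73479)
theorem F75615 : act 1 n19305 = n18758 := d10_1 D19305 (iv D18758) D18757
theorem F75616 : act 2 n19305 = n18887 := d16_1 D19305 (iv D18887) (iv F73480)
theorem F75617 : act 6 n19305 = n18856 := d27_2 (iv F73483) D19305 (iv D18856)
theorem F75618 : act 7 n19305 = n18760 := d28_2 (iv F73484) D19305 (iv D18760)
def n19306 : Q := act 3 n18758
theorem D19306 : act 3 n18758 = n19306 := rfl
theorem F75619 : act 0 n19306 = n18770 := d2_1 D19306 (iv D18770) (iv F73485)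
theorem F75620 : act 4 n19306 = n19306 := d21_2 D18758 D19306 (iv D19306) (iv D18758) F71242
theorem F75621 : act 6 n19306 = n18857 := d23_2 (iv F73487) D19306 (iv D18857)
def n19307 : Q := act 5 n18758
theorem D19307 : act 5 n18758 = n19307 := rfl
theorem F75622 : act 0 n19307 = n18771 := d4_1 D19307 (iv D18771) (iv F73485)
theorem F75623 : act 2 n19307 = n18759 := d17_1 D19307 (iv D18759) (iv F73486)
theorem F75624 : act 7 n19307 = n18761 := d31_2 (iv F73488) D19307 (iv D18761)
def n19308 : Q := act 6 n18759
theorem D19308 : act 6 n18759 = n19308 := rfl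
theorem F75625 : act 0 n19308 = n18772 := d5_1 D19308 (iv D18772) (iv F73489)
theorem F75626 : act 5 n19308 = n18859 := d30_1 D19308 (iv D18859) (iv D18260) (iv F71246) D18759
theorem F75627 : act 7 n19308 = n18762 := d33_2 (iv F73490) D19308 (iv D18762)
def n19309 : Q := act 5 n18760
theorem D19309 : act 5 n18760 = n19309 := rfl
theorem F75628 : act 0 n19309 = n18869 := d4_1 D19309 (iv D18869) (iv F73491)
theorem F75629 : act 1 n19309 = n18761 := d11_1 D19309 (iv D18761) (iv F73492)
theorem F75630 : act 2 n19309 = n18873 := d17_1 D19309 F73865 (iv F73493)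
theorem F75631 : act 3 n19309 = n18773 := d22_1 D19309 (iv D18773) (iv F73494)
theorem F75632 : act 4 n19309 = n18870 := d26_1 D19309 (iv D18870) F71635 (iv F71251) D18760
theorem F75633 : act 8 n19309 = n18803 := d32_2 (iv F73496) D19309 (iv D18803)
def n19310 : Q := act 6 n18761
theorem D19310 : act 6 n18761 = n19310 := rfl
theorem F75634 : act 0 n19310 = n18775 := d5_1 D19310 (iv D18775) (iv F73497)
theorem F75635 : act 2 n19310 = n18762 := d18_1 D19310 (iv D18762) (iv F73498)
theorem F75636 : act 5 n19310 = n18861 := d30_1 D19310 (iv D18861) (iv D18262) (iv F71256) D18761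
theorem F75637 : act 8 n19310 = n18804 := d34_2 (iv F73499) D19310 (iv D18804)
def n19311 : Q := act 4 n18763
theorem D19311 : act 4 n18763 = n19311 := rfl
theorem F75638 : act 0 n19311 = n19040 := d3_1 D19311 (iv D19040) (iv F73504)
theorem F75639 : act 2 n19311 = n18764 := d16_1 D19311 (iv D18764) D18763
theorem F75640 : act 6 n19311 = n19125 := d27_2 (iv F73507) D19311 (iv D19125)
theorem F75641 : act 7 n19311 = n19048 := d28_2 (iv F73508) D19311 (iv D19048)
theorem F75642 : act 8 n19311 = n19123 := d29_2 (iv F73509) D19311 (iv D19123)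
def n19312 : Q := act 5 n18764
theorem D19312 : act 5 n18764 = n19312 := rfl
theorem F75643 : act 1 n19312 = n18777 := d11_1 D19312 (iv D18777) (iv F73510)
theorem F75644 : act 3 n19312 = n18767 := d22_1 D19312 (iv D18767) (iv F73511)
theorem F75645 : act 4 n19312 = n19304 := d26_1 D19312 (iv D19304) (iv D18756) (iv F71265) D18764
theorem F75646 : act 8 n19312 = n19124 := d32_2 (iv F73513) D19312 (iv D19124)
def n19313 : Q := act 5 n18765
theorem D19313 : act 5 n18765 = n19313 := rfl
theorem F75647 : act 0 n19313 = n19312 := d4_1 D19313 (iv D19312) (iv F73514)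
theorem F75648 : act 1 n19313 = n18779 := d11_1 D19313 (iv D18779) (iv F73515)
theorem F75649 : act 3 n19313 = n19124 := d22_1 D19313 (iv D19124) (iv F73516)
theorem F75650 : act 4 n19313 = n18769 := d26_1 D19313 (iv D18769) (iv D18157) (iv F71270) D18765
theorem F75651 : act 7 n19313 = n18808 := d31_2 (iv F73518) D19313 (iv D18808)
theorem F75652 : act 8 n19313 = n18767 := d32_2 (iv F73519) D19313 (iv D18767)
def n19314 : Q := act 3 n18766
theorem D19314 : act 3 n18766 = n19314 := rfl
theorem F75653 : act 4 n19314 = n19314 := d21_2 D18766 D19314 (iv D19314) (iv D18766) F71274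
def n19315 : Q := act 5 n18766
theorem D19315 : act 5 n18766 = n19315 := rfl
theorem F75654 : act 2 n19315 = n18767 := d17_1 D19315 (iv D18767) (iv F73520)
theorem F75655 : act 4 n19315 = n18771 := d26_1 D19315 (iv D18771) (iv D18158) (iv F71275) D18766
theorem F75656 : act 7 n19315 = n18773 := d31_2 (iv F73521) D19315 (iv D18773)
def n19316 : Q := act 6 n18767
theorem D19316 : act 6 n18767 = n19316 := rfl
theorem F75657 : act 1 n19316 = n18780 := d12_1 D19316 (iv D18780) (iv F73522)
theorem F75658 : act 4 n19316 = n18772 := d27_1 D19316 (iv D18772) (iv F73523)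
theorem F75659 : act 7 n19316 = n18774 := d33_2 (iv F73524) D19316 (iv D18774)
def n19317 : Q := act 3 n18768
theorem D19317 : act 3 n18768 = n19317 := rfl
theorem F75660 : act 4 n19317 = n19317 := d21_2 D18768 D19317 (iv D19317) (iv D18768) F71279
theorem F75661 : act 6 n19317 = n18926 := d23_2 (iv F73526) D19317 (iv D18926)
theorem F75662 : act 8 n19317 = n18770 := d25_2 (iv F73528) D19317 (iv D18770)
def n19318 : Q := act 5 n18768
theorem D19318 : act 5 n18768 = n19318 := rfl
theorem F75663 : act 2 n19318 = n18769 := d17_1 D19318 (iv D18769) (iv F73525)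
theorem F75664 : act 7 n19318 = n18812 := d31_2 (iv F73527) D19318 (iv D18812)
theorem F75665 : act 8 n19318 = n18771 := d32_2 (iv F73528) D19318 (iv D18771)
def n19319 : Q := act 6 n18769
theorem D19319 : act 6 n18769 = n19319 := rfl
theorem F75666 : act 1 n19319 = n18781 := d12_1 D19319 (iv D18781) (iv F73529)
theorem F75667 : act 5 n19319 = n18928 := d30_1 D19319 (iv D18928) (iv D18327) (iv F71284) D18769
theorem F75668 : act 7 n19319 = n18813 := d33_2 (iv F73530) D19319 (iv D18813)
theorem F75669 : act 8 n19319 = n18772 := d34_2 (iv F73531) D19319 (iv D18772)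
def n19320 : Q := act 5 n18770
theorem D19320 : act 5 n18770 = n19320 := rfl
theorem F75670 : act 3 n19320 = n18771 := d22_1 D19320 (iv D18771) D18770
def n19321 : Q := act 6 n18771
theorem D19321 : act 6 n18771 = n19321 := rfl
theorem F75671 : act 2 n19321 = n18772 := d18_1 D19321 (iv D18772) (iv F73534)
theorem F75672 : act 5 n19321 = n18930 := d30_1 D19321 (iv D18930) (iv D18329) (iv F71288) D18771
theorem F75673 : act 7 n19321 = n18775 := d33_2 (iv F73535) D19321 (iv D18775)
def n19322 : Q := act 6 n18773
theorem D19322 : act 6 n18773 = n19322 := rfl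
theorem F75674 : act 2 n19322 = n18774 := d18_1 D19322 (iv D18774) (iv F73539)
theorem F75675 : act 4 n19322 = n18775 := d27_1 D19322 (iv D18775) (iv F73540)
theorem F75676 : act 8 n19322 = n18819 := d34_2 (iv F73541) D19322 (iv D18819)
def n19323 : Q := act 5 n18776
theorem D19323 : act 5 n18776 = n19323 := rfl
theorem F75677 : act 2 n19323 = n18777 := d17_1 D19323 (iv D18777) (iv F73548)
theorem F75678 : act 8 n19323 = n19019 := d32_2 (iv F73550) D19323 F74461
def n19324 : Q := act 6 n18777
theorem D19324 : act 6 n18777 = n19324 := rfl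
theorem F75679 : act 3 n19324 = n18780 := d23_1 D19324 (iv D18780) (iv F73551)
theorem F75680 : act 5 n19324 = n19148 := d30_1 D19324 (iv D19148) (iv D18569) (iv F71307) D18777
theorem F75681 : act 8 n19324 = n19145 := d34_2 (iv F73552) D19324 (iv D19145)
def n19325 : Q := act 6 n18778
theorem D19325 : act 6 n18778 = n19325 := rfl
theorem F75682 : act 3 n19325 = n19148 := d23_1 D19325 (iv D19148) (iv F73553)
theorem F75683 : act 5 n19325 = n18780 := d30_1 D19325 (iv D18780) (iv D18168) (iv F71310) D18778
theorem F75684 : act 7 n19325 = n18782 := d33_2 (iv F73554) D19325 (iv D18782)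
theorem F75685 : act 8 n19325 = n19144 := d34_2 (iv F73555) D19325 (iv D19144)
def n19326 : Q := act 6 n18779
theorem D19326 : act 6 n18779 = n19326 := rfl
theorem F75686 : act 3 n19326 = n19145 := d23_1 D19326 (iv D19145) (iv F73556)
theorem F75687 : act 4 n19326 = n18781 := d27_1 D19326 (iv D18781) (iv F73557)
theorem F75688 : act 5 n19326 = n19144 := d30_1 D19326 (iv D19144) (iv D18565) (iv F71314) D18779
theorem F75689 : act 7 n19326 = n18824 := d33_2 (iv F73558) D19326 (iv D18824)
theorem F75690 : act 8 n19326 = n18780 := d34_2 (iv F73559) D19326 (iv D18780)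
def n19327 : Q := act 5 n18783
theorem D19327 : act 5 n18783 = n19327 := rfl
theorem F75691 : act 2 n19327 = n18784 := d17_1 D19327 (iv D18784) (iv F73566)
theorem F75692 : act 8 n19327 = n18934 := d32_2 (iv F73568) D19327 (iv D18934)
def n19328 : Q := act 6 n18784
theorem D19328 : act 6 n18784 = n19328 := rfl
theorem F75693 : act 1 n19328 = n18933 := d12_1 D19328 (iv D18933) (iv F73569)
theorem F75694 : act 3 n19328 = n18787 := d23_1 D19328 (iv D18787) (iv F73570)
theorem F75695 : act 5 n19328 = n18939 := d30_1 D19328 (iv D18939) (iv D18340) (iv F71330) D18784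
theorem F75696 : act 8 n19328 = n18935 := d34_2 (iv F73571) D19328 (iv D18935)
def n19329 : Q := act 6 n18785
theorem D19329 : act 6 n18785 = n19329 := rfl
theorem F75697 : act 1 n19329 = n18935 := d12_1 D19329 (iv D18935) (iv F73572)
theorem F75698 : act 3 n19329 = n18939 := d23_1 D19329 (iv D18939) (iv F73573)
theorem F75699 : act 4 n19329 = n18823 := d27_1 D19329 (iv D18823) (iv F73574)
theorem F75700 : act 5 n19329 = n18787 := d30_1 D19329 (iv D18787) (iv D18177) (iv F71334) D18785
theorem F75701 : act 7 n19329 = n18789 := d33_2 (iv F73575) D19329 (iv D18789)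
theorem F75702 : act 8 n19329 = n18933 := d34_2 (iv F73576) D19329 (iv D18933)
def n19330 : Q := act 6 n18786
theorem D19330 : act 6 n18786 = n19330 := rfl
theorem F75703 : act 1 n19330 = n18939 := d12_1 D19330 (iv D18939) (iv F73577)
theorem F75704 : act 3 n19330 = n18935 := d23_1 D19330 (iv D18935) (iv F73578)
theorem F75705 : act 4 n19330 = n18788 := d27_1 D19330 (iv D18788) (iv F73579)
theorem F75706 : act 5 n19330 = n18933 := d30_1 D19330 (iv D18933) (iv D18335) (iv F71339) D18786
theorem F75707 : act 8 n19330 = n18787 := d34_2 (iv F73580) D19330 (iv D18787)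
def n19331 : Q := act 4 n18790
theorem D19331 : act 4 n18790 = n19331 := rfl
theorem F75708 : act 0 n19331 = n18805 := d3_1 D19331 (iv D18805) (iv F73590)
theorem F75709 : act 1 n19331 = n19151 := d10_1 D19331 (iv D19151) F73596
theorem F75710 : act 2 n19331 = n18791 := d16_1 D19331 (iv D18791) D18790
theorem F75711 : act 3 n19331 = n19277 := d21_1 D19331 (iv D19277) F73393 (iv F71492) (iv F73591)
theorem F75712 : act 6 n19331 = n19048 := d27_2 (iv F73593) D19331 (iv D19048)
theorem F75713 : act 7 n19331 = n19125 := d28_2 (iv F73594) D19331 (iv D19125)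
theorem F75714 : act 8 n19331 = n19025 := d29_2 (iv F73595) D19331 (iv D19025)
def n19332 : Q := act 5 n18791
theorem D19332 : act 5 n18791 = n19332 := rfl
theorem F75715 : act 0 n19332 = n18806 := d4_1 D19332 (iv D18806) (iv F73597)
theorem F75716 : act 1 n19332 = n19070 := d11_1 D19332 (iv D19070) (iv F73598)
theorem F75717 : act 3 n19332 = n18794 := d22_1 D19332 (iv D18794) (iv F73599)
theorem F75718 : act 4 n19332 = n19060 := d26_1 D19332 (iv D19060) (iv D18480) (iv F71355) D18791
theorem F75719 : act 7 n19332 = n19126 := d31_2 (iv F73600) D19332 (iv D19126)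
theorem F75720 : act 8 n19332 = n19058 := d32_2 (iv F73601) D19332 (iv D19058)
def n19333 : Q := act 5 n18792
theorem D19333 : act 5 n18792 = n19333 := rfl
theorem F75721 : act 0 n19333 = n18808 := d4_1 D19333 (iv D18808) (iv F73602)
theorem F75722 : act 1 n19333 = n19066 := d11_1 D19333 (iv D19066) (iv F73603)
theorem F75723 : act 3 n19333 = n19058 := d22_1 D19333 (iv D19058) (iv F73604)
theorem F75724 : act 4 n19333 = n18797 := d26_1 D19333 (iv D18797) (iv D18187) (iv F71360) D18792
theorem F75725 : act 7 n19333 = n19312 := d31_2 (iv F73606) D19333 (iv D19312)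
theorem F75726 : act 8 n19333 = n18794 := d32_2 (iv F73607) D19333 (iv D18794)
def n19334 : Q := act 5 n18793
theorem D19334 : act 5 n18793 = n19334 := rfl
theorem F75727 : act 0 n19334 = n18809 := d4_1 D19334 (iv D18809) (iv F73608)
theorem F75728 : act 2 n19334 = n18794 := d17_1 D19334 (iv D18794) (iv F73609)
theorem F75729 : act 3 n19334 = n19300 := d22_1 D19334 (iv D19300) (iv F73610)
theorem F75730 : act 4 n19334 = n18799 := d26_1 D19334 (iv D18799) (iv D18189) (iv F71366) D18793
theorem F75731 : act 7 n19334 = n18801 := d31_2 (iv F73611) D19334 (iv D18801)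
def n19335 : Q := act 6 n18794
theorem D19335 : act 6 n18794 = n19335 := rfl
theorem F75732 : act 0 n19335 = n18810 := d5_1 D19335 (iv D18810) (iv F73612)
theorem F75733 : act 4 n19335 = n18800 := d27_1 D19335 (iv D18800) (iv F73613)
theorem F75734 : act 7 n19335 = n18802 := d33_2 (iv F73614) D19335 (iv D18802)
def n19336 : Q := act 4 n18795
theorem D19336 : act 4 n18795 = n19336 := rfl
theorem F75735 : act 1 n19336 = n18796 := d10_1 D19336 (iv D18796) D18795
theorem F75736 : act 3 n19336 = n19289 := d21_1 D19336 (iv D19289) F73432 F71533 (iv F73615)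
theorem F75737 : act 6 n19336 = n18883 := d27_2 (iv F73616) D19336 (iv D18883)
theorem F75738 : act 8 n19336 = n18798 := d29_2 (iv F73617) D19336 (iv D18798)
def n19337 : Q := act 5 n18796
theorem D19337 : act 5 n18796 = n19337 := rfl
theorem F75739 : act 0 n19337 = n18812 := d4_1 D19337 (iv D18812) (iv F73618)
theorem F75740 : act 2 n19337 = n18797 := d17_1 D19337 (iv D18797) (iv F73619)
theorem F75741 : act 3 n19337 = n19290 := d22_1 D19337 (iv D19290) (iv F73620)
theorem F75742 : act 8 n19337 = n18799 := d32_2 (iv F73622) D19337 (iv D18799)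
def n19338 : Q := act 6 n18797
theorem D19338 : act 6 n18797 = n19338 := rfl
theorem F75743 : act 0 n19338 = n18813 := d5_1 D19338 (iv D18813) (iv F73623)
theorem F75744 : act 3 n19338 = n19221 := d23_1 D19338 (iv D19221) (iv F73624)
theorem F75745 : act 5 n19338 = n18886 := d30_1 D19338 (iv D18886) (iv D18283) (iv F71376) D18797
theorem F75746 : act 8 n19338 = n18800 := d34_2 (iv F73625) D19338 (iv D18800)
def n19339 : Q := act 5 n18798
theorem D19339 : act 5 n18798 = n19339 := rfl
theorem F75747 : act 1 n19339 = n18799 := d11_1 D19339 (iv D18799) (iv F73626)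
theorem F75748 : act 3 n19339 = n19293 := d22_1 D19339 (iv D19293) (iv F73627)
theorem F75749 : act 7 n19339 = n18803 := d31_2 (iv F73629) D19339 (iv D18803)
def n19340 : Q := act 6 n18799
theorem D19340 : act 6 n18799 = n19340 := rfl
theorem F75750 : act 0 n19340 = n18817 := d5_1 D19340 (iv D18817) (iv F73630)
theorem F75751 : act 2 n19340 = n18800 := d18_1 D19340 (iv D18800) (iv F73631)
theorem F75752 : act 3 n19340 = n19294 := d23_1 D19340 (iv D19294) (iv F73632)
theorem F75753 : act 5 n19340 = n18891 := d30_1 D19340 (iv D18891) (iv D18287) (iv F71384) D18799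
theorem F75754 : act 7 n19340 = n18804 := d33_2 (iv F73633) D19340 (iv D18804)
def n19341 : Q := act 6 n18801
theorem D19341 : act 6 n18801 = n19341 := rfl
theorem F75755 : act 0 n19341 = n18819 := d5_1 D19341 (iv D18819) (iv F73638)
theorem F75756 : act 2 n19341 = n18802 := d18_1 D19341 (iv D18802) (iv F73639)
theorem F75757 : act 4 n19341 = n18804 := d27_1 D19341 (iv D18804) (iv F73640)
def n19342 : Q := act 6 n18803
theorem D19342 : act 6 n18803 = n19342 := rfl
theorem F75758 : act 1 n19342 = n18804 := d12_1 D19342 (iv D18804) (iv F73643)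
theorem F75759 : act 3 n19342 = n18819 := d23_1 D19342 (iv D18819) (iv F73644)
theorem F75760 : act 5 n19342 = n18893 := d30_1 D19342 (iv D18893) (iv D18292) (iv F71395) D18803
def n19343 : Q := act 5 n18805
theorem D19343 : act 5 n18805 = n19343 := rfl
theorem F75761 : act 1 n19343 = n19023 := d11_1 D19343 (iv D19023) (iv F73648)
theorem F75762 : act 2 n19343 = n18806 := d17_1 D19343 (iv D18806) (iv F73649)
theorem F75763 : act 3 n19343 = n19278 := d22_1 D19343 (iv D19278) (iv F73650)
theorem F75764 : act 4 n19343 = n19327 := d26_1 D19343 (iv D19327) (iv D18783) (iv F71403) D18805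
theorem F75765 : act 8 n19343 = n19026 := d32_2 (iv F73652) D19343 (iv D19026)
def n19344 : Q := act 6 n18806
theorem D19344 : act 6 n18806 = n19344 := rfl
theorem F75766 : act 1 n19344 = n18822 := d12_1 D19344 (iv D18822) (iv F73653)
theorem F75767 : act 3 n19344 = n18810 := d23_1 D19344 (iv D18810) (iv F73654)
theorem F75768 : act 4 n19344 = n19328 := d27_1 D19344 (iv D19328) (iv F73655)
def n19345 : Q := act 6 n18807
theorem D19345 : act 6 n18807 = n19345 := rfl
theorem F75769 : act 1 n19345 = n18823 := d12_1 D19345 (iv D18823) (iv F73656)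
theorem F75770 : act 4 n19345 = n18935 := d27_1 D19345 (iv D18935) (iv F73657)
theorem F75771 : act 5 n19345 = n18810 := d30_1 D19345 (iv D18810) (iv D18201) (iv F71409) D18807
theorem F75772 : act 7 n19345 = n18818 := d33_2 (iv F73658) D19345 (iv D18818)
theorem F75773 : act 8 n19345 = n19344 := d34_2 (iv F73659) D19345 (iv D19344)
def n19346 : Q := act 6 n18808
theorem D19346 : act 6 n18808 = n19346 := rfl
theorem F75774 : act 1 n19346 = n18824 := d12_1 D19346 (iv D18824) (iv F73660)
theorem F75775 : act 3 n19346 = n19345 := d23_1 D19346 (iv D19345) (iv F73661)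
theorem F75776 : act 4 n19346 = n18813 := d27_1 D19346 (iv D18813) (iv F73662)
theorem F75777 : act 5 n19346 = n19344 := d30_1 D19346 (iv D19344) (iv D18806) (iv F71414) D18808
theorem F75778 : act 8 n19346 = n18810 := d34_2 (iv F73663) D19346 (iv D18810)
def n19347 : Q := act 6 n18809
theorem D19347 : act 6 n18809 = n19347 := rfl
theorem F75779 : act 1 n19347 = n19250 := d12_1 D19347 (iv D19250) (iv F73664)
theorem F75780 : act 2 n19347 = n18810 := d18_1 D19347 (iv D18810) (iv F73665)
theorem F75781 : act 3 n19347 = n19301 := d23_1 D19347 (iv D19301) (iv F73666)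
theorem F75782 : act 4 n19347 = n18817 := d27_1 D19347 (iv D18817) (iv F73667)
theorem F75783 : act 7 n19347 = n18819 := d33_2 (iv F73668) D19347 (iv D18819)
def n19348 : Q := act 5 n18811
theorem D19348 : act 5 n18811 = n19348 := rfl
theorem F75784 : act 0 n19348 = n19290 := d4_1 D19348 (iv D19290) (iv F73672)
theorem F75785 : act 2 n19348 = n19191 := d17_1 D19348 (iv D19191) (iv F73673)
theorem F75786 : act 3 n19348 = n18812 := d22_1 D19348 (iv D18812) D18811
theorem F75787 : act 8 n19348 = n18816 := d32_2 (iv F73676) D19348 (iv D18816)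
def n19349 : Q := act 6 n18812
theorem D19349 : act 6 n18812 = n19349 := rfl
theorem F75788 : act 2 n19349 = n18813 := d18_1 D19349 (iv D18813) (iv F73677)
theorem F75789 : act 5 n19349 = n18948 := d30_1 D19349 (iv D18948) (iv D18348) (iv F71424) D18812
theorem F75790 : act 8 n19349 = n18817 := d34_2 (iv F73678) D19349 (iv D18817)
def n19350 : Q := act 5 n18814
theorem D19350 : act 5 n18814 = n19350 := rfl
theorem F75791 : act 1 n19350 = n18816 := d11_1 D19350 (iv D18816) (iv F73683)
theorem F75792 : act 3 n19350 = n18815 := d22_1 D19350 (iv D18815) D18814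
theorem F75793 : act 4 n19350 = n19298 := d26_1 D19350 (iv D19298) F73460 (iv F71507) (iv F73684)
theorem F75794 : act 7 n19350 = n19199 := d31_2 (iv F73686) D19350 (iv D19199)
def n19351 : Q := act 6 n18815
theorem D19351 : act 6 n18815 = n19351 := rfl
theorem F75795 : act 1 n19351 = n18817 := d12_1 D19351 (iv D18817) (iv F73687)
theorem F75796 : act 2 n19351 = n18827 := d18_1 D19351 (iv D18827) (iv F73688)
theorem F75797 : act 4 n19351 = n19250 := d27_1 D19351 (iv D19250) (iv F73689)
theorem F75798 : act 5 n19351 = n18952 := d30_1 D19351 (iv D18952) (iv D18352) (iv F71431) D18815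
theorem F75799 : act 7 n19351 = n18820 := d33_2 (iv F73690) D19351 (iv D18820)
def n19352 : Q := act 6 n18816
theorem D19352 : act 6 n18816 = n19352 := rfl
theorem F75800 : act 0 n19352 = n19294 := d5_1 D19352 (iv D19294) (iv F73691)
theorem F75801 : act 2 n19352 = n19192 := d18_1 D19352 (iv D19192) (iv F73692)
theorem F75802 : act 3 n19352 = n18817 := d23_1 D19352 (iv D18817) (iv F73693)
theorem F75803 : act 5 n19352 = n18953 := d30_1 D19352 (iv D18953) (iv D18353) (iv F71436) D18816
theorem F75804 : act 7 n19352 = n19200 := d33_2 (iv F73694) D19352 (iv D19200)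
def n19353 : Q := act 6 n18821
theorem D19353 : act 6 n18821 = n19353 := rfl
theorem F75805 : act 0 n19353 = n19260 := d5_1 D19353 (iv D19260) (iv F73706)
theorem F75806 : act 1 n19353 = n19024 := d12_1 D19353 (iv D19024) (iv F73707)
theorem F75807 : act 2 n19353 = n18822 := d18_1 D19353 (iv D18822) (iv F73708)
theorem F75808 : act 3 n19353 = n19033 := d23_1 D19353 (iv D19033) (iv F73709)
theorem F75809 : act 5 n19353 = n19037 := d30_1 D19353 (iv D19037) (iv D18454) (iv F71458) D18821
theorem F75810 : act 8 n19353 = n19016 := d34_2 (iv F73710) D19353 (iv D19016)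
def n19354 : Q := act 0 n18831
theorem D19354 : act 0 n18831 = n19354 := rfl
theorem F75811 : act 1 n19354 = n19168 := d0_2 D18831 D19354 F75070 F72870 F71727
theorem F75812 : act 2 n19354 = n18843 := d1_2 (iv F73741) D19354 (iv D18843)
theorem F75813 : act 3 n19354 = n19354 := d2_2 F73742 D19354 (iv D19354)
theorem F75814 : act 8 n19354 = n19184 := d7_2 (iv F73743) D19354 (iv D19184)
def n19355 : Q := act 4 n18831
theorem D19355 : act 4 n18831 = n19355 := rfl
theorem F75815 : act 1 n19355 = n18832 := d10_1 D19355 (iv D18832) D18831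
theorem F75816 : act 2 n19355 = n18844 := d16_1 D19355 (iv D18844) (iv F73741)
theorem F75817 : act 8 n19355 = n19185 := d29_2 (iv F73743) D19355 (iv D19185)
def n19356 : Q := act 3 n18832
theorem D19356 : act 3 n18832 = n19356 := rfl
theorem F75818 : act 2 n19356 = n18834 := d15_1 D19356 (iv D18834) F71545 (iv F71543) (iv F73744)
theorem F75819 : act 4 n19356 = n19356 := d21_2 D18832 D19356 (iv D19356) (iv D18832) F71540
theorem F75820 : act 8 n19356 = n19186 := d25_2 (iv F73745) D19356 (iv D19186)
def n19357 : Q := act 5 n18832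
theorem D19357 : act 5 n18832 = n19357 := rfl
theorem F75821 : act 2 n19357 = n18833 := d17_1 D19357 (iv D18833) (iv F73744)
theorem F75822 : act 8 n19357 = n19187 := d32_2 (iv F73745) D19357 (iv D19187)
def n19358 : Q := act 6 n18833
theorem D19358 : act 6 n18833 = n19358 := rfl
theorem F75823 : act 1 n19358 = n18846 := d12_1 D19358 (iv D18846) (iv F73746)
theorem F75824 : act 3 n19358 = n18836 := d23_1 D19358 (iv D18836) (iv F73747)
theorem F75825 : act 8 n19358 = n19188 := d34_2 (iv F73748) D19358 (iv D19188)
def n19359 : Q := act 5 n18834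
theorem D19359 : act 5 n18834 = n19359 := rfl
theorem F75826 : act 3 n19359 = n18835 := d22_1 D19359 (iv D18835) D18834
theorem F75827 : act 8 n19359 = n19189 := d32_2 (iv F73750) D19359 (iv D19189)
def n19360 : Q := act 7 n18834
theorem D19360 : act 7 n18834 = n19360 := rfl
theorem F75828 : act 3 n19360 = n18851 := d24_1 D19360 (iv D18851) (iv D18253) (iv F71546) D18834
theorem F75829 : act 4 n19360 = n19360 := d28_1 D19360 (iv D19360) F73749
def n19361 : Q := act 6 n18835
theorem D19361 : act 6 n18835 = n19361 := rfl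
theorem F75830 : act 2 n19361 = n18836 := d18_1 D19361 (iv D18836) (iv F73751)
theorem F75831 : act 7 n19361 = n18852 := d33_2 (iv F73752) D19361 (iv D18852)
theorem F75832 : act 8 n19361 = n19190 := d34_2 (iv F73753) D19361 (iv D19190)
def n19362 : Q := act 0 n18837
theorem D19362 : act 0 n18837 = n19362 := rfl
theorem F75833 : act 1 n19362 = n18904 := d0_2 D18837 D19362 (iv D18904) (iv D18306) (iv F71551)
theorem F75834 : act 3 n19362 = n19362 := d2_2 F73757 D19362 (iv D19362)
theorem F75835 : act 5 n19362 = n19354 := d4_2 (iv F73758) D19362 (iv D19354)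
theorem F75836 : act 7 n19362 = n18843 := d6_2 (iv F73759) D19362 (iv D18843)
def n19363 : Q := act 4 n18837
theorem D19363 : act 4 n18837 = n19363 := rfl
theorem F75837 : act 1 n19363 = n18838 := d10_1 D19363 (iv D18838) D18837
theorem F75838 : act 7 n19363 = n18844 := d28_2 (iv F73759) D19363 (iv D18844)
def n19364 : Q := act 3 n18838
theorem D19364 : act 3 n18838 = n19364 := rfl
theorem F75839 : act 0 n19364 = n18906 := d2_1 D19364 (iv D18906) (iv F73760)
theorem F75840 : act 2 n19364 = n18857 := d15_1 D19364 (iv D18857) F71607 (iv F71556) (iv F73761)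
theorem F75841 : act 4 n19364 = n19364 := d21_2 D18838 D19364 (iv D19364) (iv D18838) F71552
def n19365 : Q := act 5 n18838
theorem D19365 : act 5 n18838 = n19365 := rfl
theorem F75842 : act 0 n19365 = n18907 := d4_1 D19365 (iv D18907) (iv F73760)
theorem F75843 : act 2 n19365 = n18839 := d17_1 D19365 (iv D18839) (iv F73761)
theorem F75844 : act 4 n19365 = n19357 := d26_1 D19365 (iv D19357) (iv D18832) (iv F71553) D18838
theorem F75845 : act 7 n19365 = n18845 := d31_2 (iv F73762) D19365 (iv D18845)
def n19366 : Q := act 6 n18839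
theorem D19366 : act 6 n18839 = n19366 := rfl
theorem F75846 : act 0 n19366 = n18908 := d5_1 D19366 (iv D18908) (iv F73763)
theorem F75847 : act 3 n19366 = n18859 := d23_1 D19366 (iv D18859) (iv F73764)
theorem F75848 : act 4 n19366 = n19358 := d27_1 D19366 (iv D19358) (iv F73765)
theorem F75849 : act 7 n19366 = n18846 := d33_2 (iv F73766) D19366 (iv D18846)
def n19367 : Q := act 0 n18840
theorem D19367 : act 0 n18840 = n19367 := rfl
theorem F75850 : act 1 n19367 = n18911 := d0_2 D18840 D19367 (iv D18911) (iv D18311) (iv F71558)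
theorem F75851 : act 2 n19367 = n19362 := d1_2 (iv F73767) D19367 (iv D19362)
theorem F75852 : act 3 n19367 = n18847 := d2_2 (iv F73768) D19367 (iv D18847)
theorem F75853 : act 5 n19367 = n18843 := d4_2 (iv F73769) D19367 (iv D18843)
theorem F75854 : act 7 n19367 = n19354 := d6_2 (iv F73770) D19367 (iv D19354)
theorem F75855 : act 8 n19367 = n19193 := d7_2 (iv F73771) D19367 (iv D19193)
def n19368 : Q := act 4 n18840
theorem D19368 : act 4 n18840 = n19368 := rfl
theorem F75856 : act 1 n19368 = n18841 := d10_1 D19368 (iv D18841) D18840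
theorem F75857 : act 2 n19368 = n19363 := d16_1 D19368 (iv D19363) (iv F73767)
theorem F75858 : act 7 n19368 = n19355 := d28_2 (iv F73770) D19368 (iv D19355)
theorem F75859 : act 8 n19368 = n19194 := d29_2 (iv F73771) D19368 (iv D19194)
def n19369 : Q := act 3 n18841
theorem D19369 : act 3 n18841 = n19369 := rfl
theorem F75860 : act 0 n19369 = n18913 := d2_1 D19369 (iv D18913) (iv F73772)
theorem F75861 : act 2 n19369 = n19102 := d15_1 D19369 (iv D19102) F72633 (iv F71565) (iv F73773)
theorem F75862 : act 4 n19369 = n18849 := d21_2 D18841 D19369 (iv D18849) (iv D18251) (iv F71559)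
theorem F75863 : act 8 n19369 = n19195 := d25_2 (iv F73775) D19369 (iv D19195)
def n19370 : Q := act 5 n18841
theorem D19370 : act 5 n18841 = n19370 := rfl
theorem F75864 : act 0 n19370 = n18914 := d4_1 D19370 (iv D18914) (iv F73772)
theorem F75865 : act 2 n19370 = n18842 := d17_1 D19370 (iv D18842) (iv F73773)
theorem F75866 : act 4 n19370 = n18845 := d26_1 D19370 (iv D18845) (iv D18247) (iv F71560) D18841
theorem F75867 : act 7 n19370 = n19357 := d31_2 (iv F73774) D19370 (iv D19357)
theorem F75868 : act 8 n19370 = n19196 := d32_2 (iv F73775) D19370 (iv D19196)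
def n19371 : Q := act 6 n18842
theorem D19371 : act 6 n18842 = n19371 := rfl
theorem F75869 : act 0 n19371 = n18915 := d5_1 D19371 (iv D18915) (iv F73776)
theorem F75870 : act 1 n19371 = n19366 := d12_1 D19371 (iv D19366) (iv F73777)
theorem F75871 : act 3 n19371 = n19104 := d23_1 D19371 (iv D19104) (iv F73778)
theorem F75872 : act 4 n19371 = n18846 := d27_1 D19371 (iv D18846) (iv F73779)
theorem F75873 : act 7 n19371 = n19358 := d33_2 (iv F73780) D19371 (iv D19358)
theorem F75874 : act 8 n19371 = n19197 := d34_2 (iv F73781) D19371 (iv D19197)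
def n19372 : Q := act 4 n18843
theorem D19372 : act 4 n18843 = n19372 := rfl
theorem F75875 : act 0 n19372 = n18844 := d3_1 D19372 (iv D18844) D18843
theorem F75876 : act 1 n19372 = n18916 := d10_1 D19372 (iv D18916) (iv F73782)
theorem F75877 : act 8 n19372 = n19198 := d29_2 (iv F73784) D19372 (iv D19198)
def n19373 : Q := act 5 n18844
theorem D19373 : act 5 n18844 = n19373 := rfl
theorem F75878 : act 1 n19373 = n18845 := d11_1 D19373 (iv D18845) (iv F73785)
theorem F75879 : act 8 n19373 = n19199 := d32_2 (iv F73786) D19373 (iv D19199)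
def n19374 : Q := act 6 n18845
theorem D19374 : act 6 n18845 = n19374 := rfl
theorem F75880 : act 0 n19374 = n18918 := d5_1 D19374 (iv D18918) (iv F73787)
theorem F75881 : act 2 n19374 = n18846 := d18_1 D19374 (iv D18846) (iv F73788)
theorem F75882 : act 8 n19374 = n19200 := d34_2 (iv F73789) D19374 (iv D19200)
def n19375 : Q := act 3 n18848
theorem D19375 : act 3 n18848 = n19375 := rfl
theorem F75883 : act 0 n19375 = n19281 := d2_1 D19375 F75535 (iv F73799)
theorem F75884 : act 1 n19375 = n18849 := d9_1 D19375 (iv D18849) (iv F73800)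
theorem F75885 : act 5 n19375 = n19288 := d22_2 (iv F73802) D19375 F75564
theorem F75886 : act 6 n19375 = n19367 := d23_2 (iv F73803) D19375 F75852
theorem F75887 : act 8 n19375 = n19201 := d25_2 (iv F73805) D19375 (iv D19201)
def n19376 : Q := act 6 n18850
theorem D19376 : act 6 n18850 = n19376 := rfl
theorem F75888 : act 3 n19376 = n18852 := d23_1 D19376 (iv D18852) (iv F73809)
theorem F75889 : act 8 n19376 = n18874 := d34_2 (iv F73810) D19376 (iv D18874)
def n19377 : Q := act 7 n18850
theorem D19377 : act 7 n18850 = n19377 := rfl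
theorem F75890 : act 5 n19377 = n18851 := d31_1 D19377 (iv D18851) D18850
def n19378 : Q := act 8 n18851
theorem D19378 : act 8 n18851 = n19378 := rfl
theorem F75891 : act 1 n19378 = n19065 := d14_1 D19378 F74676 F74316
theorem F75892 : act 4 n19378 = n18897 := d29_1 D19378 (iv D18897) (iv F73811)
theorem F75893 : act 7 n19378 = n18876 := d35_1 D19378 (iv D18876) (iv D18274) (iv F71592) D18851
def n19379 : Q := act 4 n18853
theorem D19379 : act 4 n18853 = n19379 := rfl
theorem F75894 : act 1 n19379 = n18854 := d10_1 D19379 (iv D18854) D18853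
theorem F75895 : act 7 n19379 = n18883 := d28_2 (iv F73815) D19379 (iv D18883)
theorem F75896 : act 8 n19379 = n18856 := d29_2 (iv F73816) D19379 (iv D18856)
def n19380 : Q := act 3 n18854
theorem D19380 : act 3 n18854 = n19380 := rfl
theorem F75897 : act 0 n19380 = n18926 := d2_1 D19380 (iv D18926) (iv F73817)
theorem F75898 : act 4 n19380 = n19380 := d21_2 D18854 D19380 (iv D19380) (iv D18854) F71598
theorem F75899 : act 8 n19380 = n18857 := d25_2 (iv F73820) D19380 (iv D18857)
def n19381 : Q := act 5 n18854
theorem D19381 : act 5 n18854 = n19381 := rfl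
theorem F75900 : act 0 n19381 = n18927 := d4_1 D19381 (iv D18927) (iv F73817)
theorem F75901 : act 2 n19381 = n18855 := d17_1 D19381 (iv D18855) (iv F73818)
theorem F75902 : act 7 n19381 = n18885 := d31_2 (iv F73819) D19381 (iv D18885)
theorem F75903 : act 8 n19381 = n18858 := d32_2 (iv F73820) D19381 (iv D18858)
def n19382 : Q := act 6 n18855
theorem D19382 : act 6 n18855 = n19382 := rfl
theorem F75904 : act 0 n19382 = n18928 := d5_1 D19382 (iv D18928) (iv F73821)
theorem F75905 : act 7 n19382 = n18886 := d33_2 (iv F73822) D19382 (iv D18886)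
theorem F75906 : act 8 n19382 = n18859 := d34_2 (iv F73823) D19382 (iv D18859)
def n19383 : Q := act 3 n18856
theorem D19383 : act 3 n18856 = n19383 := rfl
theorem F75907 : act 1 n19383 = n18857 := d9_1 D19383 (iv D18857) (iv F73824)
theorem F75908 : act 4 n19383 = n19383 := d21_2 D18856 D19383 (iv D19383) (iv D18856) F71604
def n19384 : Q := act 5 n18856
theorem D19384 : act 5 n18856 = n19384 := rfl
theorem F75909 : act 1 n19384 = n18858 := d11_1 D19384 (iv D18858) (iv F73824)
theorem F75910 : act 7 n19384 = n18860 := d31_2 (iv F73825) D19384 (iv D18860)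
def n19385 : Q := act 5 n18857
theorem D19385 : act 5 n18857 = n19385 := rfl
theorem F75911 : act 0 n19385 = n18929 := d4_1 D19385 (iv D18929) (iv F73826)
theorem F75912 : act 3 n19385 = n18858 := d22_1 D19385 (iv D18858) D18857
def n19386 : Q := act 6 n18858
theorem D19386 : act 6 n18858 = n19386 := rfl
theorem F75913 : act 0 n19386 = n18930 := d5_1 D19386 (iv D18930) (iv F73828)
theorem F75914 : act 2 n19386 = n18859 := d18_1 D19386 (iv D18859) (iv F73829)
theorem F75915 : act 7 n19386 = n18861 := d33_2 (iv F73830) D19386 (iv D18861)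
def n19387 : Q := act 6 n18860
theorem D19387 : act 6 n18860 = n19387 := rfl
theorem F75916 : act 1 n19387 = n18861 := d12_1 D19387 (iv D18861) (iv F73833)
theorem F75917 : act 8 n19387 = n18893 := d34_2 (iv F73834) D19387 (iv D18893)
def n19388 : Q := act 4 n18862
theorem D19388 : act 4 n18862 = n19388 := rfl
theorem F75918 : act 1 n19388 = n18863 := d10_1 D19388 (iv D18863) D18862
theorem F75919 : act 2 n19388 = n18883 := d16_1 D19388 (iv D18883) (iv F73838)
theorem F75920 : act 8 n19388 = n18865 := d29_2 (iv F73840) D19388 (iv D18865)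
def n19389 : Q := act 3 n18863
theorem D19389 : act 3 n18863 = n19389 := rfl
theorem F75921 : act 2 n19389 = n19235 := d15_1 D19389 (iv D19235) F73195 (iv F71622) (iv F73841)
theorem F75922 : act 4 n19389 = n19389 := d21_2 D18863 D19389 (iv D19389) (iv D18863) F71619
theorem F75923 : act 8 n19389 = n18866 := d25_2 (iv F73842) D19389 (iv D18866)
def n19390 : Q := act 5 n18863
theorem D19390 : act 5 n18863 = n19390 := rfl
theorem F75924 : act 2 n19390 = n18864 := d17_1 D19390 (iv D18864) (iv F73841)
theorem F75925 : act 8 n19390 = n18867 := d32_2 (iv F73842) D19390 (iv D18867)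
def n19391 : Q := act 6 n18864
theorem D19391 : act 6 n18864 = n19391 := rfl
theorem F75926 : act 1 n19391 = n18886 := d12_1 D19391 (iv D18886) (iv F73843)
theorem F75927 : act 3 n19391 = n19237 := d23_1 D19391 (iv D19237) (iv F73844)
theorem F75928 : act 8 n19391 = n18868 := d34_2 (iv F73845) D19391 (iv D18868)
def n19392 : Q := act 3 n18865
theorem D19392 : act 3 n18865 = n19392 := rfl
theorem F75929 : act 1 n19392 = n18866 := d9_1 D19392 (iv D18866) (iv F73846)
theorem F75930 : act 4 n19392 = n19392 := d21_2 D18865 D19392 (iv D19392) (iv D18865) F71625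
def n19393 : Q := act 5 n18865
theorem D19393 : act 5 n18865 = n19393 := rfl
theorem F75931 : act 1 n19393 = n18867 := d11_1 D19393 (iv D18867) (iv F73846)
theorem F75932 : act 2 n19393 = n18889 := d17_1 D19393 (iv D18889) (iv F73847)
theorem F75933 : act 7 n19393 = n18869 := d31_2 (iv F73848) D19393 (iv D18869)
def n19394 : Q := act 5 n18866
theorem D19394 : act 5 n18866 = n19394 := rfl
theorem F75934 : act 2 n19394 = n19238 := d17_1 D19394 (iv D19238) (iv F73849)
theorem F75935 : act 3 n19394 = n18867 := d22_1 D19394 (iv D18867) D18866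
def n19395 : Q := act 7 n18866
theorem D19395 : act 7 n18866 = n19395 := rfl
theorem F75936 : act 2 n19395 = n19081 := d19_1 D19395 F74735 (iv F73849)
theorem F75937 : act 3 n19395 = n18871 := d24_1 D19395 (iv D18871) (iv D18270) (iv F71628) D18866
theorem F75938 : act 4 n19395 = n19395 := d28_1 D19395 (iv D19395) F73850
def n19396 : Q := act 6 n18867
theorem D19396 : act 6 n18867 = n19396 := rfl
theorem F75939 : act 2 n19396 = n18868 := d18_1 D19396 (iv D18868) (iv F73851)
theorem F75940 : act 7 n19396 = n18872 := d33_2 (iv F73852) D19396 (iv D18872)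
def n19397 : Q := act 6 n18869
theorem D19397 : act 6 n18869 = n19397 := rfl
theorem F75941 : act 1 n19397 = n18872 := d12_1 D19397 (iv D18872) (iv F73856)
theorem F75942 : act 2 n19397 = n18893 := d18_1 D19397 (iv D18893) (iv F73857)
def n19398 : Q := act 6 n18870
theorem D19398 : act 6 n18870 = n19398 := rfl
theorem F75943 : act 2 n19398 = n18874 := d18_1 D19398 (iv D18874) (iv F73858)
theorem F75944 : act 3 n19398 = n18872 := d23_1 D19398 (iv D18872) (iv F73859)
def n19399 : Q := act 7 n18870
theorem D19399 : act 7 n18870 = n19399 := rfl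
theorem F75945 : act 2 n19399 = n18875 := d19_1 D19399 (iv D18875) (iv F73858)
theorem F75946 : act 5 n19399 = n18871 := d31_1 D19399 (iv D18871) D18870
def n19400 : Q := act 8 n18871
theorem D19400 : act 8 n18871 = n19400 := rfl
theorem F75947 : act 1 n19400 = n19311 := d14_1 D19400 F75642 F74923
theorem F75948 : act 2 n19400 = n18876 := d20_1 D19400 (iv D18876) (iv F73860)
theorem F75949 : act 4 n19400 = n18898 := d29_1 D19400 (iv D18898) (iv F73861)
def n19401 : Q := act 6 n18873
theorem D19401 : act 6 n18873 = n19401 := rfl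
theorem F75950 : act 0 n19401 = n18893 := d5_1 D19401 (iv D18893) (iv F73863)
theorem F75951 : act 1 n19401 = n18958 := d12_1 D19401 (iv D18958) (iv F73864)
theorem F75952 : act 4 n19401 = n18874 := d27_1 D19401 (iv D18874) D18873
def n19402 : Q := act 7 n18873
theorem D19402 : act 7 n18873 = n19402 := rfl
theorem F75953 : act 0 n19402 = n18889 := d6_1 D19402 F73917 (iv F73863)
theorem F75954 : act 1 n19402 = n18950 := d13_1 D19402 F74113 (iv F73864)
theorem F75955 : act 4 n19402 = n18875 := d28_1 D19402 (iv D18875) D18873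
theorem F75956 : act 5 n19402 = n18887 := d31_1 D19402 F73911 (iv F73865)
def n19403 : Q := act 7 n18874
theorem D19403 : act 7 n18874 = n19403 := rfl
theorem F75957 : act 3 n19403 = n19241 := d24_1 D19403 (iv D19241) F73216 (iv F71643) (iv F73866)
theorem F75958 : act 6 n19403 = n18875 := d33_1 D19403 (iv D18875) D18874
def n19404 : Q := act 8 n18875
theorem D19404 : act 8 n18875 = n19404 := rfl
theorem F75959 : act 1 n19404 = n19323 := d14_1 D19404 F75678 F74458
theorem F75960 : act 3 n19404 = n19242 := d25_1 D19404 (iv D19242) (iv F73867)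
theorem F75961 : act 5 n19404 = n18876 := d32_1 D19404 (iv D18876) (iv F73868)
def n19405 : Q := act 6 n18877
theorem D19405 : act 6 n18877 = n19405 := rfl
theorem F75962 : act 0 n19405 = n18933 := d5_1 D19405 (iv D18933) (iv F73872)
theorem F75963 : act 2 n19405 = n19144 := d18_1 D19405 (iv D19144) (iv F73873)
theorem F75964 : act 3 n19405 = n18881 := d23_1 D19405 (iv D18881) (iv F73874)
theorem F75965 : act 4 n19405 = n19243 := d27_1 D19405 (iv D19243) (iv F73875)
theorem F75966 : act 7 n19405 = n19353 := d33_2 (iv F73876) D19405 (iv D19353)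
def n19406 : Q := act 5 n18878
theorem D19406 : act 5 n18878 = n19406 := rfl
theorem F75967 : act 0 n19406 = n18938 := d4_1 D19406 (iv D18938) (iv F73877)
theorem F75968 : act 2 n19406 = n18879 := d17_1 D19406 (iv D18879) (iv F73878)
theorem F75969 : act 3 n19406 = n19147 := d22_1 D19406 (iv D19147) (iv F73879)
theorem F75970 : act 4 n19406 = n18885 := d26_1 D19406 (iv D18885) (iv D18282) (iv F71650) D18878
theorem F75971 : act 8 n19406 = n18880 := d32_2 (iv F73880) D19406 (iv D18880)
def n19407 : Q := act 6 n18879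
theorem D19407 : act 6 n18879 = n19407 := rfl
theorem F75972 : act 0 n19407 = n18939 := d5_1 D19407 (iv D18939) (iv F73881)
theorem F75973 : act 4 n19407 = n18886 := d27_1 D19407 (iv D18886) (iv F73882)
theorem F75974 : act 8 n19407 = n18881 := d34_2 (iv F73883) D19407 (iv D18881)
def n19408 : Q := act 6 n18880
theorem D19408 : act 6 n18880 = n19408 := rfl
theorem F75975 : act 0 n19408 = n18942 := d5_1 D19408 (iv D18942) (iv F73884)
theorem F75976 : act 2 n19408 = n18881 := d18_1 D19408 (iv D18881) (iv F73885)
theorem F75977 : act 3 n19408 = n19150 := d23_1 D19408 (iv D19150) (iv F73886)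
theorem F75978 : act 4 n19408 = n18891 := d27_1 D19408 (iv D18891) (iv F73887)
theorem F75979 : act 7 n19408 = n18892 := d33_2 (iv F73888) D19408 (iv D18892)
def n19409 : Q := act 4 n18882
theorem D19409 : act 4 n18882 = n19409 := rfl
theorem F75980 : act 0 n19409 = n18883 := d3_1 D19409 (iv D18883) D18882
theorem F75981 : act 1 n19409 = n18943 := d10_1 D19409 (iv D18943) (iv F73892)
theorem F75982 : act 8 n19409 = n18887 := d29_2 (iv F73895) D19409 (iv D18887)
def n19410 : Q := act 3 n18883
theorem D19410 : act 3 n18883 = n19410 := rfl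
theorem F75983 : act 1 n19410 = n18884 := d9_1 D19410 (iv D18884) (iv F73896)
theorem F75984 : act 4 n19410 = n18895 := d21_2 D18883 D19410 (iv D18895) (iv D18295) (iv F71661)
theorem F75985 : act 6 n19410 = n19289 := d23_2 F75737 D19410 (iv F75736)
theorem F75986 : act 8 n19410 = n18888 := d25_2 (iv F73897) D19410 (iv D18888)
def n19411 : Q := act 5 n18883
theorem D19411 : act 5 n18883 = n19411 := rfl
theorem F75987 : act 1 n19411 = n18885 := d11_1 D19411 (iv D18885) (iv F73896)
theorem F75988 : act 8 n19411 = n18889 := d32_2 (iv F73897) D19411 (iv D18889)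
def n19412 : Q := act 5 n18884
theorem D19412 : act 5 n18884 = n19412 := rfl
theorem F75989 : act 0 n19412 = n18946 := d4_1 D19412 (iv D18946) (iv F73898)
theorem F75990 : act 2 n19412 = n19247 := d17_1 D19412 (iv D19247) (iv F73899)
theorem F75991 : act 3 n19412 = n18885 := d22_1 D19412 (iv D18885) D18884
theorem F75992 : act 4 n19412 = n19154 := d26_1 D19412 (iv D19154) F72822 (iv F71709) (iv F73900)
theorem F75993 : act 8 n19412 = n18890 := d32_2 (iv F73902) D19412 (iv D18890)
def n19413 : Q := act 6 n18885
theorem D19413 : act 6 n18885 = n19413 := rfl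
theorem F75994 : act 0 n19413 = n18948 := d5_1 D19413 (iv D18948) (iv F73903)
theorem F75995 : act 2 n19413 = n18886 := d18_1 D19413 (iv D18886) (iv F73904)
theorem F75996 : act 8 n19413 = n18891 := d34_2 (iv F73905) D19413 (iv D18891)
def n19414 : Q := act 3 n18887
theorem D19414 : act 3 n18887 = n19414 := rfl
theorem F75997 : act 0 n19414 = n18888 := d2_1 D19414 (iv D18888) (iv F73909)
theorem F75998 : act 1 n19414 = n18949 := d9_1 D19414 (iv D18949) (iv F73910)
theorem F75999 : act 4 n19414 = n18896 := d21_2 D18887 D19414 (iv D18896) (iv D18297) (iv F71670)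
theorem F76000 : act 6 n19414 = n19292 := d23_2 F74829 D19414 F75574
theorem F76001 : act 7 n19414 = n19262 := d24_2 (iv F73911) D19414 F75459 F74487 F72290
def n19415 : Q := act 5 n18888
theorem D19415 : act 5 n18888 = n19415 := rfl
theorem F76002 : act 1 n19415 = n18890 := d11_1 D19415 (iv D18890) (iv F73912)
theorem F76003 : act 3 n19415 = n18889 := d22_1 D19415 (iv D18889) D18888
theorem F76004 : act 4 n19415 = n19160 := d26_1 D19415 (iv D19160) F72831 (iv F71719) (iv F73913)
theorem F76005 : act 7 n19415 = n19263 := d31_2 (iv F73915) D19415 (iv D19263)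
def n19416 : Q := act 6 n18889
theorem D19416 : act 6 n18889 = n19416 := rfl
theorem F76006 : act 1 n19416 = n18891 := d12_1 D19416 (iv D18891) (iv F73916)
theorem F76007 : act 7 n19416 = n18893 := d33_2 (iv F73917) D19416 (iv D18893)
def n19417 : Q := act 6 n18890
theorem D19417 : act 6 n18890 = n19417 := rfl
theorem F76008 : act 0 n19417 = n18953 := d5_1 D19417 (iv D18953) (iv F73918)
theorem F76009 : act 2 n19417 = n19249 := d18_1 D19417 (iv D19249) (iv F73919)
theorem F76010 : act 3 n19417 = n18891 := d23_1 D19417 (iv D18891) (iv F73920)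
theorem F76011 : act 4 n19417 = n19162 := d27_1 D19417 (iv D19162) (iv F73921)
theorem F76012 : act 5 n19417 = n19294 := d30_1 D19417 (iv D19294) (iv D18743) (iv F71678) D18890
theorem F76013 : act 7 n19417 = n19264 := d33_2 (iv F73922) D19417 (iv D19264)
def n19418 : Q := act 3 n18894
theorem D19418 : act 3 n18894 = n19418 := rfl
theorem F76014 : act 0 n19418 = n18895 := d2_1 D19418 (iv D18895) (iv F73930)
theorem F76015 : act 1 n19418 = n18959 := d9_1 D19418 (iv D18959) (iv F73931)
theorem F76016 : act 5 n19418 = n19165 := d22_2 (iv F73933) D19418 (iv D19165)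
theorem F76017 : act 6 n19418 = n19288 := d23_2 (iv F73934) D19418 F75564
theorem F76018 : act 8 n19418 = n18896 := d25_2 (iv F73936) D19418 (iv D18896)
def n19419 : Q := act 3 n18899
theorem D19419 : act 3 n18899 = n19419 := rfl
theorem F76019 : act 0 n19419 = n19356 := d2_1 D19419 (iv D19356) (iv F73952)
theorem F76020 : act 2 n19419 = n19173 := d15_1 D19419 (iv D19173) F72924 (iv F71734) (iv F73953)
theorem F76021 : act 4 n19419 = n19419 := d21_2 D18899 D19419 (iv D19419) (iv D18899) F71728
theorem F76022 : act 6 n19419 = n19186 := d23_2 (iv F73954) D19419 (iv D19186)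
def n19420 : Q := act 5 n18899
theorem D19420 : act 5 n18899 = n19420 := rfl
theorem F76023 : act 0 n19420 = n19357 := d4_1 D19420 (iv D19357) (iv F73952)
theorem F76024 : act 2 n19420 = n18900 := d17_1 D19420 (iv D18900) (iv F73953)
theorem F76025 : act 4 n19420 = n18907 := d26_1 D19420 (iv D18907) (iv D18307) (iv F71729) D18899
theorem F76026 : act 7 n19420 = n18914 := d31_2 (iv F73955) D19420 (iv D18914)
def n19421 : Q := act 6 n18900
theorem D19421 : act 6 n18900 = n19421 := rfl
theorem F76027 : act 0 n19421 = n19358 := d5_1 D19421 (iv D19358) (iv F73956)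
theorem F76028 : act 1 n19421 = n19176 := d12_1 D19421 (iv D19176) (iv F73957)
theorem F76029 : act 3 n19421 = n19175 := d23_1 D19421 (iv D19175) (iv F73958)
theorem F76030 : act 4 n19421 = n18908 := d27_1 D19421 (iv D18908) (iv F73959)
theorem F76031 : act 5 n19421 = n19188 := d30_1 D19421 (iv D19188) (iv D18615) (iv F71735) D18900
theorem F76032 : act 7 n19421 = n18915 := d33_2 (iv F73960) D19421 (iv D18915)
def n19422 : Q := act 0 n18901
theorem D19422 : act 0 n18901 = n19422 := rfl
theorem F76033 : act 2 n19422 = n19418 := d1_2 (iv F73961) D19422 F76014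
theorem F76034 : act 3 n19422 = n19422 := d2_2 F73962 D19422 (iv D19422)
theorem F76035 : act 7 n19422 = n19288 := d6_2 (iv F73963) D19422 (iv D19288)
theorem F76036 : act 8 n19422 = n18904 := d7_2 (iv F73964) D19422 (iv D18904)
def n19423 : Q := act 4 n18901
theorem D19423 : act 4 n18901 = n19423 := rfl
theorem F76037 : act 1 n19423 = n18902 := d10_1 D19423 (iv D18902) D18901
theorem F76038 : act 2 n19423 = n19410 := d16_1 D19423 F75984 (iv F73961)
theorem F76039 : act 7 n19423 = n19289 := d28_2 (iv F73963) D19423 (iv D19289)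
theorem F76040 : act 8 n19423 = n18905 := d29_2 (iv F73964) D19423 (iv D18905)
def n19424 : Q := act 3 n18902
theorem D19424 : act 3 n18902 = n19424 := rfl
theorem F76041 : act 2 n19424 = n18926 := d15_1 D19424 (iv D18926) F71809 (iv F71740) (iv F73965)
theorem F76042 : act 4 n19424 = n19424 := d21_2 D18902 D19424 (iv D19424) (iv D18902) F71737
theorem F76043 : act 8 n19424 = n18906 := d25_2 (iv F73967) D19424 (iv D18906)
def n19425 : Q := act 5 n18902
theorem D19425 : act 5 n18902 = n19425 := rfl
theorem F76044 : act 2 n19425 = n18903 := d17_1 D19425 (iv D18903) (iv F73965)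
theorem F76045 : act 7 n19425 = n19290 := d31_2 (iv F73966) D19425 (iv D19290)
theorem F76046 : act 8 n19425 = n18907 := d32_2 (iv F73967) D19425 (iv D18907)
def n19426 : Q := act 6 n18903
theorem D19426 : act 6 n18903 = n19426 := rfl
theorem F76047 : act 3 n19426 = n18928 := d23_1 D19426 (iv D18928) (iv F73968)
theorem F76048 : act 7 n19426 = n19291 := d33_2 (iv F73969) D19426 (iv D19291)
theorem F76049 : act 8 n19426 = n18908 := d34_2 (iv F73970) D19426 (iv D18908)
def n19427 : Q := act 4 n18904
theorem D19427 : act 4 n18904 = n19427 := rfl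
theorem F76050 : act 0 n19427 = n18905 := d3_1 D19427 (iv D18905) D18904
theorem F76051 : act 2 n19427 = n19414 := d16_1 D19427 F75999 (iv F73971)
theorem F76052 : act 7 n19427 = n18916 := d28_2 (iv F73973) D19427 (iv D18916)
def n19428 : Q := act 3 n18905
theorem D19428 : act 3 n18905 = n19428 := rfl
theorem F76053 : act 1 n19428 = n18906 := d9_1 D19428 (iv D18906) (iv F73974)
theorem F76054 : act 2 n19428 = n19392 := d15_1 D19428 (iv D19392) F73847 D18888 (iv F73975)
theorem F76055 : act 4 n19428 = n19428 := d21_2 D18905 D19428 (iv D19428) (iv D18905) F71744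
def n19429 : Q := act 5 n18905
theorem D19429 : act 5 n18905 = n19429 := rfl
theorem F76056 : act 1 n19429 = n18907 := d11_1 D19429 (iv D18907) (iv F73974)
theorem F76057 : act 2 n19429 = n19415 := d17_1 D19429 (iv D19415) (iv F73975)
theorem F76058 : act 7 n19429 = n18917 := d31_2 (iv F73976) D19429 (iv D18917)
def n19430 : Q := act 5 n18906
theorem D19430 : act 5 n18906 = n19430 := rfl
theorem F76059 : act 2 n19430 = n18929 := d17_1 D19430 (iv D18929) (iv F73977)
theorem F76060 : act 3 n19430 = n18907 := d22_1 D19430 (iv D18907) D18906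
def n19431 : Q := act 6 n18907
theorem D19431 : act 6 n18907 = n19431 := rfl
theorem F76061 : act 2 n19431 = n18908 := d18_1 D19431 (iv D18908) (iv F73979)
theorem F76062 : act 7 n19431 = n18918 := d33_2 (iv F73980) D19431 (iv D18918)
def n19432 : Q := act 5 n18909
theorem D19432 : act 5 n18909 = n19432 := rfl
theorem F76063 : act 2 n19432 = n18910 := d17_1 D19432 (iv D18910) (iv F73983)
theorem F76064 : act 4 n19432 = n19348 := d26_1 D19432 (iv D19348) F73674 (iv F71751) D18909
theorem F76065 : act 7 n19432 = n19187 := d31_2 (iv F73985) D19432 (iv D19187)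
theorem F76066 : act 8 n19432 = n19295 := d32_2 (iv F73986) D19432 (iv D19295)
def n19433 : Q := act 6 n18910
theorem D19433 : act 6 n18910 = n19433 := rfl
theorem F76067 : act 1 n19433 = n19192 := d12_1 D19433 (iv D19192) (iv F73987)
theorem F76068 : act 3 n19433 = n19204 := d23_1 D19433 (iv D19204) (iv F73988)
theorem F76069 : act 5 n19433 = n18915 := d30_1 D19433 (iv D18915) (iv D18313) (iv F71757) D18910
theorem F76070 : act 7 n19433 = n19188 := d33_2 (iv F73989) D19433 (iv D19188)
theorem F76071 : act 8 n19433 = n19296 := d34_2 (iv F73990) D19433 (iv D19296)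
def n19434 : Q := act 4 n18911
theorem D19434 : act 4 n18911 = n19434 := rfl
theorem F76072 : act 0 n19434 = n18912 := d3_1 D19434 (iv D18912) D18911
theorem F76073 : act 2 n19434 = n18949 := d16_1 D19434 F74111 (iv F73991)
theorem F76074 : act 3 n19434 = n19282 := d21_1 D19434 (iv D19282) F73412 (iv F71779) (iv F73992)
theorem F76075 : act 6 n19434 = n19369 := d27_2 (iv F73994) D19434 F75862
theorem F76076 : act 8 n19434 = n19285 := d29_2 (iv F73995) D19434 F75555
def n19435 : Q := act 5 n18912
theorem D19435 : act 5 n18912 = n19435 := rfl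
theorem F76077 : act 1 n19435 = n18914 := d11_1 D19435 (iv D18914) (iv F73996)
theorem F76078 : act 2 n19435 = n18951 := d17_1 D19435 (iv D18951) (iv F73997)
theorem F76079 : act 3 n19435 = n19432 := d22_1 D19435 (iv D19432) (iv F73998)
theorem F76080 : act 4 n19435 = n18917 := d26_1 D19435 (iv D18917) (iv D18315) (iv F71762) D18912
theorem F76081 : act 8 n19435 = n19297 := d32_2 (iv F73999) D19435 (iv D19297)
def n19436 : Q := act 5 n18913
theorem D19436 : act 5 n18913 = n19436 := rfl
theorem F76082 : act 1 n19436 = n19432 := d11_1 D19436 (iv D19432) (iv F74000)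
theorem F76083 : act 2 n19436 = n19350 := d17_1 D19436 (iv D19350) (iv F74001)
theorem F76084 : act 3 n19436 = n18914 := d22_1 D19436 (iv D18914) D18913
theorem F76085 : act 8 n19436 = n19298 := d32_2 (iv F74004) D19436 (iv D19298)
def n19437 : Q := act 6 n18914
theorem D19437 : act 6 n18914 = n19437 := rfl
theorem F76086 : act 2 n19437 = n18915 := d18_1 D19437 (iv D18915) (iv F74005)
theorem F76087 : act 4 n19437 = n18918 := d27_1 D19437 (iv D18918) (iv F74006)
theorem F76088 : act 8 n19437 = n19299 := d34_2 (iv F74007) D19437 (iv D19299)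
def n19438 : Q := act 5 n18916
theorem D19438 : act 5 n18916 = n19438 := rfl
theorem F76089 : act 0 n19438 = n18917 := d4_1 D19438 (iv D18917) (iv F74012)
theorem F76090 : act 8 n19438 = n19300 := d32_2 (iv F74013) D19438 (iv D19300)
def n19439 : Q := act 6 n18917
theorem D19439 : act 6 n18917 = n19439 := rfl
theorem F76091 : act 1 n19439 = n18918 := d12_1 D19439 (iv D18918) (iv F74014)
theorem F76092 : act 8 n19439 = n19301 := d34_2 (iv F74015) D19439 (iv D19301)
def n19440 : Q := act 3 n18919
theorem D19440 : act 3 n18919 = n19440 := rfl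
theorem F76093 : act 0 n19440 = n19090 := d2_1 D19440 (iv D19090) (iv F74018)
theorem F76094 : act 1 n19440 = n19251 := d9_1 D19440 (iv D19251) (iv F74019)
theorem F76095 : act 2 n19440 = n18923 := d15_1 D19440 (iv D18923) F71805 (iv F71796) (iv F74020)
theorem F76096 : act 4 n19440 = n19440 := d21_2 D18919 D19440 (iv D19440) (iv D18919) F71790
theorem F76097 : act 6 n19440 = n19209 := d23_2 (iv F74021) D19440 (iv D19209)
theorem F76098 : act 7 n19440 = n19116 := d24_2 (iv F74022) D19440 (iv D19116) F72703 (iv F72151)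
def n19441 : Q := act 5 n18919
theorem D19441 : act 5 n18919 = n19441 := rfl
theorem F76099 : act 0 n19441 = n19091 := d4_1 D19441 (iv D19091) (iv F74018)
theorem F76100 : act 1 n19441 = n19252 := d11_1 D19441 (iv D19252) (iv F74019)
theorem F76101 : act 2 n19441 = n18920 := d17_1 D19441 (iv D18920) (iv F74020)
theorem F76102 : act 4 n19441 = n19174 := d26_1 D19441 (iv D19174) (iv D18603) (iv F71791) D18919
theorem F76103 : act 7 n19441 = n19007 := d31_2 (iv F74022) D19441 (iv D19007)
def n19442 : Q := act 6 n18920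
theorem D19442 : act 6 n18920 = n19442 := rfl
theorem F76104 : act 0 n19442 = n19092 := d5_1 D19442 (iv D19092) (iv F74023)
theorem F76105 : act 1 n19442 = n19172 := d12_1 D19442 (iv D19172) (iv F74024)
theorem F76106 : act 3 n19442 = n18925 := d23_1 D19442 (iv D18925) (iv F74025)
theorem F76107 : act 4 n19442 = n19175 := d27_1 D19442 (iv D19175) (iv F74026)
theorem F76108 : act 5 n19442 = n19211 := d30_1 D19442 (iv D19211) (iv D18646) (iv F71797) D18920
theorem F76109 : act 7 n19442 = n19008 := d33_2 (iv F74027) D19442 (iv D19008)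
def n19443 : Q := act 3 n18921
theorem D19443 : act 3 n18921 = n19443 := rfl
theorem F76110 : act 4 n19443 = n19443 := d21_2 D18921 D19443 (iv D19443) (iv D18921) F71799
theorem F76111 : act 8 n19443 = n18923 := d25_2 (iv F74030) D19443 (iv D18923)
def n19444 : Q := act 5 n18921
theorem D19444 : act 5 n18921 = n19444 := rfl
theorem F76112 : act 2 n19444 = n18922 := d17_1 D19444 (iv D18922) (iv F74028)
theorem F76113 : act 4 n19444 = n18927 := d26_1 D19444 (iv D18927) (iv D18326) (iv F71800) D18921
theorem F76114 : act 7 n19444 = n18938 := d31_2 (iv F74029) D19444 (iv D18938)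
theorem F76115 : act 8 n19444 = n18924 := d32_2 (iv F74030) D19444 (iv D18924)
def n19445 : Q := act 6 n18922
theorem D19445 : act 6 n18922 = n19445 := rfl
theorem F76116 : act 4 n19445 = n18928 := d27_1 D19445 (iv D18928) (iv F74031)
theorem F76117 : act 7 n19445 = n18939 := d33_2 (iv F74032) D19445 (iv D18939)
theorem F76118 : act 8 n19445 = n18925 := d34_2 (iv F74033) D19445 (iv D18925)
def n19446 : Q := act 5 n18923
theorem D19446 : act 5 n18923 = n19446 := rfl
theorem F76119 : act 3 n19446 = n18924 := d22_1 D19446 (iv D18924) D18923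
def n19447 : Q := act 6 n18924
theorem D19447 : act 6 n18924 = n19447 := rfl
theorem F76120 : act 2 n19447 = n18925 := d18_1 D19447 (iv D18925) (iv F74035)
theorem F76121 : act 4 n19447 = n18930 := d27_1 D19447 (iv D18930) (iv F74036)
theorem F76122 : act 7 n19447 = n18931 := d33_2 (iv F74037) D19447 (iv D18931)
def n19448 : Q := act 5 n18926
theorem D19448 : act 5 n18926 = n19448 := rfl
theorem F76123 : act 3 n19448 = n18927 := d22_1 D19448 (iv D18927) D18926
theorem F76124 : act 8 n19448 = n18929 := d32_2 (iv F74041) D19448 (iv D18929)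
def n19449 : Q := act 7 n18926
theorem D19449 : act 7 n18926 = n19449 := rfl
theorem F76125 : act 3 n19449 = n18947 := d24_1 D19449 (iv D18947) (iv D18347) (iv F71810) D18926
theorem F76126 : act 4 n19449 = n19449 := d28_1 D19449 (iv D19449) F74040
def n19450 : Q := act 6 n18927
theorem D19450 : act 6 n18927 = n19450 := rfl
theorem F76127 : act 2 n19450 = n18928 := d18_1 D19450 (iv D18928) (iv F74042)
theorem F76128 : act 7 n19450 = n18948 := d33_2 (iv F74043) D19450 (iv D18948)
theorem F76129 : act 8 n19450 = n18930 := d34_2 (iv F74044) D19450 (iv D18930)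
def n19451 : Q := act 4 n18929
theorem D19451 : act 4 n18929 = n19451 := rfl
theorem F76130 : act 5 n19451 = n19451 := d26_2 D18929 D19451 (iv D19451) (iv D18929) F71814
def n19452 : Q := act 6 n18929
theorem D19452 : act 6 n18929 = n19452 := rfl
theorem F76131 : act 3 n19452 = n18930 := d23_1 D19452 (iv D18930) (iv F74047)
def n19453 : Q := act 6 n18932
theorem D19453 : act 6 n18932 = n19453 := rfl
theorem F76132 : act 0 n19453 = n19144 := d5_1 D19453 (iv D19144) (iv F74053)
theorem F76133 : act 2 n19453 = n18933 := d18_1 D19453 (iv D18933) (iv F74054)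
theorem F76134 : act 3 n19453 = n19022 := d23_1 D19453 (iv D19022) (iv F74055)
theorem F76135 : act 4 n19453 = n19353 := d27_1 D19453 (iv D19353) (iv F74056)
theorem F76136 : act 7 n19453 = n19243 := d33_2 (iv F74057) D19453 (iv D19243)
def n19454 : Q := act 6 n18934
theorem D19454 : act 6 n18934 = n19454 := rfl
theorem F76137 : act 2 n19454 = n18935 := d18_1 D19454 (iv D18935) (iv F74060)
theorem F76138 : act 5 n19454 = n18942 := d30_1 D19454 (iv D18942) (iv D18343) (iv F71832) D18934
theorem F76139 : act 7 n19454 = n18954 := d33_2 (iv F74061) D19454 (iv D18954)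
def n19455 : Q := act 5 n18936
theorem D19455 : act 5 n18936 = n19455 := rfl
theorem F76140 : act 0 n19455 = n19323 := d4_1 D19455 (iv D19323) (iv F74064)
theorem F76141 : act 1 n19455 = n18938 := d11_1 D19455 (iv D18938) (iv F74065)
theorem F76142 : act 2 n19455 = n19205 := d17_1 D19455 (iv D19205) (iv F74066)
theorem F76143 : act 3 n19455 = n19327 := d22_1 D19455 (iv D19327) (iv F74067)
theorem F76144 : act 4 n19455 = n18945 := d26_1 D19455 (iv D18945) (iv D18346) (iv F71837) D18936
theorem F76145 : act 8 n19455 = n18940 := d32_2 (iv F74068) D19455 (iv D18940)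
def n19456 : Q := act 5 n18937
theorem D19456 : act 5 n18937 = n19456 := rfl
theorem F76146 : act 0 n19456 = n19147 := d4_1 D19456 (iv D19147) (iv F74069)
theorem F76147 : act 1 n19456 = n19327 := d11_1 D19456 (iv D19327) (iv F74070)
theorem F76148 : act 2 n19456 = n19021 := d17_1 D19456 (iv D19021) (iv F74071)
theorem F76149 : act 3 n19456 = n18938 := d22_1 D19456 (iv D18938) D18937
theorem F76150 : act 4 n19456 = n19023 := d26_1 D19456 (iv D19023) (iv D18435) (iv F71900) (iv F74072)
theorem F76151 : act 8 n19456 = n18941 := d32_2 (iv F74074) D19456 (iv D18941)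
def n19457 : Q := act 6 n18938
theorem D19457 : act 6 n18938 = n19457 := rfl
theorem F76152 : act 2 n19457 = n18939 := d18_1 D19457 (iv D18939) (iv F74075)
theorem F76153 : act 4 n19457 = n18948 := d27_1 D19457 (iv D18948) (iv F74076)
theorem F76154 : act 8 n19457 = n18942 := d34_2 (iv F74077) D19457 (iv D18942)
def n19458 : Q := act 6 n18940
theorem D19458 : act 6 n18940 = n19458 := rfl
theorem F76155 : act 1 n19458 = n18942 := d12_1 D19458 (iv D18942) (iv F74080)
theorem F76156 : act 3 n19458 = n19454 := d23_1 D19458 (iv D19454) (iv F74081)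
theorem F76157 : act 4 n19458 = n18952 := d27_1 D19458 (iv D18952) (iv F74082)
theorem F76158 : act 7 n19458 = n18955 := d33_2 (iv F74083) D19458 (iv D18955)
def n19459 : Q := act 6 n18941
theorem D19459 : act 6 n18941 = n19459 := rfl
theorem F76159 : act 0 n19459 = n19150 := d5_1 D19459 (iv D19150) (iv F74084)
theorem F76160 : act 1 n19459 = n19454 := d12_1 D19459 (iv D19454) (iv F74085)
theorem F76161 : act 2 n19459 = n19022 := d18_1 D19459 (iv D19022) (iv F74086)
theorem F76162 : act 3 n19459 = n18942 := d23_1 D19459 (iv D18942) (iv F74087)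
theorem F76163 : act 4 n19459 = n19027 := d27_1 D19459 (iv D19027) (iv F74088)
theorem F76164 : act 5 n19459 = n19458 := d30_1 D19459 (iv D19458) (iv D18940) (iv F71851) D18941
theorem F76165 : act 7 n19459 = n19029 := d33_2 (iv F74089) D19459 (iv D19029)
def n19460 : Q := act 3 n18943
theorem D19460 : act 3 n18943 = n19460 := rfl
theorem F76166 : act 0 n19460 = n18944 := d2_1 D19460 (iv D18944) (iv F74093)
theorem F76167 : act 2 n19460 = n19285 := d15_1 D19460 (iv D19285) F73427 (iv F73407) (iv F74094)
theorem F76168 : act 4 n19460 = n18959 := d21_2 D18943 D19460 (iv D18959) (iv D18364) (iv F71859)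
theorem F76169 : act 8 n19460 = n18949 := d25_2 (iv F74095) D19460 (iv D18949)
def n19461 : Q := act 5 n18943
theorem D19461 : act 5 n18943 = n19461 := rfl
theorem F76170 : act 0 n19461 = n18945 := d4_1 D19461 (iv D18945) (iv F74093)
theorem F76171 : act 2 n19461 = n19280 := d17_1 D19461 (iv D19280) (iv F74094)
theorem F76172 : act 4 n19461 = n19323 := d26_1 D19461 (iv D19323) (iv D18776) (iv F71860) D18943
theorem F76173 : act 8 n19461 = n18950 := d32_2 (iv F74095) D19461 (iv D18950)
def n19462 : Q := act 5 n18944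
theorem D19462 : act 5 n18944 = n19462 := rfl
theorem F76174 : act 1 n19462 = n18946 := d11_1 D19462 (iv D18946) (iv F74096)
theorem F76175 : act 2 n19462 = n19297 := d17_1 D19462 (iv D19297) (iv F74097)
theorem F76176 : act 3 n19462 = n18945 := d22_1 D19462 (iv D18945) D18944
theorem F76177 : act 4 n19462 = n19278 := d26_1 D19462 (iv D19278) (iv D18729) (iv F71910) (iv F74098)
theorem F76178 : act 8 n19462 = n18951 := d32_2 (iv F74099) D19462 (iv D18951)
def n19463 : Q := act 7 n18944
theorem D19463 : act 7 n18944 = n19463 := rfl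
theorem F76179 : act 1 n19463 = n18947 := d13_1 D19463 (iv D18947) (iv F74096)
theorem F76180 : act 2 n19463 = n19284 := d19_1 D19463 F75553 (iv F74097)
theorem F76181 : act 4 n19463 = n18960 := d28_1 D19463 (iv D18960) (iv F74098)
def n19464 : Q := act 6 n18945
theorem D19464 : act 6 n18945 = n19464 := rfl
theorem F76182 : act 1 n19464 = n18948 := d12_1 D19464 (iv D18948) (iv F74100)
theorem F76183 : act 8 n19464 = n18952 := d34_2 (iv F74101) D19464 (iv D18952)
def n19465 : Q := act 6 n18946
theorem D19465 : act 6 n18946 = n19465 := rfl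
theorem F76184 : act 2 n19465 = n19276 := d18_1 D19465 (iv D19276) (iv F74102)
theorem F76185 : act 3 n19465 = n18948 := d23_1 D19465 (iv D18948) (iv F74103)
theorem F76186 : act 4 n19465 = n19279 := d27_1 D19465 (iv D19279) (iv F74104)
theorem F76187 : act 8 n19465 = n18953 := d34_2 (iv F74105) D19465 (iv D18953)
def n19466 : Q := act 7 n18946
theorem D19466 : act 7 n18946 = n19466 := rfl
theorem F76188 : act 2 n19466 = n19267 := d19_1 D19466 F75479 (iv F74102)
theorem F76189 : act 4 n19466 = n19274 := d28_1 D19466 F75510 (iv F74104)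
theorem F76190 : act 5 n19466 = n18947 := d31_1 D19466 (iv D18947) D18946
def n19467 : Q := act 5 n18949
theorem D19467 : act 5 n18949 = n19467 := rfl
theorem F76191 : act 0 n19467 = n18951 := d4_1 D19467 (iv D18951) (iv F74110)
theorem F76192 : act 3 n19467 = n18950 := d22_1 D19467 (iv D18950) D18949
def n19468 : Q := act 6 n18950
theorem D19468 : act 6 n18950 = n19468 := rfl
theorem F76193 : act 0 n19468 = n18952 := d5_1 D19468 (iv D18952) (iv F74112)
theorem F76194 : act 7 n19468 = n18958 := d33_2 (iv F74113) D19468 (iv D18958)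
def n19469 : Q := act 6 n18951
theorem D19469 : act 6 n18951 = n19469 := rfl
theorem F76195 : act 1 n19469 = n18953 := d12_1 D19469 (iv D18953) (iv F74114)
theorem F76196 : act 3 n19469 = n18952 := d23_1 D19469 (iv D18952) (iv F74115)
def n19470 : Q := act 7 n18956
theorem D19470 : act 7 n18956 = n19470 := rfl
theorem F76197 : act 0 n19470 = n19010 := d6_1 D19470 (iv F75086) F75081
theorem F76198 : act 1 n19470 = n19171 := d13_1 D19470 F75093 F74430
theorem F76199 : act 2 n19470 = n19009 := d19_1 D19470 F74402 F74380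
theorem F76200 : act 3 n19470 = n19029 := d24_1 D19470 (iv F76165) F76162 F74092 (iv F74124)
theorem F76201 : act 4 n19470 = n19170 := d28_1 D19470 F75086 F74407
theorem F76202 : act 5 n19470 = n19014 := d31_1 D19470 (iv F75093) F75092
theorem F76203 : act 6 n19470 = n18957 := d33_1 D19470 (iv D18957) D18956
theorem F76204 : act 8 n19259 = n19470 := d34_0 F76203 (iv F74131) D19259
def n19471 : Q := act 7 n18959
theorem D19471 : act 7 n18959 = n19471 := rfl
theorem F76205 : act 0 n19471 = n18960 := d6_1 D19471 (iv D18960) (iv F74133)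
theorem F76206 : act 2 n19471 = n19201 := d19_1 D19471 F75202 (iv F74134)
theorem F76207 : act 3 n19471 = n19471 := d24_1 D19471 (iv D19471) (iv D18959) F71906 D18959
theorem F76208 : act 5 n19471 = n19271 := d31_1 D19471 F75501 (iv F74135)
def n19472 : Q := act 3 n18961
theorem D19472 : act 3 n18961 = n19472 := rfl
theorem F76209 : act 0 n19472 = n18966 := d2_1 D19472 (iv D18966) (iv F74141)
theorem F76210 : act 1 n19472 = n19209 := d9_1 D19472 (iv D19209) (iv F74142)
theorem F76211 : act 2 n19472 = n19443 := d15_1 D19472 (iv D19443) F74028 (iv F71925) (iv F74143)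
theorem F76212 : act 4 n19472 = n19472 := d21_2 D18961 D19472 (iv D19472) (iv D18961) F71918
theorem F76213 : act 6 n19472 = n19251 := d23_2 (iv F74144) D19472 (iv D19251)
theorem F76214 : act 7 n19472 = n19232 := d24_2 (iv F74145) D19472 (iv D19232) F73190 (iv F72052)
theorem F76215 : act 8 n19472 = n19440 := d25_2 (iv F74146) D19472 (iv D19440)
def n19473 : Q := act 5 n18961
theorem D19473 : act 5 n18961 = n19473 := rfl
theorem F76216 : act 0 n19473 = n18967 := d4_1 D19473 (iv D18967) (iv F74141)
theorem F76217 : act 1 n19473 = n19210 := d11_1 D19473 (iv D19210) (iv F74142)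
theorem F76218 : act 2 n19473 = n18962 := d17_1 D19473 (iv D18962) (iv F74143)
theorem F76219 : act 4 n19473 = n19180 := d26_1 D19473 (iv D19180) (iv D18609) (iv F71919) D18961
theorem F76220 : act 7 n19473 = n18987 := d31_2 (iv F74145) D19473 (iv D18987)
theorem F76221 : act 8 n19473 = n19441 := d32_2 (iv F74146) D19473 (iv D19441)
def n19474 : Q := act 6 n18962
theorem D19474 : act 6 n18962 = n19474 := rfl
theorem F76222 : act 0 n19474 = n18968 := d5_1 D19474 (iv D18968) (iv F74147)
theorem F76223 : act 1 n19474 = n19035 := d12_1 D19474 (iv D19035) (iv F74148)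
theorem F76224 : act 3 n19474 = n19445 := d23_1 D19474 (iv D19445) (iv F74149)
theorem F76225 : act 4 n19474 = n19181 := d27_1 D19474 (iv D19181) (iv F74150)
theorem F76226 : act 5 n19474 = n19253 := d30_1 D19474 (iv D19253) (iv D18701) (iv F71926) D18962
theorem F76227 : act 7 n19474 = n18988 := d33_2 (iv F74151) D19474 (iv D18988)
theorem F76228 : act 8 n19474 = n19442 := d34_2 (iv F74152) D19474 (iv D19442)
def n19475 : Q := act 4 n18963
theorem D19475 : act 4 n18963 = n19475 := rfl
theorem F76229 : act 0 n19475 = n19378 := d3_1 D19475 F75892 (iv F74153)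
theorem F76230 : act 1 n19475 = n18964 := d10_1 D19475 (iv D18964) D18963
theorem F76231 : act 2 n19475 = n18976 := d16_1 D19475 (iv D18976) (iv F74154)
theorem F76232 : act 6 n19475 = n19130 := d27_2 (iv F74157) D19475 (iv D19130)
theorem F76233 : act 7 n19475 = n19219 := d28_2 (iv F74158) D19475 F75280
theorem F76234 : act 8 n19475 = n19094 := d29_2 (iv F74159) D19475 (iv D19094)
def n19476 : Q := act 3 n18964
theorem D19476 : act 3 n18964 = n19476 := rfl
theorem F76235 : act 0 n19476 = n19443 := d2_1 D19476 (iv D19443) (iv F74160)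
theorem F76236 : act 2 n19476 = n18966 := d15_1 D19476 (iv D18966) F71942 (iv F71937) (iv F74161)
theorem F76237 : act 4 n19476 = n19476 := d21_2 D18964 D19476 (iv D19476) (iv D18964) F71930
theorem F76238 : act 6 n19476 = n19131 := d23_2 (iv F74162) D19476 (iv D19131)
theorem F76239 : act 8 n19476 = n19095 := d25_2 (iv F74164) D19476 (iv D19095)
def n19477 : Q := act 5 n18964
theorem D19477 : act 5 n18964 = n19477 := rfl
theorem F76240 : act 0 n19477 = n19444 := d4_1 D19477 (iv D19444) (iv F74160)
theorem F76241 : act 2 n19477 = n18965 := d17_1 D19477 (iv D18965) (iv F74161)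
theorem F76242 : act 4 n19477 = n19381 := d26_1 D19477 (iv D19381) (iv D18854) (iv F71931) D18964
theorem F76243 : act 7 n19477 = n19406 := d31_2 (iv F74163) D19477 (iv D19406)
theorem F76244 : act 8 n19477 = n19096 := d32_2 (iv F74164) D19477 (iv D19096)
def n19478 : Q := act 6 n18965
theorem D19478 : act 6 n18965 = n19478 := rfl
theorem F76245 : act 0 n19478 = n19445 := d5_1 D19478 (iv D19445) (iv F74165)
theorem F76246 : act 1 n19478 = n18978 := d12_1 D19478 (iv D18978) (iv F74166)
theorem F76247 : act 3 n19478 = n18968 := d23_1 D19478 (iv D18968) (iv F74167)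
theorem F76248 : act 4 n19478 = n19382 := d27_1 D19478 (iv D19382) (iv F74168)
theorem F76249 : act 5 n19478 = n19133 := d30_1 D19478 (iv D19133) (iv D18553) (iv F71938) D18965
theorem F76250 : act 7 n19478 = n19407 := d33_2 (iv F74169) D19478 (iv D19407)
theorem F76251 : act 8 n19478 = n19097 := d34_2 (iv F74170) D19478 (iv D19097)
def n19479 : Q := act 5 n18966
theorem D19479 : act 5 n18966 = n19479 := rfl
theorem F76252 : act 1 n19479 = n19359 := d11_1 D19479 (iv D19359) (iv F74171)
theorem F76253 : act 3 n19479 = n18967 := d22_1 D19479 (iv D18967) D18966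
def n19480 : Q := act 7 n18966
theorem D19480 : act 7 n18966 = n19480 := rfl
theorem F76254 : act 0 n19480 = n19232 := d6_1 D19480 (iv F76214) F76209
theorem F76255 : act 1 n19480 = n19360 := d13_1 D19480 (iv D19360) (iv F74171)
theorem F76256 : act 3 n19480 = n18992 := d24_1 D19480 (iv D18992) (iv D18397) (iv F71943) D18966
theorem F76257 : act 4 n19480 = n19480 := d28_1 D19480 (iv D19480) F74172
theorem F76258 : act 6 n19480 = n19072 := d33_1 D19480 (iv F75424) F75423
def n19481 : Q := act 6 n18967
theorem D19481 : act 6 n18967 = n19481 := rfl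
theorem F76259 : act 1 n19481 = n19361 := d12_1 D19481 (iv D19361) (iv F74173)
theorem F76260 : act 2 n19481 = n18968 := d18_1 D19481 (iv D18968) (iv F74174)
theorem F76261 : act 4 n19481 = n19190 := d27_1 D19481 (iv D19190) (iv F74175)
theorem F76262 : act 7 n19481 = n18993 := d33_2 (iv F74176) D19481 (iv D18993)
def n19482 : Q := act 4 n18969
theorem D19482 : act 4 n18969 = n19482 := rfl
theorem F76263 : act 0 n19482 = n19400 := d3_1 D19482 F75949 (iv F74180)
theorem F76264 : act 1 n19482 = n18970 := d10_1 D19482 (iv D18970) D18969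
theorem F76265 : act 2 n19482 = n19219 := d16_1 D19482 F75280 (iv F74181)
theorem F76266 : act 6 n19482 = n19076 := d27_2 (iv F74184) D19482 (iv D19076)
theorem F76267 : act 7 n19482 = n18976 := d28_2 (iv F74185) D19482 (iv D18976)
theorem F76268 : act 8 n19482 = n19052 := d29_2 (iv F74186) D19482 (iv D19052)
def n19483 : Q := act 3 n18970
theorem D19483 : act 3 n18970 = n19483 := rfl
theorem F76269 : act 0 n19483 = n19041 := d2_1 D19483 (iv D19041) (iv F74187)
theorem F76270 : act 2 n19483 = n18999 := d15_1 D19483 (iv D18999) F72114 (iv F71955) (iv F74188)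
theorem F76271 : act 4 n19483 = n19483 := d21_2 D18970 D19483 (iv D19483) (iv D18970) F71948
theorem F76272 : act 6 n19483 = n19077 := d23_2 (iv F74189) D19483 (iv D19077)
theorem F76273 : act 7 n19483 = n19364 := d24_2 (iv F74190) D19483 (iv D19364) F73762 (iv F71975)
theorem F76274 : act 8 n19483 = n19053 := d25_2 (iv F74191) D19483 (iv D19053)
def n19484 : Q := act 5 n18970
theorem D19484 : act 5 n18970 = n19484 := rfl
theorem F76275 : act 0 n19484 = n19042 := d4_1 D19484 (iv D19042) (iv F74187)
theorem F76276 : act 2 n19484 = n18971 := d17_1 D19484 (iv D18971) (iv F74188)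
theorem F76277 : act 4 n19484 = n19390 := d26_1 D19484 (iv D19390) (iv D18863) (iv F71949) D18970
theorem F76278 : act 7 n19484 = n18977 := d31_2 (iv F74190) D19484 (iv D18977)
theorem F76279 : act 8 n19484 = n19054 := d32_2 (iv F74191) D19484 (iv D19054)
def n19485 : Q := act 6 n18971
theorem D19485 : act 6 n18971 = n19485 := rfl
theorem F76280 : act 0 n19485 = n19043 := d5_1 D19485 (iv D19043) (iv F74192)
theorem F76281 : act 1 n19485 = n19407 := d12_1 D19485 (iv D19407) (iv F74193)
theorem F76282 : act 3 n19485 = n19001 := d23_1 D19485 (iv D19001) (iv F74194)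
theorem F76283 : act 4 n19485 = n19391 := d27_1 D19485 (iv D19391) (iv F74195)
theorem F76284 : act 5 n19485 = n19079 := d30_1 D19485 (iv D19079) (iv D18496) (iv F71956) D18971
theorem F76285 : act 7 n19485 = n18978 := d33_2 (iv F74196) D19485 (iv D18978)
theorem F76286 : act 8 n19485 = n19055 := d34_2 (iv F74197) D19485 (iv D19055)
def n19486 : Q := act 4 n18972
theorem D19486 : act 4 n18972 = n19486 := rfl
theorem F76287 : act 0 n19486 = n19336 := d3_1 D19486 (iv D19336) (iv F74198)
theorem F76288 : act 1 n19486 = n18973 := d10_1 D19486 (iv D18973) D18972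
theorem F76289 : act 2 n19486 = n19379 := d16_1 D19486 (iv D19379) (iv F74199)
theorem F76290 : act 6 n19486 = n19409 := d27_2 (iv F74202) D19486 (iv D19409)
theorem F76291 : act 7 n19486 = n19388 := d28_2 (iv F74203) D19486 (iv D19388)
theorem F76292 : act 8 n19486 = n19101 := d29_2 (iv F74204) D19486 (iv D19101)
def n19487 : Q := act 3 n18973
theorem D19487 : act 3 n18973 = n19487 := rfl
theorem F76293 : act 0 n19487 = n19045 := d2_1 D19487 (iv D19045) (iv F74205)
theorem F76294 : act 2 n19487 = n19195 := d15_1 D19487 (iv D19195) F72992 (iv F71967) (iv F74206)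
theorem F76295 : act 4 n19487 = n18979 := d21_2 D18973 D19487 (iv D18979) (iv D18383) (iv F71960)
theorem F76296 : act 6 n19487 = n19460 := d23_2 (iv F74207) D19487 (iv D19460)
theorem F76297 : act 8 n19487 = n19102 := d25_2 (iv F74209) D19487 (iv D19102)
def n19488 : Q := act 5 n18973
theorem D19488 : act 5 n18973 = n19488 := rfl
theorem F76298 : act 0 n19488 = n19046 := d4_1 D19488 (iv D19046) (iv F74205)
theorem F76299 : act 2 n19488 = n18974 := d17_1 D19488 (iv D18974) (iv F74206)
theorem F76300 : act 4 n19488 = n18977 := d26_1 D19488 (iv D18977) (iv D18379) (iv F71961) D18973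
theorem F76301 : act 7 n19488 = n19390 := d31_2 (iv F74208) D19488 (iv D19390)
theorem F76302 : act 8 n19488 = n19103 := d32_2 (iv F74209) D19488 (iv D19103)
def n19489 : Q := act 6 n18974
theorem D19489 : act 6 n18974 = n19489 := rfl
theorem F76303 : act 0 n19489 = n19047 := d5_1 D19489 (iv D19047) (iv F74210)
theorem F76304 : act 1 n19489 = n19382 := d12_1 D19489 (iv D19382) (iv F74211)
theorem F76305 : act 3 n19489 = n19197 := d23_1 D19489 (iv D19197) (iv F74212)
theorem F76306 : act 4 n19489 = n18978 := d27_1 D19489 (iv D18978) (iv F74213)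
theorem F76307 : act 7 n19489 = n19391 := d33_2 (iv F74214) D19489 (iv D19391)
theorem F76308 : act 8 n19489 = n19104 := d34_2 (iv F74215) D19489 (iv D19104)
def n19490 : Q := act 4 n18975
theorem D19490 : act 4 n18975 = n19490 := rfl
theorem F76309 : act 0 n19490 = n18976 := d3_1 D19490 (iv D18976) D18975
theorem F76310 : act 1 n19490 = n19048 := d10_1 D19490 (iv D19048) (iv F74216)
theorem F76311 : act 2 n19490 = n19378 := d16_1 D19490 F75892 (iv F74217)
theorem F76312 : act 3 n19490 = n19372 := d21_1 D19490 (iv D19372) F73783 (iv F71999) (iv F74218)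
theorem F76313 : act 6 n19490 = n19151 := d27_2 (iv F74220) D19490 (iv D19151)
theorem F76314 : act 7 n19490 = n19400 := d28_2 (iv F74221) D19490 F75949
theorem F76315 : act 8 n19490 = n19105 := d29_2 (iv F74222) D19490 (iv D19105)
def n19491 : Q := act 5 n18976
theorem D19491 : act 5 n18976 = n19491 := rfl
theorem F76316 : act 1 n19491 = n18977 := d11_1 D19491 (iv D18977) (iv F74223)
theorem F76317 : act 3 n19491 = n19373 := d22_1 D19491 (iv D19373) (iv F74224)
theorem F76318 : act 8 n19491 = n19106 := d32_2 (iv F74226) D19491 (iv D19106)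
def n19492 : Q := act 6 n18977
theorem D19492 : act 6 n18977 = n19492 := rfl
theorem F76319 : act 0 n19492 = n19050 := d5_1 D19492 (iv D19050) (iv F74227)
theorem F76320 : act 2 n19492 = n18978 := d18_1 D19492 (iv D18978) (iv F74228)
theorem F76321 : act 3 n19492 = n19374 := d23_1 D19492 (iv D19374) (iv F74229)
theorem F76322 : act 5 n19492 = n19156 := d30_1 D19492 (iv D19156) (iv D18576) (iv F71976) D18977
theorem F76323 : act 8 n19492 = n19107 := d34_2 (iv F74230) D19492 (iv D19107)
def n19493 : Q := act 7 n18979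
theorem D19493 : act 7 n18979 = n19493 := rfl
theorem F76324 : act 0 n19493 = n19051 := d6_1 D19493 (iv D19051) (iv F74235)
theorem F76325 : act 1 n19493 = n19422 := d13_1 D19493 F76035 F75563
theorem F76326 : act 2 n19493 = n19193 := d19_1 D19493 F75177 (iv F74236)
theorem F76327 : act 3 n19493 = n19493 := d24_1 D19493 (iv D19493) (iv D18979) F71995 D18979
theorem F76328 : act 5 n19493 = n19184 := d31_1 D19493 F75151 (iv F74237)
theorem F76329 : act 6 n19493 = n19471 := d33_1 D19493 (iv D19471) (iv F74238)
theorem F76330 : act 8 n19493 = n19362 := d35_2 (iv F74239) D19493 F75836 F73784 F72998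
def n19494 : Q := act 6 n18981
theorem D19494 : act 6 n18981 = n19494 := rfl
theorem F76331 : act 0 n19494 = n19259 := d5_1 D19494 (iv D19259) (iv F74247)
theorem F76332 : act 1 n19494 = n19203 := d12_1 D19494 (iv D19203) (iv F74248)
theorem F76333 : act 2 n19494 = n18982 := d18_1 D19494 (iv D18982) (iv F74249)
theorem F76334 : act 3 n19494 = n19087 := d23_1 D19494 (iv D19087) (iv F74250)
theorem F76335 : act 4 n19494 = n19212 := d27_1 D19494 (iv D19212) (iv F74251)
theorem F76336 : act 5 n19494 = n18993 := d30_1 D19494 (iv D18993) (iv D18398) (iv F72014) D18981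
theorem F76337 : act 8 n19494 = n19010 := d34_2 (iv F74252) D19494 (iv D19010)
def n19495 : Q := act 3 n18983
theorem D19495 : act 3 n18983 = n19495 := rfl
theorem F76338 : act 0 n19495 = n19053 := d2_1 D19495 (iv D19053) (iv F74259)
theorem F76339 : act 1 n19495 = n19314 := d9_1 D19495 (iv D19314) (iv F74260)
theorem F76340 : act 2 n19495 = n19077 := d15_1 D19495 (iv D19077) F72514 (iv F72030) (iv F74261)
theorem F76341 : act 4 n19495 = n19495 := d21_2 D18983 D19495 (iv D19495) (iv D18983) F72023
theorem F76342 : act 6 n19495 = n18999 := d23_2 (iv F74262) D19495 (iv D18999)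
theorem F76343 : act 7 n19495 = n19306 := d24_2 (iv F74263) D19495 (iv D19306) F73488 (iv F72037)
theorem F76344 : act 8 n19495 = n19041 := d25_2 (iv F74264) D19495 (iv D19041)
def n19496 : Q := act 5 n18983
theorem D19496 : act 5 n18983 = n19496 := rfl
theorem F76345 : act 0 n19496 = n19054 := d4_1 D19496 (iv D19054) (iv F74259)
theorem F76346 : act 1 n19496 = n19315 := d11_1 D19496 (iv D19315) (iv F74260)
theorem F76347 : act 2 n19496 = n18984 := d17_1 D19496 (iv D18984) (iv F74261)
theorem F76348 : act 4 n19496 = n19214 := d26_1 D19496 (iv D19214) (iv D18649) (iv F72024) D18983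
theorem F76349 : act 7 n19496 = n18985 := d31_2 (iv F74263) D19496 (iv D18985)
theorem F76350 : act 8 n19496 = n19042 := d32_2 (iv F74264) D19496 (iv D19042)
def n19497 : Q := act 6 n18984
theorem D19497 : act 6 n18984 = n19497 := rfl
theorem F76351 : act 0 n19497 = n19055 := d5_1 D19497 (iv D19055) (iv F74265)
theorem F76352 : act 1 n19497 = n19220 := d12_1 D19497 (iv D19220) (iv F74266)
theorem F76353 : act 3 n19497 = n19079 := d23_1 D19497 (iv D19079) (iv F74267)
theorem F76354 : act 4 n19497 = n19215 := d27_1 D19497 (iv D19215) (iv F74268)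
theorem F76355 : act 5 n19497 = n19001 := d30_1 D19497 (iv D19001) (iv D18406) (iv F72031) D18984
theorem F76356 : act 7 n19497 = n18986 := d33_2 (iv F74269) D19497 (iv D18986)
theorem F76357 : act 8 n19497 = n19043 := d34_2 (iv F74270) D19497 (iv D19043)
def n19498 : Q := act 6 n18985
theorem D19498 : act 6 n18985 = n19498 := rfl
theorem F76358 : act 0 n19498 = n19057 := d5_1 D19498 (iv D19057) (iv F74271)
theorem F76359 : act 1 n19498 = n19322 := d12_1 D19498 (iv D19322) (iv F74272)
theorem F76360 : act 2 n19498 = n18986 := d18_1 D19498 (iv D18986) (iv F74273)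
theorem F76361 : act 3 n19498 = n19310 := d23_1 D19498 (iv D19310) (iv F74274)
theorem F76362 : act 4 n19498 = n19216 := d27_1 D19498 (iv D19216) (iv F74275)
theorem F76363 : act 5 n19498 = n19005 := d30_1 D19498 (iv D19005) (iv D18410) (iv F72038) D18985
theorem F76364 : act 8 n19498 = n19011 := d34_2 (iv F74276) D19498 (iv D19011)
def n19499 : Q := act 6 n18987
theorem D19499 : act 6 n18987 = n19499 := rfl
theorem F76365 : act 0 n19499 = n18993 := d5_1 D19499 (iv D18993) (iv F74283)
theorem F76366 : act 1 n19499 = n19212 := d12_1 D19499 (iv D19212) (iv F74284)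
theorem F76367 : act 2 n19499 = n18988 := d18_1 D19499 (iv D18988) (iv F74285)
theorem F76368 : act 3 n19499 = n19240 := d23_1 D19499 (iv D19240) (iv F74286)
theorem F76369 : act 4 n19499 = n19203 := d27_1 D19499 (iv D19203) (iv F74287)
theorem F76370 : act 5 n19499 = n19259 := d30_1 D19499 (iv D19259) (iv D18707) (iv F72053) D18987
theorem F76371 : act 8 n19499 = n19014 := d34_2 (iv F74288) D19499 (iv D19014)
def n19500 : Q := act 6 n18989
theorem D19500 : act 6 n18989 = n19500 := rfl
theorem F76372 : act 0 n19500 = n19329 := d5_1 D19500 (iv D19329) (iv F74295)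
theorem F76373 : act 1 n19500 = n19001 := d12_1 D19500 (iv D19001) (iv F74296)
theorem F76374 : act 2 n19500 = n19325 := d18_1 D19500 (iv D19325) (iv F74297)
theorem F76375 : act 3 n19500 = n19407 := d23_1 D19500 (iv D19407) (iv F74298)
theorem F76376 : act 4 n19500 = n19244 := d27_1 D19500 (iv D19244) (iv F74299)
theorem F76377 : act 5 n19500 = n19220 := d30_1 D19500 (iv D19220) (iv D18656) (iv F72064) D18989
theorem F76378 : act 7 n19500 = n18990 := d33_2 (iv F74300) D19500 (iv D18990)
theorem F76379 : act 8 n19500 = n19405 := d34_2 (iv F74301) D19500 (iv D19405)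
def n19501 : Q := act 6 n18991
theorem D19501 : act 6 n18991 = n19501 := rfl
theorem F76380 : act 0 n19501 = n19240 := d5_1 D19501 (iv D19240) (iv F74309)
theorem F76381 : act 1 n19501 = n19376 := d12_1 D19501 (iv D19376) (iv F74310)
theorem F76382 : act 2 n19501 = n19085 := d18_1 D19501 (iv D19085) (iv F74311)
theorem F76383 : act 3 n19501 = n18993 := d23_1 D19501 (iv D18993) (iv F74312)
theorem F76384 : act 4 n19501 = n19227 := d27_1 D19501 (iv D19227) (iv F74313)
theorem F76385 : act 5 n19501 = n19087 := d30_1 D19501 (iv D19087) (iv D18504) (iv F72077) D18991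
theorem F76386 : act 8 n19501 = n19018 := d34_2 (iv F74314) D19501 (iv D19018)
def n19502 : Q := act 7 n18991
theorem D19502 : act 7 n18991 = n19502 := rfl
theorem F76387 : act 0 n19502 = n19233 := d6_1 D19502 F75345 (iv F74309)
theorem F76388 : act 1 n19502 = n19377 := d13_1 D19502 (iv D19377) (iv F74310)
theorem F76389 : act 2 n19502 = n19067 := d19_1 D19502 F74682 (iv F74311)
theorem F76390 : act 4 n19502 = n19225 := d28_1 D19502 F75307 (iv F74313)
theorem F76391 : act 5 n19502 = n18992 := d31_1 D19502 (iv D18992) D18991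
def n19503 : Q := act 3 n18994
theorem D19503 : act 3 n18994 = n19503 := rfl
theorem F76392 : act 0 n19503 = n19072 := d2_1 D19503 (iv D19072) (iv F74324)
theorem F76393 : act 1 n19503 = n19116 := d9_1 D19503 (iv D19116) (iv F74325)
theorem F76394 : act 4 n19503 = n19503 := d21_2 D18994 D19503 (iv D19503) (iv D18994) F72088
theorem F76395 : act 6 n19503 = n19232 := d23_2 (iv F74327) D19503 (iv D19232)
theorem F76396 : act 7 n19503 = n19251 := d24_2 (iv F74328) D19503 (iv D19251) F73286 (iv F72121)
def n19504 : Q := act 5 n18994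
theorem D19504 : act 5 n18994 = n19504 := rfl
theorem F76397 : act 0 n19504 = n19073 := d4_1 D19504 (iv D19073) (iv F74324)
theorem F76398 : act 1 n19504 = n19117 := d11_1 D19504 (iv D19117) (iv F74325)
theorem F76399 : act 2 n19504 = n18995 := d17_1 D19504 (iv D18995) (iv F74326)
theorem F76400 : act 4 n19504 = n19000 := d26_1 D19504 (iv D19000) (iv D18405) (iv F72089) D18994
theorem F76401 : act 7 n19504 = n19002 := d31_2 (iv F74328) D19504 (iv D19002)
def n19505 : Q := act 6 n18995
theorem D19505 : act 6 n18995 = n19505 := rfl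
theorem F76402 : act 0 n19505 = n19074 := d5_1 D19505 (iv D19074) (iv F74329)
theorem F76403 : act 1 n19505 = n19244 := d12_1 D19505 (iv D19244) (iv F74330)
theorem F76404 : act 4 n19505 = n19001 := d27_1 D19505 (iv D19001) (iv F74331)
theorem F76405 : act 5 n19505 = n19234 := d30_1 D19505 (iv D19234) (iv D18672) (iv F72094) D18995
theorem F76406 : act 7 n19505 = n19003 := d33_2 (iv F74332) D19505 (iv D19003)
def n19506 : Q := act 3 n18996
theorem D19506 : act 3 n18996 = n19506 := rfl
theorem F76407 : act 0 n19506 = n19077 := d2_1 D19506 (iv D19077) (iv F74333)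
theorem F76408 : act 2 n19506 = n19053 := d15_1 D19506 (iv D19053) F72415 (iv F72103) (iv F74334)
theorem F76409 : act 4 n19506 = n19506 := d21_2 D18996 D19506 (iv D19506) (iv D18996) F72097
theorem F76410 : act 6 n19506 = n19041 := d23_2 (iv F74335) D19506 (iv D19041)
theorem F76411 : act 7 n19506 = n19273 := d24_2 (iv F74336) D19506 (iv D19273) F73384 (iv F72253)
theorem F76412 : act 8 n19506 = n18999 := d25_2 (iv F74337) D19506 (iv D18999)
def n19507 : Q := act 5 n18996
theorem D19507 : act 5 n18996 = n19507 := rfl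
theorem F76413 : act 0 n19507 = n19078 := d4_1 D19507 (iv D19078) (iv F74333)
theorem F76414 : act 2 n19507 = n18997 := d17_1 D19507 (iv D18997) (iv F74334)
theorem F76415 : act 7 n19507 = n19023 := d31_2 (iv F74336) D19507 (iv D19023)
theorem F76416 : act 8 n19507 = n19000 := d32_2 (iv F74337) D19507 (iv D19000)
def n19508 : Q := act 6 n18997
theorem D19508 : act 6 n18997 = n19508 := rfl
theorem F76417 : act 0 n19508 = n19079 := d5_1 D19508 (iv D19079) (iv F74338)
theorem F76418 : act 1 n19508 = n19405 := d12_1 D19508 (iv D19405) (iv F74339)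
theorem F76419 : act 3 n19508 = n19055 := d23_1 D19508 (iv D19055) (iv F74340)
theorem F76420 : act 5 n19508 = n19043 := d30_1 D19508 (iv D19043) (iv D18460) (iv F72104) D18997
theorem F76421 : act 7 n19508 = n19024 := d33_2 (iv F74341) D19508 (iv D19024)
theorem F76422 : act 8 n19508 = n19001 := d34_2 (iv F74342) D19508 (iv D19001)
def n19509 : Q := act 3 n18998
theorem D19509 : act 3 n18998 = n19509 := rfl
theorem F76423 : act 0 n19509 = n19127 := d2_1 D19509 (iv D19127) (iv F74343)
theorem F76424 : act 1 n19509 = n18999 := d9_1 D19509 (iv D18999) (iv F74344)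
theorem F76425 : act 4 n19509 = n19509 := d21_2 D18998 D19509 (iv D19509) (iv D18998) F72108
theorem F76426 : act 6 n19509 = n19314 := d23_2 (iv F74346) D19509 (iv D19314)
theorem F76427 : act 7 n19509 = n19383 := d24_2 (iv F74347) D19509 (iv D19383) F73825 (iv F72132)
def n19510 : Q := act 5 n18998
theorem D19510 : act 5 n18998 = n19510 := rfl
theorem F76428 : act 0 n19510 = n19128 := d4_1 D19510 (iv D19128) (iv F74343)
theorem F76429 : act 1 n19510 = n19000 := d11_1 D19510 (iv D19000) (iv F74344)
theorem F76430 : act 2 n19510 = n19113 := d17_1 D19510 (iv D19113) (iv F74345)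
theorem F76431 : act 4 n19510 = n19117 := d26_1 D19510 (iv D19117) (iv D18538) (iv F72109) D18998
theorem F76432 : act 7 n19510 = n19004 := d31_2 (iv F74347) D19510 (iv D19004)
def n19511 : Q := act 5 n18999
theorem D19511 : act 5 n18999 = n19511 := rfl
theorem F76433 : act 0 n19511 = n19083 := d4_1 D19511 (iv D19083) (iv F74348)
theorem F76434 : act 3 n19511 = n19000 := d22_1 D19511 (iv D19000) D18999
theorem F76435 : act 7 n19511 = n19385 := d31_2 (iv F74350) D19511 (iv D19385)
def n19512 : Q := act 6 n19000
theorem D19512 : act 6 n19000 = n19512 := rfl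
theorem F76436 : act 0 n19512 = n19084 := d5_1 D19512 (iv D19084) (iv F74351)
theorem F76437 : act 2 n19512 = n19001 := d18_1 D19512 (iv D19001) (iv F74352)
theorem F76438 : act 7 n19512 = n19005 := d33_2 (iv F74353) D19512 (iv D19005)
def n19513 : Q := act 6 n19002
theorem D19513 : act 6 n19002 = n19513 := rfl
theorem F76439 : act 0 n19513 = n19087 := d5_1 D19513 (iv D19087) (iv F74356)
theorem F76440 : act 1 n19513 = n19120 := d12_1 D19513 (iv D19120) (iv F74357)
theorem F76441 : act 2 n19513 = n19003 := d18_1 D19513 (iv D19003) (iv F74358)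
theorem F76442 : act 3 n19513 = n19259 := d23_1 D19513 (iv D19259) (iv F74359)
theorem F76443 : act 4 n19513 = n19005 := d27_1 D19513 (iv D19005) (iv F74360)
theorem F76444 : act 5 n19513 = n19240 := d30_1 D19513 (iv D19240) (iv D18678) (iv F72122) D19002
theorem F76445 : act 8 n19513 = n19029 := d34_2 (iv F74361) D19513 (iv D19029)
def n19514 : Q := act 6 n19004
theorem D19514 : act 6 n19004 = n19514 := rfl
theorem F76446 : act 0 n19514 = n19142 := d5_1 D19514 (iv D19142) (iv F74368)
theorem F76447 : act 1 n19514 = n19005 := d12_1 D19514 (iv D19005) (iv F74369)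
theorem F76448 : act 2 n19514 = n19119 := d18_1 D19514 (iv D19119) (iv F74370)
theorem F76449 : act 3 n19514 = n19387 := d23_1 D19514 (iv D19387) (iv F74371)
theorem F76450 : act 4 n19514 = n19120 := d27_1 D19514 (iv D19120) (iv F74372)
theorem F76451 : act 5 n19514 = n19322 := d30_1 D19514 (iv D19322) (iv D18773) (iv F72133) D19004
theorem F76452 : act 8 n19514 = n19031 := d34_2 (iv F74373) D19514 (iv D19031)
def n19515 : Q := act 6 n19007
theorem D19515 : act 6 n19007 = n19515 := rfl
theorem F76453 : act 0 n19515 = n19093 := d5_1 D19515 (iv D19093) (iv F74385)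
theorem F76454 : act 1 n19515 = n19259 := d12_1 D19515 (iv D19259) (iv F74386)
theorem F76455 : act 2 n19515 = n19008 := d18_1 D19515 (iv D19008) (iv F74387)
theorem F76456 : act 3 n19515 = n19120 := d23_1 D19515 (iv D19120) (iv F74388)
theorem F76457 : act 4 n19515 = n19202 := d27_1 D19515 (iv D19202) (iv F74389)
theorem F76458 : act 5 n19515 = n19212 := d30_1 D19515 (iv D19212) (iv D18647) (iv F72152) D19007
theorem F76459 : act 8 n19515 = n19171 := d34_2 (iv F74390) D19515 (iv D19171)
def n19516 : Q := act 6 n19012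
theorem D19516 : act 6 n19012 = n19516 := rfl
theorem F76460 : act 0 n19516 = n19016 := d5_1 D19516 (iv D19016) (iv F74415)
theorem F76461 : act 1 n19516 = n19118 := d12_1 D19516 (iv D19118) (iv F74416)
theorem F76462 : act 2 n19516 = n19244 := d18_1 D19516 (iv D19244) (iv F74417)
theorem F76463 : act 3 n19516 = n19261 := d23_1 D19516 (iv D19261) (iv F74418)
theorem F76464 : act 4 n19516 = n19325 := d27_1 D19516 (iv D19325) (iv F74419)
theorem F76465 : act 5 n19516 = n19246 := d30_1 D19516 (iv D19246) (iv D18687) (iv F72190) D19012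
theorem F76466 : act 7 n19516 = n19013 := d33_2 (iv F74420) D19516 (iv D19013)
theorem F76467 : act 8 n19516 = n19260 := d34_2 (iv F74421) D19516 (iv D19260)
def n19517 : Q := act 6 n19015
theorem D19517 : act 6 n19015 = n19517 := rfl
theorem F76468 : act 0 n19517 = n19325 := d5_1 D19517 (iv D19325) (iv F74434)
theorem F76469 : act 1 n19517 = n19022 := d12_1 D19517 (iv D19022) (iv F74435)
theorem F76470 : act 2 n19517 = n19329 := d18_1 D19517 (iv D19329) (iv F74436)
theorem F76471 : act 4 n19517 = n19016 := d27_1 D19517 (iv D19016) (iv F74437)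
theorem F76472 : act 5 n19517 = n19207 := d30_1 D19517 (iv D19207) (iv D18641) (iv F72210) D19015
theorem F76473 : act 7 n19517 = n19017 := d33_2 (iv F74438) D19517 (iv D19017)
theorem F76474 : act 8 n19517 = n19453 := d34_2 (iv F74439) D19517 (iv D19453)
def n19518 : Q := act 7 n19018
theorem D19518 : act 7 n19018 = n19518 := rfl
theorem F76475 : act 0 n19518 = n19458 := d6_1 D19518 F76158 (iv F74451)
theorem F76476 : act 1 n19518 = n19403 := d13_1 D19518 (iv D19403) (iv F74452)
theorem F76477 : act 2 n19518 = n19145 := d19_1 D19518 F74997 (iv F74453)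
theorem F76478 : act 4 n19518 = n19468 := d28_1 D19518 F76194 (iv F74455)
theorem F76479 : act 5 n19518 = n19150 := d31_1 D19518 F75013 (iv F74456)
theorem F76480 : act 6 n19518 = n19019 := d33_1 D19518 (iv D19019) D19018
def n19519 : Q := act 6 n19020
theorem D19519 : act 6 n19020 = n19519 := rfl
theorem F76481 : act 0 n19519 = n19145 := d5_1 D19519 (iv D19145) (iv F74462)
theorem F76482 : act 1 n19519 = n19207 := d12_1 D19519 (iv D19207) (iv F74463)
theorem F76483 : act 2 n19519 = n19458 := d18_1 D19519 (iv D19458) (iv F74464)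
theorem F76484 : act 4 n19519 = n19204 := d27_1 D19519 (iv D19204) (iv F74465)
theorem F76485 : act 5 n19519 = n19022 := d30_1 D19519 (iv D19022) (iv D18434) (iv F72242) D19020
theorem F76486 : act 7 n19519 = n19028 := d33_2 (iv F74466) D19519 (iv D19028)
def n19520 : Q := act 6 n19021
theorem D19520 : act 6 n19021 = n19520 := rfl
theorem F76487 : act 0 n19520 = n19148 := d5_1 D19520 (iv D19148) (iv F74467)
theorem F76488 : act 1 n19520 = n19453 := d12_1 D19520 (iv D19453) (iv F74468)
theorem F76489 : act 3 n19520 = n19517 := d23_1 D19520 (iv D19517) (iv F74469)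
theorem F76490 : act 4 n19520 = n19024 := d27_1 D19520 (iv D19024) (iv F74470)
theorem F76491 : act 8 n19520 = n19022 := d34_2 (iv F74471) D19520 (iv D19022)
def n19521 : Q := act 6 n19023
theorem D19521 : act 6 n19023 = n19521 := rfl
theorem F76492 : act 0 n19521 = n19156 := d5_1 D19521 (iv D19156) (iv F74475)
theorem F76493 : act 2 n19521 = n19024 := d18_1 D19521 (iv D19024) (iv F74476)
theorem F76494 : act 3 n19521 = n19279 := d23_1 D19521 (iv D19279) (iv F74477)
theorem F76495 : act 5 n19521 = n19050 := d30_1 D19521 (iv D19050) (iv D18466) (iv F72254) D19023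
theorem F76496 : act 8 n19521 = n19027 := d34_2 (iv F74478) D19521 (iv D19027)
def n19522 : Q := act 5 n19025
theorem D19522 : act 5 n19025 = n19522 := rfl
theorem F76497 : act 0 n19522 = n19026 := d4_1 D19522 (iv D19026) (iv F74483)
theorem F76498 : act 1 n19522 = n19158 := d11_1 D19522 (iv D19158) (iv F74484)
theorem F76499 : act 2 n19522 = n19058 := d17_1 D19522 (iv D19058) (iv F74485)
theorem F76500 : act 4 n19522 = n19061 := d26_1 D19522 (iv D19061) (iv D18481) (iv F72262) D19025
theorem F76501 : act 7 n19522 = n19030 := d31_2 (iv F74487) D19522 (iv D19030)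
def n19523 : Q := act 6 n19026
theorem D19523 : act 6 n19026 = n19523 := rfl
theorem F76502 : act 1 n19523 = n19027 := d12_1 D19523 (iv D19027) (iv F74488)
theorem F76503 : act 2 n19523 = n19345 := d18_1 D19523 (iv D19345) (iv F74489)
theorem F76504 : act 4 n19523 = n19454 := d27_1 D19523 (iv D19454) (iv F74490)
theorem F76505 : act 5 n19523 = n19347 := d30_1 D19523 (iv D19347) (iv D18809) (iv F72267) D19026
theorem F76506 : act 7 n19523 = n19031 := d33_2 (iv F74491) D19523 (iv D19031)
def n19524 : Q := act 6 n19030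
theorem D19524 : act 6 n19030 = n19524 := rfl
theorem F76507 : act 0 n19524 = n19031 := d5_1 D19524 (iv D19031) (iv F74507)
theorem F76508 : act 1 n19524 = n19164 := d12_1 D19524 (iv D19164) (iv F74508)
theorem F76509 : act 2 n19524 = n19063 := d18_1 D19524 (iv D19063) (iv F74509)
theorem F76510 : act 3 n19524 = n19401 := d23_1 D19524 (iv D19401) (iv F74510)
theorem F76511 : act 4 n19524 = n19064 := d27_1 D19524 (iv D19064) (iv F74511)
theorem F76512 : act 5 n19524 = n19341 := d30_1 D19524 (iv D19341) (iv D18801) (iv F72291) D19030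
theorem F76513 : act 8 n19524 = n19142 := d34_2 (iv F74512) D19524 (iv D19142)
def n19525 : Q := act 6 n19034
theorem D19525 : act 6 n19034 = n19525 := rfl
theorem F76514 : act 0 n19525 = n19037 := d5_1 D19525 (iv D19037) (iv F74531)
theorem F76515 : act 1 n19525 = n19445 := d12_1 D19525 (iv D19445) (iv F74532)
theorem F76516 : act 2 n19525 = n19245 := d18_1 D19525 (iv D19245) (iv F74533)
theorem F76517 : act 3 n19525 = n19035 := d23_1 D19525 (iv D19035) (iv F74534)
theorem F76518 : act 4 n19525 = n19248 := d27_1 D19525 (iv D19248) (iv F74535)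
theorem F76519 : act 5 n19525 = n19260 := d30_1 D19525 (iv D19260) (iv D18710) (iv F72324) D19034
theorem F76520 : act 7 n19525 = n19330 := d33_2 (iv F74536) D19525 (iv D19330)
theorem F76521 : act 8 n19525 = n19246 := d34_2 (iv F74537) D19525 (iv D19246)
def n19526 : Q := act 6 n19036
theorem D19526 : act 6 n19036 = n19526 := rfl
theorem F76522 : act 0 n19526 = n19330 := d5_1 D19526 (iv D19330) (iv F74542)
theorem F76523 : act 1 n19526 = n19043 := d12_1 D19526 (iv D19043) (iv F74543)
theorem F76524 : act 2 n19526 = n19326 := d18_1 D19526 (iv D19326) (iv F74544)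
theorem F76525 : act 3 n19526 = n19062 := d23_1 D19526 (iv D19062) (iv F74545)
theorem F76526 : act 4 n19526 = n19221 := d27_1 D19526 (iv D19221) (iv F74546)
theorem F76527 : act 5 n19526 = n19405 := d30_1 D19526 (iv D19405) (iv D18877) (iv F72334) D19036
theorem F76528 : act 7 n19526 = n19037 := d33_2 (iv F74547) D19526 (iv D19037)
theorem F76529 : act 8 n19526 = n19220 := d34_2 (iv F74548) D19526 (iv D19220)
def n19527 : Q := act 3 n19038
theorem D19527 : act 3 n19038 = n19527 := rfl
theorem F76530 : act 0 n19527 = n19389 := d2_1 D19527 (iv D19389) (iv F74554)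
theorem F76531 : act 1 n19527 = n19317 := d9_1 D19527 (iv D19317) (iv F74555)
theorem F76532 : act 4 n19527 = n19527 := d21_2 D19038 D19527 (iv D19527) (iv D19038) F72347
theorem F76533 : act 6 n19527 = n19235 := d23_2 (iv F74557) D19527 (iv D19235)
theorem F76534 : act 8 n19527 = n19213 := d25_2 (iv F74559) D19527 (iv D19213)
def n19528 : Q := act 5 n19038
theorem D19528 : act 5 n19038 = n19528 := rfl
theorem F76535 : act 0 n19528 = n19390 := d4_1 D19528 (iv D19390) (iv F74554)
theorem F76536 : act 1 n19528 = n19318 := d11_1 D19528 (iv D19318) (iv F74555)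
theorem F76537 : act 2 n19528 = n19039 := d17_1 D19528 (iv D19039) (iv F74556)
theorem F76538 : act 4 n19528 = n19042 := d26_1 D19528 (iv D19042) (iv D18459) (iv F72348) D19038
theorem F76539 : act 7 n19528 = n19046 := d31_2 (iv F74558) D19528 (iv D19046)
theorem F76540 : act 8 n19528 = n19214 := d32_2 (iv F74559) D19528 (iv D19214)
def n19529 : Q := act 6 n19039
theorem D19529 : act 6 n19039 = n19529 := rfl
theorem F76541 : act 0 n19529 = n19391 := d5_1 D19529 (iv D19391) (iv F74560)
theorem F76542 : act 1 n19529 = n19221 := d12_1 D19529 (iv D19221) (iv F74561)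
theorem F76543 : act 4 n19529 = n19043 := d27_1 D19529 (iv D19043) (iv F74562)
theorem F76544 : act 5 n19529 = n19237 := d30_1 D19529 (iv D19237) (iv D18674) (iv F72354) D19039
theorem F76545 : act 7 n19529 = n19047 := d33_2 (iv F74563) D19529 (iv D19047)
theorem F76546 : act 8 n19529 = n19215 := d34_2 (iv F74564) D19529 (iv D19215)
def n19530 : Q := act 3 n19040
theorem D19530 : act 3 n19040 = n19530 := rfl
theorem F76547 : act 1 n19530 = n19041 := d9_1 D19530 (iv D19041) (iv F74565)
theorem F76548 : act 4 n19530 = n19530 := d21_2 D19040 D19530 (iv D19530) (iv D19040) F72358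
theorem F76549 : act 7 n19530 = n19428 := d24_2 (iv F74567) D19530 (iv D19428) F73976 (iv F72386)
theorem F76550 : act 8 n19530 = n19314 := d25_2 (iv F74568) D19530 (iv D19314)
def n19531 : Q := act 5 n19040
theorem D19531 : act 5 n19040 = n19531 := rfl
theorem F76551 : act 1 n19531 = n19042 := d11_1 D19531 (iv D19042) (iv F74565)
theorem F76552 : act 2 n19531 = n19313 := d17_1 D19531 (iv D19313) (iv F74566)
theorem F76553 : act 4 n19531 = n19318 := d26_1 D19531 (iv D19318) (iv D18768) (iv F72359) D19040
theorem F76554 : act 7 n19531 = n19049 := d31_2 (iv F74567) D19531 (iv D19049)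
theorem F76555 : act 8 n19531 = n19315 := d32_2 (iv F74568) D19531 (iv D19315)
def n19532 : Q := act 5 n19041
theorem D19532 : act 5 n19041 = n19532 := rfl
theorem F76556 : act 2 n19532 = n19083 := d17_1 D19532 (iv D19083) (iv F74569)
theorem F76557 : act 3 n19532 = n19042 := d22_1 D19532 (iv D19042) D19041
theorem F76558 : act 7 n19532 = n19430 := d31_2 (iv F74571) D19532 (iv D19430)
def n19533 : Q := act 6 n19042
theorem D19533 : act 6 n19042 = n19533 := rfl
theorem F76559 : act 2 n19533 = n19043 := d18_1 D19533 (iv D19043) (iv F74572)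
theorem F76560 : act 7 n19533 = n19050 := d33_2 (iv F74573) D19533 (iv D19050)
def n19534 : Q := act 6 n19044
theorem D19534 : act 6 n19044 = n19534 := rfl
theorem F76561 : act 1 n19534 = n19208 := d12_1 D19534 (iv D19208) (iv F74576)
theorem F76562 : act 2 n19534 = n19464 := d18_1 D19534 (iv D19464) (iv F74577)
theorem F76563 : act 3 n19534 = n19296 := d23_1 D19534 (iv D19296) (iv F74578)
theorem F76564 : act 5 n19534 = n19047 := d30_1 D19534 (iv D19047) (iv D18463) (iv F72369) D19044
theorem F76565 : act 7 n19534 = n19237 := d33_2 (iv F74579) D19534 (iv D19237)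
theorem F76566 : act 8 n19534 = n19204 := d34_2 (iv F74580) D19534 (iv D19204)
def n19535 : Q := act 5 n19045
theorem D19535 : act 5 n19045 = n19535 := rfl
theorem F76567 : act 1 n19535 = n19348 := d11_1 D19535 (iv D19348) (iv F74581)
theorem F76568 : act 2 n19535 = n19298 := d17_1 D19535 (iv D19298) (iv F74582)
theorem F76569 : act 3 n19535 = n19046 := d22_1 D19535 (iv D19046) D19045
theorem F76570 : act 4 n19535 = n19436 := d26_1 D19535 (iv D19436) F74002 (iv F72393) (iv F74583)
theorem F76571 : act 8 n19535 = n19350 := d32_2 (iv F74585) D19535 (iv D19350)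
def n19536 : Q := act 7 n19045
theorem D19536 : act 7 n19045 = n19536 := rfl
theorem F76572 : act 1 n19536 = n19182 := d13_1 D19536 F75141 (iv F74581)
theorem F76573 : act 2 n19536 = n19194 := d19_1 D19536 F75179 (iv F74582)
theorem F76574 : act 4 n19536 = n19051 := d28_1 D19536 (iv D19051) (iv F74583)
theorem F76575 : act 6 n19536 = n19463 := d33_1 D19536 (iv D19463) (iv F74584)
theorem F76576 : act 8 n19536 = n19363 := d35_2 (iv F74585) D19536 F75838 F73786 (iv F73686)
def n19537 : Q := act 6 n19046
theorem D19537 : act 6 n19046 = n19537 := rfl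
theorem F76577 : act 1 n19537 = n19349 := d12_1 D19537 (iv D19349) (iv F74586)
theorem F76578 : act 2 n19537 = n19047 := d18_1 D19537 (iv D19047) (iv F74587)
theorem F76579 : act 4 n19537 = n19050 := d27_1 D19537 (iv D19050) (iv F74588)
theorem F76580 : act 5 n19537 = n19464 := d30_1 D19537 (iv D19464) (iv D18945) (iv F72374) D19046
theorem F76581 : act 8 n19537 = n19351 := d34_2 (iv F74589) D19537 (iv D19351)
def n19538 : Q := act 5 n19048
theorem D19538 : act 5 n19048 = n19538 := rfl
theorem F76582 : act 0 n19538 = n19049 := d4_1 D19538 (iv D19049) (iv F74594)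
theorem F76583 : act 2 n19538 = n19333 := d17_1 D19538 (iv D19333) (iv F74595)
theorem F76584 : act 3 n19538 = n19438 := d22_1 D19538 (iv D19438) (iv F74596)
theorem F76585 : act 4 n19538 = n19337 := d26_1 D19538 (iv D19337) (iv D18796) (iv F72382) D19048
theorem F76586 : act 8 n19538 = n19334 := d32_2 (iv F74597) D19538 (iv D19334)
def n19539 : Q := act 6 n19049
theorem D19539 : act 6 n19049 = n19539 := rfl
theorem F76587 : act 1 n19539 = n19050 := d12_1 D19539 (iv D19050) (iv F74598)
theorem F76588 : act 2 n19539 = n19346 := d18_1 D19539 (iv D19346) (iv F74599)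
theorem F76589 : act 3 n19539 = n19439 := d23_1 D19539 (iv D19439) (iv F74600)
theorem F76590 : act 4 n19539 = n19349 := d27_1 D19539 (iv D19349) (iv F74601)
theorem F76591 : act 8 n19539 = n19347 := d34_2 (iv F74602) D19539 (iv D19347)
def n19540 : Q := act 3 n19052
theorem D19540 : act 3 n19052 = n19540 := rfl
theorem F76592 : act 0 n19540 = n19395 := d2_1 D19540 F75937 (iv F74611)
theorem F76593 : act 1 n19540 = n19053 := d9_1 D19540 (iv D19053) (iv F74612)
theorem F76594 : act 4 n19540 = n19540 := d21_2 D19052 D19540 (iv D19540) (iv D19052) F72410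
theorem F76595 : act 6 n19540 = n19081 := d23_2 (iv F74614) D19540 (iv D19081)
theorem F76596 : act 7 n19540 = n19213 := d24_2 (iv F74615) D19540 (iv D19213) F73093 (iv F72424)
def n19541 : Q := act 5 n19052
theorem D19541 : act 5 n19052 = n19541 := rfl
theorem F76597 : act 0 n19541 = n19399 := d4_1 D19541 F75946 (iv F74611)
theorem F76598 : act 1 n19541 = n19054 := d11_1 D19541 (iv D19054) (iv F74612)
theorem F76599 : act 2 n19541 = n19218 := d17_1 D19541 F75276 (iv F74613)
theorem F76600 : act 4 n19541 = n19393 := d26_1 D19541 (iv D19393) (iv D18865) (iv F72411) D19052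
theorem F76601 : act 7 n19541 = n19056 := d31_2 (iv F74615) D19541 (iv D19056)
def n19542 : Q := act 5 n19053
theorem D19542 : act 5 n19053 = n19542 := rfl
theorem F76602 : act 3 n19542 = n19054 := d22_1 D19542 (iv D19054) D19053
theorem F76603 : act 7 n19542 = n19320 := d31_2 (iv F74618) D19542 (iv D19320)
def n19543 : Q := act 6 n19054
theorem D19543 : act 6 n19054 = n19543 := rfl
theorem F76604 : act 2 n19543 = n19055 := d18_1 D19543 (iv D19055) (iv F74619)
theorem F76605 : act 4 n19543 = n19396 := d27_1 D19543 (iv D19396) (iv F74620)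
theorem F76606 : act 5 n19543 = n19084 := d30_1 D19543 (iv D19084) (iv D18500) (iv F72416) D19054
theorem F76607 : act 7 n19543 = n19057 := d33_2 (iv F74621) D19543 (iv D19057)
def n19544 : Q := act 6 n19056
theorem D19544 : act 6 n19056 = n19544 := rfl
theorem F76608 : act 0 n19544 = n19398 := d5_1 D19544 (iv D19398) (iv F74626)
theorem F76609 : act 1 n19544 = n19057 := d12_1 D19544 (iv D19057) (iv F74627)
theorem F76610 : act 2 n19544 = n19217 := d18_1 D19544 (iv D19217) (iv F74628)
theorem F76611 : act 3 n19544 = n19216 := d23_1 D19544 (iv D19216) (iv F74629)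
theorem F76612 : act 4 n19544 = n19397 := d27_1 D19544 (iv D19397) (iv F74630)
theorem F76613 : act 5 n19544 = n19089 := d30_1 D19544 (iv D19089) (iv D18507) (iv F72425) D19056
theorem F76614 : act 8 n19544 = n19112 := d34_2 (iv F74631) D19544 (iv D19112)
def n19545 : Q := act 6 n19058
theorem D19545 : act 6 n19058 = n19545 := rfl
theorem F76615 : act 0 n19545 = n19345 := d5_1 D19545 (iv D19345) (iv F74637)
theorem F76616 : act 1 n19545 = n19074 := d12_1 D19545 (iv D19074) (iv F74638)
theorem F76617 : act 4 n19545 = n19062 := d27_1 D19545 (iv D19062) (iv F74639)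
theorem F76618 : act 5 n19545 = n19335 := d30_1 D19545 (iv D19335) (iv D18794) (iv F72443) D19058
theorem F76619 : act 7 n19545 = n19063 := d33_2 (iv F74640) D19545 (iv D19063)
def n19546 : Q := act 5 n19059
theorem D19546 : act 5 n19059 = n19546 := rfl
theorem F76620 : act 0 n19546 = n19327 := d4_1 D19546 (iv D19327) (iv F74641)
theorem F76621 : act 1 n19546 = n19242 := d11_1 D19546 F75368 (iv F74642)
theorem F76622 : act 2 n19546 = n19060 := d17_1 D19546 (iv D19060) (iv F74643)
theorem F76623 : act 3 n19546 = n19323 := d22_1 D19546 (iv D19323) (iv F74644)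
theorem F76624 : act 7 n19546 = n19132 := d31_2 (iv F74646) D19546 (iv D19132)
theorem F76625 : act 8 n19546 = n19061 := d32_2 (iv F74647) D19546 (iv D19061)
def n19547 : Q := act 6 n19060
theorem D19547 : act 6 n19060 = n19547 := rfl
theorem F76626 : act 0 n19547 = n19328 := d5_1 D19547 (iv D19328) (iv F74648)
theorem F76627 : act 1 n19547 = n19079 := d12_1 D19547 (iv D19079) (iv F74649)
theorem F76628 : act 3 n19547 = n19220 := d23_1 D19547 (iv D19220) (iv F74650)
theorem F76629 : act 5 n19547 = n19407 := d30_1 D19547 (iv D19407) (iv D18879) (iv F72454) D19060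
theorem F76630 : act 7 n19547 = n19133 := d33_2 (iv F74651) D19547 (iv D19133)
theorem F76631 : act 8 n19547 = n19062 := d34_2 (iv F74652) D19547 (iv D19062)
def n19548 : Q := act 6 n19061
theorem D19548 : act 6 n19061 = n19548 := rfl
theorem F76632 : act 0 n19548 = n19454 := d5_1 D19548 (iv D19454) (iv F74653)
theorem F76633 : act 1 n19548 = n19241 := d12_1 D19548 F75367 (iv F74654)
theorem F76634 : act 2 n19548 = n19062 := d18_1 D19548 (iv D19062) (iv F74655)
theorem F76635 : act 3 n19548 = n19518 := d23_1 D19548 F76480 (iv F74656)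
theorem F76636 : act 5 n19548 = n19408 := d30_1 D19548 (iv D19408) (iv D18880) (iv F72461) D19061
theorem F76637 : act 7 n19548 = n19064 := d33_2 (iv F74657) D19548 (iv D19064)
def n19549 : Q := act 3 n19065
theorem D19549 : act 3 n19065 = n19549 := rfl
theorem F76638 : act 2 n19549 = n19072 := d15_1 D19549 (iv D19072) F72506 (iv F72484) (iv F74674)
theorem F76639 : act 4 n19549 = n19549 := d21_2 D19065 D19549 (iv D19549) (iv D19065) F72481
theorem F76640 : act 7 n19549 = n19131 := d24_2 (iv F74675) D19549 (iv D19131) (iv F74646) F74644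
theorem F76641 : act 8 n19549 = n19480 := d25_2 (iv F74676) D19549 F76256
def n19550 : Q := act 5 n19065
theorem D19550 : act 5 n19065 = n19550 := rfl
theorem F76642 : act 2 n19550 = n19066 := d17_1 D19550 (iv D19066) (iv F74674)
theorem F76643 : act 7 n19550 = n19323 := d31_2 (iv F74675) D19550 (iv D19323)
theorem F76644 : act 8 n19550 = n19502 := d32_2 (iv F74676) D19550 F76391
def n19551 : Q := act 6 n19066
theorem D19551 : act 6 n19066 = n19551 := rfl
theorem F76645 : act 3 n19551 = n19074 := d23_1 D19551 (iv D19074) (iv F74677)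
theorem F76646 : act 7 n19551 = n19324 := d33_2 (iv F74678) D19551 (iv D19324)
def n19552 : Q := act 6 n19067
theorem D19552 : act 6 n19067 = n19552 := rfl
theorem F76647 : act 0 n19552 = n19234 := d5_1 D19552 (iv D19234) (iv F74679)
theorem F76648 : act 1 n19552 = n19335 := d12_1 D19552 (iv D19335) (iv F74680)
theorem F76649 : act 4 n19552 = n19226 := d27_1 D19552 (iv D19226) (iv F74681)
theorem F76650 : act 5 n19552 = n19074 := d30_1 D19552 (iv D19074) (iv D18493) (iv F72488) D19067
theorem F76651 : act 7 n19552 = n19085 := d33_2 (iv F74682) D19552 (iv D19085)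
theorem F76652 : act 8 n19552 = n19551 := d34_2 (iv F74683) D19552 (iv D19551)
def n19553 : Q := act 4 n19068
theorem D19553 : act 4 n19068 = n19553 := rfl
theorem F76653 : act 0 n19553 = n19130 := d3_1 D19553 (iv D19130) (iv F74684)
theorem F76654 : act 1 n19553 = n19069 := d10_1 D19553 (iv D19069) D19068
theorem F76655 : act 2 n19553 = n19151 := d16_1 D19553 (iv D19151) (iv F74685)
theorem F76656 : act 6 n19553 = n19378 := d27_2 (iv F74688) D19553 F75892
theorem F76657 : act 7 n19553 = n19146 := d28_2 (iv F74689) D19553 (iv D19146)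
theorem F76658 : act 8 n19553 = n19071 := d29_2 (iv F74690) D19553 (iv D19071)
def n19554 : Q := act 3 n19069
theorem D19554 : act 3 n19069 = n19554 := rfl
theorem F76659 : act 2 n19554 = n19480 := d15_1 D19554 F76256 F74317 (iv F72496) (iv F74691)
theorem F76660 : act 4 n19554 = n19554 := d21_2 D19069 D19554 (iv D19554) (iv D19069) F72491
theorem F76661 : act 6 n19554 = n19549 := d23_2 (iv F74692) D19554 (iv D19549)
theorem F76662 : act 7 n19554 = n19476 := d24_2 (iv F74693) D19554 (iv D19476) F74163 F73879
theorem F76663 : act 8 n19554 = n19072 := d25_2 (iv F74694) D19554 (iv D19072)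
def n19555 : Q := act 5 n19069
theorem D19555 : act 5 n19069 = n19555 := rfl
theorem F76664 : act 2 n19555 = n19070 := d17_1 D19555 (iv D19070) (iv F74691)
theorem F76665 : act 4 n19555 = n19078 := d26_1 D19555 (iv D19078) (iv D18495) (iv F72492) D19069
theorem F76666 : act 7 n19555 = n19147 := d31_2 (iv F74693) D19555 (iv D19147)
theorem F76667 : act 8 n19555 = n19073 := d32_2 (iv F74694) D19555 (iv D19073)
def n19556 : Q := act 6 n19070
theorem D19556 : act 6 n19070 = n19556 := rfl
theorem F76668 : act 3 n19556 = n19552 := d23_1 D19556 (iv D19552) (iv F74695)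
theorem F76669 : act 4 n19556 = n19079 := d27_1 D19556 (iv D19079) (iv F74696)
theorem F76670 : act 5 n19556 = n19551 := d30_1 D19556 (iv D19551) (iv D19066) (iv F72497) D19070
theorem F76671 : act 7 n19556 = n19148 := d33_2 (iv F74697) D19556 (iv D19148)
theorem F76672 : act 8 n19556 = n19074 := d34_2 (iv F74698) D19556 (iv D19074)
def n19557 : Q := act 3 n19071
theorem D19557 : act 3 n19071 = n19557 := rfl
theorem F76673 : act 0 n19557 = n19134 := d2_1 D19557 (iv D19134) (iv F74699)
theorem F76674 : act 1 n19557 = n19072 := d9_1 D19557 (iv D19072) (iv F74700)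
theorem F76675 : act 4 n19557 = n19557 := d21_2 D19071 D19557 (iv D19557) (iv D19071) F72502
theorem F76676 : act 6 n19557 = n19360 := d23_2 (iv F74702) D19557 F75828
theorem F76677 : act 7 n19557 = n19179 := d24_2 (iv F74703) D19557 (iv D19179) F72951 (iv F72541)
def n19558 : Q := act 5 n19071
theorem D19558 : act 5 n19071 = n19558 := rfl
theorem F76678 : act 0 n19558 = n19135 := d4_1 D19558 (iv D19135) (iv F74699)
theorem F76679 : act 1 n19558 = n19073 := d11_1 D19558 (iv D19073) (iv F74700)
theorem F76680 : act 2 n19558 = n19158 := d17_1 D19558 (iv D19158) (iv F74701)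
theorem F76681 : act 4 n19558 = n19082 := d26_1 D19558 (iv D19082) (iv D18498) (iv F72503) D19071
theorem F76682 : act 7 n19558 = n19086 := d31_2 (iv F74703) D19558 (iv D19086)
def n19559 : Q := act 5 n19072
theorem D19559 : act 5 n19072 = n19559 := rfl
theorem F76683 : act 3 n19559 = n19073 := d22_1 D19559 (iv D19073) D19072
def n19560 : Q := act 6 n19073
theorem D19560 : act 6 n19073 = n19560 := rfl
theorem F76684 : act 2 n19560 = n19074 := d18_1 D19560 (iv D19074) (iv F74705)
theorem F76685 : act 4 n19560 = n19084 := d27_1 D19560 (iv D19084) (iv F74706)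
theorem F76686 : act 7 n19560 = n19087 := d33_2 (iv F74707) D19560 (iv D19087)
def n19561 : Q := act 4 n19075
theorem D19561 : act 4 n19075 = n19561 := rfl
theorem F76687 : act 0 n19561 = n19076 := d3_1 D19561 (iv D19076) D19075
theorem F76688 : act 1 n19561 = n19125 := d10_1 D19561 (iv D19125) (iv F74710)
theorem F76689 : act 2 n19561 = n19146 := d16_1 D19561 (iv D19146) (iv F74711)
theorem F76690 : act 6 n19561 = n19400 := d27_2 (iv F74714) D19561 F75949
theorem F76691 : act 7 n19561 = n19151 := d28_2 (iv F74715) D19561 (iv D19151)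
theorem F76692 : act 8 n19561 = n19080 := d29_2 (iv F74716) D19561 (iv D19080)
def n19562 : Q := act 3 n19076
theorem D19562 : act 3 n19076 = n19562 := rfl
theorem F76693 : act 1 n19562 = n19077 := d9_1 D19562 (iv D19077) (iv F74717)
theorem F76694 : act 4 n19562 = n19562 := d21_2 D19076 D19562 (iv D19562) (iv D19076) F72511
theorem F76695 : act 8 n19562 = n19081 := d25_2 (iv F74720) D19562 (iv D19081)
def n19563 : Q := act 5 n19076
theorem D19563 : act 5 n19076 = n19563 := rfl
theorem F76696 : act 1 n19563 = n19078 := d11_1 D19563 (iv D19078) (iv F74717)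
theorem F76697 : act 2 n19563 = n19242 := d17_1 D19563 F75368 (iv F74718)
theorem F76698 : act 7 n19563 = n19153 := d31_2 (iv F74719) D19563 (iv D19153)
theorem F76699 : act 8 n19563 = n19082 := d32_2 (iv F74720) D19563 (iv D19082)
def n19564 : Q := act 5 n19077
theorem D19564 : act 5 n19077 = n19564 := rfl
theorem F76700 : act 3 n19564 = n19078 := d22_1 D19564 (iv D19078) D19077
theorem F76701 : act 8 n19564 = n19083 := d32_2 (iv F74722) D19564 (iv D19083)
def n19565 : Q := act 7 n19077
theorem D19565 : act 7 n19077 = n19565 := rfl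
theorem F76702 : act 0 n19565 = n19273 := d6_1 D19565 (iv F76411) F76407
theorem F76703 : act 2 n19565 = n19306 := d19_1 D19565 (iv F76343) F76340
theorem F76704 : act 3 n19565 = n19155 := d24_1 D19565 (iv D19155) (iv D18575) (iv F72515) D19077
theorem F76705 : act 4 n19565 = n19565 := d28_1 D19565 (iv D19565) F74721
theorem F76706 : act 6 n19565 = n19364 := d33_1 D19565 (iv F76273) F76272
theorem F76707 : act 8 n19565 = n19449 := d35_2 (iv F74722) D19565 (iv D19449) F74041 (iv F72529)
def n19566 : Q := act 6 n19078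
theorem D19566 : act 6 n19078 = n19566 := rfl
theorem F76708 : act 2 n19566 = n19079 := d18_1 D19566 (iv D19079) (iv F74723)
theorem F76709 : act 7 n19566 = n19156 := d33_2 (iv F74724) D19566 (iv D19156)
theorem F76710 : act 8 n19566 = n19084 := d34_2 (iv F74725) D19566 (iv D19084)
def n19567 : Q := act 3 n19080
theorem D19567 : act 3 n19080 = n19567 := rfl
theorem F76711 : act 0 n19567 = n19081 := d2_1 D19567 (iv D19081) (iv F74728)
theorem F76712 : act 1 n19567 = n19127 := d9_1 D19567 (iv D19127) (iv F74729)
theorem F76713 : act 2 n19567 = n19540 := d15_1 D19567 (iv D19540) F74613 F73112 (iv F74730)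
theorem F76714 : act 4 n19567 = n19567 := d21_2 D19080 D19567 (iv D19567) (iv D19080) F72521
theorem F76715 : act 6 n19567 = n19395 := d23_2 (iv F74731) D19567 F75937
theorem F76716 : act 7 n19567 = n19224 := d24_2 (iv F74732) D19567 (iv D19224) F73148 (iv F72553)
def n19568 : Q := act 5 n19080
theorem D19568 : act 5 n19080 = n19568 := rfl
theorem F76717 : act 0 n19568 = n19082 := d4_1 D19568 (iv D19082) (iv F74728)
theorem F76718 : act 1 n19568 = n19128 := d11_1 D19568 (iv D19128) (iv F74729)
theorem F76719 : act 2 n19568 = n19149 := d17_1 D19568 (iv D19149) (iv F74730)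
theorem F76720 : act 4 n19568 = n19135 := d26_1 D19568 (iv D19135) (iv D18554) (iv F72522) D19080
theorem F76721 : act 7 n19568 = n19088 := d31_2 (iv F74732) D19568 (iv D19088)
def n19569 : Q := act 5 n19081
theorem D19569 : act 5 n19081 = n19569 := rfl
theorem F76722 : act 1 n19569 = n19083 := d11_1 D19569 (iv D19083) (iv F74733)
theorem F76723 : act 3 n19569 = n19082 := d22_1 D19569 (iv D19082) D19081
theorem F76724 : act 7 n19569 = n19238 := d31_2 (iv F74735) D19569 (iv D19238)
def n19570 : Q := act 6 n19082
theorem D19570 : act 6 n19082 = n19570 := rfl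
theorem F76725 : act 1 n19570 = n19084 := d12_1 D19570 (iv D19084) (iv F74736)
theorem F76726 : act 2 n19570 = n19241 := d18_1 D19570 F75367 (iv F74737)
theorem F76727 : act 7 n19570 = n19089 := d33_2 (iv F74738) D19570 (iv D19089)
def n19571 : Q := act 4 n19083
theorem D19571 : act 4 n19083 = n19571 := rfl
theorem F76728 : act 5 n19571 = n19571 := d26_2 D19083 D19571 (iv D19571) (iv D19083) F72528
theorem F76729 : act 7 n19571 = n19451 := d28_2 (iv F74740) D19571 (iv D19451)
def n19572 : Q := act 6 n19083
theorem D19572 : act 6 n19083 = n19572 := rfl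
theorem F76730 : act 3 n19572 = n19084 := d23_1 D19572 (iv D19084) (iv F74739)
theorem F76731 : act 7 n19572 = n19452 := d33_2 (iv F74740) D19572 (iv D19452)
def n19573 : Q := act 6 n19086
theorem D19573 : act 6 n19086 = n19573 := rfl
theorem F76732 : act 0 n19573 = n19143 := d5_1 D19573 (iv D19143) (iv F74749)
theorem F76733 : act 1 n19573 = n19087 := d12_1 D19573 (iv D19087) (iv F74750)
theorem F76734 : act 2 n19573 = n19164 := d18_1 D19573 (iv D19164) (iv F74751)
theorem F76735 : act 3 n19573 = n19203 := d23_1 D19573 (iv D19203) (iv F74752)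
theorem F76736 : act 4 n19573 = n19089 := d27_1 D19573 (iv D19089) (iv F74753)
theorem F76737 : act 5 n19573 = n19376 := d30_1 D19573 (iv D19376) (iv D18850) (iv F72542) D19086
theorem F76738 : act 8 n19573 = n19163 := d34_2 (iv F74754) D19573 (iv D19163)
def n19574 : Q := act 6 n19088
theorem D19574 : act 6 n19088 = n19574 := rfl
theorem F76739 : act 0 n19574 = n19089 := d5_1 D19574 (iv D19089) (iv F74758)
theorem F76740 : act 1 n19574 = n19142 := d12_1 D19574 (iv D19142) (iv F74759)
theorem F76741 : act 2 n19574 = n19163 := d18_1 D19574 (iv D19163) (iv F74760)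
theorem F76742 : act 3 n19574 = n19227 := d23_1 D19574 (iv D19227) (iv F74761)
theorem F76743 : act 4 n19574 = n19143 := d27_1 D19574 (iv D19143) (iv F74762)
theorem F76744 : act 5 n19574 = n19398 := d30_1 D19574 (iv D19398) (iv D18870) (iv F72554) D19088
theorem F76745 : act 8 n19574 = n19164 := d34_2 (iv F74763) D19574 (iv D19164)
def n19575 : Q := act 5 n19090
theorem D19575 : act 5 n19090 = n19575 := rfl
theorem F76746 : act 1 n19575 = n19189 := d11_1 D19575 (iv D19189) (iv F74768)
theorem F76747 : act 3 n19575 = n19091 := d22_1 D19575 (iv D19091) D19090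
theorem F76748 : act 7 n19575 = n19136 := d31_2 (iv F74771) D19575 (iv D19136)
theorem F76749 : act 8 n19575 = n19479 := d32_2 (iv F74772) D19575 (iv D19479)
def n19576 : Q := act 6 n19091
theorem D19576 : act 6 n19091 = n19576 := rfl
theorem F76750 : act 1 n19576 = n19190 := d12_1 D19576 (iv D19190) (iv F74773)
theorem F76751 : act 2 n19576 = n19092 := d18_1 D19576 (iv D19092) (iv F74774)
theorem F76752 : act 4 n19576 = n19361 := d27_1 D19576 (iv D19361) (iv F74775)
theorem F76753 : act 5 n19576 = n19258 := d30_1 D19576 (iv D19258) (iv D18705) (iv F72565) D19091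
theorem F76754 : act 7 n19576 = n19093 := d33_2 (iv F74776) D19576 (iv D19093)
theorem F76755 : act 8 n19576 = n19481 := d34_2 (iv F74777) D19576 (iv D19481)
def n19577 : Q := act 3 n19094
theorem D19577 : act 3 n19094 = n19577 := rfl
theorem F76756 : act 0 n19577 = n19360 := d2_1 D19577 F75828 (iv F74789)
theorem F76757 : act 1 n19577 = n19095 := d9_1 D19577 (iv D19095) (iv F74790)
theorem F76758 : act 4 n19577 = n19577 := d21_2 D19094 D19577 (iv D19577) (iv D19094) F72591
theorem F76759 : act 6 n19577 = n19134 := d23_2 (iv F74792) D19577 (iv D19134)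
theorem F76760 : act 7 n19577 = n19173 := d24_2 (iv F74793) D19577 (iv D19173) F72926 (iv F72607)
def n19578 : Q := act 5 n19094
theorem D19578 : act 5 n19094 = n19578 := rfl
theorem F76761 : act 0 n19578 = n19377 := d4_1 D19578 F75890 (iv F74789)
theorem F76762 : act 1 n19578 = n19096 := d11_1 D19578 (iv D19096) (iv F74790)
theorem F76763 : act 2 n19578 = n19106 := d17_1 D19578 (iv D19106) (iv F74791)
theorem F76764 : act 4 n19578 = n19384 := d26_1 D19578 (iv D19384) (iv D18856) (iv F72592) D19094
theorem F76765 : act 7 n19578 = n19098 := d31_2 (iv F74793) D19578 (iv D19098)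
def n19579 : Q := act 5 n19095
theorem D19579 : act 5 n19095 = n19579 := rfl
theorem F76766 : act 0 n19579 = n19446 := d4_1 D19579 (iv D19446) (iv F74794)
theorem F76767 : act 2 n19579 = n19575 := d17_1 D19579 (iv D19575) (iv F74795)
theorem F76768 : act 3 n19579 = n19096 := d22_1 D19579 (iv D19096) D19095
theorem F76769 : act 7 n19579 = n19257 := d31_2 (iv F74798) D19579 (iv D19257)
def n19580 : Q := act 6 n19096
theorem D19580 : act 6 n19096 = n19580 := rfl
theorem F76770 : act 0 n19580 = n19447 := d5_1 D19580 (iv D19447) (iv F74799)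
theorem F76771 : act 2 n19580 = n19097 := d18_1 D19580 (iv D19097) (iv F74800)
theorem F76772 : act 4 n19580 = n19386 := d27_1 D19580 (iv D19386) (iv F74801)
theorem F76773 : act 5 n19580 = n19137 := d30_1 D19580 (iv D19137) (iv D18556) (iv F72597) D19096
theorem F76774 : act 7 n19580 = n19099 := d33_2 (iv F74802) D19580 (iv D19099)
def n19581 : Q := act 6 n19098
theorem D19581 : act 6 n19098 = n19581 := rfl
theorem F76775 : act 0 n19581 = n19376 := d5_1 D19581 (iv D19376) (iv F74809)
theorem F76776 : act 1 n19581 = n19099 := d12_1 D19581 (iv D19099) (iv F74810)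
theorem F76777 : act 2 n19581 = n19112 := d18_1 D19581 (iv D19112) (iv F74811)
theorem F76778 : act 3 n19581 = n19202 := d23_1 D19581 (iv D19202) (iv F74812)
theorem F76779 : act 4 n19581 = n19387 := d27_1 D19581 (iv D19387) (iv F74813)
theorem F76780 : act 5 n19581 = n19143 := d30_1 D19581 (iv D19143) (iv D18563) (iv F72608) D19098
theorem F76781 : act 8 n19581 = n19217 := d34_2 (iv F74814) D19581 (iv D19217)
def n19582 : Q := act 6 n19100
theorem D19582 : act 6 n19100 = n19582 := rfl
theorem F76782 : act 0 n19582 = n19204 := d5_1 D19582 (iv D19204) (iv F74821)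
theorem F76783 : act 1 n19582 = n19308 := d12_1 D19582 (iv D19308) (iv F74822)
theorem F76784 : act 2 n19582 = n19468 := d18_1 D19582 (iv D19468) (iv F74823)
theorem F76785 : act 4 n19582 = n19145 := d27_1 D19582 (iv D19145) (iv F74824)
theorem F76786 : act 5 n19582 = n19104 := d30_1 D19582 (iv D19104) (iv D18523) (iv F72624) D19100
theorem F76787 : act 7 n19582 = n19108 := d33_2 (iv F74825) D19582 (iv D19108)
def n19583 : Q := act 5 n19101
theorem D19583 : act 5 n19101 = n19583 := rfl
theorem F76788 : act 0 n19583 = n19339 := d4_1 D19583 (iv D19339) (iv F74826)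
theorem F76789 : act 1 n19583 = n19103 := d11_1 D19583 (iv D19103) (iv F74827)
theorem F76790 : act 2 n19583 = n19384 := d17_1 D19583 (iv D19384) (iv F74828)
theorem F76791 : act 4 n19583 = n19106 := d26_1 D19583 (iv D19106) (iv D18525) (iv F72629) D19101
theorem F76792 : act 7 n19583 = n19109 := d31_2 (iv F74830) D19583 (iv D19109)
def n19584 : Q := act 5 n19102
theorem D19584 : act 5 n19102 = n19584 := rfl
theorem F76793 : act 0 n19584 = n19350 := d4_1 D19584 (iv D19350) (iv F74831)
theorem F76794 : act 3 n19584 = n19103 := d22_1 D19584 (iv D19103) D19102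
def n19585 : Q := act 6 n19103
theorem D19585 : act 6 n19103 = n19585 := rfl
theorem F76795 : act 0 n19585 = n19351 := d5_1 D19585 (iv D19351) (iv F74834)
theorem F76796 : act 2 n19585 = n19104 := d18_1 D19585 (iv D19104) (iv F74835)
theorem F76797 : act 4 n19585 = n19107 := d27_1 D19585 (iv D19107) (iv F74836)
theorem F76798 : act 5 n19585 = n19468 := d30_1 D19585 (iv D19468) (iv D18950) (iv F72634) D19103
theorem F76799 : act 7 n19585 = n19111 := d33_2 (iv F74837) D19585 (iv D19111)
def n19586 : Q := act 5 n19105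
theorem D19586 : act 5 n19105 = n19586 := rfl
theorem F76800 : act 0 n19586 = n19106 := d4_1 D19586 (iv D19106) (iv F74842)
theorem F76801 : act 1 n19586 = n19334 := d11_1 D19586 (iv D19334) (iv F74843)
theorem F76802 : act 2 n19586 = n19377 := d17_1 D19586 F75890 (iv F74844)
theorem F76803 : act 4 n19586 = n19339 := d26_1 D19586 (iv D19339) (iv D18798) (iv F72643) D19105
theorem F76804 : act 7 n19586 = n19110 := d31_2 (iv F74846) D19586 (iv D19110)
def n19587 : Q := act 6 n19106
theorem D19587 : act 6 n19106 = n19587 := rfl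
theorem F76805 : act 1 n19587 = n19107 := d12_1 D19587 (iv D19107) (iv F74847)
theorem F76806 : act 5 n19587 = n19161 := d30_1 D19587 (iv D19161) (iv D18580) (iv F72647) D19106
theorem F76807 : act 7 n19587 = n19112 := d33_2 (iv F74848) D19587 (iv D19112)
def n19588 : Q := act 6 n19109
theorem D19588 : act 6 n19109 = n19588 := rfl
theorem F76808 : act 0 n19588 = n19342 := d5_1 D19588 (iv D19342) (iv F74859)
theorem F76809 : act 1 n19588 = n19111 := d12_1 D19588 (iv D19111) (iv F74860)
theorem F76810 : act 2 n19588 = n19387 := d18_1 D19588 (iv D19387) (iv F74861)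
theorem F76811 : act 3 n19588 = n19341 := d23_1 D19588 (iv D19341) (iv F74862)
theorem F76812 : act 4 n19588 = n19112 := d27_1 D19588 (iv D19112) (iv F74863)
theorem F76813 : act 5 n19588 = n19401 := d30_1 D19588 (iv D19401) F73865 (iv F72663) D19109
theorem F76814 : act 8 n19588 = n19397 := d34_2 (iv F74864) D19588 (iv D19397)
def n19589 : Q := act 6 n19110
theorem D19589 : act 6 n19110 = n19589 := rfl
theorem F76815 : act 0 n19589 = n19112 := d5_1 D19589 (iv D19112) (iv F74865)
theorem F76816 : act 1 n19589 = n19341 := d12_1 D19589 (iv D19341) (iv F74866)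
theorem F76817 : act 2 n19589 = n19376 := d18_1 D19589 (iv D19376) (iv F74867)
theorem F76818 : act 3 n19589 = n19111 := d23_1 D19589 (iv D19111) (iv F74868)
theorem F76819 : act 4 n19589 = n19342 := d27_1 D19589 (iv D19342) (iv F74869)
theorem F76820 : act 5 n19589 = n19164 := d30_1 D19589 (iv D19164) (iv D18586) (iv F72669) D19110
theorem F76821 : act 8 n19589 = n19398 := d34_2 (iv F74870) D19589 (iv D19398)
def n19590 : Q := act 6 n19113
theorem D19590 : act 6 n19113 = n19590 := rfl
theorem F76822 : act 0 n19590 = n19129 := d5_1 D19590 (iv D19129) (iv F74879)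
theorem F76823 : act 1 n19590 = n19325 := d12_1 D19590 (iv D19325) (iv F74880)
theorem F76824 : act 4 n19590 = n19118 := d27_1 D19590 (iv D19118) (iv F74881)
theorem F76825 : act 5 n19590 = n19316 := d30_1 D19590 (iv D19316) (iv D18767) (iv F72687) D19113
theorem F76826 : act 7 n19590 = n19119 := d33_2 (iv F74882) D19590 (iv D19119)
def n19591 : Q := act 3 n19114
theorem D19591 : act 3 n19114 = n19591 := rfl
theorem F76827 : act 0 n19591 = n19131 := d2_1 D19591 (iv D19131) (iv F74883)
theorem F76828 : act 2 n19591 = n19251 := d15_1 D19591 (iv D19251) F73285 (iv F72696) (iv F74884)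
theorem F76829 : act 4 n19591 = n19591 := d21_2 D19114 D19591 (iv D19591) (iv D19114) F72690
theorem F76830 : act 6 n19591 = n19443 := d23_2 (iv F74885) D19591 (iv D19443)
theorem F76831 : act 8 n19591 = n19116 := d25_2 (iv F74887) D19591 (iv D19116)
def n19592 : Q := act 5 n19114
theorem D19592 : act 5 n19114 = n19592 := rfl
theorem F76832 : act 0 n19592 = n19132 := d4_1 D19592 (iv D19132) (iv F74883)
theorem F76833 : act 2 n19592 = n19115 := d17_1 D19592 (iv D19115) (iv F74884)
theorem F76834 : act 7 n19592 = n19327 := d31_2 (iv F74886) D19592 (iv D19327)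
theorem F76835 : act 8 n19592 = n19117 := d32_2 (iv F74887) D19592 (iv D19117)
def n19593 : Q := act 6 n19115
theorem D19593 : act 6 n19115 = n19593 := rfl
theorem F76836 : act 0 n19593 = n19133 := d5_1 D19593 (iv D19133) (iv F74888)
theorem F76837 : act 1 n19593 = n19260 := d12_1 D19593 (iv D19260) (iv F74889)
theorem F76838 : act 3 n19593 = n19253 := d23_1 D19593 (iv D19253) (iv F74890)
theorem F76839 : act 5 n19593 = n19445 := d30_1 D19593 (iv D19445) (iv D18922) (iv F72697) D19115
theorem F76840 : act 7 n19593 = n19328 := d33_2 (iv F74891) D19593 (iv D19328)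
theorem F76841 : act 8 n19593 = n19118 := d34_2 (iv F74892) D19593 (iv D19118)
def n19594 : Q := act 5 n19116
theorem D19594 : act 5 n19116 = n19594 := rfl
theorem F76842 : act 0 n19594 = n19136 := d4_1 D19594 (iv D19136) (iv F74893)
theorem F76843 : act 3 n19594 = n19117 := d22_1 D19594 (iv D19117) D19116
def n19595 : Q := act 6 n19117
theorem D19595 : act 6 n19117 = n19595 := rfl
theorem F76844 : act 0 n19595 = n19137 := d5_1 D19595 (iv D19137) (iv F74896)
theorem F76845 : act 2 n19595 = n19118 := d18_1 D19595 (iv D19118) (iv F74897)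
theorem F76846 : act 5 n19595 = n19447 := d30_1 D19595 (iv D19447) (iv D18924) (iv F72702) D19117
theorem F76847 : act 7 n19595 = n19120 := d33_2 (iv F74898) D19595 (iv D19120)
def n19596 : Q := act 3 n19121
theorem D19596 : act 3 n19121 = n19596 := rfl
theorem F76848 : act 1 n19596 = n19506 := d9_1 D19596 (iv D19506) (iv F74912)
theorem F76849 : act 2 n19596 = n19127 := d15_1 D19596 (iv D19127) F72746 (iv F72725) (iv F74913)
theorem F76850 : act 4 n19596 = n19596 := d21_2 D19121 D19596 (iv D19596) (iv D19121) F72719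
theorem F76851 : act 6 n19596 = n19530 := d23_2 (iv F74914) D19596 (iv D19530)
theorem F76852 : act 8 n19596 = n19509 := d25_2 (iv F74916) D19596 (iv D19509)
def n19597 : Q := act 5 n19121
theorem D19597 : act 5 n19121 = n19597 := rfl
theorem F76853 : act 1 n19597 = n19507 := d11_1 D19597 (iv D19507) (iv F74912)
theorem F76854 : act 2 n19597 = n19122 := d17_1 D19597 (iv D19122) (iv F74913)
theorem F76855 : act 4 n19597 = n19592 := d26_1 D19597 (iv D19592) (iv D19114) (iv F72720) D19121
theorem F76856 : act 7 n19597 = n19343 := d31_2 (iv F74915) D19597 (iv D19343)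
theorem F76857 : act 8 n19597 = n19510 := d32_2 (iv F74916) D19597 (iv D19510)
def n19598 : Q := act 6 n19122
theorem D19598 : act 6 n19122 = n19598 := rfl
theorem F76858 : act 1 n19598 = n19144 := d12_1 D19598 (iv D19144) (iv F74917)
theorem F76859 : act 3 n19598 = n19129 := d23_1 D19598 (iv D19129) (iv F74918)
theorem F76860 : act 4 n19598 = n19593 := d27_1 D19598 (iv D19593) (iv F74919)
theorem F76861 : act 7 n19598 = n19344 := d33_2 (iv F74920) D19598 (iv D19344)
theorem F76862 : act 8 n19598 = n19590 := d34_2 (iv F74921) D19598 (iv D19590)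
def n19599 : Q := act 3 n19123
theorem D19599 : act 3 n19123 = n19599 := rfl
theorem F76863 : act 0 n19599 = n19314 := d2_1 D19599 (iv D19314) (iv F74922)
theorem F76864 : act 1 n19599 = n19395 := d9_1 D19599 F75937 (iv F74923)
theorem F76865 : act 2 n19599 = n19530 := d15_1 D19599 (iv D19530) F74566 F73516 (iv F74924)
theorem F76866 : act 4 n19599 = n19599 := d21_2 D19123 D19599 (iv D19599) (iv D19123) F72730
theorem F76867 : act 6 n19599 = n19127 := d23_2 (iv F74925) D19599 (iv D19127)
theorem F76868 : act 7 n19599 = n19392 := d24_2 (iv F74926) D19599 (iv D19392) F73848 (iv F72770)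
def n19600 : Q := act 5 n19123
theorem D19600 : act 5 n19123 = n19600 := rfl
theorem F76869 : act 0 n19600 = n19315 := d4_1 D19600 (iv D19315) (iv F74922)
theorem F76870 : act 1 n19600 = n19399 := d11_1 D19600 F75946 (iv F74923)
theorem F76871 : act 2 n19600 = n19124 := d17_1 D19600 (iv D19124) (iv F74924)
theorem F76872 : act 4 n19600 = n19307 := d26_1 D19600 (iv D19307) (iv D18758) (iv F72731) D19123
theorem F76873 : act 7 n19600 = n19138 := d31_2 (iv F74926) D19600 (iv D19138)
def n19601 : Q := act 6 n19124
theorem D19601 : act 6 n19124 = n19601 := rfl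
theorem F76874 : act 0 n19601 = n19316 := d5_1 D19601 (iv D19316) (iv F74927)
theorem F76875 : act 1 n19601 = n19145 := d12_1 D19601 (iv D19145) (iv F74928)
theorem F76876 : act 4 n19601 = n19308 := d27_1 D19601 (iv D19308) (iv F74929)
theorem F76877 : act 5 n19601 = n19129 := d30_1 D19601 (iv D19129) (iv D18550) (iv F72736) D19124
theorem F76878 : act 7 n19601 = n19139 := d33_2 (iv F74930) D19601 (iv D19139)
def n19602 : Q := act 3 n19125
theorem D19602 : act 3 n19125 = n19602 := rfl
theorem F76879 : act 0 n19602 = n19596 := d2_1 D19602 (iv D19596) (iv F74931)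
theorem F76880 : act 2 n19602 = n19509 := d15_1 D19602 (iv D19509) F74345 (iv F72744) (iv F74932)
theorem F76881 : act 4 n19602 = n19602 := d21_2 D19125 D19602 (iv D19602) (iv D19125) F72739
theorem F76882 : act 8 n19602 = n19127 := d25_2 (iv F74933) D19602 (iv D19127)
def n19603 : Q := act 5 n19125
theorem D19603 : act 5 n19125 = n19603 := rfl
theorem F76883 : act 0 n19603 = n19597 := d4_1 D19603 (iv D19597) (iv F74931)
theorem F76884 : act 2 n19603 = n19126 := d17_1 D19603 (iv D19126) (iv F74932)
theorem F76885 : act 4 n19603 = n19132 := d26_1 D19603 (iv D19132) (iv D18552) (iv F72740) D19125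
theorem F76886 : act 8 n19603 = n19128 := d32_2 (iv F74933) D19603 (iv D19128)
def n19604 : Q := act 6 n19126
theorem D19604 : act 6 n19126 = n19604 := rfl
theorem F76887 : act 0 n19604 = n19598 := d5_1 D19604 (iv D19598) (iv F74934)
theorem F76888 : act 1 n19604 = n19148 := d12_1 D19604 (iv D19148) (iv F74935)
theorem F76889 : act 3 n19604 = n19590 := d23_1 D19604 (iv D19590) (iv F74936)
theorem F76890 : act 4 n19604 = n19133 := d27_1 D19604 (iv D19133) (iv F74937)
theorem F76891 : act 8 n19604 = n19129 := d34_2 (iv F74938) D19604 (iv D19129)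
def n19605 : Q := act 5 n19127
theorem D19605 : act 5 n19127 = n19605 := rfl
theorem F76892 : act 3 n19605 = n19128 := d22_1 D19605 (iv D19128) D19127
def n19606 : Q := act 7 n19127
theorem D19606 : act 7 n19127 = n19606 := rfl
theorem F76893 : act 0 n19606 = n19383 := d6_1 D19606 (iv F76427) F76423
theorem F76894 : act 1 n19606 = n19224 := d13_1 D19606 (iv F76716) F76712
theorem F76895 : act 3 n19606 = n19141 := d24_1 D19606 (iv D19141) (iv D18560) (iv F72747) D19127
theorem F76896 : act 4 n19606 = n19606 := d28_1 D19606 (iv D19606) F74939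
theorem F76897 : act 6 n19606 = n19392 := d33_1 D19606 (iv F76868) F76867
def n19607 : Q := act 6 n19128
theorem D19607 : act 6 n19128 = n19607 := rfl
theorem F76898 : act 2 n19607 = n19129 := d18_1 D19607 (iv D19129) (iv F74940)
theorem F76899 : act 4 n19607 = n19137 := d27_1 D19607 (iv D19137) (iv F74941)
theorem F76900 : act 7 n19607 = n19142 := d33_2 (iv F74942) D19607 (iv D19142)
def n19608 : Q := act 3 n19130
theorem D19608 : act 3 n19130 = n19608 := rfl
theorem F76901 : act 1 n19608 = n19131 := d9_1 D19608 (iv D19131) (iv F74946)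
theorem F76902 : act 4 n19608 = n19608 := d21_2 D19130 D19608 (iv D19608) (iv D19130) F72752
theorem F76903 : act 8 n19608 = n19134 := d25_2 (iv F74949) D19608 (iv D19134)
def n19609 : Q := act 5 n19130
theorem D19609 : act 5 n19130 = n19609 := rfl
theorem F76904 : act 1 n19609 = n19132 := d11_1 D19609 (iv D19132) (iv F74946)
theorem F76905 : act 2 n19609 = n19153 := d17_1 D19609 (iv D19153) (iv F74947)
theorem F76906 : act 7 n19609 = n19242 := d31_2 (iv F74948) D19609 F75368
theorem F76907 : act 8 n19609 = n19135 := d32_2 (iv F74949) D19609 (iv D19135)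
def n19610 : Q := act 5 n19131
theorem D19610 : act 5 n19131 = n19610 := rfl
theorem F76908 : act 3 n19610 = n19132 := d22_1 D19610 (iv D19132) D19131
theorem F76909 : act 8 n19610 = n19136 := d32_2 (iv F74951) D19610 (iv D19136)
def n19611 : Q := act 6 n19132
theorem D19611 : act 6 n19132 = n19611 := rfl
theorem F76910 : act 2 n19611 = n19133 := d18_1 D19611 (iv D19133) (iv F74952)
theorem F76911 : act 8 n19611 = n19137 := d34_2 (iv F74953) D19611 (iv D19137)
def n19612 : Q := act 2 n19134
theorem D19612 : act 2 n19134 = n19612 := rfl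
theorem F76912 : act 1 n19612 = n19419 := d8_1 D19612 F76020 F75100 F73304 (iv F74956)
theorem F76913 : act 3 n19612 = n19159 := d15_2 D19134 D19612 (iv D19159) (iv D18579) (iv F72760)
theorem F76914 : act 4 n19612 = n19612 := d16_2 F74957 D19612 (iv D19612)
theorem F76915 : act 7 n19612 = n19186 := d19_2 (iv F74958) D19612 F75156
def n19613 : Q := act 5 n19134
theorem D19613 : act 5 n19134 = n19613 := rfl
theorem F76916 : act 1 n19613 = n19136 := d11_1 D19613 (iv D19136) (iv F74956)
theorem F76917 : act 3 n19613 = n19135 := d22_1 D19613 (iv D19135) D19134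
theorem F76918 : act 7 n19613 = n19189 := d31_2 (iv F74958) D19613 (iv D19189)
def n19614 : Q := act 6 n19135
theorem D19614 : act 6 n19135 = n19614 := rfl
theorem F76919 : act 1 n19614 = n19137 := d12_1 D19614 (iv D19137) (iv F74959)
theorem F76920 : act 2 n19614 = n19161 := d18_1 D19614 (iv D19161) (iv F74960)
theorem F76921 : act 7 n19614 = n19143 := d33_2 (iv F74961) D19614 (iv D19143)
def n19615 : Q := act 4 n19136
theorem D19615 : act 4 n19136 = n19615 := rfl
theorem F76922 : act 5 n19615 = n19615 := d26_2 D19136 D19615 (iv D19615) (iv D19136) F72762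
def n19616 : Q := act 6 n19136
theorem D19616 : act 6 n19136 = n19616 := rfl
theorem F76923 : act 3 n19616 = n19137 := d23_1 D19616 (iv D19137) (iv F74962)
def n19617 : Q := act 6 n19138
theorem D19617 : act 6 n19138 = n19617 := rfl
theorem F76924 : act 0 n19617 = n19322 := d5_1 D19617 (iv D19322) (iv F74965)
theorem F76925 : act 1 n19617 = n19398 := d12_1 D19617 (iv D19398) (iv F74966)
theorem F76926 : act 2 n19617 = n19139 := d18_1 D19617 (iv D19139) (iv F74967)
theorem F76927 : act 3 n19617 = n19397 := d23_1 D19617 (iv D19397) (iv F74968)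
theorem F76928 : act 4 n19617 = n19310 := d27_1 D19617 (iv D19310) (iv F74969)
theorem F76929 : act 5 n19617 = n19142 := d30_1 D19617 (iv D19142) (iv D18561) (iv F72771) D19138
theorem F76930 : act 8 n19617 = n19341 := d34_2 (iv F74970) D19617 (iv D19341)
def n19618 : Q := act 6 n19140
theorem D19618 : act 6 n19140 = n19618 := rfl
theorem F76931 : act 0 n19618 = n19387 := d5_1 D19618 (iv D19387) (iv F74977)
theorem F76932 : act 1 n19618 = n19227 := d12_1 D19618 (iv D19227) (iv F74978)
theorem F76933 : act 2 n19618 = n19342 := d18_1 D19618 (iv D19342) (iv F74979)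
theorem F76934 : act 3 n19618 = n19142 := d23_1 D19618 (iv D19142) (iv F74980)
theorem F76935 : act 4 n19618 = n19376 := d27_1 D19618 (iv D19376) (iv F74981)
theorem F76936 : act 5 n19618 = n19397 := d30_1 D19618 (iv D19397) (iv D18869) (iv F72782) D19140
theorem F76937 : act 8 n19618 = n19401 := d34_2 (iv F74982) D19618 (iv D19401)
def n19619 : Q := act 7 n19140
theorem D19619 : act 7 n19140 = n19619 := rfl
theorem F76938 : act 0 n19619 = n19384 := d6_1 D19619 F75910 (iv F74977)
theorem F76939 : act 1 n19619 = n19225 := d13_1 D19619 F75307 (iv F74978)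
theorem F76940 : act 2 n19619 = n19339 := d19_1 D19619 F75749 (iv F74979)
theorem F76941 : act 4 n19619 = n19377 := d28_1 D19619 (iv D19377) (iv F74981)
theorem F76942 : act 5 n19619 = n19141 := d31_1 D19619 (iv D19141) D19140
def n19620 : Q := act 8 n19141
theorem D19620 : act 8 n19141 = n19620 := rfl
theorem F76943 : act 0 n19620 = n19379 := d7_1 D19620 F75896 (iv F74983)
theorem F76944 : act 1 n19620 = n19222 := d14_1 D19620 F75295 (iv F74984)
theorem F76945 : act 2 n19620 = n19336 := d20_1 D19620 F75738 (iv F74985)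
theorem F76946 : act 4 n19620 = n19169 := d29_1 D19620 (iv D19169) (iv F74986)
theorem F76947 : act 6 n19620 = n19388 := d34_1 D19620 F75920 (iv F74987)
theorem F76948 : act 7 n19620 = n19409 := d35_1 D19620 F75982 F73911 (iv F72783) D19141
def n19621 : Q := act 5 n19146
theorem D19621 : act 5 n19146 = n19621 := rfl
theorem F76949 : act 0 n19621 = n19242 := d4_1 D19621 F75368 (iv F74998)
theorem F76950 : act 1 n19621 = n19147 := d11_1 D19621 (iv D19147) (iv F74999)
theorem F76951 : act 4 n19621 = n19153 := d26_1 D19621 (iv D19153) (iv D18574) (iv F72799) D19146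
theorem F76952 : act 8 n19621 = n19149 := d32_2 (iv F75001) D19621 (iv D19149)
def n19622 : Q := act 6 n19147
theorem D19622 : act 6 n19147 = n19622 := rfl
theorem F76953 : act 2 n19622 = n19148 := d18_1 D19622 (iv D19148) (iv F75002)
theorem F76954 : act 4 n19622 = n19156 := d27_1 D19622 (iv D19156) (iv F75003)
theorem F76955 : act 8 n19622 = n19150 := d34_2 (iv F75004) D19622 (iv D19150)
def n19623 : Q := act 6 n19149
theorem D19623 : act 6 n19149 = n19623 := rfl
theorem F76956 : act 0 n19623 = n19241 := d5_1 D19623 F75367 (iv F75007)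
theorem F76957 : act 1 n19623 = n19150 := d12_1 D19623 (iv D19150) (iv F75008)
theorem F76958 : act 4 n19623 = n19161 := d27_1 D19623 (iv D19161) (iv F75009)
theorem F76959 : act 5 n19623 = n19403 := d30_1 D19623 F75958 F73868 (iv F72808) D19149
theorem F76960 : act 7 n19623 = n19163 := d33_2 (iv F75010) D19623 (iv D19163)
def n19624 : Q := act 3 n19151
theorem D19624 : act 3 n19151 = n19624 := rfl
theorem F76961 : act 0 n19624 = n19152 := d2_1 D19624 (iv D19152) (iv F75014)
theorem F76962 : act 1 n19624 = n19277 := d9_1 D19624 (iv F75711) F75709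
theorem F76963 : act 4 n19624 = n19165 := d21_2 D19151 D19624 (iv D19165) (iv D18589) (iv F72815)
theorem F76964 : act 6 n19624 = n19372 := d23_2 F76313 D19624 (iv F76312)
theorem F76965 : act 8 n19624 = n19157 := d25_2 (iv F75015) D19624 (iv D19157)
def n19625 : Q := act 5 n19151
theorem D19625 : act 5 n19151 = n19625 := rfl
theorem F76966 : act 0 n19625 = n19153 := d4_1 D19625 (iv D19153) (iv F75014)
theorem F76967 : act 4 n19625 = n19242 := d26_1 D19625 F75368 F73218 (iv F72816) D19151
theorem F76968 : act 8 n19625 = n19158 := d32_2 (iv F75015) D19625 (iv D19158)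
def n19626 : Q := act 2 n19152
theorem D19626 : act 2 n19152 = n19626 := rfl
theorem F76969 : act 1 n19626 = n19177 := d8_1 D19626 F75117 F72944 (iv F72821) (iv F75016)
theorem F76970 : act 4 n19626 = n19166 := d16_2 (iv F75017) D19626 (iv D19166)
theorem F76971 : act 6 n19626 = n19355 := d18_2 (iv F75018) D19626 F75816
theorem F76972 : act 8 n19626 = n19159 := d20_2 (iv F75019) D19626 (iv D19159)
def n19627 : Q := act 5 n19152
theorem D19627 : act 5 n19152 = n19627 := rfl
theorem F76973 : act 1 n19627 = n19154 := d11_1 D19627 (iv D19154) (iv F75016)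
theorem F76974 : act 3 n19627 = n19153 := d22_1 D19627 (iv D19153) D19152
theorem F76975 : act 8 n19627 = n19160 := d32_2 (iv F75019) D19627 (iv D19160)
def n19628 : Q := act 7 n19152
theorem D19628 : act 7 n19152 = n19628 := rfl
theorem F76976 : act 1 n19628 = n19155 := d13_1 D19628 (iv D19155) (iv F75016)
theorem F76977 : act 4 n19628 = n19167 := d28_1 D19628 (iv D19167) (iv F75017)
theorem F76978 : act 6 n19628 = n19363 := d33_1 D19628 F75838 (iv F75018)
theorem F76979 : act 8 n19628 = n19463 := d35_2 (iv F75019) D19628 (iv D19463) F74099 (iv F72832)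
def n19629 : Q := act 6 n19153
theorem D19629 : act 6 n19153 = n19629 := rfl
theorem F76980 : act 1 n19629 = n19156 := d12_1 D19629 (iv D19156) (iv F75020)
theorem F76981 : act 8 n19629 = n19161 := d34_2 (iv F75021) D19629 (iv D19161)
def n19630 : Q := act 6 n19154
theorem D19630 : act 6 n19154 = n19630 := rfl
theorem F76982 : act 0 n19630 = n19279 := d5_1 D19630 (iv D19279) (iv F75022)
theorem F76983 : act 2 n19630 = n19266 := d18_1 D19630 (iv D19266) (iv F75023)
theorem F76984 : act 3 n19630 = n19156 := d23_1 D19630 (iv D19156) (iv F75024)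
theorem F76985 : act 5 n19630 = n19374 := d30_1 D19630 (iv D19374) (iv D18845) (iv F72823) D19154
theorem F76986 : act 8 n19630 = n19162 := d34_2 (iv F75025) D19630 (iv D19162)
def n19631 : Q := act 7 n19154
theorem D19631 : act 7 n19154 = n19631 := rfl
theorem F76987 : act 0 n19631 = n19274 := d6_1 D19631 F75510 (iv F75022)
theorem F76988 : act 2 n19631 = n19265 := d19_1 D19631 F75472 (iv F75023)
theorem F76989 : act 5 n19631 = n19155 := d31_1 D19631 (iv D19155) D19154
theorem F76990 : act 8 n19631 = n19466 := d35_2 (iv F75025) D19631 (iv D19466) F74105 (iv F72836)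
def n19632 : Q := act 2 n19157
theorem D19632 : act 2 n19157 = n19632 := rfl
theorem F76991 : act 0 n19632 = n19159 := d1_1 D19632 (iv D19159) (iv F75033)
theorem F76992 : act 4 n19632 = n19168 := d16_2 (iv F75034) D19632 (iv D19168)
theorem F76993 : act 7 n19632 = n19434 := d19_2 (iv F75035) D19632 F76073
def n19633 : Q := act 5 n19157
theorem D19633 : act 5 n19157 = n19633 := rfl
theorem F76994 : act 0 n19633 = n19160 := d4_1 D19633 (iv D19160) (iv F75033)
theorem F76995 : act 3 n19633 = n19158 := d22_1 D19633 (iv D19158) D19157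
theorem F76996 : act 7 n19633 = n19467 := d31_2 (iv F75035) D19633 (iv D19467)
def n19634 : Q := act 6 n19158
theorem D19634 : act 6 n19158 = n19634 := rfl
theorem F76997 : act 0 n19634 = n19161 := d5_1 D19634 (iv D19161) (iv F75036)
theorem F76998 : act 4 n19634 = n19241 := d27_1 D19634 F75367 (iv F75037)
theorem F76999 : act 7 n19634 = n19164 := d33_2 (iv F75038) D19634 (iv D19164)
def n19635 : Q := act 5 n19159
theorem D19635 : act 5 n19159 = n19635 := rfl
theorem F77000 : act 1 n19635 = n19420 := d11_1 D19635 (iv D19420) (iv F75039)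
theorem F77001 : act 2 n19635 = n19160 := d17_1 D19635 (iv D19160) D19159
theorem F77002 : act 4 n19635 = n19429 := d26_1 D19635 (iv D19429) (iv D18905) (iv F72872) (iv F75040)
theorem F77003 : act 7 n19635 = n19435 := d31_2 (iv F75041) D19635 (iv D19435)
def n19636 : Q := act 6 n19160
theorem D19636 : act 6 n19160 = n19636 := rfl
theorem F77004 : act 1 n19636 = n19162 := d12_1 D19636 (iv D19162) (iv F75042)
theorem F77005 : act 3 n19636 = n19161 := d23_1 D19636 (iv D19161) (iv F75043)
theorem F77006 : act 7 n19636 = n19469 := d33_2 (iv F75044) D19636 (iv D19469)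
def n19637 : Q := act 2 n19165
theorem D19637 : act 2 n19165 = n19637 := rfl
theorem F77007 : act 0 n19637 = n19166 := d1_1 D19637 (iv D19166) (iv F75057)
theorem F77008 : act 1 n19637 = n19184 := d8_1 D19637 F75148 F72995 (iv F73392) (iv F75058)
theorem F77009 : act 3 n19637 = n19637 := d15_2 D19165 D19637 (iv D19637) (iv D19165) F72856
theorem F77010 : act 5 n19637 = n19422 := d17_2 F76016 D19637 F76033
theorem F77011 : act 6 n19637 = n19354 := d18_2 (iv F75059) D19637 F75812
theorem F77012 : act 8 n19637 = n19168 := d20_2 (iv F75060) D19637 (iv D19168)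
theorem F77013 : act 7 n19375 = n19637 := d35_5 F77012 F75073 F73995 (iv F75202) (iv F75887)
def n19638 : Q := act 7 n19165
theorem D19638 : act 7 n19165 = n19638 := rfl
theorem F77014 : act 0 n19638 = n19167 := d6_1 D19638 (iv D19167) (iv F75057)
theorem F77015 : act 1 n19638 = n19271 := d13_1 D19638 F75501 (iv F75058)
theorem F77016 : act 2 n19638 = n19375 := d19_1 D19638 F77013 (iv D19637)
theorem F77017 : act 3 n19638 = n19638 := d24_1 D19638 (iv D19638) (iv D19165) F72858 D19165
theorem F77018 : act 6 n19638 = n19362 := d33_1 D19638 F75836 (iv F75059)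
theorem F77019 : act 8 n19638 = n19471 := d35_2 (iv F75060) D19638 (iv D19471) F74136 (iv F72869)
def n19639 : Q := act 5 n19173
theorem D19639 : act 5 n19173 = n19639 := rfl
theorem F77020 : act 0 n19639 = n19359 := d4_1 D19639 (iv D19359) (iv F75099)
theorem F77021 : act 1 n19639 = n19257 := d11_1 D19639 (iv D19257) (iv F75100)
theorem F77022 : act 3 n19639 = n19174 := d22_1 D19639 (iv D19174) D19173
def n19640 : Q := act 6 n19174
theorem D19640 : act 6 n19174 = n19640 := rfl
theorem F77023 : act 0 n19640 = n19361 := d5_1 D19640 (iv D19361) (iv F75103)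
theorem F77024 : act 1 n19640 = n19258 := d12_1 D19640 (iv D19258) (iv F75104)
theorem F77025 : act 2 n19640 = n19175 := d18_1 D19640 (iv D19175) (iv F75105)
theorem F77026 : act 5 n19640 = n19190 := d30_1 D19640 (iv D19190) (iv D18617) (iv F72925) D19174
theorem F77027 : act 7 n19640 = n19202 := d33_2 (iv F75106) D19640 (iv D19202)
def n19641 : Q := act 3 n19177
theorem D19641 : act 3 n19177 = n19641 := rfl
theorem F77028 : act 0 n19641 = n19186 := d2_1 D19641 (iv D19186) (iv F75116)
theorem F77029 : act 2 n19641 = n19179 := d15_1 D19641 (iv D19179) F72949 (iv F72945) (iv F75117)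
theorem F77030 : act 4 n19641 = n19641 := d21_2 D19177 D19641 (iv D19641) (iv D19177) F72939
theorem F77031 : act 6 n19641 = n19356 := d23_2 (iv F75118) D19641 (iv D19356)
theorem F77032 : act 8 n19641 = n19419 := d25_2 (iv F75119) D19641 (iv D19419)
def n19642 : Q := act 5 n19177
theorem D19642 : act 5 n19177 = n19642 := rfl
theorem F77033 : act 0 n19642 = n19187 := d4_1 D19642 (iv D19187) (iv F75116)
theorem F77034 : act 2 n19642 = n19178 := d17_1 D19642 (iv D19178) (iv F75117)
theorem F77035 : act 4 n19642 = n19425 := d26_1 D19642 (iv D19425) (iv D18902) (iv F72940) D19177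
theorem F77036 : act 8 n19642 = n19420 := d32_2 (iv F75119) D19642 (iv D19420)
def n19643 : Q := act 6 n19178
theorem D19643 : act 6 n19178 = n19643 := rfl
theorem F77037 : act 0 n19643 = n19188 := d5_1 D19643 (iv D19188) (iv F75120)
theorem F77038 : act 1 n19643 = n19266 := d12_1 D19643 (iv D19266) (iv F75121)
theorem F77039 : act 3 n19643 = n19181 := d23_1 D19643 (iv D19181) (iv F75122)
theorem F77040 : act 4 n19643 = n19426 := d27_1 D19643 (iv D19426) (iv F75123)
theorem F77041 : act 5 n19643 = n19358 := d30_1 D19643 (iv D19358) (iv D18833) (iv F72946) D19178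
theorem F77042 : act 8 n19643 = n19421 := d34_2 (iv F75124) D19643 (iv D19421)
def n19644 : Q := act 5 n19179
theorem D19644 : act 5 n19179 = n19644 := rfl
theorem F77043 : act 0 n19644 = n19189 := d4_1 D19644 (iv D19189) (iv F75125)
theorem F77044 : act 3 n19644 = n19180 := d22_1 D19644 (iv D19180) D19179
theorem F77045 : act 8 n19644 = n19639 := d32_2 (iv F75128) D19644 (iv D19639)
def n19645 : Q := act 6 n19180
theorem D19645 : act 6 n19180 = n19645 := rfl
theorem F77046 : act 0 n19645 = n19190 := d5_1 D19645 (iv D19190) (iv F75129)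
theorem F77047 : act 2 n19645 = n19181 := d18_1 D19645 (iv D19181) (iv F75130)
theorem F77048 : act 5 n19645 = n19361 := d30_1 D19645 (iv D19361) (iv D18835) (iv F72950) D19180
theorem F77049 : act 7 n19645 = n19203 := d33_2 (iv F75131) D19645 (iv D19203)
theorem F77050 : act 8 n19645 = n19640 := d34_2 (iv F75132) D19645 (iv D19640)
def n19646 : Q := act 3 n19182
theorem D19646 : act 3 n19182 = n19646 := rfl
theorem F77051 : act 0 n19646 = n19424 := d2_1 D19646 (iv D19424) (iv F75138)
theorem F77052 : act 2 n19646 = n19380 := d15_1 D19646 (iv D19380) F73818 (iv F72965) (iv F75139)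
theorem F77053 : act 4 n19646 = n19646 := d21_2 D19182 D19646 (iv D19646) (iv D19182) F72958
theorem F77054 : act 6 n19646 = n19449 := d23_2 (iv F75140) D19646 F76125
theorem F77055 : act 7 n19646 = n19317 := d24_2 (iv F75141) D19646 (iv D19317) F73527 D18811
theorem F77056 : act 8 n19646 = n19364 := d25_2 (iv F75142) D19646 (iv D19364)
def n19647 : Q := act 5 n19182
theorem D19647 : act 5 n19182 = n19647 := rfl
theorem F77057 : act 0 n19647 = n19425 := d4_1 D19647 (iv D19425) (iv F75138)
theorem F77058 : act 2 n19647 = n19183 := d17_1 D19647 (iv D19183) (iv F75139)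
theorem F77059 : act 4 n19647 = n19187 := d26_1 D19647 (iv D19187) (iv D18614) (iv F72959) D19182
theorem F77060 : act 7 n19647 = n19348 := d31_2 (iv F75141) D19647 (iv D19348)
theorem F77061 : act 8 n19647 = n19365 := d32_2 (iv F75142) D19647 (iv D19365)
def n19648 : Q := act 6 n19183
theorem D19648 : act 6 n19183 = n19648 := rfl
theorem F77062 : act 0 n19648 = n19426 := d5_1 D19648 (iv D19426) (iv F75143)
theorem F77063 : act 1 n19648 = n19197 := d12_1 D19648 (iv D19197) (iv F75144)
theorem F77064 : act 3 n19648 = n19382 := d23_1 D19648 (iv D19382) (iv F75145)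
theorem F77065 : act 4 n19648 = n19188 := d27_1 D19648 (iv D19188) (iv F75146)
theorem F77066 : act 8 n19648 = n19366 := d34_2 (iv F75147) D19648 (iv D19366)
def n19649 : Q := act 4 n19184
theorem D19649 : act 4 n19184 = n19649 := rfl
theorem F77067 : act 0 n19649 = n19185 := d3_1 D19649 (iv D19185) D19184
theorem F77068 : act 2 n19649 = n19198 := d16_1 D19649 (iv D19198) (iv F75148)
theorem F77069 : act 6 n19649 = n19632 := d27_2 (iv F75150) D19649 F76992
theorem F77070 : act 7 n19649 = n19369 := d28_2 (iv F75151) D19649 F75862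
def n19650 : Q := act 3 n19185
theorem D19650 : act 3 n19185 = n19650 := rfl
theorem F77071 : act 1 n19650 = n19186 := d9_1 D19650 (iv D19186) (iv F75152)
theorem F77072 : act 2 n19650 = n19577 := d15_1 D19650 (iv D19577) F74791 (iv F73000) (iv F75153)
theorem F77073 : act 4 n19650 = n19650 := d21_2 D19185 D19650 (iv D19650) (iv D19185) F72968
theorem F77074 : act 6 n19650 = n19612 := d23_2 (iv F75154) D19650 F76913
theorem F77075 : act 7 n19650 = n19419 := d24_2 (iv F75155) D19650 (iv D19419) F73955 D18913
def n19651 : Q := act 5 n19185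
theorem D19651 : act 5 n19185 = n19651 := rfl
theorem F77076 : act 1 n19651 = n19187 := d11_1 D19651 (iv D19187) (iv F75152)
theorem F77077 : act 2 n19651 = n19199 := d17_1 D19651 (iv D19199) (iv F75153)
theorem F77078 : act 7 n19651 = n19436 := d31_2 (iv F75155) D19651 (iv D19436)
def n19652 : Q := act 5 n19186
theorem D19652 : act 5 n19186 = n19652 := rfl
theorem F77079 : act 2 n19652 = n19189 := d17_1 D19652 (iv D19189) (iv F75156)
theorem F77080 : act 3 n19652 = n19187 := d22_1 D19652 (iv D19187) D19186
def n19653 : Q := act 6 n19187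
theorem D19653 : act 6 n19187 = n19653 := rfl
theorem F77081 : act 2 n19653 = n19188 := d18_1 D19653 (iv D19188) (iv F75158)
def n19654 : Q := act 4 n19189
theorem D19654 : act 4 n19189 = n19654 := rfl
theorem F77082 : act 5 n19654 = n19654 := d26_2 D19189 D19654 (iv D19654) (iv D19189) F72974
def n19655 : Q := act 6 n19189
theorem D19655 : act 6 n19189 = n19655 := rfl
theorem F77083 : act 3 n19655 = n19190 := d23_1 D19655 (iv D19190) (iv F75161)
def n19656 : Q := act 6 n19191
theorem D19656 : act 6 n19191 = n19656 := rfl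
theorem F77084 : act 0 n19656 = n19291 := d5_1 D19656 (iv D19291) (iv F75164)
theorem F77085 : act 1 n19656 = n19296 := d12_1 D19656 (iv D19296) (iv F75165)
theorem F77086 : act 3 n19656 = n19208 := d23_1 D19656 (iv D19208) (iv F75166)
theorem F77087 : act 4 n19656 = n19433 := d27_1 D19656 (iv D19433) (iv F75167)
theorem F77088 : act 5 n19656 = n19276 := d30_1 D19656 (iv D19276) (iv D18727) (iv F72982) D19191
theorem F77089 : act 7 n19656 = n19648 := d33_2 (iv F75168) D19656 (iv D19648)
theorem F77090 : act 8 n19656 = n19192 := d34_2 (iv F75169) D19656 (iv D19192)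
def n19657 : Q := act 4 n19193
theorem D19657 : act 4 n19193 = n19657 := rfl
theorem F77091 : act 0 n19657 = n19194 := d3_1 D19657 (iv D19194) D19193
theorem F77092 : act 1 n19657 = n19285 := d10_1 D19657 F75555 (iv F75174)
theorem F77093 : act 3 n19657 = n19284 := d21_1 D19657 (iv D19284) F73423 F73011 (iv F75175)
theorem F77094 : act 7 n19657 = n19195 := d28_2 (iv F75177) D19657 F75181
def n19658 : Q := act 3 n19194
theorem D19658 : act 3 n19194 = n19658 := rfl
theorem F77095 : act 0 n19658 = n19284 := d2_1 D19658 (iv F77093) F77091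
theorem F77096 : act 1 n19658 = n19195 := d9_1 D19658 (iv D19195) (iv F75178)
theorem F77097 : act 4 n19658 = n19201 := d21_2 D19194 D19658 (iv D19201) (iv D18629) (iv F72988)
theorem F77098 : act 6 n19658 = n19657 := d23_2 F75552 D19658 F77093
theorem F77099 : act 7 n19658 = n19285 := d24_2 (iv F75179) D19658 (iv D19285) F73429 D18749
def n19659 : Q := act 5 n19194
theorem D19659 : act 5 n19194 = n19659 := rfl
theorem F77100 : act 1 n19659 = n19196 := d11_1 D19659 (iv D19196) (iv F75178)
theorem F77101 : act 4 n19659 = n19199 := d26_1 D19659 (iv D19199) (iv D18625) (iv F72989) D19194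
theorem F77102 : act 7 n19659 = n19298 := d31_2 (iv F75179) D19659 (iv D19298)
def n19660 : Q := act 5 n19195
theorem D19660 : act 5 n19195 = n19660 := rfl
theorem F77103 : act 0 n19660 = n19298 := d4_1 D19660 (iv D19298) (iv F75180)
theorem F77104 : act 3 n19660 = n19196 := d22_1 D19660 (iv D19196) D19195
theorem F77105 : act 4 n19660 = n19584 := d26_1 D19660 (iv D19584) F74832 (iv F73019) (iv F75181)
def n19661 : Q := act 6 n19196
theorem D19661 : act 6 n19196 = n19661 := rfl
theorem F77106 : act 0 n19661 = n19299 := d5_1 D19661 (iv D19299) (iv F75182)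
theorem F77107 : act 2 n19661 = n19197 := d18_1 D19661 (iv D19197) (iv F75183)
theorem F77108 : act 4 n19661 = n19200 := d27_1 D19661 (iv D19200) (iv F75184)
def n19662 : Q := act 5 n19198
theorem D19662 : act 5 n19198 = n19662 := rfl
theorem F77109 : act 0 n19662 = n19199 := d4_1 D19662 (iv D19199) (iv F75187)
theorem F77110 : act 1 n19662 = n19300 := d11_1 D19662 (iv D19300) (iv F75188)
theorem F77111 : act 3 n19662 = n19586 := d22_1 D19662 (iv D19586) (iv F75189)
theorem F77112 : act 7 n19662 = n19584 := d31_2 (iv F75191) D19662 (iv D19584)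
def n19663 : Q := act 6 n19199
theorem D19663 : act 6 n19199 = n19663 := rfl
theorem F77113 : act 1 n19663 = n19200 := d12_1 D19663 (iv D19200) (iv F75192)
theorem F77114 : act 3 n19663 = n19587 := d23_1 D19663 (iv D19587) (iv F75193)
theorem F77115 : act 5 n19663 = n19636 := d30_1 D19663 (iv D19636) (iv D19160) (iv F73001) D19199
def n19664 : Q := act 6 n19205
theorem D19664 : act 6 n19205 = n19664 := rfl
theorem F77116 : act 0 n19664 = n19324 := d5_1 D19664 (iv D19324) (iv F75216)
theorem F77117 : act 3 n19664 = n19207 := d23_1 D19664 (iv D19207) (iv F75217)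
theorem F77118 : act 4 n19664 = n19534 := d27_1 D19664 (iv D19534) (iv F75218)
theorem F77119 : act 5 n19664 = n19520 := d30_1 D19664 (iv D19520) (iv D19021) (iv F73052) D19205
theorem F77120 : act 8 n19664 = n19519 := d34_2 (iv F75219) D19664 (iv D19519)
def n19665 : Q := act 6 n19206
theorem D19665 : act 6 n19206 = n19665 := rfl
theorem F77121 : act 0 n19665 = n19326 := d5_1 D19665 (iv D19326) (iv F75220)
theorem F77122 : act 1 n19665 = n19664 := d12_1 D19665 (iv D19664) (iv F75221)
theorem F77123 : act 2 n19665 = n19330 := d18_1 D19665 (iv D19330) (iv F75222)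
theorem F77124 : act 3 n19665 = n19519 := d23_1 D19665 (iv D19519) (iv F75223)
theorem F77125 : act 4 n19665 = n19208 := d27_1 D19665 (iv D19208) (iv F75224)
theorem F77126 : act 5 n19665 = n19453 := d30_1 D19665 (iv D19453) (iv D18932) (iv F73058) D19206
theorem F77127 : act 7 n19665 = n19245 := d33_2 (iv F75225) D19665 (iv D19245)
theorem F77128 : act 8 n19665 = n19207 := d34_2 (iv F75226) D19665 (iv D19207)
def n19666 : Q := act 5 n19209
theorem D19666 : act 5 n19209 = n19666 := rfl
theorem F77129 : act 0 n19666 = n19257 := d4_1 D19666 (iv D19257) (iv F75236)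
theorem F77130 : act 2 n19666 = n19594 := d17_1 D19666 (iv D19594) (iv F75237)
theorem F77131 : act 3 n19666 = n19210 := d22_1 D19666 (iv D19210) D19209
theorem F77132 : act 7 n19666 = n19446 := d31_2 (iv F75239) D19666 (iv D19446)
def n19667 : Q := act 6 n19210
theorem D19667 : act 6 n19210 = n19667 := rfl
theorem F77133 : act 0 n19667 = n19258 := d5_1 D19667 (iv D19258) (iv F75240)
theorem F77134 : act 2 n19667 = n19211 := d18_1 D19667 (iv D19211) (iv F75241)
theorem F77135 : act 7 n19667 = n19212 := d33_2 (iv F75242) D19667 (iv D19212)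
def n19668 : Q := act 5 n19213
theorem D19668 : act 5 n19213 = n19668 := rfl
theorem F77136 : act 0 n19668 = n19394 := d4_1 D19668 (iv D19394) (iv F75250)
theorem F77137 : act 1 n19668 = n19320 := d11_1 D19668 (iv D19320) (iv F75251)
theorem F77138 : act 3 n19668 = n19214 := d22_1 D19668 (iv D19214) D19213
def n19669 : Q := act 6 n19214
theorem D19669 : act 6 n19214 = n19669 := rfl
theorem F77139 : act 0 n19669 = n19396 := d5_1 D19669 (iv D19396) (iv F75254)
theorem F77140 : act 1 n19669 = n19321 := d12_1 D19669 (iv D19321) (iv F75255)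
theorem F77141 : act 2 n19669 = n19215 := d18_1 D19669 (iv D19215) (iv F75256)
theorem F77142 : act 5 n19669 = n19239 := d30_1 D19669 (iv D19239) (iv D18676) (iv F73092) D19214
theorem F77143 : act 7 n19669 = n19216 := d33_2 (iv F75257) D19669 (iv D19216)
def n19670 : Q := act 7 n19217
theorem D19670 : act 7 n19217 = n19670 := rfl
theorem F77144 : act 0 n19670 = n19403 := d6_1 D19670 (iv D19403) (iv F75267)
theorem F77145 : act 1 n19670 = n19408 := d13_1 D19670 F75979 (iv F75268)
theorem F77146 : act 3 n19670 = n19623 := d24_1 D19670 F76960 F75051 F73163 (iv F75269)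
theorem F77147 : act 4 n19670 = n19416 := d28_1 D19670 F76007 (iv F75270)
theorem F77148 : act 5 n19670 = n19241 := d31_1 D19670 (iv D19241) (iv F75271)
theorem F77149 : act 6 n19670 = n19218 := d33_1 D19670 (iv D19218) D19217
def n19671 : Q := act 8 n19218
theorem D19671 : act 8 n19218 = n19671 := rfl
theorem F77150 : act 0 n19671 = n19404 := d7_1 D19671 (iv D19404) (iv F75272)
theorem F77151 : act 1 n19671 = n19406 := d14_1 D19671 F75971 (iv F75273)
theorem F77152 : act 3 n19671 = n19621 := d25_1 D19671 F76952 (iv F75274)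
theorem F77153 : act 4 n19671 = n19411 := d29_1 D19671 F75988 (iv F75275)
theorem F77154 : act 5 n19671 = n19219 := d32_1 D19671 (iv D19219) (iv F75276)
def n19672 : Q := act 3 n19222
theorem D19672 : act 3 n19222 = n19672 := rfl
theorem F77155 : act 0 n19672 = n19235 := d2_1 D19672 (iv D19235) (iv F75291)
theorem F77156 : act 2 n19672 = n19527 := d15_1 D19672 (iv D19527) F74556 (iv F73142) (iv F75292)
theorem F77157 : act 4 n19672 = n19672 := d21_2 D19222 D19672 (iv D19672) (iv D19222) F73135
theorem F77158 : act 6 n19672 = n19389 := d23_2 (iv F75293) D19672 (iv D19389)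
theorem F77159 : act 8 n19672 = n19224 := d25_2 (iv F75295) D19672 (iv D19224)
def n19673 : Q := act 5 n19222
theorem D19673 : act 5 n19222 = n19673 := rfl
theorem F77160 : act 0 n19673 = n19236 := d4_1 D19673 (iv D19236) (iv F75291)
theorem F77161 : act 2 n19673 = n19223 := d17_1 D19673 (iv D19223) (iv F75292)
theorem F77162 : act 4 n19673 = n19550 := d26_1 D19673 (iv D19550) (iv D19065) (iv F73136) D19222
theorem F77163 : act 7 n19673 = n19461 := d31_2 (iv F75294) D19673 (iv D19461)
theorem F77164 : act 8 n19673 = n19225 := d32_2 (iv F75295) D19673 (iv D19225)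
def n19674 : Q := act 6 n19223
theorem D19674 : act 6 n19223 = n19674 := rfl
theorem F77165 : act 0 n19674 = n19237 := d5_1 D19674 (iv D19237) (iv F75296)
theorem F77166 : act 1 n19674 = n19338 := d12_1 D19674 (iv D19338) (iv F75297)
theorem F77167 : act 3 n19674 = n19529 := d23_1 D19674 (iv D19529) (iv F75298)
theorem F77168 : act 4 n19674 = n19551 := d27_1 D19674 (iv D19551) (iv F75299)
theorem F77169 : act 5 n19674 = n19391 := d30_1 D19674 (iv D19391) (iv D18864) (iv F73143) D19223
theorem F77170 : act 8 n19674 = n19226 := d34_2 (iv F75300) D19674 (iv D19226)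
def n19675 : Q := act 5 n19224
theorem D19675 : act 5 n19224 = n19675 := rfl
theorem F77171 : act 0 n19675 = n19238 := d4_1 D19675 (iv D19238) (iv F75301)
theorem F77172 : act 2 n19675 = n19668 := d17_1 D19675 (iv D19668) (iv F75302)
theorem F77173 : act 3 n19675 = n19225 := d22_1 D19675 (iv D19225) D19224
def n19676 : Q := act 6 n19225
theorem D19676 : act 6 n19225 = n19676 := rfl
theorem F77174 : act 0 n19676 = n19239 := d5_1 D19676 (iv D19239) (iv F75305)
theorem F77175 : act 2 n19676 = n19226 := d18_1 D19676 (iv D19226) (iv F75306)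
theorem F77176 : act 5 n19676 = n19396 := d30_1 D19676 (iv D19396) (iv D18867) (iv F73147) D19225
theorem F77177 : act 7 n19676 = n19227 := d33_2 (iv F75307) D19676 (iv D19227)
def n19677 : Q := act 3 n19228
theorem D19677 : act 3 n19228 = n19677 := rfl
theorem F77178 : act 0 n19677 = n19554 := d2_1 D19677 (iv D19554) (iv F75317)
theorem F77179 : act 1 n19677 = n19591 := d9_1 D19677 (iv D19591) (iv F75318)
theorem F77180 : act 2 n19677 = n19232 := d15_1 D19677 (iv D19232) F73189 (iv F73172) (iv F75319)
theorem F77181 : act 4 n19677 = n19677 := d21_2 D19228 D19677 (iv D19677) (iv D19228) F73166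
theorem F77182 : act 7 n19677 = n19443 := d24_2 (iv F75320) D19677 (iv D19443) F74029 D18937
theorem F77183 : act 8 n19677 = n19503 := d25_2 (iv F75321) D19677 (iv D19503)
def n19678 : Q := act 5 n19228
theorem D19678 : act 5 n19228 = n19678 := rfl
theorem F77184 : act 0 n19678 = n19555 := d4_1 D19678 (iv D19555) (iv F75317)
theorem F77185 : act 1 n19678 = n19592 := d11_1 D19678 (iv D19592) (iv F75318)
theorem F77186 : act 2 n19678 = n19229 := d17_1 D19678 (iv D19229) (iv F75319)
theorem F77187 : act 4 n19678 = n19507 := d26_1 D19678 (iv D19507) (iv D18996) (iv F73167) D19228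
theorem F77188 : act 7 n19678 = n19456 := d31_2 (iv F75320) D19678 (iv D19456)
theorem F77189 : act 8 n19678 = n19504 := d32_2 (iv F75321) D19678 (iv D19504)
def n19679 : Q := act 6 n19229
theorem D19679 : act 6 n19229 = n19679 := rfl
theorem F77190 : act 0 n19679 = n19556 := d5_1 D19679 (iv D19556) (iv F75322)
theorem F77191 : act 1 n19679 = n19243 := d12_1 D19679 (iv D19243) (iv F75323)
theorem F77192 : act 3 n19679 = n19234 := d23_1 D19679 (iv D19234) (iv F75324)
theorem F77193 : act 4 n19679 = n19508 := d27_1 D19679 (iv D19508) (iv F75325)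
theorem F77194 : act 7 n19679 = n19520 := d33_2 (iv F75326) D19679 (iv D19520)
theorem F77195 : act 8 n19679 = n19505 := d34_2 (iv F75327) D19679 (iv D19505)
def n19680 : Q := act 3 n19230
theorem D19680 : act 3 n19230 = n19680 := rfl
theorem F77196 : act 0 n19680 = n19549 := d2_1 D19680 (iv D19549) (iv F75328)
theorem F77197 : act 1 n19680 = n19443 := d9_1 D19680 (iv D19443) (iv F75329)
theorem F77198 : act 2 n19680 = n19503 := d15_1 D19680 (iv D19503) F74326 (iv F73184) (iv F75330)
theorem F77199 : act 4 n19680 = n19680 := d21_2 D19230 D19680 (iv D19680) (iv D19230) F73177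
theorem F77200 : act 6 n19680 = n19677 := d23_2 (iv F75331) D19680 (iv D19677)
theorem F77201 : act 7 n19680 = n19591 := d24_2 (iv F75332) D19680 (iv D19591) F74886 (iv F74067)
theorem F77202 : act 8 n19680 = n19232 := d25_2 (iv F75333) D19680 (iv D19232)
def n19681 : Q := act 5 n19230
theorem D19681 : act 5 n19230 = n19681 := rfl
theorem F77203 : act 0 n19681 = n19550 := d4_1 D19681 (iv D19550) (iv F75328)
theorem F77204 : act 1 n19681 = n19444 := d11_1 D19681 (iv D19444) (iv F75329)
theorem F77205 : act 2 n19681 = n19231 := d17_1 D19681 (iv D19231) (iv F75330)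
theorem F77206 : act 4 n19681 = n19236 := d26_1 D19681 (iv D19236) (iv D18673) (iv F73178) D19230
theorem F77207 : act 7 n19681 = n19455 := d31_2 (iv F75332) D19681 (iv D19455)
theorem F77208 : act 8 n19681 = n19233 := d32_2 (iv F75333) D19681 (iv D19233)
def n19682 : Q := act 6 n19231
theorem D19682 : act 6 n19231 = n19682 := rfl
theorem F77209 : act 0 n19682 = n19551 := d5_1 D19682 (iv D19551) (iv F75334)
theorem F77210 : act 1 n19682 = n19245 := d12_1 D19682 (iv D19245) (iv F75335)
theorem F77211 : act 3 n19682 = n19505 := d23_1 D19682 (iv D19505) (iv F75336)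
theorem F77212 : act 4 n19682 = n19237 := d27_1 D19682 (iv D19237) (iv F75337)
theorem F77213 : act 5 n19682 = n19679 := d30_1 D19682 (iv D19679) (iv D19229) (iv F73185) D19231
theorem F77214 : act 7 n19682 = n19664 := d33_2 (iv F75338) D19682 (iv D19664)
theorem F77215 : act 8 n19682 = n19234 := d34_2 (iv F75339) D19682 (iv D19234)
def n19683 : Q := act 5 n19232
theorem D19683 : act 5 n19232 = n19683 := rfl
theorem F77216 : act 1 n19683 = n19446 := d11_1 D19683 (iv D19446) (iv F75340)
theorem F77217 : act 3 n19683 = n19233 := d22_1 D19683 (iv D19233) D19232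
def n19684 : Q := act 6 n19233
theorem D19684 : act 6 n19233 = n19684 := rfl
theorem F77218 : act 1 n19684 = n19447 := d12_1 D19684 (iv D19447) (iv F75342)
theorem F77219 : act 2 n19684 = n19234 := d18_1 D19684 (iv D19234) (iv F75343)
theorem F77220 : act 4 n19684 = n19239 := d27_1 D19684 (iv D19239) (iv F75344)
theorem F77221 : act 7 n19684 = n19240 := d33_2 (iv F75345) D19684 (iv D19240)
def n19685 : Q := act 5 n19235
theorem D19685 : act 5 n19235 = n19685 := rfl
theorem F77222 : act 1 n19685 = n19448 := d11_1 D19685 (iv D19448) (iv F75349)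
theorem F77223 : act 3 n19685 = n19236 := d22_1 D19685 (iv D19236) D19235
theorem F77224 : act 8 n19685 = n19238 := d32_2 (iv F75351) D19685 (iv D19238)
def n19686 : Q := act 7 n19235
theorem D19686 : act 7 n19235 = n19686 := rfl
theorem F77225 : act 1 n19686 = n19449 := d13_1 D19686 (iv D19449) (iv F75349)
theorem F77226 : act 3 n19686 = n19463 := d24_1 D19686 (iv D19463) (iv D18944) (iv F73196) D19235
theorem F77227 : act 4 n19686 = n19686 := d28_1 D19686 (iv D19686) F75350
def n19687 : Q := act 6 n19236
theorem D19687 : act 6 n19236 = n19687 := rfl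
theorem F77228 : act 1 n19687 = n19450 := d12_1 D19687 (iv D19450) (iv F75352)
theorem F77229 : act 2 n19687 = n19237 := d18_1 D19687 (iv D19237) (iv F75353)
theorem F77230 : act 7 n19687 = n19464 := d33_2 (iv F75354) D19687 (iv D19464)
theorem F77231 : act 8 n19687 = n19239 := d34_2 (iv F75355) D19687 (iv D19239)
def n19688 : Q := act 4 n19238
theorem D19688 : act 4 n19238 = n19688 := rfl
theorem F77232 : act 1 n19688 = n19451 := d10_1 D19688 (iv D19451) (iv F75358)
theorem F77233 : act 5 n19688 = n19688 := d26_2 D19238 D19688 (iv D19688) (iv D19238) F73201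
def n19689 : Q := act 6 n19238
theorem D19689 : act 6 n19238 = n19689 := rfl
theorem F77234 : act 1 n19689 = n19452 := d12_1 D19689 (iv D19452) (iv F75358)
theorem F77235 : act 3 n19689 = n19239 := d23_1 D19689 (iv D19239) (iv F75359)
def n19690 : Q := act 8 n19241
theorem D19690 : act 8 n19241 = n19690 := rfl
theorem F77236 : act 6 n19690 = n19242 := d34_1 D19690 (iv D19242) (iv F75367)
def n19691 : Q := act 6 n19247
theorem D19691 : act 6 n19247 = n19691 := rfl
theorem F77237 : act 0 n19691 = n19276 := d5_1 D19691 (iv D19276) (iv F75386)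
theorem F77238 : act 1 n19691 = n19426 := d12_1 D19691 (iv D19426) (iv F75387)
theorem F77239 : act 3 n19691 = n19248 := d23_1 D19691 (iv D19248) (iv F75388)
theorem F77240 : act 4 n19691 = n19266 := d27_1 D19691 (iv D19266) (iv F75389)
theorem F77241 : act 5 n19691 = n19291 := d30_1 D19691 (iv D19291) (iv D18740) (iv F73240) D19247
theorem F77242 : act 8 n19691 = n19249 := d34_2 (iv F75390) D19691 (iv D19249)
def n19692 : Q := act 5 n19251
theorem D19692 : act 5 n19251 = n19692 := rfl
theorem F77243 : act 3 n19692 = n19252 := d22_1 D19692 (iv D19252) D19251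
theorem F77244 : act 8 n19692 = n19666 := d32_2 (iv F75410) D19692 (iv D19666)
def n19693 : Q := act 6 n19252
theorem D19693 : act 6 n19252 = n19693 := rfl
theorem F77245 : act 2 n19693 = n19253 := d18_1 D19693 (iv D19253) (iv F75411)
theorem F77246 : act 4 n19693 = n19258 := d27_1 D19693 (iv D19258) (iv F75412)
theorem F77247 : act 7 n19693 = n19259 := d33_2 (iv F75413) D19693 (iv D19259)
theorem F77248 : act 8 n19693 = n19667 := d34_2 (iv F75414) D19693 (iv D19667)
def n19694 : Q := act 5 n19254
theorem D19694 : act 5 n19254 = n19694 := rfl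
theorem F77249 : act 0 n19694 = n19692 := d4_1 D19694 (iv D19692) (iv F75419)
theorem F77250 : act 1 n19694 = n19644 := d11_1 D19694 (iv D19644) (iv F75420)
theorem F77251 : act 2 n19694 = n19610 := d17_1 D19694 (iv D19610) (iv F75421)
theorem F77252 : act 3 n19694 = n19255 := d22_1 D19694 (iv D19255) D19254
theorem F77253 : act 7 n19694 = n19559 := d31_2 (iv F75424) D19694 (iv D19559)
theorem F77254 : act 8 n19694 = n19257 := d32_2 (iv F75425) D19694 (iv D19257)
def n19695 : Q := act 6 n19255
theorem D19695 : act 6 n19255 = n19695 := rfl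
theorem F77255 : act 0 n19695 = n19693 := d5_1 D19695 (iv D19693) (iv F75426)
theorem F77256 : act 1 n19695 = n19645 := d12_1 D19695 (iv D19645) (iv F75427)
theorem F77257 : act 2 n19695 = n19256 := d18_1 D19695 (iv D19256) (iv F75428)
theorem F77258 : act 4 n19695 = n19667 := d27_1 D19695 (iv D19667) (iv F75429)
theorem F77259 : act 5 n19695 = n19481 := d30_1 D19695 (iv D19481) (iv D18967) (iv F73295) D19255
theorem F77260 : act 7 n19695 = n19494 := d33_2 (iv F75430) D19695 (iv D19494)
theorem F77261 : act 8 n19695 = n19258 := d34_2 (iv F75431) D19695 (iv D19258)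
def n19696 : Q := act 4 n19257
theorem D19696 : act 4 n19257 = n19696 := rfl
theorem F77262 : act 2 n19696 = n19615 := d16_1 D19696 (iv D19615) (iv F75439)
theorem F77263 : act 5 n19696 = n19696 := d26_2 D19257 D19696 (iv D19696) (iv D19257) F73305
def n19697 : Q := act 6 n19257
theorem D19697 : act 6 n19257 = n19697 := rfl
theorem F77264 : act 2 n19697 = n19616 := d18_1 D19697 (iv D19616) (iv F75439)
theorem F77265 : act 3 n19697 = n19258 := d23_1 D19697 (iv D19258) (iv F75440)
def n19698 : Q := act 5 n19262
theorem D19698 : act 5 n19262 = n19698 := rfl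
theorem F77266 : act 0 n19698 = n19263 := d4_1 D19698 (iv D19263) (iv F75456)
theorem F77267 : act 1 n19698 = n19633 := d11_1 D19698 (iv D19633) (iv F75457)
theorem F77268 : act 2 n19698 = n19438 := d17_1 D19698 (iv D19438) (iv F75458)
theorem F77269 : act 3 n19698 = n19522 := d22_1 D19698 (iv D19522) (iv F75459)
theorem F77270 : act 4 n19698 = n19467 := d26_1 D19698 (iv D19467) F74111 (iv F73337) D19262
def n19699 : Q := act 6 n19263
theorem D19699 : act 6 n19263 = n19699 := rfl
theorem F77271 : act 1 n19699 = n19264 := d12_1 D19699 (iv D19264) (iv F75461)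
theorem F77272 : act 2 n19699 = n19439 := d18_1 D19699 (iv D19439) (iv F75462)
theorem F77273 : act 3 n19699 = n19523 := d23_1 D19699 (iv D19523) (iv F75463)
theorem F77274 : act 4 n19699 = n19469 := d27_1 D19699 (iv D19469) (iv F75464)
theorem F77275 : act 5 n19699 = n19301 := d30_1 D19699 (iv D19301) (iv D18753) (iv F73342) D19263
def n19700 : Q := act 6 n19265
theorem D19700 : act 6 n19265 = n19700 := rfl
theorem F77276 : act 0 n19700 = n19275 := d5_1 D19700 (iv D19275) (iv F75470)
theorem F77277 : act 3 n19700 = n19308 := d23_1 D19700 (iv D19308) (iv F75471)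
theorem F77278 : act 5 n19700 = n19366 := d30_1 D19700 (iv D19366) (iv D18839) (iv F73352) D19265
theorem F77279 : act 7 n19700 = n19266 := d33_2 (iv F75472) D19700 (iv D19266)
def n19701 : Q := act 6 n19267
theorem D19701 : act 6 n19267 = n19701 := rfl
theorem F77280 : act 1 n19701 = n19287 := d12_1 D19701 (iv D19287) (iv F75477)
theorem F77281 : act 4 n19701 = n19275 := d27_1 D19701 (iv D19275) (iv F75478)
theorem F77282 : act 5 n19701 = n19648 := d30_1 D19701 (iv D19648) (iv D19183) (iv F73363) D19267
theorem F77283 : act 7 n19701 = n19276 := d33_2 (iv F75479) D19701 (iv D19276)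
theorem F77284 : act 8 n19701 = n19700 := d34_2 (iv F75480) D19701 (iv D19700)
def n19702 : Q := act 0 n19268
theorem D19702 : act 0 n19268 = n19702 := rfl
theorem F77285 : act 1 n19702 = n19471 := d0_2 D19268 D19702 F76205 F74137 (iv F73366)
theorem F77286 : act 2 n19702 = n19288 := d1_2 (iv F75481) D19702 (iv D19288)
theorem F77287 : act 3 n19702 = n19702 := d2_2 F75482 D19702 (iv D19702)
theorem F77288 : act 5 n19702 = n19638 := d4_2 (iv F75483) D19702 F77014
theorem F77289 : act 6 n19702 = n19422 := d5_2 (iv F75484) D19702 (iv D19422)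
theorem F77290 : act 7 n19702 = n19418 := d6_2 (iv F75485) D19702 F76014
theorem F77291 : act 8 n19702 = n19271 := d7_2 (iv F75486) D19702 (iv D19271)
def n19703 : Q := act 4 n19268
theorem D19703 : act 4 n19268 = n19703 := rfl
theorem F77292 : act 1 n19703 = n19269 := d10_1 D19703 (iv D19269) D19268
theorem F77293 : act 2 n19703 = n19289 := d16_1 D19703 (iv D19289) (iv F75481)
theorem F77294 : act 6 n19703 = n19423 := d27_2 (iv F75484) D19703 (iv D19423)
theorem F77295 : act 7 n19703 = n19410 := d28_2 (iv F75485) D19703 F75984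
theorem F77296 : act 8 n19703 = n19272 := d29_2 (iv F75486) D19703 (iv D19272)
def n19704 : Q := act 3 n19269
theorem D19704 : act 3 n19269 = n19704 := rfl
theorem F77297 : act 0 n19704 = n19449 := d2_1 D19704 F76125 (iv F75487)
theorem F77298 : act 2 n19704 = n19317 := d15_1 D19704 (iv D19317) F73525 (iv F73374) (iv F75488)
theorem F77299 : act 4 n19704 = n19704 := d21_2 D19269 D19704 (iv D19704) (iv D19269) F73367
theorem F77300 : act 6 n19704 = n19424 := d23_2 (iv F75489) D19704 (iv D19424)
theorem F77301 : act 7 n19704 = n19380 := d24_2 (iv F75490) D19704 (iv D19380) F73819 D18884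
theorem F77302 : act 8 n19704 = n19273 := d25_2 (iv F75491) D19704 (iv D19273)
def n19705 : Q := act 5 n19269
theorem D19705 : act 5 n19269 = n19705 := rfl
theorem F77303 : act 0 n19705 = n19466 := d4_1 D19705 F76190 (iv F75487)
theorem F77304 : act 2 n19705 = n19270 := d17_1 D19705 (iv D19270) (iv F75488)
theorem F77305 : act 4 n19705 = n19631 := d26_1 D19705 F76989 F75028 (iv F73368) D19269
theorem F77306 : act 7 n19705 = n19412 := d31_2 (iv F75490) D19705 (iv D19412)
theorem F77307 : act 8 n19705 = n19274 := d32_2 (iv F75491) D19705 (iv D19274)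
def n19706 : Q := act 6 n19270
theorem D19706 : act 6 n19270 = n19706 := rfl
theorem F77308 : act 0 n19706 = n19701 := d5_1 D19706 (iv D19701) (iv F75492)
theorem F77309 : act 1 n19706 = n19291 := d12_1 D19706 (iv D19291) (iv F75493)
theorem F77310 : act 3 n19706 = n19319 := d23_1 D19706 (iv D19319) (iv F75494)
theorem F77311 : act 4 n19706 = n19700 := d27_1 D19706 (iv D19700) (iv F75495)
theorem F77312 : act 5 n19706 = n19426 := d30_1 D19706 (iv D19426) (iv D18903) (iv F73375) D19270
theorem F77313 : act 7 n19706 = n19691 := d33_2 (iv F75496) D19706 (iv D19691)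
theorem F77314 : act 8 n19706 = n19275 := d34_2 (iv F75497) D19706 (iv D19275)
def n19707 : Q := act 4 n19271
theorem D19707 : act 4 n19271 = n19707 := rfl
theorem F77315 : act 0 n19707 = n19272 := d3_1 D19707 (iv D19272) D19271
theorem F77316 : act 2 n19707 = n19292 := d16_1 D19707 (iv D19292) (iv F75498)
theorem F77317 : act 6 n19707 = n19427 := d27_2 (iv F75500) D19707 (iv D19427)
theorem F77318 : act 7 n19707 = n19277 := d28_2 (iv F75501) D19707 (iv D19277)
def n19708 : Q := act 3 n19272
theorem D19708 : act 3 n19272 = n19708 := rfl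
theorem F77319 : act 1 n19708 = n19273 := d9_1 D19708 (iv D19273) (iv F75502)
theorem F77320 : act 2 n19708 = n19606 := d15_1 D19708 F76895 F74985 F73627 (iv F75503)
theorem F77321 : act 4 n19708 = n19708 := d21_2 D19272 D19708 (iv D19708) (iv D19272) F73379
theorem F77322 : act 6 n19708 = n19428 := d23_2 (iv F75504) D19708 (iv D19428)
theorem F77323 : act 7 n19708 = n19596 := d24_2 (iv F75505) D19708 (iv D19596) F74915 F73650
def n19709 : Q := act 5 n19272
theorem D19709 : act 5 n19272 = n19709 := rfl
theorem F77324 : act 1 n19709 = n19274 := d11_1 D19709 (iv D19274) (iv F75502)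
theorem F77325 : act 2 n19709 = n19293 := d17_1 D19709 (iv D19293) (iv F75503)
theorem F77326 : act 7 n19709 = n19278 := d31_2 (iv F75505) D19709 (iv D19278)
def n19710 : Q := act 5 n19273
theorem D19710 : act 5 n19273 = n19710 := rfl
theorem F77327 : act 2 n19710 = n19320 := d17_1 D19710 (iv D19320) (iv F75506)
theorem F77328 : act 3 n19710 = n19274 := d22_1 D19710 (iv D19274) D19273
def n19711 : Q := act 6 n19274
theorem D19711 : act 6 n19274 = n19711 := rfl
theorem F77329 : act 2 n19711 = n19275 := d18_1 D19711 (iv D19275) (iv F75509)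
theorem F77330 : act 5 n19711 = n19431 := d30_1 D19711 (iv D19431) (iv D18907) (iv F73383) D19274
theorem F77331 : act 7 n19711 = n19279 := d33_2 (iv F75510) D19711 (iv D19279)
def n19712 : Q := act 5 n19277
theorem D19712 : act 5 n19277 = n19712 := rfl
theorem F77332 : act 0 n19712 = n19278 := d4_1 D19712 (iv D19278) (iv F75519)
theorem F77333 : act 2 n19712 = n19300 := d17_1 D19712 (iv D19300) (iv F75520)
theorem F77334 : act 8 n19712 = n19698 := d32_2 (iv F75522) D19712 (iv D19698)
def n19713 : Q := act 6 n19278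
theorem D19713 : act 6 n19278 = n19713 := rfl
theorem F77335 : act 1 n19713 = n19279 := d12_1 D19713 (iv D19279) (iv F75523)
theorem F77336 : act 2 n19713 = n19301 := d18_1 D19713 (iv D19301) (iv F75524)
theorem F77337 : act 5 n19713 = n19439 := d30_1 D19713 (iv D19439) (iv D18917) (iv F73398) D19278
theorem F77338 : act 8 n19713 = n19699 := d34_2 (iv F75525) D19713 (iv D19699)
def n19714 : Q := act 6 n19280
theorem D19714 : act 6 n19280 = n19714 := rfl
theorem F77339 : act 0 n19714 = n19534 := d5_1 D19714 (iv D19534) (iv F75529)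
theorem F77340 : act 3 n19714 = n19287 := d23_1 D19714 (iv D19287) (iv F75530)
theorem F77341 : act 4 n19714 = n19324 := d27_1 D19714 (iv D19324) (iv F75531)
theorem F77342 : act 5 n19714 = n19489 := d30_1 D19714 (iv D19489) (iv D18974) (iv F73408) D19280
theorem F77343 : act 7 n19714 = n19674 := d33_2 (iv F75532) D19714 (iv D19674)
theorem F77344 : act 8 n19714 = n19582 := d34_2 (iv F75533) D19714 (iv D19582)
def n19715 : Q := act 4 n19281
theorem D19715 : act 4 n19281 = n19715 := rfl
theorem F77345 : act 1 n19715 = n19282 := d10_1 D19715 (iv D19282) D19281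
theorem F77346 : act 2 n19715 = n19628 := d16_1 D19715 F76977 (iv F75534)
theorem F77347 : act 6 n19715 = n19368 := d27_2 (iv F75537) D19715 (iv D19368)
theorem F77348 : act 7 n19715 = n19626 := d28_2 (iv F75538) D19715 F76970
theorem F77349 : act 8 n19715 = n19284 := d29_2 (iv F75539) D19715 (iv D19284)
def n19716 : Q := act 5 n19282
theorem D19716 : act 5 n19282 = n19716 := rfl
theorem F77350 : act 0 n19716 = n19432 := d4_1 D19716 (iv D19432) (iv F75540)
theorem F77351 : act 2 n19716 = n19283 := d17_1 D19716 (iv D19283) (iv F75541)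
theorem F77352 : act 4 n19716 = n19290 := d26_1 D19716 (iv D19290) (iv D18739) (iv F73413) D19282
theorem F77353 : act 7 n19716 = n19642 := d31_2 (iv F75543) D19716 (iv D19642)
theorem F77354 : act 8 n19716 = n19286 := d32_2 (iv F75544) D19716 (iv D19286)
def n19717 : Q := act 6 n19283
theorem D19717 : act 6 n19283 = n19717 := rfl
theorem F77355 : act 0 n19717 = n19433 := d5_1 D19717 (iv D19433) (iv F75545)
theorem F77356 : act 1 n19717 = n19700 := d12_1 D19717 (iv D19700) (iv F75546)
theorem F77357 : act 3 n19717 = n19582 := d23_1 D19717 (iv D19582) (iv F75547)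
theorem F77358 : act 4 n19717 = n19291 := d27_1 D19717 (iv D19291) (iv F75548)
theorem F77359 : act 5 n19717 = n19371 := d30_1 D19717 (iv D19371) (iv D18842) (iv F73420) D19283
theorem F77360 : act 7 n19717 = n19643 := d33_2 (iv F75549) D19717 (iv D19643)
theorem F77361 : act 8 n19717 = n19287 := d34_2 (iv F75550) D19717 (iv D19287)
def n19718 : Q := act 5 n19284
theorem D19718 : act 5 n19284 = n19718 := rfl
theorem F77362 : act 1 n19718 = n19286 := d11_1 D19718 (iv D19286) (iv F75551)
theorem F77363 : act 4 n19718 = n19293 := d26_1 D19718 (iv D19293) (iv D18742) (iv F73424) D19284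
theorem F77364 : act 7 n19718 = n19297 := d31_2 (iv F75553) D19718 (iv D19297)
def n19719 : Q := act 5 n19285
theorem D19719 : act 5 n19285 = n19719 := rfl
theorem F77365 : act 0 n19719 = n19297 := d4_1 D19719 (iv D19297) (iv F75554)
theorem F77366 : act 3 n19719 = n19286 := d22_1 D19719 (iv D19286) D19285
theorem F77367 : act 4 n19719 = n19300 := d26_1 D19719 (iv D19300) (iv D18752) (iv F73455) (iv F75555)
def n19720 : Q := act 6 n19286
theorem D19720 : act 6 n19286 = n19720 := rfl
theorem F77368 : act 2 n19720 = n19287 := d18_1 D19720 (iv D19287) (iv F75557)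
theorem F77369 : act 4 n19720 = n19294 := d27_1 D19720 (iv D19294) (iv F75558)
theorem F77370 : act 5 n19720 = n19661 := d30_1 D19720 (iv D19661) (iv D19196) (iv F73428) D19286
theorem F77371 : act 7 n19720 = n19299 := d33_2 (iv F75559) D19720 (iv D19299)
def n19721 : Q := act 4 n19288
theorem D19721 : act 4 n19288 = n19721 := rfl
theorem F77372 : act 0 n19721 = n19289 := d3_1 D19721 (iv D19289) D19288
theorem F77373 : act 1 n19721 = n19487 := d10_1 D19721 F76295 (iv F75563)
theorem F77374 : act 3 n19721 = n19486 := d21_1 D19721 (iv D19486) F74200 (iv F73738) (iv F75564)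
theorem F77375 : act 8 n19721 = n19292 := d29_2 (iv F75565) D19721 (iv D19292)
def n19722 : Q := act 5 n19289
theorem D19722 : act 5 n19289 = n19722 := rfl
theorem F77376 : act 1 n19722 = n19290 := d11_1 D19722 (iv D19290) (iv F75566)
theorem F77377 : act 8 n19722 = n19293 := d32_2 (iv F75567) D19722 (iv D19293)
def n19723 : Q := act 6 n19290
theorem D19723 : act 6 n19290 = n19723 := rfl
theorem F77378 : act 2 n19723 = n19291 := d18_1 D19723 (iv D19291) (iv F75568)
theorem F77379 : act 8 n19723 = n19294 := d34_2 (iv F75569) D19723 (iv D19294)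
def n19724 : Q := act 5 n19292
theorem D19724 : act 5 n19292 = n19724 := rfl
theorem F77380 : act 0 n19724 = n19293 := d4_1 D19724 (iv D19293) (iv F75572)
theorem F77381 : act 1 n19724 = n19584 := d11_1 D19724 (iv D19584) (iv F75573)
theorem F77382 : act 3 n19724 = n19583 := d22_1 D19724 (iv D19583) (iv F75574)
theorem F77383 : act 7 n19724 = n19300 := d31_2 (iv F75575) D19724 (iv D19300)
def n19725 : Q := act 6 n19293
theorem D19725 : act 6 n19293 = n19725 := rfl
theorem F77384 : act 1 n19725 = n19294 := d12_1 D19725 (iv D19294) (iv F75576)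
theorem F77385 : act 7 n19725 = n19301 := d33_2 (iv F75577) D19725 (iv D19301)
def n19726 : Q := act 6 n19295
theorem D19726 : act 6 n19295 = n19726 := rfl
theorem F77386 : act 0 n19726 = n19720 := d5_1 D19726 (iv D19720) (iv F75580)
theorem F77387 : act 2 n19726 = n19296 := d18_1 D19726 (iv D19296) (iv F75581)
theorem F77388 : act 4 n19726 = n19352 := d27_1 D19726 (iv D19352) (iv F75582)
theorem F77389 : act 5 n19726 = n19299 := d30_1 D19726 (iv D19299) (iv D18750) (iv F73449) D19295
theorem F77390 : act 7 n19726 = n19661 := d33_2 (iv F75583) D19726 (iv D19661)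
def n19727 : Q := act 6 n19297
theorem D19727 : act 6 n19297 = n19727 := rfl
theorem F77391 : act 1 n19727 = n19299 := d12_1 D19727 (iv D19299) (iv F75588)
theorem F77392 : act 3 n19727 = n19726 := d23_1 D19727 (iv D19726) (iv F75589)
theorem F77393 : act 4 n19727 = n19301 := d27_1 D19727 (iv D19301) (iv F75590)
def n19728 : Q := act 6 n19298
theorem D19728 : act 6 n19298 = n19728 := rfl
theorem F77394 : act 1 n19728 = n19726 := d12_1 D19728 (iv D19726) (iv F75591)
theorem F77395 : act 3 n19728 = n19299 := d23_1 D19728 (iv D19299) (iv F75592)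
theorem F77396 : act 5 n19728 = n19727 := d30_1 D19728 (iv D19727) (iv D19297) (iv F73461) D19298
def n19729 : Q := act 6 n19300
theorem D19729 : act 6 n19300 = n19729 := rfl
theorem F77397 : act 0 n19729 = n19301 := d5_1 D19729 (iv D19301) (iv F75595)
def n19730 : Q := act 4 n19302
theorem D19730 : act 4 n19302 = n19730 := rfl
theorem F77398 : act 0 n19730 = n19388 := d3_1 D19730 (iv D19388) (iv F75597)
theorem F77399 : act 1 n19730 = n19303 := d10_1 D19730 (iv D19303) D19302
theorem F77400 : act 2 n19730 = n19409 := d16_1 D19730 (iv D19409) (iv F75598)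
theorem F77401 : act 6 n19730 = n19379 := d27_2 (iv F75601) D19730 (iv D19379)
theorem F77402 : act 7 n19730 = n19336 := d28_2 (iv F75602) D19730 (iv D19336)
theorem F77403 : act 8 n19730 = n19305 := d29_2 (iv F75603) D19730 (iv D19305)
def n19731 : Q := act 3 n19303
theorem D19731 : act 3 n19303 = n19731 := rfl
theorem F77404 : act 0 n19731 = n19317 := d2_1 D19731 (iv D19317) (iv F75604)
theorem F77405 : act 2 n19731 = n19449 := d15_1 D19731 F76125 F74106 (iv F73475) (iv F75605)
theorem F77406 : act 4 n19731 = n19731 := d21_2 D19303 D19731 (iv D19731) (iv D19303) F73469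
theorem F77407 : act 6 n19731 = n19380 := d23_2 (iv F75606) D19731 (iv D19380)
theorem F77408 : act 7 n19731 = n19424 := d24_2 (iv F75607) D19731 (iv D19424) F73966 (iv F73620)
theorem F77409 : act 8 n19731 = n19306 := d25_2 (iv F75608) D19731 (iv D19306)
def n19732 : Q := act 5 n19303
theorem D19732 : act 5 n19303 = n19732 := rfl
theorem F77410 : act 0 n19732 = n19318 := d4_1 D19732 (iv D19318) (iv F75604)
theorem F77411 : act 2 n19732 = n19304 := d17_1 D19732 (iv D19304) (iv F75605)
theorem F77412 : act 7 n19732 = n19337 := d31_2 (iv F75607) D19732 (iv D19337)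
theorem F77413 : act 8 n19732 = n19307 := d32_2 (iv F75608) D19732 (iv D19307)
def n19733 : Q := act 6 n19304
theorem D19733 : act 6 n19304 = n19733 := rfl
theorem F77414 : act 0 n19733 = n19319 := d5_1 D19733 (iv D19319) (iv F75609)
theorem F77415 : act 1 n19733 = n19714 := d12_1 D19733 (iv D19714) (iv F75610)
theorem F77416 : act 3 n19733 = n19701 := d23_1 D19733 (iv D19701) (iv F75611)
theorem F77417 : act 5 n19733 = n19382 := d30_1 D19733 (iv D19382) (iv D18855) (iv F73476) D19304
theorem F77418 : act 7 n19733 = n19338 := d33_2 (iv F75612) D19733 (iv D19338)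
theorem F77419 : act 8 n19733 = n19308 := d34_2 (iv F75613) D19733 (iv D19308)
def n19734 : Q := act 3 n19305
theorem D19734 : act 3 n19305 = n19734 := rfl
theorem F77420 : act 0 n19734 = n19392 := d2_1 D19734 (iv D19392) (iv F75614)
theorem F77421 : act 1 n19734 = n19306 := d9_1 D19734 (iv D19306) (iv F75615)
theorem F77422 : act 4 n19734 = n19734 := d21_2 D19305 D19734 (iv D19734) (iv D19305) F73481
theorem F77423 : act 6 n19734 = n19383 := d23_2 (iv F75617) D19734 (iv D19383)
theorem F77424 : act 7 n19734 = n19314 := d24_2 (iv F75618) D19734 (iv D19314) F73521 (iv F73494)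
def n19735 : Q := act 5 n19305
theorem D19735 : act 5 n19305 = n19735 := rfl
theorem F77425 : act 0 n19735 = n19393 := d4_1 D19735 (iv D19393) (iv F75614)
theorem F77426 : act 1 n19735 = n19307 := d11_1 D19735 (iv D19307) (iv F75615)
theorem F77427 : act 2 n19735 = n19402 := d17_1 D19735 F75956 (iv F75616)
theorem F77428 : act 4 n19735 = n19399 := d26_1 D19735 F75946 F73861 (iv F73482) D19305
theorem F77429 : act 7 n19735 = n19309 := d31_2 (iv F75618) D19735 (iv D19309)
def n19736 : Q := act 5 n19306
theorem D19736 : act 5 n19306 = n19736 := rfl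
theorem F77430 : act 0 n19736 = n19320 := d4_1 D19736 (iv D19320) (iv F75619)
theorem F77431 : act 3 n19736 = n19307 := d22_1 D19736 (iv D19307) D19306
def n19737 : Q := act 6 n19307
theorem D19737 : act 6 n19307 = n19737 := rfl
theorem F77432 : act 0 n19737 = n19321 := d5_1 D19737 (iv D19321) (iv F75622)
theorem F77433 : act 2 n19737 = n19308 := d18_1 D19737 (iv D19308) (iv F75623)
theorem F77434 : act 5 n19737 = n19386 := d30_1 D19737 (iv D19386) (iv D18858) (iv F73487) D19307
theorem F77435 : act 7 n19737 = n19310 := d33_2 (iv F75624) D19737 (iv D19310)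
def n19738 : Q := act 6 n19309
theorem D19738 : act 6 n19309 = n19738 := rfl
theorem F77436 : act 0 n19738 = n19397 := d5_1 D19738 (iv D19397) (iv F75628)
theorem F77437 : act 1 n19738 = n19310 := d12_1 D19738 (iv D19310) (iv F75629)
theorem F77438 : act 2 n19738 = n19401 := d18_1 D19738 (iv D19401) (iv F75630)
theorem F77439 : act 3 n19738 = n19322 := d23_1 D19738 (iv D19322) (iv F75631)
theorem F77440 : act 4 n19738 = n19398 := d27_1 D19738 (iv D19398) (iv F75632)
theorem F77441 : act 5 n19738 = n19387 := d30_1 D19738 (iv D19387) (iv D18860) (iv F73495) D19309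
theorem F77442 : act 8 n19738 = n19342 := d34_2 (iv F75633) D19738 (iv D19342)
def n19739 : Q := act 3 n19311
theorem D19739 : act 3 n19311 = n19739 := rfl
theorem F77443 : act 0 n19739 = n19530 := d2_1 D19739 (iv D19530) (iv F75638)
theorem F77444 : act 2 n19739 = n19314 := d15_1 D19739 (iv D19314) F73520 (iv F73511) (iv F75639)
theorem F77445 : act 4 n19739 = n19739 := d21_2 D19311 D19739 (iv D19739) (iv D19311) F73505
theorem F77446 : act 6 n19739 = n19602 := d23_2 (iv F75640) D19739 (iv D19602)
theorem F77447 : act 8 n19739 = n19599 := d25_2 (iv F75642) D19739 (iv D19599)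
def n19740 : Q := act 5 n19311
theorem D19740 : act 5 n19311 = n19740 := rfl
theorem F77448 : act 0 n19740 = n19531 := d4_1 D19740 (iv D19531) (iv F75638)
theorem F77449 : act 2 n19740 = n19312 := d17_1 D19740 (iv D19312) (iv F75639)
theorem F77450 : act 4 n19740 = n19732 := d26_1 D19740 (iv D19732) (iv D19303) (iv F73506) D19311
theorem F77451 : act 7 n19740 = n19538 := d31_2 (iv F75641) D19740 (iv D19538)
theorem F77452 : act 8 n19740 = n19600 := d32_2 (iv F75642) D19740 (iv D19600)
def n19741 : Q := act 6 n19312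
theorem D19741 : act 6 n19312 = n19741 := rfl
theorem F77453 : act 1 n19741 = n19324 := d12_1 D19741 (iv D19324) (iv F75643)
theorem F77454 : act 3 n19741 = n19316 := d23_1 D19741 (iv D19316) (iv F75644)
theorem F77455 : act 4 n19741 = n19733 := d27_1 D19741 (iv D19733) (iv F75645)
theorem F77456 : act 5 n19741 = n19604 := d30_1 D19741 (iv D19604) (iv D19126) (iv F73512) D19312
theorem F77457 : act 8 n19741 = n19601 := d34_2 (iv F75646) D19741 (iv D19601)
def n19742 : Q := act 6 n19313
theorem D19742 : act 6 n19313 = n19742 := rfl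
theorem F77458 : act 0 n19742 = n19741 := d5_1 D19742 (iv D19741) (iv F75647)
theorem F77459 : act 1 n19742 = n19326 := d12_1 D19742 (iv D19326) (iv F75648)
theorem F77460 : act 3 n19742 = n19601 := d23_1 D19742 (iv D19601) (iv F75649)
theorem F77461 : act 4 n19742 = n19319 := d27_1 D19742 (iv D19319) (iv F75650)
theorem F77462 : act 5 n19742 = n19598 := d30_1 D19742 (iv D19598) (iv D19122) (iv F73517) D19313
theorem F77463 : act 7 n19742 = n19346 := d33_2 (iv F75651) D19742 (iv D19346)
theorem F77464 : act 8 n19742 = n19316 := d34_2 (iv F75652) D19742 (iv D19316)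
def n19743 : Q := act 5 n19314
theorem D19743 : act 5 n19314 = n19743 := rfl
theorem F77465 : act 3 n19743 = n19315 := d22_1 D19743 (iv D19315) D19314
def n19744 : Q := act 6 n19315
theorem D19744 : act 6 n19315 = n19744 := rfl
theorem F77466 : act 2 n19744 = n19316 := d18_1 D19744 (iv D19316) (iv F75654)
theorem F77467 : act 4 n19744 = n19321 := d27_1 D19744 (iv D19321) (iv F75655)
theorem F77468 : act 7 n19744 = n19322 := d33_2 (iv F75656) D19744 (iv D19322)
def n19745 : Q := act 5 n19317
theorem D19745 : act 5 n19317 = n19745 := rfl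
theorem F77469 : act 3 n19745 = n19318 := d22_1 D19745 (iv D19318) D19317
theorem F77470 : act 8 n19745 = n19320 := d32_2 (iv F75662) D19745 (iv D19320)
def n19746 : Q := act 6 n19318
theorem D19746 : act 6 n19318 = n19746 := rfl
theorem F77471 : act 2 n19746 = n19319 := d18_1 D19746 (iv D19319) (iv F75663)
theorem F77472 : act 5 n19746 = n19450 := d30_1 D19746 (iv D19450) (iv D18927) (iv F73526) D19318
theorem F77473 : act 7 n19746 = n19349 := d33_2 (iv F75664) D19746 (iv D19349)
theorem F77474 : act 8 n19746 = n19321 := d34_2 (iv F75665) D19746 (iv D19321)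
def n19747 : Q := act 4 n19320
theorem D19747 : act 4 n19320 = n19747 := rfl
theorem F77475 : act 5 n19747 = n19747 := d26_2 D19320 D19747 (iv D19747) (iv D19320) F73532
def n19748 : Q := act 6 n19320
theorem D19748 : act 6 n19320 = n19748 := rfl
theorem F77476 : act 3 n19748 = n19321 := d23_1 D19748 (iv D19321) (iv F75670)
theorem F77477 : act 5 n19748 = n19452 := d30_1 D19748 (iv D19452) (iv D18929) (iv F73533) D19320
def n19749 : Q := act 6 n19323
theorem D19749 : act 6 n19323 = n19749 := rfl
theorem F77478 : act 2 n19749 = n19324 := d18_1 D19749 (iv D19324) (iv F75677)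
theorem F77479 : act 5 n19749 = n19622 := d30_1 D19749 (iv D19622) (iv D19147) (iv F73549) D19323
theorem F77480 : act 8 n19749 = n19518 := d34_2 (iv F75678) D19749 F76480
def n19750 : Q := act 6 n19327
theorem D19750 : act 6 n19327 = n19750 := rfl
theorem F77481 : act 2 n19750 = n19328 := d18_1 D19750 (iv D19328) (iv F75691)
theorem F77482 : act 5 n19750 = n19457 := d30_1 D19750 (iv D19457) (iv D18938) (iv F73567) D19327
theorem F77483 : act 8 n19750 = n19454 := d34_2 (iv F75692) D19750 (iv D19454)
def n19751 : Q := act 5 n19331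
theorem D19751 : act 5 n19331 = n19751 := rfl
theorem F77484 : act 0 n19751 = n19343 := d4_1 D19751 (iv D19343) (iv F75708)
theorem F77485 : act 1 n19751 = n19625 := d11_1 D19751 (iv D19625) (iv F75709)
theorem F77486 : act 2 n19751 = n19332 := d17_1 D19751 (iv D19332) (iv F75710)
theorem F77487 : act 3 n19751 = n19712 := d22_1 D19751 (iv D19712) (iv F75711)
theorem F77488 : act 4 n19751 = n19546 := d26_1 D19751 (iv D19546) (iv D19059) (iv F73592) D19331
theorem F77489 : act 7 n19751 = n19603 := d31_2 (iv F75713) D19751 (iv D19603)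
theorem F77490 : act 8 n19751 = n19522 := d32_2 (iv F75714) D19751 (iv D19522)
def n19752 : Q := act 6 n19332
theorem D19752 : act 6 n19332 = n19752 := rfl
theorem F77491 : act 0 n19752 = n19344 := d5_1 D19752 (iv D19344) (iv F75715)
theorem F77492 : act 1 n19752 = n19556 := d12_1 D19752 (iv D19556) (iv F75716)
theorem F77493 : act 3 n19752 = n19335 := d23_1 D19752 (iv D19335) (iv F75717)
theorem F77494 : act 4 n19752 = n19547 := d27_1 D19752 (iv D19547) (iv F75718)
theorem F77495 : act 7 n19752 = n19604 := d33_2 (iv F75719) D19752 (iv D19604)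
theorem F77496 : act 8 n19752 = n19545 := d34_2 (iv F75720) D19752 (iv D19545)
def n19753 : Q := act 6 n19333
theorem D19753 : act 6 n19333 = n19753 := rfl
theorem F77497 : act 0 n19753 = n19346 := d5_1 D19753 (iv D19346) (iv F75721)
theorem F77498 : act 1 n19753 = n19551 := d12_1 D19753 (iv D19551) (iv F75722)
theorem F77499 : act 3 n19753 = n19545 := d23_1 D19753 (iv D19545) (iv F75723)
theorem F77500 : act 4 n19753 = n19338 := d27_1 D19753 (iv D19338) (iv F75724)
theorem F77501 : act 5 n19753 = n19752 := d30_1 D19753 (iv D19752) (iv D19332) (iv F73605) D19333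
theorem F77502 : act 7 n19753 = n19741 := d33_2 (iv F75725) D19753 (iv D19741)
theorem F77503 : act 8 n19753 = n19335 := d34_2 (iv F75726) D19753 (iv D19335)
def n19754 : Q := act 6 n19334
theorem D19754 : act 6 n19334 = n19754 := rfl
theorem F77504 : act 0 n19754 = n19347 := d5_1 D19754 (iv D19347) (iv F75727)
theorem F77505 : act 2 n19754 = n19335 := d18_1 D19754 (iv D19335) (iv F75728)
theorem F77506 : act 3 n19754 = n19729 := d23_1 D19754 (iv D19729) (iv F75729)
theorem F77507 : act 4 n19754 = n19340 := d27_1 D19754 (iv D19340) (iv F75730)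
theorem F77508 : act 7 n19754 = n19341 := d33_2 (iv F75731) D19754 (iv D19341)
def n19755 : Q := act 5 n19336
theorem D19755 : act 5 n19336 = n19755 := rfl
theorem F77509 : act 1 n19755 = n19337 := d11_1 D19755 (iv D19337) (iv F75735)
theorem F77510 : act 3 n19755 = n19722 := d22_1 D19755 (iv D19722) (iv F75736)
theorem F77511 : act 8 n19755 = n19339 := d32_2 (iv F75738) D19755 (iv D19339)
def n19756 : Q := act 6 n19337
theorem D19756 : act 6 n19337 = n19756 := rfl
theorem F77512 : act 0 n19756 = n19349 := d5_1 D19756 (iv D19349) (iv F75739)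
theorem F77513 : act 2 n19756 = n19338 := d18_1 D19756 (iv D19338) (iv F75740)
theorem F77514 : act 3 n19756 = n19723 := d23_1 D19756 (iv D19723) (iv F75741)
theorem F77515 : act 5 n19756 = n19413 := d30_1 D19756 (iv D19413) (iv D18885) (iv F73621) D19337
theorem F77516 : act 8 n19756 = n19340 := d34_2 (iv F75742) D19756 (iv D19340)
def n19757 : Q := act 6 n19339
theorem D19757 : act 6 n19339 = n19757 := rfl
theorem F77517 : act 1 n19757 = n19340 := d12_1 D19757 (iv D19340) (iv F75747)
theorem F77518 : act 3 n19757 = n19725 := d23_1 D19757 (iv D19725) (iv F75748)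
theorem F77519 : act 5 n19757 = n19416 := d30_1 D19757 (iv D19416) (iv D18889) (iv F73628) D19339
theorem F77520 : act 7 n19757 = n19342 := d33_2 (iv F75749) D19757 (iv D19342)
def n19758 : Q := act 6 n19343
theorem D19758 : act 6 n19343 = n19758 := rfl
theorem F77521 : act 1 n19758 = n19521 := d12_1 D19758 (iv D19521) (iv F75761)
theorem F77522 : act 2 n19758 = n19344 := d18_1 D19758 (iv D19344) (iv F75762)
theorem F77523 : act 3 n19758 = n19713 := d23_1 D19758 (iv D19713) (iv F75763)
theorem F77524 : act 4 n19758 = n19750 := d27_1 D19758 (iv D19750) (iv F75764)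
theorem F77525 : act 5 n19758 = n19539 := d30_1 D19758 (iv D19539) (iv D19049) (iv F73651) D19343
theorem F77526 : act 8 n19758 = n19523 := d34_2 (iv F75765) D19758 (iv D19523)
def n19759 : Q := act 6 n19348
theorem D19759 : act 6 n19348 = n19759 := rfl
theorem F77527 : act 0 n19759 = n19723 := d5_1 D19759 (iv D19723) (iv F75784)
theorem F77528 : act 2 n19759 = n19656 := d18_1 D19759 (iv D19656) (iv F75785)
theorem F77529 : act 3 n19759 = n19349 := d23_1 D19759 (iv D19349) (iv F75786)
theorem F77530 : act 5 n19759 = n19465 := d30_1 D19759 (iv D19465) (iv D18946) (iv F73675) D19348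
theorem F77531 : act 8 n19759 = n19352 := d34_2 (iv F75787) D19759 (iv D19352)
def n19760 : Q := act 6 n19350
theorem D19760 : act 6 n19350 = n19760 := rfl
theorem F77532 : act 1 n19760 = n19352 := d12_1 D19760 (iv D19352) (iv F75791)
theorem F77533 : act 3 n19760 = n19351 := d23_1 D19760 (iv D19351) (iv F75792)
theorem F77534 : act 4 n19760 = n19728 := d27_1 D19760 (iv D19728) (iv F75793)
theorem F77535 : act 5 n19760 = n19469 := d30_1 D19760 (iv D19469) (iv D18951) (iv F73685) D19350
theorem F77536 : act 7 n19760 = n19663 := d33_2 (iv F75794) D19760 (iv D19663)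
def n19761 : Q := act 4 n19354
theorem D19761 : act 4 n19354 = n19761 := rfl
theorem F77537 : act 0 n19761 = n19355 := d3_1 D19761 (iv D19355) D19354
theorem F77538 : act 1 n19761 = n19632 := d10_1 D19761 F76992 (iv F75811)
theorem F77539 : act 2 n19761 = n19372 := d16_1 D19761 (iv D19372) (iv F75812)
theorem F77540 : act 8 n19761 = n19649 := d29_2 (iv F75814) D19761 (iv D19649)
def n19762 : Q := act 3 n19355
theorem D19762 : act 3 n19355 = n19762 := rfl
theorem F77541 : act 1 n19762 = n19356 := d9_1 D19762 (iv D19356) (iv F75815)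
theorem F77542 : act 4 n19762 = n19762 := d21_2 D19355 D19762 (iv D19762) (iv D19355) F73742
theorem F77543 : act 8 n19762 = n19650 := d25_2 (iv F75817) D19762 (iv D19650)
def n19763 : Q := act 5 n19355
theorem D19763 : act 5 n19355 = n19763 := rfl
theorem F77544 : act 1 n19763 = n19357 := d11_1 D19763 (iv D19357) (iv F75815)
theorem F77545 : act 2 n19763 = n19373 := d17_1 D19763 (iv D19373) (iv F75816)
theorem F77546 : act 8 n19763 = n19651 := d32_2 (iv F75817) D19763 (iv D19651)
def n19764 : Q := act 5 n19356
theorem D19764 : act 5 n19356 = n19764 := rfl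
theorem F77547 : act 2 n19764 = n19359 := d17_1 D19764 (iv D19359) (iv F75818)
theorem F77548 : act 3 n19764 = n19357 := d22_1 D19764 (iv D19357) D19356
theorem F77549 : act 8 n19764 = n19652 := d32_2 (iv F75820) D19764 (iv D19652)
def n19765 : Q := act 7 n19356
theorem D19765 : act 7 n19356 = n19765 := rfl
theorem F77550 : act 0 n19765 = n19650 := d6_1 D19765 F77075 F76019
theorem F77551 : act 2 n19765 = n19360 := d19_1 D19765 (iv D19360) (iv F75818)
theorem F77552 : act 3 n19765 = n19649 := d24_1 D19765 F77070 (iv D19369) F73774 D19356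
theorem F77553 : act 4 n19765 = n19765 := d28_1 D19765 (iv D19765) F75819
def n19766 : Q := act 6 n19357
theorem D19766 : act 6 n19357 = n19766 := rfl
theorem F77554 : act 2 n19766 = n19358 := d18_1 D19766 (iv D19358) (iv F75821)
theorem F77555 : act 8 n19766 = n19653 := d34_2 (iv F75822) D19766 (iv D19653)
def n19767 : Q := act 4 n19359
theorem D19767 : act 4 n19359 = n19767 := rfl
theorem F77556 : act 5 n19767 = n19767 := d26_2 D19359 D19767 (iv D19767) (iv D19359) F73749
theorem F77557 : act 8 n19767 = n19654 := d29_2 (iv F75827) D19767 (iv D19654)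
def n19768 : Q := act 6 n19359
theorem D19768 : act 6 n19359 = n19768 := rfl
theorem F77558 : act 3 n19768 = n19361 := d23_1 D19768 (iv D19361) (iv F75826)
theorem F77559 : act 8 n19768 = n19655 := d34_2 (iv F75827) D19768 (iv D19655)
def n19769 : Q := act 7 n19359
theorem D19769 : act 7 n19359 = n19769 := rfl
theorem F77560 : act 3 n19769 = n19377 := d24_1 D19769 (iv D19377) F73809 (iv F73752) (iv F75826)
theorem F77561 : act 5 n19769 = n19360 := d31_1 D19769 (iv D19360) D19359
def n19770 : Q := act 8 n19360
theorem D19770 : act 8 n19360 = n19770 := rfl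
theorem F77562 : act 1 n19770 = n19549 := d14_1 D19770 F76641 F76255
theorem F77563 : act 3 n19770 = n19378 := d25_1 D19770 (iv D19378) (iv F75828)
theorem F77564 : act 4 n19770 = n19770 := d29_1 D19770 (iv D19770) F75829
theorem F77565 : act 7 n19770 = n19608 := d35_1 D19770 F76903 F74958 (iv F73750) D19360
def n19771 : Q := act 4 n19362
theorem D19771 : act 4 n19362 = n19771 := rfl
theorem F77566 : act 0 n19771 = n19363 := d3_1 D19771 (iv D19363) D19362
theorem F77567 : act 1 n19771 = n19427 := d10_1 D19771 (iv D19427) (iv F75833)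
theorem F77568 : act 7 n19771 = n19372 := d28_2 (iv F75836) D19771 (iv D19372)
def n19772 : Q := act 3 n19363
theorem D19772 : act 3 n19363 = n19772 := rfl
theorem F77569 : act 1 n19772 = n19364 := d9_1 D19772 (iv D19364) (iv F75837)
theorem F77570 : act 4 n19772 = n19772 := d21_2 D19363 D19772 (iv D19772) (iv D19363) F73757
def n19773 : Q := act 5 n19363
theorem D19773 : act 5 n19363 = n19773 := rfl
theorem F77571 : act 1 n19773 = n19365 := d11_1 D19773 (iv D19365) (iv F75837)
theorem F77572 : act 4 n19773 = n19763 := d26_1 D19773 (iv D19763) (iv D19355) (iv F73758) D19363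
theorem F77573 : act 7 n19773 = n19373 := d31_2 (iv F75838) D19773 (iv D19373)
def n19774 : Q := act 5 n19364
theorem D19774 : act 5 n19364 = n19774 := rfl
theorem F77574 : act 0 n19774 = n19430 := d4_1 D19774 (iv D19430) (iv F75839)
theorem F77575 : act 2 n19774 = n19385 := d17_1 D19774 (iv D19385) (iv F75840)
theorem F77576 : act 3 n19774 = n19365 := d22_1 D19774 (iv D19365) D19364
def n19775 : Q := act 6 n19365
theorem D19775 : act 6 n19365 = n19775 := rfl
theorem F77577 : act 0 n19775 = n19431 := d5_1 D19775 (iv D19431) (iv F75842)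
theorem F77578 : act 2 n19775 = n19366 := d18_1 D19775 (iv D19366) (iv F75843)
theorem F77579 : act 4 n19775 = n19766 := d27_1 D19775 (iv D19766) (iv F75844)
theorem F77580 : act 7 n19775 = n19374 := d33_2 (iv F75845) D19775 (iv D19374)
def n19776 : Q := act 4 n19367
theorem D19776 : act 4 n19367 = n19776 := rfl
theorem F77581 : act 0 n19776 = n19368 := d3_1 D19776 (iv D19368) D19367
theorem F77582 : act 1 n19776 = n19434 := d10_1 D19776 (iv D19434) (iv F75850)
theorem F77583 : act 2 n19776 = n19771 := d16_1 D19776 (iv D19771) (iv F75851)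
theorem F77584 : act 3 n19776 = n19715 := d21_1 D19776 (iv D19715) F75535 F73798 (iv F75852)
theorem F77585 : act 7 n19776 = n19761 := d28_2 (iv F75854) D19776 (iv D19761)
theorem F77586 : act 8 n19776 = n19657 := d29_2 (iv F75855) D19776 (iv D19657)
def n19777 : Q := act 3 n19368
theorem D19777 : act 3 n19368 = n19777 := rfl
theorem F77587 : act 0 n19777 = n19715 := d2_1 D19777 (iv F77584) F77581
theorem F77588 : act 1 n19777 = n19369 := d9_1 D19777 (iv D19369) (iv F75856)
theorem F77589 : act 4 n19777 = n19375 := d21_2 D19368 D19777 (iv D19375) (iv D18848) (iv F73768)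
theorem F77590 : act 6 n19777 = n19776 := d23_2 F77347 D19777 F77584
theorem F77591 : act 8 n19777 = n19658 := d25_2 (iv F75859) D19777 (iv D19658)
def n19778 : Q := act 5 n19368
theorem D19778 : act 5 n19368 = n19778 := rfl
theorem F77592 : act 1 n19778 = n19370 := d11_1 D19778 (iv D19370) (iv F75856)
theorem F77593 : act 2 n19778 = n19773 := d17_1 D19778 (iv D19773) (iv F75857)
theorem F77594 : act 4 n19778 = n19373 := d26_1 D19778 (iv D19373) (iv D18844) (iv F73769) D19368
theorem F77595 : act 7 n19778 = n19763 := d31_2 (iv F75858) D19778 (iv D19763)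
theorem F77596 : act 8 n19778 = n19659 := d32_2 (iv F75859) D19778 (iv D19659)
def n19779 : Q := act 5 n19369
theorem D19779 : act 5 n19369 = n19779 := rfl
theorem F77597 : act 0 n19779 = n19436 := d4_1 D19779 (iv D19436) (iv F75860)
theorem F77598 : act 2 n19779 = n19584 := d17_1 D19779 (iv D19584) (iv F75861)
theorem F77599 : act 3 n19779 = n19370 := d22_1 D19779 (iv D19370) D19369
theorem F77600 : act 8 n19779 = n19660 := d32_2 (iv F75863) D19779 (iv D19660)
def n19780 : Q := act 6 n19370
theorem D19780 : act 6 n19370 = n19780 := rfl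
theorem F77601 : act 0 n19780 = n19437 := d5_1 D19780 (iv D19437) (iv F75864)
theorem F77602 : act 2 n19780 = n19371 := d18_1 D19780 (iv D19371) (iv F75865)
theorem F77603 : act 4 n19780 = n19374 := d27_1 D19780 (iv D19374) (iv F75866)
theorem F77604 : act 7 n19780 = n19766 := d33_2 (iv F75867) D19780 (iv D19766)
theorem F77605 : act 8 n19780 = n19661 := d34_2 (iv F75868) D19780 (iv D19661)
def n19781 : Q := act 5 n19372
theorem D19781 : act 5 n19372 = n19781 := rfl
theorem F77606 : act 0 n19781 = n19373 := d4_1 D19781 (iv D19373) (iv F75875)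
theorem F77607 : act 1 n19781 = n19438 := d11_1 D19781 (iv D19438) (iv F75876)
theorem F77608 : act 8 n19781 = n19662 := d32_2 (iv F75877) D19781 (iv D19662)
def n19782 : Q := act 6 n19373
theorem D19782 : act 6 n19373 = n19782 := rfl
theorem F77609 : act 1 n19782 = n19374 := d12_1 D19782 (iv D19374) (iv F75878)
theorem F77610 : act 8 n19782 = n19663 := d34_2 (iv F75879) D19782 (iv D19663)
def n19783 : Q := act 7 n19376
theorem D19783 : act 7 n19376 = n19783 := rfl
theorem F77611 : act 6 n19783 = n19377 := d33_1 D19783 (iv D19377) D19376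
def n19784 : Q := act 8 n19377
theorem D19784 : act 8 n19377 = n19784 := rfl
theorem F77612 : act 1 n19784 = n19550 := d14_1 D19784 F76644 F76388
theorem F77613 : act 5 n19784 = n19378 := d32_1 D19784 (iv D19378) (iv F75890)
theorem F77614 : act 7 n19784 = n19404 := d35_1 D19784 (iv D19404) (iv D18875) (iv F73810) D19377
def n19785 : Q := act 3 n19379
theorem D19785 : act 3 n19379 = n19785 := rfl
theorem F77615 : act 1 n19785 = n19380 := d9_1 D19785 (iv D19380) (iv F75894)
theorem F77616 : act 4 n19785 = n19785 := d21_2 D19379 D19785 (iv D19785) (iv D19379) F73814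
theorem F77617 : act 8 n19785 = n19383 := d25_2 (iv F75896) D19785 (iv D19383)
def n19786 : Q := act 5 n19379
theorem D19786 : act 5 n19379 = n19786 := rfl
theorem F77618 : act 1 n19786 = n19381 := d11_1 D19786 (iv D19381) (iv F75894)
theorem F77619 : act 7 n19786 = n19411 := d31_2 (iv F75895) D19786 (iv D19411)
theorem F77620 : act 8 n19786 = n19384 := d32_2 (iv F75896) D19786 (iv D19384)
def n19787 : Q := act 5 n19380
theorem D19787 : act 5 n19380 = n19787 := rfl
theorem F77621 : act 0 n19787 = n19448 := d4_1 D19787 (iv D19448) (iv F75897)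
theorem F77622 : act 3 n19787 = n19381 := d22_1 D19787 (iv D19381) D19380
theorem F77623 : act 8 n19787 = n19385 := d32_2 (iv F75899) D19787 (iv D19385)
def n19788 : Q := act 6 n19381
theorem D19788 : act 6 n19381 = n19788 := rfl
theorem F77624 : act 0 n19788 = n19450 := d5_1 D19788 (iv D19450) (iv F75900)
theorem F77625 : act 2 n19788 = n19382 := d18_1 D19788 (iv D19382) (iv F75901)
theorem F77626 : act 7 n19788 = n19413 := d33_2 (iv F75902) D19788 (iv D19413)
theorem F77627 : act 8 n19788 = n19386 := d34_2 (iv F75903) D19788 (iv D19386)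
def n19789 : Q := act 2 n19383
theorem D19789 : act 2 n19383 = n19789 := rfl
theorem F77628 : act 0 n19789 = n19708 := d1_1 D19789 F77320 F76893
theorem F77629 : act 3 n19789 = n19707 := d15_2 D19383 D19789 F77316 F75574 F74828
theorem F77630 : act 4 n19789 = n19789 := d16_2 F75908 D19789 (iv D19789)
theorem F77631 : act 7 n19789 = n19602 := d19_2 F76427 D19789 F76880
def n19790 : Q := act 5 n19383
theorem D19790 : act 5 n19383 = n19790 := rfl
theorem F77632 : act 1 n19790 = n19385 := d11_1 D19790 (iv D19385) (iv F75907)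
theorem F77633 : act 3 n19790 = n19384 := d22_1 D19790 (iv D19384) D19383
def n19791 : Q := act 6 n19384
theorem D19791 : act 6 n19384 = n19791 := rfl
theorem F77634 : act 1 n19791 = n19386 := d12_1 D19791 (iv D19386) (iv F75909)
theorem F77635 : act 7 n19791 = n19387 := d33_2 (iv F75910) D19791 (iv D19387)
def n19792 : Q := act 4 n19385
theorem D19792 : act 4 n19385 = n19792 := rfl
theorem F77636 : act 0 n19792 = n19451 := d3_1 D19792 (iv D19451) (iv F75911)
theorem F77637 : act 5 n19792 = n19792 := d26_2 D19385 D19792 (iv D19792) (iv D19385) F73827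
def n19793 : Q := act 6 n19385
theorem D19793 : act 6 n19385 = n19793 := rfl
theorem F77638 : act 0 n19793 = n19452 := d5_1 D19793 (iv D19452) (iv F75911)
theorem F77639 : act 3 n19793 = n19386 := d23_1 D19793 (iv D19386) (iv F75912)
def n19794 : Q := act 3 n19388
theorem D19794 : act 3 n19388 = n19794 := rfl
theorem F77640 : act 1 n19794 = n19389 := d9_1 D19794 (iv D19389) (iv F75918)
theorem F77641 : act 4 n19794 = n19794 := d21_2 D19388 D19794 (iv D19794) (iv D19388) F73839
theorem F77642 : act 8 n19794 = n19392 := d25_2 (iv F75920) D19794 (iv D19392)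
def n19795 : Q := act 5 n19388
theorem D19795 : act 5 n19388 = n19795 := rfl
theorem F77643 : act 1 n19795 = n19390 := d11_1 D19795 (iv D19390) (iv F75918)
theorem F77644 : act 2 n19795 = n19411 := d17_1 D19795 (iv D19411) (iv F75919)
theorem F77645 : act 8 n19795 = n19393 := d32_2 (iv F75920) D19795 (iv D19393)
def n19796 : Q := act 5 n19389
theorem D19796 : act 5 n19389 = n19796 := rfl
theorem F77646 : act 2 n19796 = n19685 := d17_1 D19796 (iv D19685) (iv F75921)
theorem F77647 : act 3 n19796 = n19390 := d22_1 D19796 (iv D19390) D19389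
theorem F77648 : act 8 n19796 = n19394 := d32_2 (iv F75923) D19796 (iv D19394)
def n19797 : Q := act 7 n19389
theorem D19797 : act 7 n19389 = n19797 := rfl
theorem F77649 : act 2 n19797 = n19686 := d19_1 D19797 (iv D19686) (iv F75921)
theorem F77650 : act 4 n19797 = n19797 := d28_1 D19797 (iv D19797) F75922
def n19798 : Q := act 6 n19390
theorem D19798 : act 6 n19390 = n19798 := rfl
theorem F77651 : act 2 n19798 = n19391 := d18_1 D19798 (iv D19391) (iv F75924)
theorem F77652 : act 8 n19798 = n19396 := d34_2 (iv F75925) D19798 (iv D19396)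
def n19799 : Q := act 5 n19392
theorem D19799 : act 5 n19392 = n19799 := rfl
theorem F77653 : act 1 n19799 = n19394 := d11_1 D19799 (iv D19394) (iv F75929)
theorem F77654 : act 3 n19799 = n19393 := d22_1 D19799 (iv D19393) D19392
def n19800 : Q := act 6 n19393
theorem D19800 : act 6 n19393 = n19800 := rfl
theorem F77655 : act 1 n19800 = n19396 := d12_1 D19800 (iv D19396) (iv F75931)
theorem F77656 : act 2 n19800 = n19416 := d18_1 D19800 (iv D19416) (iv F75932)
theorem F77657 : act 7 n19800 = n19397 := d33_2 (iv F75933) D19800 (iv D19397)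
def n19801 : Q := act 4 n19394
theorem D19801 : act 4 n19394 = n19801 := rfl
theorem F77658 : act 2 n19801 = n19688 := d16_1 D19801 (iv D19688) (iv F75934)
theorem F77659 : act 5 n19801 = n19801 := d26_2 D19394 D19801 (iv D19801) (iv D19394) F73850
def n19802 : Q := act 6 n19394
theorem D19802 : act 6 n19394 = n19802 := rfl
theorem F77660 : act 2 n19802 = n19689 := d18_1 D19802 (iv D19689) (iv F75934)
theorem F77661 : act 3 n19802 = n19396 := d23_1 D19802 (iv D19396) (iv F75935)
def n19803 : Q := act 7 n19394
theorem D19803 : act 7 n19394 = n19803 := rfl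
theorem F77662 : act 2 n19803 = n19569 := d19_1 D19803 F76724 (iv F75934)
theorem F77663 : act 3 n19803 = n19399 := d24_1 D19803 (iv D19399) F73859 (iv F73852) (iv F75935)
theorem F77664 : act 5 n19803 = n19395 := d31_1 D19803 (iv D19395) D19394
def n19804 : Q := act 8 n19395
theorem D19804 : act 8 n19395 = n19804 := rfl
theorem F77665 : act 1 n19804 = n19739 := d14_1 D19804 F77447 F76864
theorem F77666 : act 2 n19804 = n19562 := d20_1 D19804 F76695 (iv F75936)
theorem F77667 : act 3 n19804 = n19400 := d25_1 D19804 (iv D19400) (iv F75937)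
theorem F77668 : act 4 n19804 = n19804 := d29_1 D19804 (iv D19804) F75938
def n19805 : Q := act 7 n19398
theorem D19805 : act 7 n19398 = n19805 := rfl
theorem F77669 : act 2 n19805 = n19403 := d19_1 D19805 (iv D19403) (iv F75943)
theorem F77670 : act 6 n19805 = n19399 := d33_1 D19805 (iv D19399) D19398
def n19806 : Q := act 8 n19399
theorem D19806 : act 8 n19399 = n19806 := rfl
theorem F77671 : act 1 n19806 = n19740 := d14_1 D19806 F77452 F76870
theorem F77672 : act 2 n19806 = n19404 := d20_1 D19806 (iv D19404) (iv F75945)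
theorem F77673 : act 5 n19806 = n19400 := d32_1 D19806 (iv D19400) (iv F75946)
def n19807 : Q := act 7 n19401
theorem D19807 : act 7 n19401 = n19807 := rfl
theorem F77674 : act 0 n19807 = n19416 := d6_1 D19807 F76007 (iv F75950)
theorem F77675 : act 1 n19807 = n19468 := d13_1 D19807 F76194 (iv F75951)
theorem F77676 : act 4 n19807 = n19403 := d28_1 D19807 (iv D19403) (iv F75952)
theorem F77677 : act 6 n19807 = n19402 := d33_1 D19807 (iv D19402) D19401
def n19808 : Q := act 3 n19402
theorem D19808 : act 3 n19402 = n19808 := rfl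
theorem F77678 : act 0 n19808 = n19415 := d2_1 D19808 F76003 (iv F75953)
theorem F77679 : act 1 n19808 = n19467 := d9_1 D19808 F76192 (iv F75954)
theorem F77680 : act 4 n19808 = n19633 := d21_2 (iv F75955) D19808 F76995 F75037 (iv F73867)
theorem F77681 : act 5 n19808 = n19414 := d22_2 (iv F75956) D19808 (iv D19414)
theorem F77682 : act 7 n19808 = n19698 := d24_2 D19402 D19808 F77269 F76501 F74510
def n19809 : Q := act 8 n19402
theorem D19809 : act 8 n19402 = n19809 := rfl
theorem F77683 : act 0 n19809 = n19411 := d7_1 D19809 F75988 (iv F75953)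
theorem F77684 : act 1 n19809 = n19461 := d14_1 D19809 F76173 (iv F75954)
theorem F77685 : act 4 n19809 = n19404 := d29_1 D19809 (iv D19404) (iv F75955)
theorem F77686 : act 5 n19809 = n19409 := d32_1 D19809 F75982 (iv F75956)
def n19810 : Q := act 8 n19403
theorem D19810 : act 8 n19403 = n19810 := rfl
theorem F77687 : act 1 n19810 = n19749 := d14_1 D19810 F77480 F76476
theorem F77688 : act 3 n19810 = n19690 := d25_1 D19810 (iv D19690) (iv F75957)
theorem F77689 : act 6 n19810 = n19404 := d34_1 D19810 (iv D19404) (iv F75958)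
def n19811 : Q := act 6 n19406
theorem D19811 : act 6 n19406 = n19811 := rfl
theorem F77690 : act 0 n19811 = n19457 := d5_1 D19811 (iv D19457) (iv F75967)
theorem F77691 : act 2 n19811 = n19407 := d18_1 D19811 (iv D19407) (iv F75968)
theorem F77692 : act 3 n19811 = n19622 := d23_1 D19811 (iv D19622) (iv F75969)
theorem F77693 : act 4 n19811 = n19413 := d27_1 D19811 (iv D19413) (iv F75970)
theorem F77694 : act 8 n19811 = n19408 := d34_2 (iv F75971) D19811 (iv D19408)
def n19812 : Q := act 3 n19409
theorem D19812 : act 3 n19409 = n19812 := rfl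
theorem F77695 : act 0 n19812 = n19410 := d2_1 D19812 (iv D19410) (iv F75980)
theorem F77696 : act 1 n19812 = n19460 := d9_1 D19812 (iv D19460) (iv F75981)
theorem F77697 : act 4 n19812 = n19418 := d21_2 D19409 D19812 (iv D19418) (iv D18894) (iv F73893)
theorem F77698 : act 6 n19812 = n19721 := d23_2 F76290 D19812 F77374
theorem F77699 : act 8 n19812 = n19414 := d25_2 (iv F75982) D19812 (iv D19414)
def n19813 : Q := act 5 n19410
theorem D19813 : act 5 n19410 = n19813 := rfl
theorem F77700 : act 1 n19813 = n19412 := d11_1 D19813 (iv D19412) (iv F75983)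
theorem F77701 : act 3 n19813 = n19411 := d22_1 D19813 (iv D19411) D19410
theorem F77702 : act 4 n19813 = n19627 := d26_1 D19813 (iv D19627) F75017 (iv F73938) (iv F75984)
theorem F77703 : act 8 n19813 = n19415 := d32_2 (iv F75986) D19813 (iv D19415)
def n19814 : Q := act 6 n19411
theorem D19814 : act 6 n19411 = n19814 := rfl
theorem F77704 : act 1 n19814 = n19413 := d12_1 D19814 (iv D19413) (iv F75987)
theorem F77705 : act 8 n19814 = n19416 := d34_2 (iv F75988) D19814 (iv D19416)
def n19815 : Q := act 6 n19412
theorem D19815 : act 6 n19412 = n19815 := rfl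
theorem F77706 : act 0 n19815 = n19465 := d5_1 D19815 (iv D19465) (iv F75989)
theorem F77707 : act 2 n19815 = n19691 := d18_1 D19815 (iv D19691) (iv F75990)
theorem F77708 : act 3 n19815 = n19413 := d23_1 D19815 (iv D19413) (iv F75991)
theorem F77709 : act 4 n19815 = n19630 := d27_1 D19815 (iv D19630) (iv F75992)
theorem F77710 : act 5 n19815 = n19723 := d30_1 D19815 (iv D19723) (iv D19290) (iv F73901) D19412
theorem F77711 : act 8 n19815 = n19417 := d34_2 (iv F75993) D19815 (iv D19417)
def n19816 : Q := act 6 n19415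
theorem D19816 : act 6 n19415 = n19816 := rfl
theorem F77712 : act 1 n19816 = n19417 := d12_1 D19816 (iv D19417) (iv F76002)
theorem F77713 : act 3 n19816 = n19416 := d23_1 D19816 (iv D19416) (iv F76003)
theorem F77714 : act 4 n19816 = n19636 := d27_1 D19816 (iv D19636) (iv F76004)
theorem F77715 : act 5 n19816 = n19725 := d30_1 D19816 (iv D19725) (iv D19293) (iv F73914) D19415
theorem F77716 : act 7 n19816 = n19699 := d33_2 (iv F76005) D19816 (iv D19699)
def n19817 : Q := act 5 n19419
theorem D19817 : act 5 n19419 = n19817 := rfl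
theorem F77717 : act 0 n19817 = n19764 := d4_1 D19817 (iv D19764) (iv F76019)
theorem F77718 : act 2 n19817 = n19639 := d17_1 D19817 (iv D19639) (iv F76020)
theorem F77719 : act 3 n19817 = n19420 := d22_1 D19817 (iv D19420) D19419
def n19818 : Q := act 6 n19420
theorem D19818 : act 6 n19420 = n19818 := rfl
theorem F77720 : act 0 n19818 = n19766 := d5_1 D19818 (iv D19766) (iv F76023)
theorem F77721 : act 2 n19818 = n19421 := d18_1 D19818 (iv D19421) (iv F76024)
theorem F77722 : act 4 n19818 = n19431 := d27_1 D19818 (iv D19431) (iv F76025)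
theorem F77723 : act 5 n19818 = n19653 := d30_1 D19818 (iv D19653) (iv D19187) (iv F73954) D19420
theorem F77724 : act 7 n19818 = n19437 := d33_2 (iv F76026) D19818 (iv D19437)
def n19819 : Q := act 4 n19422
theorem D19819 : act 4 n19422 = n19819 := rfl
theorem F77725 : act 0 n19819 = n19423 := d3_1 D19819 (iv D19423) D19422
theorem F77726 : act 2 n19819 = n19812 := d16_1 D19819 F77697 (iv F76033)
theorem F77727 : act 7 n19819 = n19721 := d28_2 (iv F76035) D19819 (iv D19721)
theorem F77728 : act 8 n19819 = n19427 := d29_2 (iv F76036) D19819 (iv D19427)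
def n19820 : Q := act 3 n19423
theorem D19820 : act 3 n19423 = n19820 := rfl
theorem F77729 : act 1 n19820 = n19424 := d9_1 D19820 (iv D19424) (iv F76037)
theorem F77730 : act 2 n19820 = n19794 := d15_1 D19820 (iv D19794) F75919 D19410 (iv F76038)
theorem F77731 : act 4 n19820 = n19820 := d21_2 D19423 D19820 (iv D19820) (iv D19423) F73962
theorem F77732 : act 8 n19820 = n19428 := d25_2 (iv F76040) D19820 (iv D19428)
def n19821 : Q := act 5 n19423
theorem D19821 : act 5 n19423 = n19821 := rfl
theorem F77733 : act 1 n19821 = n19425 := d11_1 D19821 (iv D19425) (iv F76037)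
theorem F77734 : act 2 n19821 = n19813 := d17_1 D19821 (iv D19813) (iv F76038)
theorem F77735 : act 7 n19821 = n19722 := d31_2 (iv F76039) D19821 (iv D19722)
theorem F77736 : act 8 n19821 = n19429 := d32_2 (iv F76040) D19821 (iv D19429)
def n19822 : Q := act 5 n19424
theorem D19822 : act 5 n19424 = n19822 := rfl
theorem F77737 : act 2 n19822 = n19448 := d17_1 D19822 (iv D19448) (iv F76041)
theorem F77738 : act 3 n19822 = n19425 := d22_1 D19822 (iv D19425) D19424
theorem F77739 : act 8 n19822 = n19430 := d32_2 (iv F76043) D19822 (iv D19430)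
def n19823 : Q := act 6 n19425
theorem D19823 : act 6 n19425 = n19823 := rfl
theorem F77740 : act 2 n19823 = n19426 := d18_1 D19823 (iv D19426) (iv F76044)
theorem F77741 : act 7 n19823 = n19723 := d33_2 (iv F76045) D19823 (iv D19723)
theorem F77742 : act 8 n19823 = n19431 := d34_2 (iv F76046) D19823 (iv D19431)
def n19824 : Q := act 3 n19427
theorem D19824 : act 3 n19427 = n19824 := rfl
theorem F77743 : act 0 n19824 = n19428 := d2_1 D19824 (iv D19428) (iv F76050)
theorem F77744 : act 2 n19824 = n19734 := d15_1 D19824 (iv D19734) F75616 D19414 (iv F76051)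
theorem F77745 : act 4 n19824 = n19824 := d21_2 D19427 D19824 (iv D19824) (iv D19427) F73972
theorem F77746 : act 6 n19824 = n19789 := d23_2 F77317 D19824 F77629
theorem F77747 : act 7 n19824 = n19739 := d24_2 (iv F76052) D19824 (iv D19739) F75641 F74596
def n19825 : Q := act 5 n19427
theorem D19825 : act 5 n19427 = n19825 := rfl
theorem F77748 : act 0 n19825 = n19429 := d4_1 D19825 (iv D19429) (iv F76050)
theorem F77749 : act 2 n19825 = n19808 := d17_1 D19825 F77681 (iv F76051)
theorem F77750 : act 7 n19825 = n19438 := d31_2 (iv F76052) D19825 (iv D19438)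
def n19826 : Q := act 5 n19428
theorem D19826 : act 5 n19428 = n19826 := rfl
theorem F77751 : act 1 n19826 = n19430 := d11_1 D19826 (iv D19430) (iv F76053)
theorem F77752 : act 2 n19826 = n19799 := d17_1 D19826 (iv D19799) (iv F76054)
theorem F77753 : act 3 n19826 = n19429 := d22_1 D19826 (iv D19429) D19428
def n19827 : Q := act 6 n19429
theorem D19827 : act 6 n19429 = n19827 := rfl
theorem F77754 : act 1 n19827 = n19431 := d12_1 D19827 (iv D19431) (iv F76056)
theorem F77755 : act 2 n19827 = n19816 := d18_1 D19827 (iv D19816) (iv F76057)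
theorem F77756 : act 7 n19827 = n19439 := d33_2 (iv F76058) D19827 (iv D19439)
def n19828 : Q := act 4 n19430
theorem D19828 : act 4 n19430 = n19828 := rfl
theorem F77757 : act 2 n19828 = n19451 := d16_1 D19828 (iv D19451) (iv F76059)
theorem F77758 : act 5 n19828 = n19828 := d26_2 D19430 D19828 (iv D19828) (iv D19430) F73978
def n19829 : Q := act 6 n19430
theorem D19829 : act 6 n19430 = n19829 := rfl
theorem F77759 : act 2 n19829 = n19452 := d18_1 D19829 (iv D19452) (iv F76059)
theorem F77760 : act 3 n19829 = n19431 := d23_1 D19829 (iv D19431) (iv F76060)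
def n19830 : Q := act 6 n19432
theorem D19830 : act 6 n19432 = n19830 := rfl
theorem F77761 : act 2 n19830 = n19433 := d18_1 D19830 (iv D19433) (iv F76063)
theorem F77762 : act 4 n19830 = n19759 := d27_1 D19830 (iv D19759) (iv F76064)
theorem F77763 : act 5 n19830 = n19437 := d30_1 D19830 (iv D19437) (iv D18914) (iv F73984) D19432
theorem F77764 : act 7 n19830 = n19653 := d33_2 (iv F76065) D19830 (iv D19653)
theorem F77765 : act 8 n19830 = n19726 := d34_2 (iv F76066) D19830 (iv D19726)
def n19831 : Q := act 5 n19434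
theorem D19831 : act 5 n19434 = n19831 := rfl
theorem F77766 : act 0 n19831 = n19435 := d4_1 D19831 (iv D19435) (iv F76072)
theorem F77767 : act 2 n19831 = n19467 := d17_1 D19831 (iv D19467) (iv F76073)
theorem F77768 : act 3 n19831 = n19716 := d22_1 D19831 (iv D19716) (iv F76074)
theorem F77769 : act 4 n19831 = n19438 := d26_1 D19831 (iv D19438) (iv D18916) (iv F73993) D19434
theorem F77770 : act 8 n19831 = n19719 := d32_2 (iv F76076) D19831 (iv D19719)
def n19832 : Q := act 6 n19435
theorem D19832 : act 6 n19435 = n19832 := rfl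
theorem F77771 : act 1 n19832 = n19437 := d12_1 D19832 (iv D19437) (iv F76077)
theorem F77772 : act 2 n19832 = n19469 := d18_1 D19832 (iv D19469) (iv F76078)
theorem F77773 : act 3 n19832 = n19830 := d23_1 D19832 (iv D19830) (iv F76079)
theorem F77774 : act 4 n19832 = n19439 := d27_1 D19832 (iv D19439) (iv F76080)
theorem F77775 : act 8 n19832 = n19727 := d34_2 (iv F76081) D19832 (iv D19727)
def n19833 : Q := act 6 n19436
theorem D19833 : act 6 n19436 = n19833 := rfl
theorem F77776 : act 1 n19833 = n19830 := d12_1 D19833 (iv D19830) (iv F76082)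
theorem F77777 : act 2 n19833 = n19760 := d18_1 D19833 (iv D19760) (iv F76083)
theorem F77778 : act 3 n19833 = n19437 := d23_1 D19833 (iv D19437) (iv F76084)
theorem F77779 : act 5 n19833 = n19832 := d30_1 D19833 (iv D19832) (iv D19435) (iv F74003) D19436
theorem F77780 : act 8 n19833 = n19728 := d34_2 (iv F76085) D19833 (iv D19728)
def n19834 : Q := act 6 n19438
theorem D19834 : act 6 n19438 = n19834 := rfl
theorem F77781 : act 0 n19834 = n19439 := d5_1 D19834 (iv D19439) (iv F76089)
theorem F77782 : act 8 n19834 = n19729 := d34_2 (iv F76090) D19834 (iv D19729)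
def n19835 : Q := act 5 n19440
theorem D19835 : act 5 n19440 = n19835 := rfl
theorem F77783 : act 0 n19835 = n19575 := d4_1 D19835 (iv D19575) (iv F76093)
theorem F77784 : act 1 n19835 = n19692 := d11_1 D19835 (iv D19692) (iv F76094)
theorem F77785 : act 2 n19835 = n19446 := d17_1 D19835 (iv D19446) (iv F76095)
theorem F77786 : act 3 n19835 = n19441 := d22_1 D19835 (iv D19441) D19440
theorem F77787 : act 7 n19835 = n19594 := d31_2 (iv F76098) D19835 (iv D19594)
def n19836 : Q := act 6 n19441
theorem D19836 : act 6 n19441 = n19836 := rfl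
theorem F77788 : act 0 n19836 = n19576 := d5_1 D19836 (iv D19576) (iv F76099)
theorem F77789 : act 1 n19836 = n19693 := d12_1 D19836 (iv D19693) (iv F76100)
theorem F77790 : act 2 n19836 = n19442 := d18_1 D19836 (iv D19442) (iv F76101)
theorem F77791 : act 4 n19836 = n19640 := d27_1 D19836 (iv D19640) (iv F76102)
theorem F77792 : act 5 n19836 = n19667 := d30_1 D19836 (iv D19667) (iv D19210) (iv F74021) D19441
theorem F77793 : act 7 n19836 = n19515 := d33_2 (iv F76103) D19836 (iv D19515)
def n19837 : Q := act 5 n19443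
theorem D19837 : act 5 n19443 = n19837 := rfl
theorem F77794 : act 3 n19837 = n19444 := d22_1 D19837 (iv D19444) D19443
theorem F77795 : act 8 n19837 = n19446 := d32_2 (iv F76111) D19837 (iv D19446)
def n19838 : Q := act 6 n19444
theorem D19838 : act 6 n19444 = n19838 := rfl
theorem F77796 : act 2 n19838 = n19445 := d18_1 D19838 (iv D19445) (iv F76112)
theorem F77797 : act 4 n19838 = n19450 := d27_1 D19838 (iv D19450) (iv F76113)
theorem F77798 : act 7 n19838 = n19457 := d33_2 (iv F76114) D19838 (iv D19457)
theorem F77799 : act 8 n19838 = n19447 := d34_2 (iv F76115) D19838 (iv D19447)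
def n19839 : Q := act 4 n19446
theorem D19839 : act 4 n19446 = n19839 := rfl
theorem F77800 : act 3 n19839 = n19451 := d21_1 D19839 (iv D19451) F74047 (iv F74036) (iv F76119)
theorem F77801 : act 5 n19839 = n19839 := d26_2 D19446 D19839 (iv D19839) (iv D19446) F74034
def n19840 : Q := act 6 n19446
theorem D19840 : act 6 n19446 = n19840 := rfl
theorem F77802 : act 3 n19840 = n19447 := d23_1 D19840 (iv D19447) (iv F76119)
def n19841 : Q := act 4 n19448
theorem D19841 : act 4 n19448 = n19841 := rfl
theorem F77803 : act 5 n19841 = n19841 := d26_2 D19448 D19841 (iv D19841) (iv D19448) F74040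
theorem F77804 : act 8 n19841 = n19451 := d29_2 (iv F76124) D19841 (iv D19451)
def n19842 : Q := act 6 n19448
theorem D19842 : act 6 n19448 = n19842 := rfl
theorem F77805 : act 3 n19842 = n19450 := d23_1 D19842 (iv D19450) (iv F76123)
theorem F77806 : act 8 n19842 = n19452 := d34_2 (iv F76124) D19842 (iv D19452)
def n19843 : Q := act 7 n19448
theorem D19843 : act 7 n19448 = n19843 := rfl
theorem F77807 : act 3 n19843 = n19466 := d24_1 D19843 (iv D19466) F74103 (iv F74043) (iv F76123)
theorem F77808 : act 5 n19843 = n19449 := d31_1 D19843 (iv D19449) D19448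
def n19844 : Q := act 6 n19451
theorem D19844 : act 6 n19451 = n19844 := rfl
theorem F77809 : act 4 n19844 = n19452 := d27_1 D19844 (iv D19452) D19451
def n19845 : Q := act 6 n19455
theorem D19845 : act 6 n19455 = n19845 := rfl
theorem F77810 : act 0 n19845 = n19749 := d5_1 D19845 (iv D19749) (iv F76140)
theorem F77811 : act 1 n19845 = n19457 := d12_1 D19845 (iv D19457) (iv F76141)
theorem F77812 : act 2 n19845 = n19664 := d18_1 D19845 (iv D19664) (iv F76142)
theorem F77813 : act 3 n19845 = n19750 := d23_1 D19845 (iv D19750) (iv F76143)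
theorem F77814 : act 4 n19845 = n19464 := d27_1 D19845 (iv D19464) (iv F76144)
theorem F77815 : act 8 n19845 = n19458 := d34_2 (iv F76145) D19845 (iv D19458)
def n19846 : Q := act 6 n19456
theorem D19846 : act 6 n19456 = n19846 := rfl
theorem F77816 : act 0 n19846 = n19622 := d5_1 D19846 (iv D19622) (iv F76146)
theorem F77817 : act 1 n19846 = n19750 := d12_1 D19846 (iv D19750) (iv F76147)
theorem F77818 : act 2 n19846 = n19520 := d18_1 D19846 (iv D19520) (iv F76148)
theorem F77819 : act 3 n19846 = n19457 := d23_1 D19846 (iv D19457) (iv F76149)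
theorem F77820 : act 4 n19846 = n19521 := d27_1 D19846 (iv D19521) (iv F76150)
theorem F77821 : act 5 n19846 = n19845 := d30_1 D19846 (iv D19845) (iv D19455) (iv F74073) D19456
theorem F77822 : act 8 n19846 = n19459 := d34_2 (iv F76151) D19846 (iv D19459)
def n19847 : Q := act 5 n19460
theorem D19847 : act 5 n19460 = n19847 := rfl
theorem F77823 : act 0 n19847 = n19462 := d4_1 D19847 (iv D19462) (iv F76166)
theorem F77824 : act 2 n19847 = n19719 := d17_1 D19847 (iv D19719) (iv F76167)
theorem F77825 : act 3 n19847 = n19461 := d22_1 D19847 (iv D19461) D19460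
theorem F77826 : act 4 n19847 = n19712 := d26_1 D19847 (iv D19712) (iv D19277) (iv F74135) (iv F76168)
theorem F77827 : act 8 n19847 = n19467 := d32_2 (iv F76169) D19847 (iv D19467)
def n19848 : Q := act 7 n19460
theorem D19848 : act 7 n19460 = n19848 := rfl
theorem F77828 : act 0 n19848 = n19463 := d6_1 D19848 (iv D19463) (iv F76166)
theorem F77829 : act 2 n19848 = n19658 := d19_1 D19848 F77099 (iv F76167)
theorem F77830 : act 4 n19848 = n19471 := d28_1 D19848 (iv D19471) (iv F76168)
def n19849 : Q := act 6 n19461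
theorem D19849 : act 6 n19461 = n19849 := rfl
theorem F77831 : act 0 n19849 = n19464 := d5_1 D19849 (iv D19464) (iv F76170)
theorem F77832 : act 2 n19849 = n19714 := d18_1 D19849 (iv D19714) (iv F76171)
theorem F77833 : act 4 n19849 = n19749 := d27_1 D19849 (iv D19749) (iv F76172)
theorem F77834 : act 8 n19849 = n19468 := d34_2 (iv F76173) D19849 (iv D19468)
def n19850 : Q := act 6 n19462
theorem D19850 : act 6 n19462 = n19850 := rfl
theorem F77835 : act 1 n19850 = n19465 := d12_1 D19850 (iv D19465) (iv F76174)
theorem F77836 : act 2 n19850 = n19727 := d18_1 D19850 (iv D19727) (iv F76175)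
theorem F77837 : act 3 n19850 = n19464 := d23_1 D19850 (iv D19464) (iv F76176)
theorem F77838 : act 4 n19850 = n19713 := d27_1 D19850 (iv D19713) (iv F76177)
theorem F77839 : act 8 n19850 = n19469 := d34_2 (iv F76178) D19850 (iv D19469)
def n19851 : Q := act 7 n19462
theorem D19851 : act 7 n19462 = n19851 := rfl
theorem F77840 : act 1 n19851 = n19466 := d13_1 D19851 (iv D19466) (iv F76174)
theorem F77841 : act 2 n19851 = n19718 := d19_1 D19851 F77364 (iv F76175)
theorem F77842 : act 4 n19851 = n19709 := d28_1 D19851 F77326 (iv F76177)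
theorem F77843 : act 5 n19851 = n19463 := d31_1 D19851 (iv D19463) D19462
def n19852 : Q := act 7 n19465
theorem D19852 : act 7 n19465 = n19852 := rfl
theorem F77844 : act 2 n19852 = n19701 := d19_1 D19852 F77283 (iv F76184)
theorem F77845 : act 4 n19852 = n19711 := d28_1 D19852 F77331 (iv F76186)
theorem F77846 : act 6 n19852 = n19466 := d33_1 D19852 (iv D19466) D19465
def n19853 : Q := act 6 n19467
theorem D19853 : act 6 n19467 = n19853 := rfl
theorem F77847 : act 0 n19853 = n19469 := d5_1 D19853 (iv D19469) (iv F76191)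
theorem F77848 : act 3 n19853 = n19468 := d23_1 D19853 (iv D19468) (iv F76192)
def n19854 : Q := act 5 n19472
theorem D19854 : act 5 n19472 = n19854 := rfl
theorem F77849 : act 0 n19854 = n19479 := d4_1 D19854 (iv D19479) (iv F76209)
theorem F77850 : act 1 n19854 = n19666 := d11_1 D19854 (iv D19666) (iv F76210)
theorem F77851 : act 2 n19854 = n19837 := d17_1 D19854 (iv D19837) (iv F76211)
theorem F77852 : act 3 n19854 = n19473 := d22_1 D19854 (iv D19473) D19472
theorem F77853 : act 7 n19854 = n19683 := d31_2 (iv F76214) D19854 (iv D19683)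
theorem F77854 : act 8 n19854 = n19835 := d32_2 (iv F76215) D19854 (iv D19835)
def n19855 : Q := act 6 n19473
theorem D19855 : act 6 n19473 = n19855 := rfl
theorem F77855 : act 0 n19855 = n19481 := d5_1 D19855 (iv D19481) (iv F76216)
theorem F77856 : act 1 n19855 = n19667 := d12_1 D19855 (iv D19667) (iv F76217)
theorem F77857 : act 2 n19855 = n19474 := d18_1 D19855 (iv D19474) (iv F76218)
theorem F77858 : act 4 n19855 = n19645 := d27_1 D19855 (iv D19645) (iv F76219)
theorem F77859 : act 5 n19855 = n19693 := d30_1 D19855 (iv D19693) (iv D19252) (iv F74144) D19473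
theorem F77860 : act 7 n19855 = n19499 := d33_2 (iv F76220) D19855 (iv D19499)
theorem F77861 : act 8 n19855 = n19836 := d34_2 (iv F76221) D19855 (iv D19836)
def n19856 : Q := act 3 n19475
theorem D19856 : act 3 n19475 = n19856 := rfl
theorem F77862 : act 0 n19856 = n19770 := d2_1 D19856 F77563 (iv F76229)
theorem F77863 : act 1 n19856 = n19476 := d9_1 D19856 (iv D19476) (iv F76230)
theorem F77864 : act 2 n19856 = n19762 := d15_1 D19856 (iv D19762) F75816 (iv F74224) (iv F76231)
theorem F77865 : act 4 n19856 = n19856 := d21_2 D19475 D19856 (iv D19856) (iv D19475) F74155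
theorem F77866 : act 6 n19856 = n19608 := d23_2 (iv F76232) D19856 (iv D19608)
theorem F77867 : act 8 n19856 = n19577 := d25_2 (iv F76234) D19856 (iv D19577)
def n19857 : Q := act 5 n19475
theorem D19857 : act 5 n19475 = n19857 := rfl
theorem F77868 : act 0 n19857 = n19784 := d4_1 D19857 F77613 (iv F76229)
theorem F77869 : act 1 n19857 = n19477 := d11_1 D19857 (iv D19477) (iv F76230)
theorem F77870 : act 2 n19857 = n19491 := d17_1 D19857 (iv D19491) (iv F76231)
theorem F77871 : act 4 n19857 = n19786 := d26_1 D19857 (iv D19786) (iv D19379) (iv F74156) D19475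
theorem F77872 : act 7 n19857 = n19671 := d31_2 (iv F76233) D19857 F77154
theorem F77873 : act 8 n19857 = n19578 := d32_2 (iv F76234) D19857 (iv D19578)
def n19858 : Q := act 5 n19476
theorem D19858 : act 5 n19476 = n19858 := rfl
theorem F77874 : act 0 n19858 = n19837 := d4_1 D19858 (iv D19837) (iv F76235)
theorem F77875 : act 2 n19858 = n19479 := d17_1 D19858 (iv D19479) (iv F76236)
theorem F77876 : act 3 n19858 = n19477 := d22_1 D19858 (iv D19477) D19476
theorem F77877 : act 8 n19858 = n19579 := d32_2 (iv F76239) D19858 (iv D19579)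
def n19859 : Q := act 6 n19477
theorem D19859 : act 6 n19477 = n19859 := rfl
theorem F77878 : act 0 n19859 = n19838 := d5_1 D19859 (iv D19838) (iv F76240)
theorem F77879 : act 2 n19859 = n19478 := d18_1 D19859 (iv D19478) (iv F76241)
theorem F77880 : act 4 n19859 = n19788 := d27_1 D19859 (iv D19788) (iv F76242)
theorem F77881 : act 5 n19859 = n19611 := d30_1 D19859 (iv D19611) (iv D19132) (iv F74162) D19477
theorem F77882 : act 7 n19859 = n19811 := d33_2 (iv F76243) D19859 (iv D19811)
theorem F77883 : act 8 n19859 = n19580 := d34_2 (iv F76244) D19859 (iv D19580)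
def n19860 : Q := act 4 n19479
theorem D19860 : act 4 n19479 = n19860 := rfl
theorem F77884 : act 1 n19860 = n19767 := d10_1 D19860 (iv D19767) (iv F76252)
theorem F77885 : act 3 n19860 = n19654 := d21_1 D19860 (iv D19654) F75161 (iv F74175) (iv F76253)
theorem F77886 : act 5 n19860 = n19860 := d26_2 D19479 D19860 (iv D19860) (iv D19479) F74172
def n19861 : Q := act 6 n19479
theorem D19861 : act 6 n19479 = n19861 := rfl
theorem F77887 : act 1 n19861 = n19768 := d12_1 D19861 (iv D19768) (iv F76252)
theorem F77888 : act 3 n19861 = n19481 := d23_1 D19861 (iv D19481) (iv F76253)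
def n19862 : Q := act 7 n19479
theorem D19862 : act 7 n19479 = n19862 := rfl
theorem F77889 : act 0 n19862 = n19683 := d6_1 D19862 (iv F77853) F77849
theorem F77890 : act 1 n19862 = n19769 := d13_1 D19862 (iv D19769) (iv F76252)
theorem F77891 : act 3 n19862 = n19502 := d24_1 D19862 (iv D19502) F74312 (iv F74176) (iv F76253)
theorem F77892 : act 5 n19862 = n19480 := d31_1 D19862 (iv D19480) D19479
def n19863 : Q := act 3 n19482
theorem D19863 : act 3 n19482 = n19863 := rfl
theorem F77893 : act 0 n19863 = n19804 := d2_1 D19863 F77667 (iv F76263)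
theorem F77894 : act 1 n19863 = n19483 := d9_1 D19863 (iv D19483) (iv F76264)
theorem F77895 : act 4 n19863 = n19863 := d21_2 D19482 D19863 (iv D19863) (iv D19482) F74182
theorem F77896 : act 6 n19863 = n19562 := d23_2 (iv F76266) D19863 (iv D19562)
theorem F77897 : act 7 n19863 = n19772 := d24_2 (iv F76267) D19863 (iv D19772) F75838 (iv F74224)
theorem F77898 : act 8 n19863 = n19540 := d25_2 (iv F76268) D19863 (iv D19540)
def n19864 : Q := act 5 n19482
theorem D19864 : act 5 n19482 = n19864 := rfl
theorem F77899 : act 0 n19864 = n19806 := d4_1 D19864 F77673 (iv F76263)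
theorem F77900 : act 1 n19864 = n19484 := d11_1 D19864 (iv D19484) (iv F76264)
theorem F77901 : act 2 n19864 = n19671 := d17_1 D19864 F77154 (iv F76265)
theorem F77902 : act 4 n19864 = n19795 := d26_1 D19864 (iv D19795) (iv D19388) (iv F74183) D19482
theorem F77903 : act 7 n19864 = n19491 := d31_2 (iv F76267) D19864 (iv D19491)
theorem F77904 : act 8 n19864 = n19541 := d32_2 (iv F76268) D19864 (iv D19541)
def n19865 : Q := act 5 n19483
theorem D19865 : act 5 n19483 = n19865 := rfl
theorem F77905 : act 0 n19865 = n19532 := d4_1 D19865 (iv D19532) (iv F76269)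
theorem F77906 : act 2 n19865 = n19511 := d17_1 D19865 (iv D19511) (iv F76270)
theorem F77907 : act 3 n19865 = n19484 := d22_1 D19865 (iv D19484) D19483
theorem F77908 : act 7 n19865 = n19774 := d31_2 (iv F76273) D19865 (iv D19774)
theorem F77909 : act 8 n19865 = n19542 := d32_2 (iv F76274) D19865 (iv D19542)
def n19866 : Q := act 6 n19484
theorem D19866 : act 6 n19484 = n19866 := rfl
theorem F77910 : act 0 n19866 = n19533 := d5_1 D19866 (iv D19533) (iv F76275)
theorem F77911 : act 2 n19866 = n19485 := d18_1 D19866 (iv D19485) (iv F76276)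
theorem F77912 : act 4 n19866 = n19798 := d27_1 D19866 (iv D19798) (iv F76277)
theorem F77913 : act 5 n19866 = n19566 := d30_1 D19866 (iv D19566) (iv D19078) (iv F74189) D19484
theorem F77914 : act 7 n19866 = n19492 := d33_2 (iv F76278) D19866 (iv D19492)
theorem F77915 : act 8 n19866 = n19543 := d34_2 (iv F76279) D19866 (iv D19543)
def n19867 : Q := act 5 n19486
theorem D19867 : act 5 n19486 = n19867 := rfl
theorem F77916 : act 0 n19867 = n19755 := d4_1 D19867 (iv D19755) (iv F76287)
theorem F77917 : act 1 n19867 = n19488 := d11_1 D19867 (iv D19488) (iv F76288)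
theorem F77918 : act 2 n19867 = n19786 := d17_1 D19867 (iv D19786) (iv F76289)
theorem F77919 : act 4 n19867 = n19491 := d26_1 D19867 (iv D19491) (iv D18976) (iv F74201) D19486
theorem F77920 : act 7 n19867 = n19795 := d31_2 (iv F76291) D19867 (iv D19795)
theorem F77921 : act 8 n19867 = n19583 := d32_2 (iv F76292) D19867 (iv D19583)
def n19868 : Q := act 5 n19487
theorem D19868 : act 5 n19487 = n19868 := rfl
theorem F77922 : act 0 n19868 = n19535 := d4_1 D19868 (iv D19535) (iv F76293)
theorem F77923 : act 2 n19868 = n19660 := d17_1 D19868 (iv D19660) (iv F76294)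
theorem F77924 : act 3 n19868 = n19488 := d22_1 D19868 (iv D19488) D19487
theorem F77925 : act 4 n19868 = n19779 := d26_1 D19868 (iv D19779) F75862 (iv F74237) (iv F76295)
theorem F77926 : act 8 n19868 = n19584 := d32_2 (iv F76297) D19868 (iv D19584)
def n19869 : Q := act 7 n19487
theorem D19869 : act 7 n19487 = n19869 := rfl
theorem F77927 : act 0 n19869 = n19536 := d6_1 D19869 (iv D19536) (iv F76293)
theorem F77928 : act 1 n19869 = n19819 := d13_1 D19869 F77727 F77373
theorem F77929 : act 2 n19869 = n19657 := d19_1 D19869 F77094 (iv F76294)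
theorem F77930 : act 3 n19869 = n19797 := d24_1 D19869 (iv D19797) (iv D19389) (iv F74208) D19487
theorem F77931 : act 4 n19869 = n19493 := d28_1 D19869 (iv D19493) (iv F76295)
theorem F77932 : act 6 n19869 = n19848 := d33_1 D19869 (iv D19848) (iv F76296)
theorem F77933 : act 8 n19869 = n19771 := d35_2 (iv F76297) D19869 F77568 F75877 F75191
def n19870 : Q := act 6 n19488
theorem D19870 : act 6 n19488 = n19870 := rfl
theorem F77934 : act 0 n19870 = n19537 := d5_1 D19870 (iv D19537) (iv F76298)
theorem F77935 : act 2 n19870 = n19489 := d18_1 D19870 (iv D19489) (iv F76299)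
theorem F77936 : act 4 n19870 = n19492 := d27_1 D19870 (iv D19492) (iv F76300)
theorem F77937 : act 5 n19870 = n19849 := d30_1 D19870 (iv D19849) (iv D19461) (iv F74207) D19488
theorem F77938 : act 7 n19870 = n19798 := d33_2 (iv F76301) D19870 (iv D19798)
theorem F77939 : act 8 n19870 = n19585 := d34_2 (iv F76302) D19870 (iv D19585)
def n19871 : Q := act 5 n19490
theorem D19871 : act 5 n19490 = n19871 := rfl
theorem F77940 : act 0 n19871 = n19491 := d4_1 D19871 (iv D19491) (iv F76309)
theorem F77941 : act 1 n19871 = n19538 := d11_1 D19871 (iv D19538) (iv F76310)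
theorem F77942 : act 2 n19871 = n19784 := d17_1 D19871 F77613 (iv F76311)
theorem F77943 : act 3 n19871 = n19781 := d22_1 D19871 (iv D19781) (iv F76312)
theorem F77944 : act 4 n19871 = n19755 := d26_1 D19871 (iv D19755) (iv D19336) (iv F74219) D19490
theorem F77945 : act 7 n19871 = n19806 := d31_2 (iv F76314) D19871 F77673
theorem F77946 : act 8 n19871 = n19586 := d32_2 (iv F76315) D19871 (iv D19586)
def n19872 : Q := act 6 n19491
theorem D19872 : act 6 n19491 = n19872 := rfl
theorem F77947 : act 1 n19872 = n19492 := d12_1 D19872 (iv D19492) (iv F76316)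
theorem F77948 : act 3 n19872 = n19782 := d23_1 D19872 (iv D19782) (iv F76317)
theorem F77949 : act 5 n19872 = n19629 := d30_1 D19872 (iv D19629) (iv D19153) (iv F74225) D19491
theorem F77950 : act 8 n19872 = n19587 := d34_2 (iv F76318) D19872 (iv D19587)
def n19873 : Q := act 5 n19495
theorem D19873 : act 5 n19495 = n19873 := rfl
theorem F77951 : act 0 n19873 = n19542 := d4_1 D19873 (iv D19542) (iv F76338)
theorem F77952 : act 1 n19873 = n19743 := d11_1 D19873 (iv D19743) (iv F76339)
theorem F77953 : act 2 n19873 = n19564 := d17_1 D19873 (iv D19564) (iv F76340)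
theorem F77954 : act 3 n19873 = n19496 := d22_1 D19873 (iv D19496) D19495
theorem F77955 : act 7 n19873 = n19736 := d31_2 (iv F76343) D19873 (iv D19736)
theorem F77956 : act 8 n19873 = n19532 := d32_2 (iv F76344) D19873 (iv D19532)
def n19874 : Q := act 6 n19496
theorem D19874 : act 6 n19496 = n19874 := rfl
theorem F77957 : act 0 n19874 = n19543 := d5_1 D19874 (iv D19543) (iv F76345)
theorem F77958 : act 1 n19874 = n19744 := d12_1 D19874 (iv D19744) (iv F76346)
theorem F77959 : act 2 n19874 = n19497 := d18_1 D19874 (iv D19497) (iv F76347)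
theorem F77960 : act 4 n19874 = n19669 := d27_1 D19874 (iv D19669) (iv F76348)
theorem F77961 : act 5 n19874 = n19512 := d30_1 D19874 (iv D19512) (iv D19000) (iv F74262) D19496
theorem F77962 : act 7 n19874 = n19498 := d33_2 (iv F76349) D19874 (iv D19498)
theorem F77963 : act 8 n19874 = n19533 := d34_2 (iv F76350) D19874 (iv D19533)
def n19875 : Q := act 7 n19501
theorem D19875 : act 7 n19501 = n19875 := rfl
theorem F77964 : act 0 n19875 = n19684 := d6_1 D19875 F77221 (iv F76380)
theorem F77965 : act 1 n19875 = n19783 := d13_1 D19875 (iv D19783) (iv F76381)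
theorem F77966 : act 2 n19875 = n19552 := d19_1 D19875 F76651 (iv F76382)
theorem F77967 : act 4 n19875 = n19676 := d28_1 D19875 F77177 (iv F76384)
theorem F77968 : act 5 n19875 = n19560 := d31_1 D19875 F76686 (iv F76385)
theorem F77969 : act 6 n19875 = n19502 := d33_1 D19875 (iv D19502) D19501
def n19876 : Q := act 5 n19503
theorem D19876 : act 5 n19503 = n19876 := rfl
theorem F77970 : act 0 n19876 = n19559 := d4_1 D19876 (iv D19559) (iv F76392)
theorem F77971 : act 1 n19876 = n19594 := d11_1 D19876 (iv D19594) (iv F76393)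
theorem F77972 : act 3 n19876 = n19504 := d22_1 D19876 (iv D19504) D19503
theorem F77973 : act 7 n19876 = n19692 := d31_2 (iv F76396) D19876 (iv D19692)
def n19877 : Q := act 6 n19504
theorem D19877 : act 6 n19504 = n19877 := rfl
theorem F77974 : act 0 n19877 = n19560 := d5_1 D19877 (iv D19560) (iv F76397)
theorem F77975 : act 1 n19877 = n19595 := d12_1 D19877 (iv D19595) (iv F76398)
theorem F77976 : act 2 n19877 = n19505 := d18_1 D19877 (iv D19505) (iv F76399)
theorem F77977 : act 4 n19877 = n19512 := d27_1 D19877 (iv D19512) (iv F76400)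
theorem F77978 : act 5 n19877 = n19684 := d30_1 D19877 (iv D19684) (iv D19233) (iv F74327) D19504
theorem F77979 : act 7 n19877 = n19513 := d33_2 (iv F76401) D19877 (iv D19513)
def n19878 : Q := act 5 n19506
theorem D19878 : act 5 n19506 = n19878 := rfl
theorem F77980 : act 0 n19878 = n19564 := d4_1 D19878 (iv D19564) (iv F76407)
theorem F77981 : act 2 n19878 = n19542 := d17_1 D19878 (iv D19542) (iv F76408)
theorem F77982 : act 3 n19878 = n19507 := d22_1 D19878 (iv D19507) D19506
theorem F77983 : act 7 n19878 = n19710 := d31_2 (iv F76411) D19878 (iv D19710)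
theorem F77984 : act 8 n19878 = n19511 := d32_2 (iv F76412) D19878 (iv D19511)
def n19879 : Q := act 6 n19507
theorem D19879 : act 6 n19507 = n19879 := rfl
theorem F77985 : act 0 n19879 = n19566 := d5_1 D19879 (iv D19566) (iv F76413)
theorem F77986 : act 2 n19879 = n19508 := d18_1 D19879 (iv D19508) (iv F76414)
theorem F77987 : act 5 n19879 = n19533 := d30_1 D19879 (iv D19533) (iv D19042) (iv F74335) D19507

end Cfsg.Agent.Helper17.FiR1TC
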