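import Cfsg.Agent.Helper17.FiR1TC.Facts6

set_option autoImplicit false
set_option linter.all false

noncomputable section

namespace Cfsg.Agent.Helper17.FiR1TC

theorem F77988 : act 7 n19879 = n19521 := d33_2 (iv F76415) D19879 (iv D19521)
theorem F77989 : act 8 n19879 = n19512 := d34_2 (iv F76416) D19879 (iv D19512)
def n19880 : Q := act 5 n19509
theorem D19880 : act 5 n19509 = n19880 := rfl
theorem F77990 : act 0 n19880 = n19605 := d4_1 D19880 (iv D19605) (iv F76423)
theorem F77991 : act 1 n19880 = n19511 := d11_1 D19880 (iv D19511) (iv F76424)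
theorem F77992 : act 3 n19880 = n19510 := d22_1 D19880 (iv D19510) D19509
theorem F77993 : act 7 n19880 = n19790 := d31_2 (iv F76427) D19880 (iv D19790)
def n19881 : Q := act 6 n19510
theorem D19881 : act 6 n19510 = n19881 := rfl
theorem F77994 : act 0 n19881 = n19607 := d5_1 D19881 (iv D19607) (iv F76428)
theorem F77995 : act 1 n19881 = n19512 := d12_1 D19881 (iv D19512) (iv F76429)
theorem F77996 : act 2 n19881 = n19590 := d18_1 D19881 (iv D19590) (iv F76430)
theorem F77997 : act 4 n19881 = n19595 := d27_1 D19881 (iv D19595) (iv F76431)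
theorem F77998 : act 5 n19881 = n19744 := d30_1 D19881 (iv D19744) (iv D19315) (iv F74346) D19510
theorem F77999 : act 7 n19881 = n19514 := d33_2 (iv F76432) D19881 (iv D19514)
def n19882 : Q := act 4 n19511
theorem D19882 : act 4 n19511 = n19882 := rfl
theorem F78000 : act 0 n19882 = n19571 := d3_1 D19882 (iv D19571) (iv F76433)
theorem F78001 : act 5 n19882 = n19882 := d26_2 D19511 D19882 (iv D19882) (iv D19511) F74349
theorem F78002 : act 7 n19882 = n19792 := d28_2 (iv F76435) D19882 (iv D19792)
def n19883 : Q := act 6 n19511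
theorem D19883 : act 6 n19511 = n19883 := rfl
theorem F78003 : act 0 n19883 = n19572 := d5_1 D19883 (iv D19572) (iv F76433)
theorem F78004 : act 3 n19883 = n19512 := d23_1 D19883 (iv D19512) (iv F76434)
theorem F78005 : act 7 n19883 = n19793 := d33_2 (iv F76435) D19883 (iv D19793)
def n19884 : Q := act 6 n19522
theorem D19884 : act 6 n19522 = n19884 := rfl
theorem F78006 : act 0 n19884 = n19523 := d5_1 D19884 (iv D19523) (iv F76497)
theorem F78007 : act 1 n19884 = n19634 := d12_1 D19884 (iv D19634) (iv F76498)
theorem F78008 : act 2 n19884 = n19545 := d18_1 D19884 (iv D19545) (iv F76499)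
theorem F78009 : act 4 n19884 = n19548 := d27_1 D19884 (iv D19548) (iv F76500)
theorem F78010 : act 5 n19884 = n19754 := d30_1 D19884 (iv D19754) (iv D19334) (iv F74486) D19522
theorem F78011 : act 7 n19884 = n19524 := d33_2 (iv F76501) D19884 (iv D19524)
def n19885 : Q := act 5 n19527
theorem D19885 : act 5 n19527 = n19885 := rfl
theorem F78012 : act 0 n19885 = n19796 := d4_1 D19885 (iv D19796) (iv F76530)
theorem F78013 : act 1 n19885 = n19745 := d11_1 D19885 (iv D19745) (iv F76531)
theorem F78014 : act 3 n19885 = n19528 := d22_1 D19885 (iv D19528) D19527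
theorem F78015 : act 8 n19885 = n19668 := d32_2 (iv F76534) D19885 (iv D19668)
def n19886 : Q := act 7 n19527
theorem D19886 : act 7 n19527 = n19886 := rfl
theorem F78016 : act 0 n19886 = n19797 := d6_1 D19886 (iv D19797) (iv F76530)
theorem F78017 : act 1 n19886 = n19646 := d13_1 D19886 F77055 (iv F76531)
theorem F78018 : act 3 n19886 = n19536 := d24_1 D19886 (iv D19536) (iv D19045) (iv F74558) D19527
theorem F78019 : act 4 n19886 = n19886 := d28_1 D19886 (iv D19886) F76532
theorem F78020 : act 6 n19886 = n19686 := d33_1 D19886 (iv D19686) (iv F76533)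
theorem F78021 : act 8 n19886 = n19772 := d35_2 (iv F76534) D19886 (iv F77897) F77898 F76596
def n19887 : Q := act 6 n19528
theorem D19887 : act 6 n19528 = n19887 := rfl
theorem F78022 : act 0 n19887 = n19798 := d5_1 D19887 (iv D19798) (iv F76535)
theorem F78023 : act 1 n19887 = n19746 := d12_1 D19887 (iv D19746) (iv F76536)
theorem F78024 : act 2 n19887 = n19529 := d18_1 D19887 (iv D19529) (iv F76537)
theorem F78025 : act 4 n19887 = n19533 := d27_1 D19887 (iv D19533) (iv F76538)
theorem F78026 : act 5 n19887 = n19687 := d30_1 D19887 (iv D19687) (iv D19236) (iv F74557) D19528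
theorem F78027 : act 7 n19887 = n19537 := d33_2 (iv F76539) D19887 (iv D19537)
theorem F78028 : act 8 n19887 = n19669 := d34_2 (iv F76540) D19887 (iv D19669)
def n19888 : Q := act 5 n19530
theorem D19888 : act 5 n19530 = n19888 := rfl
theorem F78029 : act 1 n19888 = n19532 := d11_1 D19888 (iv D19532) (iv F76547)
theorem F78030 : act 3 n19888 = n19531 := d22_1 D19888 (iv D19531) D19530
theorem F78031 : act 7 n19888 = n19826 := d31_2 (iv F76549) D19888 (iv D19826)
theorem F78032 : act 8 n19888 = n19743 := d32_2 (iv F76550) D19888 (iv D19743)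
def n19889 : Q := act 6 n19531
theorem D19889 : act 6 n19531 = n19889 := rfl
theorem F78033 : act 1 n19889 = n19533 := d12_1 D19889 (iv D19533) (iv F76551)
theorem F78034 : act 2 n19889 = n19742 := d18_1 D19889 (iv D19742) (iv F76552)
theorem F78035 : act 4 n19889 = n19746 := d27_1 D19889 (iv D19746) (iv F76553)
theorem F78036 : act 7 n19889 = n19539 := d33_2 (iv F76554) D19889 (iv D19539)
theorem F78037 : act 8 n19889 = n19744 := d34_2 (iv F76555) D19889 (iv D19744)
def n19890 : Q := act 4 n19532
theorem D19890 : act 4 n19532 = n19890 := rfl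
theorem F78038 : act 2 n19890 = n19571 := d16_1 D19890 (iv D19571) (iv F76556)
theorem F78039 : act 5 n19890 = n19890 := d26_2 D19532 D19890 (iv D19890) (iv D19532) F74570
theorem F78040 : act 7 n19890 = n19828 := d28_2 (iv F76558) D19890 (iv D19828)
def n19891 : Q := act 6 n19532
theorem D19891 : act 6 n19532 = n19891 := rfl
theorem F78041 : act 2 n19891 = n19572 := d18_1 D19891 (iv D19572) (iv F76556)
theorem F78042 : act 3 n19891 = n19533 := d23_1 D19891 (iv D19533) (iv F76557)
theorem F78043 : act 7 n19891 = n19829 := d33_2 (iv F76558) D19891 (iv D19829)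
def n19892 : Q := act 6 n19535
theorem D19892 : act 6 n19535 = n19892 := rfl
theorem F78044 : act 1 n19892 = n19759 := d12_1 D19892 (iv D19759) (iv F76567)
theorem F78045 : act 2 n19892 = n19728 := d18_1 D19892 (iv D19728) (iv F76568)
theorem F78046 : act 3 n19892 = n19537 := d23_1 D19892 (iv D19537) (iv F76569)
theorem F78047 : act 4 n19892 = n19833 := d27_1 D19892 (iv D19833) (iv F76570)
theorem F78048 : act 5 n19892 = n19850 := d30_1 D19892 (iv D19850) (iv D19462) (iv F74584) D19535
theorem F78049 : act 8 n19892 = n19760 := d34_2 (iv F76571) D19892 (iv D19760)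
def n19893 : Q := act 7 n19535
theorem D19893 : act 7 n19535 = n19893 := rfl
theorem F78050 : act 1 n19893 = n19647 := d13_1 D19893 F77060 (iv F76567)
theorem F78051 : act 2 n19893 = n19659 := d19_1 D19893 F77102 (iv F76568)
theorem F78052 : act 4 n19893 = n19651 := d28_1 D19893 F77078 (iv F76570)
theorem F78053 : act 5 n19893 = n19536 := d31_1 D19893 (iv D19536) D19535
theorem F78054 : act 8 n19893 = n19773 := d35_2 (iv F76571) D19893 F77573 F75879 (iv F75794)
def n19894 : Q := act 6 n19538
theorem D19894 : act 6 n19538 = n19894 := rfl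
theorem F78055 : act 0 n19894 = n19539 := d5_1 D19894 (iv D19539) (iv F76582)
theorem F78056 : act 2 n19894 = n19753 := d18_1 D19894 (iv D19753) (iv F76583)
theorem F78057 : act 3 n19894 = n19834 := d23_1 D19894 (iv D19834) (iv F76584)
theorem F78058 : act 4 n19894 = n19756 := d27_1 D19894 (iv D19756) (iv F76585)
theorem F78059 : act 8 n19894 = n19754 := d34_2 (iv F76586) D19894 (iv D19754)
def n19895 : Q := act 5 n19540
theorem D19895 : act 5 n19540 = n19895 := rfl
theorem F78060 : act 0 n19895 = n19803 := d4_1 D19895 F77664 (iv F76592)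
theorem F78061 : act 1 n19895 = n19542 := d11_1 D19895 (iv D19542) (iv F76593)
theorem F78062 : act 3 n19895 = n19541 := d22_1 D19895 (iv D19541) D19540
theorem F78063 : act 7 n19895 = n19668 := d31_2 (iv F76596) D19895 (iv D19668)
def n19896 : Q := act 6 n19541
theorem D19896 : act 6 n19541 = n19896 := rfl
theorem F78064 : act 0 n19896 = n19805 := d5_1 D19896 F77670 (iv F76597)
theorem F78065 : act 1 n19896 = n19543 := d12_1 D19896 (iv D19543) (iv F76598)
theorem F78066 : act 2 n19896 = n19670 := d18_1 D19896 F77149 (iv F76599)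
theorem F78067 : act 4 n19896 = n19800 := d27_1 D19896 (iv D19800) (iv F76600)
theorem F78068 : act 5 n19896 = n19570 := d30_1 D19896 (iv D19570) (iv D19082) (iv F74614) D19541
theorem F78069 : act 7 n19896 = n19544 := d33_2 (iv F76601) D19896 (iv D19544)
def n19897 : Q := act 4 n19542
theorem D19897 : act 4 n19542 = n19897 := rfl
theorem F78070 : act 3 n19897 = n19801 := d21_1 D19897 (iv D19801) F75935 (iv F74620) (iv F76602)
theorem F78071 : act 5 n19897 = n19897 := d26_2 D19542 D19897 (iv D19897) (iv D19542) F74616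
theorem F78072 : act 7 n19897 = n19747 := d28_2 (iv F76603) D19897 (iv D19747)
def n19898 : Q := act 6 n19542
theorem D19898 : act 6 n19542 = n19898 := rfl
theorem F78073 : act 3 n19898 = n19543 := d23_1 D19898 (iv D19543) (iv F76602)
theorem F78074 : act 5 n19898 = n19572 := d30_1 D19898 (iv D19572) (iv D19083) (iv F74617) D19542
theorem F78075 : act 7 n19898 = n19748 := d33_2 (iv F76603) D19898 (iv D19748)
def n19899 : Q := act 6 n19546
theorem D19899 : act 6 n19546 = n19899 := rfl
theorem F78076 : act 0 n19899 = n19750 := d5_1 D19899 (iv D19750) (iv F76620)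
theorem F78077 : act 1 n19899 = n19690 := d12_1 D19899 F77236 (iv F76621)
theorem F78078 : act 2 n19899 = n19547 := d18_1 D19899 (iv D19547) (iv F76622)
theorem F78079 : act 3 n19899 = n19749 := d23_1 D19899 (iv D19749) (iv F76623)
theorem F78080 : act 5 n19899 = n19811 := d30_1 D19899 (iv D19811) (iv D19406) (iv F74645) D19546
theorem F78081 : act 7 n19899 = n19611 := d33_2 (iv F76624) D19899 (iv D19611)
theorem F78082 : act 8 n19899 = n19548 := d34_2 (iv F76625) D19899 (iv D19548)
def n19900 : Q := act 5 n19549
theorem D19900 : act 5 n19549 = n19900 := rfl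
theorem F78083 : act 2 n19900 = n19559 := d17_1 D19900 (iv D19559) (iv F76638)
theorem F78084 : act 3 n19900 = n19550 := d22_1 D19900 (iv D19550) D19549
theorem F78085 : act 7 n19900 = n19610 := d31_2 (iv F76640) D19900 (iv D19610)
theorem F78086 : act 8 n19900 = n19862 := d32_2 (iv F76641) D19900 F77892
def n19901 : Q := act 6 n19550
theorem D19901 : act 6 n19550 = n19901 := rfl
theorem F78087 : act 2 n19901 = n19551 := d18_1 D19901 (iv D19551) (iv F76642)
theorem F78088 : act 7 n19901 = n19749 := d33_2 (iv F76643) D19901 (iv D19749)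
theorem F78089 : act 8 n19901 = n19875 := d34_2 (iv F76644) D19901 F77969
def n19902 : Q := act 3 n19553
theorem D19902 : act 3 n19553 = n19902 := rfl
theorem F78090 : act 0 n19902 = n19608 := d2_1 D19902 (iv D19608) (iv F76653)
theorem F78091 : act 1 n19902 = n19554 := d9_1 D19902 (iv D19554) (iv F76654)
theorem F78092 : act 4 n19902 = n19902 := d21_2 D19553 D19902 (iv D19902) (iv D19553) F74686
theorem F78093 : act 6 n19902 = n19770 := d23_2 (iv F76656) D19902 F77563
theorem F78094 : act 7 n19902 = n19856 := d24_2 (iv F76657) D19902 (iv D19856) F76233 F75279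
theorem F78095 : act 8 n19902 = n19557 := d25_2 (iv F76658) D19902 (iv D19557)
def n19903 : Q := act 5 n19553
theorem D19903 : act 5 n19553 = n19903 := rfl
theorem F78096 : act 0 n19903 = n19609 := d4_1 D19903 (iv D19609) (iv F76653)
theorem F78097 : act 1 n19903 = n19555 := d11_1 D19903 (iv D19555) (iv F76654)
theorem F78098 : act 2 n19903 = n19625 := d17_1 D19903 (iv D19625) (iv F76655)
theorem F78099 : act 4 n19903 = n19563 := d26_1 D19903 (iv D19563) (iv D19076) (iv F74687) D19553
theorem F78100 : act 7 n19903 = n19621 := d31_2 (iv F76657) D19903 (iv D19621)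
theorem F78101 : act 8 n19903 = n19558 := d32_2 (iv F76658) D19903 (iv D19558)
def n19904 : Q := act 5 n19554
theorem D19904 : act 5 n19554 = n19904 := rfl
theorem F78102 : act 2 n19904 = n19862 := d17_1 D19904 F77892 (iv F76659)
theorem F78103 : act 3 n19904 = n19555 := d22_1 D19904 (iv D19555) D19554
theorem F78104 : act 7 n19904 = n19858 := d31_2 (iv F76662) D19904 (iv D19858)
theorem F78105 : act 8 n19904 = n19559 := d32_2 (iv F76663) D19904 (iv D19559)
def n19905 : Q := act 6 n19555
theorem D19905 : act 6 n19555 = n19905 := rfl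
theorem F78106 : act 2 n19905 = n19556 := d18_1 D19905 (iv D19556) (iv F76664)
theorem F78107 : act 4 n19905 = n19566 := d27_1 D19905 (iv D19566) (iv F76665)
theorem F78108 : act 5 n19905 = n19901 := d30_1 D19905 (iv D19901) (iv D19550) (iv F74692) D19555
theorem F78109 : act 7 n19905 = n19622 := d33_2 (iv F76666) D19905 (iv D19622)
theorem F78110 : act 8 n19905 = n19560 := d34_2 (iv F76667) D19905 (iv D19560)
def n19906 : Q := act 2 n19557
theorem D19906 : act 2 n19557 = n19906 := rfl
theorem F78111 : act 0 n19906 = n19612 := d1_1 D19906 (iv D19612) (iv F76673)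
theorem F78112 : act 3 n19906 = n19632 := d15_2 D19557 D19906 (iv D19632) (iv D19157) (iv F74701)
theorem F78113 : act 4 n19906 = n19906 := d16_2 F76675 D19906 (iv D19906)
theorem F78114 : act 6 n19906 = n19765 := d18_2 (iv F76676) D19906 F77551
theorem F78115 : act 7 n19906 = n19641 := d19_2 (iv F76677) D19906 F77029
def n19907 : Q := act 5 n19557
theorem D19907 : act 5 n19557 = n19907 := rfl
theorem F78116 : act 0 n19907 = n19613 := d4_1 D19907 (iv D19613) (iv F76673)
theorem F78117 : act 1 n19907 = n19559 := d11_1 D19907 (iv D19559) (iv F76674)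
theorem F78118 : act 3 n19907 = n19558 := d22_1 D19907 (iv D19558) D19557
theorem F78119 : act 7 n19907 = n19644 := d31_2 (iv F76677) D19907 (iv D19644)
def n19908 : Q := act 6 n19558
theorem D19908 : act 6 n19558 = n19908 := rfl
theorem F78120 : act 0 n19908 = n19614 := d5_1 D19908 (iv D19614) (iv F76678)
theorem F78121 : act 1 n19908 = n19560 := d12_1 D19908 (iv D19560) (iv F76679)
theorem F78122 : act 2 n19908 = n19634 := d18_1 D19908 (iv D19634) (iv F76680)
theorem F78123 : act 4 n19908 = n19570 := d27_1 D19908 (iv D19570) (iv F76681)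
theorem F78124 : act 5 n19908 = n19783 := d30_1 D19908 F77611 F75890 (iv F74702) D19558
theorem F78125 : act 7 n19908 = n19573 := d33_2 (iv F76682) D19908 (iv D19573)
def n19909 : Q := act 4 n19559
theorem D19909 : act 4 n19559 = n19909 := rfl
theorem F78126 : act 3 n19909 = n19571 := d21_1 D19909 (iv D19571) F74739 (iv F74706) (iv F76683)
theorem F78127 : act 5 n19909 = n19909 := d26_2 D19559 D19909 (iv D19909) (iv D19559) F74704
def n19910 : Q := act 6 n19559
theorem D19910 : act 6 n19559 = n19910 := rfl
theorem F78128 : act 3 n19910 = n19560 := d23_1 D19910 (iv D19560) (iv F76683)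
def n19911 : Q := act 3 n19561
theorem D19911 : act 3 n19561 = n19911 := rfl
theorem F78129 : act 0 n19911 = n19562 := d2_1 D19911 (iv D19562) (iv F76687)
theorem F78130 : act 1 n19911 = n19602 := d9_1 D19911 (iv D19602) (iv F76688)
theorem F78131 : act 2 n19911 = n19863 := d15_1 D19911 (iv D19863) F76265 F75279 (iv F76689)
theorem F78132 : act 4 n19911 = n19911 := d21_2 D19561 D19911 (iv D19911) (iv D19561) F74712
theorem F78133 : act 6 n19911 = n19804 := d23_2 (iv F76690) D19911 F77667
theorem F78134 : act 8 n19911 = n19567 := d25_2 (iv F76692) D19911 (iv D19567)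
def n19912 : Q := act 5 n19561
theorem D19912 : act 5 n19561 = n19912 := rfl
theorem F78135 : act 0 n19912 = n19563 := d4_1 D19912 (iv D19563) (iv F76687)
theorem F78136 : act 1 n19912 = n19603 := d11_1 D19912 (iv D19603) (iv F76688)
theorem F78137 : act 2 n19912 = n19621 := d17_1 D19912 (iv D19621) (iv F76689)
theorem F78138 : act 4 n19912 = n19609 := d26_1 D19912 (iv D19609) (iv D19130) (iv F74713) D19561
theorem F78139 : act 7 n19912 = n19625 := d31_2 (iv F76691) D19912 (iv D19625)
theorem F78140 : act 8 n19912 = n19568 := d32_2 (iv F76692) D19912 (iv D19568)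
def n19913 : Q := act 5 n19562
theorem D19913 : act 5 n19562 = n19913 := rfl
theorem F78141 : act 1 n19913 = n19564 := d11_1 D19913 (iv D19564) (iv F76693)
theorem F78142 : act 3 n19913 = n19563 := d22_1 D19913 (iv D19563) D19562
theorem F78143 : act 8 n19913 = n19569 := d32_2 (iv F76695) D19913 (iv D19569)
def n19914 : Q := act 7 n19562
theorem D19914 : act 7 n19562 = n19914 := rfl
theorem F78144 : act 1 n19914 = n19565 := d13_1 D19914 (iv D19565) (iv F76693)
theorem F78145 : act 3 n19914 = n19628 := d24_1 D19914 (iv D19628) (iv D19152) (iv F74719) D19562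
theorem F78146 : act 4 n19914 = n19914 := d28_1 D19914 (iv D19914) F76694
theorem F78147 : act 6 n19914 = n19772 := d33_1 D19914 (iv F77897) F77896
theorem F78148 : act 8 n19914 = n19686 := d35_2 (iv F76695) D19914 (iv D19686) F75351 (iv F74735)
def n19915 : Q := act 6 n19563
theorem D19915 : act 6 n19563 = n19915 := rfl
theorem F78149 : act 1 n19915 = n19566 := d12_1 D19915 (iv D19566) (iv F76696)
theorem F78150 : act 2 n19915 = n19690 := d18_1 D19915 F77236 (iv F76697)
theorem F78151 : act 7 n19915 = n19629 := d33_2 (iv F76698) D19915 (iv D19629)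
theorem F78152 : act 8 n19915 = n19570 := d34_2 (iv F76699) D19915 (iv D19570)
def n19916 : Q := act 4 n19564
theorem D19916 : act 4 n19564 = n19916 := rfl
theorem F78153 : act 5 n19916 = n19916 := d26_2 D19564 D19916 (iv D19916) (iv D19564) F74721
theorem F78154 : act 8 n19916 = n19571 := d29_2 (iv F76701) D19916 (iv D19571)
def n19917 : Q := act 6 n19564
theorem D19917 : act 6 n19564 = n19917 := rfl
theorem F78155 : act 3 n19917 = n19566 := d23_1 D19917 (iv D19566) (iv F76700)
theorem F78156 : act 8 n19917 = n19572 := d34_2 (iv F76701) D19917 (iv D19572)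
def n19918 : Q := act 7 n19564
theorem D19918 : act 7 n19564 = n19918 := rfl
theorem F78157 : act 0 n19918 = n19710 := d6_1 D19918 (iv F77983) F77980
theorem F78158 : act 2 n19918 = n19736 := d19_1 D19918 (iv F77955) F77953
theorem F78159 : act 3 n19918 = n19631 := d24_1 D19918 (iv D19631) F75024 (iv F74724) (iv F76700)
theorem F78160 : act 5 n19918 = n19565 := d31_1 D19918 (iv D19565) D19564
theorem F78161 : act 8 n19918 = n19843 := d35_2 (iv F76701) D19918 (iv D19843) F76124 (iv F74740)
def n19919 : Q := act 5 n19567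
theorem D19919 : act 5 n19567 = n19919 := rfl
theorem F78162 : act 0 n19919 = n19569 := d4_1 D19919 (iv D19569) (iv F76711)
theorem F78163 : act 1 n19919 = n19605 := d11_1 D19919 (iv D19605) (iv F76712)
theorem F78164 : act 2 n19919 = n19895 := d17_1 D19919 (iv D19895) (iv F76713)
theorem F78165 : act 3 n19919 = n19568 := d22_1 D19919 (iv D19568) D19567
theorem F78166 : act 7 n19919 = n19675 := d31_2 (iv F76716) D19919 (iv D19675)
def n19920 : Q := act 6 n19568
theorem D19920 : act 6 n19568 = n19920 := rfl
theorem F78167 : act 0 n19920 = n19570 := d5_1 D19920 (iv D19570) (iv F76717)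
theorem F78168 : act 1 n19920 = n19607 := d12_1 D19920 (iv D19607) (iv F76718)
theorem F78169 : act 2 n19920 = n19623 := d18_1 D19920 (iv D19623) (iv F76719)
theorem F78170 : act 4 n19920 = n19614 := d27_1 D19920 (iv D19614) (iv F76720)
theorem F78171 : act 5 n19920 = n19805 := d30_1 D19920 F77670 F75946 (iv F74731) D19568
theorem F78172 : act 7 n19920 = n19574 := d33_2 (iv F76721) D19920 (iv D19574)
def n19921 : Q := act 4 n19569
theorem D19921 : act 4 n19569 = n19921 := rfl
theorem F78173 : act 1 n19921 = n19571 := d10_1 D19921 (iv D19571) (iv F76722)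
theorem F78174 : act 5 n19921 = n19921 := d26_2 D19569 D19921 (iv D19921) (iv D19569) F74734
theorem F78175 : act 7 n19921 = n19688 := d28_2 (iv F76724) D19921 (iv D19688)
def n19922 : Q := act 6 n19569
theorem D19922 : act 6 n19569 = n19922 := rfl
theorem F78176 : act 1 n19922 = n19572 := d12_1 D19922 (iv D19572) (iv F76722)
theorem F78177 : act 3 n19922 = n19570 := d23_1 D19922 (iv D19570) (iv F76723)
theorem F78178 : act 7 n19922 = n19689 := d33_2 (iv F76724) D19922 (iv D19689)
def n19923 : Q := act 6 n19571
theorem D19923 : act 6 n19571 = n19923 := rfl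
theorem F78179 : act 4 n19923 = n19572 := d27_1 D19923 (iv D19572) D19571
theorem F78180 : act 7 n19923 = n19844 := d33_2 (iv F76729) D19923 (iv D19844)
def n19924 : Q := act 4 n19575
theorem D19924 : act 4 n19575 = n19924 := rfl
theorem F78181 : act 1 n19924 = n19654 := d10_1 D19924 (iv D19654) (iv F76746)
theorem F78182 : act 3 n19924 = n19767 := d21_1 D19924 (iv D19767) F75826 (iv F74775) (iv F76747)
theorem F78183 : act 5 n19924 = n19924 := d26_2 D19575 D19924 (iv D19924) (iv D19575) F74769
theorem F78184 : act 7 n19924 = n19615 := d28_2 (iv F76748) D19924 (iv D19615)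
theorem F78185 : act 8 n19924 = n19860 := d29_2 (iv F76749) D19924 (iv D19860)
def n19925 : Q := act 6 n19575
theorem D19925 : act 6 n19575 = n19925 := rfl
theorem F78186 : act 1 n19925 = n19655 := d12_1 D19925 (iv D19655) (iv F76746)
theorem F78187 : act 3 n19925 = n19576 := d23_1 D19925 (iv D19576) (iv F76747)
theorem F78188 : act 5 n19925 = n19697 := d30_1 D19925 (iv D19697) (iv D19257) (iv F74770) D19575
theorem F78189 : act 7 n19925 = n19616 := d33_2 (iv F76748) D19925 (iv D19616)
theorem F78190 : act 8 n19925 = n19861 := d34_2 (iv F76749) D19925 (iv D19861)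
def n19926 : Q := act 5 n19577
theorem D19926 : act 5 n19577 = n19926 := rfl
theorem F78191 : act 0 n19926 = n19769 := d4_1 D19926 F77561 (iv F76756)
theorem F78192 : act 1 n19926 = n19579 := d11_1 D19926 (iv D19579) (iv F76757)
theorem F78193 : act 3 n19926 = n19578 := d22_1 D19926 (iv D19578) D19577
theorem F78194 : act 7 n19926 = n19639 := d31_2 (iv F76760) D19926 (iv D19639)
def n19927 : Q := act 6 n19578
theorem D19927 : act 6 n19578 = n19927 := rfl
theorem F78195 : act 0 n19927 = n19783 := d5_1 D19927 F77611 (iv F76761)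
theorem F78196 : act 1 n19927 = n19580 := d12_1 D19927 (iv D19580) (iv F76762)
theorem F78197 : act 2 n19927 = n19587 := d18_1 D19927 (iv D19587) (iv F76763)
theorem F78198 : act 4 n19927 = n19791 := d27_1 D19927 (iv D19791) (iv F76764)
theorem F78199 : act 5 n19927 = n19614 := d30_1 D19927 (iv D19614) (iv D19135) (iv F74792) D19578
theorem F78200 : act 7 n19927 = n19581 := d33_2 (iv F76765) D19927 (iv D19581)
def n19928 : Q := act 4 n19579
theorem D19928 : act 4 n19579 = n19928 := rfl
theorem F78201 : act 0 n19928 = n19839 := d3_1 D19928 (iv D19839) (iv F76766)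
theorem F78202 : act 2 n19928 = n19924 := d16_1 D19928 (iv D19924) (iv F76767)
theorem F78203 : act 3 n19928 = n19792 := d21_1 D19928 (iv D19792) F75912 (iv F74801) (iv F76768)
theorem F78204 : act 5 n19928 = n19928 := d26_2 D19579 D19928 (iv D19928) (iv D19579) F74796
theorem F78205 : act 7 n19928 = n19696 := d28_2 (iv F76769) D19928 (iv D19696)
def n19929 : Q := act 6 n19579
theorem D19929 : act 6 n19579 = n19929 := rfl
theorem F78206 : act 0 n19929 = n19840 := d5_1 D19929 (iv D19840) (iv F76766)
theorem F78207 : act 2 n19929 = n19925 := d18_1 D19929 (iv D19925) (iv F76767)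
theorem F78208 : act 3 n19929 = n19580 := d23_1 D19929 (iv D19580) (iv F76768)
theorem F78209 : act 5 n19929 = n19616 := d30_1 D19929 (iv D19616) (iv D19136) (iv F74797) D19579
theorem F78210 : act 7 n19929 = n19697 := d33_2 (iv F76769) D19929 (iv D19697)
def n19930 : Q := act 6 n19583
theorem D19930 : act 6 n19583 = n19930 := rfl
theorem F78211 : act 0 n19930 = n19757 := d5_1 D19930 (iv D19757) (iv F76788)
theorem F78212 : act 1 n19930 = n19585 := d12_1 D19930 (iv D19585) (iv F76789)
theorem F78213 : act 2 n19930 = n19791 := d18_1 D19930 (iv D19791) (iv F76790)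
theorem F78214 : act 4 n19930 = n19587 := d27_1 D19930 (iv D19587) (iv F76791)
theorem F78215 : act 5 n19930 = n19807 := d30_1 D19930 F77677 F75956 (iv F74829) D19583
theorem F78216 : act 7 n19930 = n19588 := d33_2 (iv F76792) D19930 (iv D19588)
def n19931 : Q := act 6 n19584
theorem D19931 : act 6 n19584 = n19931 := rfl
theorem F78217 : act 0 n19931 = n19760 := d5_1 D19931 (iv D19760) (iv F76793)
theorem F78218 : act 3 n19931 = n19585 := d23_1 D19931 (iv D19585) (iv F76794)
theorem F78219 : act 5 n19931 = n19853 := d30_1 D19931 (iv D19853) (iv D19467) (iv F74833) D19584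
def n19932 : Q := act 6 n19586
theorem D19932 : act 6 n19586 = n19932 := rfl
theorem F78220 : act 0 n19932 = n19587 := d5_1 D19932 (iv D19587) (iv F76800)
theorem F78221 : act 1 n19932 = n19754 := d12_1 D19932 (iv D19754) (iv F76801)
theorem F78222 : act 2 n19932 = n19783 := d18_1 D19932 F77611 (iv F76802)
theorem F78223 : act 4 n19932 = n19757 := d27_1 D19932 (iv D19757) (iv F76803)
theorem F78224 : act 5 n19932 = n19634 := d30_1 D19932 (iv D19634) (iv D19158) (iv F74845) D19586
theorem F78225 : act 7 n19932 = n19589 := d33_2 (iv F76804) D19932 (iv D19589)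
def n19933 : Q := act 5 n19591
theorem D19933 : act 5 n19591 = n19933 := rfl
theorem F78226 : act 0 n19933 = n19610 := d4_1 D19933 (iv D19610) (iv F76827)
theorem F78227 : act 2 n19933 = n19692 := d17_1 D19933 (iv D19692) (iv F76828)
theorem F78228 : act 3 n19933 = n19592 := d22_1 D19933 (iv D19592) D19591
theorem F78229 : act 8 n19933 = n19594 := d32_2 (iv F76831) D19933 (iv D19594)
def n19934 : Q := act 6 n19592
theorem D19934 : act 6 n19592 = n19934 := rfl
theorem F78230 : act 0 n19934 = n19611 := d5_1 D19934 (iv D19611) (iv F76832)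
theorem F78231 : act 2 n19934 = n19593 := d18_1 D19934 (iv D19593) (iv F76833)
theorem F78232 : act 5 n19934 = n19838 := d30_1 D19934 (iv D19838) (iv D19444) (iv F74885) D19592
theorem F78233 : act 7 n19934 = n19750 := d33_2 (iv F76834) D19934 (iv D19750)
theorem F78234 : act 8 n19934 = n19595 := d34_2 (iv F76835) D19934 (iv D19595)
def n19935 : Q := act 4 n19594
theorem D19935 : act 4 n19594 = n19935 := rfl
theorem F78235 : act 0 n19935 = n19615 := d3_1 D19935 (iv D19615) (iv F76842)
theorem F78236 : act 5 n19935 = n19935 := d26_2 D19594 D19935 (iv D19935) (iv D19594) F74894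
def n19936 : Q := act 6 n19594
theorem D19936 : act 6 n19594 = n19936 := rfl
theorem F78237 : act 0 n19936 = n19616 := d5_1 D19936 (iv D19616) (iv F76842)
theorem F78238 : act 3 n19936 = n19595 := d23_1 D19936 (iv D19595) (iv F76843)
theorem F78239 : act 5 n19936 = n19840 := d30_1 D19936 (iv D19840) (iv D19446) (iv F74895) D19594
def n19937 : Q := act 5 n19596
theorem D19937 : act 5 n19596 = n19937 := rfl
theorem F78240 : act 1 n19937 = n19878 := d11_1 D19937 (iv D19878) (iv F76848)
theorem F78241 : act 2 n19937 = n19605 := d17_1 D19937 (iv D19605) (iv F76849)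
theorem F78242 : act 3 n19937 = n19597 := d22_1 D19937 (iv D19597) D19596
theorem F78243 : act 8 n19937 = n19880 := d32_2 (iv F76852) D19937 (iv D19880)
def n19938 : Q := act 6 n19597
theorem D19938 : act 6 n19597 = n19938 := rfl
theorem F78244 : act 1 n19938 = n19879 := d12_1 D19938 (iv D19879) (iv F76853)
theorem F78245 : act 2 n19938 = n19598 := d18_1 D19938 (iv D19598) (iv F76854)
theorem F78246 : act 4 n19938 = n19934 := d27_1 D19938 (iv D19934) (iv F76855)
theorem F78247 : act 5 n19938 = n19889 := d30_1 D19938 (iv D19889) (iv D19531) (iv F74914) D19597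
theorem F78248 : act 7 n19938 = n19758 := d33_2 (iv F76856) D19938 (iv D19758)
theorem F78249 : act 8 n19938 = n19881 := d34_2 (iv F76857) D19938 (iv D19881)
def n19939 : Q := act 5 n19599
theorem D19939 : act 5 n19599 = n19939 := rfl
theorem F78250 : act 0 n19939 = n19743 := d4_1 D19939 (iv D19743) (iv F76863)
theorem F78251 : act 1 n19939 = n19803 := d11_1 D19939 F77664 (iv F76864)
theorem F78252 : act 2 n19939 = n19888 := d17_1 D19939 (iv D19888) (iv F76865)
theorem F78253 : act 3 n19939 = n19600 := d22_1 D19939 (iv D19600) D19599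
theorem F78254 : act 7 n19939 = n19799 := d31_2 (iv F76868) D19939 (iv D19799)
def n19940 : Q := act 6 n19600
theorem D19940 : act 6 n19600 = n19940 := rfl
theorem F78255 : act 0 n19940 = n19744 := d5_1 D19940 (iv D19744) (iv F76869)
theorem F78256 : act 1 n19940 = n19805 := d12_1 D19940 F77670 (iv F76870)
theorem F78257 : act 2 n19940 = n19601 := d18_1 D19940 (iv D19601) (iv F76871)
theorem F78258 : act 4 n19940 = n19737 := d27_1 D19940 (iv D19737) (iv F76872)
theorem F78259 : act 5 n19940 = n19607 := d30_1 D19940 (iv D19607) (iv D19128) (iv F74925) D19600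
theorem F78260 : act 7 n19940 = n19617 := d33_2 (iv F76873) D19940 (iv D19617)
def n19941 : Q := act 5 n19602
theorem D19941 : act 5 n19602 = n19941 := rfl
theorem F78261 : act 0 n19941 = n19937 := d4_1 D19941 (iv D19937) (iv F76879)
theorem F78262 : act 2 n19941 = n19880 := d17_1 D19941 (iv D19880) (iv F76880)
theorem F78263 : act 3 n19941 = n19603 := d22_1 D19941 (iv D19603) D19602
theorem F78264 : act 8 n19941 = n19605 := d32_2 (iv F76882) D19941 (iv D19605)
def n19942 : Q := act 6 n19603
theorem D19942 : act 6 n19603 = n19942 := rfl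
theorem F78265 : act 0 n19942 = n19938 := d5_1 D19942 (iv D19938) (iv F76883)
theorem F78266 : act 2 n19942 = n19604 := d18_1 D19942 (iv D19604) (iv F76884)
theorem F78267 : act 4 n19942 = n19611 := d27_1 D19942 (iv D19611) (iv F76885)
theorem F78268 : act 8 n19942 = n19607 := d34_2 (iv F76886) D19942 (iv D19607)
def n19943 : Q := act 4 n19605
theorem D19943 : act 4 n19605 = n19943 := rfl
theorem F78269 : act 3 n19943 = n19615 := d21_1 D19943 (iv D19615) F74962 (iv F74941) (iv F76892)
theorem F78270 : act 5 n19943 = n19943 := d26_2 D19605 D19943 (iv D19943) (iv D19605) F74939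
def n19944 : Q := act 6 n19605
theorem D19944 : act 6 n19605 = n19944 := rfl
theorem F78271 : act 3 n19944 = n19607 := d23_1 D19944 (iv D19607) (iv F76892)
def n19945 : Q := act 7 n19605
theorem D19945 : act 7 n19605 = n19945 := rfl
theorem F78272 : act 0 n19945 = n19790 := d6_1 D19945 (iv F77993) F77990
theorem F78273 : act 1 n19945 = n19675 := d13_1 D19945 (iv F78166) F78163
theorem F78274 : act 3 n19945 = n19619 := d24_1 D19945 (iv D19619) F74980 (iv F74942) (iv F76892)
theorem F78275 : act 5 n19945 = n19606 := d31_1 D19945 (iv D19606) D19605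
def n19946 : Q := act 8 n19606
theorem D19946 : act 8 n19606 = n19946 := rfl
theorem F78276 : act 0 n19946 = n19785 := d7_1 D19946 F77617 (iv F76893)
theorem F78277 : act 1 n19946 = n19672 := d14_1 D19946 F77159 (iv F76894)
theorem F78278 : act 3 n19946 = n19620 := d25_1 D19946 (iv D19620) (iv F76895)
theorem F78279 : act 4 n19946 = n19946 := d29_1 D19946 (iv D19946) F76896
theorem F78280 : act 6 n19946 = n19794 := d34_1 D19946 F77642 (iv F76897)
def n19947 : Q := act 2 n19608
theorem D19947 : act 2 n19608 = n19947 := rfl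
theorem F78281 : act 1 n19947 = n19641 := d8_1 D19947 F77029 (iv F75420) F75421 (iv F76901)
theorem F78282 : act 3 n19947 = n19626 := d15_2 D19608 D19947 (iv D19626) (iv D19152) (iv F74947)
theorem F78283 : act 4 n19947 = n19947 := d16_2 F76902 D19947 (iv D19947)
theorem F78284 : act 6 n19947 = n19762 := d18_2 F77866 D19947 (iv F77864)
theorem F78285 : act 8 n19947 = n19612 := d20_2 (iv F76903) D19947 (iv D19612)
def n19948 : Q := act 5 n19608
theorem D19948 : act 5 n19608 = n19948 := rfl
theorem F78286 : act 1 n19948 = n19610 := d11_1 D19948 (iv D19610) (iv F76901)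
theorem F78287 : act 3 n19948 = n19609 := d22_1 D19948 (iv D19609) D19608
theorem F78288 : act 8 n19948 = n19613 := d32_2 (iv F76903) D19948 (iv D19613)
def n19949 : Q := act 6 n19609
theorem D19949 : act 6 n19609 = n19949 := rfl
theorem F78289 : act 1 n19949 = n19611 := d12_1 D19949 (iv D19611) (iv F76904)
theorem F78290 : act 2 n19949 = n19629 := d18_1 D19949 (iv D19629) (iv F76905)
theorem F78291 : act 7 n19949 = n19690 := d33_2 (iv F76906) D19949 F77236
theorem F78292 : act 8 n19949 = n19614 := d34_2 (iv F76907) D19949 (iv D19614)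
def n19950 : Q := act 4 n19610
theorem D19950 : act 4 n19610 = n19950 := rfl
theorem F78293 : act 5 n19950 = n19950 := d26_2 D19610 D19950 (iv D19950) (iv D19610) F74950
theorem F78294 : act 8 n19950 = n19615 := d29_2 (iv F76909) D19950 (iv D19615)
def n19951 : Q := act 6 n19610
theorem D19951 : act 6 n19610 = n19951 := rfl
theorem F78295 : act 3 n19951 = n19611 := d23_1 D19951 (iv D19611) (iv F76908)
theorem F78296 : act 8 n19951 = n19616 := d34_2 (iv F76909) D19951 (iv D19616)
def n19952 : Q := act 5 n19612
theorem D19952 : act 5 n19612 = n19952 := rfl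
theorem F78297 : act 1 n19952 = n19817 := d11_1 D19952 (iv D19817) (iv F76912)
theorem F78298 : act 2 n19952 = n19613 := d17_1 D19952 (iv D19613) D19612
theorem F78299 : act 3 n19952 = n19635 := d22_1 D19952 (iv D19635) (iv F76913)
theorem F78300 : act 7 n19952 = n19652 := d31_2 (iv F76915) D19952 (iv D19652)
def n19953 : Q := act 4 n19613
theorem D19953 : act 4 n19613 = n19953 := rfl
theorem F78301 : act 1 n19953 = n19615 := d10_1 D19953 (iv D19615) (iv F76916)
theorem F78302 : act 5 n19953 = n19953 := d26_2 D19613 D19953 (iv D19953) (iv D19613) F74957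
theorem F78303 : act 7 n19953 = n19654 := d28_2 (iv F76918) D19953 (iv D19654)
def n19954 : Q := act 6 n19613
theorem D19954 : act 6 n19613 = n19954 := rfl
theorem F78304 : act 1 n19954 = n19616 := d12_1 D19954 (iv D19616) (iv F76916)
theorem F78305 : act 3 n19954 = n19614 := d23_1 D19954 (iv D19614) (iv F76917)
theorem F78306 : act 7 n19954 = n19655 := d33_2 (iv F76918) D19954 (iv D19655)
def n19955 : Q := act 6 n19615
theorem D19955 : act 6 n19615 = n19955 := rfl
theorem F78307 : act 4 n19955 = n19616 := d27_1 D19955 (iv D19616) D19615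
def n19956 : Q := act 7 n19618
theorem D19956 : act 7 n19618 = n19956 := rfl
theorem F78308 : act 0 n19956 = n19791 := d6_1 D19956 F77635 (iv F76931)
theorem F78309 : act 1 n19956 = n19676 := d13_1 D19956 F77177 (iv F76932)
theorem F78310 : act 2 n19956 = n19757 := d19_1 D19956 F77520 (iv F76933)
theorem F78311 : act 4 n19956 = n19783 := d28_1 D19956 (iv D19783) (iv F76935)
theorem F78312 : act 5 n19956 = n19800 := d31_1 D19956 F77657 (iv F76936)
theorem F78313 : act 6 n19956 = n19619 := d33_1 D19956 (iv D19619) D19618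
def n19957 : Q := act 8 n19619
theorem D19957 : act 8 n19619 = n19957 := rfl
theorem F78314 : act 0 n19957 = n19786 := d7_1 D19957 F77620 (iv F76938)
theorem F78315 : act 1 n19957 = n19673 := d14_1 D19957 F77164 (iv F76939)
theorem F78316 : act 2 n19957 = n19755 := d20_1 D19957 F77511 (iv F76940)
theorem F78317 : act 4 n19957 = n19784 := d29_1 D19957 (iv D19784) (iv F76941)
theorem F78318 : act 5 n19957 = n19620 := d32_1 D19957 (iv D19620) (iv F76942)
theorem F78319 : act 7 n19957 = n19809 := d35_1 D19957 (iv D19809) (iv D19402) (iv F74982) D19619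
def n19958 : Q := act 6 n19621
theorem D19958 : act 6 n19621 = n19958 := rfl
theorem F78320 : act 0 n19958 = n19690 := d5_1 D19958 F77236 (iv F76949)
theorem F78321 : act 1 n19958 = n19622 := d12_1 D19958 (iv D19622) (iv F76950)
theorem F78322 : act 4 n19958 = n19629 := d27_1 D19958 (iv D19629) (iv F76951)
theorem F78323 : act 5 n19958 = n19810 := d30_1 D19958 F77689 F75961 (iv F75000) D19621
theorem F78324 : act 8 n19958 = n19623 := d34_2 (iv F76952) D19958 (iv D19623)
def n19959 : Q := act 2 n19624
theorem D19959 : act 2 n19624 = n19959 := rfl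
theorem F78325 : act 0 n19959 = n19626 := d1_1 D19959 (iv D19626) (iv F76961)
theorem F78326 : act 1 n19959 = n19649 := d8_1 D19959 F77068 F75188 (iv F75520) (iv F76962)
theorem F78327 : act 4 n19959 = n19637 := d16_2 (iv F76963) D19959 (iv D19637)
theorem F78328 : act 6 n19959 = n19761 := d18_2 (iv F76964) D19959 F77539
theorem F78329 : act 8 n19959 = n19632 := d20_2 (iv F76965) D19959 (iv D19632)
theorem F78330 : act 7 n19777 = n19959 := d35_5 F78329 F76993 F76076 (iv F77099) (iv F77591)
def n19960 : Q := act 5 n19624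
theorem D19960 : act 5 n19624 = n19960 := rfl
theorem F78331 : act 0 n19960 = n19627 := d4_1 D19960 (iv D19627) (iv F76961)
theorem F78332 : act 1 n19960 = n19712 := d11_1 D19960 (iv D19712) (iv F76962)
theorem F78333 : act 3 n19960 = n19625 := d22_1 D19960 (iv D19625) D19624
theorem F78334 : act 8 n19960 = n19633 := d32_2 (iv F76965) D19960 (iv D19633)
def n19961 : Q := act 7 n19624
theorem D19961 : act 7 n19624 = n19961 := rfl
theorem F78335 : act 0 n19961 = n19628 := d6_1 D19961 (iv D19628) (iv F76961)
theorem F78336 : act 1 n19961 = n19707 := d13_1 D19961 F77318 (iv F76962)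
theorem F78337 : act 2 n19961 = n19777 := d19_1 D19961 F78330 (iv D19959)
theorem F78338 : act 4 n19961 = n19638 := d28_1 D19961 (iv D19638) (iv F76963)
theorem F78339 : act 6 n19961 = n19771 := d33_1 D19961 F77568 (iv F76964)
theorem F78340 : act 8 n19961 = n19848 := d35_2 (iv F76965) D19961 (iv D19848) F76169 (iv F75035)
def n19962 : Q := act 6 n19625
theorem D19962 : act 6 n19625 = n19962 := rfl
theorem F78341 : act 0 n19962 = n19629 := d5_1 D19962 (iv D19629) (iv F76966)
theorem F78342 : act 4 n19962 = n19690 := d27_1 D19962 F77236 (iv F76967)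
theorem F78343 : act 8 n19962 = n19634 := d34_2 (iv F76968) D19962 (iv D19634)
def n19963 : Q := act 5 n19626
theorem D19963 : act 5 n19626 = n19963 := rfl
theorem F78344 : act 1 n19963 = n19642 := d11_1 D19963 (iv D19642) (iv F76969)
theorem F78345 : act 2 n19963 = n19627 := d17_1 D19963 (iv D19627) D19626
theorem F78346 : act 4 n19963 = n19821 := d26_1 D19963 (iv D19821) (iv D19423) (iv F75063) (iv F76970)
theorem F78347 : act 8 n19963 = n19635 := d32_2 (iv F76972) D19963 (iv D19635)
def n19964 : Q := act 6 n19627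
theorem D19964 : act 6 n19627 = n19964 := rfl
theorem F78348 : act 1 n19964 = n19630 := d12_1 D19964 (iv D19630) (iv F76973)
theorem F78349 : act 3 n19964 = n19629 := d23_1 D19964 (iv D19629) (iv F76974)
theorem F78350 : act 5 n19964 = n19782 := d30_1 D19964 (iv D19782) (iv D19373) (iv F75018) D19627
theorem F78351 : act 8 n19964 = n19636 := d34_2 (iv F76975) D19964 (iv D19636)
def n19965 : Q := act 7 n19627
theorem D19965 : act 7 n19627 = n19965 := rfl
theorem F78352 : act 1 n19965 = n19631 := d13_1 D19965 (iv D19631) (iv F76973)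
theorem F78353 : act 5 n19965 = n19628 := d31_1 D19965 (iv D19628) D19627
theorem F78354 : act 8 n19965 = n19851 := d35_2 (iv F76975) D19965 (iv D19851) F76178 (iv F75044)
def n19966 : Q := act 7 n19630
theorem D19966 : act 7 n19630 = n19966 := rfl
theorem F78355 : act 0 n19966 = n19711 := d6_1 D19966 F77331 (iv F76982)
theorem F78356 : act 2 n19966 = n19700 := d19_1 D19966 F77279 (iv F76983)
theorem F78357 : act 5 n19966 = n19775 := d31_1 D19966 F77580 (iv F76985)
theorem F78358 : act 6 n19966 = n19631 := d33_1 D19966 (iv D19631) D19630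
theorem F78359 : act 8 n19966 = n19852 := d35_2 (iv F76986) D19966 (iv D19852) F76187 (iv F75048)
def n19967 : Q := act 5 n19632
theorem D19967 : act 5 n19632 = n19967 := rfl
theorem F78360 : act 0 n19967 = n19635 := d4_1 D19967 (iv D19635) (iv F76991)
theorem F78361 : act 2 n19967 = n19633 := d17_1 D19967 (iv D19633) D19632
theorem F78362 : act 4 n19967 = n19825 := d26_1 D19967 (iv D19825) (iv D19427) (iv F75072) (iv F76992)
theorem F78363 : act 7 n19967 = n19831 := d31_2 (iv F76993) D19967 (iv D19831)
def n19968 : Q := act 6 n19633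
theorem D19968 : act 6 n19633 = n19968 := rfl
theorem F78364 : act 0 n19968 = n19636 := d5_1 D19968 (iv D19636) (iv F76994)
theorem F78365 : act 3 n19968 = n19634 := d23_1 D19968 (iv D19634) (iv F76995)
theorem F78366 : act 7 n19968 = n19853 := d33_2 (iv F76996) D19968 (iv D19853)
def n19969 : Q := act 6 n19635
theorem D19969 : act 6 n19635 = n19969 := rfl
theorem F78367 : act 1 n19969 = n19818 := d12_1 D19969 (iv D19818) (iv F77000)
theorem F78368 : act 2 n19969 = n19636 := d18_1 D19969 (iv D19636) (iv F77001)
theorem F78369 : act 4 n19969 = n19827 := d27_1 D19969 (iv D19827) (iv F77002)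
theorem F78370 : act 7 n19969 = n19832 := d33_2 (iv F77003) D19969 (iv D19832)
def n19970 : Q := act 4 n19639
theorem D19970 : act 4 n19639 = n19970 := rfl
theorem F78371 : act 0 n19970 = n19767 := d3_1 D19970 (iv D19767) (iv F77020)
theorem F78372 : act 1 n19970 = n19696 := d10_1 D19970 (iv D19696) (iv F77021)
theorem F78373 : act 5 n19970 = n19970 := d26_2 D19639 D19970 (iv D19970) (iv D19639) F75101
def n19971 : Q := act 6 n19639
theorem D19971 : act 6 n19639 = n19971 := rfl
theorem F78374 : act 0 n19971 = n19768 := d5_1 D19971 (iv D19768) (iv F77020)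
theorem F78375 : act 1 n19971 = n19697 := d12_1 D19971 (iv D19697) (iv F77021)
theorem F78376 : act 3 n19971 = n19640 := d23_1 D19971 (iv D19640) (iv F77022)
theorem F78377 : act 5 n19971 = n19655 := d30_1 D19971 (iv D19655) (iv D19189) (iv F75102) D19639
def n19972 : Q := act 5 n19641
theorem D19972 : act 5 n19641 = n19972 := rfl
theorem F78378 : act 0 n19972 = n19652 := d4_1 D19972 (iv D19652) (iv F77028)
theorem F78379 : act 2 n19972 = n19644 := d17_1 D19972 (iv D19644) (iv F77029)
theorem F78380 : act 3 n19972 = n19642 := d22_1 D19972 (iv D19642) D19641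
theorem F78381 : act 8 n19972 = n19817 := d32_2 (iv F77032) D19972 (iv D19817)
def n19973 : Q := act 6 n19642
theorem D19973 : act 6 n19642 = n19973 := rfl
theorem F78382 : act 0 n19973 = n19653 := d5_1 D19973 (iv D19653) (iv F77033)
theorem F78383 : act 2 n19973 = n19643 := d18_1 D19973 (iv D19643) (iv F77034)
theorem F78384 : act 4 n19973 = n19823 := d27_1 D19973 (iv D19823) (iv F77035)
theorem F78385 : act 5 n19973 = n19766 := d30_1 D19973 (iv D19766) (iv D19357) (iv F75118) D19642
theorem F78386 : act 8 n19973 = n19818 := d34_2 (iv F77036) D19973 (iv D19818)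
def n19974 : Q := act 4 n19644
theorem D19974 : act 4 n19644 = n19974 := rfl
theorem F78387 : act 0 n19974 = n19654 := d3_1 D19974 (iv D19654) (iv F77043)
theorem F78388 : act 5 n19974 = n19974 := d26_2 D19644 D19974 (iv D19974) (iv D19644) F75126
theorem F78389 : act 8 n19974 = n19970 := d29_2 (iv F77045) D19974 (iv D19970)
def n19975 : Q := act 6 n19644
theorem D19975 : act 6 n19644 = n19975 := rfl
theorem F78390 : act 0 n19975 = n19655 := d5_1 D19975 (iv D19655) (iv F77043)
theorem F78391 : act 3 n19975 = n19645 := d23_1 D19975 (iv D19645) (iv F77044)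
theorem F78392 : act 5 n19975 = n19768 := d30_1 D19975 (iv D19768) (iv D19359) (iv F75127) D19644
theorem F78393 : act 8 n19975 = n19971 := d34_2 (iv F77045) D19975 (iv D19971)
def n19976 : Q := act 5 n19646
theorem D19976 : act 5 n19646 = n19976 := rfl
theorem F78394 : act 0 n19976 = n19822 := d4_1 D19976 (iv D19822) (iv F77051)
theorem F78395 : act 2 n19976 = n19787 := d17_1 D19976 (iv D19787) (iv F77052)
theorem F78396 : act 3 n19976 = n19647 := d22_1 D19976 (iv D19647) D19646
theorem F78397 : act 7 n19976 = n19745 := d31_2 (iv F77055) D19976 (iv D19745)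
theorem F78398 : act 8 n19976 = n19774 := d32_2 (iv F77056) D19976 (iv D19774)
def n19977 : Q := act 6 n19647
theorem D19977 : act 6 n19647 = n19977 := rfl
theorem F78399 : act 0 n19977 = n19823 := d5_1 D19977 (iv D19823) (iv F77057)
theorem F78400 : act 2 n19977 = n19648 := d18_1 D19977 (iv D19648) (iv F77058)
theorem F78401 : act 4 n19977 = n19653 := d27_1 D19977 (iv D19653) (iv F77059)
theorem F78402 : act 5 n19977 = n19852 := d30_1 D19977 F77846 F76190 (iv F75140) D19647
theorem F78403 : act 7 n19977 = n19759 := d33_2 (iv F77060) D19977 (iv D19759)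
theorem F78404 : act 8 n19977 = n19775 := d34_2 (iv F77061) D19977 (iv D19775)
def n19978 : Q := act 5 n19649
theorem D19978 : act 5 n19649 = n19978 := rfl
theorem F78405 : act 0 n19978 = n19651 := d4_1 D19978 (iv D19651) (iv F77067)
theorem F78406 : act 2 n19978 = n19662 := d17_1 D19978 (iv D19662) (iv F77068)
theorem F78407 : act 7 n19978 = n19779 := d31_2 (iv F77070) D19978 (iv D19779)
def n19979 : Q := act 5 n19650
theorem D19979 : act 5 n19650 = n19979 := rfl
theorem F78408 : act 1 n19979 = n19652 := d11_1 D19979 (iv D19652) (iv F77071)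
theorem F78409 : act 2 n19979 = n19926 := d17_1 D19979 (iv D19926) (iv F77072)
theorem F78410 : act 3 n19979 = n19651 := d22_1 D19979 (iv D19651) D19650
theorem F78411 : act 7 n19979 = n19817 := d31_2 (iv F77075) D19979 (iv D19817)
def n19980 : Q := act 6 n19651
theorem D19980 : act 6 n19651 = n19980 := rfl
theorem F78412 : act 1 n19980 = n19653 := d12_1 D19980 (iv D19653) (iv F77076)
theorem F78413 : act 2 n19980 = n19663 := d18_1 D19980 (iv D19663) (iv F77077)
theorem F78414 : act 5 n19980 = n19969 := d30_1 D19980 (iv D19969) (iv D19635) (iv F75154) D19651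
theorem F78415 : act 7 n19980 = n19833 := d33_2 (iv F77078) D19980 (iv D19833)
def n19981 : Q := act 4 n19652
theorem D19981 : act 4 n19652 = n19981 := rfl
theorem F78416 : act 2 n19981 = n19654 := d16_1 D19981 (iv D19654) (iv F77079)
theorem F78417 : act 5 n19981 = n19981 := d26_2 D19652 D19981 (iv D19981) (iv D19652) F75157
def n19982 : Q := act 6 n19652
theorem D19982 : act 6 n19652 = n19982 := rfl
theorem F78418 : act 2 n19982 = n19655 := d18_1 D19982 (iv D19655) (iv F77079)
theorem F78419 : act 3 n19982 = n19653 := d23_1 D19982 (iv D19653) (iv F77080)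
def n19983 : Q := act 6 n19654
theorem D19983 : act 6 n19654 = n19983 := rfl
theorem F78420 : act 4 n19983 = n19655 := d27_1 D19983 (iv D19655) D19654
def n19984 : Q := act 5 n19657
theorem D19984 : act 5 n19657 = n19984 := rfl
theorem F78421 : act 0 n19984 = n19659 := d4_1 D19984 (iv D19659) (iv F77091)
theorem F78422 : act 1 n19984 = n19719 := d11_1 D19984 (iv D19719) (iv F77092)
theorem F78423 : act 3 n19984 = n19718 := d22_1 D19984 (iv D19718) (iv F77093)
theorem F78424 : act 4 n19984 = n19662 := d26_1 D19984 (iv D19662) (iv D19198) (iv F75176) D19657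
theorem F78425 : act 7 n19984 = n19660 := d31_2 (iv F77094) D19984 (iv D19660)
def n19985 : Q := act 5 n19658
theorem D19985 : act 5 n19658 = n19985 := rfl
theorem F78426 : act 0 n19985 = n19718 := d4_1 D19985 (iv D19718) (iv F77095)
theorem F78427 : act 1 n19985 = n19660 := d11_1 D19985 (iv D19660) (iv F77096)
theorem F78428 : act 3 n19985 = n19659 := d22_1 D19985 (iv D19659) D19658
theorem F78429 : act 4 n19985 = n19724 := d26_1 D19985 (iv D19724) (iv D19292) (iv F75200) (iv F77097)
theorem F78430 : act 7 n19985 = n19719 := d31_2 (iv F77099) D19985 (iv D19719)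
def n19986 : Q := act 6 n19659
theorem D19986 : act 6 n19659 = n19986 := rfl
theorem F78431 : act 1 n19986 = n19661 := d12_1 D19986 (iv D19661) (iv F77100)
theorem F78432 : act 4 n19986 = n19663 := d27_1 D19986 (iv D19663) (iv F77101)
theorem F78433 : act 7 n19986 = n19728 := d33_2 (iv F77102) D19986 (iv D19728)
def n19987 : Q := act 6 n19660
theorem D19987 : act 6 n19660 = n19987 := rfl
theorem F78434 : act 0 n19987 = n19728 := d5_1 D19987 (iv D19728) (iv F77103)
theorem F78435 : act 3 n19987 = n19661 := d23_1 D19987 (iv D19661) (iv F77104)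
theorem F78436 : act 4 n19987 = n19931 := d27_1 D19987 (iv D19931) (iv F77105)
def n19988 : Q := act 6 n19662
theorem D19988 : act 6 n19662 = n19988 := rfl
theorem F78437 : act 0 n19988 = n19663 := d5_1 D19988 (iv D19663) (iv F77109)
theorem F78438 : act 1 n19988 = n19729 := d12_1 D19988 (iv D19729) (iv F77110)
theorem F78439 : act 3 n19988 = n19932 := d23_1 D19988 (iv D19932) (iv F77111)
theorem F78440 : act 5 n19988 = n19968 := d30_1 D19988 (iv D19968) (iv D19633) (iv F75190) D19662
theorem F78441 : act 7 n19988 = n19931 := d33_2 (iv F77112) D19988 (iv D19931)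
def n19989 : Q := act 4 n19666
theorem D19989 : act 4 n19666 = n19989 := rfl
theorem F78442 : act 0 n19989 = n19696 := d3_1 D19989 (iv D19696) (iv F77129)
theorem F78443 : act 2 n19989 = n19935 := d16_1 D19989 (iv D19935) (iv F77130)
theorem F78444 : act 5 n19989 = n19989 := d26_2 D19666 D19989 (iv D19989) (iv D19666) F75238
theorem F78445 : act 7 n19989 = n19839 := d28_2 (iv F77132) D19989 (iv D19839)
def n19990 : Q := act 6 n19666
theorem D19990 : act 6 n19666 = n19990 := rfl
theorem F78446 : act 0 n19990 = n19697 := d5_1 D19990 (iv D19697) (iv F77129)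
theorem F78447 : act 2 n19990 = n19936 := d18_1 D19990 (iv D19936) (iv F77130)
theorem F78448 : act 3 n19990 = n19667 := d23_1 D19990 (iv D19667) (iv F77131)
theorem F78449 : act 7 n19990 = n19840 := d33_2 (iv F77132) D19990 (iv D19840)
def n19991 : Q := act 4 n19668
theorem D19991 : act 4 n19668 = n19991 := rfl
theorem F78450 : act 0 n19991 = n19801 := d3_1 D19991 (iv D19801) (iv F77136)
theorem F78451 : act 1 n19991 = n19747 := d10_1 D19991 (iv D19747) (iv F77137)
theorem F78452 : act 5 n19991 = n19991 := d26_2 D19668 D19991 (iv D19991) (iv D19668) F75252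
def n19992 : Q := act 6 n19668
theorem D19992 : act 6 n19668 = n19992 := rfl
theorem F78453 : act 0 n19992 = n19802 := d5_1 D19992 (iv D19802) (iv F77136)
theorem F78454 : act 1 n19992 = n19748 := d12_1 D19992 (iv D19748) (iv F77137)
theorem F78455 : act 3 n19992 = n19669 := d23_1 D19992 (iv D19669) (iv F77138)
theorem F78456 : act 5 n19992 = n19689 := d30_1 D19992 (iv D19689) (iv D19238) (iv F75253) D19668
def n19993 : Q := act 8 n19670
theorem D19993 : act 8 n19670 = n19993 := rfl
theorem F78457 : act 0 n19993 = n19810 := d7_1 D19993 (iv D19810) (iv F77144)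
theorem F78458 : act 1 n19993 = n19811 := d14_1 D19993 F77694 (iv F77145)
theorem F78459 : act 3 n19993 = n19958 := d25_1 D19993 F78324 (iv F77146)
theorem F78460 : act 4 n19993 = n19814 := d29_1 D19993 F77705 (iv F77147)
theorem F78461 : act 5 n19993 = n19690 := d32_1 D19993 (iv D19690) (iv F77148)
theorem F78462 : act 6 n19993 = n19671 := d34_1 D19993 (iv D19671) (iv F77149)
def n19994 : Q := act 5 n19672
theorem D19994 : act 5 n19672 = n19994 := rfl
theorem F78463 : act 0 n19994 = n19685 := d4_1 D19994 (iv D19685) (iv F77155)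
theorem F78464 : act 2 n19994 = n19885 := d17_1 D19994 (iv D19885) (iv F77156)
theorem F78465 : act 3 n19994 = n19673 := d22_1 D19994 (iv D19673) D19672
theorem F78466 : act 8 n19994 = n19675 := d32_2 (iv F77159) D19994 (iv D19675)
def n19995 : Q := act 7 n19672
theorem D19995 : act 7 n19672 = n19995 := rfl
theorem F78467 : act 0 n19995 = n19686 := d6_1 D19995 (iv D19686) (iv F77155)
theorem F78468 : act 2 n19995 = n19886 := d19_1 D19995 (iv D19886) (iv F77156)
theorem F78469 : act 3 n19995 = n19848 := d24_1 D19995 (iv D19848) (iv D19460) (iv F75294) D19672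
theorem F78470 : act 4 n19995 = n19995 := d28_1 D19995 (iv D19995) F77157
theorem F78471 : act 6 n19995 = n19797 := d33_1 D19995 (iv D19797) (iv F77158)
def n19996 : Q := act 6 n19673
theorem D19996 : act 6 n19673 = n19996 := rfl
theorem F78472 : act 0 n19996 = n19687 := d5_1 D19996 (iv D19687) (iv F77160)
theorem F78473 : act 2 n19996 = n19674 := d18_1 D19996 (iv D19674) (iv F77161)
theorem F78474 : act 4 n19996 = n19901 := d27_1 D19996 (iv D19901) (iv F77162)
theorem F78475 : act 5 n19996 = n19798 := d30_1 D19996 (iv D19798) (iv D19390) (iv F75293) D19673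
theorem F78476 : act 7 n19996 = n19849 := d33_2 (iv F77163) D19996 (iv D19849)
theorem F78477 : act 8 n19996 = n19676 := d34_2 (iv F77164) D19996 (iv D19676)
def n19997 : Q := act 4 n19675
theorem D19997 : act 4 n19675 = n19997 := rfl
theorem F78478 : act 0 n19997 = n19688 := d3_1 D19997 (iv D19688) (iv F77171)
theorem F78479 : act 2 n19997 = n19991 := d16_1 D19997 (iv D19991) (iv F77172)
theorem F78480 : act 5 n19997 = n19997 := d26_2 D19675 D19997 (iv D19997) (iv D19675) F75303
def n19998 : Q := act 6 n19675
theorem D19998 : act 6 n19675 = n19998 := rfl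
theorem F78481 : act 0 n19998 = n19689 := d5_1 D19998 (iv D19689) (iv F77171)
theorem F78482 : act 2 n19998 = n19992 := d18_1 D19998 (iv D19992) (iv F77172)
theorem F78483 : act 3 n19998 = n19676 := d23_1 D19998 (iv D19676) (iv F77173)
theorem F78484 : act 5 n19998 = n19802 := d30_1 D19998 (iv D19802) (iv D19394) (iv F75304) D19675
def n19999 : Q := act 5 n19677
theorem D19999 : act 5 n19677 = n19999 := rfl
theorem F78485 : act 0 n19999 = n19904 := d4_1 D19999 (iv D19904) (iv F77178)
theorem F78486 : act 1 n19999 = n19933 := d11_1 D19999 (iv D19933) (iv F77179)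
theorem F78487 : act 2 n19999 = n19683 := d17_1 D19999 (iv D19683) (iv F77180)
theorem F78488 : act 3 n19999 = n19678 := d22_1 D19999 (iv D19678) D19677
theorem F78489 : act 7 n19999 = n19837 := d31_2 (iv F77182) D19999 (iv D19837)
theorem F78490 : act 8 n19999 = n19876 := d32_2 (iv F77183) D19999 (iv D19876)
def n20000 : Q := act 6 n19678
theorem D20000 : act 6 n19678 = n20000 := rfl
theorem F78491 : act 0 n20000 = n19905 := d5_1 D20000 (iv D19905) (iv F77184)
theorem F78492 : act 1 n20000 = n19934 := d12_1 D20000 (iv D19934) (iv F77185)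
theorem F78493 : act 2 n20000 = n19679 := d18_1 D20000 (iv D19679) (iv F77186)
theorem F78494 : act 4 n20000 = n19879 := d27_1 D20000 (iv D19879) (iv F77187)
theorem F78495 : act 7 n20000 = n19846 := d33_2 (iv F77188) D20000 (iv D19846)
theorem F78496 : act 8 n20000 = n19877 := d34_2 (iv F77189) D20000 (iv D19877)
def n20001 : Q := act 5 n19680
theorem D20001 : act 5 n19680 = n20001 := rfl
theorem F78497 : act 0 n20001 = n19900 := d4_1 D20001 (iv D19900) (iv F77196)
theorem F78498 : act 1 n20001 = n19837 := d11_1 D20001 (iv D19837) (iv F77197)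
theorem F78499 : act 2 n20001 = n19876 := d17_1 D20001 (iv D19876) (iv F77198)
theorem F78500 : act 3 n20001 = n19681 := d22_1 D20001 (iv D19681) D19680
theorem F78501 : act 7 n20001 = n19933 := d31_2 (iv F77201) D20001 (iv D19933)
theorem F78502 : act 8 n20001 = n19683 := d32_2 (iv F77202) D20001 (iv D19683)
def n20002 : Q := act 6 n19681
theorem D20002 : act 6 n19681 = n20002 := rfl
theorem F78503 : act 0 n20002 = n19901 := d5_1 D20002 (iv D19901) (iv F77203)
theorem F78504 : act 1 n20002 = n19838 := d12_1 D20002 (iv D19838) (iv F77204)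
theorem F78505 : act 2 n20002 = n19682 := d18_1 D20002 (iv D19682) (iv F77205)
theorem F78506 : act 4 n20002 = n19687 := d27_1 D20002 (iv D19687) (iv F77206)
theorem F78507 : act 5 n20002 = n20000 := d30_1 D20002 (iv D20000) (iv D19678) (iv F75331) D19681
theorem F78508 : act 7 n20002 = n19845 := d33_2 (iv F77207) D20002 (iv D19845)
theorem F78509 : act 8 n20002 = n19684 := d34_2 (iv F77208) D20002 (iv D19684)
def n20003 : Q := act 4 n19683
theorem D20003 : act 4 n19683 = n20003 := rfl
theorem F78510 : act 1 n20003 = n19839 := d10_1 D20003 (iv D19839) (iv F77216)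
theorem F78511 : act 3 n20003 = n19688 := d21_1 D20003 (iv D19688) F75359 (iv F75344) (iv F77217)
theorem F78512 : act 5 n20003 = n20003 := d26_2 D19683 D20003 (iv D20003) (iv D19683) F75341
def n20004 : Q := act 6 n19683
theorem D20004 : act 6 n19683 = n20004 := rfl
theorem F78513 : act 1 n20004 = n19840 := d12_1 D20004 (iv D19840) (iv F77216)
theorem F78514 : act 3 n20004 = n19684 := d23_1 D20004 (iv D19684) (iv F77217)
def n20005 : Q := act 4 n19685
theorem D20005 : act 4 n19685 = n20005 := rfl
theorem F78515 : act 1 n20005 = n19841 := d10_1 D20005 (iv D19841) (iv F77222)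
theorem F78516 : act 5 n20005 = n20005 := d26_2 D19685 D20005 (iv D20005) (iv D19685) F75350
theorem F78517 : act 8 n20005 = n19688 := d29_2 (iv F77224) D20005 (iv D19688)
def n20006 : Q := act 6 n19685
theorem D20006 : act 6 n19685 = n20006 := rfl
theorem F78518 : act 1 n20006 = n19842 := d12_1 D20006 (iv D19842) (iv F77222)
theorem F78519 : act 3 n20006 = n19687 := d23_1 D20006 (iv D19687) (iv F77223)
theorem F78520 : act 8 n20006 = n19689 := d34_2 (iv F77224) D20006 (iv D19689)
def n20007 : Q := act 7 n19685
theorem D20007 : act 7 n19685 = n20007 := rfl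
theorem F78521 : act 1 n20007 = n19843 := d13_1 D20007 (iv D19843) (iv F77222)
theorem F78522 : act 3 n20007 = n19851 := d24_1 D20007 (iv D19851) F76176 (iv F75354) (iv F77223)
theorem F78523 : act 5 n20007 = n19686 := d31_1 D20007 (iv D19686) D19685
def n20008 : Q := act 6 n19688
theorem D20008 : act 6 n19688 = n20008 := rfl
theorem F78524 : act 1 n20008 = n19844 := d12_1 D20008 (iv D19844) (iv F77232)
theorem F78525 : act 4 n20008 = n19689 := d27_1 D20008 (iv D19689) D19688
def n20009 : Q := act 4 n19692
theorem D20009 : act 4 n19692 = n20009 := rfl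
theorem F78526 : act 3 n20009 = n19696 := d21_1 D20009 (iv D19696) F75440 (iv F75412) (iv F77243)
theorem F78527 : act 5 n20009 = n20009 := d26_2 D19692 D20009 (iv D20009) (iv D19692) F75409
theorem F78528 : act 8 n20009 = n19989 := d29_2 (iv F77244) D20009 (iv D19989)
def n20010 : Q := act 6 n19692
theorem D20010 : act 6 n19692 = n20010 := rfl
theorem F78529 : act 3 n20010 = n19693 := d23_1 D20010 (iv D19693) (iv F77243)
theorem F78530 : act 8 n20010 = n19990 := d34_2 (iv F77244) D20010 (iv D19990)
def n20011 : Q := act 4 n19694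
theorem D20011 : act 4 n19694 = n20011 := rfl
theorem F78531 : act 0 n20011 = n20009 := d3_1 D20011 (iv D20009) (iv F77249)
theorem F78532 : act 1 n20011 = n19974 := d10_1 D20011 (iv D19974) (iv F77250)
theorem F78533 : act 2 n20011 = n19950 := d16_1 D20011 (iv D19950) (iv F77251)
theorem F78534 : act 3 n20011 = n19989 := d21_1 D20011 (iv D19989) F77131 (iv F75429) (iv F77252)
theorem F78535 : act 5 n20011 = n20011 := d26_2 D19694 D20011 (iv D20011) (iv D19694) F75422
theorem F78536 : act 7 n20011 = n19909 := d28_2 (iv F77253) D20011 (iv D19909)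
theorem F78537 : act 8 n20011 = n19696 := d29_2 (iv F77254) D20011 (iv D19696)
def n20012 : Q := act 6 n19694
theorem D20012 : act 6 n19694 = n20012 := rfl
theorem F78538 : act 0 n20012 = n20010 := d5_1 D20012 (iv D20010) (iv F77249)
theorem F78539 : act 1 n20012 = n19975 := d12_1 D20012 (iv D19975) (iv F77250)
theorem F78540 : act 2 n20012 = n19951 := d18_1 D20012 (iv D19951) (iv F77251)
theorem F78541 : act 3 n20012 = n19695 := d23_1 D20012 (iv D19695) (iv F77252)
theorem F78542 : act 5 n20012 = n19861 := d30_1 D20012 (iv D19861) (iv D19479) (iv F75423) D19694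
theorem F78543 : act 7 n20012 = n19910 := d33_2 (iv F77253) D20012 (iv D19910)
theorem F78544 : act 8 n20012 = n19697 := d34_2 (iv F77254) D20012 (iv D19697)
def n20013 : Q := act 6 n19696
theorem D20013 : act 6 n19696 = n20013 := rfl
theorem F78545 : act 2 n20013 = n19955 := d18_1 D20013 (iv D19955) (iv F77262)
theorem F78546 : act 4 n20013 = n19697 := d27_1 D20013 (iv D19697) D19696
def n20014 : Q := act 6 n19698
theorem D20014 : act 6 n19698 = n20014 := rfl
theorem F78547 : act 0 n20014 = n19699 := d5_1 D20014 (iv D19699) (iv F77266)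
theorem F78548 : act 1 n20014 = n19968 := d12_1 D20014 (iv D19968) (iv F77267)
theorem F78549 : act 2 n20014 = n19834 := d18_1 D20014 (iv D19834) (iv F77268)
theorem F78550 : act 3 n20014 = n19884 := d23_1 D20014 (iv D19884) (iv F77269)
theorem F78551 : act 4 n20014 = n19853 := d27_1 D20014 (iv D19853) (iv F77270)
theorem F78552 : act 5 n20014 = n19729 := d30_1 D20014 (iv D19729) (iv D19300) (iv F75460) D19698
def n20015 : Q := act 4 n19702
theorem D20015 : act 4 n19702 = n20015 := rfl
theorem F78553 : act 0 n20015 = n19703 := d3_1 D20015 (iv D19703) D19702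
theorem F78554 : act 1 n20015 = n19848 := d10_1 D20015 F77830 (iv F77285)
theorem F78555 : act 2 n20015 = n19721 := d16_1 D20015 (iv D19721) (iv F77286)
theorem F78556 : act 6 n20015 = n19819 := d27_2 (iv F77289) D20015 (iv D19819)
theorem F78557 : act 7 n20015 = n19812 := d28_2 (iv F77290) D20015 F77697
theorem F78558 : act 8 n20015 = n19707 := d29_2 (iv F77291) D20015 (iv D19707)
def n20016 : Q := act 3 n19703
theorem D20016 : act 3 n19703 = n20016 := rfl
theorem F78559 : act 1 n20016 = n19704 := d9_1 D20016 (iv D19704) (iv F77292)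
theorem F78560 : act 2 n20016 = n19946 := d15_1 D20016 F78278 F76945 F75736 (iv F77293)
theorem F78561 : act 4 n20016 = n20016 := d21_2 D19703 D20016 (iv D20016) (iv D19703) F75482
theorem F78562 : act 6 n20016 = n19820 := d23_2 (iv F77294) D20016 (iv D19820)
theorem F78563 : act 7 n20016 = n19785 := d24_2 (iv F77295) D20016 (iv D19785) F75895 D19410
theorem F78564 : act 8 n20016 = n19708 := d25_2 (iv F77296) D20016 (iv D19708)
def n20017 : Q := act 5 n19703
theorem D20017 : act 5 n19703 = n20017 := rfl
theorem F78565 : act 1 n20017 = n19705 := d11_1 D20017 (iv D19705) (iv F77292)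
theorem F78566 : act 2 n20017 = n19722 := d17_1 D20017 (iv D19722) (iv F77293)
theorem F78567 : act 4 n20017 = n19965 := d26_1 D20017 F78353 F76977 (iv F75483) D19703
theorem F78568 : act 7 n20017 = n19813 := d31_2 (iv F77295) D20017 (iv D19813)
theorem F78569 : act 8 n20017 = n19709 := d32_2 (iv F77296) D20017 (iv D19709)
def n20018 : Q := act 5 n19704
theorem D20018 : act 5 n19704 = n20018 := rfl
theorem F78570 : act 0 n20018 = n19843 := d4_1 D20018 F77808 (iv F77297)
theorem F78571 : act 2 n20018 = n19745 := d17_1 D20018 (iv D19745) (iv F77298)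
theorem F78572 : act 3 n20018 = n19705 := d22_1 D20018 (iv D19705) D19704
theorem F78573 : act 7 n20018 = n19787 := d31_2 (iv F77301) D20018 (iv D19787)
theorem F78574 : act 8 n20018 = n19710 := d32_2 (iv F77302) D20018 (iv D19710)
def n20019 : Q := act 6 n19705
theorem D20019 : act 6 n19705 = n20019 := rfl
theorem F78575 : act 0 n20019 = n19852 := d5_1 D20019 F77846 (iv F77303)
theorem F78576 : act 2 n20019 = n19706 := d18_1 D20019 (iv D19706) (iv F77304)
theorem F78577 : act 4 n20019 = n19966 := d27_1 D20019 F78358 (iv F77305)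
theorem F78578 : act 5 n20019 = n19823 := d30_1 D20019 (iv D19823) (iv D19425) (iv F75489) D19705
theorem F78579 : act 7 n20019 = n19815 := d33_2 (iv F77306) D20019 (iv D19815)
theorem F78580 : act 8 n20019 = n19711 := d34_2 (iv F77307) D20019 (iv D19711)
def n20020 : Q := act 5 n19707
theorem D20020 : act 5 n19707 = n20020 := rfl
theorem F78581 : act 0 n20020 = n19709 := d4_1 D20020 (iv D19709) (iv F77315)
theorem F78582 : act 2 n20020 = n19724 := d17_1 D20020 (iv D19724) (iv F77316)
theorem F78583 : act 7 n20020 = n19712 := d31_2 (iv F77318) D20020 (iv D19712)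
def n20021 : Q := act 5 n19708
theorem D20021 : act 5 n19708 = n20021 := rfl
theorem F78584 : act 1 n20021 = n19710 := d11_1 D20021 (iv D19710) (iv F77319)
theorem F78585 : act 2 n20021 = n19945 := d17_1 D20021 F78275 (iv F77320)
theorem F78586 : act 3 n20021 = n19709 := d22_1 D20021 (iv D19709) D19708
theorem F78587 : act 7 n20021 = n19937 := d31_2 (iv F77323) D20021 (iv D19937)
def n20022 : Q := act 6 n19709
theorem D20022 : act 6 n19709 = n20022 := rfl
theorem F78588 : act 1 n20022 = n19711 := d12_1 D20022 (iv D19711) (iv F77324)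
theorem F78589 : act 2 n20022 = n19725 := d18_1 D20022 (iv D19725) (iv F77325)
theorem F78590 : act 5 n20022 = n19827 := d30_1 D20022 (iv D19827) (iv D19429) (iv F75504) D19709
theorem F78591 : act 7 n20022 = n19713 := d33_2 (iv F77326) D20022 (iv D19713)
def n20023 : Q := act 4 n19710
theorem D20023 : act 4 n19710 = n20023 := rfl
theorem F78592 : act 2 n20023 = n19747 := d16_1 D20023 (iv D19747) (iv F77327)
theorem F78593 : act 5 n20023 = n20023 := d26_2 D19710 D20023 (iv D20023) (iv D19710) F75507
def n20024 : Q := act 6 n19710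
theorem D20024 : act 6 n19710 = n20024 := rfl
theorem F78594 : act 2 n20024 = n19748 := d18_1 D20024 (iv D19748) (iv F77327)
theorem F78595 : act 3 n20024 = n19711 := d23_1 D20024 (iv D19711) (iv F77328)
theorem F78596 : act 5 n20024 = n19829 := d30_1 D20024 (iv D19829) (iv D19430) (iv F75508) D19710
def n20025 : Q := act 6 n19712
theorem D20025 : act 6 n19712 = n20025 := rfl
theorem F78597 : act 0 n20025 = n19713 := d5_1 D20025 (iv D19713) (iv F77332)
theorem F78598 : act 2 n20025 = n19729 := d18_1 D20025 (iv D19729) (iv F77333)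
theorem F78599 : act 5 n20025 = n19834 := d30_1 D20025 (iv D19834) (iv D19438) (iv F75521) D19712
theorem F78600 : act 8 n20025 = n20014 := d34_2 (iv F77334) D20025 (iv D20014)
def n20026 : Q := act 5 n19715
theorem D20026 : act 5 n19715 = n20026 := rfl
theorem F78601 : act 1 n20026 = n19716 := d11_1 D20026 (iv D19716) (iv F77345)
theorem F78602 : act 2 n20026 = n19965 := d17_1 D20026 F78353 (iv F77346)
theorem F78603 : act 4 n20026 = n19722 := d26_1 D20026 (iv D19722) (iv D19289) (iv F75536) D19715
theorem F78604 : act 7 n20026 = n19963 := d31_2 (iv F77348) D20026 (iv D19963)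
theorem F78605 : act 8 n20026 = n19718 := d32_2 (iv F77349) D20026 (iv D19718)
def n20027 : Q := act 6 n19716
theorem D20027 : act 6 n19716 = n20027 := rfl
theorem F78606 : act 0 n20027 = n19830 := d5_1 D20027 (iv D19830) (iv F77350)
theorem F78607 : act 2 n20027 = n19717 := d18_1 D20027 (iv D19717) (iv F77351)
theorem F78608 : act 4 n20027 = n19723 := d27_1 D20027 (iv D19723) (iv F77352)
theorem F78609 : act 5 n20027 = n19780 := d30_1 D20027 (iv D19780) (iv D19370) (iv F75542) D19716
theorem F78610 : act 7 n20027 = n19973 := d33_2 (iv F77353) D20027 (iv D19973)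
theorem F78611 : act 8 n20027 = n19720 := d34_2 (iv F77354) D20027 (iv D19720)
def n20028 : Q := act 6 n19718
theorem D20028 : act 6 n19718 = n20028 := rfl
theorem F78612 : act 1 n20028 = n19720 := d12_1 D20028 (iv D19720) (iv F77362)
theorem F78613 : act 4 n20028 = n19725 := d27_1 D20028 (iv D19725) (iv F77363)
theorem F78614 : act 5 n20028 = n19986 := d30_1 D20028 (iv D19986) (iv D19659) (iv F75552) D19718
theorem F78615 : act 7 n20028 = n19727 := d33_2 (iv F77364) D20028 (iv D19727)
def n20029 : Q := act 6 n19719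
theorem D20029 : act 6 n19719 = n20029 := rfl
theorem F78616 : act 0 n20029 = n19727 := d5_1 D20029 (iv D19727) (iv F77365)
theorem F78617 : act 3 n20029 = n19720 := d23_1 D20029 (iv D19720) (iv F77366)
theorem F78618 : act 4 n20029 = n19729 := d27_1 D20029 (iv D19729) (iv F77367)
theorem F78619 : act 5 n20029 = n19987 := d30_1 D20029 (iv D19987) (iv D19660) (iv F75556) D19719
def n20030 : Q := act 5 n19721
theorem D20030 : act 5 n19721 = n20030 := rfl
theorem F78620 : act 0 n20030 = n19722 := d4_1 D20030 (iv D19722) (iv F77372)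
theorem F78621 : act 1 n20030 = n19868 := d11_1 D20030 (iv D19868) (iv F77373)
theorem F78622 : act 3 n20030 = n19867 := d22_1 D20030 (iv D19867) (iv F77374)
theorem F78623 : act 8 n20030 = n19724 := d32_2 (iv F77375) D20030 (iv D19724)
def n20031 : Q := act 6 n19722
theorem D20031 : act 6 n19722 = n20031 := rfl
theorem F78624 : act 1 n20031 = n19723 := d12_1 D20031 (iv D19723) (iv F77376)
theorem F78625 : act 8 n20031 = n19725 := d34_2 (iv F77377) D20031 (iv D19725)
def n20032 : Q := act 6 n19724
theorem D20032 : act 6 n19724 = n20032 := rfl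
theorem F78626 : act 0 n20032 = n19725 := d5_1 D20032 (iv D19725) (iv F77380)
theorem F78627 : act 1 n20032 = n19931 := d12_1 D20032 (iv D19931) (iv F77381)
theorem F78628 : act 3 n20032 = n19930 := d23_1 D20032 (iv D19930) (iv F77382)
theorem F78629 : act 7 n20032 = n19729 := d33_2 (iv F77383) D20032 (iv D19729)
def n20033 : Q := act 3 n19730
theorem D20033 : act 3 n19730 = n20033 := rfl
theorem F78630 : act 0 n20033 = n19794 := d2_1 D20033 (iv D19794) (iv F77398)
theorem F78631 : act 1 n20033 = n19731 := d9_1 D20033 (iv D19731) (iv F77399)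
theorem F78632 : act 4 n20033 = n20033 := d21_2 D19730 D20033 (iv D20033) (iv D19730) F75599
theorem F78633 : act 6 n20033 = n19785 := d23_2 (iv F77401) D20033 (iv D19785)
theorem F78634 : act 7 n20033 = n19820 := d24_2 (iv F77402) D20033 (iv D19820) F76039 (iv F75736)
theorem F78635 : act 8 n20033 = n19734 := d25_2 (iv F77403) D20033 (iv D19734)
def n20034 : Q := act 5 n19730
theorem D20034 : act 5 n19730 = n20034 := rfl
theorem F78636 : act 0 n20034 = n19795 := d4_1 D20034 (iv D19795) (iv F77398)
theorem F78637 : act 1 n20034 = n19732 := d11_1 D20034 (iv D19732) (iv F77399)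
theorem F78638 : act 2 n20034 = n19809 := d17_1 D20034 F77686 (iv F77400)
theorem F78639 : act 4 n20034 = n19806 := d26_1 D20034 F77673 F75949 (iv F75600) D19730
theorem F78640 : act 7 n20034 = n19755 := d31_2 (iv F77402) D20034 (iv D19755)
theorem F78641 : act 8 n20034 = n19735 := d32_2 (iv F77403) D20034 (iv D19735)
def n20035 : Q := act 5 n19731
theorem D20035 : act 5 n19731 = n20035 := rfl
theorem F78642 : act 0 n20035 = n19745 := d4_1 D20035 (iv D19745) (iv F77404)
theorem F78643 : act 2 n20035 = n19843 := d17_1 D20035 F77808 (iv F77405)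
theorem F78644 : act 3 n20035 = n19732 := d22_1 D20035 (iv D19732) D19731
theorem F78645 : act 7 n20035 = n19822 := d31_2 (iv F77408) D20035 (iv D19822)
theorem F78646 : act 8 n20035 = n19736 := d32_2 (iv F77409) D20035 (iv D19736)
def n20036 : Q := act 6 n19732
theorem D20036 : act 6 n19732 = n20036 := rfl
theorem F78647 : act 0 n20036 = n19746 := d5_1 D20036 (iv D19746) (iv F77410)
theorem F78648 : act 2 n20036 = n19733 := d18_1 D20036 (iv D19733) (iv F77411)
theorem F78649 : act 5 n20036 = n19788 := d30_1 D20036 (iv D19788) (iv D19381) (iv F75606) D19732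
theorem F78650 : act 7 n20036 = n19756 := d33_2 (iv F77412) D20036 (iv D19756)
theorem F78651 : act 8 n20036 = n19737 := d34_2 (iv F77413) D20036 (iv D19737)
def n20037 : Q := act 5 n19734
theorem D20037 : act 5 n19734 = n20037 := rfl
theorem F78652 : act 0 n20037 = n19799 := d4_1 D20037 (iv D19799) (iv F77420)
theorem F78653 : act 1 n20037 = n19736 := d11_1 D20037 (iv D19736) (iv F77421)
theorem F78654 : act 3 n20037 = n19735 := d22_1 D20037 (iv D19735) D19734
theorem F78655 : act 7 n20037 = n19743 := d31_2 (iv F77424) D20037 (iv D19743)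
def n20038 : Q := act 6 n19735
theorem D20038 : act 6 n19735 = n20038 := rfl
theorem F78656 : act 0 n20038 = n19800 := d5_1 D20038 (iv D19800) (iv F77425)
theorem F78657 : act 1 n20038 = n19737 := d12_1 D20038 (iv D19737) (iv F77426)
theorem F78658 : act 2 n20038 = n19807 := d18_1 D20038 F77677 (iv F77427)
theorem F78659 : act 4 n20038 = n19805 := d27_1 D20038 F77670 (iv F77428)
theorem F78660 : act 5 n20038 = n19791 := d30_1 D20038 (iv D19791) (iv D19384) (iv F75617) D19735
theorem F78661 : act 7 n20038 = n19738 := d33_2 (iv F77429) D20038 (iv D19738)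
def n20039 : Q := act 4 n19736
theorem D20039 : act 4 n19736 = n20039 := rfl
theorem F78662 : act 0 n20039 = n19747 := d3_1 D20039 (iv D19747) (iv F77430)
theorem F78663 : act 5 n20039 = n20039 := d26_2 D19736 D20039 (iv D20039) (iv D19736) F75620
def n20040 : Q := act 6 n19736
theorem D20040 : act 6 n19736 = n20040 := rfl
theorem F78664 : act 0 n20040 = n19748 := d5_1 D20040 (iv D19748) (iv F77430)
theorem F78665 : act 3 n20040 = n19737 := d23_1 D20040 (iv D19737) (iv F77431)
theorem F78666 : act 5 n20040 = n19793 := d30_1 D20040 (iv D19793) (iv D19385) (iv F75621) D19736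
def n20041 : Q := act 5 n19739
theorem D20041 : act 5 n19739 = n20041 := rfl
theorem F78667 : act 0 n20041 = n19888 := d4_1 D20041 (iv D19888) (iv F77443)
theorem F78668 : act 2 n20041 = n19743 := d17_1 D20041 (iv D19743) (iv F77444)
theorem F78669 : act 3 n20041 = n19740 := d22_1 D20041 (iv D19740) D19739
theorem F78670 : act 8 n20041 = n19939 := d32_2 (iv F77447) D20041 (iv D19939)
def n20042 : Q := act 6 n19740
theorem D20042 : act 6 n19740 = n20042 := rfl
theorem F78671 : act 0 n20042 = n19889 := d5_1 D20042 (iv D19889) (iv F77448)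
theorem F78672 : act 2 n20042 = n19741 := d18_1 D20042 (iv D19741) (iv F77449)
theorem F78673 : act 4 n20042 = n20036 := d27_1 D20042 (iv D20036) (iv F77450)
theorem F78674 : act 5 n20042 = n19942 := d30_1 D20042 (iv D19942) (iv D19603) (iv F75640) D19740
theorem F78675 : act 7 n20042 = n19894 := d33_2 (iv F77451) D20042 (iv D19894)
theorem F78676 : act 8 n20042 = n19940 := d34_2 (iv F77452) D20042 (iv D19940)
def n20043 : Q := act 4 n19743
theorem D20043 : act 4 n19743 = n20043 := rfl
theorem F78677 : act 3 n20043 = n19747 := d21_1 D20043 (iv D19747) F75670 (iv F75655) (iv F77465)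
theorem F78678 : act 5 n20043 = n20043 := d26_2 D19743 D20043 (iv D20043) (iv D19743) F75653
def n20044 : Q := act 6 n19743
theorem D20044 : act 6 n19743 = n20044 := rfl
theorem F78679 : act 3 n20044 = n19744 := d23_1 D20044 (iv D19744) (iv F77465)
def n20045 : Q := act 4 n19745
theorem D20045 : act 4 n19745 = n20045 := rfl
theorem F78680 : act 5 n20045 = n20045 := d26_2 D19745 D20045 (iv D20045) (iv D19745) F75660
theorem F78681 : act 8 n20045 = n19747 := d29_2 (iv F77470) D20045 (iv D19747)
def n20046 : Q := act 6 n19745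
theorem D20046 : act 6 n19745 = n20046 := rfl
theorem F78682 : act 3 n20046 = n19746 := d23_1 D20046 (iv D19746) (iv F77469)
theorem F78683 : act 5 n20046 = n19842 := d30_1 D20046 (iv D19842) (iv D19448) (iv F75661) D19745
theorem F78684 : act 8 n20046 = n19748 := d34_2 (iv F77470) D20046 (iv D19748)
def n20047 : Q := act 6 n19747
theorem D20047 : act 6 n19747 = n20047 := rfl
theorem F78685 : act 4 n20047 = n19748 := d27_1 D20047 (iv D19748) D19747
def n20048 : Q := act 6 n19751
theorem D20048 : act 6 n19751 = n20048 := rfl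
theorem F78686 : act 0 n20048 = n19758 := d5_1 D20048 (iv D19758) (iv F77484)
theorem F78687 : act 1 n20048 = n19962 := d12_1 D20048 (iv D19962) (iv F77485)
theorem F78688 : act 2 n20048 = n19752 := d18_1 D20048 (iv D19752) (iv F77486)
theorem F78689 : act 3 n20048 = n20025 := d23_1 D20048 (iv D20025) (iv F77487)
theorem F78690 : act 4 n20048 = n19899 := d27_1 D20048 (iv D19899) (iv F77488)
theorem F78691 : act 5 n20048 = n19894 := d30_1 D20048 (iv D19894) (iv D19538) (iv F75712) D19751
theorem F78692 : act 7 n20048 = n19942 := d33_2 (iv F77489) D20048 (iv D19942)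
theorem F78693 : act 8 n20048 = n19884 := d34_2 (iv F77490) D20048 (iv D19884)
def n20049 : Q := act 6 n19755
theorem D20049 : act 6 n19755 = n20049 := rfl
theorem F78694 : act 1 n20049 = n19756 := d12_1 D20049 (iv D19756) (iv F77509)
theorem F78695 : act 3 n20049 = n20031 := d23_1 D20049 (iv D20031) (iv F77510)
theorem F78696 : act 5 n20049 = n19814 := d30_1 D20049 (iv D19814) (iv D19411) (iv F75737) D19755
theorem F78697 : act 8 n20049 = n19757 := d34_2 (iv F77511) D20049 (iv D19757)
def n20050 : Q := act 3 n19761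
theorem D20050 : act 3 n19761 = n20050 := rfl
theorem F78698 : act 0 n20050 = n19762 := d2_1 D20050 (iv D19762) (iv F77537)
theorem F78699 : act 1 n20050 = n19906 := d9_1 D20050 F78112 (iv F77538)
theorem F78700 : act 2 n20050 = n19770 := d15_1 D20050 F77563 (iv F76311) F76312 (iv F77539)
theorem F78701 : act 4 n20050 = n20050 := d21_2 D19761 D20050 (iv D20050) (iv D19761) F75813
theorem F78702 : act 7 n20050 = n19947 := d24_2 F77585 D20050 F78282 (iv F77348) (iv F77584)
theorem F78703 : act 8 n20050 = n19765 := d25_2 (iv F77540) D20050 F77552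
def n20051 : Q := act 5 n19761
theorem D20051 : act 5 n19761 = n20051 := rfl
theorem F78704 : act 0 n20051 = n19763 := d4_1 D20051 (iv D19763) (iv F77537)
theorem F78705 : act 1 n20051 = n19967 := d11_1 D20051 (iv D19967) (iv F77538)
theorem F78706 : act 2 n20051 = n19781 := d17_1 D20051 (iv D19781) (iv F77539)
theorem F78707 : act 8 n20051 = n19978 := d32_2 (iv F77540) D20051 (iv D19978)
def n20052 : Q := act 5 n19762
theorem D20052 : act 5 n19762 = n20052 := rfl
theorem F78708 : act 1 n20052 = n19764 := d11_1 D20052 (iv D19764) (iv F77541)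
theorem F78709 : act 3 n20052 = n19763 := d22_1 D20052 (iv D19763) D19762
theorem F78710 : act 8 n20052 = n19979 := d32_2 (iv F77543) D20052 (iv D19979)
def n20053 : Q := act 7 n19762
theorem D20053 : act 7 n19762 = n20053 := rfl
theorem F78711 : act 0 n20053 = n19947 := d6_1 D20053 (iv F78702) F78698
theorem F78712 : act 1 n20053 = n19765 := d13_1 D20053 (iv D19765) (iv F77541)
theorem F78713 : act 2 n20053 = n19902 := d19_1 D20053 F78094 F77864
theorem F78714 : act 3 n20053 = n19959 := d24_1 D20053 (iv F78330) (iv D19777) F75858 D19762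
theorem F78715 : act 4 n20053 = n20053 := d28_1 D20053 (iv D20053) F77542
theorem F78716 : act 6 n20053 = n20050 := d33_1 D20053 F78702 F78284
theorem F78717 : act 8 n20053 = n19906 := d35_2 (iv F77543) D20053 F78115 F77032 (iv F77075)
def n20054 : Q := act 6 n19763
theorem D20054 : act 6 n19763 = n20054 := rfl
theorem F78718 : act 1 n20054 = n19766 := d12_1 D20054 (iv D19766) (iv F77544)
theorem F78719 : act 2 n20054 = n19782 := d18_1 D20054 (iv D19782) (iv F77545)
theorem F78720 : act 8 n20054 = n19980 := d34_2 (iv F77546) D20054 (iv D19980)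
def n20055 : Q := act 4 n19764
theorem D20055 : act 4 n19764 = n20055 := rfl
theorem F78721 : act 2 n20055 = n19767 := d16_1 D20055 (iv D19767) (iv F77547)
theorem F78722 : act 5 n20055 = n20055 := d26_2 D19764 D20055 (iv D20055) (iv D19764) F75819
theorem F78723 : act 8 n20055 = n19981 := d29_2 (iv F77549) D20055 (iv D19981)
def n20056 : Q := act 6 n19764
theorem D20056 : act 6 n19764 = n20056 := rfl
theorem F78724 : act 2 n20056 = n19768 := d18_1 D20056 (iv D19768) (iv F77547)
theorem F78725 : act 3 n20056 = n19766 := d23_1 D20056 (iv D19766) (iv F77548)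
theorem F78726 : act 8 n20056 = n19982 := d34_2 (iv F77549) D20056 (iv D19982)
def n20057 : Q := act 7 n19764
theorem D20057 : act 7 n19764 = n20057 := rfl
theorem F78727 : act 0 n20057 = n19979 := d6_1 D20057 F78411 F77717
theorem F78728 : act 2 n20057 = n19769 := d19_1 D20057 (iv D19769) (iv F77547)
theorem F78729 : act 3 n20057 = n19978 := d24_1 D20057 F78407 F77599 F75867 (iv F77548)
theorem F78730 : act 5 n20057 = n19765 := d31_1 D20057 (iv D19765) D19764
def n20058 : Q := act 6 n19767
theorem D20058 : act 6 n19767 = n20058 := rfl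
theorem F78731 : act 4 n20058 = n19768 := d27_1 D20058 (iv D19768) D19767
theorem F78732 : act 8 n20058 = n19983 := d34_2 (iv F77557) D20058 (iv D19983)
def n20059 : Q := act 7 n19767
theorem D20059 : act 7 n19767 = n20059 := rfl
theorem F78733 : act 4 n20059 = n19769 := d28_1 D20059 (iv D19769) D19767
theorem F78734 : act 5 n20059 = n20059 := d31_1 D20059 (iv D20059) F77556
def n20060 : Q := act 7 n19768
theorem D20060 : act 7 n19768 = n20060 := rfl
theorem F78735 : act 3 n20060 = n19783 := d24_1 D20060 (iv D19783) F75888 (iv F75831) (iv F77558)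
theorem F78736 : act 6 n20060 = n19769 := d33_1 D20060 (iv D19769) D19768
def n20061 : Q := act 8 n19769
theorem D20061 : act 8 n19769 = n20061 := rfl
theorem F78737 : act 1 n20061 = n19900 := d14_1 D20061 F78086 F77890
theorem F78738 : act 3 n20061 = n19784 := d25_1 D20061 (iv D19784) (iv F77560)
theorem F78739 : act 5 n20061 = n19770 := d32_1 D20061 (iv D19770) (iv F77561)
theorem F78740 : act 7 n20061 = n19948 := d35_1 D20061 F78288 F76918 (iv F75827) D19769
def n20062 : Q := act 3 n19771
theorem D20062 : act 3 n19771 = n20062 := rfl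
theorem F78741 : act 0 n20062 = n19772 := d2_1 D20062 (iv D19772) (iv F77566)
theorem F78742 : act 1 n20062 = n19824 := d9_1 D20062 (iv D19824) (iv F77567)
theorem F78743 : act 2 n20062 = n19914 := d15_1 D20062 F78145 (iv F77346) (iv F77584) F77583
theorem F78744 : act 4 n20062 = n20062 := d21_2 D19771 D20062 (iv D20062) (iv D19771) F75834
theorem F78745 : act 7 n20062 = n19804 := d24_2 (iv F77568) D20062 F77667 (iv F76314) F76312
theorem F78746 : act 8 n20062 = n19797 := d25_2 F77933 D20062 (iv F77930)
def n20063 : Q := act 5 n19771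
theorem D20063 : act 5 n19771 = n20063 := rfl
theorem F78747 : act 0 n20063 = n19773 := d4_1 D20063 (iv D19773) (iv F77566)
theorem F78748 : act 1 n20063 = n19825 := d11_1 D20063 (iv D19825) (iv F77567)
theorem F78749 : act 4 n20063 = n20051 := d26_1 D20063 (iv D20051) (iv D19761) (iv F75835) D19771
theorem F78750 : act 7 n20063 = n19781 := d31_2 (iv F77568) D20063 (iv D19781)
def n20064 : Q := act 2 n19772
theorem D20064 : act 2 n19772 = n20064 := rfl
theorem F78751 : act 0 n20064 = n19914 := d1_1 D20064 (iv F78743) F78741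
theorem F78752 : act 1 n20064 = n19789 := d8_1 D20064 (iv D19789) F75907 (iv F75840) (iv F77569)
theorem F78753 : act 3 n20064 = n19961 := d15_2 D19772 D20064 F78337 (iv D19777) F75857
theorem F78754 : act 4 n20064 = n20064 := d16_2 F77570 D20064 (iv D20064)
theorem F78755 : act 6 n20064 = n20062 := d18_2 F78147 D20064 F78743
theorem F78756 : act 7 n20064 = n19911 := d19_2 F77897 D20064 F78131
theorem F78757 : act 8 n20064 = n19995 := d20_2 F78021 D20064 F78468
def n20065 : Q := act 5 n19772
theorem D20065 : act 5 n19772 = n20065 := rfl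
theorem F78758 : act 1 n20065 = n19774 := d11_1 D20065 (iv D19774) (iv F77569)
theorem F78759 : act 3 n20065 = n19773 := d22_1 D20065 (iv D19773) D19772
def n20066 : Q := act 6 n19773
theorem D20066 : act 6 n19773 = n20066 := rfl
theorem F78760 : act 1 n20066 = n19775 := d12_1 D20066 (iv D19775) (iv F77571)
theorem F78761 : act 4 n20066 = n20054 := d27_1 D20066 (iv D20054) (iv F77572)
theorem F78762 : act 7 n20066 = n19782 := d33_2 (iv F77573) D20066 (iv D19782)
def n20067 : Q := act 4 n19774
theorem D20067 : act 4 n19774 = n20067 := rfl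
theorem F78763 : act 0 n20067 = n19828 := d3_1 D20067 (iv D19828) (iv F77574)
theorem F78764 : act 2 n20067 = n19792 := d16_1 D20067 (iv D19792) (iv F77575)
theorem F78765 : act 3 n20067 = n20055 := d21_1 D20067 (iv D20055) F77548 (iv F75844) (iv F77576)
theorem F78766 : act 5 n20067 = n20067 := d26_2 D19774 D20067 (iv D20067) (iv D19774) F75841
def n20068 : Q := act 6 n19774
theorem D20068 : act 6 n19774 = n20068 := rfl
theorem F78767 : act 0 n20068 = n19829 := d5_1 D20068 (iv D19829) (iv F77574)
theorem F78768 : act 2 n20068 = n19793 := d18_1 D20068 (iv D19793) (iv F77575)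
theorem F78769 : act 3 n20068 = n19775 := d23_1 D20068 (iv D19775) (iv F77576)
def n20069 : Q := act 5 n19776
theorem D20069 : act 5 n19776 = n20069 := rfl
theorem F78770 : act 0 n20069 = n19778 := d4_1 D20069 (iv D19778) (iv F77581)
theorem F78771 : act 1 n20069 = n19831 := d11_1 D20069 (iv D19831) (iv F77582)
theorem F78772 : act 2 n20069 = n20063 := d17_1 D20069 (iv D20063) (iv F77583)
theorem F78773 : act 3 n20069 = n20026 := d22_1 D20069 (iv D20026) (iv F77584)
theorem F78774 : act 4 n20069 = n19781 := d26_1 D20069 (iv D19781) (iv D19372) (iv F75853) D19776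
theorem F78775 : act 7 n20069 = n20051 := d31_2 (iv F77585) D20069 (iv D20051)
theorem F78776 : act 8 n20069 = n19984 := d32_2 (iv F77586) D20069 (iv D19984)
def n20070 : Q := act 5 n19777
theorem D20070 : act 5 n19777 = n20070 := rfl
theorem F78777 : act 0 n20070 = n20026 := d4_1 D20070 (iv D20026) (iv F77587)
theorem F78778 : act 1 n20070 = n19779 := d11_1 D20070 (iv D19779) (iv F77588)
theorem F78779 : act 3 n20070 = n19778 := d22_1 D20070 (iv D19778) D19777
theorem F78780 : act 4 n20070 = n20030 := d26_1 D20070 (iv D20030) (iv D19721) (iv F75885) (iv F77589)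
theorem F78781 : act 8 n20070 = n19985 := d32_2 (iv F77591) D20070 (iv D19985)
def n20071 : Q := act 6 n19778
theorem D20071 : act 6 n19778 = n20071 := rfl
theorem F78782 : act 1 n20071 = n19780 := d12_1 D20071 (iv D19780) (iv F77592)
theorem F78783 : act 2 n20071 = n20066 := d18_1 D20071 (iv D20066) (iv F77593)
theorem F78784 : act 4 n20071 = n19782 := d27_1 D20071 (iv D19782) (iv F77594)
theorem F78785 : act 7 n20071 = n20054 := d33_2 (iv F77595) D20071 (iv D20054)
theorem F78786 : act 8 n20071 = n19986 := d34_2 (iv F77596) D20071 (iv D19986)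
def n20072 : Q := act 6 n19779
theorem D20072 : act 6 n19779 = n20072 := rfl
theorem F78787 : act 0 n20072 = n19833 := d5_1 D20072 (iv D19833) (iv F77597)
theorem F78788 : act 2 n20072 = n19931 := d18_1 D20072 (iv D19931) (iv F77598)
theorem F78789 : act 3 n20072 = n19780 := d23_1 D20072 (iv D19780) (iv F77599)
theorem F78790 : act 8 n20072 = n19987 := d34_2 (iv F77600) D20072 (iv D19987)
def n20073 : Q := act 6 n19781
theorem D20073 : act 6 n19781 = n20073 := rfl
theorem F78791 : act 0 n20073 = n19782 := d5_1 D20073 (iv D19782) (iv F77606)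
theorem F78792 : act 1 n20073 = n19834 := d12_1 D20073 (iv D19834) (iv F77607)
theorem F78793 : act 8 n20073 = n19988 := d34_2 (iv F77608) D20073 (iv D19988)
def n20074 : Q := act 8 n19783
theorem D20074 : act 8 n19783 = n20074 := rfl
theorem F78794 : act 1 n20074 = n19901 := d14_1 D20074 F78089 F77965
theorem F78795 : act 6 n20074 = n19784 := d34_1 D20074 (iv D19784) (iv F77611)
theorem F78796 : act 7 n20074 = n19810 := d35_1 D20074 (iv D19810) (iv D19403) (iv F75889) D19783
def n20075 : Q := act 2 n19785
theorem D20075 : act 2 n19785 = n20075 := rfl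
theorem F78797 : act 0 n20075 = n20016 := d1_1 D20075 F78560 F78276
theorem F78798 : act 1 n20075 = n19995 := d8_1 D20075 F78468 F78017 F77052 (iv F77615)
theorem F78799 : act 3 n20075 = n20015 := d15_2 D19785 D20075 F78555 F77374 F76289
theorem F78800 : act 4 n20075 = n20075 := d16_2 F77616 D20075 (iv D20075)
theorem F78801 : act 7 n20075 = n19946 := d19_2 F78563 D20075 (iv F78560)
theorem F78802 : act 8 n20075 = n19789 := d20_2 (iv F77617) D20075 (iv D19789)
def n20076 : Q := act 5 n19785
theorem D20076 : act 5 n19785 = n20076 := rfl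
theorem F78803 : act 1 n20076 = n19787 := d11_1 D20076 (iv D19787) (iv F77615)
theorem F78804 : act 3 n20076 = n19786 := d22_1 D20076 (iv D19786) D19785
theorem F78805 : act 8 n20076 = n19790 := d32_2 (iv F77617) D20076 (iv D19790)
def n20077 : Q := act 6 n19786
theorem D20077 : act 6 n19786 = n20077 := rfl
theorem F78806 : act 1 n20077 = n19788 := d12_1 D20077 (iv D19788) (iv F77618)
theorem F78807 : act 7 n20077 = n19814 := d33_2 (iv F77619) D20077 (iv D19814)
theorem F78808 : act 8 n20077 = n19791 := d34_2 (iv F77620) D20077 (iv D19791)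
def n20078 : Q := act 4 n19787
theorem D20078 : act 4 n19787 = n20078 := rfl
theorem F78809 : act 0 n20078 = n19841 := d3_1 D20078 (iv D19841) (iv F77621)
theorem F78810 : act 5 n20078 = n20078 := d26_2 D19787 D20078 (iv D20078) (iv D19787) F75898
theorem F78811 : act 8 n20078 = n19792 := d29_2 (iv F77623) D20078 (iv D19792)
def n20079 : Q := act 6 n19787
theorem D20079 : act 6 n19787 = n20079 := rfl
theorem F78812 : act 0 n20079 = n19842 := d5_1 D20079 (iv D19842) (iv F77621)
theorem F78813 : act 3 n20079 = n19788 := d23_1 D20079 (iv D19788) (iv F77622)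
theorem F78814 : act 8 n20079 = n19793 := d34_2 (iv F77623) D20079 (iv D19793)
def n20080 : Q := act 5 n19789
theorem D20080 : act 5 n19789 = n20080 := rfl
theorem F78815 : act 0 n20080 = n20021 := d4_1 D20080 (iv D20021) (iv F77628)
theorem F78816 : act 2 n20080 = n19790 := d17_1 D20080 (iv D19790) D19789
theorem F78817 : act 3 n20080 = n20020 := d22_1 D20080 (iv D20020) (iv F77629)
theorem F78818 : act 7 n20080 = n19941 := d31_2 (iv F77631) D20080 (iv D19941)
def n20081 : Q := act 4 n19790
theorem D20081 : act 4 n19790 = n20081 := rfl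
theorem F78819 : act 1 n20081 = n19792 := d10_1 D20081 (iv D19792) (iv F77632)
theorem F78820 : act 5 n20081 = n20081 := d26_2 D19790 D20081 (iv D20081) (iv D19790) F75908
def n20082 : Q := act 6 n19790
theorem D20082 : act 6 n19790 = n20082 := rfl
theorem F78821 : act 1 n20082 = n19793 := d12_1 D20082 (iv D19793) (iv F77632)
theorem F78822 : act 3 n20082 = n19791 := d23_1 D20082 (iv D19791) (iv F77633)
def n20083 : Q := act 6 n19792
theorem D20083 : act 6 n19792 = n20083 := rfl
theorem F78823 : act 0 n20083 = n19844 := d5_1 D20083 (iv D19844) (iv F77636)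
theorem F78824 : act 4 n20083 = n19793 := d27_1 D20083 (iv D19793) D19792
def n20084 : Q := act 5 n19794
theorem D20084 : act 5 n19794 = n20084 := rfl
theorem F78825 : act 1 n20084 = n19796 := d11_1 D20084 (iv D19796) (iv F77640)
theorem F78826 : act 3 n20084 = n19795 := d22_1 D20084 (iv D19795) D19794
theorem F78827 : act 8 n20084 = n19799 := d32_2 (iv F77642) D20084 (iv D19799)
def n20085 : Q := act 7 n19794
theorem D20085 : act 7 n19794 = n20085 := rfl
theorem F78828 : act 0 n20085 = n19820 := d6_1 D20085 (iv F78634) F78630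
theorem F78829 : act 1 n20085 = n19797 := d13_1 D20085 (iv D19797) (iv F77640)
theorem F78830 : act 2 n20085 = n20033 := d19_1 D20085 F78634 F77730
theorem F78831 : act 3 n20085 = n19819 := d24_1 D20085 F77727 F77374 F76291 D19794
theorem F78832 : act 4 n20085 = n20085 := d28_1 D20085 (iv D20085) F77641
theorem F78833 : act 6 n20085 = n20075 := d33_1 D20085 F78801 F78280
theorem F78834 : act 8 n20085 = n19824 := d35_2 (iv F77642) D20085 F77747 F77447 F76868
def n20086 : Q := act 6 n19795
theorem D20086 : act 6 n19795 = n20086 := rfl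
theorem F78835 : act 1 n20086 = n19798 := d12_1 D20086 (iv D19798) (iv F77643)
theorem F78836 : act 2 n20086 = n19814 := d18_1 D20086 (iv D19814) (iv F77644)
theorem F78837 : act 8 n20086 = n19800 := d34_2 (iv F77645) D20086 (iv D19800)
def n20087 : Q := act 4 n19796
theorem D20087 : act 4 n19796 = n20087 := rfl
theorem F78838 : act 2 n20087 = n20005 := d16_1 D20087 (iv D20005) (iv F77646)
theorem F78839 : act 5 n20087 = n20087 := d26_2 D19796 D20087 (iv D20087) (iv D19796) F75922
theorem F78840 : act 8 n20087 = n19801 := d29_2 (iv F77648) D20087 (iv D19801)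
def n20088 : Q := act 6 n19796
theorem D20088 : act 6 n19796 = n20088 := rfl
theorem F78841 : act 2 n20088 = n20006 := d18_1 D20088 (iv D20006) (iv F77646)
theorem F78842 : act 3 n20088 = n19798 := d23_1 D20088 (iv D19798) (iv F77647)
theorem F78843 : act 8 n20088 = n19802 := d34_2 (iv F77648) D20088 (iv D19802)
def n20089 : Q := act 7 n19796
theorem D20089 : act 7 n19796 = n20089 := rfl
theorem F78844 : act 2 n20089 = n20007 := d19_1 D20089 (iv D20007) (iv F77646)
theorem F78845 : act 5 n20089 = n19797 := d31_1 D20089 (iv D19797) D19796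
def n20090 : Q := act 4 n19799
theorem D20090 : act 4 n19799 = n20090 := rfl
theorem F78846 : act 1 n20090 = n19801 := d10_1 D20090 (iv D19801) (iv F77653)
theorem F78847 : act 5 n20090 = n20090 := d26_2 D19799 D20090 (iv D20090) (iv D19799) F75930
def n20091 : Q := act 6 n19799
theorem D20091 : act 6 n19799 = n20091 := rfl
theorem F78848 : act 1 n20091 = n19802 := d12_1 D20091 (iv D19802) (iv F77653)
theorem F78849 : act 3 n20091 = n19800 := d23_1 D20091 (iv D19800) (iv F77654)
def n20092 : Q := act 6 n19801
theorem D20092 : act 6 n19801 = n20092 := rfl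
theorem F78850 : act 2 n20092 = n20008 := d18_1 D20092 (iv D20008) (iv F77658)
theorem F78851 : act 4 n20092 = n19802 := d27_1 D20092 (iv D19802) D19801
def n20093 : Q := act 7 n19801
theorem D20093 : act 7 n19801 = n20093 := rfl
theorem F78852 : act 2 n20093 = n19921 := d19_1 D20093 F78175 (iv F77658)
theorem F78853 : act 4 n20093 = n19803 := d28_1 D20093 (iv D19803) D19801
theorem F78854 : act 5 n20093 = n20093 := d31_1 D20093 (iv D20093) F77659
def n20094 : Q := act 7 n19802
theorem D20094 : act 7 n19802 = n20094 := rfl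
theorem F78855 : act 2 n20094 = n19922 := d19_1 D20094 F78178 (iv F77660)
theorem F78856 : act 3 n20094 = n19805 := d24_1 D20094 (iv D19805) F75944 (iv F75940) (iv F77661)
theorem F78857 : act 6 n20094 = n19803 := d33_1 D20094 (iv D19803) D19802
def n20095 : Q := act 8 n19803
theorem D20095 : act 8 n19803 = n20095 := rfl
theorem F78858 : act 1 n20095 = n20041 := d14_1 D20095 F78670 F78251
theorem F78859 : act 2 n20095 = n19913 := d20_1 D20095 F78143 (iv F77662)
theorem F78860 : act 3 n20095 = n19806 := d25_1 D20095 (iv D19806) (iv F77663)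
theorem F78861 : act 5 n20095 = n19804 := d32_1 D20095 (iv D19804) (iv F77664)
def n20096 : Q := act 8 n19805
theorem D20096 : act 8 n19805 = n20096 := rfl
theorem F78862 : act 1 n20096 = n20042 := d14_1 D20096 F78676 F78256
theorem F78863 : act 2 n20096 = n19810 := d20_1 D20096 (iv D19810) (iv F77669)
theorem F78864 : act 6 n20096 = n19806 := d34_1 D20096 (iv D19806) (iv F77670)
def n20097 : Q := act 3 n19807
theorem D20097 : act 3 n19807 = n20097 := rfl
theorem F78865 : act 0 n20097 = n19816 := d2_1 D20097 F77713 (iv F77674)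
theorem F78866 : act 1 n20097 = n19853 := d9_1 D20097 F77848 (iv F77675)
theorem F78867 : act 4 n20097 = n19968 := d21_2 (iv F77676) D20097 F78365 F76998 (iv F75957)
theorem F78868 : act 5 n20097 = n20032 := d22_2 F78215 D20097 F78628
theorem F78869 : act 6 n20097 = n19808 := d23_2 (iv F77677) D20097 (iv D19808)
theorem F78870 : act 7 n20097 = n20014 := d24_2 D19807 D20097 F78550 F78011 F76510
def n20098 : Q := act 8 n19807
theorem D20098 : act 8 n19807 = n20098 := rfl
theorem F78871 : act 0 n20098 = n19814 := d7_1 D20098 F77705 (iv F77674)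
theorem F78872 : act 1 n20098 = n19849 := d14_1 D20098 F77834 (iv F77675)
theorem F78873 : act 4 n20098 = n19810 := d29_1 D20098 (iv D19810) (iv F77676)
theorem F78874 : act 6 n20098 = n19809 := d34_1 D20098 (iv D19809) (iv F77677)
def n20099 : Q := act 8 n19808
theorem D20099 : act 8 n19808 = n20099 := rfl
theorem F78875 : act 0 n20099 = n19813 := d7_1 D20099 F77703 (iv F77678)
theorem F78876 : act 1 n20099 = n19847 := d14_1 D20099 F77827 (iv F77679)
theorem F78877 : act 3 n20099 = n19809 := d25_1 D20099 (iv D19809) D19808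
theorem F78878 : act 4 n20099 = n19960 := d29_1 D20099 F78334 (iv F77680)
theorem F78879 : act 5 n20099 = n19812 := d32_1 D20099 F77699 (iv F77681)
def n20100 : Q := act 6 n19813
theorem D20100 : act 6 n19813 = n20100 := rfl
theorem F78880 : act 1 n20100 = n19815 := d12_1 D20100 (iv D19815) (iv F77700)
theorem F78881 : act 3 n20100 = n19814 := d23_1 D20100 (iv D19814) (iv F77701)
theorem F78882 : act 4 n20100 = n19964 := d27_1 D20100 (iv D19964) (iv F77702)
theorem F78883 : act 5 n20100 = n20031 := d30_1 D20100 (iv D20031) (iv D19722) (iv F75985) D19813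
theorem F78884 : act 8 n20100 = n19816 := d34_2 (iv F77703) D20100 (iv D19816)
def n20101 : Q := act 4 n19817
theorem D20101 : act 4 n19817 = n20101 := rfl
theorem F78885 : act 0 n20101 = n20055 := d3_1 D20101 (iv D20055) (iv F77717)
theorem F78886 : act 2 n20101 = n19970 := d16_1 D20101 (iv D19970) (iv F77718)
theorem F78887 : act 3 n20101 = n19828 := d21_1 D20101 (iv D19828) F76060 (iv F76025) (iv F77719)
theorem F78888 : act 5 n20101 = n20101 := d26_2 D19817 D20101 (iv D20101) (iv D19817) F76021
def n20102 : Q := act 6 n19817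
theorem D20102 : act 6 n19817 = n20102 := rfl
theorem F78889 : act 0 n20102 = n20056 := d5_1 D20102 (iv D20056) (iv F77717)
theorem F78890 : act 2 n20102 = n19971 := d18_1 D20102 (iv D19971) (iv F77718)
theorem F78891 : act 3 n20102 = n19818 := d23_1 D20102 (iv D19818) (iv F77719)
theorem F78892 : act 5 n20102 = n19982 := d30_1 D20102 (iv D19982) (iv D19652) (iv F76022) D19817
def n20103 : Q := act 5 n19819
theorem D20103 : act 5 n19819 = n20103 := rfl
theorem F78893 : act 0 n20103 = n19821 := d4_1 D20103 (iv D19821) (iv F77725)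
theorem F78894 : act 2 n20103 = n20099 := d17_1 D20103 F78879 (iv F77726)
theorem F78895 : act 7 n20103 = n20030 := d31_2 (iv F77727) D20103 (iv D20030)
theorem F78896 : act 8 n20103 = n19825 := d32_2 (iv F77728) D20103 (iv D19825)
def n20104 : Q := act 5 n19820
theorem D20104 : act 5 n19820 = n20104 := rfl
theorem F78897 : act 1 n20104 = n19822 := d11_1 D20104 (iv D19822) (iv F77729)
theorem F78898 : act 2 n20104 = n20084 := d17_1 D20104 (iv D20084) (iv F77730)
theorem F78899 : act 3 n20104 = n19821 := d22_1 D20104 (iv D19821) D19820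
theorem F78900 : act 8 n20104 = n19826 := d32_2 (iv F77732) D20104 (iv D19826)
def n20105 : Q := act 6 n19821
theorem D20105 : act 6 n19821 = n20105 := rfl
theorem F78901 : act 1 n20105 = n19823 := d12_1 D20105 (iv D19823) (iv F77733)
theorem F78902 : act 2 n20105 = n20100 := d18_1 D20105 (iv D20100) (iv F77734)
theorem F78903 : act 7 n20105 = n20031 := d33_2 (iv F77735) D20105 (iv D20031)
theorem F78904 : act 8 n20105 = n19827 := d34_2 (iv F77736) D20105 (iv D19827)
def n20106 : Q := act 4 n19822
theorem D20106 : act 4 n19822 = n20106 := rfl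
theorem F78905 : act 2 n20106 = n19841 := d16_1 D20106 (iv D19841) (iv F77737)
theorem F78906 : act 5 n20106 = n20106 := d26_2 D19822 D20106 (iv D20106) (iv D19822) F76042
theorem F78907 : act 8 n20106 = n19828 := d29_2 (iv F77739) D20106 (iv D19828)
def n20107 : Q := act 6 n19822
theorem D20107 : act 6 n19822 = n20107 := rfl
theorem F78908 : act 2 n20107 = n19842 := d18_1 D20107 (iv D19842) (iv F77737)
theorem F78909 : act 3 n20107 = n19823 := d23_1 D20107 (iv D19823) (iv F77738)
theorem F78910 : act 8 n20107 = n19829 := d34_2 (iv F77739) D20107 (iv D19829)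
def n20108 : Q := act 5 n19824
theorem D20108 : act 5 n19824 = n20108 := rfl
theorem F78911 : act 0 n20108 = n19826 := d4_1 D20108 (iv D19826) (iv F77743)
theorem F78912 : act 2 n20108 = n20037 := d17_1 D20108 (iv D20037) (iv F77744)
theorem F78913 : act 3 n20108 = n19825 := d22_1 D20108 (iv D19825) D19824
theorem F78914 : act 7 n20108 = n20041 := d31_2 (iv F77747) D20108 (iv D20041)
def n20109 : Q := act 6 n19825
theorem D20109 : act 6 n19825 = n20109 := rfl
theorem F78915 : act 0 n20109 = n19827 := d5_1 D20109 (iv D19827) (iv F77748)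
theorem F78916 : act 2 n20109 = n20097 := d18_1 D20109 F78869 (iv F77749)
theorem F78917 : act 7 n20109 = n19834 := d33_2 (iv F77750) D20109 (iv D19834)
def n20110 : Q := act 4 n19826
theorem D20110 : act 4 n19826 = n20110 := rfl
theorem F78918 : act 1 n20110 = n19828 := d10_1 D20110 (iv D19828) (iv F77751)
theorem F78919 : act 2 n20110 = n20090 := d16_1 D20110 (iv D20090) (iv F77752)
theorem F78920 : act 5 n20110 = n20110 := d26_2 D19826 D20110 (iv D20110) (iv D19826) F76055
def n20111 : Q := act 6 n19826
theorem D20111 : act 6 n19826 = n20111 := rfl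
theorem F78921 : act 1 n20111 = n19829 := d12_1 D20111 (iv D19829) (iv F77751)
theorem F78922 : act 2 n20111 = n20091 := d18_1 D20111 (iv D20091) (iv F77752)
theorem F78923 : act 3 n20111 = n19827 := d23_1 D20111 (iv D19827) (iv F77753)
def n20112 : Q := act 6 n19828
theorem D20112 : act 6 n19828 = n20112 := rfl
theorem F78924 : act 2 n20112 = n19844 := d18_1 D20112 (iv D19844) (iv F77757)
theorem F78925 : act 4 n20112 = n19829 := d27_1 D20112 (iv D19829) D19828
def n20113 : Q := act 6 n19831
theorem D20113 : act 6 n19831 = n20113 := rfl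
theorem F78926 : act 0 n20113 = n19832 := d5_1 D20113 (iv D19832) (iv F77766)
theorem F78927 : act 2 n20113 = n19853 := d18_1 D20113 (iv D19853) (iv F77767)
theorem F78928 : act 3 n20113 = n20027 := d23_1 D20113 (iv D20027) (iv F77768)
theorem F78929 : act 4 n20113 = n19834 := d27_1 D20113 (iv D19834) (iv F77769)
theorem F78930 : act 5 n20113 = n20072 := d30_1 D20113 (iv D20072) (iv D19779) (iv F76075) D19831
theorem F78931 : act 8 n20113 = n20029 := d34_2 (iv F77770) D20113 (iv D20029)
def n20114 : Q := act 4 n19835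
theorem D20114 : act 4 n19835 = n20114 := rfl
theorem F78932 : act 0 n20114 = n19924 := d3_1 D20114 (iv D19924) (iv F77783)
theorem F78933 : act 1 n20114 = n20009 := d10_1 D20114 (iv D20009) (iv F77784)
theorem F78934 : act 2 n20114 = n19839 := d16_1 D20114 (iv D19839) (iv F77785)
theorem F78935 : act 3 n20114 = n19970 := d21_1 D20114 (iv D19970) F77022 (iv F76102) (iv F77786)
theorem F78936 : act 5 n20114 = n20114 := d26_2 D19835 D20114 (iv D20114) (iv D19835) F76096
theorem F78937 : act 7 n20114 = n19935 := d28_2 (iv F77787) D20114 (iv D19935)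
def n20115 : Q := act 6 n19835
theorem D20115 : act 6 n19835 = n20115 := rfl
theorem F78938 : act 0 n20115 = n19925 := d5_1 D20115 (iv D19925) (iv F77783)
theorem F78939 : act 1 n20115 = n20010 := d12_1 D20115 (iv D20010) (iv F77784)
theorem F78940 : act 2 n20115 = n19840 := d18_1 D20115 (iv D19840) (iv F77785)
theorem F78941 : act 3 n20115 = n19836 := d23_1 D20115 (iv D19836) (iv F77786)
theorem F78942 : act 5 n20115 = n19990 := d30_1 D20115 (iv D19990) (iv D19666) (iv F76097) D19835
theorem F78943 : act 7 n20115 = n19936 := d33_2 (iv F77787) D20115 (iv D19936)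
def n20116 : Q := act 4 n19837
theorem D20116 : act 4 n19837 = n20116 := rfl
theorem F78944 : act 3 n20116 = n19841 := d21_1 D20116 (iv D19841) F76123 (iv F76113) (iv F77794)
theorem F78945 : act 5 n20116 = n20116 := d26_2 D19837 D20116 (iv D20116) (iv D19837) F76110
theorem F78946 : act 8 n20116 = n19839 := d29_2 (iv F77795) D20116 (iv D19839)
def n20117 : Q := act 6 n19837
theorem D20117 : act 6 n19837 = n20117 := rfl
theorem F78947 : act 3 n20117 = n19838 := d23_1 D20117 (iv D19838) (iv F77794)
theorem F78948 : act 8 n20117 = n19840 := d34_2 (iv F77795) D20117 (iv D19840)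
def n20118 : Q := act 6 n19839
theorem D20118 : act 6 n19839 = n20118 := rfl
theorem F78949 : act 3 n20118 = n19844 := d23_1 D20118 (iv D19844) (iv F77800)
theorem F78950 : act 4 n20118 = n19840 := d27_1 D20118 (iv D19840) D19839
def n20119 : Q := act 6 n19841
theorem D20119 : act 6 n19841 = n20119 := rfl
theorem F78951 : act 4 n20119 = n19842 := d27_1 D20119 (iv D19842) D19841
theorem F78952 : act 8 n20119 = n19844 := d34_2 (iv F77804) D20119 (iv D19844)
def n20120 : Q := act 7 n19841
theorem D20120 : act 7 n19841 = n20120 := rfl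
theorem F78953 : act 4 n20120 = n19843 := d28_1 D20120 (iv D19843) D19841
theorem F78954 : act 5 n20120 = n20120 := d31_1 D20120 (iv D20120) F77803
theorem F78955 : act 3 n20023 = n20120 := d21_5 F78953 F77807 F76189 (iv F77328) D20023
def n20121 : Q := act 7 n19842
theorem D20121 : act 7 n19842 = n20121 := rfl
theorem F78956 : act 3 n20121 = n19852 := d24_1 D20121 (iv D19852) F76185 (iv F76128) (iv F77805)
theorem F78957 : act 6 n20121 = n19843 := d33_1 D20121 (iv D19843) D19842
def n20122 : Q := act 5 n19844
theorem D20122 : act 5 n19844 = n20122 := rfl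
theorem F78958 : act 6 n20122 = n20122 := d30_2 D19844 D20122 (iv D20122) (iv D19844) F76130
def n20123 : Q := act 6 n19847
theorem D20123 : act 6 n19847 = n20123 := rfl
theorem F78959 : act 0 n20123 = n19850 := d5_1 D20123 (iv D19850) (iv F77823)
theorem F78960 : act 2 n20123 = n20029 := d18_1 D20123 (iv D20029) (iv F77824)
theorem F78961 : act 3 n20123 = n19849 := d23_1 D20123 (iv D19849) (iv F77825)
theorem F78962 : act 4 n20123 = n20025 := d27_1 D20123 (iv D20025) (iv F77826)
theorem F78963 : act 8 n20123 = n19853 := d34_2 (iv F77827) D20123 (iv D19853)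
def n20124 : Q := act 7 n19847
theorem D20124 : act 7 n19847 = n20124 := rfl
theorem F78964 : act 0 n20124 = n19851 := d6_1 D20124 (iv D19851) (iv F77823)
theorem F78965 : act 2 n20124 = n19985 := d19_1 D20124 F78430 (iv F77824)
theorem F78966 : act 4 n20124 = n20020 := d28_1 D20124 F78583 (iv F77826)
theorem F78967 : act 5 n20124 = n19848 := d31_1 D20124 (iv D19848) D19847
def n20125 : Q := act 7 n19850
theorem D20125 : act 7 n19850 = n20125 := rfl
theorem F78968 : act 1 n20125 = n19852 := d13_1 D20125 (iv D19852) (iv F77835)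
theorem F78969 : act 2 n20125 = n20028 := d19_1 D20125 F78615 (iv F77836)
theorem F78970 : act 4 n20125 = n20022 := d28_1 D20125 F78591 (iv F77838)
theorem F78971 : act 6 n20125 = n19851 := d33_1 D20125 (iv D19851) D19850
def n20126 : Q := act 4 n19854
theorem D20126 : act 4 n19854 = n20126 := rfl
theorem F78972 : act 0 n20126 = n19860 := d3_1 D20126 (iv D19860) (iv F77849)
theorem F78973 : act 1 n20126 = n19989 := d10_1 D20126 (iv D19989) (iv F77850)
theorem F78974 : act 2 n20126 = n20116 := d16_1 D20126 (iv D20116) (iv F77851)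
theorem F78975 : act 3 n20126 = n19974 := d21_1 D20126 (iv D19974) F77044 (iv F76219) (iv F77852)
theorem F78976 : act 5 n20126 = n20126 := d26_2 D19854 D20126 (iv D20126) (iv D19854) F76212
theorem F78977 : act 7 n20126 = n20003 := d28_2 (iv F77853) D20126 (iv D20003)
theorem F78978 : act 8 n20126 = n20114 := d29_2 (iv F77854) D20126 (iv D20114)
def n20127 : Q := act 6 n19854
theorem D20127 : act 6 n19854 = n20127 := rfl
theorem F78979 : act 0 n20127 = n19861 := d5_1 D20127 (iv D19861) (iv F77849)
theorem F78980 : act 1 n20127 = n19990 := d12_1 D20127 (iv D19990) (iv F77850)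
theorem F78981 : act 2 n20127 = n20117 := d18_1 D20127 (iv D20117) (iv F77851)
theorem F78982 : act 3 n20127 = n19855 := d23_1 D20127 (iv D19855) (iv F77852)
theorem F78983 : act 5 n20127 = n20010 := d30_1 D20127 (iv D20010) (iv D19692) (iv F76213) D19854
theorem F78984 : act 7 n20127 = n20004 := d33_2 (iv F77853) D20127 (iv D20004)
theorem F78985 : act 8 n20127 = n20115 := d34_2 (iv F77854) D20127 (iv D20115)
def n20128 : Q := act 5 n19856
theorem D20128 : act 5 n19856 = n20128 := rfl
theorem F78986 : act 0 n20128 = n20061 := d4_1 D20128 F78739 (iv F77862)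
theorem F78987 : act 1 n20128 = n19858 := d11_1 D20128 (iv D19858) (iv F77863)
theorem F78988 : act 2 n20128 = n20052 := d17_1 D20128 (iv D20052) (iv F77864)
theorem F78989 : act 3 n20128 = n19857 := d22_1 D20128 (iv D19857) D19856
theorem F78990 : act 8 n20128 = n19926 := d32_2 (iv F77867) D20128 (iv D19926)
def n20129 : Q := act 6 n19857
theorem D20129 : act 6 n19857 = n20129 := rfl
theorem F78991 : act 0 n20129 = n20074 := d5_1 D20129 F78795 (iv F77868)
theorem F78992 : act 1 n20129 = n19859 := d12_1 D20129 (iv D19859) (iv F77869)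
theorem F78993 : act 2 n20129 = n19872 := d18_1 D20129 (iv D19872) (iv F77870)
theorem F78994 : act 4 n20129 = n20077 := d27_1 D20129 (iv D20077) (iv F77871)
theorem F78995 : act 5 n20129 = n19949 := d30_1 D20129 (iv D19949) (iv D19609) (iv F76232) D19857
theorem F78996 : act 7 n20129 = n19993 := d33_2 (iv F77872) D20129 F78462
theorem F78997 : act 8 n20129 = n19927 := d34_2 (iv F77873) D20129 (iv D19927)
def n20130 : Q := act 4 n19858
theorem D20130 : act 4 n19858 = n20130 := rfl
theorem F78998 : act 0 n20130 = n20116 := d3_1 D20130 (iv D20116) (iv F77874)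
theorem F78999 : act 2 n20130 = n19860 := d16_1 D20130 (iv D19860) (iv F77875)
theorem F79000 : act 3 n20130 = n20078 := d21_1 D20130 (iv D20078) F77622 (iv F76242) (iv F77876)
theorem F79001 : act 5 n20130 = n20130 := d26_2 D19858 D20130 (iv D20130) (iv D19858) F76237
theorem F79002 : act 8 n20130 = n19928 := d29_2 (iv F77877) D20130 (iv D19928)
def n20131 : Q := act 6 n19858
theorem D20131 : act 6 n19858 = n20131 := rfl
theorem F79003 : act 0 n20131 = n20117 := d5_1 D20131 (iv D20117) (iv F77874)
theorem F79004 : act 2 n20131 = n19861 := d18_1 D20131 (iv D19861) (iv F77875)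
theorem F79005 : act 3 n20131 = n19859 := d23_1 D20131 (iv D19859) (iv F77876)
theorem F79006 : act 5 n20131 = n19951 := d30_1 D20131 (iv D19951) (iv D19610) (iv F76238) D19858
theorem F79007 : act 8 n20131 = n19929 := d34_2 (iv F77877) D20131 (iv D19929)
def n20132 : Q := act 6 n19860
theorem D20132 : act 6 n19860 = n20132 := rfl
theorem F79008 : act 1 n20132 = n20058 := d12_1 D20132 (iv D20058) (iv F77884)
theorem F79009 : act 3 n20132 = n19983 := d23_1 D20132 (iv D19983) (iv F77885)
theorem F79010 : act 4 n20132 = n19861 := d27_1 D20132 (iv D19861) D19860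
def n20133 : Q := act 7 n19860
theorem D20133 : act 7 n19860 = n20133 := rfl
theorem F79011 : act 0 n20133 = n20003 := d6_1 D20133 (iv F78977) F78972
theorem F79012 : act 1 n20133 = n20059 := d13_1 D20133 (iv D20059) (iv F77884)
theorem F79013 : act 4 n20133 = n19862 := d28_1 D20133 (iv D19862) D19860
theorem F79014 : act 5 n20133 = n20133 := d31_1 D20133 (iv D20133) F77886
theorem F79015 : act 3 n19997 = n20133 := d21_5 F79013 F77891 F76390 (iv F77173) D19997
def n20134 : Q := act 7 n19861
theorem D20134 : act 7 n19861 = n20134 := rfl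
theorem F79016 : act 0 n20134 = n20004 := d6_1 D20134 (iv F78984) F78979
theorem F79017 : act 1 n20134 = n20060 := d13_1 D20134 (iv D20060) (iv F77887)
theorem F79018 : act 3 n20134 = n19875 := d24_1 D20134 (iv D19875) F76383 (iv F76262) (iv F77888)
theorem F79019 : act 5 n20134 = n19910 := d31_1 D20134 (iv F78543) F78542
theorem F79020 : act 6 n20134 = n19862 := d33_1 D20134 (iv D19862) D19861
def n20135 : Q := act 5 n19863
theorem D20135 : act 5 n19863 = n20135 := rfl
theorem F79021 : act 0 n20135 = n20095 := d4_1 D20135 F78861 (iv F77893)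
theorem F79022 : act 1 n20135 = n19865 := d11_1 D20135 (iv D19865) (iv F77894)
theorem F79023 : act 3 n20135 = n19864 := d22_1 D20135 (iv D19864) D19863
theorem F79024 : act 7 n20135 = n20065 := d31_2 (iv F77897) D20135 (iv D20065)
theorem F79025 : act 8 n20135 = n19895 := d32_2 (iv F77898) D20135 (iv D19895)
def n20136 : Q := act 6 n19864
theorem D20136 : act 6 n19864 = n20136 := rfl
theorem F79026 : act 0 n20136 = n20096 := d5_1 D20136 F78864 (iv F77899)
theorem F79027 : act 1 n20136 = n19866 := d12_1 D20136 (iv D19866) (iv F77900)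
theorem F79028 : act 2 n20136 = n19993 := d18_1 D20136 F78462 (iv F77901)
theorem F79029 : act 4 n20136 = n20086 := d27_1 D20136 (iv D20086) (iv F77902)
theorem F79030 : act 5 n20136 = n19915 := d30_1 D20136 (iv D19915) (iv D19563) (iv F76266) D19864
theorem F79031 : act 7 n20136 = n19872 := d33_2 (iv F77903) D20136 (iv D19872)
theorem F79032 : act 8 n20136 = n19896 := d34_2 (iv F77904) D20136 (iv D19896)
def n20137 : Q := act 4 n19865
theorem D20137 : act 4 n19865 = n20137 := rfl
theorem F79033 : act 0 n20137 = n19890 := d3_1 D20137 (iv D19890) (iv F77905)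
theorem F79034 : act 2 n20137 = n19882 := d16_1 D20137 (iv D19882) (iv F77906)
theorem F79035 : act 3 n20137 = n20087 := d21_1 D20137 (iv D20087) F77647 (iv F76277) (iv F77907)
theorem F79036 : act 5 n20137 = n20137 := d26_2 D19865 D20137 (iv D20137) (iv D19865) F76271
theorem F79037 : act 7 n20137 = n20067 := d28_2 (iv F77908) D20137 (iv D20067)
theorem F79038 : act 8 n20137 = n19897 := d29_2 (iv F77909) D20137 (iv D19897)
def n20138 : Q := act 6 n19865
theorem D20138 : act 6 n19865 = n20138 := rfl
theorem F79039 : act 0 n20138 = n19891 := d5_1 D20138 (iv D19891) (iv F77905)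
theorem F79040 : act 2 n20138 = n19883 := d18_1 D20138 (iv D19883) (iv F77906)
theorem F79041 : act 3 n20138 = n19866 := d23_1 D20138 (iv D19866) (iv F77907)
theorem F79042 : act 5 n20138 = n19917 := d30_1 D20138 (iv D19917) (iv D19564) (iv F76272) D19865
theorem F79043 : act 7 n20138 = n20068 := d33_2 (iv F77908) D20138 (iv D20068)
theorem F79044 : act 8 n20138 = n19898 := d34_2 (iv F77909) D20138 (iv D19898)
def n20139 : Q := act 6 n19867
theorem D20139 : act 6 n19867 = n20139 := rfl
theorem F79045 : act 0 n20139 = n20049 := d5_1 D20139 (iv D20049) (iv F77916)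
theorem F79046 : act 1 n20139 = n19870 := d12_1 D20139 (iv D19870) (iv F77917)
theorem F79047 : act 2 n20139 = n20077 := d18_1 D20139 (iv D20077) (iv F77918)
theorem F79048 : act 4 n20139 = n19872 := d27_1 D20139 (iv D19872) (iv F77919)
theorem F79049 : act 5 n20139 = n20098 := d30_1 D20139 F78874 F77686 (iv F76290) D19867
theorem F79050 : act 7 n20139 = n20086 := d33_2 (iv F77920) D20139 (iv D20086)
theorem F79051 : act 8 n20139 = n19930 := d34_2 (iv F77921) D20139 (iv D19930)
def n20140 : Q := act 6 n19868
theorem D20140 : act 6 n19868 = n20140 := rfl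
theorem F79052 : act 0 n20140 = n19892 := d5_1 D20140 (iv D19892) (iv F77922)
theorem F79053 : act 2 n20140 = n19987 := d18_1 D20140 (iv D19987) (iv F77923)
theorem F79054 : act 3 n20140 = n19870 := d23_1 D20140 (iv D19870) (iv F77924)
theorem F79055 : act 4 n20140 = n20072 := d27_1 D20140 (iv D20072) (iv F77925)
theorem F79056 : act 5 n20140 = n20123 := d30_1 D20140 (iv D20123) (iv D19847) (iv F76296) D19868
theorem F79057 : act 8 n20140 = n19931 := d34_2 (iv F77926) D20140 (iv D19931)
def n20141 : Q := act 7 n19868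
theorem D20141 : act 7 n19868 = n20141 := rfl
theorem F79058 : act 0 n20141 = n19893 := d6_1 D20141 (iv D19893) (iv F77922)
theorem F79059 : act 1 n20141 = n20103 := d13_1 D20141 F78895 F78621
theorem F79060 : act 2 n20141 = n19984 := d19_1 D20141 F78425 (iv F77923)
theorem F79061 : act 3 n20141 = n20089 := d24_1 D20141 (iv D20089) F77647 (iv F76301) (iv F77924)
theorem F79062 : act 4 n20141 = n19978 := d28_1 D20141 F78407 (iv F77925)
theorem F79063 : act 5 n20141 = n19869 := d31_1 D20141 (iv D19869) D19868
theorem F79064 : act 8 n20141 = n20063 := d35_2 (iv F77926) D20141 F78750 F77608 F77112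
def n20142 : Q := act 6 n19871
theorem D20142 : act 6 n19871 = n20142 := rfl
theorem F79065 : act 0 n20142 = n19872 := d5_1 D20142 (iv D19872) (iv F77940)
theorem F79066 : act 1 n20142 = n19894 := d12_1 D20142 (iv D19894) (iv F77941)
theorem F79067 : act 2 n20142 = n20074 := d18_1 D20142 F78795 (iv F77942)
theorem F79068 : act 3 n20142 = n20073 := d23_1 D20142 (iv D20073) (iv F77943)
theorem F79069 : act 4 n20142 = n20049 := d27_1 D20142 (iv D20049) (iv F77944)
theorem F79070 : act 5 n20142 = n19962 := d30_1 D20142 (iv D19962) (iv D19625) (iv F76313) D19871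
theorem F79071 : act 7 n20142 = n20096 := d33_2 (iv F77945) D20142 F78864
theorem F79072 : act 8 n20142 = n19932 := d34_2 (iv F77946) D20142 (iv D19932)
def n20143 : Q := act 4 n19873
theorem D20143 : act 4 n19873 = n20143 := rfl
theorem F79073 : act 0 n20143 = n19897 := d3_1 D20143 (iv D19897) (iv F77951)
theorem F79074 : act 1 n20143 = n20043 := d10_1 D20143 (iv D20043) (iv F77952)
theorem F79075 : act 2 n20143 = n19916 := d16_1 D20143 (iv D19916) (iv F77953)
theorem F79076 : act 3 n20143 = n19991 := d21_1 D20143 (iv D19991) F77138 (iv F76348) (iv F77954)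
theorem F79077 : act 5 n20143 = n20143 := d26_2 D19873 D20143 (iv D20143) (iv D19873) F76341
theorem F79078 : act 7 n20143 = n20039 := d28_2 (iv F77955) D20143 (iv D20039)
theorem F79079 : act 8 n20143 = n19890 := d29_2 (iv F77956) D20143 (iv D19890)
def n20144 : Q := act 6 n19873
theorem D20144 : act 6 n19873 = n20144 := rfl
theorem F79080 : act 0 n20144 = n19898 := d5_1 D20144 (iv D19898) (iv F77951)
theorem F79081 : act 1 n20144 = n20044 := d12_1 D20144 (iv D20044) (iv F77952)
theorem F79082 : act 2 n20144 = n19917 := d18_1 D20144 (iv D19917) (iv F77953)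
theorem F79083 : act 3 n20144 = n19874 := d23_1 D20144 (iv D19874) (iv F77954)
theorem F79084 : act 5 n20144 = n19883 := d30_1 D20144 (iv D19883) (iv D19511) (iv F76342) D19873
theorem F79085 : act 7 n20144 = n20040 := d33_2 (iv F77955) D20144 (iv D20040)
theorem F79086 : act 8 n20144 = n19891 := d34_2 (iv F77956) D20144 (iv D19891)
def n20145 : Q := act 4 n19876
theorem D20145 : act 4 n19876 = n20145 := rfl
theorem F79087 : act 0 n20145 = n19909 := d3_1 D20145 (iv D19909) (iv F77970)
theorem F79088 : act 1 n20145 = n19935 := d10_1 D20145 (iv D19935) (iv F77971)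
theorem F79089 : act 3 n20145 = n19882 := d21_1 D20145 (iv D19882) F76434 (iv F76400) (iv F77972)
theorem F79090 : act 5 n20145 = n20145 := d26_2 D19876 D20145 (iv D20145) (iv D19876) F76394
theorem F79091 : act 7 n20145 = n20009 := d28_2 (iv F77973) D20145 (iv D20009)
def n20146 : Q := act 6 n19876
theorem D20146 : act 6 n19876 = n20146 := rfl
theorem F79092 : act 0 n20146 = n19910 := d5_1 D20146 (iv D19910) (iv F77970)
theorem F79093 : act 1 n20146 = n19936 := d12_1 D20146 (iv D19936) (iv F77971)
theorem F79094 : act 3 n20146 = n19877 := d23_1 D20146 (iv D19877) (iv F77972)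
theorem F79095 : act 5 n20146 = n20004 := d30_1 D20146 (iv D20004) (iv D19683) (iv F76395) D19876
theorem F79096 : act 7 n20146 = n20010 := d33_2 (iv F77973) D20146 (iv D20010)
def n20147 : Q := act 4 n19878
theorem D20147 : act 4 n19878 = n20147 := rfl
theorem F79097 : act 0 n20147 = n19916 := d3_1 D20147 (iv D19916) (iv F77980)
theorem F79098 : act 2 n20147 = n19897 := d16_1 D20147 (iv D19897) (iv F77981)
theorem F79099 : act 5 n20147 = n20147 := d26_2 D19878 D20147 (iv D20147) (iv D19878) F76409
theorem F79100 : act 7 n20147 = n20023 := d28_2 (iv F77983) D20147 (iv D20023)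
theorem F79101 : act 8 n20147 = n19882 := d29_2 (iv F77984) D20147 (iv D19882)
def n20148 : Q := act 6 n19878
theorem D20148 : act 6 n19878 = n20148 := rfl
theorem F79102 : act 0 n20148 = n19917 := d5_1 D20148 (iv D19917) (iv F77980)
theorem F79103 : act 2 n20148 = n19898 := d18_1 D20148 (iv D19898) (iv F77981)
theorem F79104 : act 3 n20148 = n19879 := d23_1 D20148 (iv D19879) (iv F77982)
theorem F79105 : act 5 n20148 = n19891 := d30_1 D20148 (iv D19891) (iv D19532) (iv F76410) D19878
theorem F79106 : act 7 n20148 = n20024 := d33_2 (iv F77983) D20148 (iv D20024)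
theorem F79107 : act 8 n20148 = n19883 := d34_2 (iv F77984) D20148 (iv D19883)
def n20149 : Q := act 4 n19880
theorem D20149 : act 4 n19880 = n20149 := rfl
theorem F79108 : act 0 n20149 = n19943 := d3_1 D20149 (iv D19943) (iv F77990)
theorem F79109 : act 1 n20149 = n19882 := d10_1 D20149 (iv D19882) (iv F77991)
theorem F79110 : act 3 n20149 = n19935 := d21_1 D20149 (iv D19935) F76843 (iv F76431) (iv F77992)
theorem F79111 : act 5 n20149 = n20149 := d26_2 D19880 D20149 (iv D20149) (iv D19880) F76425
theorem F79112 : act 7 n20149 = n20081 := d28_2 (iv F77993) D20149 (iv D20081)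
def n20150 : Q := act 6 n19880
theorem D20150 : act 6 n19880 = n20150 := rfl
theorem F79113 : act 0 n20150 = n19944 := d5_1 D20150 (iv D19944) (iv F77990)
theorem F79114 : act 1 n20150 = n19883 := d12_1 D20150 (iv D19883) (iv F77991)
theorem F79115 : act 3 n20150 = n19881 := d23_1 D20150 (iv D19881) (iv F77992)
theorem F79116 : act 5 n20150 = n20044 := d30_1 D20150 (iv D20044) (iv D19743) (iv F76426) D19880
theorem F79117 : act 7 n20150 = n20082 := d33_2 (iv F77993) D20150 (iv D20082)
def n20151 : Q := act 6 n19882
theorem D20151 : act 6 n19882 = n20151 := rfl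
theorem F79118 : act 0 n20151 = n19923 := d5_1 D20151 (iv D19923) (iv F78000)
theorem F79119 : act 4 n20151 = n19883 := d27_1 D20151 (iv D19883) D19882
theorem F79120 : act 7 n20151 = n20083 := d33_2 (iv F78002) D20151 (iv D20083)
def n20152 : Q := act 4 n19885
theorem D20152 : act 4 n19885 = n20152 := rfl
theorem F79121 : act 0 n20152 = n20087 := d3_1 D20152 (iv D20087) (iv F78012)
theorem F79122 : act 1 n20152 = n20045 := d10_1 D20152 (iv D20045) (iv F78013)
theorem F79123 : act 3 n20152 = n19890 := d21_1 D20152 (iv D19890) F76557 (iv F76538) (iv F78014)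
theorem F79124 : act 5 n20152 = n20152 := d26_2 D19885 D20152 (iv D20152) (iv D19885) F76532
theorem F79125 : act 8 n20152 = n19991 := d29_2 (iv F78015) D20152 (iv D19991)
def n20153 : Q := act 6 n19885
theorem D20153 : act 6 n19885 = n20153 := rfl
theorem F79126 : act 0 n20153 = n20088 := d5_1 D20153 (iv D20088) (iv F78012)
theorem F79127 : act 1 n20153 = n20046 := d12_1 D20153 (iv D20046) (iv F78013)
theorem F79128 : act 3 n20153 = n19887 := d23_1 D20153 (iv D19887) (iv F78014)
theorem F79129 : act 5 n20153 = n20006 := d30_1 D20153 (iv D20006) (iv D19685) (iv F76533) D19885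
theorem F79130 : act 8 n20153 = n19992 := d34_2 (iv F78015) D20153 (iv D19992)
def n20154 : Q := act 7 n19885
theorem D20154 : act 7 n19885 = n20154 := rfl
theorem F79131 : act 0 n20154 = n20089 := d6_1 D20154 (iv D20089) (iv F78012)
theorem F79132 : act 1 n20154 = n19976 := d13_1 D20154 F78397 (iv F78013)
theorem F79133 : act 3 n20154 = n19893 := d24_1 D20154 (iv D19893) F76569 (iv F76539) (iv F78014)
theorem F79134 : act 5 n20154 = n19886 := d31_1 D20154 (iv D19886) D19885
theorem F79135 : act 8 n20154 = n20065 := d35_2 (iv F78015) D20154 (iv F79024) F79025 F78063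
def n20155 : Q := act 4 n19888
theorem D20155 : act 4 n19888 = n20155 := rfl
theorem F79136 : act 1 n20155 = n19890 := d10_1 D20155 (iv D19890) (iv F78029)
theorem F79137 : act 3 n20155 = n20045 := d21_1 D20155 (iv D20045) F77469 (iv F76553) (iv F78030)
theorem F79138 : act 5 n20155 = n20155 := d26_2 D19888 D20155 (iv D20155) (iv D19888) F76548
theorem F79139 : act 7 n20155 = n20110 := d28_2 (iv F78031) D20155 (iv D20110)
theorem F79140 : act 8 n20155 = n20043 := d29_2 (iv F78032) D20155 (iv D20043)
def n20156 : Q := act 6 n19888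
theorem D20156 : act 6 n19888 = n20156 := rfl
theorem F79141 : act 1 n20156 = n19891 := d12_1 D20156 (iv D19891) (iv F78029)
theorem F79142 : act 3 n20156 = n19889 := d23_1 D20156 (iv D19889) (iv F78030)
theorem F79143 : act 7 n20156 = n20111 := d33_2 (iv F78031) D20156 (iv D20111)
theorem F79144 : act 8 n20156 = n20044 := d34_2 (iv F78032) D20156 (iv D20044)
def n20157 : Q := act 6 n19890
theorem D20157 : act 6 n19890 = n20157 := rfl
theorem F79145 : act 2 n20157 = n19923 := d18_1 D20157 (iv D19923) (iv F78038)
theorem F79146 : act 4 n20157 = n19891 := d27_1 D20157 (iv D19891) D19890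
theorem F79147 : act 7 n20157 = n20112 := d33_2 (iv F78040) D20157 (iv D20112)
def n20158 : Q := act 7 n19892
theorem D20158 : act 7 n19892 = n20158 := rfl
theorem F79148 : act 1 n20158 = n19977 := d13_1 D20158 F78403 (iv F78044)
theorem F79149 : act 2 n20158 = n19986 := d19_1 D20158 F78433 (iv F78045)
theorem F79150 : act 4 n20158 = n19980 := d28_1 D20158 F78415 (iv F78047)
theorem F79151 : act 5 n20158 = n20125 := d31_1 D20158 (iv D20125) (iv F78048)
theorem F79152 : act 6 n20158 = n19893 := d33_1 D20158 (iv D19893) D19892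
theorem F79153 : act 8 n20158 = n20066 := d35_2 (iv F78049) D20158 F78762 F77610 (iv F77536)
def n20159 : Q := act 4 n19895
theorem D20159 : act 4 n19895 = n20159 := rfl
theorem F79154 : act 0 n20159 = n20093 := d3_1 D20159 F78853 (iv F78060)
theorem F79155 : act 1 n20159 = n19897 := d10_1 D20159 (iv D19897) (iv F78061)
theorem F79156 : act 3 n20159 = n20090 := d21_1 D20159 (iv D20090) F77654 (iv F76600) (iv F78062)
theorem F79157 : act 5 n20159 = n20159 := d26_2 D19895 D20159 (iv D20159) (iv D19895) F76594
theorem F79158 : act 7 n20159 = n19991 := d28_2 (iv F78063) D20159 (iv D19991)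
def n20160 : Q := act 6 n19895
theorem D20160 : act 6 n19895 = n20160 := rfl
theorem F79159 : act 0 n20160 = n20094 := d5_1 D20160 F78857 (iv F78060)
theorem F79160 : act 1 n20160 = n19898 := d12_1 D20160 (iv D19898) (iv F78061)
theorem F79161 : act 3 n20160 = n19896 := d23_1 D20160 (iv D19896) (iv F78062)
theorem F79162 : act 5 n20160 = n19922 := d30_1 D20160 (iv D19922) (iv D19569) (iv F76595) D19895
theorem F79163 : act 7 n20160 = n19992 := d33_2 (iv F78063) D20160 (iv D19992)
def n20161 : Q := act 6 n19897
theorem D20161 : act 6 n19897 = n20161 := rfl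
theorem F79164 : act 3 n20161 = n20092 := d23_1 D20161 (iv D20092) (iv F78070)
theorem F79165 : act 4 n20161 = n19898 := d27_1 D20161 (iv D19898) D19897
theorem F79166 : act 7 n20161 = n20047 := d33_2 (iv F78072) D20161 (iv D20047)
def n20162 : Q := act 4 n19900
theorem D20162 : act 4 n19900 = n20162 := rfl
theorem F79167 : act 2 n20162 = n19909 := d16_1 D20162 (iv D19909) (iv F78083)
theorem F79168 : act 5 n20162 = n20162 := d26_2 D19900 D20162 (iv D20162) (iv D19900) F76639
theorem F79169 : act 7 n20162 = n19950 := d28_2 (iv F78085) D20162 (iv D19950)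
theorem F79170 : act 8 n20162 = n20133 := d29_2 (iv F78086) D20162 F79013
def n20163 : Q := act 6 n19900
theorem D20163 : act 6 n19900 = n20163 := rfl
theorem F79171 : act 2 n20163 = n19910 := d18_1 D20163 (iv D19910) (iv F78083)
theorem F79172 : act 3 n20163 = n19901 := d23_1 D20163 (iv D19901) (iv F78084)
theorem F79173 : act 7 n20163 = n19951 := d33_2 (iv F78085) D20163 (iv D19951)
theorem F79174 : act 8 n20163 = n20134 := d34_2 (iv F78086) D20163 F79020
def n20164 : Q := act 5 n19902
theorem D20164 : act 5 n19902 = n20164 := rfl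
theorem F79175 : act 0 n20164 = n19948 := d4_1 D20164 (iv D19948) (iv F78090)
theorem F79176 : act 1 n20164 = n19904 := d11_1 D20164 (iv D19904) (iv F78091)
theorem F79177 : act 3 n20164 = n19903 := d22_1 D20164 (iv D19903) D19902
theorem F79178 : act 7 n20164 = n20128 := d31_2 (iv F78094) D20164 (iv D20128)
theorem F79179 : act 8 n20164 = n19907 := d32_2 (iv F78095) D20164 (iv D19907)
def n20165 : Q := act 6 n19903
theorem D20165 : act 6 n19903 = n20165 := rfl
theorem F79180 : act 0 n20165 = n19949 := d5_1 D20165 (iv D19949) (iv F78096)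
theorem F79181 : act 1 n20165 = n19905 := d12_1 D20165 (iv D19905) (iv F78097)
theorem F79182 : act 2 n20165 = n19962 := d18_1 D20165 (iv D19962) (iv F78098)
theorem F79183 : act 4 n20165 = n19915 := d27_1 D20165 (iv D19915) (iv F78099)
theorem F79184 : act 5 n20165 = n20074 := d30_1 D20165 F78795 F77613 (iv F76656) D19903
theorem F79185 : act 7 n20165 = n19958 := d33_2 (iv F78100) D20165 (iv D19958)
theorem F79186 : act 8 n20165 = n19908 := d34_2 (iv F78101) D20165 (iv D19908)
def n20166 : Q := act 4 n19904
theorem D20166 : act 4 n19904 = n20166 := rfl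
theorem F79187 : act 2 n20166 = n20133 := d16_1 D20166 F79013 (iv F78102)
theorem F79188 : act 3 n20166 = n19916 := d21_1 D20166 (iv D19916) F76700 (iv F76665) (iv F78103)
theorem F79189 : act 5 n20166 = n20166 := d26_2 D19904 D20166 (iv D20166) (iv D19904) F76660
theorem F79190 : act 7 n20166 = n20130 := d28_2 (iv F78104) D20166 (iv D20130)
theorem F79191 : act 8 n20166 = n19909 := d29_2 (iv F78105) D20166 (iv D19909)
def n20167 : Q := act 6 n19904
theorem D20167 : act 6 n19904 = n20167 := rfl
theorem F79192 : act 2 n20167 = n20134 := d18_1 D20167 F79020 (iv F78102)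
theorem F79193 : act 3 n20167 = n19905 := d23_1 D20167 (iv D19905) (iv F78103)
theorem F79194 : act 5 n20167 = n20163 := d30_1 D20167 (iv D20163) (iv D19900) (iv F76661) D19904
theorem F79195 : act 7 n20167 = n20131 := d33_2 (iv F78104) D20167 (iv D20131)
theorem F79196 : act 8 n20167 = n19910 := d34_2 (iv F78105) D20167 (iv D19910)
def n20168 : Q := act 5 n19906
theorem D20168 : act 5 n19906 = n20168 := rfl
theorem F79197 : act 0 n20168 = n19952 := d4_1 D20168 (iv D19952) (iv F78111)
theorem F79198 : act 2 n20168 = n19907 := d17_1 D20168 (iv D19907) D19906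
theorem F79199 : act 3 n20168 = n19967 := d22_1 D20168 (iv D19967) (iv F78112)
theorem F79200 : act 7 n20168 = n19972 := d31_2 (iv F78115) D20168 (iv D19972)
def n20169 : Q := act 4 n19907
theorem D20169 : act 4 n19907 = n20169 := rfl
theorem F79201 : act 0 n20169 = n19953 := d3_1 D20169 (iv D19953) (iv F78116)
theorem F79202 : act 1 n20169 = n19909 := d10_1 D20169 (iv D19909) (iv F78117)
theorem F79203 : act 3 n20169 = n19921 := d21_1 D20169 (iv D19921) F76723 (iv F76681) (iv F78118)
theorem F79204 : act 5 n20169 = n20169 := d26_2 D19907 D20169 (iv D20169) (iv D19907) F76675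
theorem F79205 : act 7 n20169 = n19974 := d28_2 (iv F78119) D20169 (iv D19974)
def n20170 : Q := act 6 n19907
theorem D20170 : act 6 n19907 = n20170 := rfl
theorem F79206 : act 0 n20170 = n19954 := d5_1 D20170 (iv D19954) (iv F78116)
theorem F79207 : act 1 n20170 = n19910 := d12_1 D20170 (iv D19910) (iv F78117)
theorem F79208 : act 3 n20170 = n19908 := d23_1 D20170 (iv D19908) (iv F78118)
theorem F79209 : act 5 n20170 = n20060 := d30_1 D20170 F78736 F77561 (iv F76676) D19907
theorem F79210 : act 7 n20170 = n19975 := d33_2 (iv F78119) D20170 (iv D19975)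
def n20171 : Q := act 6 n19909
theorem D20171 : act 6 n19909 = n20171 := rfl
theorem F79211 : act 3 n20171 = n19923 := d23_1 D20171 (iv D19923) (iv F78126)
theorem F79212 : act 4 n20171 = n19910 := d27_1 D20171 (iv D19910) D19909
def n20172 : Q := act 5 n19911
theorem D20172 : act 5 n19911 = n20172 := rfl
theorem F79213 : act 0 n20172 = n19913 := d4_1 D20172 (iv D19913) (iv F78129)
theorem F79214 : act 1 n20172 = n19941 := d11_1 D20172 (iv D19941) (iv F78130)
theorem F79215 : act 2 n20172 = n20135 := d17_1 D20172 (iv D20135) (iv F78131)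
theorem F79216 : act 3 n20172 = n19912 := d22_1 D20172 (iv D19912) D19911
theorem F79217 : act 8 n20172 = n19919 := d32_2 (iv F78134) D20172 (iv D19919)
def n20173 : Q := act 6 n19912
theorem D20173 : act 6 n19912 = n20173 := rfl
theorem F79218 : act 0 n20173 = n19915 := d5_1 D20173 (iv D19915) (iv F78135)
theorem F79219 : act 1 n20173 = n19942 := d12_1 D20173 (iv D19942) (iv F78136)
theorem F79220 : act 2 n20173 = n19958 := d18_1 D20173 (iv D19958) (iv F78137)
theorem F79221 : act 4 n20173 = n19949 := d27_1 D20173 (iv D19949) (iv F78138)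
theorem F79222 : act 5 n20173 = n20096 := d30_1 D20173 F78864 F77673 (iv F76690) D19912
theorem F79223 : act 7 n20173 = n19962 := d33_2 (iv F78139) D20173 (iv D19962)
theorem F79224 : act 8 n20173 = n19920 := d34_2 (iv F78140) D20173 (iv D19920)
def n20174 : Q := act 4 n19913
theorem D20174 : act 4 n19913 = n20174 := rfl
theorem F79225 : act 1 n20174 = n19916 := d10_1 D20174 (iv D19916) (iv F78141)
theorem F79226 : act 5 n20174 = n20174 := d26_2 D19913 D20174 (iv D20174) (iv D19913) F76694
theorem F79227 : act 8 n20174 = n19921 := d29_2 (iv F78143) D20174 (iv D19921)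
def n20175 : Q := act 6 n19913
theorem D20175 : act 6 n19913 = n20175 := rfl
theorem F79228 : act 1 n20175 = n19917 := d12_1 D20175 (iv D19917) (iv F78141)
theorem F79229 : act 3 n20175 = n19915 := d23_1 D20175 (iv D19915) (iv F78142)
theorem F79230 : act 8 n20175 = n19922 := d34_2 (iv F78143) D20175 (iv D19922)
def n20176 : Q := act 7 n19913
theorem D20176 : act 7 n19913 = n20176 := rfl
theorem F79231 : act 1 n20176 = n19918 := d13_1 D20176 (iv D19918) (iv F78141)
theorem F79232 : act 3 n20176 = n19965 := d24_1 D20176 (iv D19965) F76974 (iv F76698) (iv F78142)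
theorem F79233 : act 5 n20176 = n19914 := d31_1 D20176 (iv D19914) D19913
theorem F79234 : act 8 n20176 = n20007 := d35_2 (iv F78143) D20176 (iv D20007) F77224 (iv F76724)
def n20177 : Q := act 6 n19916
theorem D20177 : act 6 n19916 = n20177 := rfl
theorem F79235 : act 4 n20177 = n19917 := d27_1 D20177 (iv D19917) D19916
theorem F79236 : act 8 n20177 = n19923 := d34_2 (iv F78154) D20177 (iv D19923)
def n20178 : Q := act 7 n19916
theorem D20178 : act 7 n19916 = n20178 := rfl
theorem F79237 : act 0 n20178 = n20023 := d6_1 D20178 (iv F79100) F79097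
theorem F79238 : act 2 n20178 = n20039 := d19_1 D20178 (iv F79078) F79075
theorem F79239 : act 4 n20178 = n19918 := d28_1 D20178 (iv D19918) D19916
theorem F79240 : act 5 n20178 = n20178 := d31_1 D20178 (iv D20178) F78153
theorem F79241 : act 8 n20178 = n20120 := d35_2 (iv F78154) D20178 (iv D20120) F77804 (iv F76729)
def n20179 : Q := act 7 n19917
theorem D20179 : act 7 n19917 = n20179 := rfl
theorem F79242 : act 0 n20179 = n20024 := d6_1 D20179 (iv F79106) F79102
theorem F79243 : act 2 n20179 = n20040 := d19_1 D20179 (iv F79085) F79082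
theorem F79244 : act 3 n20179 = n19966 := d24_1 D20179 (iv D19966) F76984 (iv F76709) (iv F78155)
theorem F79245 : act 5 n20179 = n20068 := d31_1 D20179 (iv F79043) F79042
theorem F79246 : act 6 n20179 = n19918 := d33_1 D20179 (iv D19918) D19917
theorem F79247 : act 8 n20179 = n20121 := d35_2 (iv F78156) D20179 (iv D20121) F77806 (iv F76731)
def n20180 : Q := act 4 n19919
theorem D20180 : act 4 n19919 = n20180 := rfl
theorem F79248 : act 0 n20180 = n19921 := d3_1 D20180 (iv D19921) (iv F78162)
theorem F79249 : act 1 n20180 = n19943 := d10_1 D20180 (iv D19943) (iv F78163)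
theorem F79250 : act 2 n20180 = n20159 := d16_1 D20180 (iv D20159) (iv F78164)
theorem F79251 : act 3 n20180 = n19953 := d21_1 D20180 (iv D19953) F76917 (iv F76720) (iv F78165)
theorem F79252 : act 5 n20180 = n20180 := d26_2 D19919 D20180 (iv D20180) (iv D19919) F76714
theorem F79253 : act 7 n20180 = n19997 := d28_2 (iv F78166) D20180 (iv D19997)
def n20181 : Q := act 6 n19919
theorem D20181 : act 6 n19919 = n20181 := rfl
theorem F79254 : act 0 n20181 = n19922 := d5_1 D20181 (iv D19922) (iv F78162)
theorem F79255 : act 1 n20181 = n19944 := d12_1 D20181 (iv D19944) (iv F78163)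
theorem F79256 : act 2 n20181 = n20160 := d18_1 D20181 (iv D20160) (iv F78164)
theorem F79257 : act 3 n20181 = n19920 := d23_1 D20181 (iv D19920) (iv F78165)
theorem F79258 : act 5 n20181 = n20094 := d30_1 D20181 F78857 F77664 (iv F76715) D19919
theorem F79259 : act 7 n20181 = n19998 := d33_2 (iv F78166) D20181 (iv D19998)
def n20182 : Q := act 6 n19921
theorem D20182 : act 6 n19921 = n20182 := rfl
theorem F79260 : act 1 n20182 = n19923 := d12_1 D20182 (iv D19923) (iv F78173)
theorem F79261 : act 4 n20182 = n19922 := d27_1 D20182 (iv D19922) D19921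
theorem F79262 : act 7 n20182 = n20008 := d33_2 (iv F78175) D20182 (iv D20008)
def n20183 : Q := act 5 n19923
theorem D20183 : act 5 n19923 = n20183 := rfl
theorem F79263 : act 6 n20183 = n20183 := d30_2 D19923 D20183 (iv D20183) (iv D19923) F76728
theorem F79264 : act 7 n20183 = n20122 := d31_2 (iv F78180) D20183 (iv D20122)
def n20184 : Q := act 6 n19924
theorem D20184 : act 6 n19924 = n20184 := rfl
theorem F79265 : act 1 n20184 = n19983 := d12_1 D20184 (iv D19983) (iv F78181)
theorem F79266 : act 3 n20184 = n20058 := d23_1 D20184 (iv D20058) (iv F78182)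
theorem F79267 : act 4 n20184 = n19925 := d27_1 D20184 (iv D19925) D19924
theorem F79268 : act 7 n20184 = n19955 := d33_2 (iv F78184) D20184 (iv D19955)
theorem F79269 : act 8 n20184 = n20132 := d34_2 (iv F78185) D20184 (iv D20132)
def n20185 : Q := act 4 n19926
theorem D20185 : act 4 n19926 = n20185 := rfl
theorem F79270 : act 0 n20185 = n20059 := d3_1 D20185 F78733 (iv F78191)
theorem F79271 : act 1 n20185 = n19928 := d10_1 D20185 (iv D19928) (iv F78192)
theorem F79272 : act 3 n20185 = n20081 := d21_1 D20185 (iv D20081) F77633 (iv F76764) (iv F78193)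
theorem F79273 : act 5 n20185 = n20185 := d26_2 D19926 D20185 (iv D20185) (iv D19926) F76758
theorem F79274 : act 7 n20185 = n19970 := d28_2 (iv F78194) D20185 (iv D19970)
def n20186 : Q := act 6 n19926
theorem D20186 : act 6 n19926 = n20186 := rfl
theorem F79275 : act 0 n20186 = n20060 := d5_1 D20186 F78736 (iv F78191)
theorem F79276 : act 1 n20186 = n19929 := d12_1 D20186 (iv D19929) (iv F78192)
theorem F79277 : act 3 n20186 = n19927 := d23_1 D20186 (iv D19927) (iv F78193)
theorem F79278 : act 5 n20186 = n19954 := d30_1 D20186 (iv D19954) (iv D19613) (iv F76759) D19926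
theorem F79279 : act 7 n20186 = n19971 := d33_2 (iv F78194) D20186 (iv D19971)
def n20187 : Q := act 6 n19928
theorem D20187 : act 6 n19928 = n20187 := rfl
theorem F79280 : act 0 n20187 = n20118 := d5_1 D20187 (iv D20118) (iv F78201)
theorem F79281 : act 2 n20187 = n20184 := d18_1 D20187 (iv D20184) (iv F78202)
theorem F79282 : act 3 n20187 = n20083 := d23_1 D20187 (iv D20083) (iv F78203)
theorem F79283 : act 4 n20187 = n19929 := d27_1 D20187 (iv D19929) D19928
theorem F79284 : act 7 n20187 = n20013 := d33_2 (iv F78205) D20187 (iv D20013)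
def n20188 : Q := act 4 n19933
theorem D20188 : act 4 n19933 = n20188 := rfl
theorem F79285 : act 0 n20188 = n19950 := d3_1 D20188 (iv D19950) (iv F78226)
theorem F79286 : act 2 n20188 = n20009 := d16_1 D20188 (iv D20009) (iv F78227)
theorem F79287 : act 5 n20188 = n20188 := d26_2 D19933 D20188 (iv D20188) (iv D19933) F76829
theorem F79288 : act 8 n20188 = n19935 := d29_2 (iv F78229) D20188 (iv D19935)
def n20189 : Q := act 6 n19933
theorem D20189 : act 6 n19933 = n20189 := rfl
theorem F79289 : act 0 n20189 = n19951 := d5_1 D20189 (iv D19951) (iv F78226)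
theorem F79290 : act 2 n20189 = n20010 := d18_1 D20189 (iv D20010) (iv F78227)
theorem F79291 : act 3 n20189 = n19934 := d23_1 D20189 (iv D19934) (iv F78228)
theorem F79292 : act 5 n20189 = n20117 := d30_1 D20189 (iv D20117) (iv D19837) (iv F76830) D19933
theorem F79293 : act 8 n20189 = n19936 := d34_2 (iv F78229) D20189 (iv D19936)
def n20190 : Q := act 6 n19935
theorem D20190 : act 6 n19935 = n20190 := rfl
theorem F79294 : act 0 n20190 = n19955 := d5_1 D20190 (iv D19955) (iv F78235)
theorem F79295 : act 4 n20190 = n19936 := d27_1 D20190 (iv D19936) D19935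
def n20191 : Q := act 4 n19937
theorem D20191 : act 4 n19937 = n20191 := rfl
theorem F79296 : act 1 n20191 = n20147 := d10_1 D20191 (iv D20147) (iv F78240)
theorem F79297 : act 2 n20191 = n19943 := d16_1 D20191 (iv D19943) (iv F78241)
theorem F79298 : act 3 n20191 = n20188 := d21_1 D20191 (iv D20188) F78228 (iv F76855) (iv F78242)
theorem F79299 : act 5 n20191 = n20191 := d26_2 D19937 D20191 (iv D20191) (iv D19937) F76850
theorem F79300 : act 8 n20191 = n20149 := d29_2 (iv F78243) D20191 (iv D20149)
def n20192 : Q := act 6 n19937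
theorem D20192 : act 6 n19937 = n20192 := rfl
theorem F79301 : act 1 n20192 = n20148 := d12_1 D20192 (iv D20148) (iv F78240)
theorem F79302 : act 2 n20192 = n19944 := d18_1 D20192 (iv D19944) (iv F78241)
theorem F79303 : act 3 n20192 = n19938 := d23_1 D20192 (iv D19938) (iv F78242)
theorem F79304 : act 5 n20192 = n20156 := d30_1 D20192 (iv D20156) (iv D19888) (iv F76851) D19937
theorem F79305 : act 8 n20192 = n20150 := d34_2 (iv F78243) D20192 (iv D20150)
def n20193 : Q := act 4 n19939
theorem D20193 : act 4 n19939 = n20193 := rfl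
theorem F79306 : act 0 n20193 = n20043 := d3_1 D20193 (iv D20043) (iv F78250)
theorem F79307 : act 1 n20193 = n20093 := d10_1 D20193 F78853 (iv F78251)
theorem F79308 : act 2 n20193 = n20155 := d16_1 D20193 (iv D20155) (iv F78252)
theorem F79309 : act 3 n20193 = n20039 := d21_1 D20193 (iv D20039) F77431 (iv F76872) (iv F78253)
theorem F79310 : act 5 n20193 = n20193 := d26_2 D19939 D20193 (iv D20193) (iv D19939) F76866
theorem F79311 : act 7 n20193 = n20090 := d28_2 (iv F78254) D20193 (iv D20090)
def n20194 : Q := act 6 n19939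
theorem D20194 : act 6 n19939 = n20194 := rfl
theorem F79312 : act 0 n20194 = n20044 := d5_1 D20194 (iv D20044) (iv F78250)
theorem F79313 : act 1 n20194 = n20094 := d12_1 D20194 F78857 (iv F78251)
theorem F79314 : act 2 n20194 = n20156 := d18_1 D20194 (iv D20156) (iv F78252)
theorem F79315 : act 3 n20194 = n19940 := d23_1 D20194 (iv D19940) (iv F78253)
theorem F79316 : act 5 n20194 = n19944 := d30_1 D20194 (iv D19944) (iv D19605) (iv F76867) D19939
theorem F79317 : act 7 n20194 = n20091 := d33_2 (iv F78254) D20194 (iv D20091)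
def n20195 : Q := act 4 n19941
theorem D20195 : act 4 n19941 = n20195 := rfl
theorem F79318 : act 0 n20195 = n20191 := d3_1 D20195 (iv D20191) (iv F78261)
theorem F79319 : act 2 n20195 = n20149 := d16_1 D20195 (iv D20149) (iv F78262)
theorem F79320 : act 3 n20195 = n19950 := d21_1 D20195 (iv D19950) F76908 (iv F76885) (iv F78263)
theorem F79321 : act 5 n20195 = n20195 := d26_2 D19941 D20195 (iv D20195) (iv D19941) F76881
theorem F79322 : act 8 n20195 = n19943 := d29_2 (iv F78264) D20195 (iv D19943)
def n20196 : Q := act 6 n19941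
theorem D20196 : act 6 n19941 = n20196 := rfl
theorem F79323 : act 0 n20196 = n20192 := d5_1 D20196 (iv D20192) (iv F78261)
theorem F79324 : act 2 n20196 = n20150 := d18_1 D20196 (iv D20150) (iv F78262)
theorem F79325 : act 3 n20196 = n19942 := d23_1 D20196 (iv D19942) (iv F78263)
theorem F79326 : act 8 n20196 = n19944 := d34_2 (iv F78264) D20196 (iv D19944)
def n20197 : Q := act 6 n19943
theorem D20197 : act 6 n19943 = n20197 := rfl
theorem F79327 : act 3 n20197 = n19955 := d23_1 D20197 (iv D19955) (iv F78269)
theorem F79328 : act 4 n20197 = n19944 := d27_1 D20197 (iv D19944) D19943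
def n20198 : Q := act 7 n19943
theorem D20198 : act 7 n19943 = n20198 := rfl
theorem F79329 : act 0 n20198 = n20081 := d6_1 D20198 (iv F79112) F79108
theorem F79330 : act 1 n20198 = n19997 := d13_1 D20198 (iv F79253) F79249
theorem F79331 : act 3 n20198 = n20059 := d24_1 D20198 (iv D20059) (iv F78182) F78184 (iv F78269)
theorem F79332 : act 4 n20198 = n19945 := d28_1 D20198 (iv D19945) D19943
theorem F79333 : act 5 n20198 = n20198 := d31_1 D20198 (iv D20198) F78270
def n20199 : Q := act 7 n19944
theorem D20199 : act 7 n19944 = n20199 := rfl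
theorem F79334 : act 0 n20199 = n20082 := d6_1 D20199 (iv F79117) F79113
theorem F79335 : act 1 n20199 = n19998 := d13_1 D20199 (iv F79259) F79255
theorem F79336 : act 3 n20199 = n19956 := d24_1 D20199 (iv D19956) F76934 (iv F76900) (iv F78271)
theorem F79337 : act 5 n20199 = n20091 := d31_1 D20199 (iv F79317) F79316
theorem F79338 : act 6 n20199 = n19945 := d33_1 D20199 (iv D19945) D19944
def n20200 : Q := act 8 n19945
theorem D20200 : act 8 n19945 = n20200 := rfl
theorem F79339 : act 0 n20200 = n20076 := d7_1 D20200 F78805 (iv F78272)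
theorem F79340 : act 1 n20200 = n19994 := d14_1 D20200 F78466 (iv F78273)
theorem F79341 : act 3 n20200 = n19957 := d25_1 D20200 (iv D19957) (iv F78274)
theorem F79342 : act 5 n20200 = n19946 := d32_1 D20200 (iv D19946) (iv F78275)
def n20201 : Q := act 5 n19947
theorem D20201 : act 5 n19947 = n20201 := rfl
theorem F79343 : act 1 n20201 = n19972 := d11_1 D20201 (iv D19972) (iv F78281)
theorem F79344 : act 2 n20201 = n19948 := d17_1 D20201 (iv D19948) D19947
theorem F79345 : act 3 n20201 = n19963 := d22_1 D20201 (iv D19963) (iv F78282)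
theorem F79346 : act 8 n20201 = n19952 := d32_2 (iv F78285) D20201 (iv D19952)
def n20202 : Q := act 4 n19948
theorem D20202 : act 4 n19948 = n20202 := rfl
theorem F79347 : act 1 n20202 = n19950 := d10_1 D20202 (iv D19950) (iv F78286)
theorem F79348 : act 5 n20202 = n20202 := d26_2 D19948 D20202 (iv D20202) (iv D19948) F76902
theorem F79349 : act 8 n20202 = n19953 := d29_2 (iv F78288) D20202 (iv D19953)
def n20203 : Q := act 6 n19948
theorem D20203 : act 6 n19948 = n20203 := rfl
theorem F79350 : act 1 n20203 = n19951 := d12_1 D20203 (iv D19951) (iv F78286)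
theorem F79351 : act 3 n20203 = n19949 := d23_1 D20203 (iv D19949) (iv F78287)
theorem F79352 : act 8 n20203 = n19954 := d34_2 (iv F78288) D20203 (iv D19954)
def n20204 : Q := act 6 n19950
theorem D20204 : act 6 n19950 = n20204 := rfl
theorem F79353 : act 4 n20204 = n19951 := d27_1 D20204 (iv D19951) D19950
theorem F79354 : act 8 n20204 = n19955 := d34_2 (iv F78294) D20204 (iv D19955)
def n20205 : Q := act 4 n19952
theorem D20205 : act 4 n19952 = n20205 := rfl
theorem F79355 : act 1 n20205 = n20101 := d10_1 D20205 (iv D20101) (iv F78297)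
theorem F79356 : act 2 n20205 = n19953 := d16_1 D20205 (iv D19953) (iv F78298)
theorem F79357 : act 3 n20205 = n20110 := d21_1 D20205 (iv D20110) F77753 (iv F77002) (iv F78299)
theorem F79358 : act 5 n20205 = n20205 := d26_2 D19952 D20205 (iv D20205) (iv D19952) F76914
theorem F79359 : act 7 n20205 = n19981 := d28_2 (iv F78300) D20205 (iv D19981)
def n20206 : Q := act 6 n19952
theorem D20206 : act 6 n19952 = n20206 := rfl
theorem F79360 : act 1 n20206 = n20102 := d12_1 D20206 (iv D20102) (iv F78297)
theorem F79361 : act 2 n20206 = n19954 := d18_1 D20206 (iv D19954) (iv F78298)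
theorem F79362 : act 3 n20206 = n19969 := d23_1 D20206 (iv D19969) (iv F78299)
theorem F79363 : act 7 n20206 = n19982 := d33_2 (iv F78300) D20206 (iv D19982)
def n20207 : Q := act 6 n19953
theorem D20207 : act 6 n19953 = n20207 := rfl
theorem F79364 : act 1 n20207 = n19955 := d12_1 D20207 (iv D19955) (iv F78301)
theorem F79365 : act 4 n20207 = n19954 := d27_1 D20207 (iv D19954) D19953
theorem F79366 : act 7 n20207 = n19983 := d33_2 (iv F78303) D20207 (iv D19983)
def n20208 : Q := act 5 n19955
theorem D20208 : act 5 n19955 = n20208 := rfl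
theorem F79367 : act 6 n20208 = n20208 := d30_2 D19955 D20208 (iv D20208) (iv D19955) F76922
def n20209 : Q := act 8 n19956
theorem D20209 : act 8 n19956 = n20209 := rfl
theorem F79368 : act 0 n20209 = n20077 := d7_1 D20209 F78808 (iv F78308)
theorem F79369 : act 1 n20209 = n19996 := d14_1 D20209 F78477 (iv F78309)
theorem F79370 : act 2 n20209 = n20049 := d20_1 D20209 F78697 (iv F78310)
theorem F79371 : act 4 n20209 = n20074 := d29_1 D20209 (iv D20074) (iv F78311)
theorem F79372 : act 5 n20209 = n20086 := d32_1 D20209 F78837 (iv F78312)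
theorem F79373 : act 6 n20209 = n19957 := d34_1 D20209 (iv D19957) (iv F78313)
theorem F79374 : act 7 n20209 = n20098 := d35_1 D20209 (iv D20098) (iv D19807) (iv F76937) D19956
def n20210 : Q := act 5 n19959
theorem D20210 : act 5 n19959 = n20210 := rfl
theorem F79375 : act 0 n20210 = n19963 := d4_1 D20210 (iv D19963) (iv F78325)
theorem F79376 : act 1 n20210 = n19978 := d11_1 D20210 (iv D19978) (iv F78326)
theorem F79377 : act 2 n20210 = n19960 := d17_1 D20210 (iv D19960) D19959
theorem F79378 : act 4 n20210 = n20103 := d26_1 D20210 (iv D20103) (iv D19819) (iv F77010) (iv F78327)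
theorem F79379 : act 7 n20210 = n20070 := d31_2 F78330 D20210 (iv D20070)
theorem F79380 : act 8 n20210 = n19967 := d32_2 (iv F78329) D20210 (iv D19967)
def n20211 : Q := act 6 n19960
theorem D20211 : act 6 n19960 = n20211 := rfl
theorem F79381 : act 0 n20211 = n19964 := d5_1 D20211 (iv D19964) (iv F78331)
theorem F79382 : act 1 n20211 = n20025 := d12_1 D20211 (iv D20025) (iv F78332)
theorem F79383 : act 3 n20211 = n19962 := d23_1 D20211 (iv D19962) (iv F78333)
theorem F79384 : act 5 n20211 = n20073 := d30_1 D20211 (iv D20073) (iv D19781) (iv F76964) D19960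
theorem F79385 : act 8 n20211 = n19968 := d34_2 (iv F78334) D20211 (iv D19968)
def n20212 : Q := act 7 n19960
theorem D20212 : act 7 n19960 = n20212 := rfl
theorem F79386 : act 0 n20212 = n19965 := d6_1 D20212 (iv D19965) (iv F78331)
theorem F79387 : act 1 n20212 = n20020 := d13_1 D20212 F78583 (iv F78332)
theorem F79388 : act 2 n20212 = n20070 := d19_1 D20212 (iv F79379) F79377
theorem F79389 : act 5 n20212 = n19961 := d31_1 D20212 (iv D19961) D19960
theorem F79390 : act 8 n20212 = n20124 := d35_2 (iv F78334) D20212 (iv D20124) F77827 (iv F76996)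
def n20213 : Q := act 6 n19963
theorem D20213 : act 6 n19963 = n20213 := rfl
theorem F79391 : act 1 n20213 = n19973 := d12_1 D20213 (iv D19973) (iv F78344)
theorem F79392 : act 2 n20213 = n19964 := d18_1 D20213 (iv D19964) (iv F78345)
theorem F79393 : act 4 n20213 = n20105 := d27_1 D20213 (iv D20105) (iv F78346)
theorem F79394 : act 5 n20213 = n20054 := d30_1 D20213 (iv D20054) (iv D19763) (iv F76971) D19963
theorem F79395 : act 8 n20213 = n19969 := d34_2 (iv F78347) D20213 (iv D19969)
def n20214 : Q := act 7 n19964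
theorem D20214 : act 7 n19964 = n20214 := rfl
theorem F79396 : act 1 n20214 = n19966 := d13_1 D20214 (iv D19966) (iv F78348)
theorem F79397 : act 5 n20214 = n20066 := d31_1 D20214 F78762 (iv F78350)
theorem F79398 : act 6 n20214 = n19965 := d33_1 D20214 (iv D19965) D19964
theorem F79399 : act 8 n20214 = n20125 := d35_2 (iv F78351) D20214 (iv D20125) F77839 (iv F77006)
def n20215 : Q := act 6 n19967
theorem D20215 : act 6 n19967 = n20215 := rfl
theorem F79400 : act 0 n20215 = n19969 := d5_1 D20215 (iv D19969) (iv F78360)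
theorem F79401 : act 2 n20215 = n19968 := d18_1 D20215 (iv D19968) (iv F78361)
theorem F79402 : act 4 n20215 = n20109 := d27_1 D20215 (iv D20109) (iv F78362)
theorem F79403 : act 7 n20215 = n20113 := d33_2 (iv F78363) D20215 (iv D20113)
def n20216 : Q := act 6 n19970
theorem D20216 : act 6 n19970 = n20216 := rfl
theorem F79404 : act 0 n20216 = n20058 := d5_1 D20216 (iv D20058) (iv F78371)
theorem F79405 : act 1 n20216 = n20013 := d12_1 D20216 (iv D20013) (iv F78372)
theorem F79406 : act 4 n20216 = n19971 := d27_1 D20216 (iv D19971) D19970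
def n20217 : Q := act 4 n19972
theorem D20217 : act 4 n19972 = n20217 := rfl
theorem F79407 : act 0 n20217 = n19981 := d3_1 D20217 (iv D19981) (iv F78378)
theorem F79408 : act 2 n20217 = n19974 := d16_1 D20217 (iv D19974) (iv F78379)
theorem F79409 : act 3 n20217 = n20106 := d21_1 D20217 (iv D20106) F77738 (iv F77035) (iv F78380)
theorem F79410 : act 5 n20217 = n20217 := d26_2 D19972 D20217 (iv D20217) (iv D19972) F77030
theorem F79411 : act 8 n20217 = n20101 := d29_2 (iv F78381) D20217 (iv D20101)
def n20218 : Q := act 6 n19972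
theorem D20218 : act 6 n19972 = n20218 := rfl
theorem F79412 : act 0 n20218 = n19982 := d5_1 D20218 (iv D19982) (iv F78378)
theorem F79413 : act 2 n20218 = n19975 := d18_1 D20218 (iv D19975) (iv F78379)
theorem F79414 : act 3 n20218 = n19973 := d23_1 D20218 (iv D19973) (iv F78380)
theorem F79415 : act 5 n20218 = n20056 := d30_1 D20218 (iv D20056) (iv D19764) (iv F77031) D19972
theorem F79416 : act 8 n20218 = n20102 := d34_2 (iv F78381) D20218 (iv D20102)
def n20219 : Q := act 6 n19974
theorem D20219 : act 6 n19974 = n20219 := rfl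
theorem F79417 : act 0 n20219 = n19983 := d5_1 D20219 (iv D19983) (iv F78387)
theorem F79418 : act 4 n20219 = n19975 := d27_1 D20219 (iv D19975) D19974
theorem F79419 : act 8 n20219 = n20216 := d34_2 (iv F78389) D20219 (iv D20216)
def n20220 : Q := act 4 n19976
theorem D20220 : act 4 n19976 = n20220 := rfl
theorem F79420 : act 0 n20220 = n20106 := d3_1 D20220 (iv D20106) (iv F78394)
theorem F79421 : act 2 n20220 = n20078 := d16_1 D20220 (iv D20078) (iv F78395)
theorem F79422 : act 3 n20220 = n19981 := d21_1 D20220 (iv D19981) F77080 (iv F77059) (iv F78396)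
theorem F79423 : act 5 n20220 = n20220 := d26_2 D19976 D20220 (iv D20220) (iv D19976) F77053
theorem F79424 : act 7 n20220 = n20045 := d28_2 (iv F78397) D20220 (iv D20045)
theorem F79425 : act 8 n20220 = n20067 := d29_2 (iv F78398) D20220 (iv D20067)
def n20221 : Q := act 6 n19976
theorem D20221 : act 6 n19976 = n20221 := rfl
theorem F79426 : act 0 n20221 = n20107 := d5_1 D20221 (iv D20107) (iv F78394)
theorem F79427 : act 2 n20221 = n20079 := d18_1 D20221 (iv D20079) (iv F78395)
theorem F79428 : act 3 n20221 = n19977 := d23_1 D20221 (iv D19977) (iv F78396)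
theorem F79429 : act 5 n20221 = n20121 := d30_1 D20221 F78957 F77808 (iv F77054) D19976
theorem F79430 : act 7 n20221 = n20046 := d33_2 (iv F78397) D20221 (iv D20046)
theorem F79431 : act 8 n20221 = n20068 := d34_2 (iv F78398) D20221 (iv D20068)
def n20222 : Q := act 6 n19978
theorem D20222 : act 6 n19978 = n20222 := rfl
theorem F79432 : act 0 n20222 = n19980 := d5_1 D20222 (iv D19980) (iv F78405)
theorem F79433 : act 2 n20222 = n19988 := d18_1 D20222 (iv D19988) (iv F78406)
theorem F79434 : act 5 n20222 = n20215 := d30_1 D20222 (iv D20215) (iv D19967) (iv F77069) D19978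
theorem F79435 : act 7 n20222 = n20072 := d33_2 (iv F78407) D20222 (iv D20072)
def n20223 : Q := act 4 n19979
theorem D20223 : act 4 n19979 = n20223 := rfl
theorem F79436 : act 1 n20223 = n19981 := d10_1 D20223 (iv D19981) (iv F78408)
theorem F79437 : act 2 n20223 = n20185 := d16_1 D20223 (iv D20185) (iv F78409)
theorem F79438 : act 5 n20223 = n20223 := d26_2 D19979 D20223 (iv D20223) (iv D19979) F77073
theorem F79439 : act 7 n20223 = n20101 := d28_2 (iv F78411) D20223 (iv D20101)
def n20224 : Q := act 6 n19979
theorem D20224 : act 6 n19979 = n20224 := rfl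
theorem F79440 : act 1 n20224 = n19982 := d12_1 D20224 (iv D19982) (iv F78408)
theorem F79441 : act 2 n20224 = n20186 := d18_1 D20224 (iv D20186) (iv F78409)
theorem F79442 : act 3 n20224 = n19980 := d23_1 D20224 (iv D19980) (iv F78410)
theorem F79443 : act 5 n20224 = n20206 := d30_1 D20224 (iv D20206) (iv D19952) (iv F77074) D19979
theorem F79444 : act 7 n20224 = n20102 := d33_2 (iv F78411) D20224 (iv D20102)
def n20225 : Q := act 6 n19981
theorem D20225 : act 6 n19981 = n20225 := rfl
theorem F79445 : act 2 n20225 = n19983 := d18_1 D20225 (iv D19983) (iv F78416)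
theorem F79446 : act 4 n20225 = n19982 := d27_1 D20225 (iv D19982) D19981
def n20226 : Q := act 5 n19983
theorem D20226 : act 5 n19983 = n20226 := rfl
theorem F79447 : act 6 n20226 = n20226 := d30_2 D19983 D20226 (iv D20226) (iv D19983) F77082
def n20227 : Q := act 6 n19984
theorem D20227 : act 6 n19984 = n20227 := rfl
theorem F79448 : act 0 n20227 = n19986 := d5_1 D20227 (iv D19986) (iv F78421)
theorem F79449 : act 1 n20227 = n20029 := d12_1 D20227 (iv D20029) (iv F78422)
theorem F79450 : act 3 n20227 = n20028 := d23_1 D20227 (iv D20028) (iv F78423)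
theorem F79451 : act 4 n20227 = n19988 := d27_1 D20227 (iv D19988) (iv F78424)
theorem F79452 : act 7 n20227 = n19987 := d33_2 (iv F78425) D20227 (iv D19987)
def n20228 : Q := act 6 n19985
theorem D20228 : act 6 n19985 = n20228 := rfl
theorem F79453 : act 0 n20228 = n20028 := d5_1 D20228 (iv D20028) (iv F78426)
theorem F79454 : act 1 n20228 = n19987 := d12_1 D20228 (iv D19987) (iv F78427)
theorem F79455 : act 3 n20228 = n19986 := d23_1 D20228 (iv D19986) (iv F78428)
theorem F79456 : act 4 n20228 = n20032 := d27_1 D20228 (iv D20032) (iv F78429)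
theorem F79457 : act 5 n20228 = n20227 := d30_1 D20228 (iv D20227) (iv D19984) (iv F77098) D19985
theorem F79458 : act 7 n20228 = n20029 := d33_2 (iv F78430) D20228 (iv D20029)
def n20229 : Q := act 6 n19989
theorem D20229 : act 6 n19989 = n20229 := rfl
theorem F79459 : act 0 n20229 = n20013 := d5_1 D20229 (iv D20013) (iv F78442)
theorem F79460 : act 2 n20229 = n20190 := d18_1 D20229 (iv D20190) (iv F78443)
theorem F79461 : act 4 n20229 = n19990 := d27_1 D20229 (iv D19990) D19989
theorem F79462 : act 7 n20229 = n20118 := d33_2 (iv F78445) D20229 (iv D20118)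
def n20230 : Q := act 6 n19991
theorem D20230 : act 6 n19991 = n20230 := rfl
theorem F79463 : act 0 n20230 = n20092 := d5_1 D20230 (iv D20092) (iv F78450)
theorem F79464 : act 1 n20230 = n20047 := d12_1 D20230 (iv D20047) (iv F78451)
theorem F79465 : act 4 n20230 = n19992 := d27_1 D20230 (iv D19992) D19991
def n20231 : Q := act 4 n19994
theorem D20231 : act 4 n19994 = n20231 := rfl
theorem F79466 : act 0 n20231 = n20005 := d3_1 D20231 (iv D20005) (iv F78463)
theorem F79467 : act 2 n20231 = n20152 := d16_1 D20231 (iv D20152) (iv F78464)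
theorem F79468 : act 3 n20231 = n20162 := d21_1 D20231 (iv D20162) F78084 (iv F77162) (iv F78465)
theorem F79469 : act 5 n20231 = n20231 := d26_2 D19994 D20231 (iv D20231) (iv D19994) F77157
theorem F79470 : act 8 n20231 = n19997 := d29_2 (iv F78466) D20231 (iv D19997)
def n20232 : Q := act 6 n19994
theorem D20232 : act 6 n19994 = n20232 := rfl
theorem F79471 : act 0 n20232 = n20006 := d5_1 D20232 (iv D20006) (iv F78463)
theorem F79472 : act 2 n20232 = n20153 := d18_1 D20232 (iv D20153) (iv F78464)
theorem F79473 : act 3 n20232 = n19996 := d23_1 D20232 (iv D19996) (iv F78465)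
theorem F79474 : act 5 n20232 = n20088 := d30_1 D20232 (iv D20088) (iv D19796) (iv F77158) D19994
theorem F79475 : act 8 n20232 = n19998 := d34_2 (iv F78466) D20232 (iv D19998)
def n20233 : Q := act 7 n19994
theorem D20233 : act 7 n19994 = n20233 := rfl
theorem F79476 : act 0 n20233 = n20007 := d6_1 D20233 (iv D20007) (iv F78463)
theorem F79477 : act 2 n20233 = n20154 := d19_1 D20233 (iv D20154) (iv F78464)
theorem F79478 : act 3 n20233 = n20124 := d24_1 D20233 (iv D20124) F77825 (iv F77163) (iv F78465)
theorem F79479 : act 5 n20233 = n19995 := d31_1 D20233 (iv D19995) D19994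
def n20234 : Q := act 6 n19997
theorem D20234 : act 6 n19997 = n20234 := rfl
theorem F79480 : act 0 n20234 = n20008 := d5_1 D20234 (iv D20008) (iv F78478)
theorem F79481 : act 2 n20234 = n20230 := d18_1 D20234 (iv D20230) (iv F78479)
theorem F79482 : act 4 n20234 = n19998 := d27_1 D20234 (iv D19998) D19997
def n20235 : Q := act 4 n19999
theorem D20235 : act 4 n19999 = n20235 := rfl
theorem F79483 : act 0 n20235 = n20166 := d3_1 D20235 (iv D20166) (iv F78485)
theorem F79484 : act 1 n20235 = n20188 := d10_1 D20235 (iv D20188) (iv F78486)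
theorem F79485 : act 2 n20235 = n20003 := d16_1 D20235 (iv D20003) (iv F78487)
theorem F79486 : act 3 n20235 = n20147 := d21_1 D20235 (iv D20147) F77982 (iv F77187) (iv F78488)
theorem F79487 : act 5 n20235 = n20235 := d26_2 D19999 D20235 (iv D20235) (iv D19999) F77181
theorem F79488 : act 7 n20235 = n20116 := d28_2 (iv F78489) D20235 (iv D20116)
theorem F79489 : act 8 n20235 = n20145 := d29_2 (iv F78490) D20235 (iv D20145)
def n20236 : Q := act 6 n19999
theorem D20236 : act 6 n19999 = n20236 := rfl
theorem F79490 : act 0 n20236 = n20167 := d5_1 D20236 (iv D20167) (iv F78485)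
theorem F79491 : act 1 n20236 = n20189 := d12_1 D20236 (iv D20189) (iv F78486)
theorem F79492 : act 2 n20236 = n20004 := d18_1 D20236 (iv D20004) (iv F78487)
theorem F79493 : act 3 n20236 = n20000 := d23_1 D20236 (iv D20000) (iv F78488)
theorem F79494 : act 7 n20236 = n20117 := d33_2 (iv F78489) D20236 (iv D20117)
theorem F79495 : act 8 n20236 = n20146 := d34_2 (iv F78490) D20236 (iv D20146)
def n20237 : Q := act 4 n20001
theorem D20237 : act 4 n20001 = n20237 := rfl
theorem F79496 : act 0 n20237 = n20162 := d3_1 D20237 (iv D20162) (iv F78497)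
theorem F79497 : act 1 n20237 = n20116 := d10_1 D20237 (iv D20116) (iv F78498)
theorem F79498 : act 2 n20237 = n20145 := d16_1 D20237 (iv D20145) (iv F78499)
theorem F79499 : act 3 n20237 = n20005 := d21_1 D20237 (iv D20005) F77223 (iv F77206) (iv F78500)
theorem F79500 : act 5 n20237 = n20237 := d26_2 D20001 D20237 (iv D20237) (iv D20001) F77199
theorem F79501 : act 7 n20237 = n20188 := d28_2 (iv F78501) D20237 (iv D20188)
theorem F79502 : act 8 n20237 = n20003 := d29_2 (iv F78502) D20237 (iv D20003)
def n20238 : Q := act 6 n20001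
theorem D20238 : act 6 n20001 = n20238 := rfl
theorem F79503 : act 0 n20238 = n20163 := d5_1 D20238 (iv D20163) (iv F78497)
theorem F79504 : act 1 n20238 = n20117 := d12_1 D20238 (iv D20117) (iv F78498)
theorem F79505 : act 2 n20238 = n20146 := d18_1 D20238 (iv D20146) (iv F78499)
theorem F79506 : act 3 n20238 = n20002 := d23_1 D20238 (iv D20002) (iv F78500)
theorem F79507 : act 5 n20238 = n20236 := d30_1 D20238 (iv D20236) (iv D19999) (iv F77200) D20001
theorem F79508 : act 7 n20238 = n20189 := d33_2 (iv F78501) D20238 (iv D20189)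
theorem F79509 : act 8 n20238 = n20004 := d34_2 (iv F78502) D20238 (iv D20004)
def n20239 : Q := act 6 n20003
theorem D20239 : act 6 n20003 = n20239 := rfl
theorem F79510 : act 1 n20239 = n20118 := d12_1 D20239 (iv D20118) (iv F78510)
theorem F79511 : act 3 n20239 = n20008 := d23_1 D20239 (iv D20008) (iv F78511)
theorem F79512 : act 4 n20239 = n20004 := d27_1 D20239 (iv D20004) D20003
def n20240 : Q := act 6 n20005
theorem D20240 : act 6 n20005 = n20240 := rfl
theorem F79513 : act 1 n20240 = n20119 := d12_1 D20240 (iv D20119) (iv F78515)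
theorem F79514 : act 4 n20240 = n20006 := d27_1 D20240 (iv D20006) D20005
theorem F79515 : act 8 n20240 = n20008 := d34_2 (iv F78517) D20240 (iv D20008)
def n20241 : Q := act 7 n20005
theorem D20241 : act 7 n20005 = n20241 := rfl
theorem F79516 : act 1 n20241 = n20120 := d13_1 D20241 (iv D20120) (iv F78515)
theorem F79517 : act 4 n20241 = n20007 := d28_1 D20241 (iv D20007) D20005
theorem F79518 : act 5 n20241 = n20241 := d31_1 D20241 (iv D20241) F78516
def n20242 : Q := act 7 n20006
theorem D20242 : act 7 n20006 = n20242 := rfl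
theorem F79519 : act 1 n20242 = n20121 := d13_1 D20242 (iv D20121) (iv F78518)
theorem F79520 : act 3 n20242 = n20125 := d24_1 D20242 (iv D20125) F77837 (iv F77230) (iv F78519)
theorem F79521 : act 6 n20242 = n20007 := d33_1 D20242 (iv D20007) D20006
def n20243 : Q := act 5 n20008
theorem D20243 : act 5 n20008 = n20243 := rfl
theorem F79522 : act 1 n20243 = n20122 := d11_1 D20243 (iv D20122) (iv F78524)
theorem F79523 : act 6 n20243 = n20243 := d30_2 D20008 D20243 (iv D20243) (iv D20008) F77233
def n20244 : Q := act 6 n20009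
theorem D20244 : act 6 n20009 = n20244 := rfl
theorem F79524 : act 3 n20244 = n20013 := d23_1 D20244 (iv D20013) (iv F78526)
theorem F79525 : act 4 n20244 = n20010 := d27_1 D20244 (iv D20010) D20009
theorem F79526 : act 8 n20244 = n20229 := d34_2 (iv F78528) D20244 (iv D20229)
def n20245 : Q := act 6 n20011
theorem D20245 : act 6 n20011 = n20245 := rfl
theorem F79527 : act 0 n20245 = n20244 := d5_1 D20245 (iv D20244) (iv F78531)
theorem F79528 : act 1 n20245 = n20219 := d12_1 D20245 (iv D20219) (iv F78532)
theorem F79529 : act 2 n20245 = n20204 := d18_1 D20245 (iv D20204) (iv F78533)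
theorem F79530 : act 3 n20245 = n20229 := d23_1 D20245 (iv D20229) (iv F78534)
theorem F79531 : act 4 n20245 = n20012 := d27_1 D20245 (iv D20012) D20011
theorem F79532 : act 7 n20245 = n20171 := d33_2 (iv F78536) D20245 (iv D20171)
theorem F79533 : act 8 n20245 = n20013 := d34_2 (iv F78537) D20245 (iv D20013)
def n20246 : Q := act 5 n20013
theorem D20246 : act 5 n20013 = n20246 := rfl
theorem F79534 : act 2 n20246 = n20208 := d17_1 D20246 (iv D20208) (iv F78545)
theorem F79535 : act 6 n20246 = n20246 := d30_2 D20013 D20246 (iv D20246) (iv D20013) F77263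
def n20247 : Q := act 5 n20015
theorem D20247 : act 5 n20015 = n20247 := rfl
theorem F79536 : act 0 n20247 = n20017 := d4_1 D20247 (iv D20017) (iv F78553)
theorem F79537 : act 1 n20247 = n20124 := d11_1 D20247 F78967 (iv F78554)
theorem F79538 : act 2 n20247 = n20030 := d17_1 D20247 (iv D20030) (iv F78555)
theorem F79539 : act 4 n20247 = n20212 := d26_1 D20247 F79389 F78338 (iv F77288) D20015
theorem F79540 : act 7 n20247 = n20099 := d31_2 (iv F78557) D20247 F78879
theorem F79541 : act 8 n20247 = n20020 := d32_2 (iv F78558) D20247 (iv D20020)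
def n20248 : Q := act 5 n20016
theorem D20248 : act 5 n20016 = n20248 := rfl
theorem F79542 : act 1 n20248 = n20018 := d11_1 D20248 (iv D20018) (iv F78559)
theorem F79543 : act 2 n20248 = n20200 := d17_1 D20248 F79342 (iv F78560)
theorem F79544 : act 3 n20248 = n20017 := d22_1 D20248 (iv D20017) D20016
theorem F79545 : act 7 n20248 = n20076 := d31_2 (iv F78563) D20248 (iv D20076)
theorem F79546 : act 8 n20248 = n20021 := d32_2 (iv F78564) D20248 (iv D20021)
def n20249 : Q := act 6 n20017
theorem D20249 : act 6 n20017 = n20249 := rfl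
theorem F79547 : act 1 n20249 = n20019 := d12_1 D20249 (iv D20019) (iv F78565)
theorem F79548 : act 2 n20249 = n20031 := d18_1 D20249 (iv D20031) (iv F78566)
theorem F79549 : act 4 n20249 = n20214 := d27_1 D20249 F79398 (iv F78567)
theorem F79550 : act 5 n20249 = n20105 := d30_1 D20249 (iv D20105) (iv D19821) (iv F77294) D20017
theorem F79551 : act 7 n20249 = n20100 := d33_2 (iv F78568) D20249 (iv D20100)
theorem F79552 : act 8 n20249 = n20022 := d34_2 (iv F78569) D20249 (iv D20022)
def n20250 : Q := act 4 n20018
theorem D20250 : act 4 n20018 = n20250 := rfl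
theorem F79553 : act 0 n20250 = n20120 := d3_1 D20250 F78953 (iv F78570)
theorem F79554 : act 2 n20250 = n20045 := d16_1 D20250 (iv D20045) (iv F78571)
theorem F79555 : act 3 n20250 = n20178 := d21_1 D20250 F79239 F78159 (iv F77305) (iv F78572)
theorem F79556 : act 5 n20250 = n20250 := d26_2 D20018 D20250 (iv D20250) (iv D20018) F77299
theorem F79557 : act 7 n20250 = n20078 := d28_2 (iv F78573) D20250 (iv D20078)
theorem F79558 : act 8 n20250 = n20023 := d29_2 (iv F78574) D20250 (iv D20023)
def n20251 : Q := act 6 n20018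
theorem D20251 : act 6 n20018 = n20251 := rfl
theorem F79559 : act 0 n20251 = n20121 := d5_1 D20251 F78957 (iv F78570)
theorem F79560 : act 2 n20251 = n20046 := d18_1 D20251 (iv D20046) (iv F78571)
theorem F79561 : act 3 n20251 = n20019 := d23_1 D20251 (iv D20019) (iv F78572)
theorem F79562 : act 5 n20251 = n20107 := d30_1 D20251 (iv D20107) (iv D19822) (iv F77300) D20018
theorem F79563 : act 7 n20251 = n20079 := d33_2 (iv F78573) D20251 (iv D20079)
theorem F79564 : act 8 n20251 = n20024 := d34_2 (iv F78574) D20251 (iv D20024)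
def n20252 : Q := act 6 n20020
theorem D20252 : act 6 n20020 = n20252 := rfl
theorem F79565 : act 0 n20252 = n20022 := d5_1 D20252 (iv D20022) (iv F78581)
theorem F79566 : act 2 n20252 = n20032 := d18_1 D20252 (iv D20032) (iv F78582)
theorem F79567 : act 5 n20252 = n20109 := d30_1 D20252 (iv D20109) (iv D19825) (iv F77317) D20020
theorem F79568 : act 7 n20252 = n20025 := d33_2 (iv F78583) D20252 (iv D20025)
def n20253 : Q := act 4 n20021
theorem D20253 : act 4 n20021 = n20253 := rfl
theorem F79569 : act 1 n20253 = n20023 := d10_1 D20253 (iv D20023) (iv F78584)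
theorem F79570 : act 2 n20253 = n20198 := d16_1 D20253 F79332 (iv F78585)
theorem F79571 : act 3 n20253 = n20241 := d21_1 D20253 F79517 F78522 F77842 (iv F78586)
theorem F79572 : act 5 n20253 = n20253 := d26_2 D20021 D20253 (iv D20253) (iv D20021) F77321
theorem F79573 : act 7 n20253 = n20191 := d28_2 (iv F78587) D20253 (iv D20191)
def n20254 : Q := act 6 n20021
theorem D20254 : act 6 n20021 = n20254 := rfl
theorem F79574 : act 1 n20254 = n20024 := d12_1 D20254 (iv D20024) (iv F78584)
theorem F79575 : act 2 n20254 = n20199 := d18_1 D20254 F79338 (iv F78585)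
theorem F79576 : act 3 n20254 = n20022 := d23_1 D20254 (iv D20022) (iv F78586)
theorem F79577 : act 5 n20254 = n20111 := d30_1 D20254 (iv D20111) (iv D19826) (iv F77322) D20021
theorem F79578 : act 7 n20254 = n20192 := d33_2 (iv F78587) D20254 (iv D20192)
def n20255 : Q := act 6 n20023
theorem D20255 : act 6 n20023 = n20255 := rfl
theorem F79579 : act 2 n20255 = n20047 := d18_1 D20255 (iv D20047) (iv F78592)
theorem F79580 : act 4 n20255 = n20024 := d27_1 D20255 (iv D20024) D20023
def n20256 : Q := act 6 n20026
theorem D20256 : act 6 n20026 = n20256 := rfl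
theorem F79581 : act 1 n20256 = n20027 := d12_1 D20256 (iv D20027) (iv F78601)
theorem F79582 : act 2 n20256 = n20214 := d18_1 D20256 F79398 (iv F78602)
theorem F79583 : act 4 n20256 = n20031 := d27_1 D20256 (iv D20031) (iv F78603)
theorem F79584 : act 5 n20256 = n20071 := d30_1 D20256 (iv D20071) (iv D19778) (iv F77347) D20026
theorem F79585 : act 7 n20256 = n20213 := d33_2 (iv F78604) D20256 (iv D20213)
theorem F79586 : act 8 n20256 = n20028 := d34_2 (iv F78605) D20256 (iv D20028)
def n20257 : Q := act 6 n20030
theorem D20257 : act 6 n20030 = n20257 := rfl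
theorem F79587 : act 0 n20257 = n20031 := d5_1 D20257 (iv D20031) (iv F78620)
theorem F79588 : act 1 n20257 = n20140 := d12_1 D20257 (iv D20140) (iv F78621)
theorem F79589 : act 3 n20257 = n20139 := d23_1 D20257 (iv D20139) (iv F78622)
theorem F79590 : act 8 n20257 = n20032 := d34_2 (iv F78623) D20257 (iv D20032)
def n20258 : Q := act 5 n20033
theorem D20258 : act 5 n20033 = n20258 := rfl
theorem F79591 : act 0 n20258 = n20084 := d4_1 D20258 (iv D20084) (iv F78630)
theorem F79592 : act 1 n20258 = n20035 := d11_1 D20258 (iv D20035) (iv F78631)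
theorem F79593 : act 3 n20258 = n20034 := d22_1 D20258 (iv D20034) D20033
theorem F79594 : act 7 n20258 = n20104 := d31_2 (iv F78634) D20258 (iv D20104)
theorem F79595 : act 8 n20258 = n20037 := d32_2 (iv F78635) D20258 (iv D20037)
def n20259 : Q := act 6 n20034
theorem D20259 : act 6 n20034 = n20259 := rfl
theorem F79596 : act 0 n20259 = n20086 := d5_1 D20259 (iv D20086) (iv F78636)
theorem F79597 : act 1 n20259 = n20036 := d12_1 D20259 (iv D20036) (iv F78637)
theorem F79598 : act 2 n20259 = n20098 := d18_1 D20259 F78874 (iv F78638)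
theorem F79599 : act 4 n20259 = n20096 := d27_1 D20259 F78864 (iv F78639)
theorem F79600 : act 5 n20259 = n20077 := d30_1 D20259 (iv D20077) (iv D19786) (iv F77401) D20034
theorem F79601 : act 7 n20259 = n20049 := d33_2 (iv F78640) D20259 (iv D20049)
theorem F79602 : act 8 n20259 = n20038 := d34_2 (iv F78641) D20259 (iv D20038)
def n20260 : Q := act 4 n20035
theorem D20260 : act 4 n20035 = n20260 := rfl
theorem F79603 : act 0 n20260 = n20045 := d3_1 D20260 (iv D20045) (iv F78642)
theorem F79604 : act 2 n20260 = n20120 := d16_1 D20260 F78953 (iv F78643)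
theorem F79605 : act 5 n20260 = n20260 := d26_2 D20035 D20260 (iv D20260) (iv D20035) F77406
theorem F79606 : act 7 n20260 = n20106 := d28_2 (iv F78645) D20260 (iv D20106)
theorem F79607 : act 8 n20260 = n20039 := d29_2 (iv F78646) D20260 (iv D20039)
def n20261 : Q := act 6 n20035
theorem D20261 : act 6 n20035 = n20261 := rfl
theorem F79608 : act 0 n20261 = n20046 := d5_1 D20261 (iv D20046) (iv F78642)
theorem F79609 : act 2 n20261 = n20121 := d18_1 D20261 F78957 (iv F78643)
theorem F79610 : act 3 n20261 = n20036 := d23_1 D20261 (iv D20036) (iv F78644)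
theorem F79611 : act 5 n20261 = n20079 := d30_1 D20261 (iv D20079) (iv D19787) (iv F77407) D20035
theorem F79612 : act 7 n20261 = n20107 := d33_2 (iv F78645) D20261 (iv D20107)
theorem F79613 : act 8 n20261 = n20040 := d34_2 (iv F78646) D20261 (iv D20040)
def n20262 : Q := act 4 n20037
theorem D20262 : act 4 n20037 = n20262 := rfl
theorem F79614 : act 0 n20262 = n20090 := d3_1 D20262 (iv D20090) (iv F78652)
theorem F79615 : act 1 n20262 = n20039 := d10_1 D20262 (iv D20039) (iv F78653)
theorem F79616 : act 3 n20262 = n20093 := d21_1 D20262 F78853 F77663 (iv F77428) (iv F78654)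
theorem F79617 : act 5 n20262 = n20262 := d26_2 D20037 D20262 (iv D20262) (iv D20037) F77422
theorem F79618 : act 7 n20262 = n20043 := d28_2 (iv F78655) D20262 (iv D20043)
def n20263 : Q := act 6 n20037
theorem D20263 : act 6 n20037 = n20263 := rfl
theorem F79619 : act 0 n20263 = n20091 := d5_1 D20263 (iv D20091) (iv F78652)
theorem F79620 : act 1 n20263 = n20040 := d12_1 D20263 (iv D20040) (iv F78653)
theorem F79621 : act 3 n20263 = n20038 := d23_1 D20263 (iv D20038) (iv F78654)
theorem F79622 : act 5 n20263 = n20082 := d30_1 D20263 (iv D20082) (iv D19790) (iv F77423) D20037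
theorem F79623 : act 7 n20263 = n20044 := d33_2 (iv F78655) D20263 (iv D20044)
def n20264 : Q := act 6 n20039
theorem D20264 : act 6 n20039 = n20264 := rfl
theorem F79624 : act 0 n20264 = n20047 := d5_1 D20264 (iv D20047) (iv F78662)
theorem F79625 : act 4 n20264 = n20040 := d27_1 D20264 (iv D20040) D20039
def n20265 : Q := act 4 n20041
theorem D20265 : act 4 n20041 = n20265 := rfl
theorem F79626 : act 0 n20265 = n20155 := d3_1 D20265 (iv D20155) (iv F78667)
theorem F79627 : act 2 n20265 = n20043 := d16_1 D20265 (iv D20043) (iv F78668)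
theorem F79628 : act 3 n20265 = n20260 := d21_1 D20265 (iv D20260) F78644 (iv F77450) (iv F78669)
theorem F79629 : act 5 n20265 = n20265 := d26_2 D20041 D20265 (iv D20265) (iv D20041) F77445
theorem F79630 : act 8 n20265 = n20193 := d29_2 (iv F78670) D20265 (iv D20193)
def n20266 : Q := act 6 n20041
theorem D20266 : act 6 n20041 = n20266 := rfl
theorem F79631 : act 0 n20266 = n20156 := d5_1 D20266 (iv D20156) (iv F78667)
theorem F79632 : act 2 n20266 = n20044 := d18_1 D20266 (iv D20044) (iv F78668)
theorem F79633 : act 3 n20266 = n20042 := d23_1 D20266 (iv D20042) (iv F78669)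
theorem F79634 : act 5 n20266 = n20196 := d30_1 D20266 (iv D20196) (iv D19941) (iv F77446) D20041
theorem F79635 : act 8 n20266 = n20194 := d34_2 (iv F78670) D20266 (iv D20194)
def n20267 : Q := act 6 n20043
theorem D20267 : act 6 n20043 = n20267 := rfl
theorem F79636 : act 3 n20267 = n20047 := d23_1 D20267 (iv D20047) (iv F78677)
theorem F79637 : act 4 n20267 = n20044 := d27_1 D20267 (iv D20044) D20043
def n20268 : Q := act 6 n20045
theorem D20268 : act 6 n20045 = n20268 := rfl
theorem F79638 : act 4 n20268 = n20046 := d27_1 D20268 (iv D20046) D20045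
theorem F79639 : act 8 n20268 = n20047 := d34_2 (iv F78681) D20268 (iv D20047)
def n20269 : Q := act 5 n20047
theorem D20269 : act 5 n20047 = n20269 := rfl
theorem F79640 : act 4 n20269 = n20122 := d26_1 D20269 (iv D20122) F77809 (iv F77477) (iv F78685)
theorem F79641 : act 6 n20269 = n20269 := d30_2 D20047 D20269 (iv D20269) (iv D20047) F77475
def n20270 : Q := act 5 n20050
theorem D20270 : act 5 n20050 = n20270 := rfl
theorem F79642 : act 0 n20270 = n20052 := d4_1 D20270 (iv D20052) (iv F78698)
theorem F79643 : act 1 n20270 = n20168 := d11_1 D20270 (iv D20168) (iv F78699)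
theorem F79644 : act 2 n20270 = n20061 := d17_1 D20270 F78739 (iv F78700)
theorem F79645 : act 3 n20270 = n20051 := d22_1 D20270 (iv D20051) D20050
theorem F79646 : act 7 n20270 = n20201 := d31_2 (iv F78702) D20270 (iv D20201)
theorem F79647 : act 8 n20270 = n20057 := d32_2 (iv F78703) D20270 F78730
def n20271 : Q := act 6 n20051
theorem D20271 : act 6 n20051 = n20271 := rfl
theorem F79648 : act 0 n20271 = n20054 := d5_1 D20271 (iv D20054) (iv F78704)
theorem F79649 : act 1 n20271 = n20215 := d12_1 D20271 (iv D20215) (iv F78705)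
theorem F79650 : act 2 n20271 = n20073 := d18_1 D20271 (iv D20073) (iv F78706)
theorem F79651 : act 8 n20271 = n20222 := d34_2 (iv F78707) D20271 (iv D20222)
def n20272 : Q := act 4 n20052
theorem D20272 : act 4 n20052 = n20272 := rfl
theorem F79652 : act 1 n20272 = n20055 := d10_1 D20272 (iv D20055) (iv F78708)
theorem F79653 : act 5 n20272 = n20272 := d26_2 D20052 D20272 (iv D20272) (iv D20052) F77542
theorem F79654 : act 8 n20272 = n20223 := d29_2 (iv F78710) D20272 (iv D20223)
def n20273 : Q := act 6 n20052
theorem D20273 : act 6 n20052 = n20273 := rfl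
theorem F79655 : act 1 n20273 = n20056 := d12_1 D20273 (iv D20056) (iv F78708)
theorem F79656 : act 3 n20273 = n20054 := d23_1 D20273 (iv D20054) (iv F78709)
theorem F79657 : act 8 n20273 = n20224 := d34_2 (iv F78710) D20273 (iv D20224)
def n20274 : Q := act 7 n20052
theorem D20274 : act 7 n20052 = n20274 := rfl
theorem F79658 : act 0 n20274 = n20201 := d6_1 D20274 (iv F79646) F79642
theorem F79659 : act 1 n20274 = n20057 := d13_1 D20274 (iv D20057) (iv F78708)
theorem F79660 : act 2 n20274 = n20164 := d19_1 D20274 F79178 F78988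
theorem F79661 : act 3 n20274 = n20210 := d24_1 D20274 F79379 F78779 F77595 (iv F78709)
theorem F79662 : act 5 n20274 = n20053 := d31_1 D20274 (iv D20053) D20052
theorem F79663 : act 8 n20274 = n20168 := d35_2 (iv F78710) D20274 F79200 F78381 (iv F78411)
def n20275 : Q := act 6 n20055
theorem D20275 : act 6 n20055 = n20275 := rfl
theorem F79664 : act 2 n20275 = n20058 := d18_1 D20275 (iv D20058) (iv F78721)
theorem F79665 : act 4 n20275 = n20056 := d27_1 D20275 (iv D20056) D20055
theorem F79666 : act 8 n20275 = n20225 := d34_2 (iv F78723) D20275 (iv D20225)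
def n20276 : Q := act 7 n20055
theorem D20276 : act 7 n20055 = n20276 := rfl
theorem F79667 : act 0 n20276 = n20223 := d6_1 D20276 F79439 F78885
theorem F79668 : act 2 n20276 = n20059 := d19_1 D20276 (iv D20059) (iv F78721)
theorem F79669 : act 4 n20276 = n20057 := d28_1 D20276 (iv D20057) D20055
theorem F79670 : act 5 n20276 = n20276 := d31_1 D20276 (iv D20276) F78722
def n20277 : Q := act 7 n20056
theorem D20277 : act 7 n20056 = n20277 := rfl
theorem F79671 : act 0 n20277 = n20224 := d6_1 D20277 F79444 F78889
theorem F79672 : act 2 n20277 = n20060 := d19_1 D20277 (iv D20060) (iv F78724)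
theorem F79673 : act 3 n20277 = n20222 := d24_1 D20277 F79435 F78789 F77604 (iv F78725)
theorem F79674 : act 6 n20277 = n20057 := d33_1 D20277 (iv D20057) D20056
def n20278 : Q := act 5 n20058
theorem D20278 : act 5 n20058 = n20278 := rfl
theorem F79675 : act 6 n20278 = n20278 := d30_2 D20058 D20278 (iv D20278) (iv D20058) F77556
theorem F79676 : act 8 n20278 = n20226 := d32_2 (iv F78732) D20278 (iv D20226)
def n20279 : Q := act 7 n20058
theorem D20279 : act 7 n20058 = n20279 := rfl
theorem F79677 : act 4 n20279 = n20060 := d28_1 D20279 (iv D20060) (iv F78731)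
theorem F79678 : act 6 n20279 = n20059 := d33_1 D20279 (iv D20059) D20058
def n20280 : Q := act 8 n20059
theorem D20280 : act 8 n20059 = n20280 := rfl
theorem F79679 : act 1 n20280 = n20162 := d14_1 D20280 F79170 F79012
theorem F79680 : act 4 n20280 = n20061 := d29_1 D20280 (iv D20061) (iv F78733)
theorem F79681 : act 5 n20280 = n20280 := d32_1 D20280 (iv D20280) F78734
theorem F79682 : act 7 n20280 = n20202 := d35_1 D20280 F79349 F78303 (iv F77557) D20059
def n20281 : Q := act 8 n20060
theorem D20281 : act 8 n20060 = n20281 := rfl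
theorem F79683 : act 1 n20281 = n20163 := d14_1 D20281 F79174 F79017
theorem F79684 : act 3 n20281 = n20074 := d25_1 D20281 (iv D20074) (iv F78735)
theorem F79685 : act 6 n20281 = n20061 := d34_1 D20281 (iv D20061) (iv F78736)
theorem F79686 : act 7 n20281 = n20203 := d35_1 D20281 F79352 F78306 (iv F77559) D20060
def n20282 : Q := act 5 n20062
theorem D20282 : act 5 n20062 = n20282 := rfl
theorem F79687 : act 0 n20282 = n20065 := d4_1 D20282 (iv D20065) (iv F78741)
theorem F79688 : act 1 n20282 = n20108 := d11_1 D20282 (iv D20108) (iv F78742)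
theorem F79689 : act 2 n20282 = n20176 := d17_1 D20282 F79233 (iv F78743)
theorem F79690 : act 3 n20282 = n20063 := d22_1 D20282 (iv D20063) D20062
theorem F79691 : act 7 n20282 = n20095 := d31_2 (iv F78745) D20282 F78861
theorem F79692 : act 8 n20282 = n20089 := d32_2 (iv F78746) D20282 F78845
def n20283 : Q := act 6 n20063
theorem D20283 : act 6 n20063 = n20283 := rfl
theorem F79693 : act 0 n20283 = n20066 := d5_1 D20283 (iv D20066) (iv F78747)
theorem F79694 : act 1 n20283 = n20109 := d12_1 D20283 (iv D20109) (iv F78748)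
theorem F79695 : act 4 n20283 = n20271 := d27_1 D20283 (iv D20271) (iv F78749)
theorem F79696 : act 7 n20283 = n20073 := d33_2 (iv F78750) D20283 (iv D20073)
def n20284 : Q := act 5 n20064
theorem D20284 : act 5 n20064 = n20284 := rfl
theorem F79697 : act 0 n20284 = n20176 := d4_1 D20284 F79233 (iv F78751)
theorem F79698 : act 1 n20284 = n20080 := d11_1 D20284 (iv D20080) (iv F78752)
theorem F79699 : act 2 n20284 = n20065 := d17_1 D20284 (iv D20065) D20064
theorem F79700 : act 3 n20284 = n20212 := d22_1 D20284 F79389 (iv F78753)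
theorem F79701 : act 7 n20284 = n20172 := d31_2 (iv F78756) D20284 (iv D20172)
theorem F79702 : act 8 n20284 = n20233 := d32_2 (iv F78757) D20284 F79479
def n20285 : Q := act 4 n20065
theorem D20285 : act 4 n20065 = n20285 := rfl
theorem F79703 : act 1 n20285 = n20067 := d10_1 D20285 (iv D20067) (iv F78758)
theorem F79704 : act 3 n20285 = n20272 := d21_1 D20285 (iv D20272) F78709 (iv F77572) (iv F78759)
theorem F79705 : act 5 n20285 = n20285 := d26_2 D20065 D20285 (iv D20285) (iv D20065) F77570
def n20286 : Q := act 6 n20065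
theorem D20286 : act 6 n20065 = n20286 := rfl
theorem F79706 : act 1 n20286 = n20068 := d12_1 D20286 (iv D20068) (iv F78758)
theorem F79707 : act 3 n20286 = n20066 := d23_1 D20286 (iv D20066) (iv F78759)
def n20287 : Q := act 6 n20067
theorem D20287 : act 6 n20067 = n20287 := rfl
theorem F79708 : act 0 n20287 = n20112 := d5_1 D20287 (iv D20112) (iv F78763)
theorem F79709 : act 2 n20287 = n20083 := d18_1 D20287 (iv D20083) (iv F78764)
theorem F79710 : act 3 n20287 = n20275 := d23_1 D20287 (iv D20275) (iv F78765)
theorem F79711 : act 4 n20287 = n20068 := d27_1 D20287 (iv D20068) D20067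
def n20288 : Q := act 6 n20069
theorem D20288 : act 6 n20069 = n20288 := rfl
theorem F79712 : act 0 n20288 = n20071 := d5_1 D20288 (iv D20071) (iv F78770)
theorem F79713 : act 1 n20288 = n20113 := d12_1 D20288 (iv D20113) (iv F78771)
theorem F79714 : act 2 n20288 = n20283 := d18_1 D20288 (iv D20283) (iv F78772)
theorem F79715 : act 3 n20288 = n20256 := d23_1 D20288 (iv D20256) (iv F78773)
theorem F79716 : act 4 n20288 = n20073 := d27_1 D20288 (iv D20073) (iv F78774)
theorem F79717 : act 7 n20288 = n20271 := d33_2 (iv F78775) D20288 (iv D20271)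
theorem F79718 : act 8 n20288 = n20227 := d34_2 (iv F78776) D20288 (iv D20227)
def n20289 : Q := act 6 n20070
theorem D20289 : act 6 n20070 = n20289 := rfl
theorem F79719 : act 0 n20289 = n20256 := d5_1 D20289 (iv D20256) (iv F78777)
theorem F79720 : act 1 n20289 = n20072 := d12_1 D20289 (iv D20072) (iv F78778)
theorem F79721 : act 3 n20289 = n20071 := d23_1 D20289 (iv D20071) (iv F78779)
theorem F79722 : act 4 n20289 = n20257 := d27_1 D20289 (iv D20257) (iv F78780)
theorem F79723 : act 5 n20289 = n20288 := d30_1 D20289 (iv D20288) (iv D20069) (iv F77590) D20070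
theorem F79724 : act 8 n20289 = n20228 := d34_2 (iv F78781) D20289 (iv D20228)
def n20290 : Q := act 5 n20075
theorem D20290 : act 5 n20075 = n20290 := rfl
theorem F79725 : act 0 n20290 = n20248 := d4_1 D20290 (iv D20248) (iv F78797)
theorem F79726 : act 1 n20290 = n20233 := d11_1 D20290 F79479 (iv F78798)
theorem F79727 : act 2 n20290 = n20076 := d17_1 D20290 (iv D20076) D20075
theorem F79728 : act 3 n20290 = n20247 := d22_1 D20290 (iv D20247) (iv F78799)
theorem F79729 : act 7 n20290 = n20200 := d31_2 (iv F78801) D20290 F79342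
theorem F79730 : act 8 n20290 = n20080 := d32_2 (iv F78802) D20290 (iv D20080)
def n20291 : Q := act 4 n20076
theorem D20291 : act 4 n20076 = n20291 := rfl
theorem F79731 : act 1 n20291 = n20078 := d10_1 D20291 (iv D20078) (iv F78803)
theorem F79732 : act 5 n20291 = n20291 := d26_2 D20076 D20291 (iv D20291) (iv D20076) F77616
theorem F79733 : act 8 n20291 = n20081 := d29_2 (iv F78805) D20291 (iv D20081)
def n20292 : Q := act 6 n20076
theorem D20292 : act 6 n20076 = n20292 := rfl
theorem F79734 : act 1 n20292 = n20079 := d12_1 D20292 (iv D20079) (iv F78803)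
theorem F79735 : act 3 n20292 = n20077 := d23_1 D20292 (iv D20077) (iv F78804)
theorem F79736 : act 8 n20292 = n20082 := d34_2 (iv F78805) D20292 (iv D20082)
def n20293 : Q := act 6 n20078
theorem D20293 : act 6 n20078 = n20293 := rfl
theorem F79737 : act 0 n20293 = n20119 := d5_1 D20293 (iv D20119) (iv F78809)
theorem F79738 : act 4 n20293 = n20079 := d27_1 D20293 (iv D20079) D20078
theorem F79739 : act 8 n20293 = n20083 := d34_2 (iv F78811) D20293 (iv D20083)
def n20294 : Q := act 4 n20080
theorem D20294 : act 4 n20080 = n20294 := rfl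
theorem F79740 : act 0 n20294 = n20253 := d3_1 D20294 (iv D20253) (iv F78815)
theorem F79741 : act 2 n20294 = n20081 := d16_1 D20294 (iv D20081) (iv F78816)
theorem F79742 : act 5 n20294 = n20294 := d26_2 D20080 D20294 (iv D20294) (iv D20080) F77630
theorem F79743 : act 7 n20294 = n20195 := d28_2 (iv F78818) D20294 (iv D20195)
def n20295 : Q := act 6 n20080
theorem D20295 : act 6 n20080 = n20295 := rfl
theorem F79744 : act 0 n20295 = n20254 := d5_1 D20295 (iv D20254) (iv F78815)
theorem F79745 : act 2 n20295 = n20082 := d18_1 D20295 (iv D20082) (iv F78816)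
theorem F79746 : act 3 n20295 = n20252 := d23_1 D20295 (iv D20252) (iv F78817)
theorem F79747 : act 7 n20295 = n20196 := d33_2 (iv F78818) D20295 (iv D20196)
def n20296 : Q := act 6 n20081
theorem D20296 : act 6 n20081 = n20296 := rfl
theorem F79748 : act 1 n20296 = n20083 := d12_1 D20296 (iv D20083) (iv F78819)
theorem F79749 : act 4 n20296 = n20082 := d27_1 D20296 (iv D20082) D20081
def n20297 : Q := act 5 n20083
theorem D20297 : act 5 n20083 = n20297 := rfl
theorem F79750 : act 0 n20297 = n20122 := d4_1 D20297 (iv D20122) (iv F78823)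
theorem F79751 : act 6 n20297 = n20297 := d30_2 D20083 D20297 (iv D20297) (iv D20083) F77637
def n20298 : Q := act 4 n20084
theorem D20298 : act 4 n20084 = n20298 := rfl
theorem F79752 : act 1 n20298 = n20087 := d10_1 D20298 (iv D20087) (iv F78825)
theorem F79753 : act 5 n20298 = n20298 := d26_2 D20084 D20298 (iv D20298) (iv D20084) F77641
theorem F79754 : act 8 n20298 = n20090 := d29_2 (iv F78827) D20298 (iv D20090)
def n20299 : Q := act 6 n20084
theorem D20299 : act 6 n20084 = n20299 := rfl
theorem F79755 : act 1 n20299 = n20088 := d12_1 D20299 (iv D20088) (iv F78825)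
theorem F79756 : act 3 n20299 = n20086 := d23_1 D20299 (iv D20086) (iv F78826)
theorem F79757 : act 8 n20299 = n20091 := d34_2 (iv F78827) D20299 (iv D20091)
def n20300 : Q := act 7 n20084
theorem D20300 : act 7 n20084 = n20300 := rfl
theorem F79758 : act 0 n20300 = n20104 := d6_1 D20300 (iv F79594) F79591
theorem F79759 : act 1 n20300 = n20089 := d13_1 D20300 (iv D20089) (iv F78825)
theorem F79760 : act 2 n20300 = n20258 := d19_1 D20300 F79594 F78898
theorem F79761 : act 3 n20300 = n20103 := d24_1 D20300 F78895 F78622 F77920 (iv F78826)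
theorem F79762 : act 5 n20300 = n20085 := d31_1 D20300 (iv D20085) D20084
theorem F79763 : act 8 n20300 = n20108 := d35_2 (iv F78827) D20300 F78914 F78670 F78254
def n20301 : Q := act 6 n20087
theorem D20301 : act 6 n20087 = n20301 := rfl
theorem F79764 : act 2 n20301 = n20240 := d18_1 D20301 (iv D20240) (iv F78838)
theorem F79765 : act 4 n20301 = n20088 := d27_1 D20301 (iv D20088) D20087
theorem F79766 : act 8 n20301 = n20092 := d34_2 (iv F78840) D20301 (iv D20092)
def n20302 : Q := act 7 n20087
theorem D20302 : act 7 n20087 = n20302 := rfl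
theorem F79767 : act 2 n20302 = n20241 := d19_1 D20302 (iv D20241) (iv F78838)
theorem F79768 : act 3 n20302 = n20276 := d24_1 D20302 (iv D20276) (iv F78765) (iv F79037) F79035
theorem F79769 : act 4 n20302 = n20089 := d28_1 D20302 (iv D20089) D20087
theorem F79770 : act 5 n20302 = n20302 := d31_1 D20302 (iv D20302) F78839
def n20303 : Q := act 7 n20088
theorem D20303 : act 7 n20088 = n20303 := rfl
theorem F79771 : act 2 n20303 = n20242 := d19_1 D20303 (iv D20242) (iv F78841)
theorem F79772 : act 6 n20303 = n20089 := d33_1 D20303 (iv D20089) D20088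
def n20304 : Q := act 6 n20090
theorem D20304 : act 6 n20090 = n20304 := rfl
theorem F79773 : act 1 n20304 = n20092 := d12_1 D20304 (iv D20092) (iv F78846)
theorem F79774 : act 4 n20304 = n20091 := d27_1 D20304 (iv D20091) D20090
def n20305 : Q := act 5 n20092
theorem D20305 : act 5 n20092 = n20305 := rfl
theorem F79775 : act 2 n20305 = n20243 := d17_1 D20305 (iv D20243) (iv F78850)
theorem F79776 : act 6 n20305 = n20305 := d30_2 D20092 D20305 (iv D20305) (iv D20092) F77659
def n20306 : Q := act 7 n20092
theorem D20306 : act 7 n20092 = n20306 := rfl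
theorem F79777 : act 2 n20306 = n20182 := d19_1 D20306 F79262 (iv F78850)
theorem F79778 : act 4 n20306 = n20094 := d28_1 D20306 (iv D20094) (iv F78851)
theorem F79779 : act 6 n20306 = n20093 := d33_1 D20306 (iv D20093) D20092
def n20307 : Q := act 8 n20093
theorem D20307 : act 8 n20093 = n20307 := rfl
theorem F79780 : act 1 n20307 = n20265 := d14_1 D20307 F79630 F79307
theorem F79781 : act 2 n20307 = n20174 := d20_1 D20307 F79227 (iv F78852)
theorem F79782 : act 4 n20307 = n20095 := d29_1 D20307 (iv D20095) (iv F78853)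
theorem F79783 : act 5 n20307 = n20307 := d32_1 D20307 (iv D20307) F78854
def n20308 : Q := act 8 n20094
theorem D20308 : act 8 n20094 = n20308 := rfl
theorem F79784 : act 1 n20308 = n20266 := d14_1 D20308 F79635 F79313
theorem F79785 : act 2 n20308 = n20175 := d20_1 D20308 F79230 (iv F78855)
theorem F79786 : act 3 n20308 = n20096 := d25_1 D20308 (iv D20096) (iv F78856)
theorem F79787 : act 6 n20308 = n20095 := d34_1 D20308 (iv D20095) (iv F78857)
def n20309 : Q := act 8 n20097
theorem D20309 : act 8 n20097 = n20309 := rfl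
theorem F79788 : act 0 n20309 = n20100 := d7_1 D20309 F78884 (iv F78865)
theorem F79789 : act 1 n20309 = n20123 := d14_1 D20309 F78963 (iv F78866)
theorem F79790 : act 3 n20309 = n20098 := d25_1 D20309 (iv D20098) D20097
theorem F79791 : act 4 n20309 = n20211 := d29_1 D20309 F79385 (iv F78867)
theorem F79792 : act 5 n20309 = n20257 := d32_1 D20309 F79590 (iv F78868)
theorem F79793 : act 6 n20309 = n20099 := d34_1 D20309 (iv D20099) (iv F78869)
def n20310 : Q := act 6 n20101
theorem D20310 : act 6 n20101 = n20310 := rfl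
theorem F79794 : act 0 n20310 = n20275 := d5_1 D20310 (iv D20275) (iv F78885)
theorem F79795 : act 2 n20310 = n20216 := d18_1 D20310 (iv D20216) (iv F78886)
theorem F79796 : act 3 n20310 = n20112 := d23_1 D20310 (iv D20112) (iv F78887)
theorem F79797 : act 4 n20310 = n20102 := d27_1 D20310 (iv D20102) D20101
def n20311 : Q := act 6 n20103
theorem D20311 : act 6 n20103 = n20311 := rfl
theorem F79798 : act 0 n20311 = n20105 := d5_1 D20311 (iv D20105) (iv F78893)
theorem F79799 : act 2 n20311 = n20309 := d18_1 D20311 F79793 (iv F78894)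
theorem F79800 : act 7 n20311 = n20257 := d33_2 (iv F78895) D20311 (iv D20257)
theorem F79801 : act 8 n20311 = n20109 := d34_2 (iv F78896) D20311 (iv D20109)
def n20312 : Q := act 4 n20104
theorem D20312 : act 4 n20104 = n20312 := rfl
theorem F79802 : act 1 n20312 = n20106 := d10_1 D20312 (iv D20106) (iv F78897)
theorem F79803 : act 2 n20312 = n20298 := d16_1 D20312 (iv D20298) (iv F78898)
theorem F79804 : act 5 n20312 = n20312 := d26_2 D20104 D20312 (iv D20312) (iv D20104) F77731
theorem F79805 : act 8 n20312 = n20110 := d29_2 (iv F78900) D20312 (iv D20110)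
def n20313 : Q := act 6 n20104
theorem D20313 : act 6 n20104 = n20313 := rfl
theorem F79806 : act 1 n20313 = n20107 := d12_1 D20313 (iv D20107) (iv F78897)
theorem F79807 : act 2 n20313 = n20299 := d18_1 D20313 (iv D20299) (iv F78898)
theorem F79808 : act 3 n20313 = n20105 := d23_1 D20313 (iv D20105) (iv F78899)
theorem F79809 : act 8 n20313 = n20111 := d34_2 (iv F78900) D20313 (iv D20111)
def n20314 : Q := act 6 n20106
theorem D20314 : act 6 n20106 = n20314 := rfl
theorem F79810 : act 2 n20314 = n20119 := d18_1 D20314 (iv D20119) (iv F78905)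
theorem F79811 : act 4 n20314 = n20107 := d27_1 D20314 (iv D20107) D20106
theorem F79812 : act 8 n20314 = n20112 := d34_2 (iv F78907) D20314 (iv D20112)
def n20315 : Q := act 4 n20108
theorem D20315 : act 4 n20108 = n20315 := rfl
theorem F79813 : act 0 n20315 = n20110 := d3_1 D20315 (iv D20110) (iv F78911)
theorem F79814 : act 2 n20315 = n20262 := d16_1 D20315 (iv D20262) (iv F78912)
theorem F79815 : act 5 n20315 = n20315 := d26_2 D20108 D20315 (iv D20315) (iv D20108) F77745
theorem F79816 : act 7 n20315 = n20265 := d28_2 (iv F78914) D20315 (iv D20265)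
def n20316 : Q := act 6 n20108
theorem D20316 : act 6 n20108 = n20316 := rfl
theorem F79817 : act 0 n20316 = n20111 := d5_1 D20316 (iv D20111) (iv F78911)
theorem F79818 : act 2 n20316 = n20263 := d18_1 D20316 (iv D20263) (iv F78912)
theorem F79819 : act 3 n20316 = n20109 := d23_1 D20316 (iv D20109) (iv F78913)
theorem F79820 : act 5 n20316 = n20295 := d30_1 D20316 (iv D20295) (iv D20080) (iv F77746) D20108
theorem F79821 : act 7 n20316 = n20266 := d33_2 (iv F78914) D20316 (iv D20266)
def n20317 : Q := act 6 n20110
theorem D20317 : act 6 n20110 = n20317 := rfl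
theorem F79822 : act 1 n20317 = n20112 := d12_1 D20317 (iv D20112) (iv F78918)
theorem F79823 : act 2 n20317 = n20304 := d18_1 D20317 (iv D20304) (iv F78919)
theorem F79824 : act 4 n20317 = n20111 := d27_1 D20317 (iv D20111) D20110
def n20318 : Q := act 5 n20112
theorem D20318 : act 5 n20112 = n20318 := rfl
theorem F79825 : act 2 n20318 = n20122 := d17_1 D20318 (iv D20122) (iv F78924)
theorem F79826 : act 6 n20318 = n20318 := d30_2 D20112 D20318 (iv D20318) (iv D20112) F77758
def n20319 : Q := act 6 n20114
theorem D20319 : act 6 n20114 = n20319 := rfl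
theorem F79827 : act 0 n20319 = n20184 := d5_1 D20319 (iv D20184) (iv F78932)
theorem F79828 : act 1 n20319 = n20244 := d12_1 D20319 (iv D20244) (iv F78933)
theorem F79829 : act 2 n20319 = n20118 := d18_1 D20319 (iv D20118) (iv F78934)
theorem F79830 : act 3 n20319 = n20216 := d23_1 D20319 (iv D20216) (iv F78935)
theorem F79831 : act 4 n20319 = n20115 := d27_1 D20319 (iv D20115) D20114
theorem F79832 : act 7 n20319 = n20190 := d33_2 (iv F78937) D20319 (iv D20190)
def n20320 : Q := act 6 n20116
theorem D20320 : act 6 n20116 = n20320 := rfl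
theorem F79833 : act 3 n20320 = n20119 := d23_1 D20320 (iv D20119) (iv F78944)
theorem F79834 : act 4 n20320 = n20117 := d27_1 D20320 (iv D20117) D20116
theorem F79835 : act 8 n20320 = n20118 := d34_2 (iv F78946) D20320 (iv D20118)
def n20321 : Q := act 5 n20118
theorem D20321 : act 5 n20118 = n20321 := rfl
theorem F79836 : act 3 n20321 = n20122 := d22_1 D20321 (iv D20122) (iv F78949)
theorem F79837 : act 6 n20321 = n20321 := d30_2 D20118 D20321 (iv D20321) (iv D20118) F77801
def n20322 : Q := act 5 n20119
theorem D20322 : act 5 n20119 = n20322 := rfl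
theorem F79838 : act 6 n20322 = n20322 := d30_2 D20119 D20322 (iv D20322) (iv D20119) F77803
theorem F79839 : act 8 n20322 = n20122 := d32_2 (iv F78952) D20322 (iv D20122)
def n20323 : Q := act 7 n20119
theorem D20323 : act 7 n20119 = n20323 := rfl
theorem F79840 : act 4 n20323 = n20121 := d28_1 D20323 (iv D20121) (iv F78951)
theorem F79841 : act 6 n20323 = n20120 := d33_1 D20323 (iv D20120) D20119
theorem F79842 : act 3 n20255 = n20323 := d23_3 F79841 (iv F78955) D20255
def n20324 : Q := act 7 n20123
theorem D20324 : act 7 n20123 = n20324 := rfl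
theorem F79843 : act 0 n20324 = n20125 := d6_1 D20324 (iv D20125) (iv F78959)
theorem F79844 : act 2 n20324 = n20228 := d19_1 D20324 F79458 (iv F78960)
theorem F79845 : act 4 n20324 = n20252 := d28_1 D20324 F79568 (iv F78962)
theorem F79846 : act 6 n20324 = n20124 := d33_1 D20324 (iv D20124) D20123
def n20325 : Q := act 6 n20126
theorem D20325 : act 6 n20126 = n20325 := rfl
theorem F79847 : act 0 n20325 = n20132 := d5_1 D20325 (iv D20132) (iv F78972)
theorem F79848 : act 1 n20325 = n20229 := d12_1 D20325 (iv D20229) (iv F78973)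
theorem F79849 : act 2 n20325 = n20320 := d18_1 D20325 (iv D20320) (iv F78974)
theorem F79850 : act 3 n20325 = n20219 := d23_1 D20325 (iv D20219) (iv F78975)
theorem F79851 : act 4 n20325 = n20127 := d27_1 D20325 (iv D20127) D20126
theorem F79852 : act 7 n20325 = n20239 := d33_2 (iv F78977) D20325 (iv D20239)
theorem F79853 : act 8 n20325 = n20319 := d34_2 (iv F78978) D20325 (iv D20319)
def n20326 : Q := act 4 n20128
theorem D20326 : act 4 n20128 = n20326 := rfl
theorem F79854 : act 0 n20326 = n20280 := d3_1 D20326 F79680 (iv F78986)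
theorem F79855 : act 1 n20326 = n20130 := d10_1 D20326 (iv D20130) (iv F78987)
theorem F79856 : act 2 n20326 = n20272 := d16_1 D20326 (iv D20272) (iv F78988)
theorem F79857 : act 3 n20326 = n20291 := d21_1 D20326 (iv D20291) F78804 (iv F77871) (iv F78989)
theorem F79858 : act 5 n20326 = n20326 := d26_2 D20128 D20326 (iv D20326) (iv D20128) F77865
theorem F79859 : act 8 n20326 = n20185 := d29_2 (iv F78990) D20326 (iv D20185)
def n20327 : Q := act 6 n20128
theorem D20327 : act 6 n20128 = n20327 := rfl
theorem F79860 : act 0 n20327 = n20281 := d5_1 D20327 F79685 (iv F78986)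
theorem F79861 : act 1 n20327 = n20131 := d12_1 D20327 (iv D20131) (iv F78987)
theorem F79862 : act 2 n20327 = n20273 := d18_1 D20327 (iv D20273) (iv F78988)
theorem F79863 : act 3 n20327 = n20129 := d23_1 D20327 (iv D20129) (iv F78989)
theorem F79864 : act 5 n20327 = n20203 := d30_1 D20327 (iv D20203) (iv D19948) (iv F77866) D20128
theorem F79865 : act 8 n20327 = n20186 := d34_2 (iv F78990) D20327 (iv D20186)
def n20328 : Q := act 6 n20130
theorem D20328 : act 6 n20130 = n20328 := rfl
theorem F79866 : act 0 n20328 = n20320 := d5_1 D20328 (iv D20320) (iv F78998)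
theorem F79867 : act 2 n20328 = n20132 := d18_1 D20328 (iv D20132) (iv F78999)
theorem F79868 : act 3 n20328 = n20293 := d23_1 D20328 (iv D20293) (iv F79000)
theorem F79869 : act 4 n20328 = n20131 := d27_1 D20328 (iv D20131) D20130
theorem F79870 : act 8 n20328 = n20187 := d34_2 (iv F79002) D20328 (iv D20187)
def n20329 : Q := act 5 n20132
theorem D20329 : act 5 n20132 = n20329 := rfl
theorem F79871 : act 1 n20329 = n20278 := d11_1 D20329 (iv D20278) (iv F79008)
theorem F79872 : act 3 n20329 = n20226 := d22_1 D20329 (iv D20226) (iv F79009)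
theorem F79873 : act 6 n20329 = n20329 := d30_2 D20132 D20329 (iv D20329) (iv D20132) F77886
def n20330 : Q := act 7 n20132
theorem D20330 : act 7 n20132 = n20330 := rfl
theorem F79874 : act 0 n20330 = n20239 := d6_1 D20330 (iv F79852) F79847
theorem F79875 : act 1 n20330 = n20279 := d13_1 D20330 (iv D20279) (iv F79008)
theorem F79876 : act 4 n20330 = n20134 := d28_1 D20330 (iv D20134) (iv F79010)
theorem F79877 : act 6 n20330 = n20133 := d33_1 D20330 (iv D20133) D20132
theorem F79878 : act 3 n20234 = n20330 := d23_3 F79877 (iv F79015) D20234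
def n20331 : Q := act 4 n20135
theorem D20331 : act 4 n20135 = n20331 := rfl
theorem F79879 : act 0 n20331 = n20307 := d3_1 D20331 F79782 (iv F79021)
theorem F79880 : act 1 n20331 = n20137 := d10_1 D20331 (iv D20137) (iv F79022)
theorem F79881 : act 3 n20331 = n20298 := d21_1 D20331 (iv D20298) F78826 (iv F77902) (iv F79023)
theorem F79882 : act 5 n20331 = n20331 := d26_2 D20135 D20331 (iv D20331) (iv D20135) F77895
theorem F79883 : act 7 n20331 = n20285 := d28_2 (iv F79024) D20331 (iv D20285)
theorem F79884 : act 8 n20331 = n20159 := d29_2 (iv F79025) D20331 (iv D20159)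
def n20332 : Q := act 6 n20135
theorem D20332 : act 6 n20135 = n20332 := rfl
theorem F79885 : act 0 n20332 = n20308 := d5_1 D20332 F79787 (iv F79021)
theorem F79886 : act 1 n20332 = n20138 := d12_1 D20332 (iv D20138) (iv F79022)
theorem F79887 : act 3 n20332 = n20136 := d23_1 D20332 (iv D20136) (iv F79023)
theorem F79888 : act 5 n20332 = n20175 := d30_1 D20332 (iv D20175) (iv D19913) (iv F77896) D20135
theorem F79889 : act 7 n20332 = n20286 := d33_2 (iv F79024) D20332 (iv D20286)
theorem F79890 : act 8 n20332 = n20160 := d34_2 (iv F79025) D20332 (iv D20160)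
def n20333 : Q := act 6 n20137
theorem D20333 : act 6 n20137 = n20333 := rfl
theorem F79891 : act 0 n20333 = n20157 := d5_1 D20333 (iv D20157) (iv F79033)
theorem F79892 : act 2 n20333 = n20151 := d18_1 D20333 (iv D20151) (iv F79034)
theorem F79893 : act 3 n20333 = n20301 := d23_1 D20333 (iv D20301) (iv F79035)
theorem F79894 : act 4 n20333 = n20138 := d27_1 D20333 (iv D20138) D20137
theorem F79895 : act 7 n20333 = n20287 := d33_2 (iv F79037) D20333 (iv D20287)
theorem F79896 : act 8 n20333 = n20161 := d34_2 (iv F79038) D20333 (iv D20161)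
def n20334 : Q := act 7 n20140
theorem D20334 : act 7 n20140 = n20334 := rfl
theorem F79897 : act 0 n20334 = n20158 := d6_1 D20334 (iv D20158) (iv F79052)
theorem F79898 : act 1 n20334 = n20311 := d13_1 D20334 F79800 F79588
theorem F79899 : act 2 n20334 = n20227 := d19_1 D20334 F79452 (iv F79053)
theorem F79900 : act 3 n20334 = n20303 := d24_1 D20334 (iv D20303) F78842 (iv F77938) (iv F79054)
theorem F79901 : act 4 n20334 = n20222 := d28_1 D20334 F79435 (iv F79055)
theorem F79902 : act 5 n20334 = n20324 := d31_1 D20334 (iv D20324) (iv F79056)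
theorem F79903 : act 6 n20334 = n20141 := d33_1 D20334 (iv D20141) D20140
theorem F79904 : act 8 n20334 = n20283 := d35_2 (iv F79057) D20334 F79696 F78793 F78441
def n20335 : Q := act 6 n20143
theorem D20335 : act 6 n20143 = n20335 := rfl
theorem F79905 : act 0 n20335 = n20161 := d5_1 D20335 (iv D20161) (iv F79073)
theorem F79906 : act 1 n20335 = n20267 := d12_1 D20335 (iv D20267) (iv F79074)
theorem F79907 : act 2 n20335 = n20177 := d18_1 D20335 (iv D20177) (iv F79075)
theorem F79908 : act 3 n20335 = n20230 := d23_1 D20335 (iv D20230) (iv F79076)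
theorem F79909 : act 4 n20335 = n20144 := d27_1 D20335 (iv D20144) D20143
theorem F79910 : act 7 n20335 = n20264 := d33_2 (iv F79078) D20335 (iv D20264)
theorem F79911 : act 8 n20335 = n20157 := d34_2 (iv F79079) D20335 (iv D20157)
def n20336 : Q := act 6 n20145
theorem D20336 : act 6 n20145 = n20336 := rfl
theorem F79912 : act 0 n20336 = n20171 := d5_1 D20336 (iv D20171) (iv F79087)
theorem F79913 : act 1 n20336 = n20190 := d12_1 D20336 (iv D20190) (iv F79088)
theorem F79914 : act 3 n20336 = n20151 := d23_1 D20336 (iv D20151) (iv F79089)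
theorem F79915 : act 4 n20336 = n20146 := d27_1 D20336 (iv D20146) D20145
theorem F79916 : act 7 n20336 = n20244 := d33_2 (iv F79091) D20336 (iv D20244)
def n20337 : Q := act 6 n20147
theorem D20337 : act 6 n20147 = n20337 := rfl
theorem F79917 : act 0 n20337 = n20177 := d5_1 D20337 (iv D20177) (iv F79097)
theorem F79918 : act 2 n20337 = n20161 := d18_1 D20337 (iv D20161) (iv F79098)
theorem F79919 : act 4 n20337 = n20148 := d27_1 D20337 (iv D20148) D20147
theorem F79920 : act 7 n20337 = n20255 := d33_2 (iv F79100) D20337 (iv D20255)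
theorem F79921 : act 8 n20337 = n20151 := d34_2 (iv F79101) D20337 (iv D20151)
def n20338 : Q := act 6 n20149
theorem D20338 : act 6 n20149 = n20338 := rfl
theorem F79922 : act 0 n20338 = n20197 := d5_1 D20338 (iv D20197) (iv F79108)
theorem F79923 : act 1 n20338 = n20151 := d12_1 D20338 (iv D20151) (iv F79109)
theorem F79924 : act 3 n20338 = n20190 := d23_1 D20338 (iv D20190) (iv F79110)
theorem F79925 : act 4 n20338 = n20150 := d27_1 D20338 (iv D20150) D20149
theorem F79926 : act 7 n20338 = n20296 := d33_2 (iv F79112) D20338 (iv D20296)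
def n20339 : Q := act 5 n20151
theorem D20339 : act 5 n20151 = n20339 := rfl
theorem F79927 : act 0 n20339 = n20183 := d4_1 D20339 (iv D20183) (iv F79118)
theorem F79928 : act 6 n20339 = n20339 := d30_2 D20151 D20339 (iv D20339) (iv D20151) F78001
theorem F79929 : act 7 n20339 = n20297 := d31_2 (iv F79120) D20339 (iv D20297)
def n20340 : Q := act 6 n20152
theorem D20340 : act 6 n20152 = n20340 := rfl
theorem F79930 : act 0 n20340 = n20301 := d5_1 D20340 (iv D20301) (iv F79121)
theorem F79931 : act 1 n20340 = n20268 := d12_1 D20340 (iv D20268) (iv F79122)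
theorem F79932 : act 3 n20340 = n20157 := d23_1 D20340 (iv D20157) (iv F79123)
theorem F79933 : act 4 n20340 = n20153 := d27_1 D20340 (iv D20153) D20152
theorem F79934 : act 8 n20340 = n20230 := d34_2 (iv F79125) D20340 (iv D20230)
def n20341 : Q := act 7 n20152
theorem D20341 : act 7 n20152 = n20341 := rfl
theorem F79935 : act 0 n20341 = n20302 := d6_1 D20341 (iv D20302) (iv F79121)
theorem F79936 : act 1 n20341 = n20220 := d13_1 D20341 F79424 (iv F79122)
theorem F79937 : act 3 n20341 = n20223 := d24_1 D20341 F79439 F78887 (iv F78040) (iv F79123)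
theorem F79938 : act 4 n20341 = n20154 := d28_1 D20341 (iv D20154) D20152
theorem F79939 : act 5 n20341 = n20341 := d31_1 D20341 (iv D20341) F79124
theorem F79940 : act 8 n20341 = n20285 := d35_2 (iv F79125) D20341 (iv F79883) F79884 F79158
def n20342 : Q := act 7 n20153
theorem D20342 : act 7 n20153 = n20342 := rfl
theorem F79941 : act 0 n20342 = n20303 := d6_1 D20342 (iv D20303) (iv F79126)
theorem F79942 : act 1 n20342 = n20221 := d13_1 D20342 F79430 (iv F79127)
theorem F79943 : act 3 n20342 = n20158 := d24_1 D20342 (iv D20158) F78046 (iv F78027) (iv F79128)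
theorem F79944 : act 5 n20342 = n20242 := d31_1 D20342 (iv D20242) (iv F79129)
theorem F79945 : act 6 n20342 = n20154 := d33_1 D20342 (iv D20154) D20153
theorem F79946 : act 8 n20342 = n20286 := d35_2 (iv F79130) D20342 (iv F79889) F79890 F79163
def n20343 : Q := act 6 n20155
theorem D20343 : act 6 n20155 = n20343 := rfl
theorem F79947 : act 1 n20343 = n20157 := d12_1 D20343 (iv D20157) (iv F79136)
theorem F79948 : act 3 n20343 = n20268 := d23_1 D20343 (iv D20268) (iv F79137)
theorem F79949 : act 4 n20343 = n20156 := d27_1 D20343 (iv D20156) D20155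
theorem F79950 : act 7 n20343 = n20317 := d33_2 (iv F79139) D20343 (iv D20317)
theorem F79951 : act 8 n20343 = n20267 := d34_2 (iv F79140) D20343 (iv D20267)
def n20344 : Q := act 5 n20157
theorem D20344 : act 5 n20157 = n20344 := rfl
theorem F79952 : act 2 n20344 = n20183 := d17_1 D20344 (iv D20183) (iv F79145)
theorem F79953 : act 6 n20344 = n20344 := d30_2 D20157 D20344 (iv D20344) (iv D20157) F78039
theorem F79954 : act 7 n20344 = n20318 := d31_2 (iv F79147) D20344 (iv D20318)
def n20345 : Q := act 6 n20159
theorem D20345 : act 6 n20159 = n20345 := rfl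
theorem F79955 : act 0 n20345 = n20306 := d5_1 D20345 F79779 (iv F79154)
theorem F79956 : act 1 n20345 = n20161 := d12_1 D20345 (iv D20161) (iv F79155)
theorem F79957 : act 3 n20345 = n20304 := d23_1 D20345 (iv D20304) (iv F79156)
theorem F79958 : act 4 n20345 = n20160 := d27_1 D20345 (iv D20160) D20159
theorem F79959 : act 7 n20345 = n20230 := d33_2 (iv F79158) D20345 (iv D20230)
def n20346 : Q := act 5 n20161
theorem D20346 : act 5 n20161 = n20346 := rfl
theorem F79960 : act 3 n20346 = n20305 := d22_1 D20346 (iv D20305) (iv F79164)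
theorem F79961 : act 4 n20346 = n20183 := d26_1 D20346 (iv D20183) F78179 (iv F78074) (iv F79165)
theorem F79962 : act 6 n20346 = n20346 := d30_2 D20161 D20346 (iv D20346) (iv D20161) F78071
theorem F79963 : act 7 n20346 = n20269 := d31_2 (iv F79166) D20346 (iv D20269)
def n20347 : Q := act 6 n20162
theorem D20347 : act 6 n20162 = n20347 := rfl
theorem F79964 : act 2 n20347 = n20171 := d18_1 D20347 (iv D20171) (iv F79167)
theorem F79965 : act 4 n20347 = n20163 := d27_1 D20347 (iv D20163) D20162
theorem F79966 : act 7 n20347 = n20204 := d33_2 (iv F79169) D20347 (iv D20204)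
theorem F79967 : act 8 n20347 = n20330 := d34_2 (iv F79170) D20347 F79877
def n20348 : Q := act 4 n20164
theorem D20348 : act 4 n20164 = n20348 := rfl
theorem F79968 : act 0 n20348 = n20202 := d3_1 D20348 (iv D20202) (iv F79175)
theorem F79969 : act 1 n20348 = n20166 := d10_1 D20348 (iv D20166) (iv F79176)
theorem F79970 : act 3 n20348 = n20174 := d21_1 D20348 (iv D20174) F78142 (iv F78099) (iv F79177)
theorem F79971 : act 5 n20348 = n20348 := d26_2 D20164 D20348 (iv D20348) (iv D20164) F78092
theorem F79972 : act 7 n20348 = n20326 := d28_2 (iv F79178) D20348 (iv D20326)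
theorem F79973 : act 8 n20348 = n20169 := d29_2 (iv F79179) D20348 (iv D20169)
def n20349 : Q := act 6 n20164
theorem D20349 : act 6 n20164 = n20349 := rfl
theorem F79974 : act 0 n20349 = n20203 := d5_1 D20349 (iv D20203) (iv F79175)
theorem F79975 : act 1 n20349 = n20167 := d12_1 D20349 (iv D20167) (iv F79176)
theorem F79976 : act 3 n20349 = n20165 := d23_1 D20349 (iv D20165) (iv F79177)
theorem F79977 : act 5 n20349 = n20281 := d30_1 D20349 F79685 F78739 (iv F78093) D20164
theorem F79978 : act 7 n20349 = n20327 := d33_2 (iv F79178) D20349 (iv D20327)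
theorem F79979 : act 8 n20349 = n20170 := d34_2 (iv F79179) D20349 (iv D20170)
def n20350 : Q := act 6 n20166
theorem D20350 : act 6 n20166 = n20350 := rfl
theorem F79980 : act 2 n20350 = n20330 := d18_1 D20350 F79877 (iv F79187)
theorem F79981 : act 3 n20350 = n20177 := d23_1 D20350 (iv D20177) (iv F79188)
theorem F79982 : act 4 n20350 = n20167 := d27_1 D20350 (iv D20167) D20166
theorem F79983 : act 7 n20350 = n20328 := d33_2 (iv F79190) D20350 (iv D20328)
theorem F79984 : act 8 n20350 = n20171 := d34_2 (iv F79191) D20350 (iv D20171)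
def n20351 : Q := act 4 n20168
theorem D20351 : act 4 n20168 = n20351 := rfl
theorem F79985 : act 0 n20351 = n20205 := d3_1 D20351 (iv D20205) (iv F79197)
theorem F79986 : act 2 n20351 = n20169 := d16_1 D20351 (iv D20169) (iv F79198)
theorem F79987 : act 3 n20351 = n20315 := d21_1 D20351 (iv D20315) F78913 (iv F78362) (iv F79199)
theorem F79988 : act 5 n20351 = n20351 := d26_2 D20168 D20351 (iv D20351) (iv D20168) F78113
theorem F79989 : act 7 n20351 = n20217 := d28_2 (iv F79200) D20351 (iv D20217)
def n20352 : Q := act 6 n20168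
theorem D20352 : act 6 n20168 = n20352 := rfl
theorem F79990 : act 0 n20352 = n20206 := d5_1 D20352 (iv D20206) (iv F79197)
theorem F79991 : act 2 n20352 = n20170 := d18_1 D20352 (iv D20170) (iv F79198)
theorem F79992 : act 3 n20352 = n20215 := d23_1 D20352 (iv D20215) (iv F79199)
theorem F79993 : act 5 n20352 = n20277 := d30_1 D20352 F79674 F78730 (iv F78114) D20168
theorem F79994 : act 7 n20352 = n20218 := d33_2 (iv F79200) D20352 (iv D20218)
def n20353 : Q := act 6 n20169
theorem D20353 : act 6 n20169 = n20353 := rfl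
theorem F79995 : act 0 n20353 = n20207 := d5_1 D20353 (iv D20207) (iv F79201)
theorem F79996 : act 1 n20353 = n20171 := d12_1 D20353 (iv D20171) (iv F79202)
theorem F79997 : act 3 n20353 = n20182 := d23_1 D20353 (iv D20182) (iv F79203)
theorem F79998 : act 4 n20353 = n20170 := d27_1 D20353 (iv D20170) D20169
theorem F79999 : act 7 n20353 = n20219 := d33_2 (iv F79205) D20353 (iv D20219)
def n20354 : Q := act 5 n20171
theorem D20354 : act 5 n20171 = n20354 := rfl
theorem F80000 : act 3 n20354 = n20183 := d22_1 D20354 (iv D20183) (iv F79211)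
theorem F80001 : act 6 n20354 = n20354 := d30_2 D20171 D20354 (iv D20354) (iv D20171) F78127
def n20355 : Q := act 4 n20172
theorem D20355 : act 4 n20172 = n20355 := rfl
theorem F80002 : act 0 n20355 = n20174 := d3_1 D20355 (iv D20174) (iv F79213)
theorem F80003 : act 1 n20355 = n20195 := d10_1 D20355 (iv D20195) (iv F79214)
theorem F80004 : act 2 n20355 = n20331 := d16_1 D20355 (iv D20331) (iv F79215)
theorem F80005 : act 3 n20355 = n20202 := d21_1 D20355 (iv D20202) F78287 (iv F78138) (iv F79216)
theorem F80006 : act 5 n20355 = n20355 := d26_2 D20172 D20355 (iv D20355) (iv D20172) F78132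
theorem F80007 : act 8 n20355 = n20180 := d29_2 (iv F79217) D20355 (iv D20180)
def n20356 : Q := act 6 n20172
theorem D20356 : act 6 n20172 = n20356 := rfl
theorem F80008 : act 0 n20356 = n20175 := d5_1 D20356 (iv D20175) (iv F79213)
theorem F80009 : act 1 n20356 = n20196 := d12_1 D20356 (iv D20196) (iv F79214)
theorem F80010 : act 2 n20356 = n20332 := d18_1 D20356 (iv D20332) (iv F79215)
theorem F80011 : act 3 n20356 = n20173 := d23_1 D20356 (iv D20173) (iv F79216)
theorem F80012 : act 5 n20356 = n20308 := d30_1 D20356 F79787 F78861 (iv F78133) D20172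
theorem F80013 : act 8 n20356 = n20181 := d34_2 (iv F79217) D20356 (iv D20181)
def n20357 : Q := act 6 n20174
theorem D20357 : act 6 n20174 = n20357 := rfl
theorem F80014 : act 1 n20357 = n20177 := d12_1 D20357 (iv D20177) (iv F79225)
theorem F80015 : act 4 n20357 = n20175 := d27_1 D20357 (iv D20175) D20174
theorem F80016 : act 8 n20357 = n20182 := d34_2 (iv F79227) D20357 (iv D20182)
def n20358 : Q := act 7 n20174
theorem D20358 : act 7 n20174 = n20358 := rfl
theorem F80017 : act 1 n20358 = n20178 := d13_1 D20358 (iv D20178) (iv F79225)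
theorem F80018 : act 4 n20358 = n20176 := d28_1 D20358 (iv D20176) D20174
theorem F80019 : act 5 n20358 = n20358 := d31_1 D20358 (iv D20358) F79226
theorem F80020 : act 8 n20358 = n20241 := d35_2 (iv F79227) D20358 (iv D20241) F78517 (iv F78175)
def n20359 : Q := act 7 n20175
theorem D20359 : act 7 n20175 = n20359 := rfl
theorem F80021 : act 1 n20359 = n20179 := d13_1 D20359 (iv D20179) (iv F79228)
theorem F80022 : act 3 n20359 = n20214 := d24_1 D20359 (iv D20214) F78349 (iv F78151) (iv F79229)
theorem F80023 : act 5 n20359 = n20286 := d31_1 D20359 (iv F79889) F79888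
theorem F80024 : act 6 n20359 = n20176 := d33_1 D20359 (iv D20176) D20175
theorem F80025 : act 8 n20359 = n20242 := d35_2 (iv F79230) D20359 (iv D20242) F78520 (iv F78178)
def n20360 : Q := act 5 n20177
theorem D20360 : act 5 n20177 = n20360 := rfl
theorem F80026 : act 6 n20360 = n20360 := d30_2 D20177 D20360 (iv D20360) (iv D20177) F78153
theorem F80027 : act 8 n20360 = n20183 := d32_2 (iv F79236) D20360 (iv D20183)
def n20361 : Q := act 7 n20177
theorem D20361 : act 7 n20177 = n20361 := rfl
theorem F80028 : act 0 n20361 = n20255 := d6_1 D20361 (iv F79920) F79917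
theorem F80029 : act 2 n20361 = n20264 := d19_1 D20361 (iv F79910) F79907
theorem F80030 : act 4 n20361 = n20179 := d28_1 D20361 (iv D20179) (iv F79235)
theorem F80031 : act 6 n20361 = n20178 := d33_1 D20361 (iv D20178) D20177
theorem F80032 : act 8 n20361 = n20323 := d35_2 (iv F79236) D20361 (iv D20323) F78952 (iv F78180)
def n20362 : Q := act 6 n20180
theorem D20362 : act 6 n20180 = n20362 := rfl
theorem F80033 : act 0 n20362 = n20182 := d5_1 D20362 (iv D20182) (iv F79248)
theorem F80034 : act 1 n20362 = n20197 := d12_1 D20362 (iv D20197) (iv F79249)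
theorem F80035 : act 2 n20362 = n20345 := d18_1 D20362 (iv D20345) (iv F79250)
theorem F80036 : act 3 n20362 = n20207 := d23_1 D20362 (iv D20207) (iv F79251)
theorem F80037 : act 4 n20362 = n20181 := d27_1 D20362 (iv D20181) D20180
theorem F80038 : act 7 n20362 = n20234 := d33_2 (iv F79253) D20362 (iv D20234)
def n20363 : Q := act 5 n20182
theorem D20363 : act 5 n20182 = n20363 := rfl
theorem F80039 : act 1 n20363 = n20183 := d11_1 D20363 (iv D20183) (iv F79260)
theorem F80040 : act 6 n20363 = n20363 := d30_2 D20182 D20363 (iv D20363) (iv D20182) F78174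
theorem F80041 : act 7 n20363 = n20243 := d31_2 (iv F79262) D20363 (iv D20243)
def n20364 : Q := act 5 n20184
theorem D20364 : act 5 n20184 = n20364 := rfl
theorem F80042 : act 1 n20364 = n20226 := d11_1 D20364 (iv D20226) (iv F79265)
theorem F80043 : act 3 n20364 = n20278 := d22_1 D20364 (iv D20278) (iv F79266)
theorem F80044 : act 4 n20364 = n20246 := d26_1 D20364 (iv D20246) F78546 (iv F78188) (iv F79267)
theorem F80045 : act 6 n20364 = n20364 := d30_2 D20184 D20364 (iv D20364) (iv D20184) F78183
theorem F80046 : act 7 n20364 = n20208 := d31_2 (iv F79268) D20364 (iv D20208)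
theorem F80047 : act 8 n20364 = n20329 := d32_2 (iv F79269) D20364 (iv D20329)
def n20365 : Q := act 6 n20185
theorem D20365 : act 6 n20185 = n20365 := rfl
theorem F80048 : act 0 n20365 = n20279 := d5_1 D20365 F79678 (iv F79270)
theorem F80049 : act 1 n20365 = n20187 := d12_1 D20365 (iv D20187) (iv F79271)
theorem F80050 : act 3 n20365 = n20296 := d23_1 D20365 (iv D20296) (iv F79272)
theorem F80051 : act 4 n20365 = n20186 := d27_1 D20365 (iv D20186) D20185
theorem F80052 : act 7 n20365 = n20216 := d33_2 (iv F79274) D20365 (iv D20216)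
def n20366 : Q := act 5 n20187
theorem D20366 : act 5 n20187 = n20366 := rfl
theorem F80053 : act 0 n20366 = n20321 := d4_1 D20366 (iv D20321) (iv F79280)
theorem F80054 : act 2 n20366 = n20364 := d17_1 D20366 (iv D20364) (iv F79281)
theorem F80055 : act 3 n20366 = n20297 := d22_1 D20366 (iv D20297) (iv F79282)
theorem F80056 : act 4 n20366 = n20208 := d26_1 D20366 (iv D20208) F78307 (iv F78209) (iv F79283)
theorem F80057 : act 6 n20366 = n20366 := d30_2 D20187 D20366 (iv D20366) (iv D20187) F78204
theorem F80058 : act 7 n20366 = n20246 := d31_2 (iv F79284) D20366 (iv D20246)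
def n20367 : Q := act 6 n20188
theorem D20367 : act 6 n20188 = n20367 := rfl
theorem F80059 : act 0 n20367 = n20204 := d5_1 D20367 (iv D20204) (iv F79285)
theorem F80060 : act 2 n20367 = n20244 := d18_1 D20367 (iv D20244) (iv F79286)
theorem F80061 : act 4 n20367 = n20189 := d27_1 D20367 (iv D20189) D20188
theorem F80062 : act 8 n20367 = n20190 := d34_2 (iv F79288) D20367 (iv D20190)
def n20368 : Q := act 5 n20190
theorem D20368 : act 5 n20190 = n20368 := rfl
theorem F80063 : act 0 n20368 = n20208 := d4_1 D20368 (iv D20208) (iv F79294)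
theorem F80064 : act 4 n20368 = n20321 := d26_1 D20368 (iv D20321) F78950 (iv F78239) (iv F79295)
theorem F80065 : act 6 n20368 = n20368 := d30_2 D20190 D20368 (iv D20368) (iv D20190) F78236
def n20369 : Q := act 6 n20191
theorem D20369 : act 6 n20191 = n20369 := rfl
theorem F80066 : act 1 n20369 = n20337 := d12_1 D20369 (iv D20337) (iv F79296)
theorem F80067 : act 2 n20369 = n20197 := d18_1 D20369 (iv D20197) (iv F79297)
theorem F80068 : act 3 n20369 = n20367 := d23_1 D20369 (iv D20367) (iv F79298)
theorem F80069 : act 4 n20369 = n20192 := d27_1 D20369 (iv D20192) D20191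
theorem F80070 : act 8 n20369 = n20338 := d34_2 (iv F79300) D20369 (iv D20338)
def n20370 : Q := act 6 n20193
theorem D20370 : act 6 n20193 = n20370 := rfl
theorem F80071 : act 0 n20370 = n20267 := d5_1 D20370 (iv D20267) (iv F79306)
theorem F80072 : act 1 n20370 = n20306 := d12_1 D20370 F79779 (iv F79307)
theorem F80073 : act 2 n20370 = n20343 := d18_1 D20370 (iv D20343) (iv F79308)
theorem F80074 : act 3 n20370 = n20264 := d23_1 D20370 (iv D20264) (iv F79309)
theorem F80075 : act 4 n20370 = n20194 := d27_1 D20370 (iv D20194) D20193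
theorem F80076 : act 7 n20370 = n20304 := d33_2 (iv F79311) D20370 (iv D20304)
def n20371 : Q := act 6 n20195
theorem D20371 : act 6 n20195 = n20371 := rfl
theorem F80077 : act 0 n20371 = n20369 := d5_1 D20371 (iv D20369) (iv F79318)
theorem F80078 : act 2 n20371 = n20338 := d18_1 D20371 (iv D20338) (iv F79319)
theorem F80079 : act 3 n20371 = n20204 := d23_1 D20371 (iv D20204) (iv F79320)
theorem F80080 : act 4 n20371 = n20196 := d27_1 D20371 (iv D20196) D20195
theorem F80081 : act 8 n20371 = n20197 := d34_2 (iv F79322) D20371 (iv D20197)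
def n20372 : Q := act 5 n20197
theorem D20372 : act 5 n20197 = n20372 := rfl
theorem F80082 : act 3 n20372 = n20208 := d22_1 D20372 (iv D20208) (iv F79327)
theorem F80083 : act 6 n20372 = n20372 := d30_2 D20197 D20372 (iv D20372) (iv D20197) F78270
def n20373 : Q := act 7 n20197
theorem D20373 : act 7 n20197 = n20373 := rfl
theorem F80084 : act 0 n20373 = n20296 := d6_1 D20373 (iv F79926) F79922
theorem F80085 : act 1 n20373 = n20234 := d13_1 D20373 (iv F80038) F80034
theorem F80086 : act 3 n20373 = n20279 := d24_1 D20373 (iv D20279) (iv F79266) F79268 (iv F79327)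
theorem F80087 : act 4 n20373 = n20199 := d28_1 D20373 (iv D20199) (iv F79328)
theorem F80088 : act 6 n20373 = n20198 := d33_1 D20373 (iv D20198) D20197
def n20374 : Q := act 8 n20198
theorem D20374 : act 8 n20198 = n20374 := rfl
theorem F80089 : act 0 n20374 = n20291 := d7_1 D20374 F79733 (iv F79329)
theorem F80090 : act 1 n20374 = n20231 := d14_1 D20374 F79470 (iv F79330)
theorem F80091 : act 3 n20374 = n20280 := d25_1 D20374 (iv D20280) (iv F79331)
theorem F80092 : act 4 n20374 = n20200 := d29_1 D20374 (iv D20200) (iv F79332)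
theorem F80093 : act 5 n20374 = n20374 := d32_1 D20374 (iv D20374) F79333
def n20375 : Q := act 8 n20199
theorem D20375 : act 8 n20199 = n20375 := rfl
theorem F80094 : act 0 n20375 = n20292 := d7_1 D20375 F79736 (iv F79334)
theorem F80095 : act 1 n20375 = n20232 := d14_1 D20375 F79475 (iv F79335)
theorem F80096 : act 3 n20375 = n20209 := d25_1 D20375 (iv D20209) (iv F79336)
theorem F80097 : act 5 n20375 = n20299 := d32_1 D20375 F79757 (iv F79337)
theorem F80098 : act 6 n20375 = n20200 := d34_1 D20375 (iv D20200) (iv F79338)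
def n20376 : Q := act 4 n20201
theorem D20376 : act 4 n20201 = n20376 := rfl
theorem F80099 : act 1 n20376 = n20217 := d10_1 D20376 (iv D20217) (iv F79343)
theorem F80100 : act 2 n20376 = n20202 := d16_1 D20376 (iv D20202) (iv F79344)
theorem F80101 : act 3 n20376 = n20312 := d21_1 D20376 (iv D20312) F78899 (iv F78346) (iv F79345)
theorem F80102 : act 5 n20376 = n20376 := d26_2 D20201 D20376 (iv D20376) (iv D20201) F78283
theorem F80103 : act 8 n20376 = n20205 := d29_2 (iv F79346) D20376 (iv D20205)
def n20377 : Q := act 6 n20201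
theorem D20377 : act 6 n20201 = n20377 := rfl
theorem F80104 : act 1 n20377 = n20218 := d12_1 D20377 (iv D20218) (iv F79343)
theorem F80105 : act 2 n20377 = n20203 := d18_1 D20377 (iv D20203) (iv F79344)
theorem F80106 : act 3 n20377 = n20213 := d23_1 D20377 (iv D20213) (iv F79345)
theorem F80107 : act 5 n20377 = n20273 := d30_1 D20377 (iv D20273) (iv D20052) (iv F78284) D20201
theorem F80108 : act 8 n20377 = n20206 := d34_2 (iv F79346) D20377 (iv D20206)
def n20378 : Q := act 6 n20202
theorem D20378 : act 6 n20202 = n20378 := rfl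
theorem F80109 : act 1 n20378 = n20204 := d12_1 D20378 (iv D20204) (iv F79347)
theorem F80110 : act 4 n20378 = n20203 := d27_1 D20378 (iv D20203) D20202
theorem F80111 : act 8 n20378 = n20207 := d34_2 (iv F79349) D20378 (iv D20207)
def n20379 : Q := act 5 n20204
theorem D20379 : act 5 n20204 = n20379 := rfl
theorem F80112 : act 6 n20379 = n20379 := d30_2 D20204 D20379 (iv D20379) (iv D20204) F78293
theorem F80113 : act 8 n20379 = n20208 := d32_2 (iv F79354) D20379 (iv D20208)
def n20380 : Q := act 6 n20205
theorem D20380 : act 6 n20205 = n20380 := rfl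
theorem F80114 : act 1 n20380 = n20310 := d12_1 D20380 (iv D20310) (iv F79355)
theorem F80115 : act 2 n20380 = n20207 := d18_1 D20380 (iv D20207) (iv F79356)
theorem F80116 : act 3 n20380 = n20317 := d23_1 D20380 (iv D20317) (iv F79357)
theorem F80117 : act 4 n20380 = n20206 := d27_1 D20380 (iv D20206) D20205
theorem F80118 : act 7 n20380 = n20225 := d33_2 (iv F79359) D20380 (iv D20225)
def n20381 : Q := act 5 n20207
theorem D20381 : act 5 n20207 = n20381 := rfl
theorem F80119 : act 1 n20381 = n20208 := d11_1 D20381 (iv D20208) (iv F79364)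
theorem F80120 : act 6 n20381 = n20381 := d30_2 D20207 D20381 (iv D20381) (iv D20207) F78302
theorem F80121 : act 7 n20381 = n20226 := d31_2 (iv F79366) D20381 (iv D20226)
def n20382 : Q := act 6 n20210
theorem D20382 : act 6 n20210 = n20382 := rfl
theorem F80122 : act 0 n20382 = n20213 := d5_1 D20382 (iv D20213) (iv F79375)
theorem F80123 : act 1 n20382 = n20222 := d12_1 D20382 (iv D20222) (iv F79376)
theorem F80124 : act 2 n20382 = n20211 := d18_1 D20382 (iv D20211) (iv F79377)
theorem F80125 : act 4 n20382 = n20311 := d27_1 D20382 (iv D20311) (iv F79378)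
theorem F80126 : act 5 n20382 = n20271 := d30_1 D20382 (iv D20271) (iv D20051) (iv F78328) D20210
theorem F80127 : act 7 n20382 = n20289 := d33_2 (iv F79379) D20382 (iv D20289)
theorem F80128 : act 8 n20382 = n20215 := d34_2 (iv F79380) D20382 (iv D20215)
def n20383 : Q := act 7 n20211
theorem D20383 : act 7 n20211 = n20383 := rfl
theorem F80129 : act 0 n20383 = n20214 := d6_1 D20383 (iv D20214) (iv F79381)
theorem F80130 : act 1 n20383 = n20252 := d13_1 D20383 F79568 (iv F79382)
theorem F80131 : act 2 n20383 = n20289 := d19_1 D20383 (iv F80127) F80124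
theorem F80132 : act 5 n20383 = n20283 := d31_1 D20383 F79696 (iv F79384)
theorem F80133 : act 6 n20383 = n20212 := d33_1 D20383 (iv D20212) D20211
theorem F80134 : act 8 n20383 = n20324 := d35_2 (iv F79385) D20383 (iv D20324) F78963 (iv F78366)
def n20384 : Q := act 5 n20216
theorem D20384 : act 5 n20216 = n20384 := rfl
theorem F80135 : act 0 n20384 = n20278 := d4_1 D20384 (iv D20278) (iv F79404)
theorem F80136 : act 1 n20384 = n20246 := d11_1 D20384 (iv D20246) (iv F79405)
theorem F80137 : act 4 n20384 = n20226 := d26_1 D20384 (iv D20226) F78420 (iv F78377) (iv F79406)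
theorem F80138 : act 6 n20384 = n20384 := d30_2 D20216 D20384 (iv D20384) (iv D20216) F78373
def n20385 : Q := act 6 n20217
theorem D20385 : act 6 n20217 = n20385 := rfl
theorem F80139 : act 0 n20385 = n20225 := d5_1 D20385 (iv D20225) (iv F79407)
theorem F80140 : act 2 n20385 = n20219 := d18_1 D20385 (iv D20219) (iv F79408)
theorem F80141 : act 3 n20385 = n20314 := d23_1 D20385 (iv D20314) (iv F79409)
theorem F80142 : act 4 n20385 = n20218 := d27_1 D20385 (iv D20218) D20217
theorem F80143 : act 8 n20385 = n20310 := d34_2 (iv F79411) D20385 (iv D20310)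
def n20386 : Q := act 5 n20219
theorem D20386 : act 5 n20219 = n20386 := rfl
theorem F80144 : act 0 n20386 = n20226 := d4_1 D20386 (iv D20226) (iv F79417)
theorem F80145 : act 4 n20386 = n20278 := d26_1 D20386 (iv D20278) F78731 (iv F78392) (iv F79418)
theorem F80146 : act 6 n20386 = n20386 := d30_2 D20219 D20386 (iv D20386) (iv D20219) F78388
theorem F80147 : act 8 n20386 = n20384 := d32_2 (iv F79419) D20386 (iv D20384)
def n20387 : Q := act 6 n20220
theorem D20387 : act 6 n20220 = n20387 := rfl
theorem F80148 : act 0 n20387 = n20314 := d5_1 D20387 (iv D20314) (iv F79420)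
theorem F80149 : act 2 n20387 = n20293 := d18_1 D20387 (iv D20293) (iv F79421)
theorem F80150 : act 3 n20387 = n20225 := d23_1 D20387 (iv D20225) (iv F79422)
theorem F80151 : act 4 n20387 = n20221 := d27_1 D20387 (iv D20221) D20220
theorem F80152 : act 7 n20387 = n20268 := d33_2 (iv F79424) D20387 (iv D20268)
theorem F80153 : act 8 n20387 = n20287 := d34_2 (iv F79425) D20387 (iv D20287)
def n20388 : Q := act 6 n20223
theorem D20388 : act 6 n20223 = n20388 := rfl
theorem F80154 : act 1 n20388 = n20225 := d12_1 D20388 (iv D20225) (iv F79436)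
theorem F80155 : act 2 n20388 = n20365 := d18_1 D20388 (iv D20365) (iv F79437)
theorem F80156 : act 4 n20388 = n20224 := d27_1 D20388 (iv D20224) D20223
theorem F80157 : act 7 n20388 = n20310 := d33_2 (iv F79439) D20388 (iv D20310)
def n20389 : Q := act 5 n20225
theorem D20389 : act 5 n20225 = n20389 := rfl
theorem F80158 : act 2 n20389 = n20226 := d17_1 D20389 (iv D20226) (iv F79445)
theorem F80159 : act 6 n20389 = n20389 := d30_2 D20225 D20389 (iv D20389) (iv D20225) F78417
def n20390 : Q := act 5 n20229
theorem D20390 : act 5 n20229 = n20390 := rfl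
theorem F80160 : act 0 n20390 = n20246 := d4_1 D20390 (iv D20246) (iv F79459)
theorem F80161 : act 2 n20390 = n20368 := d17_1 D20390 (iv D20368) (iv F79460)
theorem F80162 : act 6 n20390 = n20390 := d30_2 D20229 D20390 (iv D20390) (iv D20229) F78444
theorem F80163 : act 7 n20390 = n20321 := d31_2 (iv F79462) D20390 (iv D20321)
def n20391 : Q := act 5 n20230
theorem D20391 : act 5 n20230 = n20391 := rfl
theorem F80164 : act 0 n20391 = n20305 := d4_1 D20391 (iv D20305) (iv F79463)
theorem F80165 : act 1 n20391 = n20269 := d11_1 D20391 (iv D20269) (iv F79464)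
theorem F80166 : act 4 n20391 = n20243 := d26_1 D20391 (iv D20243) F78525 (iv F78456) (iv F79465)
theorem F80167 : act 6 n20391 = n20391 := d30_2 D20230 D20391 (iv D20391) (iv D20230) F78452
def n20392 : Q := act 6 n20231
theorem D20392 : act 6 n20231 = n20392 := rfl
theorem F80168 : act 0 n20392 = n20240 := d5_1 D20392 (iv D20240) (iv F79466)
theorem F80169 : act 2 n20392 = n20340 := d18_1 D20392 (iv D20340) (iv F79467)
theorem F80170 : act 3 n20392 = n20347 := d23_1 D20392 (iv D20347) (iv F79468)
theorem F80171 : act 4 n20392 = n20232 := d27_1 D20392 (iv D20232) D20231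
theorem F80172 : act 8 n20392 = n20234 := d34_2 (iv F79470) D20392 (iv D20234)
def n20393 : Q := act 7 n20231
theorem D20393 : act 7 n20231 = n20393 := rfl
theorem F80173 : act 0 n20393 = n20241 := d6_1 D20393 (iv D20241) (iv F79466)
theorem F80174 : act 2 n20393 = n20341 := d19_1 D20393 (iv D20341) (iv F79467)
theorem F80175 : act 3 n20393 = n20294 := d24_1 D20393 F79743 F79320 (iv F79169) (iv F79468)
theorem F80176 : act 4 n20393 = n20233 := d28_1 D20393 (iv D20233) D20231
theorem F80177 : act 5 n20393 = n20393 := d31_1 D20393 (iv D20393) F79469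
def n20394 : Q := act 7 n20232
theorem D20394 : act 7 n20232 = n20394 := rfl
theorem F80178 : act 0 n20394 = n20242 := d6_1 D20394 (iv D20242) (iv F79471)
theorem F80179 : act 2 n20394 = n20342 := d19_1 D20394 (iv D20342) (iv F79472)
theorem F80180 : act 3 n20394 = n20324 := d24_1 D20394 (iv D20324) F78961 (iv F78476) (iv F79473)
theorem F80181 : act 5 n20394 = n20303 := d31_1 D20394 (iv D20303) (iv F79474)
theorem F80182 : act 6 n20394 = n20233 := d33_1 D20394 (iv D20233) D20232
def n20395 : Q := act 5 n20234
theorem D20395 : act 5 n20234 = n20395 := rfl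
theorem F80183 : act 0 n20395 = n20243 := d4_1 D20395 (iv D20243) (iv F79480)
theorem F80184 : act 2 n20395 = n20391 := d17_1 D20395 (iv D20391) (iv F79481)
theorem F80185 : act 4 n20395 = n20305 := d26_1 D20395 (iv D20305) F78851 (iv F78484) (iv F79482)
theorem F80186 : act 6 n20395 = n20395 := d30_2 D20234 D20395 (iv D20395) (iv D20234) F78480
def n20396 : Q := act 6 n20235
theorem D20396 : act 6 n20235 = n20396 := rfl
theorem F80187 : act 0 n20396 = n20350 := d5_1 D20396 (iv D20350) (iv F79483)
theorem F80188 : act 1 n20396 = n20367 := d12_1 D20396 (iv D20367) (iv F79484)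
theorem F80189 : act 2 n20396 = n20239 := d18_1 D20396 (iv D20239) (iv F79485)
theorem F80190 : act 3 n20396 = n20337 := d23_1 D20396 (iv D20337) (iv F79486)
theorem F80191 : act 4 n20396 = n20236 := d27_1 D20396 (iv D20236) D20235
theorem F80192 : act 7 n20396 = n20320 := d33_2 (iv F79488) D20396 (iv D20320)
theorem F80193 : act 8 n20396 = n20336 := d34_2 (iv F79489) D20396 (iv D20336)
def n20397 : Q := act 6 n20237
theorem D20397 : act 6 n20237 = n20397 := rfl
theorem F80194 : act 0 n20397 = n20347 := d5_1 D20397 (iv D20347) (iv F79496)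
theorem F80195 : act 1 n20397 = n20320 := d12_1 D20397 (iv D20320) (iv F79497)
theorem F80196 : act 2 n20397 = n20336 := d18_1 D20397 (iv D20336) (iv F79498)
theorem F80197 : act 3 n20397 = n20240 := d23_1 D20397 (iv D20240) (iv F79499)
theorem F80198 : act 4 n20397 = n20238 := d27_1 D20397 (iv D20238) D20237
theorem F80199 : act 7 n20397 = n20367 := d33_2 (iv F79501) D20397 (iv D20367)
theorem F80200 : act 8 n20397 = n20239 := d34_2 (iv F79502) D20397 (iv D20239)
def n20398 : Q := act 5 n20239
theorem D20398 : act 5 n20239 = n20398 := rfl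
theorem F80201 : act 1 n20398 = n20321 := d11_1 D20398 (iv D20321) (iv F79510)
theorem F80202 : act 3 n20398 = n20243 := d22_1 D20398 (iv D20243) (iv F79511)
theorem F80203 : act 6 n20398 = n20398 := d30_2 D20239 D20398 (iv D20398) (iv D20239) F78512
def n20399 : Q := act 5 n20240
theorem D20399 : act 5 n20240 = n20399 := rfl
theorem F80204 : act 1 n20399 = n20322 := d11_1 D20399 (iv D20322) (iv F79513)
theorem F80205 : act 6 n20399 = n20399 := d30_2 D20240 D20399 (iv D20399) (iv D20240) F78516
theorem F80206 : act 8 n20399 = n20243 := d32_2 (iv F79515) D20399 (iv D20243)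
def n20400 : Q := act 7 n20240
theorem D20400 : act 7 n20240 = n20400 := rfl
theorem F80207 : act 1 n20400 = n20323 := d13_1 D20400 (iv D20323) (iv F79513)
theorem F80208 : act 4 n20400 = n20242 := d28_1 D20400 (iv D20242) (iv F79514)
theorem F80209 : act 6 n20400 = n20241 := d33_1 D20400 (iv D20241) D20240
def n20401 : Q := act 5 n20244
theorem D20401 : act 5 n20244 = n20401 := rfl
theorem F80210 : act 3 n20401 = n20246 := d22_1 D20401 (iv D20246) (iv F79524)
theorem F80211 : act 6 n20401 = n20401 := d30_2 D20244 D20401 (iv D20401) (iv D20244) F78527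
theorem F80212 : act 8 n20401 = n20390 := d32_2 (iv F79526) D20401 (iv D20390)
def n20402 : Q := act 5 n20245
theorem D20402 : act 5 n20245 = n20402 := rfl
theorem F80213 : act 0 n20402 = n20401 := d4_1 D20402 (iv D20401) (iv F79527)
theorem F80214 : act 1 n20402 = n20386 := d11_1 D20402 (iv D20386) (iv F79528)
theorem F80215 : act 2 n20402 = n20379 := d17_1 D20402 (iv D20379) (iv F79529)
theorem F80216 : act 3 n20402 = n20390 := d22_1 D20402 (iv D20390) (iv F79530)
theorem F80217 : act 4 n20402 = n20329 := d26_1 D20402 (iv D20329) F79010 (iv F78542) (iv F79531)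
theorem F80218 : act 6 n20402 = n20402 := d30_2 D20245 D20402 (iv D20402) (iv D20245) F78535
theorem F80219 : act 7 n20402 = n20354 := d31_2 (iv F79532) D20402 (iv D20354)
theorem F80220 : act 8 n20402 = n20246 := d32_2 (iv F79533) D20402 (iv D20246)
def n20403 : Q := act 6 n20247
theorem D20403 : act 6 n20247 = n20403 := rfl
theorem F80221 : act 0 n20403 = n20249 := d5_1 D20403 (iv D20249) (iv F79536)
theorem F80222 : act 1 n20403 = n20324 := d12_1 D20403 F79846 (iv F79537)
theorem F80223 : act 2 n20403 = n20257 := d18_1 D20403 (iv D20257) (iv F79538)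
theorem F80224 : act 4 n20403 = n20383 := d27_1 D20403 F80133 (iv F79539)
theorem F80225 : act 5 n20403 = n20311 := d30_1 D20403 (iv D20311) (iv D20103) (iv F78556) D20247
theorem F80226 : act 7 n20403 = n20309 := d33_2 (iv F79540) D20403 F79793
theorem F80227 : act 8 n20403 = n20252 := d34_2 (iv F79541) D20403 (iv D20252)
def n20404 : Q := act 4 n20248
theorem D20404 : act 4 n20248 = n20404 := rfl
theorem F80228 : act 1 n20404 = n20250 := d10_1 D20404 (iv D20250) (iv F79542)
theorem F80229 : act 2 n20404 = n20374 := d16_1 D20404 F80092 (iv F79543)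
theorem F80230 : act 3 n20404 = n20358 := d21_1 D20404 F80018 F79232 (iv F78567) (iv F79544)
theorem F80231 : act 5 n20404 = n20404 := d26_2 D20248 D20404 (iv D20404) (iv D20248) F78561
theorem F80232 : act 7 n20404 = n20291 := d28_2 (iv F79545) D20404 (iv D20291)
theorem F80233 : act 8 n20404 = n20253 := d29_2 (iv F79546) D20404 (iv D20253)
def n20405 : Q := act 6 n20248
theorem D20405 : act 6 n20248 = n20405 := rfl
theorem F80234 : act 1 n20405 = n20251 := d12_1 D20405 (iv D20251) (iv F79542)
theorem F80235 : act 2 n20405 = n20375 := d18_1 D20405 F80098 (iv F79543)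
theorem F80236 : act 3 n20405 = n20249 := d23_1 D20405 (iv D20249) (iv F79544)
theorem F80237 : act 5 n20405 = n20313 := d30_1 D20405 (iv D20313) (iv D20104) (iv F78562) D20248
theorem F80238 : act 7 n20405 = n20292 := d33_2 (iv F79545) D20405 (iv D20292)
theorem F80239 : act 8 n20405 = n20254 := d34_2 (iv F79546) D20405 (iv D20254)
def n20406 : Q := act 6 n20250
theorem D20406 : act 6 n20250 = n20406 := rfl
theorem F80240 : act 0 n20406 = n20323 := d5_1 D20406 F79841 (iv F79553)
theorem F80241 : act 2 n20406 = n20268 := d18_1 D20406 (iv D20268) (iv F79554)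
theorem F80242 : act 3 n20406 = n20361 := d23_1 D20406 F80031 (iv F79555)
theorem F80243 : act 4 n20406 = n20251 := d27_1 D20406 (iv D20251) D20250
theorem F80244 : act 7 n20406 = n20293 := d33_2 (iv F79557) D20406 (iv D20293)
theorem F80245 : act 8 n20406 = n20255 := d34_2 (iv F79558) D20406 (iv D20255)
def n20407 : Q := act 6 n20253
theorem D20407 : act 6 n20253 = n20407 := rfl
theorem F80246 : act 1 n20407 = n20255 := d12_1 D20407 (iv D20255) (iv F79569)
theorem F80247 : act 2 n20407 = n20373 := d18_1 D20407 F80088 (iv F79570)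
theorem F80248 : act 3 n20407 = n20400 := d23_1 D20407 F80209 (iv F79571)
theorem F80249 : act 4 n20407 = n20254 := d27_1 D20407 (iv D20254) D20253
theorem F80250 : act 7 n20407 = n20369 := d33_2 (iv F79573) D20407 (iv D20369)
def n20408 : Q := act 5 n20255
theorem D20408 : act 5 n20255 = n20408 := rfl
theorem F80251 : act 2 n20408 = n20269 := d17_1 D20408 (iv D20269) (iv F79579)
theorem F80252 : act 4 n20408 = n20318 := d26_1 D20408 (iv D20318) F78925 (iv F78596) (iv F79580)
theorem F80253 : act 6 n20408 = n20408 := d30_2 D20255 D20408 (iv D20408) (iv D20255) F78593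
def n20409 : Q := act 4 n20258
theorem D20409 : act 4 n20258 = n20409 := rfl
theorem F80254 : act 0 n20409 = n20298 := d3_1 D20409 (iv D20298) (iv F79591)
theorem F80255 : act 1 n20409 = n20260 := d10_1 D20409 (iv D20260) (iv F79592)
theorem F80256 : act 3 n20409 = n20307 := d21_1 D20409 F79782 F78860 (iv F78639) (iv F79593)
theorem F80257 : act 5 n20409 = n20409 := d26_2 D20258 D20409 (iv D20409) (iv D20258) F78632
theorem F80258 : act 7 n20409 = n20312 := d28_2 (iv F79594) D20409 (iv D20312)
theorem F80259 : act 8 n20409 = n20262 := d29_2 (iv F79595) D20409 (iv D20262)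
def n20410 : Q := act 6 n20258
theorem D20410 : act 6 n20258 = n20410 := rfl
theorem F80260 : act 0 n20410 = n20299 := d5_1 D20410 (iv D20299) (iv F79591)
theorem F80261 : act 1 n20410 = n20261 := d12_1 D20410 (iv D20261) (iv F79592)
theorem F80262 : act 3 n20410 = n20259 := d23_1 D20410 (iv D20259) (iv F79593)
theorem F80263 : act 5 n20410 = n20292 := d30_1 D20410 (iv D20292) (iv D20076) (iv F78633) D20258
theorem F80264 : act 7 n20410 = n20313 := d33_2 (iv F79594) D20410 (iv D20313)
theorem F80265 : act 8 n20410 = n20263 := d34_2 (iv F79595) D20410 (iv D20263)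
def n20411 : Q := act 6 n20260
theorem D20411 : act 6 n20260 = n20411 := rfl
theorem F80266 : act 0 n20411 = n20268 := d5_1 D20411 (iv D20268) (iv F79603)
theorem F80267 : act 2 n20411 = n20323 := d18_1 D20411 F79841 (iv F79604)
theorem F80268 : act 4 n20411 = n20261 := d27_1 D20411 (iv D20261) D20260
theorem F80269 : act 7 n20411 = n20314 := d33_2 (iv F79606) D20411 (iv D20314)
theorem F80270 : act 8 n20411 = n20264 := d34_2 (iv F79607) D20411 (iv D20264)
def n20412 : Q := act 6 n20262
theorem D20412 : act 6 n20262 = n20412 := rfl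
theorem F80271 : act 0 n20412 = n20304 := d5_1 D20412 (iv D20304) (iv F79614)
theorem F80272 : act 1 n20412 = n20264 := d12_1 D20412 (iv D20264) (iv F79615)
theorem F80273 : act 3 n20412 = n20306 := d23_1 D20412 F79779 (iv F79616)
theorem F80274 : act 4 n20412 = n20263 := d27_1 D20412 (iv D20263) D20262
theorem F80275 : act 7 n20412 = n20267 := d33_2 (iv F79618) D20412 (iv D20267)
def n20413 : Q := act 5 n20264
theorem D20413 : act 5 n20264 = n20413 := rfl
theorem F80276 : act 0 n20413 = n20269 := d4_1 D20413 (iv D20269) (iv F79624)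
theorem F80277 : act 4 n20413 = n20297 := d26_1 D20413 (iv D20297) F78824 (iv F78666) (iv F79625)
theorem F80278 : act 6 n20413 = n20413 := d30_2 D20264 D20413 (iv D20413) (iv D20264) F78663
def n20414 : Q := act 6 n20265
theorem D20414 : act 6 n20265 = n20414 := rfl
theorem F80279 : act 0 n20414 = n20343 := d5_1 D20414 (iv D20343) (iv F79626)
theorem F80280 : act 2 n20414 = n20267 := d18_1 D20414 (iv D20267) (iv F79627)
theorem F80281 : act 3 n20414 = n20411 := d23_1 D20414 (iv D20411) (iv F79628)
theorem F80282 : act 4 n20414 = n20266 := d27_1 D20414 (iv D20266) D20265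
theorem F80283 : act 8 n20414 = n20370 := d34_2 (iv F79630) D20414 (iv D20370)
def n20415 : Q := act 5 n20267
theorem D20415 : act 5 n20267 = n20415 := rfl
theorem F80284 : act 3 n20415 = n20269 := d22_1 D20415 (iv D20269) (iv F79636)
theorem F80285 : act 6 n20415 = n20415 := d30_2 D20267 D20415 (iv D20415) (iv D20267) F78678
def n20416 : Q := act 5 n20268
theorem D20416 : act 5 n20268 = n20416 := rfl
theorem F80286 : act 4 n20416 = n20322 := d26_1 D20416 (iv D20322) F78951 (iv F78683) (iv F79638)
theorem F80287 : act 6 n20416 = n20416 := d30_2 D20268 D20416 (iv D20416) (iv D20268) F78680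
theorem F80288 : act 8 n20416 = n20269 := d32_2 (iv F79639) D20416 (iv D20269)
def n20417 : Q := act 4 n20270
theorem D20417 : act 4 n20270 = n20417 := rfl
theorem F80289 : act 0 n20417 = n20272 := d3_1 D20417 (iv D20272) (iv F79642)
theorem F80290 : act 1 n20417 = n20351 := d10_1 D20417 (iv D20351) (iv F79643)
theorem F80291 : act 2 n20417 = n20280 := d16_1 D20417 F79680 (iv F79644)
theorem F80292 : act 5 n20417 = n20417 := d26_2 D20270 D20417 (iv D20417) (iv D20270) F78701
theorem F80293 : act 7 n20417 = n20376 := d28_2 (iv F79646) D20417 (iv D20376)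
theorem F80294 : act 8 n20417 = n20276 := d29_2 (iv F79647) D20417 F79669
def n20418 : Q := act 6 n20270
theorem D20418 : act 6 n20270 = n20418 := rfl
theorem F80295 : act 0 n20418 = n20273 := d5_1 D20418 (iv D20273) (iv F79642)
theorem F80296 : act 1 n20418 = n20352 := d12_1 D20418 (iv D20352) (iv F79643)
theorem F80297 : act 2 n20418 = n20281 := d18_1 D20418 F79685 (iv F79644)
theorem F80298 : act 3 n20418 = n20271 := d23_1 D20418 (iv D20271) (iv F79645)
theorem F80299 : act 7 n20418 = n20377 := d33_2 (iv F79646) D20418 (iv D20377)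
theorem F80300 : act 8 n20418 = n20277 := d34_2 (iv F79647) D20418 F79674
def n20419 : Q := act 6 n20272
theorem D20419 : act 6 n20272 = n20419 := rfl
theorem F80301 : act 1 n20419 = n20275 := d12_1 D20419 (iv D20275) (iv F79652)
theorem F80302 : act 4 n20419 = n20273 := d27_1 D20419 (iv D20273) D20272
theorem F80303 : act 8 n20419 = n20388 := d34_2 (iv F79654) D20419 (iv D20388)
def n20420 : Q := act 7 n20272
theorem D20420 : act 7 n20272 = n20420 := rfl
theorem F80304 : act 0 n20420 = n20376 := d6_1 D20420 (iv F80293) F80289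
theorem F80305 : act 1 n20420 = n20276 := d13_1 D20420 (iv D20276) (iv F79652)
theorem F80306 : act 2 n20420 = n20348 := d19_1 D20420 F79972 F79856
theorem F80307 : act 4 n20420 = n20274 := d28_1 D20420 (iv D20274) D20272
theorem F80308 : act 5 n20420 = n20420 := d31_1 D20420 (iv D20420) F79653
theorem F80309 : act 8 n20420 = n20351 := d35_2 (iv F79654) D20420 F79989 F79411 (iv F79439)
def n20421 : Q := act 7 n20273
theorem D20421 : act 7 n20273 = n20421 := rfl
theorem F80310 : act 0 n20421 = n20377 := d6_1 D20421 (iv F80299) F80295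
theorem F80311 : act 1 n20421 = n20277 := d13_1 D20421 (iv D20277) (iv F79655)
theorem F80312 : act 2 n20421 = n20349 := d19_1 D20421 F79978 F79862
theorem F80313 : act 3 n20421 = n20382 := d24_1 D20421 F80127 F79721 F78785 (iv F79656)
theorem F80314 : act 5 n20421 = n20418 := d31_1 D20421 F80299 F80107
theorem F80315 : act 6 n20421 = n20274 := d33_1 D20421 (iv D20274) D20273
theorem F80316 : act 8 n20421 = n20352 := d35_2 (iv F79657) D20421 F79994 F79416 (iv F79444)
def n20422 : Q := act 5 n20275
theorem D20422 : act 5 n20275 = n20422 := rfl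
theorem F80317 : act 2 n20422 = n20278 := d17_1 D20422 (iv D20278) (iv F79664)
theorem F80318 : act 6 n20422 = n20422 := d30_2 D20275 D20422 (iv D20422) (iv D20275) F78722
theorem F80319 : act 8 n20422 = n20389 := d32_2 (iv F79666) D20422 (iv D20389)
def n20423 : Q := act 7 n20275
theorem D20423 : act 7 n20275 = n20423 := rfl
theorem F80320 : act 0 n20423 = n20388 := d6_1 D20423 F80157 F79794
theorem F80321 : act 2 n20423 = n20279 := d19_1 D20423 (iv D20279) (iv F79664)
theorem F80322 : act 4 n20423 = n20277 := d28_1 D20423 (iv D20277) (iv F79665)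
theorem F80323 : act 6 n20423 = n20276 := d33_1 D20423 (iv D20276) D20275
def n20424 : Q := act 7 n20278
theorem D20424 : act 7 n20278 = n20424 := rfl
theorem F80324 : act 5 n20424 = n20279 := d31_1 D20424 (iv D20279) D20278
theorem F80325 : act 6 n20424 = n20424 := d33_1 D20424 (iv D20424) F79675
def n20425 : Q := act 8 n20279
theorem D20425 : act 8 n20279 = n20425 := rfl
theorem F80326 : act 1 n20425 = n20347 := d14_1 D20425 F79967 F79875
theorem F80327 : act 4 n20425 = n20281 := d29_1 D20425 (iv D20281) (iv F79677)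
theorem F80328 : act 6 n20425 = n20280 := d34_1 D20425 (iv D20280) (iv F79678)
theorem F80329 : act 7 n20425 = n20378 := d35_1 D20425 F80111 F79366 (iv F78732) D20279
def n20426 : Q := act 4 n20282
theorem D20426 : act 4 n20282 = n20426 := rfl
theorem F80330 : act 0 n20426 = n20285 := d3_1 D20426 (iv D20285) (iv F79687)
theorem F80331 : act 1 n20426 = n20315 := d10_1 D20426 (iv D20315) (iv F79688)
theorem F80332 : act 2 n20426 = n20358 := d16_1 D20426 F80018 (iv F79689)
theorem F80333 : act 3 n20426 = n20417 := d21_1 D20426 (iv D20417) F79645 (iv F78749) (iv F79690)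
theorem F80334 : act 5 n20426 = n20426 := d26_2 D20282 D20426 (iv D20426) (iv D20282) F78744
theorem F80335 : act 7 n20426 = n20307 := d28_2 (iv F79691) D20426 F79782
theorem F80336 : act 8 n20426 = n20302 := d29_2 (iv F79692) D20426 F79769
def n20427 : Q := act 6 n20282
theorem D20427 : act 6 n20282 = n20427 := rfl
theorem F80337 : act 0 n20427 = n20286 := d5_1 D20427 (iv D20286) (iv F79687)
theorem F80338 : act 1 n20427 = n20316 := d12_1 D20427 (iv D20316) (iv F79688)
theorem F80339 : act 2 n20427 = n20359 := d18_1 D20427 F80024 (iv F79689)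
theorem F80340 : act 3 n20427 = n20283 := d23_1 D20427 (iv D20283) (iv F79690)
theorem F80341 : act 7 n20427 = n20308 := d33_2 (iv F79691) D20427 F79787
theorem F80342 : act 8 n20427 = n20303 := d34_2 (iv F79692) D20427 F79772
def n20428 : Q := act 4 n20284
theorem D20428 : act 4 n20284 = n20428 := rfl
theorem F80343 : act 0 n20428 = n20358 := d3_1 D20428 F80018 (iv F79697)
theorem F80344 : act 1 n20428 = n20294 := d10_1 D20428 (iv D20294) (iv F79698)
theorem F80345 : act 2 n20428 = n20285 := d16_1 D20428 (iv D20285) (iv F79699)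
theorem F80346 : act 5 n20428 = n20428 := d26_2 D20284 D20428 (iv D20428) (iv D20284) F78754
theorem F80347 : act 7 n20428 = n20355 := d28_2 (iv F79701) D20428 (iv D20355)
theorem F80348 : act 8 n20428 = n20393 := d29_2 (iv F79702) D20428 F80176
def n20429 : Q := act 6 n20284
theorem D20429 : act 6 n20284 = n20429 := rfl
theorem F80349 : act 0 n20429 = n20359 := d5_1 D20429 F80024 (iv F79697)
theorem F80350 : act 1 n20429 = n20295 := d12_1 D20429 (iv D20295) (iv F79698)
theorem F80351 : act 2 n20429 = n20286 := d18_1 D20429 (iv D20286) (iv F79699)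
theorem F80352 : act 3 n20429 = n20383 := d23_1 D20429 F80133 (iv F79700)
theorem F80353 : act 5 n20429 = n20427 := d30_1 D20429 (iv D20427) (iv D20282) (iv F78755) D20284
theorem F80354 : act 7 n20429 = n20356 := d33_2 (iv F79701) D20429 (iv D20356)
theorem F80355 : act 8 n20429 = n20394 := d34_2 (iv F79702) D20429 F80182
def n20430 : Q := act 6 n20285
theorem D20430 : act 6 n20285 = n20430 := rfl
theorem F80356 : act 1 n20430 = n20287 := d12_1 D20430 (iv D20287) (iv F79703)
theorem F80357 : act 3 n20430 = n20419 := d23_1 D20430 (iv D20419) (iv F79704)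
theorem F80358 : act 4 n20430 = n20286 := d27_1 D20430 (iv D20286) D20285
def n20431 : Q := act 5 n20287
theorem D20431 : act 5 n20287 = n20431 := rfl
theorem F80359 : act 0 n20431 = n20318 := d4_1 D20431 (iv D20318) (iv F79708)
theorem F80360 : act 2 n20431 = n20297 := d17_1 D20431 (iv D20297) (iv F79709)
theorem F80361 : act 3 n20431 = n20422 := d22_1 D20431 (iv D20422) (iv F79710)
theorem F80362 : act 6 n20431 = n20431 := d30_2 D20287 D20431 (iv D20431) (iv D20287) F78766
def n20432 : Q := act 4 n20290
theorem D20432 : act 4 n20290 = n20432 := rfl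
theorem F80363 : act 0 n20432 = n20404 := d3_1 D20432 (iv D20404) (iv F79725)
theorem F80364 : act 1 n20432 = n20393 := d10_1 D20432 F80176 (iv F79726)
theorem F80365 : act 2 n20432 = n20291 := d16_1 D20432 (iv D20291) (iv F79727)
theorem F80366 : act 3 n20432 = n20428 := d21_1 D20432 (iv D20428) F79700 (iv F79539) (iv F79728)
theorem F80367 : act 5 n20432 = n20432 := d26_2 D20290 D20432 (iv D20432) (iv D20290) F78800
theorem F80368 : act 7 n20432 = n20374 := d28_2 (iv F79729) D20432 F80092
theorem F80369 : act 8 n20432 = n20294 := d29_2 (iv F79730) D20432 (iv D20294)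
def n20433 : Q := act 6 n20290
theorem D20433 : act 6 n20290 = n20433 := rfl
theorem F80370 : act 0 n20433 = n20405 := d5_1 D20433 (iv D20405) (iv F79725)
theorem F80371 : act 1 n20433 = n20394 := d12_1 D20433 F80182 (iv F79726)
theorem F80372 : act 2 n20433 = n20292 := d18_1 D20433 (iv D20292) (iv F79727)
theorem F80373 : act 3 n20433 = n20403 := d23_1 D20433 (iv D20403) (iv F79728)
theorem F80374 : act 7 n20433 = n20375 := d33_2 (iv F79729) D20433 F80098
theorem F80375 : act 8 n20433 = n20295 := d34_2 (iv F79730) D20433 (iv D20295)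
def n20434 : Q := act 6 n20291
theorem D20434 : act 6 n20291 = n20434 := rfl
theorem F80376 : act 1 n20434 = n20293 := d12_1 D20434 (iv D20293) (iv F79731)
theorem F80377 : act 4 n20434 = n20292 := d27_1 D20434 (iv D20292) D20291
theorem F80378 : act 8 n20434 = n20296 := d34_2 (iv F79733) D20434 (iv D20296)
def n20435 : Q := act 5 n20293
theorem D20435 : act 5 n20293 = n20435 := rfl
theorem F80379 : act 0 n20435 = n20322 := d4_1 D20435 (iv D20322) (iv F79737)
theorem F80380 : act 6 n20435 = n20435 := d30_2 D20293 D20435 (iv D20435) (iv D20293) F78810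
theorem F80381 : act 8 n20435 = n20297 := d32_2 (iv F79739) D20435 (iv D20297)
def n20436 : Q := act 6 n20294
theorem D20436 : act 6 n20294 = n20436 := rfl
theorem F80382 : act 0 n20436 = n20407 := d5_1 D20436 (iv D20407) (iv F79740)
theorem F80383 : act 2 n20436 = n20296 := d18_1 D20436 (iv D20296) (iv F79741)
theorem F80384 : act 4 n20436 = n20295 := d27_1 D20436 (iv D20295) D20294
theorem F80385 : act 7 n20436 = n20371 := d33_2 (iv F79743) D20436 (iv D20371)
def n20437 : Q := act 5 n20296
theorem D20437 : act 5 n20296 = n20437 := rfl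
theorem F80386 : act 1 n20437 = n20297 := d11_1 D20437 (iv D20297) (iv F79748)
theorem F80387 : act 6 n20437 = n20437 := d30_2 D20296 D20437 (iv D20437) (iv D20296) F78820
def n20438 : Q := act 6 n20298
theorem D20438 : act 6 n20298 = n20438 := rfl
theorem F80388 : act 1 n20438 = n20301 := d12_1 D20438 (iv D20301) (iv F79752)
theorem F80389 : act 4 n20438 = n20299 := d27_1 D20438 (iv D20299) D20298
theorem F80390 : act 8 n20438 = n20304 := d34_2 (iv F79754) D20438 (iv D20304)
def n20439 : Q := act 7 n20298
theorem D20439 : act 7 n20298 = n20439 := rfl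
theorem F80391 : act 0 n20439 = n20312 := d6_1 D20439 (iv F80258) F80254
theorem F80392 : act 1 n20439 = n20302 := d13_1 D20439 (iv D20302) (iv F79752)
theorem F80393 : act 2 n20439 = n20409 := d19_1 D20439 F80258 F79803
theorem F80394 : act 3 n20439 = n20420 := d24_1 D20439 (iv D20420) (iv F79704) (iv F79883) F79881
theorem F80395 : act 4 n20439 = n20300 := d28_1 D20439 (iv D20300) D20298
theorem F80396 : act 5 n20439 = n20439 := d31_1 D20439 (iv D20439) F79753
theorem F80397 : act 8 n20439 = n20315 := d35_2 (iv F79754) D20439 F79816 F79630 F79311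
def n20440 : Q := act 7 n20299
theorem D20440 : act 7 n20299 = n20440 := rfl
theorem F80398 : act 0 n20440 = n20313 := d6_1 D20440 (iv F80264) F80260
theorem F80399 : act 1 n20440 = n20303 := d13_1 D20440 (iv D20303) (iv F79755)
theorem F80400 : act 2 n20440 = n20410 := d19_1 D20440 F80264 F79807
theorem F80401 : act 3 n20440 = n20311 := d24_1 D20440 F79800 F79589 F79050 (iv F79756)
theorem F80402 : act 5 n20440 = n20433 := d31_1 D20440 F80374 F80097
theorem F80403 : act 6 n20440 = n20300 := d33_1 D20440 (iv D20300) D20299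
theorem F80404 : act 8 n20440 = n20316 := d35_2 (iv F79757) D20440 F79821 F79635 F79317
def n20441 : Q := act 5 n20301
theorem D20441 : act 5 n20301 = n20441 := rfl
theorem F80405 : act 2 n20441 = n20399 := d17_1 D20441 (iv D20399) (iv F79764)
theorem F80406 : act 6 n20441 = n20441 := d30_2 D20301 D20441 (iv D20441) (iv D20301) F78839
theorem F80407 : act 8 n20441 = n20305 := d32_2 (iv F79766) D20441 (iv D20305)
def n20442 : Q := act 7 n20301
theorem D20442 : act 7 n20301 = n20442 := rfl
theorem F80408 : act 2 n20442 = n20400 := d19_1 D20442 (iv D20400) (iv F79764)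
theorem F80409 : act 3 n20442 = n20423 := d24_1 D20442 (iv D20423) (iv F79710) (iv F79895) F79893
theorem F80410 : act 4 n20442 = n20303 := d28_1 D20442 (iv D20303) (iv F79765)
theorem F80411 : act 6 n20442 = n20302 := d33_1 D20442 (iv D20302) D20301
def n20443 : Q := act 5 n20304
theorem D20443 : act 5 n20304 = n20443 := rfl
theorem F80412 : act 1 n20443 = n20305 := d11_1 D20443 (iv D20305) (iv F79773)
theorem F80413 : act 6 n20443 = n20443 := d30_2 D20304 D20443 (iv D20443) (iv D20304) F78847
def n20444 : Q := act 7 n20305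
theorem D20444 : act 7 n20305 = n20444 := rfl
theorem F80414 : act 2 n20444 = n20363 := d19_1 D20444 F80041 (iv F79775)
theorem F80415 : act 5 n20444 = n20306 := d31_1 D20444 (iv D20306) D20305
theorem F80416 : act 6 n20444 = n20444 := d33_1 D20444 (iv D20444) F79776
def n20445 : Q := act 8 n20306
theorem D20445 : act 8 n20306 = n20445 := rfl
theorem F80417 : act 1 n20445 = n20414 := d14_1 D20445 F80283 F80072
theorem F80418 : act 2 n20445 = n20357 := d20_1 D20445 F80016 (iv F79777)
theorem F80419 : act 4 n20445 = n20308 := d29_1 D20445 (iv D20308) (iv F79778)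
theorem F80420 : act 6 n20445 = n20307 := d34_1 D20445 (iv D20307) (iv F79779)
def n20446 : Q := act 5 n20310
theorem D20446 : act 5 n20310 = n20446 := rfl
theorem F80421 : act 0 n20446 = n20422 := d4_1 D20446 (iv D20422) (iv F79794)
theorem F80422 : act 2 n20446 = n20384 := d17_1 D20446 (iv D20384) (iv F79795)
theorem F80423 : act 3 n20446 = n20318 := d22_1 D20446 (iv D20318) (iv F79796)
theorem F80424 : act 4 n20446 = n20389 := d26_1 D20446 (iv D20389) F79446 (iv F78892) (iv F79797)
theorem F80425 : act 6 n20446 = n20446 := d30_2 D20310 D20446 (iv D20446) (iv D20310) F78888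
def n20447 : Q := act 6 n20312
theorem D20447 : act 6 n20312 = n20447 := rfl
theorem F80426 : act 1 n20447 = n20314 := d12_1 D20447 (iv D20314) (iv F79802)
theorem F80427 : act 2 n20447 = n20438 := d18_1 D20447 (iv D20438) (iv F79803)
theorem F80428 : act 4 n20447 = n20313 := d27_1 D20447 (iv D20313) D20312
theorem F80429 : act 8 n20447 = n20317 := d34_2 (iv F79805) D20447 (iv D20317)
def n20448 : Q := act 5 n20314
theorem D20448 : act 5 n20314 = n20448 := rfl
theorem F80430 : act 2 n20448 = n20322 := d17_1 D20448 (iv D20322) (iv F79810)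
theorem F80431 : act 6 n20448 = n20448 := d30_2 D20314 D20448 (iv D20448) (iv D20314) F78906
theorem F80432 : act 8 n20448 = n20318 := d32_2 (iv F79812) D20448 (iv D20318)
def n20449 : Q := act 6 n20315
theorem D20449 : act 6 n20315 = n20449 := rfl
theorem F80433 : act 0 n20449 = n20317 := d5_1 D20449 (iv D20317) (iv F79813)
theorem F80434 : act 2 n20449 = n20412 := d18_1 D20449 (iv D20412) (iv F79814)
theorem F80435 : act 4 n20449 = n20316 := d27_1 D20449 (iv D20316) D20315
theorem F80436 : act 7 n20449 = n20414 := d33_2 (iv F79816) D20449 (iv D20414)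
def n20450 : Q := act 5 n20317
theorem D20450 : act 5 n20317 = n20450 := rfl
theorem F80437 : act 1 n20450 = n20318 := d11_1 D20450 (iv D20318) (iv F79822)
theorem F80438 : act 2 n20450 = n20443 := d17_1 D20450 (iv D20443) (iv F79823)
theorem F80439 : act 6 n20450 = n20450 := d30_2 D20317 D20450 (iv D20450) (iv D20317) F78920
def n20451 : Q := act 5 n20319
theorem D20451 : act 5 n20319 = n20451 := rfl
theorem F80440 : act 0 n20451 = n20364 := d4_1 D20451 (iv D20364) (iv F79827)
theorem F80441 : act 1 n20451 = n20401 := d11_1 D20451 (iv D20401) (iv F79828)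
theorem F80442 : act 2 n20451 = n20321 := d17_1 D20451 (iv D20321) (iv F79829)
theorem F80443 : act 3 n20451 = n20384 := d22_1 D20451 (iv D20384) (iv F79830)
theorem F80444 : act 4 n20451 = n20390 := d26_1 D20451 (iv D20390) F79461 (iv F78942) (iv F79831)
theorem F80445 : act 6 n20451 = n20451 := d30_2 D20319 D20451 (iv D20451) (iv D20319) F78936
theorem F80446 : act 7 n20451 = n20368 := d31_2 (iv F79832) D20451 (iv D20368)
def n20452 : Q := act 5 n20320
theorem D20452 : act 5 n20320 = n20452 := rfl
theorem F80447 : act 3 n20452 = n20322 := d22_1 D20452 (iv D20322) (iv F79833)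
theorem F80448 : act 6 n20452 = n20452 := d30_2 D20320 D20452 (iv D20452) (iv D20320) F78945
theorem F80449 : act 8 n20452 = n20321 := d32_2 (iv F79835) D20452 (iv D20321)
def n20453 : Q := act 7 n20322
theorem D20453 : act 7 n20322 = n20453 := rfl
theorem F80450 : act 5 n20453 = n20323 := d31_1 D20453 (iv D20323) D20322
theorem F80451 : act 6 n20453 = n20453 := d33_1 D20453 (iv D20453) F79838
theorem F80452 : act 3 n20408 = n20453 := d22_3 F80450 (iv F79842) D20408
def n20454 : Q := act 5 n20325
theorem D20454 : act 5 n20325 = n20454 := rfl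
theorem F80453 : act 0 n20454 = n20329 := d4_1 D20454 (iv D20329) (iv F79847)
theorem F80454 : act 1 n20454 = n20390 := d11_1 D20454 (iv D20390) (iv F79848)
theorem F80455 : act 2 n20454 = n20452 := d17_1 D20454 (iv D20452) (iv F79849)
theorem F80456 : act 3 n20454 = n20386 := d22_1 D20454 (iv D20386) (iv F79850)
theorem F80457 : act 4 n20454 = n20401 := d26_1 D20454 (iv D20401) F79525 (iv F78983) (iv F79851)
theorem F80458 : act 6 n20454 = n20454 := d30_2 D20325 D20454 (iv D20454) (iv D20325) F78976
theorem F80459 : act 7 n20454 = n20398 := d31_2 (iv F79852) D20454 (iv D20398)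
theorem F80460 : act 8 n20454 = n20451 := d32_2 (iv F79853) D20454 (iv D20451)
def n20455 : Q := act 6 n20326
theorem D20455 : act 6 n20326 = n20455 := rfl
theorem F80461 : act 0 n20455 = n20425 := d5_1 D20455 F80328 (iv F79854)
theorem F80462 : act 1 n20455 = n20328 := d12_1 D20455 (iv D20328) (iv F79855)
theorem F80463 : act 2 n20455 = n20419 := d18_1 D20455 (iv D20419) (iv F79856)
theorem F80464 : act 3 n20455 = n20434 := d23_1 D20455 (iv D20434) (iv F79857)
theorem F80465 : act 4 n20455 = n20327 := d27_1 D20455 (iv D20327) D20326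
theorem F80466 : act 8 n20455 = n20365 := d34_2 (iv F79859) D20455 (iv D20365)
def n20456 : Q := act 5 n20328
theorem D20456 : act 5 n20328 = n20456 := rfl
theorem F80467 : act 0 n20456 = n20452 := d4_1 D20456 (iv D20452) (iv F79866)
theorem F80468 : act 2 n20456 = n20329 := d17_1 D20456 (iv D20329) (iv F79867)
theorem F80469 : act 3 n20456 = n20435 := d22_1 D20456 (iv D20435) (iv F79868)
theorem F80470 : act 4 n20456 = n20379 := d26_1 D20456 (iv D20379) F79353 (iv F79006) (iv F79869)
theorem F80471 : act 6 n20456 = n20456 := d30_2 D20328 D20456 (iv D20456) (iv D20328) F79001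
theorem F80472 : act 8 n20456 = n20366 := d32_2 (iv F79870) D20456 (iv D20366)
def n20457 : Q := act 7 n20329
theorem D20457 : act 7 n20329 = n20457 := rfl
theorem F80473 : act 0 n20457 = n20398 := d6_1 D20457 (iv F80459) F80453
theorem F80474 : act 1 n20457 = n20424 := d13_1 D20457 (iv D20424) (iv F79871)
theorem F80475 : act 4 n20457 = n20354 := d28_1 D20457 (iv F80219) F80217
theorem F80476 : act 5 n20457 = n20330 := d31_1 D20457 (iv D20330) D20329
theorem F80477 : act 6 n20457 = n20457 := d33_1 D20457 (iv D20457) F79873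
theorem F80478 : act 3 n20395 = n20457 := d22_3 F80476 (iv F79878) D20395
def n20458 : Q := act 6 n20331
theorem D20458 : act 6 n20331 = n20458 := rfl
theorem F80479 : act 0 n20458 = n20445 := d5_1 D20458 F80420 (iv F79879)
theorem F80480 : act 1 n20458 = n20333 := d12_1 D20458 (iv D20333) (iv F79880)
theorem F80481 : act 3 n20458 = n20438 := d23_1 D20458 (iv D20438) (iv F79881)
theorem F80482 : act 4 n20458 = n20332 := d27_1 D20458 (iv D20332) D20331
theorem F80483 : act 7 n20458 = n20430 := d33_2 (iv F79883) D20458 (iv D20430)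
theorem F80484 : act 8 n20458 = n20345 := d34_2 (iv F79884) D20458 (iv D20345)
def n20459 : Q := act 5 n20333
theorem D20459 : act 5 n20333 = n20459 := rfl
theorem F80485 : act 0 n20459 = n20344 := d4_1 D20459 (iv D20344) (iv F79891)
theorem F80486 : act 2 n20459 = n20339 := d17_1 D20459 (iv D20339) (iv F79892)
theorem F80487 : act 3 n20459 = n20441 := d22_1 D20459 (iv D20441) (iv F79893)
theorem F80488 : act 4 n20459 = n20360 := d26_1 D20459 (iv D20360) F79235 (iv F79042) (iv F79894)
theorem F80489 : act 6 n20459 = n20459 := d30_2 D20333 D20459 (iv D20459) (iv D20333) F79036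
theorem F80490 : act 7 n20459 = n20431 := d31_2 (iv F79895) D20459 (iv D20431)
theorem F80491 : act 8 n20459 = n20346 := d32_2 (iv F79896) D20459 (iv D20346)
def n20460 : Q := act 5 n20335
theorem D20460 : act 5 n20335 = n20460 := rfl
theorem F80492 : act 0 n20460 = n20346 := d4_1 D20460 (iv D20346) (iv F79905)
theorem F80493 : act 1 n20460 = n20415 := d11_1 D20460 (iv D20415) (iv F79906)
theorem F80494 : act 2 n20460 = n20360 := d17_1 D20460 (iv D20360) (iv F79907)
theorem F80495 : act 3 n20460 = n20391 := d22_1 D20460 (iv D20391) (iv F79908)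
theorem F80496 : act 4 n20460 = n20339 := d26_1 D20460 (iv D20339) F79119 (iv F79084) (iv F79909)
theorem F80497 : act 6 n20460 = n20460 := d30_2 D20335 D20460 (iv D20460) (iv D20335) F79077
theorem F80498 : act 7 n20460 = n20413 := d31_2 (iv F79910) D20460 (iv D20413)
theorem F80499 : act 8 n20460 = n20344 := d32_2 (iv F79911) D20460 (iv D20344)
def n20461 : Q := act 5 n20336
theorem D20461 : act 5 n20336 = n20461 := rfl
theorem F80500 : act 0 n20461 = n20354 := d4_1 D20461 (iv D20354) (iv F79912)
theorem F80501 : act 1 n20461 = n20368 := d11_1 D20461 (iv D20368) (iv F79913)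
theorem F80502 : act 3 n20461 = n20339 := d22_1 D20461 (iv D20339) (iv F79914)
theorem F80503 : act 4 n20461 = n20398 := d26_1 D20461 (iv D20398) F79512 (iv F79095) (iv F79915)
theorem F80504 : act 6 n20461 = n20461 := d30_2 D20336 D20461 (iv D20461) (iv D20336) F79090
theorem F80505 : act 7 n20461 = n20401 := d31_2 (iv F79916) D20461 (iv D20401)
def n20462 : Q := act 5 n20337
theorem D20462 : act 5 n20337 = n20462 := rfl
theorem F80506 : act 0 n20462 = n20360 := d4_1 D20462 (iv D20360) (iv F79917)
theorem F80507 : act 2 n20462 = n20346 := d17_1 D20462 (iv D20346) (iv F79918)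
theorem F80508 : act 4 n20462 = n20344 := d26_1 D20462 (iv D20344) F79146 (iv F79105) (iv F79919)
theorem F80509 : act 6 n20462 = n20462 := d30_2 D20337 D20462 (iv D20462) (iv D20337) F79099
theorem F80510 : act 7 n20462 = n20408 := d31_2 (iv F79920) D20462 (iv D20408)
theorem F80511 : act 8 n20462 = n20339 := d32_2 (iv F79921) D20462 (iv D20339)
def n20463 : Q := act 5 n20338
theorem D20463 : act 5 n20338 = n20463 := rfl
theorem F80512 : act 0 n20463 = n20372 := d4_1 D20463 (iv D20372) (iv F79922)
theorem F80513 : act 1 n20463 = n20339 := d11_1 D20463 (iv D20339) (iv F79923)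
theorem F80514 : act 3 n20463 = n20368 := d22_1 D20463 (iv D20368) (iv F79924)
theorem F80515 : act 4 n20463 = n20415 := d26_1 D20463 (iv D20415) F79637 (iv F79116) (iv F79925)
theorem F80516 : act 6 n20463 = n20463 := d30_2 D20338 D20463 (iv D20463) (iv D20338) F79111
theorem F80517 : act 7 n20463 = n20437 := d31_2 (iv F79926) D20463 (iv D20437)
def n20464 : Q := act 5 n20340
theorem D20464 : act 5 n20340 = n20464 := rfl
theorem F80518 : act 0 n20464 = n20441 := d4_1 D20464 (iv D20441) (iv F79930)
theorem F80519 : act 1 n20464 = n20416 := d11_1 D20464 (iv D20416) (iv F79931)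
theorem F80520 : act 3 n20464 = n20344 := d22_1 D20464 (iv D20344) (iv F79932)
theorem F80521 : act 4 n20464 = n20399 := d26_1 D20464 (iv D20399) F79514 (iv F79129) (iv F79933)
theorem F80522 : act 6 n20464 = n20464 := d30_2 D20340 D20464 (iv D20464) (iv D20340) F79124
theorem F80523 : act 8 n20464 = n20391 := d32_2 (iv F79934) D20464 (iv D20391)
def n20465 : Q := act 7 n20340
theorem D20465 : act 7 n20340 = n20465 := rfl
theorem F80524 : act 0 n20465 = n20442 := d6_1 D20465 (iv D20442) (iv F79930)
theorem F80525 : act 1 n20465 = n20387 := d13_1 D20465 F80152 (iv F79931)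
theorem F80526 : act 3 n20465 = n20388 := d24_1 D20465 F80157 F79796 (iv F79147) (iv F79932)
theorem F80527 : act 4 n20465 = n20342 := d28_1 D20465 (iv D20342) (iv F79933)
theorem F80528 : act 6 n20465 = n20341 := d33_1 D20465 (iv D20341) D20340
theorem F80529 : act 8 n20465 = n20430 := d35_2 (iv F79934) D20465 (iv F80483) F80484 F79959
def n20466 : Q := act 5 n20343
theorem D20466 : act 5 n20343 = n20466 := rfl
theorem F80530 : act 1 n20466 = n20344 := d11_1 D20466 (iv D20344) (iv F79947)
theorem F80531 : act 3 n20466 = n20416 := d22_1 D20466 (iv D20416) (iv F79948)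
theorem F80532 : act 6 n20466 = n20466 := d30_2 D20343 D20466 (iv D20466) (iv D20343) F79138
theorem F80533 : act 7 n20466 = n20450 := d31_2 (iv F79950) D20466 (iv D20450)
theorem F80534 : act 8 n20466 = n20415 := d32_2 (iv F79951) D20466 (iv D20415)
def n20467 : Q := act 5 n20345
theorem D20467 : act 5 n20345 = n20467 := rfl
theorem F80535 : act 0 n20467 = n20444 := d4_1 D20467 F80415 (iv F79955)
theorem F80536 : act 1 n20467 = n20346 := d11_1 D20467 (iv D20346) (iv F79956)
theorem F80537 : act 3 n20467 = n20443 := d22_1 D20467 (iv D20443) (iv F79957)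
theorem F80538 : act 4 n20467 = n20363 := d26_1 D20467 (iv D20363) F79261 (iv F79162) (iv F79958)
theorem F80539 : act 6 n20467 = n20467 := d30_2 D20345 D20467 (iv D20467) (iv D20345) F79157
theorem F80540 : act 7 n20467 = n20391 := d31_2 (iv F79959) D20467 (iv D20391)
def n20468 : Q := act 5 n20347
theorem D20468 : act 5 n20347 = n20468 := rfl
theorem F80541 : act 2 n20468 = n20354 := d17_1 D20468 (iv D20354) (iv F79964)
theorem F80542 : act 6 n20468 = n20468 := d30_2 D20347 D20468 (iv D20468) (iv D20347) F79168
theorem F80543 : act 7 n20468 = n20379 := d31_2 (iv F79966) D20468 (iv D20379)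
theorem F80544 : act 8 n20468 = n20457 := d32_2 (iv F79967) D20468 F80476
def n20469 : Q := act 6 n20348
theorem D20469 : act 6 n20348 = n20469 := rfl
theorem F80545 : act 0 n20469 = n20378 := d5_1 D20469 (iv D20378) (iv F79968)
theorem F80546 : act 1 n20469 = n20350 := d12_1 D20469 (iv D20350) (iv F79969)
theorem F80547 : act 3 n20469 = n20357 := d23_1 D20469 (iv D20357) (iv F79970)
theorem F80548 : act 4 n20469 = n20349 := d27_1 D20469 (iv D20349) D20348
theorem F80549 : act 7 n20469 = n20455 := d33_2 (iv F79972) D20469 (iv D20455)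
theorem F80550 : act 8 n20469 = n20353 := d34_2 (iv F79973) D20469 (iv D20353)
def n20470 : Q := act 5 n20350
theorem D20470 : act 5 n20350 = n20470 := rfl
theorem F80551 : act 2 n20470 = n20457 := d17_1 D20470 F80476 (iv F79980)
theorem F80552 : act 3 n20470 = n20360 := d22_1 D20470 (iv D20360) (iv F79981)
theorem F80553 : act 4 n20470 = n20468 := d26_1 D20470 (iv D20468) F79965 (iv F79194) (iv F79982)
theorem F80554 : act 6 n20470 = n20470 := d30_2 D20350 D20470 (iv D20470) (iv D20350) F79189
theorem F80555 : act 7 n20470 = n20456 := d31_2 (iv F79983) D20470 (iv D20456)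
theorem F80556 : act 8 n20470 = n20354 := d32_2 (iv F79984) D20470 (iv D20354)
def n20471 : Q := act 6 n20351
theorem D20471 : act 6 n20351 = n20471 := rfl
theorem F80557 : act 0 n20471 = n20380 := d5_1 D20471 (iv D20380) (iv F79985)
theorem F80558 : act 2 n20471 = n20353 := d18_1 D20471 (iv D20353) (iv F79986)
theorem F80559 : act 3 n20471 = n20449 := d23_1 D20471 (iv D20449) (iv F79987)
theorem F80560 : act 4 n20471 = n20352 := d27_1 D20471 (iv D20352) D20351
theorem F80561 : act 7 n20471 = n20385 := d33_2 (iv F79989) D20471 (iv D20385)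
def n20472 : Q := act 5 n20353
theorem D20472 : act 5 n20353 = n20472 := rfl
theorem F80562 : act 0 n20472 = n20381 := d4_1 D20472 (iv D20381) (iv F79995)
theorem F80563 : act 1 n20472 = n20354 := d11_1 D20472 (iv D20354) (iv F79996)
theorem F80564 : act 3 n20472 = n20363 := d22_1 D20472 (iv D20363) (iv F79997)
theorem F80565 : act 4 n20472 = n20424 := d26_1 D20472 F80324 F79677 (iv F79209) (iv F79998)
theorem F80566 : act 6 n20472 = n20472 := d30_2 D20353 D20472 (iv D20472) (iv D20353) F79204
theorem F80567 : act 7 n20472 = n20386 := d31_2 (iv F79999) D20472 (iv D20386)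
def n20473 : Q := act 6 n20355
theorem D20473 : act 6 n20355 = n20473 := rfl
theorem F80568 : act 0 n20473 = n20357 := d5_1 D20473 (iv D20357) (iv F80002)
theorem F80569 : act 1 n20473 = n20371 := d12_1 D20473 (iv D20371) (iv F80003)
theorem F80570 : act 2 n20473 = n20458 := d18_1 D20473 (iv D20458) (iv F80004)
theorem F80571 : act 3 n20473 = n20378 := d23_1 D20473 (iv D20378) (iv F80005)
theorem F80572 : act 4 n20473 = n20356 := d27_1 D20473 (iv D20356) D20355
theorem F80573 : act 8 n20473 = n20362 := d34_2 (iv F80007) D20473 (iv D20362)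
def n20474 : Q := act 5 n20357
theorem D20474 : act 5 n20357 = n20474 := rfl
theorem F80574 : act 1 n20474 = n20360 := d11_1 D20474 (iv D20360) (iv F80014)
theorem F80575 : act 6 n20474 = n20474 := d30_2 D20357 D20474 (iv D20474) (iv D20357) F79226
theorem F80576 : act 8 n20474 = n20363 := d32_2 (iv F80016) D20474 (iv D20363)
def n20475 : Q := act 7 n20357
theorem D20475 : act 7 n20357 = n20475 := rfl
theorem F80577 : act 1 n20475 = n20361 := d13_1 D20475 (iv D20361) (iv F80014)
theorem F80578 : act 4 n20475 = n20359 := d28_1 D20475 (iv D20359) (iv F80015)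
theorem F80579 : act 6 n20475 = n20358 := d33_1 D20475 (iv D20358) D20357
theorem F80580 : act 8 n20475 = n20400 := d35_2 (iv F80016) D20475 (iv D20400) F79515 (iv F79262)
def n20476 : Q := act 7 n20360
theorem D20476 : act 7 n20360 = n20476 := rfl
theorem F80581 : act 0 n20476 = n20408 := d6_1 D20476 (iv F80510) F80506
theorem F80582 : act 2 n20476 = n20413 := d19_1 D20476 (iv F80498) F80494
theorem F80583 : act 4 n20476 = n20431 := d28_1 D20476 (iv F80490) F80488
theorem F80584 : act 5 n20476 = n20361 := d31_1 D20476 (iv D20361) D20360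
theorem F80585 : act 6 n20476 = n20476 := d33_1 D20476 (iv D20476) F80026
theorem F80586 : act 8 n20476 = n20453 := d35_2 (iv F80027) D20476 (iv D20453) F79839 (iv F79264)
def n20477 : Q := act 5 n20362
theorem D20477 : act 5 n20362 = n20477 := rfl
theorem F80587 : act 0 n20477 = n20363 := d4_1 D20477 (iv D20363) (iv F80033)
theorem F80588 : act 1 n20477 = n20372 := d11_1 D20477 (iv D20372) (iv F80034)
theorem F80589 : act 2 n20477 = n20467 := d17_1 D20477 (iv D20467) (iv F80035)
theorem F80590 : act 3 n20477 = n20381 := d22_1 D20477 (iv D20381) (iv F80036)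
theorem F80591 : act 4 n20477 = n20444 := d26_1 D20477 F80415 F79778 (iv F79258) (iv F80037)
theorem F80592 : act 6 n20477 = n20477 := d30_2 D20362 D20477 (iv D20477) (iv D20362) F79252
theorem F80593 : act 7 n20477 = n20395 := d31_2 (iv F80038) D20477 (iv D20395)
def n20478 : Q := act 5 n20365
theorem D20478 : act 5 n20365 = n20478 := rfl
theorem F80594 : act 0 n20478 = n20424 := d4_1 D20478 F80324 (iv F80048)
theorem F80595 : act 1 n20478 = n20366 := d11_1 D20478 (iv D20366) (iv F80049)
theorem F80596 : act 3 n20478 = n20437 := d22_1 D20478 (iv D20437) (iv F80050)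
theorem F80597 : act 4 n20478 = n20381 := d26_1 D20478 (iv D20381) F79365 (iv F79278) (iv F80051)
theorem F80598 : act 6 n20478 = n20478 := d30_2 D20365 D20478 (iv D20478) (iv D20365) F79273
theorem F80599 : act 7 n20478 = n20384 := d31_2 (iv F80052) D20478 (iv D20384)
def n20479 : Q := act 5 n20367
theorem D20479 : act 5 n20367 = n20479 := rfl
theorem F80600 : act 0 n20479 = n20379 := d4_1 D20479 (iv D20379) (iv F80059)
theorem F80601 : act 2 n20479 = n20401 := d17_1 D20479 (iv D20401) (iv F80060)
theorem F80602 : act 4 n20479 = n20452 := d26_1 D20479 (iv D20452) F79834 (iv F79292) (iv F80061)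
theorem F80603 : act 6 n20479 = n20479 := d30_2 D20367 D20479 (iv D20479) (iv D20367) F79287
theorem F80604 : act 8 n20479 = n20368 := d32_2 (iv F80062) D20479 (iv D20368)
def n20480 : Q := act 5 n20369
theorem D20480 : act 5 n20369 = n20480 := rfl
theorem F80605 : act 1 n20480 = n20462 := d11_1 D20480 (iv D20462) (iv F80066)
theorem F80606 : act 2 n20480 = n20372 := d17_1 D20480 (iv D20372) (iv F80067)
theorem F80607 : act 3 n20480 = n20479 := d22_1 D20480 (iv D20479) (iv F80068)
theorem F80608 : act 4 n20480 = n20466 := d26_1 D20480 (iv D20466) F79949 (iv F79304) (iv F80069)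
theorem F80609 : act 6 n20480 = n20480 := d30_2 D20369 D20480 (iv D20480) (iv D20369) F79299
theorem F80610 : act 8 n20480 = n20463 := d32_2 (iv F80070) D20480 (iv D20463)
def n20481 : Q := act 5 n20370
theorem D20481 : act 5 n20370 = n20481 := rfl
theorem F80611 : act 0 n20481 = n20415 := d4_1 D20481 (iv D20415) (iv F80071)
theorem F80612 : act 1 n20481 = n20444 := d11_1 D20481 F80415 (iv F80072)
theorem F80613 : act 2 n20481 = n20466 := d17_1 D20481 (iv D20466) (iv F80073)
theorem F80614 : act 3 n20481 = n20413 := d22_1 D20481 (iv D20413) (iv F80074)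
theorem F80615 : act 4 n20481 = n20372 := d26_1 D20481 (iv D20372) F79328 (iv F79316) (iv F80075)
theorem F80616 : act 6 n20481 = n20481 := d30_2 D20370 D20481 (iv D20481) (iv D20370) F79310
theorem F80617 : act 7 n20481 = n20443 := d31_2 (iv F80076) D20481 (iv D20443)
def n20482 : Q := act 5 n20371
theorem D20482 : act 5 n20371 = n20482 := rfl
theorem F80618 : act 0 n20482 = n20480 := d4_1 D20482 (iv D20480) (iv F80077)
theorem F80619 : act 2 n20482 = n20463 := d17_1 D20482 (iv D20463) (iv F80078)
theorem F80620 : act 3 n20482 = n20379 := d22_1 D20482 (iv D20379) (iv F80079)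
theorem F80621 : act 6 n20482 = n20482 := d30_2 D20371 D20482 (iv D20482) (iv D20371) F79321
theorem F80622 : act 8 n20482 = n20372 := d32_2 (iv F80081) D20482 (iv D20372)
def n20483 : Q := act 7 n20372
theorem D20483 : act 7 n20372 = n20483 := rfl
theorem F80623 : act 0 n20483 = n20437 := d6_1 D20483 (iv F80517) F80512
theorem F80624 : act 1 n20483 = n20395 := d13_1 D20483 (iv F80593) F80588
theorem F80625 : act 3 n20483 = n20424 := d24_1 D20483 (iv D20424) (iv F80043) F80046 (iv F80082)
theorem F80626 : act 4 n20483 = n20443 := d28_1 D20483 (iv F80617) F80615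
theorem F80627 : act 5 n20483 = n20373 := d31_1 D20483 (iv D20373) D20372
theorem F80628 : act 6 n20483 = n20483 := d33_1 D20483 (iv D20483) F80083
def n20484 : Q := act 8 n20373
theorem D20484 : act 8 n20373 = n20484 := rfl
theorem F80629 : act 0 n20484 = n20434 := d7_1 D20484 F80378 (iv F80084)
theorem F80630 : act 1 n20484 = n20392 := d14_1 D20484 F80172 (iv F80085)
theorem F80631 : act 3 n20484 = n20425 := d25_1 D20484 (iv D20425) (iv F80086)
theorem F80632 : act 4 n20484 = n20375 := d29_1 D20484 (iv D20375) (iv F80087)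
theorem F80633 : act 6 n20484 = n20374 := d34_1 D20484 (iv D20374) (iv F80088)
def n20485 : Q := act 6 n20376
theorem D20485 : act 6 n20376 = n20485 := rfl
theorem F80634 : act 1 n20485 = n20385 := d12_1 D20485 (iv D20385) (iv F80099)
theorem F80635 : act 2 n20485 = n20378 := d18_1 D20485 (iv D20378) (iv F80100)
theorem F80636 : act 3 n20485 = n20447 := d23_1 D20485 (iv D20447) (iv F80101)
theorem F80637 : act 4 n20485 = n20377 := d27_1 D20485 (iv D20377) D20376
theorem F80638 : act 8 n20485 = n20380 := d34_2 (iv F80103) D20485 (iv D20380)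
def n20486 : Q := act 5 n20378
theorem D20486 : act 5 n20378 = n20486 := rfl
theorem F80639 : act 1 n20486 = n20379 := d11_1 D20486 (iv D20379) (iv F80109)
theorem F80640 : act 6 n20486 = n20486 := d30_2 D20378 D20486 (iv D20486) (iv D20378) F79348
theorem F80641 : act 8 n20486 = n20381 := d32_2 (iv F80111) D20486 (iv D20381)
def n20487 : Q := act 5 n20380
theorem D20487 : act 5 n20380 = n20487 := rfl
theorem F80642 : act 1 n20487 = n20446 := d11_1 D20487 (iv D20446) (iv F80114)
theorem F80643 : act 2 n20487 = n20381 := d17_1 D20487 (iv D20381) (iv F80115)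
theorem F80644 : act 3 n20487 = n20450 := d22_1 D20487 (iv D20450) (iv F80116)
theorem F80645 : act 6 n20487 = n20487 := d30_2 D20380 D20487 (iv D20487) (iv D20380) F79358
theorem F80646 : act 7 n20487 = n20389 := d31_2 (iv F80118) D20487 (iv D20389)
def n20488 : Q := act 5 n20385
theorem D20488 : act 5 n20385 = n20488 := rfl
theorem F80647 : act 0 n20488 = n20389 := d4_1 D20488 (iv D20389) (iv F80139)
theorem F80648 : act 2 n20488 = n20386 := d17_1 D20488 (iv D20386) (iv F80140)
theorem F80649 : act 3 n20488 = n20448 := d22_1 D20488 (iv D20448) (iv F80141)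
theorem F80650 : act 4 n20488 = n20422 := d26_1 D20488 (iv D20422) F79665 (iv F79415) (iv F80142)
theorem F80651 : act 6 n20488 = n20488 := d30_2 D20385 D20488 (iv D20488) (iv D20385) F79410
theorem F80652 : act 8 n20488 = n20446 := d32_2 (iv F80143) D20488 (iv D20446)
def n20489 : Q := act 5 n20387
theorem D20489 : act 5 n20387 = n20489 := rfl
theorem F80653 : act 0 n20489 = n20448 := d4_1 D20489 (iv D20448) (iv F80148)
theorem F80654 : act 2 n20489 = n20435 := d17_1 D20489 (iv D20435) (iv F80149)
theorem F80655 : act 3 n20489 = n20389 := d22_1 D20489 (iv D20389) (iv F80150)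
theorem F80656 : act 4 n20489 = n20453 := d26_1 D20489 F80450 F79840 (iv F79429) (iv F80151)
theorem F80657 : act 6 n20489 = n20489 := d30_2 D20387 D20489 (iv D20489) (iv D20387) F79423
theorem F80658 : act 7 n20489 = n20416 := d31_2 (iv F80152) D20489 (iv D20416)
theorem F80659 : act 8 n20489 = n20431 := d32_2 (iv F80153) D20489 (iv D20431)
def n20490 : Q := act 5 n20388
theorem D20490 : act 5 n20388 = n20490 := rfl
theorem F80660 : act 1 n20490 = n20389 := d11_1 D20490 (iv D20389) (iv F80154)
theorem F80661 : act 2 n20490 = n20478 := d17_1 D20490 (iv D20478) (iv F80155)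
theorem F80662 : act 4 n20490 = n20487 := d26_1 D20490 (iv D20487) F80117 (iv F79443) (iv F80156)
theorem F80663 : act 6 n20490 = n20490 := d30_2 D20388 D20490 (iv D20490) (iv D20388) F79438
theorem F80664 : act 7 n20490 = n20446 := d31_2 (iv F80157) D20490 (iv D20446)
def n20491 : Q := act 5 n20392
theorem D20491 : act 5 n20392 = n20491 := rfl
theorem F80665 : act 0 n20491 = n20399 := d4_1 D20491 (iv D20399) (iv F80168)
theorem F80666 : act 2 n20491 = n20464 := d17_1 D20491 (iv D20464) (iv F80169)
theorem F80667 : act 3 n20491 = n20468 := d22_1 D20491 (iv D20468) (iv F80170)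
theorem F80668 : act 4 n20491 = n20441 := d26_1 D20491 (iv D20441) F79765 (iv F79474) (iv F80171)
theorem F80669 : act 6 n20491 = n20491 := d30_2 D20392 D20491 (iv D20491) (iv D20392) F79469
theorem F80670 : act 8 n20491 = n20395 := d32_2 (iv F80172) D20491 (iv D20395)
def n20492 : Q := act 7 n20392
theorem D20492 : act 7 n20392 = n20492 := rfl
theorem F80671 : act 0 n20492 = n20400 := d6_1 D20492 (iv D20400) (iv F80168)
theorem F80672 : act 2 n20492 = n20465 := d19_1 D20492 (iv D20465) (iv F80169)
theorem F80673 : act 3 n20492 = n20436 := d24_1 D20492 F80385 F80079 (iv F79966) (iv F80170)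
theorem F80674 : act 4 n20492 = n20394 := d28_1 D20492 (iv D20394) (iv F80171)
theorem F80675 : act 6 n20492 = n20393 := d33_1 D20492 (iv D20393) D20392
def n20493 : Q := act 5 n20396
theorem D20493 : act 5 n20396 = n20493 := rfl
theorem F80676 : act 0 n20493 = n20470 := d4_1 D20493 (iv D20470) (iv F80187)
theorem F80677 : act 1 n20493 = n20479 := d11_1 D20493 (iv D20479) (iv F80188)
theorem F80678 : act 2 n20493 = n20398 := d17_1 D20493 (iv D20398) (iv F80189)
theorem F80679 : act 3 n20493 = n20462 := d22_1 D20493 (iv D20462) (iv F80190)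
theorem F80680 : act 6 n20493 = n20493 := d30_2 D20396 D20493 (iv D20493) (iv D20396) F79487
theorem F80681 : act 7 n20493 = n20452 := d31_2 (iv F80192) D20493 (iv D20452)
theorem F80682 : act 8 n20493 = n20461 := d32_2 (iv F80193) D20493 (iv D20461)
def n20494 : Q := act 5 n20397
theorem D20494 : act 5 n20397 = n20494 := rfl
theorem F80683 : act 0 n20494 = n20468 := d4_1 D20494 (iv D20468) (iv F80194)
theorem F80684 : act 1 n20494 = n20452 := d11_1 D20494 (iv D20452) (iv F80195)
theorem F80685 : act 2 n20494 = n20461 := d17_1 D20494 (iv D20461) (iv F80196)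
theorem F80686 : act 3 n20494 = n20399 := d22_1 D20494 (iv D20399) (iv F80197)
theorem F80687 : act 4 n20494 = n20493 := d26_1 D20494 (iv D20493) F80191 (iv F79507) (iv F80198)
theorem F80688 : act 6 n20494 = n20494 := d30_2 D20397 D20494 (iv D20494) (iv D20397) F79500
theorem F80689 : act 7 n20494 = n20479 := d31_2 (iv F80199) D20494 (iv D20479)
theorem F80690 : act 8 n20494 = n20398 := d32_2 (iv F80200) D20494 (iv D20398)
def n20495 : Q := act 7 n20399
theorem D20495 : act 7 n20399 = n20495 := rfl
theorem F80691 : act 1 n20495 = n20453 := d13_1 D20495 (iv D20453) (iv F80204)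
theorem F80692 : act 5 n20495 = n20400 := d31_1 D20495 (iv D20400) D20399
theorem F80693 : act 6 n20495 = n20495 := d33_1 D20495 (iv D20495) F80205
def n20496 : Q := act 6 n20404
theorem D20496 : act 6 n20404 = n20496 := rfl
theorem F80694 : act 1 n20496 = n20406 := d12_1 D20496 (iv D20406) (iv F80228)
theorem F80695 : act 2 n20496 = n20484 := d18_1 D20496 F80633 (iv F80229)
theorem F80696 : act 3 n20496 = n20475 := d23_1 D20496 F80579 (iv F80230)
theorem F80697 : act 4 n20496 = n20405 := d27_1 D20496 (iv D20405) D20404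
theorem F80698 : act 7 n20496 = n20434 := d33_2 (iv F80232) D20496 (iv D20434)
theorem F80699 : act 8 n20496 = n20407 := d34_2 (iv F80233) D20496 (iv D20407)
def n20497 : Q := act 5 n20406
theorem D20497 : act 5 n20406 = n20497 := rfl
theorem F80700 : act 0 n20497 = n20453 := d4_1 D20497 F80450 (iv F80240)
theorem F80701 : act 2 n20497 = n20416 := d17_1 D20497 (iv D20416) (iv F80241)
theorem F80702 : act 3 n20497 = n20476 := d22_1 D20497 F80584 (iv F80242)
theorem F80703 : act 4 n20497 = n20448 := d26_1 D20497 (iv D20448) F79811 (iv F79562) (iv F80243)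
theorem F80704 : act 6 n20497 = n20497 := d30_2 D20406 D20497 (iv D20497) (iv D20406) F79556
theorem F80705 : act 7 n20497 = n20435 := d31_2 (iv F80244) D20497 (iv D20435)
theorem F80706 : act 8 n20497 = n20408 := d32_2 (iv F80245) D20497 (iv D20408)
def n20498 : Q := act 5 n20407
theorem D20498 : act 5 n20407 = n20498 := rfl
theorem F80707 : act 1 n20498 = n20408 := d11_1 D20498 (iv D20408) (iv F80246)
theorem F80708 : act 2 n20498 = n20483 := d17_1 D20498 F80627 (iv F80247)
theorem F80709 : act 3 n20498 = n20495 := d22_1 D20498 F80692 (iv F80248)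
theorem F80710 : act 4 n20498 = n20450 := d26_1 D20498 (iv D20450) F79824 (iv F79577) (iv F80249)
theorem F80711 : act 6 n20498 = n20498 := d30_2 D20407 D20498 (iv D20498) (iv D20407) F79572
theorem F80712 : act 7 n20498 = n20480 := d31_2 (iv F80250) D20498 (iv D20480)
def n20499 : Q := act 6 n20409
theorem D20499 : act 6 n20409 = n20499 := rfl
theorem F80713 : act 0 n20499 = n20438 := d5_1 D20499 (iv D20438) (iv F80254)
theorem F80714 : act 1 n20499 = n20411 := d12_1 D20499 (iv D20411) (iv F80255)
theorem F80715 : act 3 n20499 = n20445 := d23_1 D20499 F80420 (iv F80256)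
theorem F80716 : act 4 n20499 = n20410 := d27_1 D20499 (iv D20410) D20409
theorem F80717 : act 7 n20499 = n20447 := d33_2 (iv F80258) D20499 (iv D20447)
theorem F80718 : act 8 n20499 = n20412 := d34_2 (iv F80259) D20499 (iv D20412)
def n20500 : Q := act 5 n20411
theorem D20500 : act 5 n20411 = n20500 := rfl
theorem F80719 : act 0 n20500 = n20416 := d4_1 D20500 (iv D20416) (iv F80266)
theorem F80720 : act 2 n20500 = n20453 := d17_1 D20500 F80450 (iv F80267)
theorem F80721 : act 4 n20500 = n20435 := d26_1 D20500 (iv D20435) F79738 (iv F79611) (iv F80268)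
theorem F80722 : act 6 n20500 = n20500 := d30_2 D20411 D20500 (iv D20500) (iv D20411) F79605
theorem F80723 : act 7 n20500 = n20448 := d31_2 (iv F80269) D20500 (iv D20448)
theorem F80724 : act 8 n20500 = n20413 := d32_2 (iv F80270) D20500 (iv D20413)
def n20501 : Q := act 5 n20412
theorem D20501 : act 5 n20412 = n20501 := rfl
theorem F80725 : act 0 n20501 = n20443 := d4_1 D20501 (iv D20443) (iv F80271)
theorem F80726 : act 1 n20501 = n20413 := d11_1 D20501 (iv D20413) (iv F80272)
theorem F80727 : act 3 n20501 = n20444 := d22_1 D20501 F80415 (iv F80273)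
theorem F80728 : act 4 n20501 = n20437 := d26_1 D20501 (iv D20437) F79749 (iv F79622) (iv F80274)
theorem F80729 : act 6 n20501 = n20501 := d30_2 D20412 D20501 (iv D20501) (iv D20412) F79617
theorem F80730 : act 7 n20501 = n20415 := d31_2 (iv F80275) D20501 (iv D20415)
def n20502 : Q := act 5 n20414
theorem D20502 : act 5 n20414 = n20502 := rfl
theorem F80731 : act 0 n20502 = n20466 := d4_1 D20502 (iv D20466) (iv F80279)
theorem F80732 : act 2 n20502 = n20415 := d17_1 D20502 (iv D20415) (iv F80280)
theorem F80733 : act 3 n20502 = n20500 := d22_1 D20502 (iv D20500) (iv F80281)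
theorem F80734 : act 4 n20502 = n20482 := d26_1 D20502 (iv D20482) F80080 (iv F79634) (iv F80282)
theorem F80735 : act 6 n20502 = n20502 := d30_2 D20414 D20502 (iv D20502) (iv D20414) F79629
theorem F80736 : act 8 n20502 = n20481 := d32_2 (iv F80283) D20502 (iv D20481)
def n20503 : Q := act 6 n20417
theorem D20503 : act 6 n20417 = n20503 := rfl
theorem F80737 : act 0 n20503 = n20419 := d5_1 D20503 (iv D20419) (iv F80289)
theorem F80738 : act 1 n20503 = n20471 := d12_1 D20503 (iv D20471) (iv F80290)
theorem F80739 : act 2 n20503 = n20425 := d18_1 D20503 F80328 (iv F80291)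
theorem F80740 : act 4 n20503 = n20418 := d27_1 D20503 (iv D20418) D20417
theorem F80741 : act 7 n20503 = n20485 := d33_2 (iv F80293) D20503 (iv D20485)
theorem F80742 : act 8 n20503 = n20423 := d34_2 (iv F80294) D20503 F80323
def n20504 : Q := act 5 n20419
theorem D20504 : act 5 n20419 = n20504 := rfl
theorem F80743 : act 1 n20504 = n20422 := d11_1 D20504 (iv D20422) (iv F80301)
theorem F80744 : act 6 n20504 = n20504 := d30_2 D20419 D20504 (iv D20504) (iv D20419) F79653
theorem F80745 : act 8 n20504 = n20490 := d32_2 (iv F80303) D20504 (iv D20490)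
def n20505 : Q := act 7 n20419
theorem D20505 : act 7 n20419 = n20505 := rfl
theorem F80746 : act 0 n20505 = n20485 := d6_1 D20505 (iv F80741) F80737
theorem F80747 : act 1 n20505 = n20423 := d13_1 D20505 (iv D20423) (iv F80301)
theorem F80748 : act 2 n20505 = n20469 := d19_1 D20505 F80549 F80463
theorem F80749 : act 4 n20505 = n20421 := d28_1 D20505 (iv D20421) (iv F80302)
theorem F80750 : act 6 n20505 = n20420 := d33_1 D20505 (iv D20420) D20419
theorem F80751 : act 8 n20505 = n20471 := d35_2 (iv F80303) D20505 F80561 F80143 (iv F80157)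
def n20506 : Q := act 7 n20422
theorem D20506 : act 7 n20422 = n20506 := rfl
theorem F80752 : act 0 n20506 = n20490 := d6_1 D20506 F80664 F80421
theorem F80753 : act 2 n20506 = n20424 := d19_1 D20506 (iv D20424) (iv F80317)
theorem F80754 : act 5 n20506 = n20423 := d31_1 D20506 (iv D20423) D20422
theorem F80755 : act 6 n20506 = n20506 := d33_1 D20506 (iv D20506) F80318
def n20507 : Q := act 8 n20424
theorem D20507 : act 8 n20424 = n20507 := rfl
theorem F80756 : act 1 n20507 = n20468 := d14_1 D20507 F80544 F80474
theorem F80757 : act 5 n20507 = n20425 := d32_1 D20507 (iv D20425) (iv F80324)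
theorem F80758 : act 6 n20507 = n20507 := d34_1 D20507 (iv D20507) F80325
theorem F80759 : act 7 n20507 = n20486 := d35_1 D20507 F80641 F80121 (iv F79676) D20424
def n20508 : Q := act 6 n20426
theorem D20508 : act 6 n20426 = n20508 := rfl
theorem F80760 : act 0 n20508 = n20430 := d5_1 D20508 (iv D20430) (iv F80330)
theorem F80761 : act 1 n20508 = n20449 := d12_1 D20508 (iv D20449) (iv F80331)
theorem F80762 : act 2 n20508 = n20475 := d18_1 D20508 F80579 (iv F80332)
theorem F80763 : act 3 n20508 = n20503 := d23_1 D20508 (iv D20503) (iv F80333)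
theorem F80764 : act 4 n20508 = n20427 := d27_1 D20508 (iv D20427) D20426
theorem F80765 : act 7 n20508 = n20445 := d33_2 (iv F80335) D20508 F80420
theorem F80766 : act 8 n20508 = n20442 := d34_2 (iv F80336) D20508 F80411
def n20509 : Q := act 6 n20428
theorem D20509 : act 6 n20428 = n20509 := rfl
theorem F80767 : act 0 n20509 = n20475 := d5_1 D20509 F80579 (iv F80343)
theorem F80768 : act 1 n20509 = n20436 := d12_1 D20509 (iv D20436) (iv F80344)
theorem F80769 : act 2 n20509 = n20430 := d18_1 D20509 (iv D20430) (iv F80345)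
theorem F80770 : act 4 n20509 = n20429 := d27_1 D20509 (iv D20429) D20428
theorem F80771 : act 7 n20509 = n20473 := d33_2 (iv F80347) D20509 (iv D20473)
theorem F80772 : act 8 n20509 = n20492 := d34_2 (iv F80348) D20509 F80675
def n20510 : Q := act 5 n20430
theorem D20510 : act 5 n20430 = n20510 := rfl
theorem F80773 : act 1 n20510 = n20431 := d11_1 D20510 (iv D20431) (iv F80356)
theorem F80774 : act 3 n20510 = n20504 := d22_1 D20510 (iv D20504) (iv F80357)
theorem F80775 : act 6 n20510 = n20510 := d30_2 D20430 D20510 (iv D20510) (iv D20430) F79705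
def n20511 : Q := act 6 n20432
theorem D20511 : act 6 n20432 = n20511 := rfl
theorem F80776 : act 0 n20511 = n20496 := d5_1 D20511 (iv D20496) (iv F80363)
theorem F80777 : act 1 n20511 = n20492 := d12_1 D20511 F80675 (iv F80364)
theorem F80778 : act 2 n20511 = n20434 := d18_1 D20511 (iv D20434) (iv F80365)
theorem F80779 : act 3 n20511 = n20509 := d23_1 D20511 (iv D20509) (iv F80366)
theorem F80780 : act 4 n20511 = n20433 := d27_1 D20511 (iv D20433) D20432
theorem F80781 : act 7 n20511 = n20484 := d33_2 (iv F80368) D20511 F80633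
theorem F80782 : act 8 n20511 = n20436 := d34_2 (iv F80369) D20511 (iv D20436)
def n20512 : Q := act 5 n20434
theorem D20512 : act 5 n20434 = n20512 := rfl
theorem F80783 : act 1 n20512 = n20435 := d11_1 D20512 (iv D20435) (iv F80376)
theorem F80784 : act 6 n20512 = n20512 := d30_2 D20434 D20512 (iv D20512) (iv D20434) F79732
theorem F80785 : act 8 n20512 = n20437 := d32_2 (iv F80378) D20512 (iv D20437)
def n20513 : Q := act 5 n20436
theorem D20513 : act 5 n20436 = n20513 := rfl
theorem F80786 : act 0 n20513 = n20498 := d4_1 D20513 (iv D20498) (iv F80382)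
theorem F80787 : act 2 n20513 = n20437 := d17_1 D20513 (iv D20437) (iv F80383)
theorem F80788 : act 6 n20513 = n20513 := d30_2 D20436 D20513 (iv D20513) (iv D20436) F79742
theorem F80789 : act 7 n20513 = n20482 := d31_2 (iv F80385) D20513 (iv D20482)
def n20514 : Q := act 5 n20438
theorem D20514 : act 5 n20438 = n20514 := rfl
theorem F80790 : act 1 n20514 = n20441 := d11_1 D20514 (iv D20441) (iv F80388)
theorem F80791 : act 6 n20514 = n20514 := d30_2 D20438 D20514 (iv D20514) (iv D20438) F79753
theorem F80792 : act 8 n20514 = n20443 := d32_2 (iv F80390) D20514 (iv D20443)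
def n20515 : Q := act 7 n20438
theorem D20515 : act 7 n20438 = n20515 := rfl
theorem F80793 : act 0 n20515 = n20447 := d6_1 D20515 (iv F80717) F80713
theorem F80794 : act 1 n20515 = n20442 := d13_1 D20515 (iv D20442) (iv F80388)
theorem F80795 : act 2 n20515 = n20499 := d19_1 D20515 F80717 F80427
theorem F80796 : act 3 n20515 = n20505 := d24_1 D20515 (iv D20505) (iv F80357) (iv F80483) F80481
theorem F80797 : act 4 n20515 = n20440 := d28_1 D20515 (iv D20440) (iv F80389)
theorem F80798 : act 6 n20515 = n20439 := d33_1 D20515 (iv D20439) D20438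
theorem F80799 : act 8 n20515 = n20449 := d35_2 (iv F80390) D20515 F80436 F80283 F80076
def n20516 : Q := act 7 n20441
theorem D20516 : act 7 n20441 = n20516 := rfl
theorem F80800 : act 2 n20516 = n20495 := d19_1 D20516 (iv D20495) (iv F80405)
theorem F80801 : act 3 n20516 = n20506 := d24_1 D20516 (iv D20506) (iv F80361) (iv F80490) F80487
theorem F80802 : act 5 n20516 = n20442 := d31_1 D20516 (iv D20442) D20441
theorem F80803 : act 6 n20516 = n20516 := d33_1 D20516 (iv D20516) F80406
def n20517 : Q := act 8 n20444
theorem D20517 : act 8 n20444 = n20517 := rfl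
theorem F80804 : act 1 n20517 = n20502 := d14_1 D20517 F80736 F80612
theorem F80805 : act 2 n20517 = n20474 := d20_1 D20517 F80576 (iv F80414)
theorem F80806 : act 5 n20517 = n20445 := d32_1 D20517 (iv D20445) (iv F80415)
theorem F80807 : act 6 n20517 = n20517 := d34_1 D20517 (iv D20517) F80416
def n20518 : Q := act 5 n20447
theorem D20518 : act 5 n20447 = n20518 := rfl
theorem F80808 : act 1 n20518 = n20448 := d11_1 D20518 (iv D20448) (iv F80426)
theorem F80809 : act 2 n20518 = n20514 := d17_1 D20518 (iv D20514) (iv F80427)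
theorem F80810 : act 6 n20518 = n20518 := d30_2 D20447 D20518 (iv D20518) (iv D20447) F79804
theorem F80811 : act 8 n20518 = n20450 := d32_2 (iv F80429) D20518 (iv D20450)
def n20519 : Q := act 5 n20449
theorem D20519 : act 5 n20449 = n20519 := rfl
theorem F80812 : act 0 n20519 = n20450 := d4_1 D20519 (iv D20450) (iv F80433)
theorem F80813 : act 2 n20519 = n20501 := d17_1 D20519 (iv D20501) (iv F80434)
theorem F80814 : act 4 n20519 = n20513 := d26_1 D20519 (iv D20513) F80384 (iv F79820) (iv F80435)
theorem F80815 : act 6 n20519 = n20519 := d30_2 D20449 D20519 (iv D20519) (iv D20449) F79815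
theorem F80816 : act 7 n20519 = n20502 := d31_2 (iv F80436) D20519 (iv D20502)
def n20520 : Q := act 5 n20455
theorem D20520 : act 5 n20455 = n20520 := rfl
theorem F80817 : act 0 n20520 = n20507 := d4_1 D20520 F80757 (iv F80461)
theorem F80818 : act 1 n20520 = n20456 := d11_1 D20520 (iv D20456) (iv F80462)
theorem F80819 : act 2 n20520 = n20504 := d17_1 D20520 (iv D20504) (iv F80463)
theorem F80820 : act 3 n20520 = n20512 := d22_1 D20520 (iv D20512) (iv F80464)
theorem F80821 : act 4 n20520 = n20486 := d26_1 D20520 (iv D20486) F80110 (iv F79864) (iv F80465)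
theorem F80822 : act 6 n20520 = n20520 := d30_2 D20455 D20520 (iv D20520) (iv D20455) F79858
theorem F80823 : act 8 n20520 = n20478 := d32_2 (iv F80466) D20520 (iv D20478)
def n20521 : Q := act 5 n20458
theorem D20521 : act 5 n20458 = n20521 := rfl
theorem F80824 : act 0 n20521 = n20517 := d4_1 D20521 F80806 (iv F80479)
theorem F80825 : act 1 n20521 = n20459 := d11_1 D20521 (iv D20459) (iv F80480)
theorem F80826 : act 3 n20521 = n20514 := d22_1 D20521 (iv D20514) (iv F80481)
theorem F80827 : act 4 n20521 = n20474 := d26_1 D20521 (iv D20474) F80015 (iv F79888) (iv F80482)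
theorem F80828 : act 6 n20521 = n20521 := d30_2 D20458 D20521 (iv D20521) (iv D20458) F79882
theorem F80829 : act 7 n20521 = n20510 := d31_2 (iv F80483) D20521 (iv D20510)
theorem F80830 : act 8 n20521 = n20467 := d32_2 (iv F80484) D20521 (iv D20467)
def n20522 : Q := act 7 n20464
theorem D20522 : act 7 n20464 = n20522 := rfl
theorem F80831 : act 0 n20522 = n20516 := d6_1 D20522 (iv D20516) (iv F80518)
theorem F80832 : act 1 n20522 = n20489 := d13_1 D20522 F80658 (iv F80519)
theorem F80833 : act 3 n20522 = n20490 := d24_1 D20522 F80664 F80423 (iv F79954) (iv F80520)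
theorem F80834 : act 4 n20522 = n20495 := d28_1 D20522 (iv D20495) (iv F80521)
theorem F80835 : act 5 n20522 = n20465 := d31_1 D20522 (iv D20465) D20464
theorem F80836 : act 6 n20522 = n20522 := d33_1 D20522 (iv D20522) F80522
theorem F80837 : act 8 n20522 = n20510 := d35_2 (iv F80523) D20522 (iv F80829) F80830 F80540
def n20523 : Q := act 5 n20469
theorem D20523 : act 5 n20469 = n20523 := rfl
theorem F80838 : act 0 n20523 = n20486 := d4_1 D20523 (iv D20486) (iv F80545)
theorem F80839 : act 1 n20523 = n20470 := d11_1 D20523 (iv D20470) (iv F80546)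
theorem F80840 : act 3 n20523 = n20474 := d22_1 D20523 (iv D20474) (iv F80547)
theorem F80841 : act 4 n20523 = n20507 := d26_1 D20523 F80757 F80327 (iv F79977) (iv F80548)
theorem F80842 : act 6 n20523 = n20523 := d30_2 D20469 D20523 (iv D20523) (iv D20469) F79971
theorem F80843 : act 7 n20523 = n20520 := d31_2 (iv F80549) D20523 (iv D20520)
theorem F80844 : act 8 n20523 = n20472 := d32_2 (iv F80550) D20523 (iv D20472)
def n20524 : Q := act 5 n20471
theorem D20524 : act 5 n20471 = n20524 := rfl
theorem F80845 : act 0 n20524 = n20487 := d4_1 D20524 (iv D20487) (iv F80557)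
theorem F80846 : act 2 n20524 = n20472 := d17_1 D20524 (iv D20472) (iv F80558)
theorem F80847 : act 3 n20524 = n20519 := d22_1 D20524 (iv D20519) (iv F80559)
theorem F80848 : act 4 n20524 = n20506 := d26_1 D20524 F80754 F80322 (iv F79993) (iv F80560)
theorem F80849 : act 6 n20524 = n20524 := d30_2 D20471 D20524 (iv D20524) (iv D20471) F79988
theorem F80850 : act 7 n20524 = n20488 := d31_2 (iv F80561) D20524 (iv D20488)
def n20525 : Q := act 5 n20473
theorem D20525 : act 5 n20473 = n20525 := rfl
theorem F80851 : act 0 n20525 = n20474 := d4_1 D20525 (iv D20474) (iv F80568)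
theorem F80852 : act 1 n20525 = n20482 := d11_1 D20525 (iv D20482) (iv F80569)
theorem F80853 : act 2 n20525 = n20521 := d17_1 D20525 (iv D20521) (iv F80570)
theorem F80854 : act 3 n20525 = n20486 := d22_1 D20525 (iv D20486) (iv F80571)
theorem F80855 : act 4 n20525 = n20517 := d26_1 D20525 F80806 F80419 (iv F80012) (iv F80572)
theorem F80856 : act 6 n20525 = n20525 := d30_2 D20473 D20525 (iv D20525) (iv D20473) F80006
theorem F80857 : act 8 n20525 = n20477 := d32_2 (iv F80573) D20525 (iv D20477)
def n20526 : Q := act 7 n20474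
theorem D20526 : act 7 n20474 = n20526 := rfl
theorem F80858 : act 1 n20526 = n20476 := d13_1 D20526 (iv D20476) (iv F80574)
theorem F80859 : act 4 n20526 = n20510 := d28_1 D20526 (iv F80829) F80827
theorem F80860 : act 5 n20526 = n20475 := d31_1 D20526 (iv D20475) D20474
theorem F80861 : act 6 n20526 = n20526 := d33_1 D20526 (iv D20526) F80575
theorem F80862 : act 8 n20526 = n20495 := d35_2 (iv F80576) D20526 (iv D20495) F80206 (iv F80041)
def n20527 : Q := act 8 n20483
theorem D20527 : act 8 n20483 = n20527 := rfl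
theorem F80863 : act 0 n20527 = n20512 := d7_1 D20527 F80785 (iv F80623)
theorem F80864 : act 1 n20527 = n20491 := d14_1 D20527 F80670 (iv F80624)
theorem F80865 : act 3 n20527 = n20507 := d25_1 D20527 (iv D20507) (iv F80625)
theorem F80866 : act 4 n20527 = n20514 := d29_1 D20527 F80792 (iv F80626)
theorem F80867 : act 5 n20527 = n20484 := d32_1 D20527 (iv D20484) (iv F80627)
theorem F80868 : act 6 n20527 = n20527 := d34_1 D20527 (iv D20527) F80628
def n20528 : Q := act 5 n20485
theorem D20528 : act 5 n20485 = n20528 := rfl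
theorem F80869 : act 1 n20528 = n20488 := d11_1 D20528 (iv D20488) (iv F80634)
theorem F80870 : act 2 n20528 = n20486 := d17_1 D20528 (iv D20486) (iv F80635)
theorem F80871 : act 3 n20528 = n20518 := d22_1 D20528 (iv D20518) (iv F80636)
theorem F80872 : act 4 n20528 = n20504 := d26_1 D20528 (iv D20504) F80302 (iv F80107) (iv F80637)
theorem F80873 : act 6 n20528 = n20528 := d30_2 D20485 D20528 (iv D20528) (iv D20485) F80102
theorem F80874 : act 8 n20528 = n20487 := d32_2 (iv F80638) D20528 (iv D20487)
def n20529 : Q := act 7 n20491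
theorem D20529 : act 7 n20491 = n20529 := rfl
theorem F80875 : act 0 n20529 = n20495 := d6_1 D20529 (iv D20495) (iv F80665)
theorem F80876 : act 2 n20529 = n20522 := d19_1 D20529 (iv D20522) (iv F80666)
theorem F80877 : act 3 n20529 = n20513 := d24_1 D20529 F80789 F80620 (iv F80543) (iv F80667)
theorem F80878 : act 4 n20529 = n20516 := d28_1 D20529 (iv D20516) (iv F80668)
theorem F80879 : act 5 n20529 = n20492 := d31_1 D20529 (iv D20492) D20491
theorem F80880 : act 6 n20529 = n20529 := d33_1 D20529 (iv D20529) F80669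
def n20530 : Q := act 5 n20496
theorem D20530 : act 5 n20496 = n20530 := rfl
theorem F80881 : act 1 n20530 = n20497 := d11_1 D20530 (iv D20497) (iv F80694)
theorem F80882 : act 2 n20530 = n20527 := d17_1 D20530 F80867 (iv F80695)
theorem F80883 : act 3 n20530 = n20526 := d22_1 D20530 F80860 (iv F80696)
theorem F80884 : act 4 n20530 = n20518 := d26_1 D20530 (iv D20518) F80428 (iv F80237) (iv F80697)
theorem F80885 : act 6 n20530 = n20530 := d30_2 D20496 D20530 (iv D20530) (iv D20496) F80231
theorem F80886 : act 7 n20530 = n20512 := d31_2 (iv F80698) D20530 (iv D20512)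
theorem F80887 : act 8 n20530 = n20498 := d32_2 (iv F80699) D20530 (iv D20498)
def n20531 : Q := act 5 n20499
theorem D20531 : act 5 n20499 = n20531 := rfl
theorem F80888 : act 0 n20531 = n20514 := d4_1 D20531 (iv D20514) (iv F80713)
theorem F80889 : act 1 n20531 = n20500 := d11_1 D20531 (iv D20500) (iv F80714)
theorem F80890 : act 3 n20531 = n20517 := d22_1 D20531 F80806 (iv F80715)
theorem F80891 : act 4 n20531 = n20512 := d26_1 D20531 (iv D20512) F80377 (iv F80263) (iv F80716)
theorem F80892 : act 6 n20531 = n20531 := d30_2 D20499 D20531 (iv D20531) (iv D20499) F80257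
theorem F80893 : act 7 n20531 = n20518 := d31_2 (iv F80717) D20531 (iv D20518)
theorem F80894 : act 8 n20531 = n20501 := d32_2 (iv F80718) D20531 (iv D20501)
def n20532 : Q := act 5 n20503
theorem D20532 : act 5 n20503 = n20532 := rfl
theorem F80895 : act 0 n20532 = n20504 := d4_1 D20532 (iv D20504) (iv F80737)
theorem F80896 : act 1 n20532 = n20524 := d11_1 D20532 (iv D20524) (iv F80738)
theorem F80897 : act 2 n20532 = n20507 := d17_1 D20532 F80757 (iv F80739)
theorem F80898 : act 6 n20532 = n20532 := d30_2 D20503 D20532 (iv D20532) (iv D20503) F80292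
theorem F80899 : act 7 n20532 = n20528 := d31_2 (iv F80741) D20532 (iv D20528)
theorem F80900 : act 8 n20532 = n20506 := d32_2 (iv F80742) D20532 F80754
def n20533 : Q := act 7 n20504
theorem D20533 : act 7 n20504 = n20533 := rfl
theorem F80901 : act 0 n20533 = n20528 := d6_1 D20533 (iv F80899) F80895
theorem F80902 : act 1 n20533 = n20506 := d13_1 D20533 (iv D20506) (iv F80743)
theorem F80903 : act 2 n20533 = n20523 := d19_1 D20533 F80843 F80819
theorem F80904 : act 4 n20533 = n20532 := d28_1 D20533 F80899 F80872
theorem F80905 : act 5 n20533 = n20505 := d31_1 D20533 (iv D20505) D20504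
theorem F80906 : act 6 n20533 = n20533 := d33_1 D20533 (iv D20533) F80744
theorem F80907 : act 8 n20533 = n20524 := d35_2 (iv F80745) D20533 F80850 F80652 (iv F80664)
def n20534 : Q := act 5 n20508
theorem D20534 : act 5 n20508 = n20534 := rfl
theorem F80908 : act 0 n20534 = n20510 := d4_1 D20534 (iv D20510) (iv F80760)
theorem F80909 : act 1 n20534 = n20519 := d11_1 D20534 (iv D20519) (iv F80761)
theorem F80910 : act 2 n20534 = n20526 := d17_1 D20534 F80860 (iv F80762)
theorem F80911 : act 3 n20534 = n20532 := d22_1 D20534 (iv D20532) (iv F80763)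
theorem F80912 : act 6 n20534 = n20534 := d30_2 D20508 D20534 (iv D20534) (iv D20508) F80334
theorem F80913 : act 7 n20534 = n20517 := d31_2 (iv F80765) D20534 F80806
theorem F80914 : act 8 n20534 = n20516 := d32_2 (iv F80766) D20534 F80802
def n20535 : Q := act 5 n20509
theorem D20535 : act 5 n20509 = n20535 := rfl
theorem F80915 : act 0 n20535 = n20526 := d4_1 D20535 F80860 (iv F80767)
theorem F80916 : act 1 n20535 = n20513 := d11_1 D20535 (iv D20513) (iv F80768)
theorem F80917 : act 2 n20535 = n20510 := d17_1 D20535 (iv D20510) (iv F80769)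
theorem F80918 : act 4 n20535 = n20534 := d26_1 D20535 (iv D20534) F80764 (iv F80353) (iv F80770)
theorem F80919 : act 6 n20535 = n20535 := d30_2 D20509 D20535 (iv D20535) (iv D20509) F80346
theorem F80920 : act 7 n20535 = n20525 := d31_2 (iv F80771) D20535 (iv D20525)
theorem F80921 : act 8 n20535 = n20529 := d32_2 (iv F80772) D20535 F80879
def n20536 : Q := act 5 n20511
theorem D20536 : act 5 n20511 = n20536 := rfl
theorem F80922 : act 0 n20536 = n20530 := d4_1 D20536 (iv D20530) (iv F80776)
theorem F80923 : act 1 n20536 = n20529 := d11_1 D20536 F80879 (iv F80777)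
theorem F80924 : act 2 n20536 = n20512 := d17_1 D20536 (iv D20512) (iv F80778)
theorem F80925 : act 3 n20536 = n20535 := d22_1 D20536 (iv D20535) (iv F80779)
theorem F80926 : act 6 n20536 = n20536 := d30_2 D20511 D20536 (iv D20536) (iv D20511) F80367
theorem F80927 : act 7 n20536 = n20527 := d31_2 (iv F80781) D20536 F80867
theorem F80928 : act 8 n20536 = n20513 := d32_2 (iv F80782) D20536 (iv D20513)
def n20537 : Q := act 7 n20514
theorem D20537 : act 7 n20514 = n20537 := rfl
theorem F80929 : act 0 n20537 = n20518 := d6_1 D20537 (iv F80893) F80888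
theorem F80930 : act 1 n20537 = n20516 := d13_1 D20537 (iv D20516) (iv F80790)
theorem F80931 : act 2 n20537 = n20531 := d19_1 D20537 F80893 F80809
theorem F80932 : act 3 n20537 = n20533 := d24_1 D20537 (iv D20533) (iv F80774) (iv F80829) F80826
theorem F80933 : act 4 n20537 = n20536 := d28_1 D20537 F80927 F80866
theorem F80934 : act 5 n20537 = n20515 := d31_1 D20537 (iv D20515) D20514
theorem F80935 : act 6 n20537 = n20537 := d33_1 D20537 (iv D20537) F80791
theorem F80936 : act 8 n20537 = n20519 := d35_2 (iv F80792) D20537 F80816 F80736 F80617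

end Cfsg.Agent.Helper17.FiR1TC
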