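import Cfsg.Agent.Helper17.FiR1TC.Fin2

set_option autoImplicit false
set_option linter.all false
set_option maxRecDepth 100000

noncomputable section

namespace Cfsg.Agent.Helper17.FiR1TC

theorem Q5922 : ∀ i, i < 5922 → P i := stepQ 5921 Q5921 (allL N5921 (tt N5922 (iv F48632)) (tt N5344 F48626) (tt N4958 F48627) (tt N5921 F48628) (tt N5203 F48629) (tt N4960 F48630) (tt N5921 F48631) (tt N6857 (iv F52336)) (tt N4956 (iv D12379)))
theorem Q5923 : ∀ i, i < 5923 → P i := stepQ 5922 Q5922 (allL N5922 (tt N5921 F48632) (tt N5397 F48633) (tt N5203 F48634) (tt N5922 F48635) (tt N4958 F48636) (tt N5041 F48637) (tt N5922 F48638) (tt N5850 (iv F48639)) (tt N4957 (iv D12380)))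
theorem Q5924 : ∀ i, i < 5924 → P i := stepQ 5923 Q5923 (allL N5923 (tt N6206 (iv F49871)) (tt N5143 F48640) (tt N6857 (iv F52331)) (tt N5923 F48641) (tt N5850 F48642) (tt N4961 F48643) (tt N5923 F48644) (tt N4958 (iv D12381)) (tt N5923 F48645))
theorem Q5925 : ∀ i, i < 5925 → P i := stepQ 5924 Q5924 (allL N5924 (tt N4959 (iv D12382)) (tt N5981 (iv F48878)) (tt N5634 F48646) (tt N5924 F48647) (tt N5043 F48648) (tt N5635 F48649) (tt N4962 F48650) (tt N5924 F48651) (tt N6917 D13375))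
theorem Q5926 : ∀ i, i < 5926 → P i := stepQ 5925 Q5925 (allL N5925 (tt N6917 (iv F52630)) (tt N4960 F48652) (tt N5343 F48653) (tt N5925 F48654) (tt N5044 F48655) (tt N5344 F48656) (tt N4963 F48657) (tt N6918 D13376) (tt N4959 (iv D12383)))
theorem Q5927 : ∀ i, i < 5927 → P i := stepQ 5926 Q5926 (allL N5926 (tt N6032 (iv F49118)) (tt N6918 (iv F52636)) (tt N4961 F48658) (tt N6899 (iv F52521)) (tt N5045 F48659) (tt N6857 (iv F52334)) (tt N4964 F48660) (tt N4960 (iv D12384)) (tt N5926 F48661))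
theorem Q5928 : ∀ i, i < 5928 → P i := stepQ 5927 Q5927 (allL N5927 (tt N4963 F48662) (tt N6207 (iv F49879)) (tt N6915 (iv F52618)) (tt N5927 F48663) (tt N5046 F48664) (tt N5927 F48665) (tt N6917 (iv F52635)) (tt N6919 D13377) (tt N4962 (iv D12385)))
theorem Q5929 : ∀ i, i < 5929 → P i := stepQ 5928 Q5928 (allL N5928 (tt N6919 (iv F52643)) (tt N4964 F48666) (tt N6916 (iv F52624)) (tt N5890 (iv F49090)) (tt N5047 F48667) (tt N5928 F48668) (tt N6918 (iv F52640)) (tt N4963 (iv D12386)) (tt N5928 F48669))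
theorem Q5930 : ∀ i, i < 5930 → P i := stepQ 5929 Q5929 (allL N5929 (tt N6209 (iv F49890)) (tt N5890 F49091) (tt N5929 F48670) (tt N4964 (iv D12387)) (tt N5889 (iv F49092)) (tt N5929 F48671) (tt N6899 (iv F52524)) (tt N5929 F48672) (tt N5929 F48673))
theorem Q5931 : ∀ i, i < 5931 → P i := stepQ 5930 Q5930 (allL N5930 (tt N5049 F48674) (tt N5930 F48675) (tt N4967 F48676) (tt N6920 D13378) (tt N5930 F48677) (tt N5254 F48678) (tt N6655 (iv F51609)) (tt N4965 (iv D12388)) (tt N6921 D13379))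
theorem Q5932 : ∀ i, i < 5932 → P i := stepQ 5931 Q5931 (allL N5931 (tt N5050 F48679) (tt N4982 F48680) (tt N6654 (iv F51601)) (tt N4968 F48681) (tt N5649 (iv F48684)) (tt N4966 (iv D12389)) (tt N5255 F48682) (tt N6922 D13380) (tt N5176 F48683))
theorem Q5933 : ∀ i, i < 5933 → P i := stepQ 5932 Q5932 (allL N5932 (tt N5051 F48685) (tt N4983 F48686) (tt N6655 (iv F51607)) (tt N6923 D13381) (tt N5932 F48687) (tt N6922 (iv F52660)) (tt N4967 F48688) (tt N4966 (iv D12390)) (tt N6924 D13382))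
theorem Q5934 : ∀ i, i < 5934 → P i := stepQ 5933 Q5933 (allL N5933 (tt N5052 F48689) (tt N4984 F48690) (tt N6925 D13383) (tt N4967 (iv D12391)) (tt N6926 D13384) (tt N5257 F48691) (tt N6923 (iv F52664)) (tt N4970 F48692) (tt N6927 D13385))
theorem Q5935 : ∀ i, i < 5935 → P i := stepQ 5934 Q5934 (allL N5934 (tt N5053 F48693) (tt N4985 F48694) (tt N6921 (iv F52653)) (tt N6927 (iv F52680)) (tt N5934 F48695) (tt N5258 F48696) (tt N6924 (iv F52669)) (tt N5753 F48697) (tt N4967 (iv D12392)))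
theorem Q5936 : ∀ i, i < 5936 → P i := stepQ 5935 Q5935 (allL N5935 (tt N5054 F48698) (tt N4986 F48699) (tt N6118 (iv F49449)) (tt N6928 D13386) (tt N5935 F48700) (tt N4969 F48701) (tt N5259 F48702) (tt N4968 (iv D12393)) (tt N6929 D13387))
theorem Q5937 : ∀ i, i < 5937 → P i := stepQ 5936 Q5936 (allL N5936 (tt N5055 F48703) (tt N4987 F48704) (tt N6930 D13388) (tt N4969 (iv D12394)) (tt N6931 D13389) (tt N6928 (iv F52684)) (tt N4970 F48705) (tt N6923 (iv F52665)) (tt N6932 D13390))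
theorem Q5938 : ∀ i, i < 5938 → P i := stepQ 5937 Q5937 (allL N5937 (tt N5056 F48706) (tt N4988 F48707) (tt N6214 (iv F49922)) (tt N6932 (iv F52701)) (tt N4973 F48708) (tt N6929 (iv F52689)) (tt N4971 F48709) (tt N5471 F48710) (tt N4969 (iv D12395)))
theorem Q5939 : ∀ i, i < 5939 → P i := stepQ 5938 Q5938 (allL N5938 (tt N5057 F48711) (tt N6933 D13391) (tt N4970 (iv D12396)) (tt N6215 (iv F49927)) (tt N6934 D13392) (tt N5262 F48712) (tt N6930 (iv F52693)) (tt N6925 (iv F52673)) (tt N6935 D13393))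
theorem Q5940 : ∀ i, i < 5940 → P i := stepQ 5939 Q5939 (allL N5939 (tt N5058 F48713) (tt N4990 F48714) (tt N6934 (iv F52706)) (tt N4975 F48715) (tt N4970 (iv D12397)) (tt N6936 D13394) (tt N6931 (iv F52697)) (tt N6926 (iv F52677)) (tt N6937 D13395))
theorem Q5941 : ∀ i, i < 5941 → P i := stepQ 5940 Q5940 (allL N5940 (tt N5059 F48716) (tt N4991 F48717) (tt N6935 (iv F52708)) (tt N4971 F48718) (tt N6937 (iv F52717)) (tt N5264 F48719) (tt N6932 (iv F52702)) (tt N6938 D13396) (tt N4970 (iv D12398)))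
theorem Q5942 : ∀ i, i < 5942 → P i := stepQ 5941 Q5941 (allL N5941 (tt N5061 F48720) (tt N4992 F48721) (tt N6652 (iv F51590)) (tt N6931 (iv F52696)) (tt N4972 (iv D12399)) (tt N5748 (iv F48724)) (tt N4975 F48722) (tt N5941 F48723) (tt N6939 D13397))
theorem Q5943 : ∀ i, i < 5943 → P i := stepQ 5942 Q5942 (allL N5942 (tt N5062 F48725) (tt N4993 F48726) (tt N6653 (iv F51595)) (tt N4973 F48727) (tt N6939 (iv F52724)) (tt N5942 F48728) (tt N4976 F48729) (tt N6940 D13398) (tt N4972 (iv D12400)))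
theorem Q5944 : ∀ i, i < 5944 → P i := stepQ 5943 Q5943 (allL N5943 (tt N5063 F48730) (tt N6704 (iv F51782)) (tt N4975 F48731) (tt N6941 D13399) (tt N4974 (iv D12401)) (tt N6942 D13400) (tt N6652 (iv F51591)) (tt N5943 F48732) (tt N6943 D13401))
theorem Q5945 : ∀ i, i < 5945 → P i := stepQ 5944 Q5944 (allL N5944 (tt N5064 F48733) (tt N6705 (iv F51787)) (tt N4976 F48734) (tt N6219 (iv F49946)) (tt N6943 (iv F52740)) (tt N4978 F48735) (tt N6653 (iv F51598)) (tt N6944 D13402) (tt N4974 (iv D12402)))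
theorem Q5946 : ∀ i, i < 5946 → P i := stepQ 5945 Q5945 (allL N5945 (tt N5065 F48736) (tt N4994 F48737) (tt N6942 (iv F52735)) (tt N6936 (iv F52712)) (tt N4979 F48738) (tt N4975 (iv D12403)) (tt N6945 D13403) (tt N5945 F48739) (tt N6946 D13404))
theorem Q5947 : ∀ i, i < 5947 → P i := stepQ 5946 Q5946 (allL N5946 (tt N5066 F48740) (tt N4995 F48741) (tt N6943 (iv F52739)) (tt N6937 (iv F52716)) (tt N4976 F48742) (tt N6946 (iv F52753)) (tt N6939 (iv F52726)) (tt N6947 D13405) (tt N4975 (iv D12404)))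
theorem Q5948 : ∀ i, i < 5948 → P i := stepQ 5947 Q5947 (allL N5947 (tt N5067 F48743) (tt N4996 F48744) (tt N6944 (iv F52742)) (tt N5761 F48745) (tt N6947 (iv F52756)) (tt N4981 F48746) (tt N6940 (iv F52731)) (tt N4976 (iv D12405)) (tt N5947 F48747))
theorem Q5949 : ∀ i, i < 5949 → P i := stepQ 5948 Q5948 (allL N5948 (tt N5068 F48748) (tt N6878 (iv F52408)) (tt N5273 F48749) (tt N4977 (iv D12406)) (tt N6221 (iv F49957)) (tt N6948 D13406) (tt N5948 F48750) (tt N6827 F52228) (tt N6828 (iv F52234)))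
theorem Q5950 : ∀ i, i < 5950 → P i := stepQ 5949 Q5949 (allL N5949 (tt N5069 F48751) (tt N6903 (iv F52544)) (tt N4979 F48752) (tt N6948 (iv F52760)) (tt N6942 (iv F52736)) (tt N4977 (iv D12407)) (tt N6949 D13407) (tt N5949 F48753) (tt N6950 D13408))
theorem Q5951 : ∀ i, i < 5951 → P i := stepQ 5950 Q5950 (allL N5950 (tt N5070 F48754) (tt N6879 (iv F52415)) (tt N4980 F48755) (tt N6828 F52235) (tt N4978 F48756) (tt N6950 (iv F52767)) (tt N5950 F48757) (tt N6831 (iv F52247)) (tt N4977 (iv D12408)))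
theorem Q5952 : ∀ i, i < 5952 → P i := stepQ 5951 Q5951 (allL N5951 (tt N5071 F48758) (tt N6883 (iv F52437)) (tt N4981 F48759) (tt N6832 (iv F52254)) (tt N6831 F52250) (tt N6944 (iv F52743)) (tt N5951 F48760) (tt N4978 (iv D12409)) (tt N5951 F48761))
theorem Q5953 : ∀ i, i < 5953 → P i := stepQ 5952 Q5952 (allL N5952 (tt N5072 F48762) (tt N4997 F48763) (tt N6949 (iv F52762)) (tt N5277 F48764) (tt N6945 (iv F52747)) (tt N5952 F48765) (tt N4979 (iv D12410)) (tt N5952 F48766) (tt N6951 D13409))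
theorem Q5954 : ∀ i, i < 5954 → P i := stepQ 5953 Q5953 (allL N5953 (tt N5073 F48767) (tt N4998 F48768) (tt N6950 (iv F52766)) (tt N5278 F48769) (tt N6946 (iv F52752)) (tt N4980 F48770) (tt N6951 (iv F52772)) (tt N6952 D13410) (tt N4979 (iv D12411)))
theorem Q5955 : ∀ i, i < 5955 → P i := stepQ 5954 Q5954 (allL N5954 (tt N5074 F48771) (tt N4999 F48772) (tt N6831 F52249) (tt N6835 (iv F52266)) (tt N4981 F48773) (tt N6952 (iv F52775)) (tt N5954 F48774) (tt N4980 (iv D12412)) (tt N5954 F48775))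
theorem Q5956 : ∀ i, i < 5956 → P i := stepQ 5955 Q5955 (allL N5955 (tt N5007 F48776) (tt N6922 (iv F52658)) (tt N5955 F48777) (tt N6953 D13411) (tt N5652 F48778) (tt N4983 F48779) (tt N5280 F48780) (tt N4982 (iv D12413)) (tt N6954 D13412))
theorem Q5957 : ∀ i, i < 5957 → P i := stepQ 5956 Q5956 (allL N5956 (tt N5008 F48781) (tt N6923 (iv F52663)) (tt N6955 D13413) (tt N4983 (iv D12414)) (tt N6956 D13414) (tt N6953 (iv F52779)) (tt N4984 F48782) (tt N4987 F48783) (tt N6957 D13415))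
theorem Q5958 : ∀ i, i < 5958 → P i := stepQ 5957 Q5957 (allL N5957 (tt N5009 F48784) (tt N6924 (iv F52667)) (tt N5957 F48785) (tt N6957 (iv F52802)) (tt N5957 F48786) (tt N6954 (iv F52786)) (tt N4985 F48787) (tt N5521 F48788) (tt N4983 (iv D12415)))
theorem Q5959 : ∀ i, i < 5959 → P i := stepQ 5958 Q5958 (allL N5958 (tt N5010 F48789) (tt N6958 D13416) (tt N4984 (iv D12416)) (tt N5958 F48790) (tt N6959 D13417) (tt N5283 F48791) (tt N6955 (iv F52792)) (tt N4989 F48792) (tt N6960 D13418))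
theorem Q5960 : ∀ i, i < 5960 → P i := stepQ 5959 Q5959 (allL N5959 (tt N5011 F48793) (tt N6926 (iv F52675)) (tt N6959 (iv F52808)) (tt N5959 F48794) (tt N4984 (iv D12417)) (tt N6961 D13419) (tt N6956 (iv F52799)) (tt N4990 F48795) (tt N6962 D13420))
theorem Q5961 : ∀ i, i < 5961 → P i := stepQ 5960 Q5960 (allL N5960 (tt N5012 F48796) (tt N6927 (iv F52679)) (tt N6960 (iv F52814)) (tt N4985 F48797) (tt N6962 (iv F52825)) (tt N5285 F48798) (tt N6957 (iv F52803)) (tt N6963 D13421) (tt N4984 (iv D12418)))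
theorem Q5962 : ∀ i, i < 5962 → P i := stepQ 5961 Q5961 (allL N5961 (tt N5013 F48799) (tt N6928 (iv F52683)) (tt N6964 D13422) (tt N4986 (iv D12419)) (tt N6965 D13423) (tt N4987 F48800) (tt N5286 F48801) (tt N6953 (iv F52781)) (tt N6966 D13424))
theorem Q5963 : ∀ i, i < 5963 → P i := stepQ 5962 Q5962 (allL N5962 (tt N5014 F48802) (tt N6929 (iv F52687)) (tt N5001 F48803) (tt N6966 (iv F52843)) (tt N5962 F48804) (tt N4988 F48805) (tt N5287 F48806) (tt N5146 F48807) (tt N4986 (iv D12420)))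
theorem Q5964 : ∀ i, i < 5964 → P i := stepQ 5963 Q5963 (allL N5963 (tt N5015 F48808) (tt N6967 D13425) (tt N4987 (iv D12421)) (tt N5002 F48809) (tt N5696 (iv F48811)) (tt N6964 (iv F52832)) (tt N4989 F48810) (tt N6955 (iv F52793)) (tt N6968 D13426))
theorem Q5965 : ∀ i, i < 5965 → P i := stepQ 5964 Q5964 (allL N5964 (tt N5016 F48812) (tt N6931 (iv F52695)) (tt N5696 F48813) (tt N4992 F48814) (tt N4987 (iv D12422)) (tt N5697 (iv F48816)) (tt N4990 F48815) (tt N6956 (iv F52800)) (tt N6969 D13427))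
theorem Q5966 : ∀ i, i < 5966 → P i := stepQ 5965 Q5965 (allL N5965 (tt N5017 F48817) (tt N6932 (iv F52700)) (tt N6968 (iv F52850)) (tt N4988 F48818) (tt N6969 (iv F52857)) (tt N6966 (iv F52844)) (tt N4991 F48819) (tt N6970 D13428) (tt N4987 (iv D12423)))
theorem Q5967 : ∀ i, i < 5967 → P i := stepQ 5966 Q5966 (allL N5966 (tt N6971 D13429) (tt N4989 (iv D12424)) (tt N6933 (iv F52703)) (tt N5004 F48820) (tt N6972 D13430) (tt N5291 F48821) (tt N6967 (iv F52848)) (tt N6958 (iv F52806)) (tt N6973 D13431))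
theorem Q5968 : ∀ i, i < 5968 → P i := stepQ 5967 Q5967 (allL N5967 (tt N5019 F48822) (tt N6972 (iv F52866)) (tt N4990 F48823) (tt N5695 F48824) (tt N4989 (iv D12425)) (tt N6974 D13432) (tt N5696 F48825) (tt N6959 (iv F52810)) (tt N6975 D13433))
theorem Q5969 : ∀ i, i < 5969 → P i := stepQ 5968 Q5968 (allL N5968 (tt N5020 F48826) (tt N6973 (iv F52869)) (tt N4991 F48827) (tt N5005 F48828) (tt N6975 (iv F52881)) (tt N5293 F48829) (tt N6968 (iv F52853)) (tt N6976 D13434) (tt N4989 (iv D12426)))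
theorem Q5970 : ∀ i, i < 5970 → P i := stepQ 5969 Q5969 (allL N5969 (tt N5021 F48830) (tt N6936 (iv F52711)) (tt N6974 (iv F52873)) (tt N4994 F48831) (tt N5294 F48832) (tt N4990 (iv D12427)) (tt N6977 D13435) (tt N6961 (iv F52822)) (tt N6978 D13436))
theorem Q5971 : ∀ i, i < 5971 → P i := stepQ 5970 Q5970 (allL N5970 (tt N5022 F48833) (tt N6937 (iv F52715)) (tt N6975 (iv F52879)) (tt N4995 F48834) (tt N4991 F48835) (tt N6978 (iv F52895)) (tt N6969 (iv F52859)) (tt N6979 D13437) (tt N4990 (iv D12428)))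
theorem Q5972 : ∀ i, i < 5972 → P i := stepQ 5971 Q5971 (allL N5971 (tt N5023 F48836) (tt N6938 (iv F52719)) (tt N6976 (iv F52884)) (tt N5777 F48837) (tt N6979 (iv F52897)) (tt N5296 F48838) (tt N6970 (iv F52862)) (tt N4991 (iv D12429)) (tt N6963 (iv F52829)))
theorem Q5973 : ∀ i, i < 5973 → P i := stepQ 5972 Q5972 (allL N5972 (tt N5024 F48839) (tt N6939 (iv F52723)) (tt N5577 F48840) (tt N6969 (iv F52856)) (tt N4993 F48841) (tt N5578 F48842) (tt N4995 F48843) (tt N6980 D13438) (tt N4992 (iv D12430)))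
theorem Q5974 : ∀ i, i < 5974 → P i := stepQ 5973 Q5973 (allL N5973 (tt N5025 F48844) (tt N6940 (iv F52728)) (tt N6906 (iv F52558)) (tt N5582 F48845) (tt N6980 (iv F52900)) (tt N5973 F48846) (tt N4996 F48847) (tt N4993 (iv D12431)) (tt N5973 F48848))
theorem Q5975 : ∀ i, i < 5975 → P i := stepQ 5974 Q5974 (allL N5974 (tt N5026 F48849) (tt N6945 (iv F52746)) (tt N5746 F48850) (tt N6977 (iv F52888)) (tt N4997 F48851) (tt N5747 F48852) (tt N4994 (iv D12432)) (tt N5974 F48853) (tt N6981 D13439))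
theorem Q5976 : ∀ i, i < 5976 → P i := stepQ 5975 Q5975 (allL N5975 (tt N5027 F48854) (tt N6946 (iv F52751)) (tt N6907 (iv F52565)) (tt N6978 (iv F52893)) (tt N4998 F48855) (tt N4995 F48856) (tt N6981 (iv F52908)) (tt N6982 D13440) (tt N4994 (iv D12433)))
theorem Q5977 : ∀ i, i < 5977 → P i := stepQ 5976 Q5976 (allL N5976 (tt N5028 F48857) (tt N6947 (iv F52755)) (tt N6908 (iv F52572)) (tt N6983 D13441) (tt N4996 F48858) (tt N6982 (iv F52913)) (tt N6980 (iv F52902)) (tt N4995 (iv D12434)) (tt N5976 F48859))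
theorem Q5978 : ∀ i, i < 5978 → P i := stepQ 5977 Q5977 (allL N5977 (tt N5029 F48860) (tt N6951 (iv F52769)) (tt N6909 (iv F52579)) (tt N5302 F48861) (tt N6981 (iv F52906)) (tt N5977 F48862) (tt N4998 F48863) (tt N6984 D13442) (tt N4997 (iv D12435)))
theorem Q5979 : ∀ i, i < 5979 → P i := stepQ 5978 Q5978 (allL N5978 (tt N5030 F48864) (tt N6952 (iv F52774)) (tt N6910 (iv F52586)) (tt N6985 D13443) (tt N6982 (iv F52912)) (tt N4999 F48865) (tt N6984 (iv F52923)) (tt N4998 (iv D12436)) (tt N5978 F48866))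
theorem Q5980 : ∀ i, i < 5980 → P i := stepQ 5979 Q5979 (allL N5979 (tt N5031 F48867) (tt N6835 F52271) (tt N6847 (iv F52306)) (tt N4999 (iv D12437)) (tt N5783 F48868) (tt N6985 (iv F52926)) (tt N5979 F48869) (tt N5304 F48870) (tt N5979 F48871))
theorem Q5981 : ∀ i, i < 5981 → P i := stepQ 5980 Q5980 (allL N5980 (tt N5032 F48872) (tt N6986 D13444) (tt N5000 (iv D12438)) (tt N6964 (iv F52831)) (tt N5653 (iv F48876)) (tt N5002 F48873) (tt N5248 F48874) (tt N5980 F48875) (tt N6987 D13445))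
theorem Q5982 : ∀ i, i < 5982 → P i := stepQ 5981 Q5981 (allL N5981 (tt N5033 F48877) (tt N5924 F48878) (tt N5653 F48879) (tt N5981 F48880) (tt N5000 (iv D12439)) (tt N5654 F48881) (tt N5205 F48882) (tt N5981 F48883) (tt N6988 D13446))
theorem Q5983 : ∀ i, i < 5983 → P i := stepQ 5982 Q5982 (allL N5982 (tt N5034 F48884) (tt N6033 (iv F49127)) (tt N6987 (iv F52935)) (tt N5001 F48885) (tt N6988 (iv F52944)) (tt N5003 F48886) (tt N5251 F48887) (tt N6989 D13447) (tt N5000 (iv D12440)))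
theorem Q5984 : ∀ i, i < 5984 → P i := stepQ 5983 Q5983 (allL N5983 (tt N6990 D13448) (tt N5002 (iv D12441)) (tt N6236 (iv F50018)) (tt N6967 (iv F52846)) (tt N5691 F48888) (tt N6986 (iv F52931)) (tt N5004 F48889) (tt N5983 F48890) (tt N6991 D13449))
theorem Q5985 : ∀ i, i < 5985 → P i := stepQ 5984 Q5984 (allL N5984 (tt N5036 F48891) (tt N6991 (iv F52961)) (tt N5003 F48892) (tt N6968 (iv F52851)) (tt N5469 F48893) (tt N6987 (iv F52937)) (tt N5005 F48894) (tt N6992 D13450) (tt N5002 (iv D12442)))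
theorem Q5986 : ∀ i, i < 5986 → P i := stepQ 5985 Q5985 (allL N5985 (tt N5037 F48895) (tt N6238 (iv F50025)) (tt N6992 (iv F52965)) (tt N5349 F48896) (tt N6911 (iv F52595)) (tt N6989 (iv F52952)) (tt N5006 F48897) (tt N5003 (iv D12443)) (tt N5985 F48898))
theorem Q5987 : ∀ i, i < 5987 → P i := stepQ 5986 Q5986 (allL N5986 (tt N5004 (iv D12444)) (tt N5038 F48899) (tt N6239 (iv F50030)) (tt N6971 (iv F52864)) (tt N6912 (iv F52601)) (tt N5308 F48900) (tt N6990 (iv F52959)) (tt N5986 F48901) (tt N6993 D13451))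
theorem Q5988 : ∀ i, i < 5988 → P i := stepQ 5987 Q5987 (allL N5987 (tt N6993 (iv F52970)) (tt N5005 F48902) (tt N6240 (iv F50034)) (tt N6973 (iv F52870)) (tt N6913 (iv F52607)) (tt N5309 F48903) (tt N6991 (iv F52963)) (tt N6994 D13452) (tt N5004 (iv D12445)))
theorem Q5989 : ∀ i, i < 5989 → P i := stepQ 5988 Q5988 (allL N5988 (tt N5040 F48904) (tt N6994 (iv F52973)) (tt N5006 F48905) (tt N6995 D13453) (tt N6914 (iv F52613)) (tt N5310 F48906) (tt N6992 (iv F52968)) (tt N5005 (iv D12446)) (tt N5988 F48907))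
theorem Q5990 : ∀ i, i < 5990 → P i := stepQ 5989 Q5989 (allL N5989 (tt N6953 (iv F52777)) (tt N5107 F48908) (tt N5321 (iv F48913)) (tt N5007 (iv D12447)) (tt N5240 F48909) (tt N5008 F48910) (tt N5311 F48911) (tt N5013 F48912) (tt N6996 D13454))
theorem Q5991 : ∀ i, i < 5991 → P i := stepQ 5990 Q5990 (allL N5990 (tt N6954 (iv F52783)) (tt N5108 F48914) (tt N5990 F48915) (tt N6996 (iv F52982)) (tt N5395 F48916) (tt N5009 F48917) (tt N5312 F48918) (tt N5183 F48919) (tt N5007 (iv D12448)))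
theorem Q5992 : ∀ i, i < 5992 → P i := stepQ 5991 Q5991 (allL N5991 (tt N6955 (iv F52789)) (tt N5390 F48920) (tt N5008 (iv D12449)) (tt N5991 F48921) (tt N5325 (iv F48925)) (tt N5321 F48922) (tt N5010 F48923) (tt N5015 F48924) (tt N6997 D13455))
theorem Q5993 : ∀ i, i < 5993 → P i := stepQ 5992 Q5992 (allL N5992 (tt N6956 (iv F52795)) (tt N5110 F48926) (tt N5325 F48927) (tt N5992 F48928) (tt N5008 (iv D12450)) (tt N5323 F48929) (tt N5011 F48930) (tt N5016 F48931) (tt N6998 D13456))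
theorem Q5994 : ∀ i, i < 5994 → P i := stepQ 5993 Q5993 (allL N5993 (tt N6957 (iv F52801)) (tt N5111 F48932) (tt N6997 (iv F52987)) (tt N5009 F48933) (tt N6998 (iv F52995)) (tt N6996 (iv F52984)) (tt N5012 F48934) (tt N6999 D13457) (tt N5008 (iv D12451)))
theorem Q5995 : ∀ i, i < 5995 → P i := stepQ 5994 Q5994 (allL N5994 (tt N7000 D13458) (tt N5010 (iv D12452)) (tt N5112 F48935) (tt N5994 F48936) (tt N5483 (iv F48940)) (tt N5315 F48937) (tt N5390 F48938) (tt N5018 F48939) (tt N7001 D13459))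
theorem Q5996 : ∀ i, i < 5996 → P i := stepQ 5995 Q5995 (allL N5995 (tt N6959 (iv F52807)) (tt N5483 F48941) (tt N5011 F48942) (tt N5337 F48945) (tt N5010 (iv D12453)) (tt N5334 (iv F48946)) (tt N5325 F48943) (tt N5019 F48944) (tt N7002 D13460))
theorem Q5997 : ∀ i, i < 5997 → P i := stepQ 5996 Q5996 (allL N5996 (tt N6960 (iv F52813)) (tt N7001 (iv F53008)) (tt N5012 F48947) (tt N5996 F48948) (tt N7002 (iv F53017)) (tt N5317 F48949) (tt N6997 (iv F52991)) (tt N7003 D13461) (tt N5010 (iv D12454)))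
theorem Q5998 : ∀ i, i < 5998 → P i := stepQ 5997 Q5997 (allL N5997 (tt N6961 (iv F52817)) (tt N5115 F48950) (tt N5334 F48951) (tt N5997 F48952) (tt N5318 F48953) (tt N5011 (iv D12455)) (tt N5331 F48954) (tt N5021 F48955) (tt N7004 D13462))
theorem Q5999 : ∀ i, i < 5999 → P i := stepQ 5998 Q5998 (allL N5998 (tt N6962 (iv F52823)) (tt N5116 F48956) (tt N7002 (iv F53015)) (tt N5998 F48957) (tt N5012 F48958) (tt N7004 (iv F53027)) (tt N6998 (iv F52997)) (tt N7005 D13463) (tt N5011 (iv D12456)))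
theorem Q6000 : ∀ i, i < 6000 → P i := stepQ 5999 Q5999 (allL N5999 (tt N6963 (iv F52826)) (tt N5117 F48959) (tt N7003 (iv F53020)) (tt N5788 F48960) (tt N7005 (iv F53030)) (tt N5320 F48961) (tt N6999 (iv F53000)) (tt N5012 (iv D12457)) (tt N5023 F48962))
theorem Q6001 : ∀ i, i < 6001 → P i := stepQ 6000 Q6000 (allL N6000 (tt N6964 (iv F52830)) (tt N5238 F48963) (tt N5013 (iv D12458)) (tt N5032 F48964) (tt N5311 (iv F48968)) (tt N5015 F48965) (tt N5240 F48966) (tt N5321 F48967) (tt N7006 D13464))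
theorem Q6002 : ∀ i, i < 6002 → P i := stepQ 6001 Q6001 (allL N6001 (tt N6965 (iv F52836)) (tt N5118 F48969) (tt N5311 F48970) (tt N6001 F48971) (tt N5013 (iv D12459)) (tt N5313 F48972) (tt N5321 F48973) (tt N5240 F48974) (tt N7007 D13465))
theorem Q6003 : ∀ i, i < 6003 → P i := stepQ 6002 Q6002 (allL N6002 (tt N6966 (iv F52842)) (tt N5119 F48975) (tt N7006 (iv F53033)) (tt N5014 F48976) (tt N7007 (iv F53041)) (tt N5017 F48977) (tt N5322 F48978) (tt N7008 D13466) (tt N5013 (iv D12460)))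
theorem Q6004 : ∀ i, i < 6004 → P i := stepQ 6003 Q6003 (allL N6003 (tt N7009 D13467) (tt N5015 (iv D12461)) (tt N5120 F48979) (tt N5035 F48980) (tt N5472 F48981) (tt N5238 F48982) (tt N5018 F48983) (tt N5390 F48984) (tt N7010 D13468))
theorem Q6005 : ∀ i, i < 6005 → P i := stepQ 6004 Q6004 (allL N6004 (tt N6968 (iv F52849)) (tt N7010 (iv F53054)) (tt N5017 F48985) (tt N5036 F48986) (tt N5500 F48987) (tt N7006 (iv F53036)) (tt N5020 F48988) (tt N7011 D13469) (tt N5015 (iv D12462)))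
theorem Q6006 : ∀ i, i < 6006 → P i := stepQ 6005 Q6005 (allL N6005 (tt N6969 (iv F52854)) (tt N5124 F48989) (tt N5500 F48990) (tt N5024 F48991) (tt N5017 F48992) (tt N5501 F48993) (tt N5022 F48994) (tt N7012 D13470) (tt N5016 (iv D12463)))
theorem Q6007 : ∀ i, i < 6007 → P i := stepQ 6006 Q6006 (allL N6006 (tt N6970 (iv F52860)) (tt N5125 F48995) (tt N7011 (iv F53060)) (tt N5490 F48996) (tt N7012 (iv F53065)) (tt N7008 (iv F53046)) (tt N5023 F48997) (tt N5017 (iv D12464)) (tt N6999 (iv F53001)))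
theorem Q6008 : ∀ i, i < 6008 → P i := stepQ 6007 Q6007 (allL N6007 (tt N5018 (iv D12465)) (tt N6971 (iv F52863)) (tt N5126 F48998) (tt N5038 F48999) (tt N7013 D13471) (tt N5328 F49000) (tt N7009 (iv F53052)) (tt N7000 (iv F53007)) (tt N7014 D13472))
theorem Q6009 : ∀ i, i < 6009 → P i := stepQ 6008 Q6008 (allL N6008 (tt N7013 (iv F53068)) (tt N5019 F49001) (tt N5127 F49002) (tt N5637 F49003) (tt N5018 (iv D12466)) (tt N5480 (iv F49006)) (tt N5472 F49004) (tt N5483 F49005) (tt N7015 D13473))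
theorem Q6010 : ∀ i, i < 6010 → P i := stepQ 6009 Q6009 (allL N6009 (tt N7014 (iv F53074)) (tt N5020 F49007) (tt N5128 F49008) (tt N5039 F49009) (tt N7015 (iv F53081)) (tt N5330 F49010) (tt N7010 (iv F53059)) (tt N7016 D13474) (tt N5018 (iv D12467)))
theorem Q6011 : ∀ i, i < 6011 → P i := stepQ 6010 Q6010 (allL N6010 (tt N6974 (iv F52872)) (tt N5480 F49011) (tt N5021 F49012) (tt N5636 F49013) (tt N5331 F49014) (tt N5019 (iv D12468)) (tt N5318 F49015) (tt N5334 F49016) (tt N7017 D13475))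
theorem Q6012 : ∀ i, i < 6012 → P i := stepQ 6011 Q6011 (allL N6011 (tt N6975 (iv F52878)) (tt N7015 (iv F53078)) (tt N5022 F49017) (tt N5499 F49018) (tt N5020 F49019) (tt N7017 (iv F53091)) (tt N5500 F49020) (tt N7018 D13476) (tt N5019 (iv D12469)))
theorem Q6013 : ∀ i, i < 6013 → P i := stepQ 6012 Q6012 (allL N6012 (tt N6976 (iv F52883)) (tt N7016 (iv F53084)) (tt N5023 F49021) (tt N7019 D13477) (tt N7018 (iv F53095)) (tt N5333 F49022) (tt N7011 (iv F53062)) (tt N5020 (iv D12470)) (tt N7003 (iv F53022)))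
theorem Q6014 : ∀ i, i < 6014 → P i := stepQ 6013 Q6013 (allL N6013 (tt N6977 (iv F52886)) (tt N5132 F49023) (tt N5318 F49024) (tt N5026 F49025) (tt N5334 F49026) (tt N5316 F49027) (tt N5021 (iv D12471)) (tt N5331 F49028) (tt N7020 D13478))
theorem Q6015 : ∀ i, i < 6015 → P i := stepQ 6014 Q6014 (allL N6014 (tt N6978 (iv F52892)) (tt N5133 F49029) (tt N7017 (iv F53088)) (tt N5027 F49030) (tt N5335 F49031) (tt N5022 F49032) (tt N7020 (iv F53105)) (tt N7021 D13479) (tt N5021 (iv D12472)))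
theorem Q6016 : ∀ i, i < 6016 → P i := stepQ 6015 Q6015 (allL N6015 (tt N6979 (iv F52896)) (tt N5134 F49033) (tt N7018 (iv F53093)) (tt N7022 D13480) (tt N5023 F49034) (tt N7021 (iv F53108)) (tt N7012 (iv F53067)) (tt N5022 (iv D12473)) (tt N7005 (iv F53031)))
theorem Q6017 : ∀ i, i < 6017 → P i := stepQ 6016 Q6016 (allL N6016 (tt N6980 (iv F52898)) (tt N5137 F49035) (tt N5590 F49036) (tt N7023 D13481) (tt N5025 F49037) (tt N5591 F49038) (tt N5028 F49039) (tt N5024 (iv D12474)) (tt N6016 F49040))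
theorem Q6018 : ∀ i, i < 6018 → P i := stepQ 6017 Q6017 (allL N6017 (tt N6981 (iv F52904)) (tt N5138 F49041) (tt N5593 F49042) (tt N7020 (iv F53102)) (tt N5029 F49043) (tt N5594 F49044) (tt N5027 F49045) (tt N5884 (iv F49046)) (tt N5026 (iv D12475)))
theorem Q6019 : ∀ i, i < 6019 → P i := stepQ 6018 Q6018 (allL N6018 (tt N6982 (iv F52910)) (tt N5139 F49047) (tt N5883 F49048) (tt N7024 D13482) (tt N5030 F49049) (tt N5028 F49050) (tt N5884 F49051) (tt N5027 (iv D12476)) (tt N6018 F49052))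
theorem Q6020 : ∀ i, i < 6020 → P i := stepQ 6019 Q6019 (allL N6019 (tt N6983 (iv F52916)) (tt N5140 F49053) (tt N7025 D13483) (tt N5028 (iv D12477)) (tt N5795 F49054) (tt N7024 (iv F53120)) (tt N7023 (iv F53116)) (tt N7022 (iv F53111)) (tt N6019 F49055))
theorem Q6021 : ∀ i, i < 6021 → P i := stepQ 6020 Q6020 (allL N6020 (tt N6984 (iv F52919)) (tt N5141 F49056) (tt N5885 F49057) (tt N6916 (iv F52625)) (tt N5884 F49058) (tt N6020 F49059) (tt N5030 F49060) (tt N5029 (iv D12478)) (tt N6020 F49061))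
theorem Q6022 : ∀ i, i < 6022 → P i := stepQ 6021 Q6021 (allL N6021 (tt N6985 (iv F52925)) (tt N5142 F49062) (tt N6918 (iv F52637)) (tt N5030 (iv D12479)) (tt N7026 D13484) (tt N5031 F49063) (tt N6916 (iv F52628)) (tt N5343 F49064) (tt N6021 F49065))
theorem Q6023 : ∀ i, i < 6023 → P i := stepQ 6022 Q6022 (allL N6022 (tt N6847 F52312) (tt N6857 (iv F52330)) (tt N5031 (iv D12480)) (tt N6896 (iv F52505)) (tt N5798 F49066) (tt N6918 (iv F52639)) (tt N6022 F49067) (tt N5344 F49068) (tt N6022 F49069))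
theorem Q6024 : ∀ i, i < 6024 → P i := stepQ 6023 Q6023 (allL N6023 (tt N6987 (iv F52934)) (tt N5246 F49070) (tt N5034 F49071) (tt N7006 (iv F53034)) (tt N5396 F49072) (tt N5036 F49073) (tt N5249 F49074) (tt N5849 (iv F49075)) (tt N5032 (iv D12481)))
theorem Q6025 : ∀ i, i < 6025 → P i := stepQ 6024 Q6024 (allL N6024 (tt N6988 (iv F52940)) (tt N5041 F49076) (tt N5396 F49077) (tt N6024 F49078) (tt N5034 F49079) (tt N5397 F49080) (tt N5206 F49081) (tt N5848 (iv F49082)) (tt N5033 (iv D12482)))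
theorem Q6026 : ∀ i, i < 6026 → P i := stepQ 6025 Q6025 (allL N6025 (tt N6989 (iv F52948)) (tt N5042 F49083) (tt N5849 F49084) (tt N5047 F49085) (tt N5848 F49086) (tt N5037 F49087) (tt N5252 F49088) (tt N5034 (iv D12483)) (tt N6025 F49089))
theorem Q6027 : ∀ i, i < 6027 → P i := stepQ 6026 Q6026 (allL N6026 (tt N5035 (iv D12484)) (tt N6990 (iv F52955)) (tt N5043 F49093) (tt N7009 (iv F53049)) (tt N5634 F49094) (tt N5232 F49095) (tt N5038 F49096) (tt N6026 F49097) (tt N7027 D13485))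
theorem Q6028 : ∀ i, i < 6028 → P i := stepQ 6027 Q6027 (allL N6027 (tt N7027 (iv F53134)) (tt N5036 F49098) (tt N5044 F49099) (tt N7010 (iv F53056)) (tt N5343 F49100) (tt N5246 F49101) (tt N5039 F49102) (tt N7026 (iv F53132)) (tt N5035 (iv D12485)))
theorem Q6029 : ∀ i, i < 6029 → P i := stepQ 6028 Q6028 (allL N6028 (tt N6992 (iv F52964)) (tt N7026 (iv F53128)) (tt N5037 F49103) (tt N7028 D13486) (tt N5142 F49104) (tt N5849 F49105) (tt N5040 F49106) (tt N5036 (iv D12486)) (tt N6028 F49107))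
theorem Q6030 : ∀ i, i < 6030 → P i := stepQ 6029 Q6029 (allL N6029 (tt N5039 F49108) (tt N6993 (iv F52971)) (tt N5046 F49109) (tt N7014 (iv F53076)) (tt N6915 (iv F52620)) (tt N5346 F49110) (tt N7027 (iv F53138)) (tt N7029 D13487) (tt N5038 (iv D12487)))
theorem Q6031 : ∀ i, i < 6031 → P i := stepQ 6030 Q6030 (allL N6030 (tt N7029 (iv F53144)) (tt N5040 F49111) (tt N5047 F49112) (tt N7030 D13488) (tt N6916 (iv F52626)) (tt N5347 F49113) (tt N7026 (iv F53131)) (tt N5039 (iv D12488)) (tt N6030 F49114))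
theorem Q6032 : ∀ i, i < 6032 → P i := stepQ 6031 Q6031 (allL N6031 (tt N6995 (iv F52976)) (tt N7030 (iv F53148)) (tt N5799 F49115) (tt N5040 (iv D12489)) (tt N7031 D13489) (tt N5348 F49116) (tt N7028 (iv F53142)) (tt N7019 (iv F53099)) (tt N6031 F49117))
theorem Q6033 : ∀ i, i < 6033 → P i := stepQ 6032 Q6032 (allL N6032 (tt N5926 F49118) (tt N5848 F49119) (tt N5204 F49120) (tt N5889 (iv F49125)) (tt N5042 F49121) (tt N5850 F49122) (tt N5207 F49123) (tt N5041 (iv D12490)) (tt N6032 F49124))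
theorem Q6034 : ∀ i, i < 6034 → P i := stepQ 6033 Q6033 (allL N6033 (tt N5044 F49126) (tt N5982 F49127) (tt N7027 (iv F53135)) (tt N5147 F49128) (tt N6917 (iv F52633)) (tt N5233 F49129) (tt N5046 F49130) (tt N7032 D13490) (tt N5043 (iv D12491)))
theorem Q6035 : ∀ i, i < 6035 → P i := stepQ 6034 Q6034 (allL N6034 (tt N7032 (iv F53159)) (tt N5045 F49131) (tt N7026 (iv F53129)) (tt N5252 F49132) (tt N6918 (iv F52638)) (tt N5247 F49133) (tt N5047 F49134) (tt N5044 (iv D12492)) (tt N6034 F49135))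
theorem Q6036 : ∀ i, i < 6036 → P i := stepQ 6035 Q6035 (allL N6035 (tt N5047 F49136) (tt N6253 (iv F50087)) (tt N7029 (iv F53145)) (tt N6989 (iv F52950)) (tt N6919 (iv F52644)) (tt N5349 F49137) (tt N7032 (iv F53163)) (tt N5046 (iv D12493)) (tt N6035 F49138))
theorem Q6037 : ∀ i, i < 6037 → P i := stepQ 6036 Q6036 (allL N6036 (tt N6654 (iv F51599)) (tt N5148 F49139) (tt N5050 F49140) (tt N6177 (iv F49705)) (tt N7033 D13491) (tt N5048 (iv D12494)) (tt N5398 F49141) (tt N7034 D13492) (tt N5161 F49142))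
theorem Q6038 : ∀ i, i < 6038 → P i := stepQ 6037 Q6037 (allL N6037 (tt N6655 (iv F51605)) (tt N5149 F49143) (tt N5051 F49144) (tt N7035 D13493) (tt N6037 F49145) (tt N7034 (iv F53173)) (tt N5049 F49146) (tt N5048 (iv D12495)) (tt N7036 D13494))
theorem Q6039 : ∀ i, i < 6039 → P i := stepQ 6038 Q6038 (allL N6038 (tt N6920 (iv F52648)) (tt N5150 F49147) (tt N7037 D13495) (tt N5049 (iv D12496)) (tt N7038 D13496) (tt N5400 F49148) (tt N7035 (iv F53176)) (tt N6368 (iv F50516)) (tt N7039 D13497))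
theorem Q6040 : ∀ i, i < 6040 → P i := stepQ 6039 Q6039 (allL N6039 (tt N6921 (iv F52651)) (tt N5151 F49149) (tt N5053 F49150) (tt N7039 (iv F53187)) (tt N6039 F49151) (tt N5401 F49152) (tt N7036 (iv F53180)) (tt N5801 F49153) (tt N5049 (iv D12497)))
theorem Q6041 : ∀ i, i < 6041 → P i := stepQ 6040 Q6040 (allL N6040 (tt N5649 F49154) (tt N5075 F49155) (tt N7033 (iv F53167)) (tt N6040 F49156) (tt N5050 (iv D12498)) (tt N6040 F49157) (tt N5402 F49158) (tt N7040 D13498) (tt N5177 F49159))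
theorem Q6042 : ∀ i, i < 6042 → P i := stepQ 6041 Q6041 (allL N6041 (tt N6922 (iv F52657)) (tt N5076 F49160) (tt N7034 (iv F53172)) (tt N7041 D13499) (tt N7040 (iv F53191)) (tt N5051 F49161) (tt N5403 F49162) (tt N5050 (iv D12499)) (tt N7042 D13500))
theorem Q6043 : ∀ i, i < 6043 → P i := stepQ 6042 Q6042 (allL N6042 (tt N6923 (iv F52662)) (tt N5077 F49163) (tt N7043 D13501) (tt N5051 (iv D12500)) (tt N7044 D13502) (tt N7041 (iv F53197)) (tt N5052 F49164) (tt N5055 F49165) (tt N7045 D13503))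
theorem Q6044 : ∀ i, i < 6044 → P i := stepQ 6043 Q6043 (allL N6043 (tt N6924 (iv F52666)) (tt N5078 F49166) (tt N7036 (iv F53178)) (tt N7045 (iv F53212)) (tt N6043 F49167) (tt N7042 (iv F53201)) (tt N5053 F49168) (tt N5520 F49169) (tt N5051 (iv D12501)))
theorem Q6045 : ∀ i, i < 6045 → P i := stepQ 6044 Q6044 (allL N6044 (tt N6925 (iv F52671)) (tt N7046 D13504) (tt N5052 (iv D12502)) (tt N7037 (iv F53182)) (tt N7047 D13505) (tt N5406 F49170) (tt N7043 (iv F53204)) (tt N5057 F49171) (tt N7048 D13506))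
theorem Q6046 : ∀ i, i < 6046 → P i := stepQ 6045 Q6045 (allL N6045 (tt N6926 (iv F52674)) (tt N5080 F49172) (tt N7047 (iv F53217)) (tt N6045 F49173) (tt N5052 (iv D12503)) (tt N7049 D13507) (tt N7044 (iv F53209)) (tt N5058 F49174) (tt N7050 D13508))
theorem Q6047 : ∀ i, i < 6047 → P i := stepQ 6046 Q6046 (allL N6046 (tt N6927 (iv F52678)) (tt N5081 F49175) (tt N7048 (iv F53219)) (tt N5053 F49176) (tt N7050 (iv F53227)) (tt N5408 F49177) (tt N7045 (iv F53213)) (tt N7051 D13509) (tt N5052 (iv D12504)))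
theorem Q6048 : ∀ i, i < 6048 → P i := stepQ 6047 Q6047 (allL N6047 (tt N6928 (iv F52682)) (tt N5082 F49178) (tt N7052 D13510) (tt N5054 (iv D12505)) (tt N7053 D13511) (tt N5055 F49179) (tt N5376 F49180) (tt N7041 (iv F53199)) (tt N7054 D13512))
theorem Q6049 : ∀ i, i < 6049 → P i := stepQ 6048 Q6048 (allL N6048 (tt N6929 (iv F52686)) (tt N5083 F49181) (tt N6119 (iv F49455)) (tt N7054 (iv F53241)) (tt N6048 F49182) (tt N5056 F49183) (tt N5386 F49184) (tt N5105 F49185) (tt N5054 (iv D12506)))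
theorem Q6050 : ∀ i, i < 6050 → P i := stepQ 6049 Q6049 (allL N6049 (tt N6930 (iv F52692)) (tt N7055 D13513) (tt N5055 (iv D12507)) (tt N6372 (iv F50527)) (tt N7056 D13514) (tt N7052 (iv F53233)) (tt N5057 F49186) (tt N7043 (iv F53205)) (tt N7057 D13515))
theorem Q6051 : ∀ i, i < 6051 → P i := stepQ 6050 Q6050 (allL N6050 (tt N6931 (iv F52694)) (tt N5085 F49187) (tt N7056 (iv F53248)) (tt N5061 F49188) (tt N5055 (iv D12508)) (tt N7058 D13516) (tt N5058 F49189) (tt N7044 (iv F53210)) (tt N7059 D13517))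
theorem Q6052 : ∀ i, i < 6052 → P i := stepQ 6051 Q6051 (allL N6051 (tt N6932 (iv F52699)) (tt N5086 F49190) (tt N7057 (iv F53250)) (tt N5056 F49191) (tt N7059 (iv F53259)) (tt N7054 (iv F53242)) (tt N5059 F49192) (tt N7060 D13518) (tt N5055 (iv D12509)))
theorem Q6053 : ∀ i, i < 6053 → P i := stepQ 6052 Q6052 (allL N6052 (tt N7061 D13519) (tt N5057 (iv D12510)) (tt N5087 F49193) (tt N6374 (iv F50533)) (tt N7062 D13520) (tt N5412 F49194) (tt N7055 (iv F53247)) (tt N7046 (iv F53216)) (tt N7063 D13521))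
theorem Q6054 : ∀ i, i < 6054 → P i := stepQ 6053 Q6053 (allL N6053 (tt N6934 (iv F52705)) (tt N7062 (iv F53266)) (tt N5058 F49195) (tt N7064 D13522) (tt N5057 (iv D12511)) (tt N7065 D13523) (tt N7056 (iv F53249)) (tt N7047 (iv F53218)) (tt N7066 D13524))
theorem Q6055 : ∀ i, i < 6055 → P i := stepQ 6054 Q6054 (allL N6054 (tt N6935 (iv F52707)) (tt N7063 (iv F53268)) (tt N5059 F49196) (tt N6376 (iv F50537)) (tt N7066 (iv F53275)) (tt N5414 F49197) (tt N7057 (iv F53251)) (tt N7067 D13525) (tt N5057 (iv D12512)))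
theorem Q6056 : ∀ i, i < 6056 → P i := stepQ 6055 Q6055 (allL N6055 (tt N6936 (iv F52710)) (tt N5090 F49198) (tt N7065 (iv F53272)) (tt N5065 F49199) (tt N5415 F49200) (tt N5058 (iv D12513)) (tt N7068 D13526) (tt N7049 (iv F53224)) (tt N7069 D13527))
theorem Q6057 : ∀ i, i < 6057 → P i := stepQ 6056 Q6056 (allL N6056 (tt N6937 (iv F52714)) (tt N5091 F49201) (tt N7066 (iv F53274)) (tt N5066 F49202) (tt N5059 F49203) (tt N7069 (iv F53284)) (tt N7059 (iv F53260)) (tt N7070 D13528) (tt N5058 (iv D12514)))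
theorem Q6058 : ∀ i, i < 6058 → P i := stepQ 6057 Q6057 (allL N6057 (tt N6938 (iv F52718)) (tt N5092 F49204) (tt N7067 (iv F53276)) (tt N5809 F49205) (tt N7070 (iv F53286)) (tt N5417 F49206) (tt N7060 (iv F53263)) (tt N5059 (iv D12515)) (tt N7051 (iv F53231)))
theorem Q6059 : ∀ i, i < 6059 → P i := stepQ 6058 Q6058 (allL N6058 (tt N6652 (iv F51588)) (tt N6058 F49207) (tt N5061 F49208) (tt N7071 D13529) (tt N5060 (iv D12516)) (tt N7072 D13530) (tt N5063 F49209) (tt N6058 F49210) (tt N7073 D13531))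
theorem Q6060 : ∀ i, i < 6060 → P i := stepQ 6059 Q6059 (allL N6059 (tt N6653 (iv F51593)) (tt N6059 F49211) (tt N5062 F49212) (tt N6380 (iv F50551)) (tt N7073 (iv F53296)) (tt N6059 F49213) (tt N5064 F49214) (tt N7074 D13532) (tt N5060 (iv D12517)))
theorem Q6061 : ∀ i, i < 6061 → P i := stepQ 6060 Q6060 (allL N6060 (tt N5748 F49215) (tt N5093 F49216) (tt N7072 (iv F53291)) (tt N7058 (iv F53254)) (tt N6060 F49217) (tt N5061 (iv D12518)) (tt N7075 D13533) (tt N6060 F49218) (tt N7076 D13534))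
theorem Q6062 : ∀ i, i < 6062 → P i := stepQ 6061 Q6061 (allL N6061 (tt N6939 (iv F52722)) (tt N5094 F49219) (tt N7073 (iv F53295)) (tt N7059 (iv F53258)) (tt N5062 F49220) (tt N7076 (iv F53311)) (tt N5066 F49221) (tt N7077 D13535) (tt N5061 (iv D12519)))
theorem Q6063 : ∀ i, i < 6063 → P i := stepQ 6062 Q6062 (allL N6062 (tt N6940 (iv F52727)) (tt N5095 F49222) (tt N7074 (iv F53299)) (tt N5566 F49223) (tt N7077 (iv F53313)) (tt N6062 F49224) (tt N5067 F49225) (tt N5062 (iv D12520)) (tt N6062 F49226))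
theorem Q6064 : ∀ i, i < 6064 → P i := stepQ 6063 Q6063 (allL N6063 (tt N6941 (iv F52733)) (tt N6063 F49227) (tt N7064 (iv F53271)) (tt N5063 (iv D12521)) (tt N6381 (iv F50556)) (tt N7078 D13536) (tt N7071 (iv F53288)) (tt N7079 D13537) (tt N7080 D13538))
theorem Q6065 : ∀ i, i < 6065 → P i := stepQ 6064 Q6064 (allL N6064 (tt N6942 (iv F52734)) (tt N6064 F49228) (tt N5065 F49229) (tt N7078 (iv F53317)) (tt N5069 F49230) (tt N5063 (iv D12522)) (tt N7081 D13539) (tt N6064 F49231) (tt N7082 D13540))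
theorem Q6066 : ∀ i, i < 6066 → P i := stepQ 6065 Q6065 (allL N6065 (tt N6943 (iv F52738)) (tt N6065 F49232) (tt N5066 F49233) (tt N7080 (iv F53321)) (tt N5064 F49234) (tt N7082 (iv F53329)) (tt N7073 (iv F53297)) (tt N7083 D13541) (tt N5063 (iv D12523)))
theorem Q6067 : ∀ i, i < 6067 → P i := stepQ 6066 Q6066 (allL N6066 (tt N6944 (iv F52741)) (tt N6066 F49235) (tt N5067 F49236) (tt N7084 D13542) (tt N7083 (iv F53332)) (tt N5071 F49237) (tt N7074 (iv F53301)) (tt N5064 (iv D12524)) (tt N6066 F49238))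
theorem Q6068 : ∀ i, i < 6068 → P i := stepQ 6067 Q6067 (allL N6067 (tt N6945 (iv F52745)) (tt N5096 F49239) (tt N7081 (iv F53323)) (tt N7068 (iv F53279)) (tt N5072 F49240) (tt N7075 (iv F53306)) (tt N5065 (iv D12525)) (tt N6067 F49241) (tt N7085 D13543))
theorem Q6069 : ∀ i, i < 6069 → P i := stepQ 6068 Q6068 (allL N6068 (tt N6946 (iv F52750)) (tt N5097 F49242) (tt N7082 (iv F53327)) (tt N7069 (iv F53282)) (tt N5073 F49243) (tt N5066 F49244) (tt N7085 (iv F53340)) (tt N7086 D13544) (tt N5065 (iv D12526)))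
theorem Q6070 : ∀ i, i < 6070 → P i := stepQ 6069 Q6069 (allL N6069 (tt N6947 (iv F52754)) (tt N5098 F49245) (tt N7083 (iv F53331)) (tt N7087 D13545) (tt N5067 F49246) (tt N7086 (iv F53343)) (tt N7077 (iv F53314)) (tt N5066 (iv D12527)) (tt N6069 F49247))
theorem Q6071 : ∀ i, i < 6071 → P i := stepQ 6070 Q6070 (allL N6070 (tt N6948 (iv F52758)) (tt N6070 F49248) (tt N5430 F49249) (tt N5069 F49250) (tt N7088 D13546) (tt N5068 (iv D12528)) (tt N7089 D13547) (tt N7090 D13548) (tt N7091 D13549))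
theorem Q6072 : ∀ i, i < 6072 → P i := stepQ 6071 Q6071 (allL N6071 (tt N6827 (iv F52222)) (tt N6071 F49251) (tt N5431 F49252) (tt N6071 F49253) (tt N6387 (iv F50579)) (tt N7090 (iv F53357)) (tt N6071 F49254) (tt N5068 (iv D12529)) (tt N6761 F52023))
theorem Q6073 : ∀ i, i < 6073 → P i := stepQ 6072 Q6072 (allL N6072 (tt N6828 (iv F52229)) (tt N6072 F49255) (tt N5432 F49256) (tt N5070 F49257) (tt N6388 (iv F50585)) (tt N7091 (iv F53361)) (tt N6072 F49258) (tt N6762 (iv F52030)) (tt N5068 (iv D12530)))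
theorem Q6074 : ∀ i, i < 6074 → P i := stepQ 6073 Q6073 (allL N6073 (tt N6949 (iv F52761)) (tt N6073 F49259) (tt N5072 F49260) (tt N7089 (iv F53352)) (tt N7081 (iv F53324)) (tt N6073 F49261) (tt N5069 (iv D12531)) (tt N6073 F49262) (tt N7092 D13550))
theorem Q6075 : ∀ i, i < 6075 → P i := stepQ 6074 Q6074 (allL N6074 (tt N6950 (iv F52765)) (tt N6074 F49263) (tt N5073 F49264) (tt N7091 (iv F53360)) (tt N7082 (iv F53328)) (tt N5070 F49265) (tt N7092 (iv F53365)) (tt N7093 D13551) (tt N5069 (iv D12532)))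
theorem Q6076 : ∀ i, i < 6076 → P i := stepQ 6075 Q6075 (allL N6075 (tt N6831 (iv F52244)) (tt N6075 F49266) (tt N5074 F49267) (tt N6765 (iv F52043)) (tt N5071 F49268) (tt N7093 (iv F53368)) (tt N6075 F49269) (tt N5070 (iv D12533)) (tt N6075 F49270))
theorem Q6077 : ∀ i, i < 6077 → P i := stepQ 6076 Q6076 (allL N6076 (tt N6832 (iv F52251)) (tt N6076 F49271) (tt N5823 F49272) (tt N5071 (iv D12534)) (tt N6766 (iv F52049)) (tt N7084 (iv F53336)) (tt N6076 F49273) (tt N6392 (iv F50605)) (tt N6076 F49274))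
theorem Q6078 : ∀ i, i < 6078 → P i := stepQ 6077 Q6077 (allL N6077 (tt N6951 (iv F52768)) (tt N5099 F49275) (tt N7092 (iv F53363)) (tt N5437 F49276) (tt N7085 (iv F53339)) (tt N6077 F49277) (tt N5073 F49278) (tt N7094 D13552) (tt N5072 (iv D12535)))
theorem Q6079 : ∀ i, i < 6079 → P i := stepQ 6078 Q6078 (allL N6078 (tt N6952 (iv F52773)) (tt N5100 F49279) (tt N7093 (iv F53367)) (tt N7095 D13553) (tt N7086 (iv F53342)) (tt N5074 F49280) (tt N7094 (iv F53372)) (tt N5073 (iv D12536)) (tt N6078 F49281))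
theorem Q6080 : ∀ i, i < 6080 → P i := stepQ 6079 Q6079 (allL N6079 (tt N6835 (iv F52265)) (tt N5101 F49282) (tt N6769 (iv F52063)) (tt N5074 (iv D12537)) (tt N5826 F49283) (tt N7095 (iv F53375)) (tt N6079 F49284) (tt N5439 F49285) (tt N6079 F49286))
theorem Q6081 : ∀ i, i < 6081 → P i := stepQ 6080 Q6080 (allL N6080 (tt N5106 F49287) (tt N7040 (iv F53190)) (tt N5166 F49288) (tt N5194 F49292) (tt N5076 F49289) (tt N6080 F49290) (tt N5440 F49291) (tt N5075 (iv D12538)) (tt N7096 D13554))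
theorem Q6082 : ∀ i, i < 6082 → P i := stepQ 6081 Q6081 (allL N6081 (tt N5107 F49293) (tt N7041 (iv F53195)) (tt N5227 F49294) (tt N5076 (iv D12539)) (tt N5226 F49295) (tt N5077 F49296) (tt N5373 F49297) (tt N5082 F49298) (tt N7097 D13555))
theorem Q6083 : ∀ i, i < 6083 → P i := stepQ 6082 Q6082 (allL N6082 (tt N5108 F49299) (tt N7042 (iv F53200)) (tt N5167 F49300) (tt N7097 (iv F53387)) (tt N7096 (iv F53381)) (tt N5078 F49301) (tt N5441 F49302) (tt N5173 F49303) (tt N5076 (iv D12540)))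
theorem Q6084 : ∀ i, i < 6084 → P i := stepQ 6083 Q6083 (allL N6083 (tt N5109 F49304) (tt N7098 D13556) (tt N5077 (iv D12541)) (tt N5168 F49305) (tt N5775 (iv F49309)) (tt N5227 F49306) (tt N5079 F49307) (tt N5084 F49308) (tt N7099 D13557))
theorem Q6085 : ∀ i, i < 6085 → P i := stepQ 6084 Q6084 (allL N6084 (tt N5110 F49310) (tt N7044 (iv F53206)) (tt N5775 F49311) (tt N6084 F49312) (tt N5077 (iv D12542)) (tt N5773 F49313) (tt N5080 F49314) (tt N5085 F49315) (tt N7100 D13558))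
theorem Q6086 : ∀ i, i < 6086 → P i := stepQ 6085 Q6085 (allL N6085 (tt N5111 F49316) (tt N7045 (iv F53211)) (tt N7099 (iv F53398)) (tt N5078 F49317) (tt N7100 (iv F53406)) (tt N7097 (iv F53389)) (tt N5081 F49318) (tt N7101 D13559) (tt N5077 (iv D12543)))
theorem Q6087 : ∀ i, i < 6087 → P i := stepQ 6086 Q6086 (allL N6086 (tt N7102 D13560) (tt N5079 (iv D12544)) (tt N7046 (iv F53214)) (tt N5171 F49319) (tt N7103 D13561) (tt N5444 F49320) (tt N7098 (iv F53395)) (tt N5087 F49321) (tt N7104 D13562))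
theorem Q6088 : ∀ i, i < 6088 → P i := stepQ 6087 Q6087 (allL N6087 (tt N5113 F49322) (tt N7103 (iv F53420)) (tt N5080 F49323) (tt N5778 F49324) (tt N5079 (iv D12545)) (tt N7105 D13563) (tt N5775 F49325) (tt N5088 F49326) (tt N7106 D13564))
theorem Q6089 : ∀ i, i < 6089 → P i := stepQ 6088 Q6088 (allL N6088 (tt N5114 F49327) (tt N7104 (iv F53424)) (tt N5081 F49328) (tt N5173 F49329) (tt N7106 (iv F53436)) (tt N5446 F49330) (tt N7099 (iv F53402)) (tt N7107 D13565) (tt N5079 (iv D12546)))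
theorem Q6090 : ∀ i, i < 6090 → P i := stepQ 6089 Q6089 (allL N6089 (tt N5115 F49331) (tt N7049 (iv F53221)) (tt N7105 (iv F53428)) (tt N6089 F49332) (tt N5447 F49333) (tt N5080 (iv D12547)) (tt N7108 D13566) (tt N5090 F49334) (tt N7109 D13567))
theorem Q6091 : ∀ i, i < 6091 → P i := stepQ 6090 Q6090 (allL N6090 (tt N5116 F49335) (tt N7050 (iv F53225)) (tt N7106 (iv F53434)) (tt N6090 F49336) (tt N5081 F49337) (tt N7109 (iv F53451)) (tt N7100 (iv F53408)) (tt N7110 D13568) (tt N5080 (iv D12548)))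
theorem Q6092 : ∀ i, i < 6092 → P i := stepQ 6091 Q6091 (allL N6091 (tt N5117 F49338) (tt N7051 (iv F53228)) (tt N7107 (iv F53439)) (tt N5829 F49339) (tt N7110 (iv F53453)) (tt N5449 F49340) (tt N7101 (iv F53411)) (tt N5081 (iv D12549)) (tt N5092 F49341))
theorem Q6093 : ∀ i, i < 6093 → P i := stepQ 6092 Q6092 (allL N6092 (tt N5118 F49342) (tt N7053 (iv F53235)) (tt N5222 F49343) (tt N6092 F49344) (tt N5082 (iv D12550)) (tt N5769 (iv F49347)) (tt N5377 F49345) (tt N5226 F49346) (tt N7111 D13569))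
theorem Q6094 : ∀ i, i < 6094 → P i := stepQ 6093 Q6093 (allL N6093 (tt N5119 F49348) (tt N7054 (iv F53240)) (tt N5375 F49349) (tt N5083 F49350) (tt N7111 (iv F53458)) (tt N5086 F49351) (tt N5378 F49352) (tt N7112 D13570) (tt N5082 (iv D12551)))
theorem Q6095 : ∀ i, i < 6095 → P i := stepQ 6094 Q6094 (allL N6094 (tt N7113 D13571) (tt N5084 (iv D12552)) (tt N7055 (iv F53244)) (tt N5102 F49353) (tt N7114 D13572) (tt N5354 F49354) (tt N5087 F49355) (tt N7098 (iv F53396)) (tt N7115 D13573))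
theorem Q6096 : ∀ i, i < 6096 → P i := stepQ 6095 Q6095 (allL N6095 (tt N5121 F49356) (tt N7114 (iv F53473)) (tt N5085 F49357) (tt N6095 F49358) (tt N5084 (iv D12553)) (tt N5770 F49359) (tt N5088 F49360) (tt N5775 F49361) (tt N7116 D13574))
theorem Q6097 : ∀ i, i < 6097 → P i := stepQ 6096 Q6096 (allL N6096 (tt N5122 F49362) (tt N7115 (iv F53478)) (tt N5086 F49363) (tt N5103 F49364) (tt N7116 (iv F53485)) (tt N5375 F49365) (tt N5089 F49366) (tt N7117 D13575) (tt N5084 (iv D12554)))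
theorem Q6098 : ∀ i, i < 6098 → P i := stepQ 6097 Q6097 (allL N6097 (tt N5123 F49367) (tt N7058 (iv F53253)) (tt N5770 F49368) (tt N5093 F49369) (tt N5769 F49370) (tt N5085 (iv D12555)) (tt N7118 D13576) (tt N5773 F49371) (tt N7119 D13577))
theorem Q6099 : ∀ i, i < 6099 → P i := stepQ 6098 Q6098 (allL N6098 (tt N5124 F49372) (tt N7059 (iv F53257)) (tt N7116 (iv F53483)) (tt N5094 F49373) (tt N5086 F49374) (tt N7119 (iv F53503)) (tt N5091 F49375) (tt N7120 D13578) (tt N5085 (iv D12556)))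
theorem Q6100 : ∀ i, i < 6100 → P i := stepQ 6099 Q6099 (allL N6099 (tt N5125 F49376) (tt N7060 (iv F53261)) (tt N7117 (iv F53489)) (tt N5458 F49377) (tt N7120 (iv F53505)) (tt N7112 (iv F53464)) (tt N5092 F49378) (tt N5086 (iv D12557)) (tt N7101 (iv F53412)))
theorem Q6101 : ∀ i, i < 6101 → P i := stepQ 6100 Q6100 (allL N6100 (tt N5087 (iv D12558)) (tt N5126 F49379) (tt N7061 (iv F53264)) (tt N5104 F49380) (tt N7121 D13579) (tt N5453 F49381) (tt N7113 (iv F53469)) (tt N7102 (iv F53417)) (tt N7122 D13580))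
theorem Q6102 : ∀ i, i < 6102 → P i := stepQ 6101 Q6101 (allL N6101 (tt N7121 (iv F53507)) (tt N5088 F49382) (tt N7062 (iv F53267)) (tt N6101 F49383) (tt N5087 (iv D12559)) (tt N7123 D13581) (tt N7114 (iv F53476)) (tt N7103 (iv F53423)) (tt N7124 D13582))
theorem Q6103 : ∀ i, i < 6103 → P i := stepQ 6102 Q6102 (allL N6102 (tt N7122 (iv F53512)) (tt N5089 F49384) (tt N7063 (iv F53269)) (tt N5105 F49385) (tt N7124 (iv F53521)) (tt N5455 F49386) (tt N7115 (iv F53481)) (tt N7125 D13583) (tt N5087 (iv D12560)))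
theorem Q6104 : ∀ i, i < 6104 → P i := stepQ 6103 Q6103 (allL N6103 (tt N5129 F49387) (tt N7123 (iv F53516)) (tt N5090 F49388) (tt N6103 F49389) (tt N5456 F49390) (tt N5088 (iv D12561)) (tt N7126 D13584) (tt N7105 (iv F53432)) (tt N7127 D13585))
theorem Q6105 : ∀ i, i < 6105 → P i := stepQ 6104 Q6104 (allL N6104 (tt N5130 F49391) (tt N7124 (iv F53519)) (tt N5091 F49392) (tt N6104 F49393) (tt N5089 F49394) (tt N7127 (iv F53534)) (tt N7116 (iv F53487)) (tt N7128 D13586) (tt N5088 (iv D12562)))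
theorem Q6106 : ∀ i, i < 6106 → P i := stepQ 6105 Q6105 (allL N6105 (tt N5131 F49395) (tt N7125 (iv F53522)) (tt N5092 F49396) (tt N7112 (iv F53463)) (tt N7128 (iv F53537)) (tt N5458 F49397) (tt N7117 (iv F53492)) (tt N5089 (iv D12563)) (tt N7107 (iv F53441)))
theorem Q6107 : ∀ i, i < 6107 → P i := stepQ 6106 Q6106 (allL N6106 (tt N5132 F49398) (tt N7068 (iv F53278)) (tt N7126 (iv F53525)) (tt N5096 F49399) (tt N5459 F49400) (tt N7118 (iv F53497)) (tt N5090 (iv D12564)) (tt N7108 (iv F53447)) (tt N7129 D13587))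
theorem Q6108 : ∀ i, i < 6108 → P i := stepQ 6107 Q6107 (allL N6107 (tt N5133 F49401) (tt N7069 (iv F53281)) (tt N7127 (iv F53531)) (tt N5097 F49402) (tt N5460 F49403) (tt N5091 F49404) (tt N7129 (iv F53541)) (tt N7130 D13588) (tt N5090 (iv D12565)))
theorem Q6109 : ∀ i, i < 6109 → P i := stepQ 6108 Q6108 (allL N6108 (tt N5134 F49405) (tt N7070 (iv F53285)) (tt N7128 (iv F53536)) (tt N7131 D13589) (tt N5092 F49406) (tt N7130 (iv F53544)) (tt N7120 (iv F53506)) (tt N5091 (iv D12566)) (tt N7110 (iv F53454)))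
theorem Q6110 : ∀ i, i < 6110 → P i := stepQ 6109 Q6109 (allL N6109 (tt N5135 F49407) (tt N7075 (iv F53304)) (tt N6109 F49408) (tt N7118 (iv F53495)) (tt N6109 F49409) (tt N5096 F49410) (tt N5093 (iv D12567)) (tt N6109 F49411) (tt N7132 D13590))
theorem Q6111 : ∀ i, i < 6111 → P i := stepQ 6110 Q6110 (allL N6110 (tt N5136 F49412) (tt N7076 (iv F53309)) (tt N6110 F49413) (tt N7119 (iv F53501)) (tt N6110 F49414) (tt N5094 F49415) (tt N7132 (iv F53552)) (tt N7133 D13591) (tt N5093 (iv D12568)))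
theorem Q6112 : ∀ i, i < 6112 → P i := stepQ 6111 Q6111 (allL N6111 (tt N5137 F49416) (tt N7077 (iv F53312)) (tt N6111 F49417) (tt N7134 D13592) (tt N5095 F49418) (tt N7133 (iv F53557)) (tt N5098 F49419) (tt N5094 (iv D12569)) (tt N6111 F49420))
theorem Q6113 : ∀ i, i < 6113 → P i := stepQ 6112 Q6112 (allL N6112 (tt N5138 F49421) (tt N7085 (iv F53338)) (tt N6112 F49422) (tt N7129 (iv F53539)) (tt N5099 F49423) (tt N7132 (iv F53551)) (tt N5097 F49424) (tt N7135 D13593) (tt N5096 (iv D12570)))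
theorem Q6114 : ∀ i, i < 6114 → P i := stepQ 6113 Q6113 (allL N6113 (tt N5139 F49425) (tt N7086 (iv F53341)) (tt N6113 F49426) (tt N7136 D13594) (tt N5100 F49427) (tt N5098 F49428) (tt N7135 (iv F53568)) (tt N5097 (iv D12571)) (tt N6113 F49429))
theorem Q6115 : ∀ i, i < 6115 → P i := stepQ 6114 Q6114 (allL N6114 (tt N5140 F49430) (tt N7087 (iv F53345)) (tt N7137 D13595) (tt N5098 (iv D12572)) (tt N5835 F49431) (tt N7136 (iv F53571)) (tt N7134 (iv F53562)) (tt N7131 (iv F53547)) (tt N6114 F49432))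
theorem Q6116 : ∀ i, i < 6116 → P i := stepQ 6115 Q6115 (allL N6115 (tt N5141 F49433) (tt N7094 (iv F53370)) (tt N6115 F49434) (tt N6914 (iv F52612)) (tt N7135 (iv F53566)) (tt N6115 F49435) (tt N5100 F49436) (tt N5099 (iv D12573)) (tt N6115 F49437))
theorem Q6117 : ∀ i, i < 6117 → P i := stepQ 6116 Q6116 (allL N6116 (tt N5142 F49438) (tt N7095 (iv F53374)) (tt N6911 (iv F52593)) (tt N5100 (iv D12574)) (tt N6992 (iv F52966)) (tt N5101 F49439) (tt N6914 (iv F52615)) (tt N5469 F49440) (tt N6116 F49441))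
theorem Q6118 : ∀ i, i < 6118 → P i := stepQ 6117 Q6117 (allL N6117 (tt N5143 F49442) (tt N6785 (iv F52112)) (tt N5101 (iv D12575)) (tt N6117 F49443) (tt N5838 F49444) (tt N6911 (iv F52596)) (tt N6117 F49445) (tt N5470 F49446) (tt N6117 F49447))
theorem Q6119 : ∀ i, i < 6119 → P i := stepQ 6118 Q6118 (allL N6118 (tt N5102 (iv D12576)) (tt N5144 F49448) (tt N5935 F49449) (tt N7113 (iv F53467)) (tt N6118 F49450) (tt N5210 F49451) (tt N5104 F49452) (tt N5178 F49453) (tt N7138 D13596))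
theorem Q6120 : ∀ i, i < 6120 → P i := stepQ 6119 Q6119 (allL N6119 (tt N7138 (iv F53577)) (tt N5103 F49454) (tt N6048 F49455) (tt N7115 (iv F53479)) (tt N6119 F49456) (tt N5355 F49457) (tt N5105 F49458) (tt N5386 F49459) (tt N5102 (iv D12577)))
theorem Q6121 : ∀ i, i < 6121 → P i := stepQ 6120 Q6120 (allL N6120 (tt N5105 F49460) (tt N5146 F49461) (tt N6265 (iv F50136)) (tt N7122 (iv F53514)) (tt N6120 F49462) (tt N5471 F49463) (tt N7138 (iv F53582)) (tt N6929 (iv F52691)) (tt N5104 (iv D12578)))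
theorem Q6122 : ∀ i, i < 6122 → P i := stepQ 6121 Q6121 (allL N6121 (tt N7096 (iv F53378)) (tt N5395 F49464) (tt N5179 F49465) (tt N5201 F49466) (tt N5108 F49467) (tt N6121 F49468) (tt N5244 F49469) (tt N5184 F49470) (tt N5106 (iv D12579)))
theorem Q6123 : ∀ i, i < 6123 → P i := stepQ 6122 Q6122 (allL N6122 (tt N7097 (iv F53385)) (tt N6996 (iv F52980)) (tt N5242 F49471) (tt N5108 F49472) (tt N5241 F49473) (tt N5111 F49474) (tt N5387 F49475) (tt N7139 D13597) (tt N5107 (iv D12580)))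
theorem Q6124 : ∀ i, i < 6124 → P i := stepQ 6123 Q6123 (allL N6123 (tt N7099 (iv F53397)) (tt N5393 F49476) (tt N5111 F49477) (tt N5180 F49478) (tt N5791 F49479) (tt N5242 F49480) (tt N5114 F49481) (tt N7140 D13598) (tt N5109 (iv D12581)))
theorem Q6125 : ∀ i, i < 6125 → P i := stepQ 6124 Q6124 (allL N6124 (tt N7100 (iv F53403)) (tt N6998 (iv F52992)) (tt N5791 F49482) (tt N6124 F49483) (tt N5111 F49484) (tt N5789 F49485) (tt N5116 F49486) (tt N7141 D13599) (tt N5110 (iv D12582)))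
theorem Q6126 : ∀ i, i < 6126 → P i := stepQ 6125 Q6125 (allL N6125 (tt N7101 (iv F53409)) (tt N6999 (iv F52998)) (tt N7140 (iv F53591)) (tt N5479 F49487) (tt N7141 (iv F53598)) (tt N7139 (iv F53587)) (tt N5117 F49488) (tt N5111 (iv D12583)) (tt N5125 F49489))
theorem Q6127 : ∀ i, i < 6127 → P i := stepQ 6126 Q6126 (allL N6126 (tt N5112 (iv D12584)) (tt N7102 (iv F53413)) (tt N7000 (iv F53002)) (tt N5182 F49490) (tt N5830 F49491) (tt N5474 F49492) (tt N5379 F49493) (tt N5126 F49494) (tt N7142 D13600))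
theorem Q6128 : ∀ i, i < 6128 → P i := stepQ 6127 Q6127 (allL N6127 (tt N7142 (iv F53602)) (tt N5114 F49495) (tt N7001 (iv F53009)) (tt N5183 F49496) (tt N5841 F49497) (tt N5476 F49498) (tt N5393 F49499) (tt N7143 D13601) (tt N5112 (iv D12585)))
theorem Q6129 : ∀ i, i < 6129 → P i := stepQ 6128 Q6128 (allL N6128 (tt N7105 (iv F53427)) (tt N5491 F49500) (tt N5115 F49501) (tt N5583 F49502) (tt N5477 F49503) (tt N5113 (iv D12586)) (tt N5488 F49504) (tt N5129 F49505) (tt N7144 D13602))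
theorem Q6130 : ∀ i, i < 6130 → P i := stepQ 6129 Q6129 (allL N6129 (tt N7106 (iv F53433)) (tt N5841 F49506) (tt N5116 F49507) (tt N5793 F49508) (tt N5114 F49509) (tt N7144 (iv F53616)) (tt N5791 F49510) (tt N7145 D13603) (tt N5113 (iv D12587)))
theorem Q6131 : ∀ i, i < 6131 → P i := stepQ 6130 Q6130 (allL N6130 (tt N7107 (iv F53438)) (tt N7143 (iv F53607)) (tt N5117 F49511) (tt N7139 (iv F53585)) (tt N7145 (iv F53620)) (tt N5479 F49512) (tt N7140 (iv F53595)) (tt N5114 (iv D12588)) (tt N5131 F49513))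
theorem Q6132 : ∀ i, i < 6132 → P i := stepQ 6131 Q6131 (allL N6131 (tt N7108 (iv F53442)) (tt N5331 F49514) (tt N5488 F49515) (tt N6131 F49516) (tt N5480 F49517) (tt N5329 F49518) (tt N5115 (iv D12589)) (tt N5132 F49519) (tt N7146 D13604))
theorem Q6133 : ∀ i, i < 6133 → P i := stepQ 6132 Q6132 (allL N6132 (tt N7109 (iv F53448)) (tt N7004 (iv F53023)) (tt N7144 (iv F53613)) (tt N6132 F49520) (tt N5481 F49521) (tt N5116 F49522) (tt N7146 (iv F53628)) (tt N7147 D13605) (tt N5115 (iv D12590)))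
theorem Q6134 : ∀ i, i < 6134 → P i := stepQ 6133 Q6133 (allL N6133 (tt N7110 (iv F53452)) (tt N7005 (iv F53029)) (tt N7145 (iv F53619)) (tt N7148 D13606) (tt N5117 F49523) (tt N7147 (iv F53630)) (tt N7141 (iv F53600)) (tt N5116 (iv D12591)) (tt N5134 F49524))
theorem Q6135 : ∀ i, i < 6135 → P i := stepQ 6134 Q6134 (allL N6134 (tt N7111 (iv F53455)) (tt N7007 (iv F53038)) (tt N5237 F49525) (tt N6134 F49526) (tt N5119 F49527) (tt N5786 F49528) (tt N5391 F49529) (tt N7149 D13607) (tt N5118 (iv D12592)))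
theorem Q6136 : ∀ i, i < 6136 → P i := stepQ 6135 Q6135 (allL N6135 (tt N7112 (iv F53461)) (tt N7008 (iv F53044)) (tt N5389 F49530) (tt N5131 F49531) (tt N7149 (iv F53636)) (tt N5125 F49532) (tt N5392 F49533) (tt N5119 (iv D12593)) (tt N7139 (iv F53589)))
theorem Q6137 : ∀ i, i < 6137 → P i := stepQ 6136 Q6136 (allL N6136 (tt N5120 (iv D12594)) (tt N7113 (iv F53466)) (tt N7009 (iv F53048)) (tt N5144 F49534) (tt N5827 F49535) (tt N5224 F49536) (tt N5126 F49537) (tt N5379 F49538) (tt N7150 D13608))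
theorem Q6138 : ∀ i, i < 6138 → P i := stepQ 6137 Q6137 (allL N6137 (tt N7150 (iv F53640)) (tt N5122 F49539) (tt N7010 (iv F53055)) (tt N5145 F49540) (tt N5839 F49541) (tt N5239 F49542) (tt N5128 F49543) (tt N7151 D13609) (tt N5120 (iv D12595)))
theorem Q6139 : ∀ i, i < 6139 → P i := stepQ 6138 Q6138 (allL N6138 (tt N7116 (iv F53482)) (tt N5839 F49544) (tt N5124 F49545) (tt N6138 F49546) (tt N5122 F49547) (tt N5787 F49548) (tt N5130 F49549) (tt N7152 D13610) (tt N5121 (iv D12596)))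
theorem Q6140 : ∀ i, i < 6140 → P i := stepQ 6139 Q6139 (allL N6139 (tt N7117 (iv F53488)) (tt N7151 (iv F53645)) (tt N5125 F49550) (tt N5392 F49551) (tt N7152 (iv F53653)) (tt N5389 F49552) (tt N5131 F49553) (tt N5122 (iv D12597)) (tt N7140 (iv F53596)))
theorem Q6141 : ∀ i, i < 6141 → P i := stepQ 6140 Q6140 (allL N6140 (tt N7118 (iv F53493)) (tt N5316 F49554) (tt N5475 F49555) (tt N5135 F49556) (tt N5315 F49557) (tt N5132 F49558) (tt N5123 (iv D12598)) (tt N5329 F49559) (tt N7153 D13611))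
theorem Q6142 : ∀ i, i < 6142 → P i := stepQ 6141 Q6141 (allL N6141 (tt N7119 (iv F53499)) (tt N5501 F49560) (tt N5787 F49561) (tt N5136 F49562) (tt N5786 F49563) (tt N5124 F49564) (tt N7153 (iv F53662)) (tt N7154 D13612) (tt N5123 (iv D12599)))
theorem Q6143 : ∀ i, i < 6143 → P i := stepQ 6142 Q6142 (allL N6142 (tt N7120 (iv F53504)) (tt N7012 (iv F53063)) (tt N7152 (iv F53652)) (tt N7155 D13613) (tt N5125 F49565) (tt N7154 (iv F53666)) (tt N5134 F49566) (tt N5124 (iv D12600)) (tt N7141 (iv F53601)))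
theorem Q6144 : ∀ i, i < 6144 → P i := stepQ 6143 Q6143 (allL N6143 (tt N5127 F49567) (tt N7121 (iv F53508)) (tt N7013 (iv F53069)) (tt N6143 F49568) (tt N5126 (iv D12601)) (tt N7156 D13614) (tt N5827 F49569) (tt N5830 F49570) (tt N7157 D13615))
theorem Q6145 : ∀ i, i < 6145 → P i := stepQ 6144 Q6144 (allL N6144 (tt N5128 F49571) (tt N7122 (iv F53513)) (tt N7014 (iv F53075)) (tt N5146 F49572) (tt N7157 (iv F53679)) (tt N5487 F49573) (tt N7150 (iv F53644)) (tt N7158 D13616) (tt N5126 (iv D12602)))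
theorem Q6146 : ∀ i, i < 6146 → P i := stepQ 6145 Q6145 (allL N6145 (tt N7156 (iv F53671)) (tt N5129 F49574) (tt N5480 F49575) (tt N6145 F49576) (tt N5488 F49577) (tt N5127 (iv D12603)) (tt N5477 F49578) (tt N5491 F49579) (tt N7159 D13617))
theorem Q6147 : ∀ i, i < 6147 → P i := stepQ 6146 Q6146 (allL N6146 (tt N7157 (iv F53677)) (tt N5130 F49580) (tt N7015 (iv F53079)) (tt N6146 F49581) (tt N5128 F49582) (tt N7159 (iv F53687)) (tt N5839 F49583) (tt N7160 D13618) (tt N5127 (iv D12604)))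
theorem Q6148 : ∀ i, i < 6148 → P i := stepQ 6147 Q6147 (allL N6147 (tt N7158 (iv F53681)) (tt N5131 F49584) (tt N7016 (iv F53085)) (tt N7008 (iv F53045)) (tt N7160 (iv F53690)) (tt N5490 F49585) (tt N7151 (iv F53649)) (tt N5128 (iv D12605)) (tt N7143 (iv F53611)))
theorem Q6149 : ∀ i, i < 6149 → P i := stepQ 6148 Q6148 (allL N6148 (tt N7126 (iv F53524)) (tt N5477 F49586) (tt N5132 F49587) (tt N6148 F49588) (tt N5491 F49589) (tt N5475 F49590) (tt N5129 (iv D12606)) (tt N5488 F49591) (tt N7161 D13619))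
theorem Q6150 : ∀ i, i < 6150 → P i := stepQ 6149 Q6149 (allL N6149 (tt N7127 (iv F53530)) (tt N7159 (iv F53683)) (tt N5133 F49592) (tt N6149 F49593) (tt N5492 F49594) (tt N5130 F49595) (tt N7161 (iv F53698)) (tt N7162 D13620) (tt N5129 (iv D12607)))
theorem Q6151 : ∀ i, i < 6151 → P i := stepQ 6150 Q6150 (allL N6150 (tt N7128 (iv F53535)) (tt N7160 (iv F53689)) (tt N5134 F49596) (tt N7163 D13621) (tt N5131 F49597) (tt N7162 (iv F53701)) (tt N7152 (iv F53655)) (tt N5130 (iv D12608)) (tt N7145 (iv F53622)))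
theorem Q6152 : ∀ i, i < 6152 → P i := stepQ 6151 Q6151 (allL N6151 (tt N7129 (iv F53538)) (tt N7020 (iv F53100)) (tt N7161 (iv F53694)) (tt N5138 F49598) (tt N5494 F49599) (tt N7153 (iv F53661)) (tt N5133 F49600) (tt N7164 D13622) (tt N5132 (iv D12609)))
theorem Q6153 : ∀ i, i < 6153 → P i := stepQ 6152 Q6152 (allL N6152 (tt N7130 (iv F53542)) (tt N7021 (iv F53106)) (tt N7162 (iv F53699)) (tt N7165 D13623) (tt N5495 F49601) (tt N5134 F49602) (tt N7164 (iv F53704)) (tt N5133 (iv D12610)) (tt N7147 (iv F53631)))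
theorem Q6154 : ∀ i, i < 6154 → P i := stepQ 6153 Q6153 (allL N6153 (tt N7131 (iv F53545)) (tt N7022 (iv F53109)) (tt N7166 D13624) (tt N5134 (iv D12611)) (tt N5843 F49603) (tt N7165 (iv F53705)) (tt N7155 (iv F53669)) (tt N5140 F49604) (tt N7148 (iv F53634)))
theorem Q6155 : ∀ i, i < 6155 → P i := stepQ 6154 Q6154 (allL N6154 (tt N7132 (iv F53548)) (tt N5594 F49605) (tt N6154 F49606) (tt N7153 (iv F53659)) (tt N6154 F49607) (tt N5138 F49608) (tt N5136 F49609) (tt N5886 (iv F49610)) (tt N5135 (iv D12612)))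
theorem Q6156 : ∀ i, i < 6156 → P i := stepQ 6155 Q6155 (allL N6155 (tt N7133 (iv F53554)) (tt N5591 F49611) (tt N6155 F49612) (tt N7167 D13625) (tt N6155 F49613) (tt N5137 F49614) (tt N5886 F49615) (tt N5136 (iv D12613)) (tt N6155 F49616))
theorem Q6157 : ∀ i, i < 6157 → P i := stepQ 6156 Q6156 (allL N6156 (tt N7134 (iv F53560)) (tt N7023 (iv F53112)) (tt N7168 D13626) (tt N5137 (iv D12614)) (tt N5588 F49617) (tt N7167 (iv F53710)) (tt N5140 F49618) (tt N7155 (iv F53670)) (tt N6156 F49619))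
theorem Q6158 : ∀ i, i < 6158 → P i := stepQ 6157 Q6157 (allL N6157 (tt N7135 (iv F53564)) (tt N5884 F49620) (tt N6157 F49621) (tt N7031 (iv F53155)) (tt N5141 F49622) (tt N5886 F49623) (tt N5139 F49624) (tt N5138 (iv D12615)) (tt N6157 F49625))
theorem Q6159 : ∀ i, i < 6159 → P i := stepQ 6158 Q6158 (allL N6158 (tt N7136 (iv F53570)) (tt N7024 (iv F53118)) (tt N7169 D13627) (tt N5139 (iv D12616)) (tt N7028 (iv F53140)) (tt N5140 F49626) (tt N7031 (iv F53156)) (tt N7165 (iv F53706)) (tt N6158 F49627))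
theorem Q6160 : ∀ i, i < 6160 → P i := stepQ 6159 Q6159 (allL N6159 (tt N7137 (iv F53573)) (tt N7170 D13628) (tt N5140 (iv D12617)) (tt N6159 F49628) (tt N5846 F49629) (tt N7169 (iv F53719)) (tt N7168 (iv F53715)) (tt N7166 (iv F53708)) (tt N6159 F49630))
theorem Q6161 : ∀ i, i < 6161 → P i := stepQ 6160 Q6160 (allL N6160 (tt N5145 F49631) (tt N7138 (iv F53578)) (tt N5147 F49632) (tt N7150 (iv F53641)) (tt N6160 F49633) (tt N5225 F49634) (tt N5146 F49635) (tt N5287 F49636) (tt N5144 (iv D12618)))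
theorem Q6162 : ∀ i, i < 6162 → P i := stepQ 6161 Q6161 (allL N6161 (tt N6161 F49637) (tt N7033 (iv F53166)) (tt N5152 F49638) (tt N6738 F51935) (tt N5148 (iv D12619)) (tt N6161 F49639) (tt N5509 F49640) (tt N6740 (iv F51948)) (tt N5162 F49641))
theorem Q6163 : ∀ i, i < 6163 → P i := stepQ 6162 Q6162 (allL N6162 (tt N6162 F49642) (tt N7034 (iv F53171)) (tt N5153 F49643) (tt N7171 D13629) (tt N6740 F51949) (tt N5149 F49644) (tt N5506 F49645) (tt N5148 (iv D12620)) (tt N7172 D13630))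
theorem Q6164 : ∀ i, i < 6164 → P i := stepQ 6163 Q6163 (allL N6163 (tt N6163 F49646) (tt N7035 (iv F53175)) (tt N7173 D13631) (tt N5149 (iv D12621)) (tt N7174 D13632) (tt N7171 (iv F53729)) (tt N5150 F49647) (tt N6530 (iv F51062)) (tt N7175 D13633))
theorem Q6165 : ∀ i, i < 6165 → P i := stepQ 6164 Q6164 (allL N6164 (tt N6164 F49648) (tt N7036 (iv F53177)) (tt N5155 F49649) (tt N7175 (iv F53745)) (tt N6164 F49650) (tt N7172 (iv F53733)) (tt N5151 F49651) (tt N5517 F49652) (tt N5149 (iv D12622)))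
theorem Q6166 : ∀ i, i < 6166 → P i := stepQ 6165 Q6165 (allL N6165 (tt N6165 F49653) (tt N7176 D13634) (tt N5150 (iv D12623)) (tt N5156 F49654) (tt N7177 D13635) (tt N5513 F49655) (tt N7173 (iv F53739)) (tt N6532 (iv F51071)) (tt N7178 D13636))
theorem Q6167 : ∀ i, i < 6167 → P i := stepQ 6166 Q6166 (allL N6166 (tt N6166 F49656) (tt N7038 (iv F53184)) (tt N7177 (iv F53750)) (tt N6166 F49657) (tt N5150 (iv D12624)) (tt N7179 D13637) (tt N7174 (iv F53743)) (tt N6533 (iv F51074)) (tt N7180 D13638))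
theorem Q6168 : ∀ i, i < 6168 → P i := stepQ 6167 Q6167 (allL N6167 (tt N6167 F49658) (tt N7039 (iv F53186)) (tt N7178 (iv F53755)) (tt N5151 F49659) (tt N7180 (iv F53765)) (tt N5515 F49660) (tt N7175 (iv F53746)) (tt N7181 D13639) (tt N5150 (iv D12625)))
theorem Q6169 : ∀ i, i < 6169 → P i := stepQ 6168 Q6168 (allL N6168 (tt N6168 F49661) (tt N5166 F49662) (tt N6740 (iv F51945)) (tt N5185 F49663) (tt N5153 F49664) (tt N6168 F49665) (tt N5507 F49666) (tt N5152 (iv D12626)) (tt N7182 D13640))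
theorem Q6170 : ∀ i, i < 6170 → P i := stepQ 6169 Q6169 (allL N6169 (tt N6169 F49667) (tt N5167 F49668) (tt N7172 (iv F53732)) (tt N5505 F49669) (tt N7182 (iv F53772)) (tt N5155 F49670) (tt N5508 F49671) (tt N5158 F49672) (tt N5153 (iv D12627)))
theorem Q6171 : ∀ i, i < 6171 → P i := stepQ 6170 Q6170 (allL N6170 (tt N6170 F49673) (tt N7183 D13641) (tt N5154 (iv D12628)) (tt N7173 (iv F53737)) (tt N7184 D13642) (tt N5502 F49674) (tt N5156 F49675) (tt N5159 F49676) (tt N7185 D13643))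
theorem Q6172 : ∀ i, i < 6172 → P i := stepQ 6171 Q6171 (allL N6171 (tt N6171 F49677) (tt N5169 F49678) (tt N7184 (iv F53784)) (tt N6171 F49679) (tt N5154 (iv D12629)) (tt N5188 F49680) (tt N5157 F49681) (tt N5160 F49682) (tt N7186 D13644))
theorem Q6173 : ∀ i, i < 6173 → P i := stepQ 6172 Q6172 (allL N6172 (tt N6172 F49683) (tt N5170 F49684) (tt N7185 (iv F53789)) (tt N5155 F49685) (tt N7186 (iv F53796)) (tt N5505 F49686) (tt N5158 F49687) (tt N5508 F49688) (tt N5154 (iv D12630)))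
theorem Q6174 : ∀ i, i < 6174 → P i := stepQ 6173 Q6173 (allL N6173 (tt N7187 D13645) (tt N5156 (iv D12631)) (tt N5171 F49689) (tt N7176 (iv F53747)) (tt N7188 D13646) (tt N5516 F49690) (tt N7183 (iv F53778)) (tt N5161 F49691) (tt N7189 D13647))
theorem Q6175 : ∀ i, i < 6175 → P i := stepQ 6174 Q6174 (allL N6174 (tt N6174 F49692) (tt N7188 (iv F53807)) (tt N5157 F49693) (tt N7190 D13648) (tt N5156 (iv D12632)) (tt N6174 F49694) (tt N7184 (iv F53786)) (tt N5162 F49695) (tt N7191 D13649))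
theorem Q6176 : ∀ i, i < 6176 → P i := stepQ 6175 Q6175 (allL N6175 (tt N6175 F49696) (tt N7189 (iv F53812)) (tt N5158 F49697) (tt N7178 (iv F53756)) (tt N7191 (iv F53822)) (tt N5517 F49698) (tt N7185 (iv F53791)) (tt N7172 (iv F53735)) (tt N5156 (iv D12633)))
theorem Q6177 : ∀ i, i < 6177 → P i := stepQ 6176 Q6176 (allL N6176 (tt N6176 F49699) (tt N5174 F49700) (tt N7191 (iv F53821)) (tt N6176 F49701) (tt N5158 F49702) (tt N6176 F49703) (tt N7186 (iv F53798)) (tt N7182 (iv F53775)) (tt N5157 (iv D12634)))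
theorem Q6178 : ∀ i, i < 6178 → P i := stepQ 6177 Q6177 (allL N6177 (tt N5641 (iv F49709)) (tt N5159 (iv D12635)) (tt N5175 F49704) (tt N6036 F49705) (tt N5597 (iv F49710)) (tt N5350 F49706) (tt N5161 F49707) (tt N7183 (iv F53779)) (tt N5398 F49708))
theorem Q6179 : ∀ i, i < 6179 → P i := stepQ 6178 Q6178 (allL N6178 (tt N6178 F49711) (tt N5597 F49712) (tt N5160 F49713) (tt N6739 F51943) (tt N5159 (iv D12636)) (tt N5595 F49714) (tt N5162 F49715) (tt N7184 (iv F53787)) (tt N5509 F49716))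
theorem Q6180 : ∀ i, i < 6180 → P i := stepQ 6179 Q6179 (allL N6179 (tt N5161 (iv D12637)) (tt N6179 F49717) (tt N5176 F49718) (tt N6254 (iv F50093)) (tt N5645 (iv F49721)) (tt N5518 F49719) (tt N5641 F49720) (tt N7187 (iv F53804)) (tt N6654 (iv F51604)))
theorem Q6181 : ∀ i, i < 6181 → P i := stepQ 6180 Q6180 (allL N6180 (tt N5645 F49722) (tt N5162 F49723) (tt N5177 F49724) (tt N7192 D13650) (tt N5161 (iv D12638)) (tt N6180 F49725) (tt N5597 F49726) (tt N7188 (iv F53811)) (tt N7033 (iv F53170)))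
theorem Q6182 : ∀ i, i < 6182 → P i := stepQ 6181 Q6181 (allL N6181 (tt N6181 F49727) (tt N7192 (iv F53825)) (tt N5164 F49728) (tt N5162 (iv D12639)) (tt N5741 F49729) (tt N6181 F49730) (tt N6739 (iv F51941)) (tt N5738 (iv F49731)) (tt N6738 (iv F51934)))
theorem Q6183 : ∀ i, i < 6183 → P i := stepQ 6182 Q6182 (allL N6182 (tt N5179 F49732) (tt N7182 (iv F53770)) (tt N7096 (iv F53379)) (tt N5190 F49733) (tt N5167 F49734) (tt N6182 F49735) (tt N5510 F49736) (tt N5174 F49737) (tt N5166 (iv D12640)))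
theorem Q6184 : ∀ i, i < 6184 → P i := stepQ 6183 Q6183 (allL N6183 (tt N5363 F49738) (tt N5168 (iv D12641)) (tt N7183 (iv F53776)) (tt N7098 (iv F53392)) (tt N5219 F49739) (tt N5215 F49740) (tt N5171 F49741) (tt N5175 F49742) (tt N7193 D13651))
theorem Q6185 : ∀ i, i < 6185 → P i := stepQ 6184 Q6184 (allL N6184 (tt N5180 F49743) (tt N7193 (iv F53832)) (tt N5170 F49744) (tt N7099 (iv F53399)) (tt N5230 F49745) (tt N5229 F49746) (tt N5173 F49747) (tt N5441 F49748) (tt N5168 (iv D12642)))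
theorem Q6186 : ∀ i, i < 6186 → P i := stepQ 6185 Q6185 (allL N6185 (tt N5181 F49749) (tt N7186 (iv F53794)) (tt N5230 F49750) (tt N6185 F49751) (tt N5170 F49752) (tt N5191 F49753) (tt N5174 F49754) (tt N5510 F49755) (tt N5169 (iv D12643)))
theorem Q6187 : ∀ i, i < 6187 → P i := stepQ 6186 Q6186 (allL N6186 (tt N5171 (iv D12644)) (tt N5182 F49756) (tt N7187 (iv F53801)) (tt N7102 (iv F53414)) (tt N5370 (iv F49760)) (tt N5519 F49757) (tt N5363 F49758) (tt N5176 F49759) (tt N7194 D13652))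
theorem Q6188 : ∀ i, i < 6188 → P i := stepQ 6187 Q6187 (allL N6187 (tt N5370 F49761) (tt N5172 F49762) (tt N7188 (iv F53808)) (tt N5766 (iv F49766)) (tt N5171 (iv D12645)) (tt N6187 F49763) (tt N5219 F49764) (tt N5177 F49765) (tt N7195 D13653))
theorem Q6189 : ∀ i, i < 6189 → P i := stepQ 6188 Q6188 (allL N6188 (tt N7194 (iv F53837)) (tt N5173 F49767) (tt N7189 (iv F53813)) (tt N7104 (iv F53425)) (tt N7195 (iv F53845)) (tt N5520 F49768) (tt N7193 (iv F53835)) (tt N7042 (iv F53203)) (tt N5171 (iv D12646)))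
theorem Q6190 : ∀ i, i < 6190 → P i := stepQ 6189 Q6189 (allL N6189 (tt N5184 F49769) (tt N7195 (iv F53843)) (tt N5174 F49770) (tt N5781 F49771) (tt N5173 F49772) (tt N6189 F49773) (tt N5230 F49774) (tt N7096 (iv F53384)) (tt N5172 (iv D12647)))
theorem Q6191 : ∀ i, i < 6191 → P i := stepQ 6190 Q6190 (allL N6190 (tt N5183 F49775) (tt N7194 (iv F53838)) (tt N6190 F49776) (tt N7142 (iv F53603)) (tt N5383 F49777) (tt N5521 F49778) (tt N5382 F49779) (tt N6954 (iv F52788)) (tt N5182 (iv D12648)))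
theorem Q6192 : ∀ i, i < 6192 → P i := stepQ 6191 Q6191 (allL N6191 (tt N6191 F49780) (tt N5190 F49781) (tt N5892 F49782) (tt N7182 (iv F53771)) (tt N5186 F49783) (tt N6191 F49784) (tt N5706 F49785) (tt N6191 F49786) (tt N5185 (iv D12649)))
theorem Q6193 : ∀ i, i < 6193 → P i := stepQ 6192 Q6192 (allL N6192 (tt N6192 F49787) (tt N5217 F49788) (tt N5188 F49789) (tt N6591 (iv F51309)) (tt N5187 (iv D12650)) (tt N7184 (iv F53785)) (tt N6192 F49790) (tt N5595 F49791) (tt N6592 (iv F51316)))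
theorem Q6194 : ∀ i, i < 6194 → P i := stepQ 6193 Q6193 (allL N6193 (tt N6193 F49792) (tt N5218 F49793) (tt N5189 F49794) (tt N5896 F49795) (tt N6592 F51318) (tt N5701 F49796) (tt N6193 F49797) (tt N5708 F49798) (tt N5187 (iv D12651)))
theorem Q6195 : ∀ i, i < 6195 → P i := stepQ 6194 Q6194 (allL N6194 (tt N6194 F49799) (tt N5191 F49800) (tt N6592 F51317) (tt N6194 F49801) (tt N5189 F49802) (tt N7186 (iv F53797)) (tt N6194 F49803) (tt N5714 F49804) (tt N5188 (iv D12652)))
theorem Q6196 : ∀ i, i < 6196 → P i := stepQ 6195 Q6195 (allL N6195 (tt N5198 F49805) (tt N6701 (iv F51770)) (tt N5192 (iv D12653)) (tt N5440 F49806) (tt N5232 F49807) (tt N5601 F49808) (tt N5194 F49809) (tt N6195 F49810) (tt N7196 D13654))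
theorem Q6197 : ∀ i, i < 6197 → P i := stepQ 6196 Q6196 (allL N6196 (tt N5199 F49811) (tt N5907 F49812) (tt N7196 (iv F53849)) (tt N5193 F49813) (tt N5233 F49814) (tt N6507 (iv F50994)) (tt N5195 F49815) (tt N7197 D13655) (tt N5192 (iv D12654)))
theorem Q6198 : ∀ i, i < 6198 → P i := stepQ 6197 Q6197 (allL N6197 (tt N7198 D13656) (tt N5194 (iv D12655)) (tt N5908 F49816) (tt N7040 F53194) (tt N5234 F49817) (tt N6197 F49818) (tt N6701 (iv F51774)) (tt N6197 F49819) (tt N7199 D13657))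
theorem Q6199 : ∀ i, i < 6199 → P i := stepQ 6198 Q6198 (allL N6198 (tt N5201 F49820) (tt N7199 (iv F53870)) (tt N5195 F49821) (tt N7096 (iv F53380)) (tt N5235 F49822) (tt N6198 F49823) (tt N7196 (iv F53853)) (tt N7200 D13658) (tt N5194 (iv D12656)))
theorem Q6200 : ∀ i, i < 6200 → P i := stepQ 6199 Q6199 (allL N6199 (tt N5202 F49824) (tt N5910 F49825) (tt N7200 (iv F53875)) (tt N6199 F49826) (tt N5236 F49827) (tt N6199 F49828) (tt N7197 (iv F53861)) (tt N5195 (iv D12657)) (tt N6199 F49829))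
theorem Q6201 : ∀ i, i < 6201 → P i := stepQ 6200 Q6200 (allL N6200 (tt N6507 (iv F50990)) (tt N5203 F49830) (tt N5245 F49831) (tt N5197 F49832) (tt N5344 F49833) (tt N5199 F49834) (tt N6200 F49835) (tt N5798 (iv F49836)) (tt N5196 (iv D12658)))
theorem Q6202 : ∀ i, i < 6202 → P i := stepQ 6201 Q6201 (allL N6201 (tt N7196 (iv F53848)) (tt N5396 F49837) (tt N5199 F49838) (tt N5244 F49839) (tt N5246 F49840) (tt N5245 F49841) (tt N5201 F49842) (tt N5797 (iv F49843)) (tt N5198 (iv D12659)))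
theorem Q6203 : ∀ i, i < 6203 → P i := stepQ 6202 Q6202 (allL N6202 (tt N7197 (iv F53855)) (tt N5204 F49844) (tt N5797 F49845) (tt N6202 F49846) (tt N5247 F49847) (tt N5798 F49848) (tt N5202 F49849) (tt N5199 (iv D12660)) (tt N6202 F49850))
theorem Q6204 : ∀ i, i < 6204 → P i := stepQ 6203 Q6203 (allL N6203 (tt N5200 (iv D12661)) (tt N7198 (iv F53863)) (tt N5205 F49851) (tt N5652 F49852) (tt N5248 F49853) (tt N6203 F49854) (tt N5653 F49855) (tt N6203 F49856) (tt N7201 D13659))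
theorem Q6205 : ∀ i, i < 6205 → P i := stepQ 6204 Q6204 (allL N6204 (tt N7201 (iv F53881)) (tt N5201 F49857) (tt N5206 F49858) (tt N5395 F49859) (tt N5249 F49860) (tt N6204 F49861) (tt N5396 F49862) (tt N5847 (iv F49863)) (tt N5200 (iv D12662)))
theorem Q6206 : ∀ i, i < 6206 → P i := stepQ 6205 Q6205 (allL N6205 (tt N7200 (iv F53874)) (tt N5847 F49864) (tt N5202 F49865) (tt N5796 F49866) (tt N5250 F49867) (tt N6205 F49868) (tt N5797 F49869) (tt N5201 (iv D12663)) (tt N6205 F49870))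
theorem Q6207 : ∀ i, i < 6207 → P i := stepQ 6206 Q6206 (allL N6206 (tt N5923 F49871) (tt N5798 F49872) (tt N5850 F49873) (tt N6206 F49874) (tt N6857 (iv F52333)) (tt N5204 F49875) (tt N6206 F49876) (tt N5203 (iv D12664)) (tt N6206 F49877))
theorem Q6208 : ∀ i, i < 6208 → P i := stepQ 6207 Q6207 (allL N6207 (tt N5206 F49878) (tt N5927 F49879) (tt N7201 (iv F53882)) (tt N6207 F49880) (tt N5251 F49881) (tt N6207 F49882) (tt N6988 (iv F52946)) (tt N7202 D13660) (tt N5205 (iv D12665)))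
theorem Q6209 : ∀ i, i < 6209 → P i := stepQ 6208 Q6208 (allL N6208 (tt N7202 (iv F53888)) (tt N5207 F49883) (tt N5847 F49884) (tt N5887 (iv F49889)) (tt N5252 F49885) (tt N6208 F49886) (tt N5848 F49887) (tt N5206 (iv D12666)) (tt N6208 F49888))
theorem Q6210 : ∀ i, i < 6210 → P i := stepQ 6209 Q6209 (allL N6209 (tt N5929 F49890) (tt N5887 F49891) (tt N6209 F49892) (tt N5207 (iv D12667)) (tt N6899 (iv F52522)) (tt N6209 F49893) (tt N5889 F49894) (tt N6209 F49895) (tt N6209 F49896))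
theorem Q6211 : ∀ i, i < 6211 → P i := stepQ 6210 Q6210 (allL N6210 (tt N5351 F49897) (tt N6210 F49898) (tt N5209 F49899) (tt N7203 D13661) (tt N5359 F49900) (tt N5751 F49901) (tt N5361 F49902) (tt N5208 (iv D12668)) (tt N7204 D13662))
theorem Q6212 : ∀ i, i < 6212 → P i := stepQ 6211 Q6211 (allL N6211 (tt N5352 F49903) (tt N5222 F49904) (tt N7205 D13663) (tt N5209 (iv D12669)) (tt N5354 F49905) (tt N5752 F49906) (tt N5357 F49907) (tt N5211 F49908) (tt N7206 D13664))
theorem Q6213 : ∀ i, i < 6213 → P i := stepQ 6212 Q6212 (allL N6212 (tt N5353 F49909) (tt N5223 F49910) (tt N7204 (iv F53904)) (tt N7206 (iv F53916)) (tt N5360 F49911) (tt N5753 F49912) (tt N5364 F49913) (tt N5258 F49914) (tt N5209 (iv D12670)))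
theorem Q6214 : ∀ i, i < 6214 → P i := stepQ 6213 Q6213 (allL N6213 (tt N5354 F49915) (tt N5224 F49916) (tt N7207 D13665) (tt N5210 (iv D12671)) (tt N5352 F49917) (tt N7113 (iv F53468)) (tt N5211 F49918) (tt N5357 F49919) (tt N7208 D13666))
theorem Q6215 : ∀ i, i < 6215 → P i := stepQ 6214 Q6214 (allL N6214 (tt N5355 F49920) (tt N5225 F49921) (tt N5937 F49922) (tt N7208 (iv F53927)) (tt N5213 F49923) (tt N7138 (iv F53581)) (tt N5212 F49924) (tt N5261 F49925) (tt N5210 (iv D12672)))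
theorem Q6216 : ∀ i, i < 6216 → P i := stepQ 6215 Q6215 (allL N6215 (tt N5356 F49926) (tt N7209 D13667) (tt N5211 (iv D12673)) (tt N5938 F49927) (tt N7210 D13668) (tt N5754 F49928) (tt N7207 (iv F53923)) (tt N7205 (iv F53913)) (tt N7211 D13669))
theorem Q6217 : ∀ i, i < 6217 → P i := stepQ 6216 Q6216 (allL N6216 (tt N5357 F49929) (tt N5227 F49930) (tt N7210 (iv F53934)) (tt N5215 F49931) (tt N5211 (iv D12674)) (tt N7098 (iv F53394)) (tt N5352 F49932) (tt N5354 F49933) (tt N7212 D13670))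
theorem Q6218 : ∀ i, i < 6218 → P i := stepQ 6217 Q6217 (allL N6217 (tt N5358 F49934) (tt N5228 F49935) (tt N7211 (iv F53938)) (tt N5212 F49936) (tt N7212 (iv F53944)) (tt N5756 F49937) (tt N7208 (iv F53929)) (tt N7213 D13671) (tt N5211 (iv D12675)))
theorem Q6219 : ∀ i, i < 6219 → P i := stepQ 6218 Q6218 (allL N6218 (tt N5361 F49938) (tt N5502 F49939) (tt N5215 F49940) (tt N7214 D13672) (tt N5214 (iv D12676)) (tt N7183 (iv F53777)) (tt N5351 F49941) (tt N5350 F49942) (tt N7215 D13673))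
theorem Q6220 : ∀ i, i < 6220 → P i := stepQ 6219 Q6219 (allL N6219 (tt N5362 F49943) (tt N5701 F49944) (tt N5216 F49945) (tt N5944 F49946) (tt N7215 (iv F53958)) (tt N5218 F49947) (tt N5639 F49948) (tt N5656 F49949) (tt N5214 (iv D12677)))
theorem Q6221 : ∀ i, i < 6221 → P i := stepQ 6220 Q6220 (allL N6220 (tt N5364 F49950) (tt N5229 F49951) (tt N7215 (iv F53957)) (tt N7212 (iv F53943)) (tt N5216 F49952) (tt N7193 (iv F53834)) (tt N5353 F49953) (tt N5405 F49954) (tt N5215 (iv D12678)))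
theorem Q6222 : ∀ i, i < 6222 → P i := stepQ 6221 Q6221 (allL N6221 (tt N5366 F49955) (tt N6591 (iv F51307)) (tt N5762 F49956) (tt N5217 (iv D12679)) (tt N5948 F49957) (tt N7216 D13674) (tt N6221 F49958) (tt N6468 F50841) (tt N6469 (iv F50845)))
theorem Q6223 : ∀ i, i < 6223 → P i := stepQ 6222 Q6222 (allL N6222 (tt N5367 F49959) (tt N7184 (iv F53783)) (tt N5219 F49960) (tt N7216 (iv F53963)) (tt N7183 F53781) (tt N5217 (iv D12680)) (tt N7188 (iv F53810)) (tt N5597 F49961) (tt N7217 D13675))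
theorem Q6224 : ∀ i, i < 6224 → P i := stepQ 6223 Q6223 (allL N6223 (tt N5368 F49962) (tt N6592 (iv F51313)) (tt N5220 F49963) (tt N6469 F50846) (tt N5218 F49964) (tt N7217 (iv F53966)) (tt N6223 F49965) (tt N6472 (iv F50858)) (tt N5217 (iv D12681)))
theorem Q6225 : ∀ i, i < 6225 → P i := stepQ 6224 Q6224 (allL N6224 (tt N5369 F49966) (tt N5708 F49967) (tt N5221 F49968) (tt N6473 (iv F50865)) (tt N6472 F50861) (tt N5656 F49969) (tt N6224 F49970) (tt N5218 (iv D12682)) (tt N5599 F49971))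
theorem Q6226 : ∀ i, i < 6226 → P i := stepQ 6225 Q6225 (allL N6225 (tt N5371 F49972) (tt N5230 F49973) (tt N7217 (iv F53965)) (tt N5767 F49974) (tt N7193 (iv F53833)) (tt N5220 F49975) (tt N7195 (iv F53847)) (tt N7218 D13676) (tt N5219 (iv D12683)))
theorem Q6227 : ∀ i, i < 6227 → P i := stepQ 6226 Q6226 (allL N6226 (tt N5372 F49976) (tt N5231 F49977) (tt N6472 F50860) (tt N6476 (iv F50876)) (tt N5221 F49978) (tt N7218 (iv F53970)) (tt N6226 F49979) (tt N5220 (iv D12684)) (tt N5600 F49980))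
theorem Q6228 : ∀ i, i < 6228 → P i := stepQ 6227 Q6227 (allL N6227 (tt N5237 F49981) (tt N7206 (iv F53915)) (tt N7111 (iv F53456)) (tt N5223 F49982) (tt N5375 F49983) (tt N5771 F49984) (tt N5380 F49985) (tt N7219 D13677) (tt N5222 (iv D12685)))
theorem Q6229 : ∀ i, i < 6229 → P i := stepQ 6228 Q6228 (allL N6228 (tt N5238 F49986) (tt N7220 D13678) (tt N5224 (iv D12686)) (tt N5232 F49987) (tt N5373 F49988) (tt N7009 (iv F53051)) (tt N5226 F49989) (tt N5377 F49990) (tt N7221 D13679))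
theorem Q6230 : ∀ i, i < 6230 → P i := stepQ 6229 Q6229 (allL N6229 (tt N5239 F49991) (tt N7208 (iv F53926)) (tt N7221 (iv F53983)) (tt N5225 F49992) (tt N5374 F49993) (tt N7150 (iv F53643)) (tt N5228 F49994) (tt N7222 D13680) (tt N5224 (iv D12687)))
theorem Q6231 : ∀ i, i < 6231 → P i := stepQ 6230 Q6230 (allL N6230 (tt N7223 D13681) (tt N5226 (iv D12688)) (tt N7209 (iv F53930)) (tt N5234 F49995) (tt N7041 (iv F53196)) (tt N5772 F49996) (tt N7220 (iv F53980)) (tt N7053 (iv F53238)) (tt N7224 D13682))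
theorem Q6232 : ∀ i, i < 6232 → P i := stepQ 6231 Q6231 (allL N6231 (tt N5241 F49997) (tt N7224 (iv F53995)) (tt N5228 F49998) (tt N5235 F49999) (tt N7097 (iv F53388)) (tt N5774 F50000) (tt N7221 (iv F53986)) (tt N7225 D13683) (tt N5226 (iv D12689)))
theorem Q6233 : ∀ i, i < 6233 → P i := stepQ 6232 Q6232 (allL N6232 (tt N5242 F50001) (tt N7212 (iv F53942)) (tt N7097 (iv F53386)) (tt N5229 F50002) (tt N5228 F50003) (tt N7099 (iv F53401)) (tt N5374 F50004) (tt N7226 D13684) (tt N5227 (iv D12690)))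
theorem Q6234 : ∀ i, i < 6234 → P i := stepQ 6233 Q6233 (allL N6233 (tt N5243 F50005) (tt N7213 (iv F53947)) (tt N7225 (iv F53999)) (tt N5296 F50006) (tt N7226 (iv F54003)) (tt N5777 F50007) (tt N7222 (iv F53990)) (tt N5228 (iv D12691)) (tt N7219 (iv F53977)))
theorem Q6235 : ∀ i, i < 6235 → P i := stepQ 6234 Q6234 (allL N6234 (tt N5244 F50008) (tt N7218 (iv F53968)) (tt N5510 F50009) (tt N7196 (iv F53850)) (tt N5441 F50010) (tt N5231 F50011) (tt N7096 (iv F53383)) (tt N5230 (iv D12692)) (tt N5440 F50012))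
theorem Q6236 : ∀ i, i < 6236 → P i := stepQ 6235 Q6235 (allL N6235 (tt N5245 F50013) (tt N6476 F50880) (tt N6507 (iv F50991)) (tt N5231 (iv D12693)) (tt N5304 F50014) (tt N7196 (iv F53852)) (tt N6235 F50015) (tt N5783 F50016) (tt N5601 F50017))
theorem Q6237 : ∀ i, i < 6237 → P i := stepQ 6236 Q6236 (allL N6236 (tt N6986 (iv F52929)) (tt N5232 (iv D12694)) (tt N5983 F50018) (tt N7220 (iv F53978)) (tt N6701 (iv F51772)) (tt N6990 (iv F52958)) (tt N5234 F50019) (tt N6236 F50020) (tt N7227 D13685))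
theorem Q6238 : ∀ i, i < 6238 → P i := stepQ 6237 Q6237 (allL N6237 (tt N5246 F50021) (tt N7227 (iv F54006)) (tt N5233 F50022) (tt N7221 (iv F53984)) (tt N7196 (iv F53851)) (tt N7027 (iv F53137)) (tt N5235 F50023) (tt N7228 D13686) (tt N5232 (iv D12695)))
theorem Q6239 : ∀ i, i < 6239 → P i := stepQ 6238 Q6238 (allL N6238 (tt N5247 F50024) (tt N5985 F50025) (tt N7228 (iv F54010)) (tt N5307 F50026) (tt N7197 (iv F53859)) (tt N7032 (iv F53162)) (tt N5236 F50027) (tt N5233 (iv D12696)) (tt N6238 F50028))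
theorem Q6240 : ∀ i, i < 6240 → P i := stepQ 6239 Q6239 (allL N6239 (tt N5234 (iv D12697)) (tt N5248 F50029) (tt N5986 F50030) (tt N7223 (iv F53993)) (tt N7198 (iv F53866)) (tt N5305 F50031) (tt N6986 (iv F52932)) (tt N6239 F50032) (tt N7229 D13687))
theorem Q6241 : ∀ i, i < 6241 → P i := stepQ 6240 Q6240 (allL N6240 (tt N7229 (iv F54014)) (tt N5235 F50033) (tt N5987 F50034) (tt N7224 (iv F53996)) (tt N7199 (iv F53872)) (tt N5784 F50035) (tt N7227 (iv F54008)) (tt N7230 D13688) (tt N5234 (iv D12698)))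
theorem Q6242 : ∀ i, i < 6242 → P i := stepQ 6241 Q6241 (allL N6241 (tt N5250 F50036) (tt N7230 (iv F54018)) (tt N5236 F50037) (tt N7231 D13689) (tt N7200 (iv F53877)) (tt N5785 F50038) (tt N7228 (iv F54012)) (tt N5235 (iv D12699)) (tt N6241 F50039))
theorem Q6243 : ∀ i, i < 6243 → P i := stepQ 6242 Q6242 (allL N6242 (tt N7219 (iv F53972)) (tt N5388 F50040) (tt N7149 (iv F53635)) (tt N5320 F50041) (tt N5389 F50042) (tt N5788 F50043) (tt N5394 F50044) (tt N5237 (iv D12700)) (tt N5243 F50045))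
theorem Q6244 : ∀ i, i < 6244 → P i := stepQ 6243 Q6243 (allL N6243 (tt N7221 (iv F53982)) (tt N7006 (iv F53032)) (tt N5239 F50046) (tt N5246 F50047) (tt N5387 F50048) (tt N7010 (iv F53058)) (tt N5241 F50049) (tt N7232 D13690) (tt N5238 (iv D12701)))
theorem Q6245 : ∀ i, i < 6245 → P i := stepQ 6244 Q6244 (allL N6244 (tt N7222 (iv F53987)) (tt N5389 F50050) (tt N7232 (iv F54026)) (tt N5327 F50051) (tt N5388 F50052) (tt N7151 (iv F53648)) (tt N5243 F50053) (tt N5239 (iv D12702)) (tt N5394 F50054))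
theorem Q6246 : ∀ i, i < 6246 → P i := stepQ 6245 Q6245 (allL N6245 (tt N5240 (iv D12703)) (tt N7223 (iv F53992)) (tt N5286 F50055) (tt N5248 F50056) (tt N6953 (iv F52778)) (tt N5288 F50057) (tt N6964 (iv F52833)) (tt N6965 (iv F52841)) (tt N7233 D13691))
theorem Q6247 : ∀ i, i < 6247 → P i := stepQ 6246 Q6246 (allL N6246 (tt N7233 (iv F54030)) (tt N5241 F50058) (tt N5322 F50059) (tt N5249 F50060) (tt N6996 (iv F52983)) (tt N5324 F50061) (tt N7006 (iv F53037)) (tt N7234 D13692) (tt N5240 (iv D12704)))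
theorem Q6248 : ∀ i, i < 6248 → P i := stepQ 6247 Q6247 (allL N6247 (tt N7225 (iv F53998)) (tt N7234 (iv F54034)) (tt N5243 F50062) (tt N7235 D13693) (tt N7139 (iv F53586)) (tt N5790 F50063) (tt N7232 (iv F54028)) (tt N5241 (iv D12705)) (tt N7149 (iv F53639)))
theorem Q6249 : ∀ i, i < 6249 → P i := stepQ 6248 Q6248 (allL N6248 (tt N7226 (iv F54001)) (tt N5394 F50064) (tt N7139 (iv F53584)) (tt N5473 F50065) (tt N5243 F50066) (tt N7140 (iv F53594)) (tt N5388 F50067) (tt N5242 (iv D12706)) (tt N5389 F50068))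
theorem Q6250 : ∀ i, i < 6250 → P i := stepQ 6249 Q6249 (allL N6249 (tt N7228 (iv F54009)) (tt N5849 F50069) (tt N5247 F50070) (tt N7236 D13694) (tt N5797 F50071) (tt N7026 (iv F53130)) (tt N5250 F50072) (tt N5246 (iv D12707)) (tt N6249 F50073))
theorem Q6251 : ∀ i, i < 6251 → P i := stepQ 6250 Q6250 (allL N6250 (tt N5249 F50074) (tt N7229 (iv F54015)) (tt N5251 F50075) (tt N7233 (iv F54032)) (tt N7201 (iv F53884)) (tt N5306 F50076) (tt N6987 (iv F52938)) (tt N7237 D13695) (tt N5248 (iv D12708)))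
theorem Q6252 : ∀ i, i < 6252 → P i := stepQ 6251 Q6251 (allL N6251 (tt N7237 (iv F54045)) (tt N5250 F50077) (tt N5252 F50078) (tt N7238 D13696) (tt N5847 F50079) (tt N5345 F50080) (tt N5849 F50081) (tt N5249 (iv D12709)) (tt N6251 F50082))
theorem Q6253 : ∀ i, i < 6253 → P i := stepQ 6252 Q6252 (allL N6252 (tt N7231 (iv F54022)) (tt N7238 (iv F54051)) (tt N5348 F50083) (tt N5250 (iv D12710)) (tt N7239 D13697) (tt N5799 F50084) (tt N7236 (iv F54043)) (tt N7235 (iv F54039)) (tt N6252 F50085))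
theorem Q6254 : ∀ i, i < 6254 → P i := stepQ 6253 Q6253 (allL N6253 (tt N5252 F50086) (tt N6035 F50087) (tt N7237 (iv F54046)) (tt N7032 (iv F53161)) (tt N7202 (iv F53891)) (tt N5307 F50088) (tt N6989 (iv F52953)) (tt N5251 (iv D12711)) (tt N6253 F50089))
theorem Q6255 : ∀ i, i < 6255 → P i := stepQ 6254 Q6254 (allL N6254 (tt N5398 F50090) (tt N6254 F50091) (tt N5255 F50092) (tt N6179 F50093) (tt N5646 F50094) (tt N5253 (iv D12712)) (tt N6654 (iv F51603)) (tt N7240 D13698) (tt N5641 F50095))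
theorem Q6256 : ∀ i, i < 6256 → P i := stepQ 6255 Q6255 (allL N6255 (tt N5399 F50096) (tt N6255 F50097) (tt N5256 F50098) (tt N7241 D13699) (tt N5602 F50099) (tt N7240 (iv F54065)) (tt N5254 F50100) (tt N5253 (iv D12713)) (tt N7242 D13700))
theorem Q6257 : ∀ i, i < 6257 → P i := stepQ 6256 Q6256 (allL N6256 (tt N5400 F50101) (tt N6256 F50102) (tt N7243 D13701) (tt N5254 (iv D12714)) (tt N7244 D13702) (tt N6920 (iv F52650)) (tt N7241 (iv F54068)) (tt N6742 (iv F51955)) (tt N7245 D13703))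
theorem Q6258 : ∀ i, i < 6258 → P i := stepQ 6257 Q6257 (allL N6257 (tt N5401 F50103) (tt N6257 F50104) (tt N5258 F50105) (tt N7245 (iv F54082)) (tt N5604 F50106) (tt N6921 (iv F52655)) (tt N7242 (iv F54073)) (tt N7204 (iv F53908)) (tt N5254 (iv D12715)))
theorem Q6259 : ∀ i, i < 6259 → P i := stepQ 6258 Q6258 (allL N6258 (tt N5403 F50107) (tt N5280 F50108) (tt N7240 (iv F54063)) (tt N7246 D13704) (tt N5650 F50109) (tt N5256 F50110) (tt N6922 (iv F52661)) (tt N5255 (iv D12716)) (tt N7247 D13705))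
theorem Q6260 : ∀ i, i < 6260 → P i := stepQ 6259 Q6259 (allL N6259 (tt N5404 F50111) (tt N5281 F50112) (tt N7248 D13706) (tt N5256 (iv D12717)) (tt N5679 F50113) (tt N7246 (iv F54085)) (tt N5257 F50114) (tt N5260 F50115) (tt N7249 D13707))
theorem Q6261 : ∀ i, i < 6261 → P i := stepQ 6260 Q6260 (allL N6260 (tt N5405 F50116) (tt N5282 F50117) (tt N7242 (iv F54071)) (tt N7249 (iv F54098)) (tt N5365 F50118) (tt N7247 (iv F54090)) (tt N5258 F50119) (tt N5364 F50120) (tt N5256 (iv D12718)))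
theorem Q6262 : ∀ i, i < 6262 → P i := stepQ 6261 Q6261 (allL N6261 (tt N5406 F50121) (tt N7250 D13708) (tt N5257 (iv D12719)) (tt N7243 (iv F54076)) (tt N7251 D13709) (tt N6925 (iv F52672)) (tt N7248 (iv F54094)) (tt N5262 F50122) (tt N7252 D13710))
theorem Q6263 : ∀ i, i < 6263 → P i := stepQ 6262 Q6262 (allL N6262 (tt N5407 F50123) (tt N5284 F50124) (tt N7251 (iv F54104)) (tt N5606 F50125) (tt N5257 (iv D12720)) (tt N7253 D13711) (tt N5679 F50126) (tt N5263 F50127) (tt N7254 D13712))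
theorem Q6264 : ∀ i, i < 6264 → P i := stepQ 6263 Q6263 (allL N6263 (tt N5408 F50128) (tt N5285 F50129) (tt N7252 (iv F54108)) (tt N5258 F50130) (tt N7254 (iv F54116)) (tt N6927 (iv F52681)) (tt N7249 (iv F54100)) (tt N7255 D13713) (tt N5257 (iv D12721)))
theorem Q6265 : ∀ i, i < 6265 → P i := stepQ 6264 Q6264 (allL N6264 (tt N5376 F50131) (tt N5286 F50132) (tt N7256 D13714) (tt N5259 (iv D12722)) (tt N7257 D13715) (tt N5260 F50133) (tt N6928 (iv F52685)) (tt N7246 (iv F54086)) (tt N7258 D13716))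
theorem Q6266 : ∀ i, i < 6266 → P i := stepQ 6265 Q6265 (allL N6265 (tt N5386 F50134) (tt N5287 F50135) (tt N6120 F50136) (tt N7258 (iv F54129)) (tt N6265 F50137) (tt N5261 F50138) (tt N6929 (iv F52690)) (tt N7138 (iv F53583)) (tt N5259 (iv D12723)))
theorem Q6267 : ∀ i, i < 6267 → P i := stepQ 6266 Q6266 (allL N6266 (tt N5409 F50139) (tt N7259 D13717) (tt N5260 (iv D12724)) (tt N6437 (iv F50748)) (tt N7260 D13718) (tt N7256 (iv F54123)) (tt N5262 F50140) (tt N7248 (iv F54095)) (tt N7261 D13719))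
theorem Q6268 : ∀ i, i < 6268 → P i := stepQ 6267 Q6267 (allL N6267 (tt N5410 F50141) (tt N5289 F50142) (tt N7260 (iv F54135)) (tt N5266 F50143) (tt N5260 (iv D12725)) (tt N7262 D13720) (tt N5263 F50144) (tt N5679 F50145) (tt N7263 D13721))
theorem Q6269 : ∀ i, i < 6269 → P i := stepQ 6268 Q6268 (allL N6268 (tt N5411 F50146) (tt N5290 F50147) (tt N7261 (iv F54139)) (tt N5261 F50148) (tt N7263 (iv F54148)) (tt N7258 (iv F54130)) (tt N5264 F50149) (tt N7264 D13722) (tt N5260 (iv D12726)))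
theorem Q6270 : ∀ i, i < 6270 → P i := stepQ 6269 Q6269 (allL N6269 (tt N7265 D13723) (tt N5262 (iv D12727)) (tt N5291 F50150) (tt N6747 (iv F51970)) (tt N7266 D13724) (tt N6933 (iv F52704)) (tt N7259 (iv F54133)) (tt N7250 (iv F54102)) (tt N7267 D13725))
theorem Q6271 : ∀ i, i < 6271 → P i := stepQ 6270 Q6270 (allL N6270 (tt N5413 F50151) (tt N7266 (iv F54157)) (tt N5263 F50152) (tt N7268 D13726) (tt N5262 (iv D12728)) (tt N7269 D13727) (tt N7260 (iv F54136)) (tt N7251 (iv F54106)) (tt N7270 D13728))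
theorem Q6272 : ∀ i, i < 6272 → P i := stepQ 6271 Q6271 (allL N6271 (tt N5414 F50153) (tt N7267 (iv F54159)) (tt N5264 F50154) (tt N6749 (iv F51975)) (tt N7270 (iv F54167)) (tt N6935 (iv F52709)) (tt N7261 (iv F54140)) (tt N7271 D13729) (tt N5262 (iv D12729)))
theorem Q6273 : ∀ i, i < 6273 → P i := stepQ 6272 Q6272 (allL N6272 (tt N5415 F50155) (tt N5294 F50156) (tt N7269 (iv F54164)) (tt N5270 F50157) (tt N6936 (iv F52713)) (tt N5263 (iv D12730)) (tt N7272 D13730) (tt N7253 (iv F54112)) (tt N7273 D13731))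
theorem Q6274 : ∀ i, i < 6274 → P i := stepQ 6273 Q6273 (allL N6273 (tt N5416 F50158) (tt N5295 F50159) (tt N7270 (iv F54166)) (tt N5271 F50160) (tt N5264 F50161) (tt N7273 (iv F54176)) (tt N7263 (iv F54149)) (tt N7274 D13732) (tt N5263 (iv D12731)))
theorem Q6275 : ∀ i, i < 6275 → P i := stepQ 6274 Q6274 (allL N6274 (tt N5417 F50162) (tt N5296 F50163) (tt N7271 (iv F54169)) (tt N7213 (iv F53948)) (tt N7274 (iv F54179)) (tt N6938 (iv F52721)) (tt N7264 (iv F54152)) (tt N5264 (iv D12732)) (tt N7255 (iv F54120)))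
theorem Q6276 : ∀ i, i < 6276 → P i := stepQ 6275 Q6275 (allL N6275 (tt N5418 F50164) (tt N6275 F50165) (tt N5266 F50166) (tt N7275 D13733) (tt N5265 (iv D12733)) (tt N7276 D13734) (tt N5268 F50167) (tt N5609 F50168) (tt N7277 D13735))
theorem Q6277 : ∀ i, i < 6277 → P i := stepQ 6276 Q6276 (allL N6276 (tt N5419 F50169) (tt N6276 F50170) (tt N5267 F50171) (tt N6549 (iv F51133)) (tt N7277 (iv F54191)) (tt N6276 F50172) (tt N5269 F50173) (tt N5661 F50174) (tt N5265 (iv D12734)))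
theorem Q6278 : ∀ i, i < 6278 → P i := stepQ 6277 Q6277 (allL N6277 (tt N5420 F50175) (tt N5297 F50176) (tt N7276 (iv F54185)) (tt N7262 (iv F54143)) (tt N6277 F50177) (tt N5266 (iv D12735)) (tt N7278 D13736) (tt N5610 F50178) (tt N7279 D13737))
theorem Q6279 : ∀ i, i < 6279 → P i := stepQ 6278 Q6278 (allL N6278 (tt N5421 F50179) (tt N5298 F50180) (tt N7277 (iv F54190)) (tt N7263 (iv F54147)) (tt N5267 F50181) (tt N7279 (iv F54202)) (tt N5271 F50182) (tt N5663 F50183) (tt N5266 (iv D12736)))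
theorem Q6280 : ∀ i, i < 6280 → P i := stepQ 6279 Q6279 (allL N6279 (tt N5423 F50184) (tt N6279 F50185) (tt N7268 (iv F54162)) (tt N5268 (iv D12737)) (tt N6753 (iv F51987)) (tt N7280 D13738) (tt N7275 (iv F54182)) (tt N7281 D13739) (tt N7282 D13740))
theorem Q6281 : ∀ i, i < 6281 → P i := stepQ 6280 Q6280 (allL N6280 (tt N5424 F50186) (tt N6280 F50187) (tt N5270 F50188) (tt N7280 (iv F54206)) (tt N5274 F50189) (tt N5268 (iv D12738)) (tt N7283 D13741) (tt N5612 F50190) (tt N7284 D13742))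
theorem Q6282 : ∀ i, i < 6282 → P i := stepQ 6281 Q6281 (allL N6281 (tt N5425 F50191) (tt N6281 F50192) (tt N5271 F50193) (tt N7282 (iv F54212)) (tt N5269 F50194) (tt N7284 (iv F54222)) (tt N7277 (iv F54192)) (tt N7285 D13743) (tt N5268 (iv D12739)))
theorem Q6283 : ∀ i, i < 6283 → P i := stepQ 6282 Q6282 (allL N6282 (tt N5426 F50195) (tt N6282 F50196) (tt N5272 F50197) (tt N7286 D13744) (tt N7285 (iv F54226)) (tt N5276 F50198) (tt N5661 F50199) (tt N5269 (iv D12740)) (tt N5614 F50200))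
theorem Q6284 : ∀ i, i < 6284 → P i := stepQ 6283 Q6283 (allL N6283 (tt N5427 F50201) (tt N5299 F50202) (tt N7283 (iv F54215)) (tt N7272 (iv F54172)) (tt N5277 F50203) (tt N7278 (iv F54197)) (tt N5270 (iv D12741)) (tt N5615 F50204) (tt N7287 D13745))
theorem Q6285 : ∀ i, i < 6285 → P i := stepQ 6284 Q6284 (allL N6284 (tt N5428 F50205) (tt N5300 F50206) (tt N7284 (iv F54220)) (tt N7273 (iv F54175)) (tt N5278 F50207) (tt N5271 F50208) (tt N7287 (iv F54238)) (tt N7288 D13746) (tt N5270 (iv D12742)))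
theorem Q6286 : ∀ i, i < 6286 → P i := stepQ 6285 Q6285 (allL N6285 (tt N5429 F50209) (tt N5301 F50210) (tt N7285 (iv F54225)) (tt N7289 D13747) (tt N5272 F50211) (tt N7288 (iv F54242)) (tt N5663 F50212) (tt N5271 (iv D12743)) (tt N5617 F50213))
theorem Q6287 : ∀ i, i < 6287 → P i := stepQ 6286 Q6286 (allL N6286 (tt N5430 F50214) (tt N6286 F50215) (tt N6948 (iv F52759)) (tt N5274 F50216) (tt N7290 D13748) (tt N5273 (iv D12744)) (tt N7291 D13749) (tt N7292 D13750) (tt N7293 D13751))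
theorem Q6288 : ∀ i, i < 6288 → P i := stepQ 6287 Q6287 (allL N6287 (tt N5431 F50217) (tt N6287 F50218) (tt N6827 (iv F52224)) (tt N5619 F50219) (tt N6761 (iv F52021)) (tt N7292 (iv F54258)) (tt N6287 F50220) (tt N5273 (iv D12745)) (tt N6387 F50581))
theorem Q6289 : ∀ i, i < 6289 → P i := stepQ 6288 Q6288 (allL N6288 (tt N5432 F50221) (tt N6288 F50222) (tt N6828 (iv F52231)) (tt N5275 F50223) (tt N6762 (iv F52028)) (tt N7293 (iv F54262)) (tt N6288 F50224) (tt N6388 (iv F50587)) (tt N5273 (iv D12746)))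
theorem Q6290 : ∀ i, i < 6290 → P i := stepQ 6289 Q6289 (allL N6289 (tt N5433 F50225) (tt N6289 F50226) (tt N5277 F50227) (tt N7291 (iv F54253)) (tt N7283 (iv F54216)) (tt N6289 F50228) (tt N5274 (iv D12747)) (tt N5621 F50229) (tt N7294 D13752))
theorem Q6291 : ∀ i, i < 6291 → P i := stepQ 6290 Q6290 (allL N6290 (tt N5434 F50230) (tt N6290 F50231) (tt N5278 F50232) (tt N7293 (iv F54261)) (tt N7284 (iv F54221)) (tt N5275 F50233) (tt N7294 (iv F54267)) (tt N7295 D13753) (tt N5274 (iv D12748)))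
theorem Q6292 : ∀ i, i < 6292 → P i := stepQ 6291 Q6291 (allL N6291 (tt N5435 F50234) (tt N6291 F50235) (tt N5279 F50236) (tt N6391 (iv F50597)) (tt N5276 F50237) (tt N7295 (iv F54271)) (tt N6291 F50238) (tt N5275 (iv D12749)) (tt N5623 F50239))
theorem Q6293 : ∀ i, i < 6293 → P i := stepQ 6292 Q6292 (allL N6292 (tt N5436 F50240) (tt N6292 F50241) (tt N6473 (iv F50864)) (tt N5276 (iv D12750)) (tt N6392 (iv F50603)) (tt N7286 (iv F54232)) (tt N6292 F50242) (tt N6766 (iv F52051)) (tt N5624 F50243))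
theorem Q6294 : ∀ i, i < 6294 → P i := stepQ 6293 Q6293 (allL N6293 (tt N5437 F50244) (tt N5302 F50245) (tt N7294 (iv F54265)) (tt N6951 (iv F52770)) (tt N7287 (iv F54237)) (tt N6293 F50246) (tt N5278 F50247) (tt N7296 D13754) (tt N5277 (iv D12751)))
theorem Q6295 : ∀ i, i < 6295 → P i := stepQ 6294 Q6294 (allL N6294 (tt N5438 F50248) (tt N5303 F50249) (tt N7295 (iv F54270)) (tt N7297 D13755) (tt N7288 (iv F54241)) (tt N5279 F50250) (tt N7296 (iv F54276)) (tt N5278 (iv D12752)) (tt N5626 F50251))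
theorem Q6296 : ∀ i, i < 6296 → P i := stepQ 6295 Q6295 (allL N6295 (tt N5439 F50252) (tt N5304 F50253) (tt N6395 (iv F50615)) (tt N5279 (iv D12753)) (tt N6476 (iv F50877)) (tt N7297 (iv F54280)) (tt N6295 F50254) (tt N6835 (iv F52269)) (tt N5627 F50255))
theorem Q6297 : ∀ i, i < 6297 → P i := stepQ 6296 Q6296 (allL N6296 (tt N5311 F50256) (tt N7246 (iv F54084)) (tt N6965 (iv F52837)) (tt N5280 (iv D12754)) (tt N6964 F52835) (tt N5281 F50257) (tt N6953 (iv F52780)) (tt N5286 F50258) (tt N7298 D13756))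
theorem Q6298 : ∀ i, i < 6298 → P i := stepQ 6297 Q6297 (allL N6297 (tt N5312 F50259) (tt N7247 (iv F54088)) (tt N6297 F50260) (tt N7298 (iv F54283)) (tt N5384 F50261) (tt N5282 F50262) (tt N6954 (iv F52787)) (tt N5382 F50263) (tt N5280 (iv D12755)))
theorem Q6299 : ∀ i, i < 6299 → P i := stepQ 6298 Q6298 (allL N6298 (tt N5313 F50264) (tt N7299 D13757) (tt N5281 (iv D12756)) (tt N6298 F50265) (tt N5697 F50266) (tt N6965 (iv F52839)) (tt N5283 F50267) (tt N5288 F50268) (tt N7300 D13758))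
theorem Q6300 : ∀ i, i < 6300 → P i := stepQ 6299 Q6299 (allL N6299 (tt N5314 F50269) (tt N7249 (iv F54097)) (tt N7300 (iv F54291)) (tt N5282 F50270) (tt N5467 F50271) (tt N7298 (iv F54284)) (tt N5285 F50272) (tt N7301 D13759) (tt N5281 (iv D12757)))
theorem Q6301 : ∀ i, i < 6301 → P i := stepQ 6300 Q6300 (allL N6300 (tt N7302 D13760) (tt N5283 (iv D12758)) (tt N7250 (iv F54101)) (tt N6300 F50273) (tt N7303 D13761) (tt N6958 (iv F52805)) (tt N7299 (iv F54288)) (tt N5291 F50274) (tt N7304 D13762))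
theorem Q6302 : ∀ i, i < 6302 → P i := stepQ 6301 Q6301 (allL N6301 (tt N5316 F50275) (tt N7303 (iv F54304)) (tt N5284 F50276) (tt N5747 (iv F50279)) (tt N5283 (iv D12759)) (tt N6977 (iv F52890)) (tt N5697 F50277) (tt N5292 F50278) (tt N7305 D13763))
theorem Q6303 : ∀ i, i < 6303 → P i := stepQ 6302 Q6302 (allL N6302 (tt N5317 F50280) (tt N7304 (iv F54308)) (tt N5285 F50281) (tt N6302 F50282) (tt N7305 (iv F54313)) (tt N6960 (iv F52816)) (tt N7300 (iv F54294)) (tt N7306 D13764) (tt N5283 (iv D12760)))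
theorem Q6304 : ∀ i, i < 6304 → P i := stepQ 6303 Q6303 (allL N6303 (tt N5318 F50283) (tt N7253 (iv F54110)) (tt N6977 (iv F52887)) (tt N5628 F50284) (tt N6961 (iv F52820)) (tt N5284 (iv D12761)) (tt N6974 (iv F52876)) (tt N5294 F50285) (tt N7307 D13765))
theorem Q6305 : ∀ i, i < 6305 → P i := stepQ 6304 Q6304 (allL N6304 (tt N5319 F50286) (tt N7254 (iv F54114)) (tt N7305 (iv F54311)) (tt N5464 F50287) (tt N5285 F50288) (tt N7307 (iv F54320)) (tt N5467 F50289) (tt N7308 D13766) (tt N5284 (iv D12762)))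
theorem Q6306 : ∀ i, i < 6306 → P i := stepQ 6305 Q6305 (allL N6305 (tt N5320 F50290) (tt N7255 (iv F54119)) (tt N7306 (iv F54316)) (tt N7219 (iv F53973)) (tt N7308 (iv F54323)) (tt N6963 (iv F52828)) (tt N7301 (iv F54298)) (tt N5285 (iv D12763)) (tt N5296 F50291))
theorem Q6307 : ∀ i, i < 6307 → P i := stepQ 6306 Q6306 (allL N6306 (tt N5321 F50292) (tt N7257 (iv F54125)) (tt N6953 F52782) (tt N6306 F50293) (tt N5286 (iv D12764)) (tt N6955 (iv F52791)) (tt N6965 (iv F52840)) (tt N6964 (iv F52834)) (tt N7309 D13767))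
theorem Q6308 : ∀ i, i < 6308 → P i := stepQ 6307 Q6307 (allL N6307 (tt N5322 F50294) (tt N7258 (iv F54128)) (tt N7233 (iv F54031)) (tt N5287 F50295) (tt N7309 (iv F54328)) (tt N5290 F50296) (tt N6966 (iv F52845)) (tt N7310 D13768) (tt N5286 (iv D12765)))
theorem Q6309 : ∀ i, i < 6309 → P i := stepQ 6308 Q6308 (allL N6308 (tt N5772 F50297) (tt N5288 (iv D12766)) (tt N7259 (iv F54132)) (tt N5305 F50298) (tt N7311 D13769) (tt N7223 (iv F53994)) (tt N5291 F50299) (tt N7299 (iv F54289)) (tt N7312 D13770))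
theorem Q6310 : ∀ i, i < 6310 → P i := stepQ 6309 Q6309 (allL N6309 (tt N5323 F50300) (tt N7311 (iv F54332)) (tt N5289 F50301) (tt N6309 F50302) (tt N5288 (iv D12767)) (tt N6956 (iv F52798)) (tt N5292 F50303) (tt N5697 F50304) (tt N7313 D13771))
theorem Q6311 : ∀ i, i < 6311 → P i := stepQ 6310 Q6310 (allL N6310 (tt N5324 F50305) (tt N7312 (iv F54337)) (tt N5290 F50306) (tt N5306 F50307) (tt N7313 (iv F54343)) (tt N7233 (iv F54033)) (tt N5293 F50308) (tt N7314 D13772) (tt N5288 (iv D12768)))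
theorem Q6312 : ∀ i, i < 6312 → P i := stepQ 6311 Q6311 (allL N6311 (tt N5325 F50309) (tt N7262 (iv F54142)) (tt N6956 (iv F52796)) (tt N5297 F50310) (tt N6955 F52794) (tt N5289 (iv D12769)) (tt N6959 (iv F52809)) (tt N5696 F50311) (tt N7315 D13773))
theorem Q6313 : ∀ i, i < 6313 → P i := stepQ 6312 Q6312 (allL N6312 (tt N5326 F50312) (tt N7263 (iv F54146)) (tt N7313 (iv F54341)) (tt N5298 F50313) (tt N5290 F50314) (tt N7315 (iv F54350)) (tt N5295 F50315) (tt N7316 D13774) (tt N5289 (iv D12770)))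
theorem Q6314 : ∀ i, i < 6314 → P i := stepQ 6313 Q6313 (allL N6313 (tt N5327 F50316) (tt N7264 (iv F54151)) (tt N7314 (iv F54346)) (tt N7222 (iv F53988)) (tt N7316 (iv F54353)) (tt N7310 (iv F54330)) (tt N5296 F50317) (tt N5290 (iv D12771)) (tt N7301 (iv F54299)))
theorem Q6315 : ∀ i, i < 6315 → P i := stepQ 6314 Q6314 (allL N6314 (tt N5291 (iv D12772)) (tt N5328 F50318) (tt N7265 (iv F54154)) (tt N5308 F50319) (tt N7317 D13775) (tt N6971 (iv F52865)) (tt N5772 F50320) (tt N7302 (iv F54303)) (tt N7318 D13776))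
theorem Q6316 : ∀ i, i < 6316 → P i := stepQ 6315 Q6315 (allL N6315 (tt N7317 (iv F54356)) (tt N5292 F50321) (tt N7266 (iv F54158)) (tt N6315 F50322) (tt N5291 (iv D12773)) (tt N7319 D13777) (tt N7311 (iv F54334)) (tt N7303 (iv F54306)) (tt N7320 D13778))
theorem Q6317 : ∀ i, i < 6317 → P i := stepQ 6316 Q6316 (allL N6316 (tt N7318 (iv F54360)) (tt N5293 F50323) (tt N7267 (iv F54160)) (tt N5309 F50324) (tt N7320 (iv F54368)) (tt N6973 (iv F52871)) (tt N7312 (iv F54339)) (tt N7321 D13779) (tt N5291 (iv D12774)))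
theorem Q6318 : ∀ i, i < 6318 → P i := stepQ 6317 Q6317 (allL N6317 (tt N5331 F50325) (tt N7319 (iv F54364)) (tt N5294 F50326) (tt N6317 F50327) (tt N6974 (iv F52875)) (tt N5292 (iv D12775)) (tt N6961 (iv F52821)) (tt N6977 (iv F52891)) (tt N7322 D13780))
theorem Q6319 : ∀ i, i < 6319 → P i := stepQ 6318 Q6318 (allL N6318 (tt N5332 F50328) (tt N7320 (iv F54366)) (tt N5295 F50329) (tt N6318 F50330) (tt N5293 F50331) (tt N7322 (iv F54373)) (tt N7313 (iv F54344)) (tt N7323 D13781) (tt N5292 (iv D12776)))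
theorem Q6320 : ∀ i, i < 6320 → P i := stepQ 6319 Q6319 (allL N6319 (tt N5333 F50332) (tt N7321 (iv F54369)) (tt N5296 F50333) (tt N7324 D13782) (tt N7323 (iv F54376)) (tt N6976 (iv F52885)) (tt N7314 (iv F54347)) (tt N5293 (iv D12777)) (tt N7306 (iv F54317)))
theorem Q6321 : ∀ i, i < 6321 → P i := stepQ 6320 Q6320 (allL N6320 (tt N5334 F50334) (tt N7272 (iv F54171)) (tt N6961 (iv F52818)) (tt N5299 F50335) (tt N6977 (iv F52889)) (tt N6959 (iv F52812)) (tt N5294 (iv D12778)) (tt N6974 (iv F52877)) (tt N7325 D13783))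
theorem Q6322 : ∀ i, i < 6322 → P i := stepQ 6321 Q6321 (allL N6321 (tt N5335 F50336) (tt N7273 (iv F54174)) (tt N7322 (iv F54371)) (tt N5300 F50337) (tt N6978 (iv F52894)) (tt N5295 F50338) (tt N7325 (iv F54381)) (tt N7326 D13784) (tt N5294 (iv D12779)))
theorem Q6323 : ∀ i, i < 6323 → P i := stepQ 6322 Q6322 (allL N6322 (tt N5336 F50339) (tt N7274 (iv F54178)) (tt N7323 (iv F54375)) (tt N7327 D13785) (tt N5296 F50340) (tt N7326 (iv F54383)) (tt N7316 (iv F54354)) (tt N5295 (iv D12780)) (tt N7308 (iv F54325)))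
theorem Q6324 : ∀ i, i < 6324 → P i := stepQ 6323 Q6323 (allL N6323 (tt N5337 F50341) (tt N7278 (iv F54195)) (tt N6323 F50342) (tt N6959 F52811) (tt N6323 F50343) (tt N5299 F50344) (tt N5297 (iv D12781)) (tt N5630 F50345) (tt N7328 D13786))
theorem Q6325 : ∀ i, i < 6325 → P i := stepQ 6324 Q6324 (allL N6324 (tt N5338 F50346) (tt N7279 (iv F54200)) (tt N6324 F50347) (tt N7315 (iv F54349)) (tt N6324 F50348) (tt N5298 F50349) (tt N7328 (iv F54394)) (tt N5694 F50350) (tt N5297 (iv D12782)))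
theorem Q6326 : ∀ i, i < 6326 → P i := stepQ 6325 Q6325 (allL N6325 (tt N5339 F50351) (tt N7287 (iv F54236)) (tt N6325 F50352) (tt N7325 (iv F54380)) (tt N5302 F50353) (tt N7328 (iv F54393)) (tt N5300 F50354) (tt N7329 D13787) (tt N5299 (iv D12783)))
theorem Q6327 : ∀ i, i < 6327 → P i := stepQ 6326 Q6326 (allL N6326 (tt N5340 F50355) (tt N7288 (iv F54240)) (tt N6326 F50356) (tt N7330 D13788) (tt N5303 F50357) (tt N5301 F50358) (tt N7329 (iv F54400)) (tt N5300 (iv D12784)) (tt N5632 F50359))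
theorem Q6328 : ∀ i, i < 6328 → P i := stepQ 6327 Q6327 (allL N6327 (tt N5341 F50360) (tt N7289 (iv F54245)) (tt N5828 (iv F50364)) (tt N5301 (iv D12785)) (tt N5443 F50361) (tt N7330 (iv F54403)) (tt N5448 F50362) (tt N7327 (iv F54387)) (tt N5442 F50363))
theorem Q6329 : ∀ i, i < 6329 → P i := stepQ 6328 Q6328 (allL N6328 (tt N5342 F50365) (tt N7296 (iv F54274)) (tt N6328 F50366) (tt N6915 (iv F52619)) (tt N7329 (iv F54398)) (tt N6328 F50367) (tt N5303 F50368) (tt N5302 (iv D12786)) (tt N5633 F50369))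
theorem Q6330 : ∀ i, i < 6330 → P i := stepQ 6329 Q6329 (allL N6329 (tt N5343 F50370) (tt N7297 (iv F54279)) (tt N6917 (iv F52631)) (tt N5303 (iv D12787)) (tt N7027 (iv F53136)) (tt N5304 F50371) (tt N6915 (iv F52622)) (tt N6985 (iv F52927)) (tt N5634 F50372))
theorem Q6331 : ∀ i, i < 6331 → P i := stepQ 6330 Q6330 (allL N6330 (tt N5344 F50373) (tt N6409 (iv F50666)) (tt N5304 (iv D12788)) (tt N6330 F50374) (tt N6507 (iv F50993)) (tt N6917 (iv F52634)) (tt N6330 F50375) (tt N6847 (iv F52310)) (tt N5635 F50376))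
theorem Q6332 : ∀ i, i < 6332 → P i := stepQ 6331 Q6331 (allL N6331 (tt N5784 F50377) (tt N5306 F50378) (tt N6333 (iv F50388)) (tt N7312 (iv F54338)) (tt N6331 F50379) (tt N7229 (iv F54017)) (tt N5309 F50380) (tt N7331 D13789) (tt N5305 (iv D12789)))
theorem Q6333 : ∀ i, i < 6333 → P i := stepQ 6332 Q6332 (allL N6332 (tt N5345 F50381) (tt N7331 (iv F54407)) (tt N5307 F50382) (tt N7332 D13790) (tt N6332 F50383) (tt N7237 (iv F54048)) (tt N5310 F50384) (tt N5306 (iv D12790)) (tt N6332 F50385))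
theorem Q6334 : ∀ i, i < 6334 → P i := stepQ 6333 Q6333 (allL N6333 (tt N5309 F50386) (tt N5346 F50387) (tt N6331 F50388) (tt N7318 (iv F54362)) (tt N6333 F50389) (tt N6993 (iv F52972)) (tt N5784 F50390) (tt N7333 D13791) (tt N5308 (iv D12791)))
theorem Q6335 : ∀ i, i < 6335 → P i := stepQ 6334 Q6334 (allL N6334 (tt N7333 (iv F54414)) (tt N5310 F50391) (tt N6786 (iv F52118)) (tt N7334 D13792) (tt N6334 F50392) (tt N6994 (iv F52974)) (tt N7331 (iv F54409)) (tt N5309 (iv D12792)) (tt N6334 F50393))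
theorem Q6336 : ∀ i, i < 6336 → P i := stepQ 6335 Q6335 (allL N6335 (tt N5348 F50394) (tt N7334 (iv F54420)) (tt N7231 (iv F54023)) (tt N5310 (iv D12793)) (tt N7335 D13793) (tt N6995 (iv F52978)) (tt N7332 (iv F54412)) (tt N7324 (iv F54378)) (tt N6335 F50395))
theorem Q6337 : ∀ i, i < 6337 → P i := stepQ 6336 Q6336 (allL N6336 (tt N7298 (iv F54282)) (tt N5387 F50396) (tt N7007 (iv F53039)) (tt N5312 F50397) (tt N7006 (iv F53035)) (tt N5314 F50398) (tt N6996 (iv F52985)) (tt N7336 D13794) (tt N5311 (iv D12794)))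
theorem Q6338 : ∀ i, i < 6338 → P i := stepQ 6337 Q6337 (allL N6337 (tt N7300 (iv F54290)) (tt N5786 F50399) (tt N5314 F50400) (tt N6337 F50401) (tt N5501 F50402) (tt N7007 (iv F53042)) (tt N5317 F50403) (tt N7337 D13795) (tt N5313 (iv D12795)))
theorem Q6339 : ∀ i, i < 6339 → P i := stepQ 6338 Q6338 (allL N6338 (tt N7301 (iv F54295)) (tt N5473 F50404) (tt N7337 (iv F54430)) (tt N5394 F50405) (tt N5496 F50406) (tt N7336 (iv F54427)) (tt N5320 F50407) (tt N5314 (iv D12796)) (tt N5327 F50408))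
theorem Q6340 : ∀ i, i < 6340 → P i := stepQ 6339 Q6339 (allL N6339 (tt N5315 (iv D12797)) (tt N7302 (iv F54300)) (tt N5474 F50409) (tt N6339 F50410) (tt N7118 (iv F53496)) (tt N7000 (iv F53005)) (tt N5769 F50411) (tt N5328 F50412) (tt N7338 D13796))
theorem Q6341 : ∀ i, i < 6341 → P i := stepQ 6340 Q6340 (allL N6340 (tt N7338 (iv F54434)) (tt N5317 F50413) (tt N5476 F50414) (tt N6340 F50415) (tt N7153 (iv F53660)) (tt N7001 (iv F53012)) (tt N5786 F50416) (tt N7339 D13797) (tt N5315 (iv D12798)))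
theorem Q6342 : ∀ i, i < 6342 → P i := stepQ 6341 Q6341 (allL N6341 (tt N7305 (iv F54310)) (tt N7153 (iv F53657)) (tt N5319 F50417) (tt N5594 F50418) (tt N5317 F50419) (tt N7020 (iv F53104)) (tt N5501 F50420) (tt N7340 D13798) (tt N5316 (iv D12799)))
theorem Q6343 : ∀ i, i < 6343 → P i := stepQ 6342 Q6342 (allL N6342 (tt N7306 (iv F54315)) (tt N7339 (iv F54438)) (tt N5320 F50421) (tt N7341 D13799) (tt N7340 (iv F54444)) (tt N7003 (iv F53021)) (tt N7337 (iv F54432)) (tt N5317 (iv D12800)) (tt N5333 F50422))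
theorem Q6344 : ∀ i, i < 6344 → P i := stepQ 6343 Q6343 (allL N6343 (tt N7307 (iv F54318)) (tt N5481 F50423) (tt N7020 (iv F53101)) (tt N5498 F50424) (tt N7004 (iv F53026)) (tt N5319 F50425) (tt N7017 (iv F53092)) (tt N7342 D13800) (tt N5318 (iv D12801)))
theorem Q6345 : ∀ i, i < 6345 → P i := stepQ 6344 Q6344 (allL N6344 (tt N7308 (iv F54321)) (tt N5482 F50426) (tt N7340 (iv F54442)) (tt N5485 F50427) (tt N5320 F50428) (tt N7342 (iv F54451)) (tt N5496 F50429) (tt N5319 (iv D12802)) (tt N5336 F50430))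
theorem Q6346 : ∀ i, i < 6346 → P i := stepQ 6345 Q6345 (allL N6345 (tt N7309 (iv F54326)) (tt N5391 F50431) (tt N6996 (iv F52981)) (tt N6345 F50432) (tt N5322 F50433) (tt N6997 (iv F52990)) (tt N7007 (iv F53043)) (tt N7343 D13801) (tt N5321 (iv D12803)))
theorem Q6347 : ∀ i, i < 6347 → P i := stepQ 6346 Q6346 (allL N6346 (tt N7310 (iv F54329)) (tt N5392 F50434) (tt N7234 (iv F54035)) (tt N7151 (iv F53646)) (tt N7343 (iv F54454)) (tt N5327 F50435) (tt N7008 (iv F53047)) (tt N5322 (iv D12804)) (tt N7336 (iv F54428)))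
theorem Q6348 : ∀ i, i < 6348 → P i := stepQ 6347 Q6347 (allL N6347 (tt N7313 (iv F54340)) (tt N5789 F50436) (tt N5326 F50437) (tt N6347 F50438) (tt N5324 F50439) (tt N6998 (iv F52996)) (tt N5332 F50440) (tt N7344 D13802) (tt N5323 (iv D12805)))
theorem Q6349 : ∀ i, i < 6349 → P i := stepQ 6348 Q6348 (allL N6348 (tt N7314 (iv F54345)) (tt N5790 F50441) (tt N5327 F50442) (tt N7345 D13803) (tt N7344 (iv F54457)) (tt N7234 (iv F54036)) (tt N5333 F50443) (tt N5324 (iv D12806)) (tt N7337 (iv F54433)))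
theorem Q6350 : ∀ i, i < 6350 → P i := stepQ 6349 Q6349 (allL N6349 (tt N7315 (iv F54348)) (tt N5484 F50444) (tt N6998 (iv F52993)) (tt N5338 F50445) (tt N6997 (iv F52989)) (tt N5326 F50446) (tt N7002 (iv F53019)) (tt N7346 D13804) (tt N5325 (iv D12807)))
theorem Q6351 : ∀ i, i < 6351 → P i := stepQ 6350 Q6350 (allL N6350 (tt N7316 (iv F54351)) (tt N5485 F50447) (tt N7344 (iv F54456)) (tt N5482 F50448) (tt N5327 F50449) (tt N7346 (iv F54465)) (tt N5336 F50450) (tt N5326 (iv D12808)) (tt N5496 F50451))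
theorem Q6352 : ∀ i, i < 6352 → P i := stepQ 6351 Q6351 (allL N6351 (tt N5329 F50452) (tt N7317 (iv F54357)) (tt N5486 F50453) (tt N6351 F50454) (tt N5328 (iv D12809)) (tt N7108 (iv F53446)) (tt N5773 F50455) (tt N7118 (iv F53498)) (tt N7347 D13805))
theorem Q6353 : ∀ i, i < 6353 → P i := stepQ 6352 Q6352 (allL N6352 (tt N5330 F50456) (tt N7318 (iv F54361)) (tt N5487 F50457) (tt N5346 F50458) (tt N7347 (iv F54470)) (tt N7014 (iv F53077)) (tt N5774 F50459) (tt N7348 D13806) (tt N5328 (iv D12810)))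
theorem Q6354 : ∀ i, i < 6354 → P i := stepQ 6353 Q6353 (allL N6353 (tt N7347 (iv F54467)) (tt N5332 F50460) (tt N5489 F50461) (tt N6353 F50462) (tt N5330 F50463) (tt N7146 (iv F53627)) (tt N5789 F50464) (tt N7349 D13807) (tt N5329 (iv D12811)))
theorem Q6355 : ∀ i, i < 6355 → P i := stepQ 6354 Q6354 (allL N6354 (tt N7348 (iv F54472)) (tt N5333 F50465) (tt N5490 F50466) (tt N7350 D13808) (tt N7349 (iv F54477)) (tt N7016 (iv F53086)) (tt N5790 F50467) (tt N5330 (iv D12812)) (tt N7339 (iv F54441)))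
theorem Q6356 : ∀ i, i < 6356 → P i := stepQ 6355 Q6355 (allL N6355 (tt N7322 (iv F54370)) (tt N7146 (iv F53623)) (tt N5335 F50468) (tt N6355 F50469) (tt N7017 (iv F53090)) (tt N5332 F50470) (tt N7004 (iv F53028)) (tt N7351 D13809) (tt N5331 (iv D12813)))
theorem Q6357 : ∀ i, i < 6357 → P i := stepQ 6356 Q6356 (allL N6356 (tt N7323 (iv F54374)) (tt N7349 (iv F54475)) (tt N5336 F50471) (tt N7352 D13810) (tt N5333 F50472) (tt N7351 (iv F54483)) (tt N7344 (iv F54458)) (tt N5332 (iv D12814)) (tt N7340 (iv F54446)))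
theorem Q6358 : ∀ i, i < 6358 → P i := stepQ 6357 Q6357 (allL N6357 (tt N7324 (iv F54377)) (tt N7350 (iv F54479)) (tt N7235 (iv F54037)) (tt N5333 (iv D12815)) (tt N7353 D13811) (tt N7019 (iv F53098)) (tt N7345 (iv F54461)) (tt N5348 F50473) (tt N7341 (iv F54448)))
theorem Q6359 : ∀ i, i < 6359 → P i := stepQ 6358 Q6358 (allL N6358 (tt N7325 (iv F54379)) (tt N5494 F50474) (tt N7004 (iv F53024)) (tt N5339 F50475) (tt N7020 (iv F53103)) (tt N7002 (iv F53018)) (tt N5335 F50476) (tt N7354 D13812) (tt N5334 (iv D12816)))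
theorem Q6360 : ∀ i, i < 6360 → P i := stepQ 6359 Q6359 (allL N6359 (tt N7326 (iv F54382)) (tt N5495 F50477) (tt N7351 (iv F54482)) (tt N7355 D13813) (tt N7021 (iv F53107)) (tt N5336 F50478) (tt N7354 (iv F54489)) (tt N5335 (iv D12817)) (tt N7342 (iv F54452)))
theorem Q6361 : ∀ i, i < 6361 → P i := stepQ 6360 Q6360 (allL N6360 (tt N7327 (iv F54384)) (tt N5496 F50479) (tt N5840 (iv F50484)) (tt N5336 (iv D12818)) (tt N5473 F50480) (tt N7355 (iv F54491)) (tt N5482 F50481) (tt N5341 F50482) (tt N5485 F50483))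
theorem Q6362 : ∀ i, i < 6362 → P i := stepQ 6361 Q6361 (allL N6361 (tt N7328 (iv F54390)) (tt N5497 F50485) (tt N6361 F50486) (tt N7002 (iv F53016)) (tt N6361 F50487) (tt N5339 F50488) (tt N5338 F50489) (tt N5699 F50490) (tt N5337 (iv D12819)))
theorem Q6363 : ∀ i, i < 6363 → P i := stepQ 6362 Q6362 (allL N6362 (tt N7329 (iv F54396)) (tt N5499 F50491) (tt N6362 F50492) (tt N7015 (iv F53080)) (tt N5342 F50493) (tt N5699 F50494) (tt N5340 F50495) (tt N5339 (iv D12820)) (tt N5637 F50496))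
theorem Q6364 : ∀ i, i < 6364 → P i := stepQ 6363 Q6363 (allL N6363 (tt N7330 (iv F54402)) (tt N5500 F50497) (tt N5839 (iv F50500)) (tt N5340 (iv D12821)) (tt N7010 (iv F53057)) (tt N5341 F50498) (tt N7015 (iv F53083)) (tt N7355 (iv F54492)) (tt N5472 F50499))
theorem Q6365 : ∀ i, i < 6365 → P i := stepQ 6364 Q6364 (allL N6364 (tt N7332 (iv F54411)) (tt N5799 F50501) (tt N7236 (iv F54041)) (tt N5345 (iv D12822)) (tt N7356 D13814) (tt N7238 (iv F54053)) (tt N5348 F50502) (tt N7345 (iv F54462)) (tt N6364 F50503))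
theorem Q6366 : ∀ i, i < 6366 → P i := stepQ 6365 Q6365 (allL N6365 (tt N5347 F50504) (tt N7333 (iv F54415)) (tt N5349 F50505) (tt N7357 D13815) (tt N6365 F50506) (tt N7029 (iv F53146)) (tt N5785 F50507) (tt N5346 (iv D12823)) (tt N6365 F50508))
theorem Q6367 : ∀ i, i < 6367 → P i := stepQ 6366 Q6366 (allL N6366 (tt N7357 (iv F54501)) (tt N5348 F50509) (tt N7028 (iv F53139)) (tt N5347 (iv D12824)) (tt N7169 (iv F53718)) (tt N7030 (iv F53151)) (tt N5799 F50510) (tt N7350 (iv F54481)) (tt N6366 F50511))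
theorem Q6368 : ∀ i, i < 6368 → P i := stepQ 6367 Q6367 (allL N6367 (tt N7335 (iv F54422)) (tt N7169 F53722) (tt N7239 (iv F54057)) (tt N6367 F50512) (tt N5348 (iv D12825)) (tt N7170 (iv F53725)) (tt N7356 (iv F54499)) (tt N7353 (iv F54487)) (tt N6367 F50513))
theorem Q6369 : ∀ i, i < 6369 → P i := stepQ 6368 Q6368 (allL N6368 (tt N7203 (iv F53896)) (tt N5503 F50514) (tt N7358 D13816) (tt N5351 (iv D12826)) (tt N7359 D13817) (tt N5800 F50515) (tt N7214 (iv F53953)) (tt N6038 F50516) (tt N7360 D13818))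
theorem Q6370 : ∀ i, i < 6370 → P i := stepQ 6369 Q6369 (allL N6369 (tt N7204 (iv F53902)) (tt N5504 F50517) (tt N5353 F50518) (tt N7360 (iv F54513)) (tt N5639 F50519) (tt N5801 F50520) (tt N7215 (iv F53959)) (tt N5401 F50521) (tt N5351 (iv D12827)))
theorem Q6371 : ∀ i, i < 6371 → P i := stepQ 6370 Q6370 (allL N6370 (tt N7205 (iv F53909)) (tt N7361 D13819) (tt N5352 (iv D12828)) (tt N7358 (iv F54504)) (tt N7207 (iv F53922)) (tt N5802 F50522) (tt N7210 (iv F53935)) (tt N5356 F50523) (tt N7362 D13820))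
theorem Q6372 : ∀ i, i < 6372 → P i := stepQ 6371 Q6371 (allL N6371 (tt N7206 (iv F53914)) (tt N5374 F50524) (tt N7362 (iv F54518)) (tt N5353 F50525) (tt N7208 (iv F53928)) (tt N5804 F50526) (tt N7212 (iv F53945)) (tt N7363 D13821) (tt N5352 (iv D12829)))
theorem Q6373 : ∀ i, i < 6373 → P i := stepQ 6372 Q6372 (allL N6372 (tt N7207 (iv F53920)) (tt N7052 (iv F53232)) (tt N5354 (iv D12830)) (tt N6049 F50527) (tt N7205 (iv F53910)) (tt N7055 (iv F53246)) (tt N5356 F50528) (tt N7210 (iv F53936)) (tt N7364 D13822))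
theorem Q6374 : ∀ i, i < 6374 → P i := stepQ 6373 Q6373 (allL N6373 (tt N7208 (iv F53925)) (tt N5375 F50529) (tt N7364 (iv F54524)) (tt N5355 F50530) (tt N7206 (iv F53917)) (tt N7115 (iv F53480)) (tt N5358 F50531) (tt N7365 D13823) (tt N5354 (iv D12831)))
theorem Q6375 : ∀ i, i < 6375 → P i := stepQ 6374 Q6374 (allL N6374 (tt N7256 (iv F54121)) (tt N5356 (iv D12832)) (tt N5376 F50532) (tt N6052 F50533) (tt N7366 D13824) (tt N5409 F50534) (tt N7052 (iv F53234)) (tt N7361 (iv F54517)) (tt N7367 D13825))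
theorem Q6376 : ∀ i, i < 6376 → P i := stepQ 6375 Q6375 (allL N6375 (tt N7210 (iv F53933)) (tt N7366 (iv F54530)) (tt N5357 F50535) (tt N7368 D13826) (tt N5356 (iv D12833)) (tt N7369 D13827) (tt N7205 (iv F53912)) (tt N7207 (iv F53924)) (tt N7370 D13828))
theorem Q6377 : ∀ i, i < 6377 → P i := stepQ 6376 Q6376 (allL N6376 (tt N7211 (iv F53937)) (tt N7367 (iv F54532)) (tt N5358 F50536) (tt N6054 F50537) (tt N7370 (iv F54541)) (tt N5806 F50538) (tt N7364 (iv F54526)) (tt N7371 D13829) (tt N5356 (iv D12834)))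
theorem Q6378 : ∀ i, i < 6378 → P i := stepQ 6377 Q6377 (allL N6377 (tt N7098 (iv F53391)) (tt N5379 F50539) (tt N7369 (iv F54538)) (tt N5363 F50540) (tt N5807 F50541) (tt N5357 (iv D12835)) (tt N7102 (iv F53416)) (tt N7113 (iv F53470)) (tt N7372 D13830))
theorem Q6379 : ∀ i, i < 6379 → P i := stepQ 6378 Q6378 (allL N6378 (tt N7212 (iv F53941)) (tt N5380 F50542) (tt N7370 (iv F54540)) (tt N5364 F50543) (tt N5358 F50544) (tt N7372 (iv F54547)) (tt N7206 (iv F53919)) (tt N7373 D13831) (tt N5357 (iv D12836)))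
theorem Q6380 : ∀ i, i < 6380 → P i := stepQ 6379 Q6379 (allL N6379 (tt N7213 (iv F53946)) (tt N5381 F50545) (tt N7371 (iv F54542)) (tt N5417 F50546) (tt N7373 (iv F54549)) (tt N5809 F50547) (tt N7365 (iv F54529)) (tt N5358 (iv D12837)) (tt N7363 (iv F54523)))
theorem Q6381 : ∀ i, i < 6381 → P i := stepQ 6380 Q6380 (allL N6380 (tt N5639 F50548) (tt N6380 F50549) (tt N5360 F50550) (tt N6059 F50551) (tt N7204 (iv F53905)) (tt N6380 F50552) (tt N5362 F50553) (tt N5604 F50554) (tt N5359 (iv D12838)))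
theorem Q6382 : ∀ i, i < 6382 → P i := stepQ 6381 Q6381 (allL N6381 (tt N7214 (iv F53950)) (tt N6381 F50555) (tt N7368 (iv F54536)) (tt N5361 (iv D12839)) (tt N6063 F50556) (tt N7374 D13832) (tt N7203 (iv F53900)) (tt N7375 D13833) (tt N7376 D13834))
theorem Q6383 : ∀ i, i < 6383 → P i := stepQ 6382 Q6382 (allL N6382 (tt N7183 (iv F53780)) (tt N6382 F50557) (tt N5363 F50558) (tt N7374 (iv F54551)) (tt N5367 F50559) (tt N5361 (iv D12840)) (tt N7187 (iv F53803)) (tt N5641 F50560) (tt N7377 D13835))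
theorem Q6384 : ∀ i, i < 6384 → P i := stepQ 6383 Q6383 (allL N6383 (tt N7215 (iv F53955)) (tt N6383 F50561) (tt N5364 F50562) (tt N7376 (iv F54558)) (tt N5362 F50563) (tt N7377 (iv F54563)) (tt N7204 (iv F53907)) (tt N7242 (iv F54074)) (tt N5361 (iv D12841)))
theorem Q6385 : ∀ i, i < 6385 → P i := stepQ 6384 Q6384 (allL N6384 (tt N5656 F50564) (tt N6384 F50565) (tt N5365 F50566) (tt N7378 D13836) (tt N7242 (iv F54072)) (tt N5369 F50567) (tt N5604 F50568) (tt N5362 (iv D12842)) (tt N5602 F50569))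
theorem Q6386 : ∀ i, i < 6386 → P i := stepQ 6385 Q6385 (allL N6385 (tt N7193 (iv F53831)) (tt N5382 F50570) (tt N7377 (iv F54561)) (tt N7372 (iv F54545)) (tt N5371 F50571) (tt N5364 F50572) (tt N7194 (iv F53841)) (tt N7247 (iv F54091)) (tt N5363 (iv D12843)))
theorem Q6387 : ∀ i, i < 6387 → P i := stepQ 6386 Q6386 (allL N6386 (tt N7216 (iv F53961)) (tt N6386 F50573) (tt N5817 F50574) (tt N5367 F50575) (tt N7379 D13837) (tt N5366 (iv D12844)) (tt N7380 D13838) (tt N7381 D13839) (tt N7382 D13840))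
theorem Q6388 : ∀ i, i < 6388 → P i := stepQ 6387 Q6387 (allL N6387 (tt N6468 (iv F50837)) (tt N6387 F50576) (tt N5818 F50577) (tt N5643 F50578) (tt N6071 F50579) (tt N7381 (iv F54581)) (tt N6387 F50580) (tt N5366 (iv D12845)) (tt N6287 (iv F50581)))
theorem Q6389 : ∀ i, i < 6389 → P i := stepQ 6388 Q6388 (allL N6388 (tt N6469 (iv F50842)) (tt N6388 F50582) (tt N5819 F50583) (tt N5368 F50584) (tt N6072 F50585) (tt N7382 (iv F54586)) (tt N6388 F50586) (tt N6288 F50587) (tt N5366 (iv D12846)))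
theorem Q6390 : ∀ i, i < 6390 → P i := stepQ 6389 Q6389 (allL N6389 (tt N7188 (iv F53806)) (tt N6389 F50588) (tt N5370 F50589) (tt N7380 (iv F54576)) (tt N7187 F53805) (tt N6389 F50590) (tt N5367 (iv D12847)) (tt N5645 F50591) (tt N7383 D13841))
theorem Q6391 : ∀ i, i < 6391 → P i := stepQ 6390 Q6390 (allL N6390 (tt N7217 (iv F53964)) (tt N6390 F50592) (tt N5371 F50593) (tt N7382 (iv F54585)) (tt N7377 (iv F54562)) (tt N5368 F50594) (tt N7383 (iv F54591)) (tt N7384 D13842) (tt N5367 (iv D12848)))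
theorem Q6392 : ∀ i, i < 6392 → P i := stepQ 6391 Q6391 (allL N6391 (tt N6472 (iv F50855)) (tt N6391 F50595) (tt N5372 F50596) (tt N6291 F50597) (tt N5369 F50598) (tt N7384 (iv F54595)) (tt N6391 F50599) (tt N5368 (iv D12849)) (tt N5647 F50600))
theorem Q6393 : ∀ i, i < 6393 → P i := stepQ 6392 Q6392 (allL N6392 (tt N6473 (iv F50862)) (tt N6392 F50601) (tt N5436 F50602) (tt N5369 (iv D12850)) (tt N6292 F50603) (tt N7378 (iv F54567)) (tt N6392 F50604) (tt N6076 F50605) (tt N5648 F50606))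
theorem Q6394 : ∀ i, i < 6394 → P i := stepQ 6393 Q6393 (allL N6393 (tt N7195 (iv F53842)) (tt N5383 F50607) (tt N7383 (iv F54589)) (tt N5824 F50608) (tt N7194 (iv F53839)) (tt N6393 F50609) (tt N5371 F50610) (tt N7385 D13843) (tt N5370 (iv D12851)))
theorem Q6395 : ∀ i, i < 6395 → P i := stepQ 6394 Q6394 (allL N6394 (tt N7218 (iv F53967)) (tt N5384 F50611) (tt N7384 (iv F54593)) (tt N7386 D13844) (tt N7247 (iv F54089)) (tt N5372 F50612) (tt N7385 (iv F54599)) (tt N5371 (iv D12852)) (tt N5650 F50613))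
theorem Q6396 : ∀ i, i < 6396 → P i := stepQ 6395 Q6395 (allL N6395 (tt N6476 (iv F50875)) (tt N5385 F50614) (tt N6295 F50615) (tt N5372 (iv D12853)) (tt N5439 F50616) (tt N7386 (iv F54603)) (tt N6395 F50617) (tt N5826 F50618) (tt N5651 F50619))
theorem Q6397 : ∀ i, i < 6397 → P i := stepQ 6396 Q6396 (allL N6396 (tt N7246 (iv F54083)) (tt N5373 (iv D12854)) (tt N7361 (iv F54515)) (tt N5403 F50620) (tt N7220 (iv F53979)) (tt N5404 F50621) (tt N7041 (iv F53198)) (tt N5376 F50622) (tt N7387 D13845))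
theorem Q6398 : ∀ i, i < 6398 → P i := stepQ 6397 Q6397 (allL N6397 (tt N5387 F50623) (tt N7387 (iv F54606)) (tt N5374 F50624) (tt N5441 F50625) (tt N7221 (iv F53985)) (tt N5443 F50626) (tt N7097 (iv F53390)) (tt N7388 D13846) (tt N5373 (iv D12855)))
theorem Q6399 : ∀ i, i < 6399 → P i := stepQ 6398 Q6398 (allL N6398 (tt N5388 F50627) (tt N7363 (iv F54520)) (tt N7388 (iv F54610)) (tt N5449 F50628) (tt N7222 (iv F53989)) (tt N5829 F50629) (tt N7226 (iv F54004)) (tt N5374 (iv D12856)) (tt N5381 F50630))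
theorem Q6400 : ∀ i, i < 6400 → P i := stepQ 6399 Q6399 (allL N6399 (tt N5389 F50631) (tt N7365 (iv F54527)) (tt N7112 (iv F53462)) (tt N5452 F50632) (tt N7219 (iv F53974)) (tt N7117 (iv F53491)) (tt N5381 F50633) (tt N5375 (iv D12857)) (tt N7226 (iv F54005)))
theorem Q6401 : ∀ i, i < 6401 → P i := stepQ 6400 Q6400 (allL N6400 (tt N7257 (iv F54124)) (tt N5377 F50634) (tt N7366 (iv F54531)) (tt N6400 F50635) (tt N5376 (iv D12858)) (tt N7389 D13847) (tt N7053 (iv F53237)) (tt N7220 (iv F53981)) (tt N7390 D13848))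
theorem Q6402 : ∀ i, i < 6402 → P i := stepQ 6401 Q6401 (allL N6401 (tt N7258 (iv F54127)) (tt N5378 F50636) (tt N7367 (iv F54533)) (tt N5386 F50637) (tt N7390 (iv F54618)) (tt N5411 F50638) (tt N7054 (iv F53243)) (tt N7391 D13849) (tt N5376 (iv D12859)))
theorem Q6403 : ∀ i, i < 6403 → P i := stepQ 6402 Q6402 (allL N6402 (tt N5390 F50639) (tt N7389 (iv F54613)) (tt N5379 F50640) (tt N6402 F50641) (tt N5450 F50642) (tt N5377 (iv D12860)) (tt N7000 (iv F53006)) (tt N7009 (iv F53053)) (tt N7392 D13850))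
theorem Q6404 : ∀ i, i < 6404 → P i := stepQ 6403 Q6403 (allL N6403 (tt N5391 F50643) (tt N7390 (iv F54616)) (tt N5380 F50644) (tt N6403 F50645) (tt N5378 F50646) (tt N7392 (iv F54625)) (tt N7111 (iv F53460)) (tt N7393 D13851) (tt N5377 (iv D12861)))
theorem Q6405 : ∀ i, i < 6405 → P i := stepQ 6404 Q6404 (allL N6404 (tt N5392 F50647) (tt N7391 (iv F54619)) (tt N5381 F50648) (tt N7117 (iv F53490)) (tt N7393 (iv F54628)) (tt N5452 F50649) (tt N7112 (iv F53465)) (tt N5378 (iv D12862)) (tt N7388 (iv F54612)))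
theorem Q6406 : ∀ i, i < 6406 → P i := stepQ 6405 Q6405 (allL N6405 (tt N5393 F50650) (tt N7372 (iv F54544)) (tt N7392 (iv F54622)) (tt N5382 F50651) (tt N5831 F50652) (tt N5380 F50653) (tt N7142 (iv F53606)) (tt N7394 D13852) (tt N5379 (iv D12863)))
theorem Q6407 : ∀ i, i < 6407 → P i := stepQ 6406 Q6406 (allL N6406 (tt N5394 F50654) (tt N7373 (iv F54548)) (tt N7393 (iv F54627)) (tt N7301 (iv F54296)) (tt N5381 F50655) (tt N7394 (iv F54631)) (tt N7219 (iv F53976)) (tt N5380 (iv D12864)) (tt N7222 (iv F53991)))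
theorem Q6408 : ∀ i, i < 6408 → P i := stepQ 6407 Q6407 (allL N6407 (tt N5395 F50656) (tt N7385 (iv F54597)) (tt N6407 F50657) (tt N7201 (iv F53883)) (tt N6954 (iv F52785)) (tt N6407 F50658) (tt N5384 F50659) (tt N5383 (iv D12865)) (tt N5652 F50660))
theorem Q6409 : ∀ i, i < 6409 → P i := stepQ 6408 Q6408 (allL N6408 (tt N5396 F50661) (tt N7386 (iv F54601)) (tt N6988 (iv F52942)) (tt N5384 (iv D12866)) (tt N6987 (iv F52936)) (tt N5385 F50662) (tt N7201 (iv F53886)) (tt N5837 F50663) (tt N5653 F50664))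
theorem Q6410 : ∀ i, i < 6410 → P i := stepQ 6409 Q6409 (allL N6409 (tt N5397 F50665) (tt N6330 F50666) (tt N5385 (iv D12867)) (tt N6409 F50667) (tt N5470 F50668) (tt N6988 (iv F52945)) (tt N6409 F50669) (tt N5838 F50670) (tt N5654 F50671))
theorem Q6411 : ∀ i, i < 6411 → P i := stepQ 6410 Q6410 (allL N6410 (tt N7388 (iv F54609)) (tt N7336 (iv F54425)) (tt N5388 F50672) (tt N7140 (iv F53592)) (tt N7232 (iv F54027)) (tt N5473 F50673) (tt N7139 (iv F53588)) (tt N5387 (iv D12868)) (tt N5392 F50674))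
theorem Q6412 : ∀ i, i < 6412 → P i := stepQ 6411 Q6411 (allL N6411 (tt N7392 (iv F54621)) (tt N6997 (iv F52986)) (tt N5393 F50675) (tt N6411 F50676) (tt N5484 F50677) (tt N5391 F50678) (tt N7001 (iv F53013)) (tt N7395 D13853) (tt N5390 (iv D12869)))
theorem Q6413 : ∀ i, i < 6413 → P i := stepQ 6412 Q6412 (allL N6412 (tt N7393 (iv F54626)) (tt N7343 (iv F54453)) (tt N5394 F50679) (tt N7396 D13854) (tt N5392 F50680) (tt N7395 (iv F54634)) (tt N7149 (iv F53638)) (tt N5391 (iv D12870)) (tt N7232 (iv F54029)))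
theorem Q6414 : ∀ i, i < 6414 → P i := stepQ 6413 Q6413 (allL N6413 (tt N7394 (iv F54629)) (tt N7140 (iv F53590)) (tt N7395 (iv F54632)) (tt N7336 (iv F54426)) (tt N5842 F50681) (tt N5394 F50682) (tt N7143 (iv F53610)) (tt N5393 (iv D12871)) (tt N7151 (iv F53650)))
theorem Q6415 : ∀ i, i < 6415 → P i := stepQ 6414 Q6414 (allL N6414 (tt N5646 F50683) (tt N5509 F50684) (tt N5402 F50685) (tt N6698 F51758) (tt N5398 (iv D12872)) (tt N5598 F50686) (tt N7033 (iv F53169)) (tt N6700 (iv F51766)) (tt N5597 F50687))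
theorem Q6416 : ∀ i, i < 6416 → P i := stepQ 6415 Q6415 (allL N6415 (tt N7240 (iv F54061)) (tt N5506 F50688) (tt N5403 F50689) (tt N7397 D13855) (tt N6700 F51768) (tt N5399 F50690) (tt N7034 (iv F53174)) (tt N5398 (iv D12873)) (tt N7398 D13856))
theorem Q6417 : ∀ i, i < 6417 → P i := stepQ 6416 Q6416 (allL N6416 (tt N7241 (iv F54066)) (tt N5511 F50691) (tt N7399 D13857) (tt N5399 (iv D12874)) (tt N7400 D13858) (tt N7397 (iv F54637)) (tt N5400 F50692) (tt N6539 (iv F51096)) (tt N7401 D13859))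
theorem Q6418 : ∀ i, i < 6418 → P i := stepQ 6417 Q6417 (allL N6417 (tt N7242 (iv F54069)) (tt N5512 F50693) (tt N5405 F50694) (tt N7401 (iv F54649)) (tt N5656 F50695) (tt N7398 (iv F54641)) (tt N5401 F50696) (tt N7215 (iv F53960)) (tt N5399 (iv D12875)))
theorem Q6419 : ∀ i, i < 6419 → P i := stepQ 6418 Q6418 (allL N6418 (tt N7243 (iv F54075)) (tt N7402 D13860) (tt N5400 (iv D12876)) (tt N5406 F50697) (tt N7403 D13861) (tt N7037 (iv F53183)) (tt N7399 (iv F54644)) (tt N6798 (iv F52148)) (tt N7404 D13862))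
theorem Q6420 : ∀ i, i < 6420 → P i := stepQ 6419 Q6419 (allL N6419 (tt N7244 (iv F54077)) (tt N5514 F50698) (tt N7403 (iv F54655)) (tt N5658 F50699) (tt N5400 (iv D12877)) (tt N7405 D13863) (tt N7400 (iv F54647)) (tt N6799 (iv F52151)) (tt N7406 D13864))
theorem Q6421 : ∀ i, i < 6421 → P i := stepQ 6420 Q6420 (allL N6420 (tt N7245 (iv F54080)) (tt N5515 F50700) (tt N7404 (iv F54656)) (tt N5401 F50701) (tt N7406 (iv F54662)) (tt N7039 (iv F53188)) (tt N7401 (iv F54650)) (tt N7407 D13865) (tt N5400 (iv D12878)))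
theorem Q6422 : ∀ i, i < 6422 → P i := stepQ 6421 Q6421 (allL N6421 (tt N5650 F50702) (tt N5440 F50703) (tt N6700 (iv F51767)) (tt N6701 (iv F51771)) (tt N5403 F50704) (tt N5600 F50705) (tt N7040 (iv F53193)) (tt N5402 (iv D12879)) (tt N7218 (iv F53971)))
theorem Q6423 : ∀ i, i < 6423 → P i := stepQ 6422 Q6422 (allL N6422 (tt N7247 (iv F54087)) (tt N5441 F50706) (tt N7398 (iv F54640)) (tt N7387 (iv F54607)) (tt N7218 (iv F53969)) (tt N5405 F50707) (tt N7042 (iv F53202)) (tt N7193 (iv F53836)) (tt N5403 (iv D12880)))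
theorem Q6424 : ∀ i, i < 6424 → P i := stepQ 6423 Q6423 (allL N6423 (tt N7248 (iv F54092)) (tt N5802 F50708) (tt N5404 (iv D12881)) (tt N7399 (iv F54643)) (tt N7408 D13866) (tt N7361 (iv F54516)) (tt N5406 F50709) (tt N5409 F50710) (tt N7409 D13867))
theorem Q6425 : ∀ i, i < 6425 → P i := stepQ 6424 Q6424 (allL N6424 (tt N5679 F50711) (tt N5442 F50712) (tt N7408 (iv F54666)) (tt N5617 F50713) (tt N5404 (iv D12882)) (tt N7410 D13868) (tt N5407 F50714) (tt N5410 F50715) (tt N7289 (iv F54248)))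
theorem Q6426 : ∀ i, i < 6426 → P i := stepQ 6425 Q6425 (allL N6425 (tt N7249 (iv F54096)) (tt N5443 F50716) (tt N7409 (iv F54670)) (tt N5405 F50717) (tt N7289 (iv F54246)) (tt N7387 (iv F54608)) (tt N5408 F50718) (tt N7411 D13869) (tt N5404 (iv D12883)))
theorem Q6427 : ∀ i, i < 6427 → P i := stepQ 6426 Q6426 (allL N6426 (tt N7412 D13870) (tt N5406 (iv D12884)) (tt N5444 F50719) (tt N7402 (iv F54652)) (tt N7413 D13871) (tt N7046 (iv F53215)) (tt N5802 F50720) (tt N5412 F50721) (tt N7414 D13872))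
theorem Q6428 : ∀ i, i < 6428 → P i := stepQ 6427 Q6427 (allL N6427 (tt N7251 (iv F54103)) (tt N7413 (iv F54682)) (tt N5407 F50722) (tt N7415 D13873) (tt N5406 (iv D12885)) (tt N7416 D13874) (tt N7408 (iv F54667)) (tt N5413 F50723) (tt N7417 D13875))
theorem Q6429 : ∀ i, i < 6429 → P i := stepQ 6428 Q6428 (allL N6428 (tt N7252 (iv F54107)) (tt N7414 (iv F54686)) (tt N5408 F50724) (tt N7404 (iv F54657)) (tt N7417 (iv F54693)) (tt N7048 (iv F53220)) (tt N7409 (iv F54671)) (tt N7418 D13876) (tt N5406 (iv D12886)))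
theorem Q6430 : ∀ i, i < 6430 → P i := stepQ 6429 Q6429 (allL N6429 (tt N7253 (iv F54109)) (tt N5447 F50725) (tt N7416 (iv F54690)) (tt N5662 F50726) (tt N7049 (iv F53223)) (tt N5407 (iv D12887)) (tt N7419 D13877) (tt N5415 F50727) (tt N7420 D13878))
theorem Q6431 : ∀ i, i < 6431 → P i := stepQ 6430 Q6430 (allL N6430 (tt N7254 (iv F54113)) (tt N5448 F50728) (tt N7417 (iv F54692)) (tt N5663 F50729) (tt N5408 F50730) (tt N7420 (iv F54701)) (tt N7289 (iv F54247)) (tt N7421 D13879) (tt N5407 (iv D12888)))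
theorem Q6432 : ∀ i, i < 6432 → P i := stepQ 6431 Q6431 (allL N6431 (tt N7255 (iv F54118)) (tt N5449 F50731) (tt N7418 (iv F54694)) (tt N7363 (iv F54521)) (tt N7421 (iv F54703)) (tt N7051 (iv F53230)) (tt N7411 (iv F54677)) (tt N5408 (iv D12889)) (tt N5417 F50732))
theorem Q6433 : ∀ i, i < 6433 → P i := stepQ 6432 Q6432 (allL N6432 (tt N7260 (iv F54134)) (tt N5805 F50733) (tt N5410 F50734) (tt N7422 D13880) (tt N5409 (iv D12890)) (tt N7423 D13881) (tt N5413 F50735) (tt N7408 (iv F54668)) (tt N7424 D13882))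
theorem Q6434 : ∀ i, i < 6434 → P i := stepQ 6433 Q6433 (allL N6433 (tt N7261 (iv F54138)) (tt N5806 F50736) (tt N5411 F50737) (tt N6439 (iv F50755)) (tt N7424 (iv F54712)) (tt N7367 (iv F54535)) (tt N5414 F50738) (tt N7425 D13883) (tt N5409 (iv D12891)))
theorem Q6435 : ∀ i, i < 6435 → P i := stepQ 6434 Q6434 (allL N6434 (tt N7262 (iv F54141)) (tt N5450 F50739) (tt N7423 (iv F54709)) (tt N5420 F50740) (tt N7389 (iv F54615)) (tt N5410 (iv D12892)) (tt N7426 D13884) (tt N7410 (iv F54675)) (tt N7427 D13885))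
theorem Q6436 : ∀ i, i < 6436 → P i := stepQ 6435 Q6435 (allL N6435 (tt N7263 (iv F54145)) (tt N5451 F50741) (tt N7424 (iv F54711)) (tt N5421 F50742) (tt N5411 F50743) (tt N7427 (iv F54722)) (tt N5416 F50744) (tt N7428 D13886) (tt N5410 (iv D12893)))
theorem Q6437 : ∀ i, i < 6437 → P i := stepQ 6436 Q6436 (allL N6436 (tt N7264 (iv F54150)) (tt N5452 F50745) (tt N7425 (iv F54715)) (tt N7365 (iv F54528)) (tt N7428 (iv F54724)) (tt N7391 (iv F54620)) (tt N5417 F50746) (tt N5411 (iv D12894)) (tt N7411 (iv F54678)))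
theorem Q6438 : ∀ i, i < 6438 → P i := stepQ 6437 Q6437 (allL N6437 (tt N5412 (iv D12895)) (tt N7265 (iv F54153)) (tt N5453 F50747) (tt N6266 F50748) (tt N7429 D13887) (tt N7061 (iv F53265)) (tt N5754 F50749) (tt N7412 (iv F54681)) (tt N7430 D13888))
theorem Q6439 : ∀ i, i < 6439 → P i := stepQ 6438 Q6438 (allL N6438 (tt N7429 (iv F54726)) (tt N5413 F50750) (tt N5454 F50751) (tt N7431 D13889) (tt N5412 (iv D12896)) (tt N7432 D13890) (tt N5805 F50752) (tt N7413 (iv F54685)) (tt N7433 D13891))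
theorem Q6440 : ∀ i, i < 6440 → P i := stepQ 6439 Q6439 (allL N6439 (tt N7430 (iv F54729)) (tt N5414 F50753) (tt N5455 F50754) (tt N6433 F50755) (tt N7433 (iv F54741)) (tt N7063 (iv F53270)) (tt N5806 F50756) (tt N7434 D13892) (tt N5412 (iv D12897)))
theorem Q6441 : ∀ i, i < 6441 → P i := stepQ 6440 Q6440 (allL N6440 (tt N7268 (iv F54161)) (tt N7431 (iv F54733)) (tt N5423 F50757) (tt N5413 (iv D12898)) (tt N6806 (iv F52166)) (tt N7435 D13893) (tt N7422 (iv F54707)) (tt N7436 D13894) (tt N7437 D13895))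
theorem Q6442 : ∀ i, i < 6442 → P i := stepQ 6441 Q6441 (allL N6441 (tt N7269 (iv F54163)) (tt N7432 (iv F54737)) (tt N5415 F50758) (tt N7435 (iv F54747)) (tt N7065 (iv F53273)) (tt N5413 (iv D12899)) (tt N7438 D13896) (tt N7416 (iv F54691)) (tt N7439 D13897))
theorem Q6443 : ∀ i, i < 6443 → P i := stepQ 6442 Q6442 (allL N6442 (tt N7270 (iv F54165)) (tt N7433 (iv F54739)) (tt N5416 F50759) (tt N7437 (iv F54750)) (tt N5414 F50760) (tt N7439 (iv F54753)) (tt N7424 (iv F54713)) (tt N7440 D13898) (tt N5413 (iv D12900)))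
theorem Q6444 : ∀ i, i < 6444 → P i := stepQ 6443 Q6443 (allL N6443 (tt N7271 (iv F54168)) (tt N7434 (iv F54743)) (tt N5417 F50761) (tt N7441 D13899) (tt N7440 (iv F54755)) (tt N7067 (iv F53277)) (tt N7425 (iv F54716)) (tt N5414 (iv D12901)) (tt N7418 (iv F54695)))
theorem Q6445 : ∀ i, i < 6445 → P i := stepQ 6444 Q6444 (allL N6444 (tt N7272 (iv F54170)) (tt N5459 F50762) (tt N7438 (iv F54751)) (tt N5427 F50763) (tt N7068 (iv F53280)) (tt N7426 (iv F54719)) (tt N5415 (iv D12902)) (tt N7419 (iv F54698)) (tt N7442 D13900))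
theorem Q6446 : ∀ i, i < 6446 → P i := stepQ 6445 Q6445 (allL N6445 (tt N7273 (iv F54173)) (tt N5460 F50764) (tt N7439 (iv F54752)) (tt N5428 F50765) (tt N7069 (iv F53283)) (tt N5416 F50766) (tt N7442 (iv F54758)) (tt N7443 D13901) (tt N5415 (iv D12903)))
theorem Q6447 : ∀ i, i < 6447 → P i := stepQ 6446 Q6446 (allL N6446 (tt N7274 (iv F54177)) (tt N5461 F50767) (tt N7440 (iv F54754)) (tt N7444 D13902) (tt N5417 F50768) (tt N7443 (iv F54760)) (tt N7428 (iv F54725)) (tt N5416 (iv D12904)) (tt N7421 (iv F54704)))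
theorem Q6448 : ∀ i, i < 6448 → P i := stepQ 6447 Q6447 (allL N6447 (tt N7275 (iv F54180)) (tt N5532 F50769) (tt N7422 (iv F54706)) (tt N5418 (iv D12905)) (tt N6550 (iv F51137)) (tt N7445 D13903) (tt N5423 F50770) (tt N7446 D13904) (tt N7447 D13905))
theorem Q6449 : ∀ i, i < 6449 → P i := stepQ 6448 Q6448 (allL N6448 (tt N7276 (iv F54183)) (tt N5533 F50771) (tt N5420 F50772) (tt N7445 (iv F54764)) (tt N6448 F50773) (tt N5418 (iv D12906)) (tt N7448 D13906) (tt N5668 F50774) (tt N7449 D13907))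
theorem Q6450 : ∀ i, i < 6450 → P i := stepQ 6449 Q6449 (allL N6449 (tt N7277 (iv F54188)) (tt N5534 F50775) (tt N5421 F50776) (tt N7447 (iv F54769)) (tt N5419 F50777) (tt N7449 (iv F54779)) (tt N5425 F50778) (tt N7450 D13908) (tt N5418 (iv D12907)))
theorem Q6451 : ∀ i, i < 6451 → P i := stepQ 6450 Q6450 (allL N6450 (tt N5661 F50779) (tt N5535 F50780) (tt N5422 F50781) (tt N7451 D13909) (tt N7450 (iv F54783)) (tt N6450 F50782) (tt N5426 F50783) (tt N5419 (iv D12908)) (tt N5605 F50784))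
theorem Q6452 : ∀ i, i < 6452 → P i := stepQ 6451 Q6451 (allL N6451 (tt N7278 (iv F54194)) (tt N5462 F50785) (tt N7448 (iv F54772)) (tt N7426 (iv F54718)) (tt N6451 F50786) (tt N5427 F50787) (tt N5420 (iv D12909)) (tt N5669 F50788) (tt N7452 D13910))
theorem Q6453 : ∀ i, i < 6453 → P i := stepQ 6452 Q6452 (allL N6452 (tt N7279 (iv F54199)) (tt N5463 F50789) (tt N7449 (iv F54777)) (tt N7427 (iv F54721)) (tt N6452 F50790) (tt N5421 F50791) (tt N7452 (iv F54795)) (tt N7453 D13911) (tt N5420 (iv D12910)))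
theorem Q6454 : ∀ i, i < 6454 → P i := stepQ 6453 Q6453 (allL N6453 (tt N5663 F50792) (tt N5464 F50793) (tt N7450 (iv F54782)) (tt N7254 (iv F54115)) (tt N5422 F50794) (tt N7453 (iv F54799)) (tt N5429 F50795) (tt N5421 (iv D12911)) (tt N5606 F50796))
theorem Q6455 : ∀ i, i < 6455 → P i := stepQ 6454 Q6454 (allL N6454 (tt N7280 (iv F54204)) (tt N5539 F50797) (tt N7435 (iv F54746)) (tt N5424 F50798) (tt N7454 D13912) (tt N5423 (iv D12912)) (tt N7455 D13913) (tt N7456 D13914) (tt N7457 D13915))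
theorem Q6456 : ∀ i, i < 6456 → P i := stepQ 6455 Q6455 (allL N6455 (tt N7281 (iv F54207)) (tt N5540 F50799) (tt N7436 (iv F54748)) (tt N5671 F50800) (tt N6814 (iv F52182)) (tt N7456 (iv F54809)) (tt N7446 (iv F54767)) (tt N5423 (iv D12913)) (tt N7458 D13916))
theorem Q6457 : ∀ i, i < 6457 → P i := stepQ 6456 Q6456 (allL N6456 (tt N7282 (iv F54210)) (tt N5541 F50801) (tt N7437 (iv F54749)) (tt N5425 F50802) (tt N6815 (iv F52185)) (tt N7457 (iv F54813)) (tt N7447 (iv F54770)) (tt N7459 D13917) (tt N5423 (iv D12914)))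
theorem Q6458 : ∀ i, i < 6458 → P i := stepQ 6457 Q6457 (allL N6457 (tt N7283 (iv F54213)) (tt N5542 F50803) (tt N5427 F50804) (tt N7455 (iv F54804)) (tt N5433 F50805) (tt N7448 (iv F54774)) (tt N5424 (iv D12915)) (tt N5673 F50806) (tt N7460 D13918))
theorem Q6459 : ∀ i, i < 6459 → P i := stepQ 6458 Q6458 (allL N6458 (tt N7284 (iv F54218)) (tt N5543 F50807) (tt N5428 F50808) (tt N7457 (iv F54812)) (tt N5434 F50809) (tt N5425 F50810) (tt N7460 (iv F54820)) (tt N7461 D13919) (tt N5424 (iv D12916)))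
theorem Q6460 : ∀ i, i < 6460 → P i := stepQ 6459 Q6459 (allL N6459 (tt N7285 (iv F54223)) (tt N5544 F50811) (tt N5429 F50812) (tt N7462 D13920) (tt N5426 F50813) (tt N7461 (iv F54824)) (tt N7450 (iv F54784)) (tt N5425 (iv D12917)) (tt N5675 F50814))
theorem Q6461 : ∀ i, i < 6461 → P i := stepQ 6460 Q6460 (allL N6460 (tt N7286 (iv F54229)) (tt N5545 F50815) (tt N7378 (iv F54566)) (tt N5426 (iv D12918)) (tt N7463 D13921) (tt N5436 F50816) (tt N7451 (iv F54790)) (tt N6819 (iv F52200)) (tt N5676 F50817))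
theorem Q6462 : ∀ i, i < 6462 → P i := stepQ 6461 Q6461 (allL N6461 (tt N7287 (iv F54235)) (tt N5465 F50818) (tt N7460 (iv F54818)) (tt N7442 (iv F54757)) (tt N5437 F50819) (tt N7452 (iv F54794)) (tt N5428 F50820) (tt N7464 D13922) (tt N5427 (iv D12919)))
theorem Q6463 : ∀ i, i < 6463 → P i := stepQ 6462 Q6462 (allL N6462 (tt N7288 (iv F54239)) (tt N5466 F50821) (tt N7461 (iv F54822)) (tt N7465 D13923) (tt N5438 F50822) (tt N5429 F50823) (tt N7464 (iv F54832)) (tt N5428 (iv D12920)) (tt N5678 F50824))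
theorem Q6464 : ∀ i, i < 6464 → P i := stepQ 6463 Q6463 (allL N6463 (tt N7289 (iv F54244)) (tt N5467 F50825) (tt N7466 D13924) (tt N5429 (iv D12921)) (tt N7249 (iv F54099)) (tt N7465 (iv F54835)) (tt N7254 (iv F54117)) (tt N7444 (iv F54762)) (tt N5679 F50826))
theorem Q6465 : ∀ i, i < 6465 → P i := stepQ 6464 Q6464 (allL N6464 (tt N7290 (iv F54249)) (tt N5549 F50827) (tt N7088 (iv F53349)) (tt N7454 (iv F54802)) (tt N5430 (iv D12922)) (tt N6823 (iv F52212)) (tt N6684 (iv F51712)) (tt N6683 F51708) (tt N7467 D13925))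
theorem Q6466 : ∀ i, i < 6466 → P i := stepQ 6465 Q6465 (allL N6465 (tt N7291 (iv F54251)) (tt N5550 F50828) (tt N7089 (iv F53351)) (tt N5433 F50829) (tt N6684 (iv F51710)) (tt N6465 F50830) (tt N5430 (iv D12923)) (tt N6682 F51704) (tt N7468 D13926))
theorem Q6467 : ∀ i, i < 6467 → P i := stepQ 6466 Q6466 (allL N6466 (tt N7292 (iv F54255)) (tt N5551 F50831) (tt N7090 (iv F53355)) (tt N5682 F50832) (tt N6683 (iv F51707)) (tt N5431 F50833) (tt N6682 F51703) (tt N5430 (iv D12924)) (tt N7469 D13927))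
theorem Q6468 : ∀ i, i < 6468 → P i := stepQ 6467 Q6467 (allL N6467 (tt N7293 (iv F54259)) (tt N5552 F50834) (tt N7091 (iv F53359)) (tt N5434 F50835) (tt N7467 (iv F54839)) (tt N5432 F50836) (tt N7468 (iv F54843)) (tt N7470 D13928) (tt N5430 (iv D12925)))
theorem Q6469 : ∀ i, i < 6469 → P i := stepQ 6468 Q6468 (allL N6468 (tt N6387 F50837) (tt N5553 F50838) (tt N6761 (iv F52019)) (tt N5684 F50839) (tt N6827 (iv F52226)) (tt N7469 (iv F54847)) (tt N6468 F50840) (tt N6221 (iv F50841)) (tt N5431 (iv D12926)))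
theorem Q6470 : ∀ i, i < 6470 → P i := stepQ 6469 Q6469 (allL N6469 (tt N6388 F50842) (tt N5554 F50843) (tt N6762 (iv F52026)) (tt N6223 (iv F50846)) (tt N6828 (iv F52232)) (tt N7470 (iv F54851)) (tt N6469 F50844) (tt N5432 (iv D12927)) (tt N6221 F50845))
theorem Q6471 : ∀ i, i < 6471 → P i := stepQ 6470 Q6470 (allL N6470 (tt N7294 (iv F54263)) (tt N5555 F50847) (tt N5437 F50848) (tt N7468 (iv F54841)) (tt N7460 (iv F54819)) (tt N6470 F50849) (tt N5434 F50850) (tt N7471 D13929) (tt N5433 (iv D12928)))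
theorem Q6472 : ∀ i, i < 6472 → P i := stepQ 6471 Q6471 (allL N6471 (tt N7295 (iv F54268)) (tt N5556 F50851) (tt N5438 F50852) (tt N7472 D13930) (tt N7461 (iv F54823)) (tt N5435 F50853) (tt N7471 (iv F54857)) (tt N5434 (iv D12929)) (tt N5687 F50854))
theorem Q6473 : ∀ i, i < 6473 → P i := stepQ 6472 Q6472 (allL N6472 (tt N6391 F50855) (tt N5557 F50856) (tt N6226 (iv F50860)) (tt N5435 (iv D12930)) (tt N6224 (iv F50861)) (tt N7472 (iv F54861)) (tt N6472 F50857) (tt N6223 F50858) (tt N5688 F50859))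
theorem Q6474 : ∀ i, i < 6474 → P i := stepQ 6473 Q6473 (allL N6473 (tt N6392 F50862) (tt N5558 F50863) (tt N6292 F50864) (tt N6224 F50865) (tt N5436 (iv D12931)) (tt N6665 (iv F51651)) (tt N6473 F50866) (tt N6832 (iv F52256)) (tt N5689 F50867))
theorem Q6475 : ∀ i, i < 6475 → P i := stepQ 6474 Q6474 (allL N6474 (tt N7296 (iv F54273)) (tt N5468 F50868) (tt N7471 (iv F54855)) (tt N6913 (iv F52606)) (tt N7464 (iv F54831)) (tt N6474 F50869) (tt N5438 F50870) (tt N5437 (iv D12932)) (tt N5690 F50871))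
theorem Q6476 : ∀ i, i < 6476 → P i := stepQ 6475 Q6475 (allL N6475 (tt N7297 (iv F54278)) (tt N5469 F50872) (tt N7473 D13931) (tt N5438 (iv D12933)) (tt N6991 (iv F52962)) (tt N5439 F50873) (tt N6913 (iv F52609)) (tt N7095 (iv F53376)) (tt N5691 F50874))
theorem Q6477 : ∀ i, i < 6477 → P i := stepQ 6476 Q6476 (allL N6476 (tt N6395 F50875) (tt N6235 (iv F50880)) (tt N5439 (iv D12934)) (tt N6226 F50876) (tt N6295 F50877) (tt N7473 (iv F54870)) (tt N6476 F50878) (tt N6769 (iv F52065)) (tt N5692 F50879))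
theorem Q6478 : ∀ i, i < 6478 → P i := stepQ 6477 Q6477 (allL N6477 (tt N5472 F50881) (tt N7410 (iv F54673)) (tt N5827 F50882) (tt N5632 F50883) (tt N7009 (iv F53050)) (tt N5442 (iv D12935)) (tt N7013 (iv F53071)) (tt N5450 F50884) (tt N7330 (iv F54404)))
theorem Q6479 : ∀ i, i < 6479 → P i := stepQ 6478 Q6478 (allL N6478 (tt N5473 F50885) (tt N7411 (iv F54676)) (tt N5829 F50886) (tt N7226 (iv F54002)) (tt N7327 (iv F54385)) (tt N7388 (iv F54611)) (tt N5449 F50887) (tt N5443 (iv D12936)) (tt N5452 F50888))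
theorem Q6480 : ∀ i, i < 6480 → P i := stepQ 6479 Q6479 (allL N6479 (tt N5444 (iv D12937)) (tt N5474 F50889) (tt N7412 (iv F54679)) (tt N5519 F50890) (tt N7474 D13932) (tt N7102 (iv F53415)) (tt N5752 F50891) (tt N5453 F50892) (tt N7475 D13933))
theorem Q6481 : ∀ i, i < 6481 → P i := stepQ 6480 Q6480 (allL N6480 (tt N7474 (iv F54873)) (tt N5445 F50893) (tt N7413 (iv F54683)) (tt N6480 F50894) (tt N5444 (iv D12938)) (tt N7476 D13934) (tt N5803 F50895) (tt N5454 F50896) (tt N7477 D13935))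
theorem Q6482 : ∀ i, i < 6482 → P i := stepQ 6481 Q6481 (allL N6481 (tt N7475 (iv F54878)) (tt N5446 F50897) (tt N7414 (iv F54687)) (tt N5520 F50898) (tt N7477 (iv F54887)) (tt N7104 (iv F53426)) (tt N5804 F50899) (tt N7478 D13936) (tt N5444 (iv D12939)))
theorem Q6483 : ∀ i, i < 6483 → P i := stepQ 6482 Q6482 (allL N6482 (tt N5477 F50900) (tt N7476 (iv F54882)) (tt N5447 F50901) (tt N6482 F50902) (tt N7105 (iv F53430)) (tt N5445 (iv D12940)) (tt N7156 (iv F53675)) (tt N5456 F50903) (tt N7479 D13937))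
theorem Q6484 : ∀ i, i < 6484 → P i := stepQ 6483 Q6483 (allL N6483 (tt N5478 F50904) (tt N7477 (iv F54885)) (tt N5448 F50905) (tt N6483 F50906) (tt N5446 F50907) (tt N7479 (iv F54895)) (tt N5828 F50908) (tt N7480 D13938) (tt N5445 (iv D12941)))
theorem Q6485 : ∀ i, i < 6485 → P i := stepQ 6484 Q6484 (allL N6484 (tt N5479 F50909) (tt N7478 (iv F54889)) (tt N5449 F50910) (tt N7101 (iv F53410)) (tt N7480 (iv F54898)) (tt N7107 (iv F53440)) (tt N5829 F50911) (tt N5446 (iv D12942)) (tt N5458 F50912))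
theorem Q6486 : ∀ i, i < 6486 → P i := stepQ 6485 Q6485 (allL N6485 (tt N5480 F50913) (tt N7419 (iv F54696)) (tt N7156 (iv F53672)) (tt N5693 F50914) (tt N7108 (iv F53445)) (tt N7013 F53073) (tt N5447 (iv D12943)) (tt N5459 F50915) (tt N7481 D13939))
theorem Q6487 : ∀ i, i < 6487 → P i := stepQ 6486 Q6486 (allL N6486 (tt N5481 F50916) (tt N7420 (iv F54699)) (tt N7479 (iv F54893)) (tt N5694 F50917) (tt N7109 (iv F53450)) (tt N5448 F50918) (tt N7481 (iv F54903)) (tt N7482 D13940) (tt N5447 (iv D12944)))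
theorem Q6488 : ∀ i, i < 6488 → P i := stepQ 6487 Q6487 (allL N6487 (tt N5482 F50919) (tt N7421 (iv F54702)) (tt N7480 (iv F54897)) (tt N7316 (iv F54352)) (tt N5449 F50920) (tt N7482 (iv F54905)) (tt N7327 (iv F54386)) (tt N5448 (iv D12945)) (tt N5461 F50921))
theorem Q6489 : ∀ i, i < 6489 → P i := stepQ 6488 Q6488 (allL N6488 (tt N5483 F50922) (tt N7426 (iv F54717)) (tt N5830 F50923) (tt N5462 F50924) (tt N7000 (iv F53004)) (tt N5459 F50925) (tt N5450 (iv D12946)) (tt N7013 (iv F53072)) (tt N7483 D13941))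
theorem Q6490 : ∀ i, i < 6490 → P i := stepQ 6489 Q6489 (allL N6489 (tt N5484 F50926) (tt N7427 (iv F54720)) (tt N5831 F50927) (tt N5463 F50928) (tt N7392 (iv F54624)) (tt N5451 F50929) (tt N7483 (iv F54911)) (tt N7484 D13942) (tt N5450 (iv D12947)))
theorem Q6491 : ∀ i, i < 6491 → P i := stepQ 6490 Q6490 (allL N6490 (tt N5485 F50930) (tt N7428 (iv F54723)) (tt N5832 F50931) (tt N7308 (iv F54322)) (tt N5452 F50932) (tt N7484 (iv F54914)) (tt N5461 F50933) (tt N5451 (iv D12948)) (tt N7327 (iv F54388)))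
theorem Q6492 : ∀ i, i < 6492 → P i := stepQ 6491 Q6491 (allL N6491 (tt N5454 F50934) (tt N5486 F50935) (tt N7429 (iv F54727)) (tt N5562 F50936) (tt N5453 (iv D12949)) (tt N7485 D13943) (tt N5755 F50937) (tt N7474 (iv F54877)) (tt N7486 D13944))
theorem Q6493 : ∀ i, i < 6493 → P i := stepQ 6492 Q6492 (allL N6492 (tt N5455 F50938) (tt N5487 F50939) (tt N7430 (iv F54730)) (tt N5471 F50940) (tt N7486 (iv F54921)) (tt N7122 (iv F53515)) (tt N5756 F50941) (tt N7487 D13945) (tt N5453 (iv D12950)))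
theorem Q6494 : ∀ i, i < 6494 → P i := stepQ 6493 Q6493 (allL N6493 (tt N7485 (iv F54915)) (tt N5456 F50942) (tt N7432 (iv F54738)) (tt N5564 F50943) (tt N7123 (iv F53518)) (tt N5454 (iv D12951)) (tt N7488 D13946) (tt N7476 (iv F54884)) (tt N7489 D13947))
theorem Q6495 : ∀ i, i < 6495 → P i := stepQ 6494 Q6494 (allL N6494 (tt N7486 (iv F54918)) (tt N5457 F50944) (tt N7433 (iv F54740)) (tt N5565 F50945) (tt N5455 F50946) (tt N7489 (iv F54931)) (tt N5808 F50947) (tt N7490 D13948) (tt N5454 (iv D12952)))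
theorem Q6496 : ∀ i, i < 6496 → P i := stepQ 6495 Q6495 (allL N6495 (tt N7487 (iv F54923)) (tt N5458 F50948) (tt N7434 (iv F54744)) (tt N7060 (iv F53262)) (tt N7490 (iv F54933)) (tt N7125 (iv F53523)) (tt N5809 F50949) (tt N5455 (iv D12953)) (tt N7478 (iv F54891)))
theorem Q6497 : ∀ i, i < 6497 → P i := stepQ 6496 Q6496 (allL N6496 (tt N5491 F50950) (tt N7488 (iv F54926)) (tt N5459 F50951) (tt N5567 F50952) (tt N7126 (iv F53527)) (tt N5830 F50953) (tt N5456 (iv D12954)) (tt N7156 (iv F53676)) (tt N7491 D13949))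
theorem Q6498 : ∀ i, i < 6498 → P i := stepQ 6497 Q6497 (allL N6497 (tt N5492 F50954) (tt N7489 (iv F54929)) (tt N5460 F50955) (tt N5568 F50956) (tt N7127 (iv F53533)) (tt N5457 F50957) (tt N7491 (iv F54939)) (tt N7492 D13950) (tt N5456 (iv D12955)))
theorem Q6499 : ∀ i, i < 6499 → P i := stepQ 6498 Q6498 (allL N6498 (tt N5493 F50958) (tt N7490 (iv F54932)) (tt N5461 F50959) (tt N7493 D13951) (tt N5458 F50960) (tt N7492 (iv F54942)) (tt N5832 F50961) (tt N5457 (iv D12956)) (tt N7480 (iv F54900)))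
theorem Q6500 : ∀ i, i < 6500 → P i := stepQ 6499 Q6499 (allL N6499 (tt N5494 F50962) (tt N7442 (iv F54756)) (tt N7491 (iv F54936)) (tt N5465 F50963) (tt N7129 (iv F53540)) (tt N7483 (iv F54910)) (tt N5460 F50964) (tt N7494 D13952) (tt N5459 (iv D12957)))
theorem Q6501 : ∀ i, i < 6501 → P i := stepQ 6500 Q6500 (allL N6500 (tt N5495 F50965) (tt N7443 (iv F54759)) (tt N7492 (iv F54941)) (tt N7495 D13953) (tt N7130 (iv F53543)) (tt N5461 F50966) (tt N7494 (iv F54947)) (tt N5460 (iv D12958)) (tt N7482 (iv F54906)))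
theorem Q6502 : ∀ i, i < 6502 → P i := stepQ 6501 Q6501 (allL N6501 (tt N5496 F50967) (tt N7444 (iv F54761)) (tt N7496 D13954) (tt N5461 (iv D12959)) (tt N7301 (iv F54297)) (tt N7495 (iv F54949)) (tt N7308 (iv F54324)) (tt N5467 F50968) (tt N7316 (iv F54355)))
theorem Q6503 : ∀ i, i < 6503 → P i := stepQ 6502 Q6502 (allL N6502 (tt N5497 F50969) (tt N7452 (iv F54792)) (tt N5573 F50970) (tt N7483 (iv F54909)) (tt N6502 F50971) (tt N5465 F50972) (tt N5463 F50973) (tt N7497 D13955) (tt N5462 (iv D12960)))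
theorem Q6504 : ∀ i, i < 6504 → P i := stepQ 6503 Q6503 (allL N6503 (tt N5498 F50974) (tt N7453 (iv F54797)) (tt N5574 F50975) (tt N7307 (iv F54319)) (tt N6503 F50976) (tt N5464 F50977) (tt N7497 (iv F54957)) (tt N5463 (iv D12961)) (tt N5628 F50978))
theorem Q6505 : ∀ i, i < 6505 → P i := stepQ 6504 Q6504 (allL N6504 (tt N5499 F50979) (tt N7464 (iv F54830)) (tt N5576 F50980) (tt N6975 (iv F52880)) (tt N5468 F50981) (tt N7497 (iv F54956)) (tt N5466 F50982) (tt N5465 (iv D12962)) (tt N5695 F50983))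
theorem Q6506 : ∀ i, i < 6506 → P i := stepQ 6505 Q6505 (allL N6505 (tt N5500 F50984) (tt N7465 (iv F54834)) (tt N6969 (iv F52855)) (tt N5466 (iv D12963)) (tt N6968 (iv F52852)) (tt N5467 F50985) (tt N6975 (iv F52882)) (tt N7495 (iv F54950)) (tt N5696 F50986))
theorem Q6507 : ∀ i, i < 6507 → P i := stepQ 6506 Q6506 (allL N6506 (tt N5501 F50987) (tt N7498 D13956) (tt N5467 (iv D12964)) (tt N5578 F50988) (tt N7300 (iv F54293)) (tt N6969 (iv F52858)) (tt N7305 (iv F54314)) (tt N7496 (iv F54952)) (tt N5697 F50989))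
theorem Q6508 : ∀ i, i < 6508 → P i := stepQ 6507 Q6507 (allL N6507 (tt N6200 F50990) (tt N5470 (iv D12965)) (tt N6235 F50991) (tt N5579 F50992) (tt N6330 F50993) (tt N6196 F50994) (tt N6507 F50995) (tt N6785 (iv F52115)) (tt N5698 F50996))
theorem Q6509 : ∀ i, i < 6509 → P i := stepQ 6508 Q6508 (allL N6508 (tt N5475 F50997) (tt N7474 (iv F54874)) (tt N7118 (iv F53494)) (tt N6508 F50998) (tt N5474 (iv D12966)) (tt N7126 (iv F53528)) (tt N5770 F50999) (tt N5486 F51000) (tt N7499 D13957))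
theorem Q6510 : ∀ i, i < 6510 → P i := stepQ 6509 Q6509 (allL N6509 (tt N5476 F51001) (tt N7475 (iv F54879)) (tt N7338 (iv F54435)) (tt N5521 F51002) (tt N7499 (iv F54963)) (tt N7142 (iv F53605)) (tt N5771 F51003) (tt N7500 D13958) (tt N5474 (iv D12967)))
theorem Q6511 : ∀ i, i < 6511 → P i := stepQ 6510 Q6510 (allL N6510 (tt N7499 (iv F54961)) (tt N5478 F51004) (tt N7153 (iv F53658)) (tt N6510 F51005) (tt N5476 F51006) (tt N7161 (iv F53697)) (tt N5787 F51007) (tt N7501 D13959) (tt N5475 (iv D12968)))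
theorem Q6512 : ∀ i, i < 6512 → P i := stepQ 6511 Q6511 (allL N6511 (tt N7500 (iv F54965)) (tt N5479 F51008) (tt N7339 (iv F54439)) (tt N6999 (iv F52999)) (tt N7501 (iv F54969)) (tt N7143 (iv F53609)) (tt N5788 F51009) (tt N5476 (iv D12969)) (tt N5490 F51010))
theorem Q6513 : ∀ i, i < 6513 → P i := stepQ 6512 Q6512 (allL N6512 (tt N7479 (iv F54892)) (tt N7161 (iv F53693)) (tt N5481 F51011) (tt N6512 F51012) (tt N7144 (iv F53615)) (tt N5478 F51013) (tt N7159 (iv F53688)) (tt N7502 D13960) (tt N5477 (iv D12970)))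
theorem Q6514 : ∀ i, i < 6514 → P i := stepQ 6513 Q6513 (allL N6513 (tt N7480 (iv F54896)) (tt N7501 (iv F54968)) (tt N5482 F51014) (tt N7503 D13961) (tt N5479 F51015) (tt N7502 (iv F54973)) (tt N5840 F51016) (tt N5478 (iv D12971)) (tt N5493 F51017))
theorem Q6515 : ∀ i, i < 6515 → P i := stepQ 6514 Q6514 (allL N6514 (tt N7481 (iv F54901)) (tt N7017 (iv F53087)) (tt N7159 (iv F53684)) (tt N5699 F51018) (tt N7146 (iv F53626)) (tt N7015 (iv F53082)) (tt N5481 F51019) (tt N7504 D13962) (tt N5480 (iv D12972)))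
theorem Q6516 : ∀ i, i < 6516 → P i := stepQ 6515 Q6515 (allL N6515 (tt N7482 (iv F54904)) (tt N7342 (iv F54449)) (tt N7502 (iv F54972)) (tt N7346 (iv F54464)) (tt N7147 (iv F53629)) (tt N5482 F51020) (tt N7504 (iv F54978)) (tt N5481 (iv D12973)) (tt N5495 F51021))
theorem Q6517 : ∀ i, i < 6517 → P i := stepQ 6516 Q6516 (allL N6516 (tt N7483 (iv F54907)) (tt N7002 (iv F53014)) (tt N5841 F51022) (tt N5497 F51023) (tt N7001 (iv F53011)) (tt N5494 F51024) (tt N5484 F51025) (tt N7505 D13963) (tt N5483 (iv D12974)))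
theorem Q6518 : ∀ i, i < 6518 → P i := stepQ 6517 Q6517 (allL N6517 (tt N7484 (iv F54912)) (tt N7346 (iv F54463)) (tt N5842 F51026) (tt N7342 (iv F54450)) (tt N7395 (iv F54633)) (tt N5485 F51027) (tt N7505 (iv F54982)) (tt N5484 (iv D12975)) (tt N7355 (iv F54493)))
theorem Q6519 : ∀ i, i < 6519 → P i := stepQ 6518 Q6518 (allL N6518 (tt N5488 F51028) (tt N7485 (iv F54916)) (tt N7108 (iv F53443)) (tt N5580 F51029) (tt N7156 (iv F53674)) (tt N5486 (iv D12976)) (tt N7105 (iv F53431)) (tt N7126 (iv F53529)) (tt N7506 D13964))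
theorem Q6520 : ∀ i, i < 6520 → P i := stepQ 6519 Q6519 (allL N6519 (tt N5489 F51030) (tt N7486 (iv F54919)) (tt N7347 (iv F54468)) (tt N5581 F51031) (tt N5487 F51032) (tt N7506 (iv F54985)) (tt N5776 F51033) (tt N7507 D13965) (tt N5486 (iv D12977)))
theorem Q6521 : ∀ i, i < 6521 → P i := stepQ 6520 Q6520 (allL N6520 (tt N5490 F51034) (tt N7487 (iv F54924)) (tt N7348 (iv F54473)) (tt N6970 (iv F52861)) (tt N7507 (iv F54987)) (tt N7158 (iv F53682)) (tt N5777 F51035) (tt N5487 (iv D12978)) (tt N7500 (iv F54967)))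
theorem Q6522 : ∀ i, i < 6522 → P i := stepQ 6521 Q6521 (allL N6521 (tt N7506 (iv F54983)) (tt N5492 F51036) (tt N7146 (iv F53624)) (tt N5584 F51037) (tt N7159 (iv F53686)) (tt N5489 F51038) (tt N7144 (iv F53617)) (tt N7508 D13966) (tt N5488 (iv D12979)))
theorem Q6523 : ∀ i, i < 6523 → P i := stepQ 6522 Q6522 (allL N6522 (tt N7507 (iv F54986)) (tt N5493 F51039) (tt N7349 (iv F54476)) (tt N7509 D13967) (tt N5490 F51040) (tt N7508 (iv F54990)) (tt N5792 F51041) (tt N5489 (iv D12980)) (tt N7501 (iv F54971)))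
theorem Q6524 : ∀ i, i < 6524 → P i := stepQ 6523 Q6523 (allL N6523 (tt N7491 (iv F54935)) (tt N7144 (iv F53612)) (tt N5494 F51042) (tt N5586 F51043) (tt N7161 (iv F53696)) (tt N5841 F51044) (tt N5492 F51045) (tt N7510 D13968) (tt N5491 (iv D12981)))
theorem Q6525 : ∀ i, i < 6525 → P i := stepQ 6524 Q6524 (allL N6524 (tt N7492 (iv F54940)) (tt N7508 (iv F54989)) (tt N5495 F51046) (tt N7511 D13969) (tt N7162 (iv F53700)) (tt N5493 F51047) (tt N7510 (iv F54996)) (tt N5492 (iv D12982)) (tt N7502 (iv F54974)))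
theorem Q6526 : ∀ i, i < 6526 → P i := stepQ 6525 Q6525 (allL N6525 (tt N7493 (iv F54943)) (tt N7509 (iv F54991)) (tt N7512 D13970) (tt N5493 (iv D12983)) (tt N7155 (iv F53668)) (tt N7511 (iv F54997)) (tt N5843 F51048) (tt N5588 F51049) (tt N7503 (iv F54977)))
theorem Q6527 : ∀ i, i < 6527 → P i := stepQ 6526 Q6526 (allL N6526 (tt N7494 (iv F54946)) (tt N7354 (iv F54488)) (tt N7510 (iv F54994)) (tt N7018 (iv F53094)) (tt N7164 (iv F53703)) (tt N7505 (iv F54981)) (tt N5495 F51050) (tt N5494 (iv D12984)) (tt N7504 (iv F54979)))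
theorem Q6528 : ∀ i, i < 6528 → P i := stepQ 6527 Q6527 (allL N6527 (tt N7495 (iv F54948)) (tt N7355 (iv F54490)) (tt N7012 (iv F53064)) (tt N5495 (iv D12985)) (tt N7011 (iv F53061)) (tt N5496 F51051) (tt N7018 (iv F53096)) (tt N5500 F51052) (tt N7346 (iv F54466)))
theorem Q6529 : ∀ i, i < 6529 → P i := stepQ 6528 Q6528 (allL N6528 (tt N7496 (iv F54951)) (tt N7154 (iv F53663)) (tt N5496 (iv D12986)) (tt N7512 (iv F54999)) (tt N7337 (iv F54431)) (tt N7012 (iv F53066)) (tt N7340 (iv F54445)) (tt N5501 F51053) (tt N7344 (iv F54459)))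
theorem Q6530 : ∀ i, i < 6530 → P i := stepQ 6529 Q6529 (allL N6529 (tt N7497 (iv F54953)) (tt N5699 F51054) (tt N5592 F51055) (tt N7017 (iv F53089)) (tt N6529 F51056) (tt N5499 F51057) (tt N5498 F51058) (tt N5497 (iv D12987)) (tt N5636 F51059))
theorem Q6531 : ∀ i, i < 6531 → P i := stepQ 6530 Q6530 (allL N6530 (tt N6530 F51060) (tt N7214 (iv F53951)) (tt N7171 (iv F53728)) (tt N5502 (iv D12988)) (tt N7513 D13971) (tt N7173 (iv F53738)) (tt N5503 F51061) (tt N6163 F51062) (tt N7514 D13972))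
theorem Q6532 : ∀ i, i < 6532 → P i := stepQ 6531 Q6531 (allL N6531 (tt N6531 F51063) (tt N7215 (iv F53956)) (tt N5505 F51064) (tt N7514 (iv F55008)) (tt N5701 F51065) (tt N7185 (iv F53790)) (tt N5504 F51066) (tt N5512 F51067) (tt N5502 (iv D12989)))
theorem Q6533 : ∀ i, i < 6533 → P i := stepQ 6532 Q6532 (allL N6532 (tt N6532 F51068) (tt N7397 (iv F54636)) (tt N5503 (iv D12990)) (tt N5506 F51069) (tt N6734 (iv F51918)) (tt N5511 F51070) (tt N7171 (iv F53730)) (tt N6165 F51071) (tt N7515 D13973))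
theorem Q6534 : ∀ i, i < 6534 → P i := stepQ 6533 Q6533 (allL N6533 (tt N6533 F51072) (tt N7359 (iv F54508)) (tt N6734 (iv F51917)) (tt N5703 F51073) (tt N5503 (iv D12991)) (tt N6735 (iv F51922)) (tt N7513 (iv F55005)) (tt N6166 F51074) (tt N7516 D13974))
theorem Q6535 : ∀ i, i < 6535 → P i := stepQ 6534 Q6534 (allL N6534 (tt N6534 F51075) (tt N7360 (iv F54512)) (tt N7515 (iv F55011)) (tt N5504 F51076) (tt N7516 (iv F55016)) (tt N5852 F51077) (tt N7514 (iv F55009)) (tt N7517 D13975) (tt N5503 (iv D12992)))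
theorem Q6536 : ∀ i, i < 6536 → P i := stepQ 6535 Q6535 (allL N6535 (tt N6535 F51078) (tt N7398 (iv F54639)) (tt N5508 F51079) (tt N7515 (iv F55012)) (tt N6594 F51328) (tt N5512 F51080) (tt N7172 (iv F53734)) (tt N7185 (iv F53792)) (tt N5506 (iv D12993)))
theorem Q6537 : ∀ i, i < 6537 → P i := stepQ 6536 Q6536 (allL N6536 (tt N6536 F51081) (tt N5510 F51082) (tt N6594 (iv F51325)) (tt N5706 F51083) (tt N5508 F51084) (tt N5714 F51085) (tt N7182 (iv F53774)) (tt N7186 (iv F53799)) (tt N5507 (iv D12994)))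
theorem Q6538 : ∀ i, i < 6538 → P i := stepQ 6537 Q6537 (allL N6537 (tt N6537 F51086) (tt N7400 (iv F54645)) (tt N5851 F51087) (tt N5709 F51088) (tt N5511 (iv D12995)) (tt N6736 (iv F51925)) (tt N5514 F51089) (tt N6540 (iv F51101)) (tt N7518 D13976))
theorem Q6539 : ∀ i, i < 6539 → P i := stepQ 6538 Q6538 (allL N6538 (tt N6538 F51090) (tt N7401 (iv F54648)) (tt N5852 F51091) (tt N5512 F51092) (tt N7518 (iv F55024)) (tt N7515 (iv F55013)) (tt N5515 F51093) (tt N7519 D13977) (tt N5511 (iv D12996)))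
theorem Q6540 : ∀ i, i < 6540 → P i := stepQ 6539 Q6539 (allL N6539 (tt N7520 D13978) (tt N5513 (iv D12997)) (tt N7402 (iv F54651)) (tt N5516 F51094) (tt N7521 D13979) (tt N7176 (iv F53748)) (tt N5800 F51095) (tt N6416 F51096) (tt N7522 D13980))
theorem Q6541 : ∀ i, i < 6541 → P i := stepQ 6540 Q6540 (allL N6540 (tt N6540 F51097) (tt N7521 (iv F55033)) (tt N5514 F51098) (tt N6540 F51099) (tt N5513 (iv D12998)) (tt N7523 D13981) (tt N5851 F51100) (tt N6537 F51101) (tt N7524 D13982))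
theorem Q6542 : ∀ i, i < 6542 → P i := stepQ 6541 Q6541 (allL N6541 (tt N6541 F51102) (tt N7522 (iv F55037)) (tt N5515 F51103) (tt N5517 F51104) (tt N7524 (iv F55048)) (tt N7178 (iv F53757)) (tt N5852 F51105) (tt N7525 D13983) (tt N5513 (iv D12999)))
theorem Q6543 : ∀ i, i < 6543 → P i := stepQ 6542 Q6542 (allL N6542 (tt N6542 F51106) (tt N7405 (iv F54658)) (tt N7523 (iv F55041)) (tt N5711 F51107) (tt N7179 (iv F53761)) (tt N5514 (iv D13000)) (tt N7526 D13984) (tt N6858 (iv F52342)) (tt N7527 D13985))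
theorem Q6544 : ∀ i, i < 6544 → P i := stepQ 6543 Q6543 (allL N6543 (tt N6543 F51108) (tt N7406 (iv F54660)) (tt N7524 (iv F55046)) (tt N5712 F51109) (tt N5515 F51110) (tt N7527 (iv F55058)) (tt N7518 (iv F55025)) (tt N7528 D13986) (tt N5514 (iv D13001)))
theorem Q6545 : ∀ i, i < 6545 → P i := stepQ 6544 Q6544 (allL N6544 (tt N6544 F51111) (tt N7407 (iv F54663)) (tt N7525 (iv F55051)) (tt N7517 (iv F55018)) (tt N7528 (iv F55060)) (tt N7181 (iv F53768)) (tt N7519 (iv F55028)) (tt N5515 (iv D13002)) (tt N6860 (iv F52347)))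
theorem Q6546 : ∀ i, i < 6546 → P i := stepQ 6545 Q6545 (allL N6545 (tt N5516 (iv D13003)) (tt N6545 F51112) (tt N5519 F51113) (tt N7520 (iv F55030)) (tt N6545 F51114) (tt N7187 (iv F53802)) (tt N5751 F51115) (tt N5518 F51116) (tt N7529 D13987))
theorem Q6547 : ∀ i, i < 6547 → P i := stepQ 6546 Q6546 (allL N6546 (tt N7529 (iv F55061)) (tt N5517 F51117) (tt N5520 F51118) (tt N7522 (iv F55038)) (tt N6546 F51119) (tt N7189 (iv F53814)) (tt N5801 F51120) (tt N7036 (iv F53181)) (tt N5516 (iv D13004)))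
theorem Q6548 : ∀ i, i < 6548 → P i := stepQ 6547 Q6547 (allL N6547 (tt N5520 F51121) (tt N5521 F51122) (tt N7529 (iv F55063)) (tt N7475 (iv F54880)) (tt N6547 F51123) (tt N7194 (iv F53840)) (tt N5753 F51124) (tt N6924 (iv F52670)) (tt N5519 (iv D13005)))
theorem Q6549 : ∀ i, i < 6549 → P i := stepQ 6548 Q6548 (allL N6548 (tt N5523 F51125) (tt N6548 F51126) (tt N5562 F51127) (tt N7530 D13988) (tt N5522 (iv D13006)) (tt N7531 D13989) (tt N5757 F51128) (tt N6548 F51129) (tt N7532 D13990))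
theorem Q6550 : ∀ i, i < 6550 → P i := stepQ 6549 Q6549 (allL N6549 (tt N5524 F51130) (tt N6549 F51131) (tt N5563 F51132) (tt N6276 F51133) (tt N7532 (iv F55078)) (tt N6549 F51134) (tt N5758 F51135) (tt N7533 D13991) (tt N5522 (iv D13007)))
theorem Q6551 : ∀ i, i < 6551 → P i := stepQ 6550 Q6550 (allL N6550 (tt N7530 (iv F55066)) (tt N5525 F51136) (tt N7431 (iv F54734)) (tt N5523 (iv D13008)) (tt N6447 F51137) (tt N7534 D13992) (tt N5810 F51138) (tt N7535 D13993) (tt N7536 D13994))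
theorem Q6552 : ∀ i, i < 6552 → P i := stepQ 6551 Q6551 (allL N6551 (tt N7531 (iv F55070)) (tt N5526 F51139) (tt N5564 F51140) (tt N7534 (iv F55087)) (tt N6551 F51141) (tt N5523 (iv D13009)) (tt N7537 D13995) (tt N6551 F51142) (tt N7538 D13996))
theorem Q6553 : ∀ i, i < 6553 → P i := stepQ 6552 Q6552 (allL N6552 (tt N7532 (iv F55075)) (tt N5527 F51143) (tt N5565 F51144) (tt N7536 (iv F55093)) (tt N5524 F51145) (tt N7538 (iv F55104)) (tt N5812 F51146) (tt N7539 D13997) (tt N5523 (iv D13010)))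
theorem Q6554 : ∀ i, i < 6554 → P i := stepQ 6553 Q6553 (allL N6553 (tt N7533 (iv F55080)) (tt N5528 F51147) (tt N5566 F51148) (tt N7540 D13998) (tt N7539 (iv F55107)) (tt N6553 F51149) (tt N5813 F51150) (tt N5524 (iv D13011)) (tt N6553 F51151))
theorem Q6555 : ∀ i, i < 6555 → P i := stepQ 6554 Q6554 (allL N6554 (tt N6554 F51152) (tt N7534 (iv F55086)) (tt N5539 F51153) (tt N5526 F51154) (tt N7541 D13999) (tt N5525 (iv D13012)) (tt N7542 D14000) (tt N7543 D14001) (tt N7544 D14002))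
theorem Q6556 : ∀ i, i < 6556 → P i := stepQ 6555 Q6555 (allL N6555 (tt N6555 F51155) (tt N7535 (iv F55088)) (tt N5540 F51156) (tt N6555 F51157) (tt N6565 (iv F51205)) (tt N7543 (iv F55127)) (tt N5854 F51158) (tt N5525 (iv D13013)) (tt N7545 D14003))
theorem Q6557 : ∀ i, i < 6557 → P i := stepQ 6556 Q6556 (allL N6556 (tt N6556 F51159) (tt N7536 (iv F55092)) (tt N5541 F51160) (tt N5527 F51161) (tt N6566 (iv F51210)) (tt N7544 (iv F55132)) (tt N5855 F51162) (tt N7546 D14004) (tt N5525 (iv D13014)))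
theorem Q6558 : ∀ i, i < 6558 → P i := stepQ 6557 Q6557 (allL N6557 (tt N6557 F51163) (tt N7537 (iv F55096)) (tt N5529 F51164) (tt N7542 (iv F55120)) (tt N6557 F51165) (tt N5856 F51166) (tt N5526 (iv D13015)) (tt N6557 F51167) (tt N7547 D14005))
theorem Q6559 : ∀ i, i < 6559 → P i := stepQ 6558 Q6558 (allL N6558 (tt N6558 F51168) (tt N7538 (iv F55101)) (tt N5530 F51169) (tt N7544 (iv F55131)) (tt N6558 F51170) (tt N5527 F51171) (tt N7547 (iv F55144)) (tt N7548 D14006) (tt N5526 (iv D13016)))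
theorem Q6560 : ∀ i, i < 6560 → P i := stepQ 6559 Q6559 (allL N6559 (tt N6559 F51172) (tt N7539 (iv F55105)) (tt N5531 F51173) (tt N7549 D14007) (tt N5528 F51174) (tt N7548 (iv F55148)) (tt N5858 F51175) (tt N5527 (iv D13017)) (tt N6559 F51176))
theorem Q6561 : ∀ i, i < 6561 → P i := stepQ 6560 Q6560 (allL N6560 (tt N6560 F51177) (tt N7540 (iv F55110)) (tt N6560 F51178) (tt N5528 (iv D13018)) (tt N7550 D14008) (tt N6560 F51179) (tt N5859 F51180) (tt N6570 (iv F51230)) (tt N6560 F51181))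
theorem Q6562 : ∀ i, i < 6562 → P i := stepQ 6561 Q6561 (allL N6561 (tt N6561 F51182) (tt N5570 F51183) (tt N7547 (iv F55141)) (tt N5546 F51184) (tt N6561 F51185) (tt N5860 F51186) (tt N5530 F51187) (tt N7551 D14009) (tt N5529 (iv D13019)))
theorem Q6563 : ∀ i, i < 6563 → P i := stepQ 6562 Q6562 (allL N6562 (tt N6562 F51188) (tt N5571 F51189) (tt N7548 (iv F55146)) (tt N7552 D14010) (tt N6562 F51190) (tt N5531 F51191) (tt N7551 (iv F55161)) (tt N5530 (iv D13020)) (tt N6562 F51192))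
theorem Q6564 : ∀ i, i < 6564 → P i := stepQ 6563 Q6563 (allL N6563 (tt N6563 F51193) (tt N5572 F51194) (tt N7553 D14011) (tt N5531 (iv D13021)) (tt N6563 F51195) (tt N7552 (iv F55165)) (tt N5862 F51196) (tt N5548 F51197) (tt N6563 F51198))
theorem Q6565 : ∀ i, i < 6565 → P i := stepQ 6564 Q6564 (allL N6564 (tt N6564 F51199) (tt N7445 (iv F54763)) (tt N5853 F51200) (tt N5533 F51201) (tt N7554 D14012) (tt N5532 (iv D13022)) (tt N7555 D14013) (tt N7556 D14014) (tt N7557 D14015))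
theorem Q6566 : ∀ i, i < 6566 → P i := stepQ 6565 Q6565 (allL N6565 (tt N6565 F51202) (tt N7446 (iv F54765)) (tt N5854 F51203) (tt N5716 F51204) (tt N6555 F51205) (tt N7556 (iv F55189)) (tt N5540 F51206) (tt N5532 (iv D13023)) (tt N7558 D14016))
theorem Q6567 : ∀ i, i < 6567 → P i := stepQ 6566 Q6566 (allL N6566 (tt N6566 F51207) (tt N7447 (iv F54768)) (tt N5855 F51208) (tt N5534 F51209) (tt N6556 F51210) (tt N7557 (iv F55194)) (tt N5541 F51211) (tt N7559 D14017) (tt N5532 (iv D13024)))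
theorem Q6568 : ∀ i, i < 6568 → P i := stepQ 6567 Q6567 (allL N6567 (tt N6567 F51212) (tt N7448 (iv F54771)) (tt N5536 F51213) (tt N7555 (iv F55181)) (tt N6567 F51214) (tt N5542 F51215) (tt N5533 (iv D13025)) (tt N5718 F51216) (tt N7560 D14018))
theorem Q6569 : ∀ i, i < 6569 → P i := stepQ 6568 Q6568 (allL N6568 (tt N6568 F51217) (tt N7449 (iv F54776)) (tt N5537 F51218) (tt N7557 (iv F55193)) (tt N6568 F51219) (tt N5534 F51220) (tt N7560 (iv F55208)) (tt N7561 D14019) (tt N5533 (iv D13026)))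
theorem Q6570 : ∀ i, i < 6570 → P i := stepQ 6569 Q6569 (allL N6569 (tt N6569 F51221) (tt N7450 (iv F54781)) (tt N5538 F51222) (tt N7562 D14020) (tt N5535 F51223) (tt N7561 (iv F55212)) (tt N5544 F51224) (tt N5534 (iv D13027)) (tt N5720 F51225))
theorem Q6571 : ∀ i, i < 6571 → P i := stepQ 6570 Q6570 (allL N6570 (tt N6570 F51226) (tt N7451 (iv F54787)) (tt N6570 F51227) (tt N5535 (iv D13028)) (tt N7563 D14021) (tt N6570 F51228) (tt N5545 F51229) (tt N6560 F51230) (tt N5721 F51231))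
theorem Q6572 : ∀ i, i < 6572 → P i := stepQ 6571 Q6571 (allL N6571 (tt N6571 F51232) (tt N5573 F51233) (tt N7560 (iv F55205)) (tt N5860 F51234) (tt N6571 F51235) (tt N5546 F51236) (tt N5537 F51237) (tt N7564 D14022) (tt N5536 (iv D13029)))
theorem Q6573 : ∀ i, i < 6573 → P i := stepQ 6572 Q6572 (allL N6572 (tt N6572 F51238) (tt N5574 F51239) (tt N7561 (iv F55210)) (tt N7565 D14023) (tt N6572 F51240) (tt N5538 F51241) (tt N7564 (iv F55226)) (tt N5537 (iv D13030)) (tt N5723 F51242))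
theorem Q6574 : ∀ i, i < 6574 → P i := stepQ 6573 Q6573 (allL N6573 (tt N6573 F51243) (tt N5575 F51244) (tt N7566 D14024) (tt N5538 (iv D13031)) (tt N6573 F51245) (tt N7565 (iv F55230)) (tt N5548 F51246) (tt N5862 F51247) (tt N5724 F51248))
theorem Q6575 : ∀ i, i < 6575 → P i := stepQ 6574 Q6574 (allL N6574 (tt N6574 F51249) (tt N7454 (iv F54801)) (tt N7541 (iv F55116)) (tt N5549 F51250) (tt N5539 (iv D13032)) (tt N6861 (iv F52350)) (tt N6576 (iv F51258)) (tt N6575 F51253) (tt N7567 D14025))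
theorem Q6576 : ∀ i, i < 6576 → P i := stepQ 6575 Q6575 (allL N6575 (tt N6575 F51251) (tt N7455 (iv F54803)) (tt N7542 (iv F55119)) (tt N5542 F51252) (tt N6576 (iv F51256)) (tt N7555 (iv F55183)) (tt N5539 (iv D13033)) (tt N6574 (iv F51253)) (tt N7568 D14026))
theorem Q6577 : ∀ i, i < 6577 → P i := stepQ 6576 Q6576 (allL N6576 (tt N6576 F51254) (tt N7456 (iv F54806)) (tt N7543 (iv F55124)) (tt N5727 F51255) (tt N6575 F51256) (tt N5540 F51257) (tt N6574 F51258) (tt N5539 (iv D13034)) (tt N7569 D14027))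
theorem Q6578 : ∀ i, i < 6578 → P i := stepQ 6577 Q6577 (allL N6577 (tt N6577 F51259) (tt N7457 (iv F54811)) (tt N7544 (iv F55130)) (tt N5543 F51260) (tt N7567 (iv F55240)) (tt N5541 F51261) (tt N7568 (iv F55243)) (tt N7570 D14028) (tt N5539 (iv D13035)))
theorem Q6579 : ∀ i, i < 6579 → P i := stepQ 6578 Q6578 (allL N6578 (tt N6578 F51262) (tt N7458 (iv F54814)) (tt N7545 (iv F55134)) (tt N5729 F51263) (tt N6865 (iv F52361)) (tt N7569 (iv F55247)) (tt N7558 (iv F55199)) (tt N7571 D14029) (tt N5540 (iv D13036)))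
theorem Q6580 : ∀ i, i < 6580 → P i := stepQ 6579 Q6579 (allL N6579 (tt N6579 F51264) (tt N7459 (iv F54816)) (tt N7546 (iv F55138)) (tt N7572 D14030) (tt N6866 (iv F52363)) (tt N7570 (iv F55250)) (tt N7559 (iv F55203)) (tt N5541 (iv D13037)) (tt N7571 (iv F55252)))
theorem Q6581 : ∀ i, i < 6581 → P i := stepQ 6580 Q6580 (allL N6580 (tt N6580 F51265) (tt N7460 (iv F54817)) (tt N5546 F51266) (tt N7568 (iv F55242)) (tt N5555 F51267) (tt N7560 (iv F55207)) (tt N5543 F51268) (tt N7573 D14031) (tt N5542 (iv D13038)))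
theorem Q6582 : ∀ i, i < 6582 → P i := stepQ 6581 Q6581 (allL N6581 (tt N6581 F51269) (tt N7461 (iv F54821)) (tt N5547 F51270) (tt N7574 D14032) (tt N5556 F51271) (tt N5544 F51272) (tt N7573 (iv F55258)) (tt N5543 (iv D13039)) (tt N5732 F51273))
theorem Q6583 : ∀ i, i < 6583 → P i := stepQ 6582 Q6582 (allL N6582 (tt N6582 F51274) (tt N7462 (iv F54826)) (tt N7575 D14033) (tt N5544 (iv D13040)) (tt N7576 D14034) (tt N7574 (iv F55263)) (tt N7562 (iv F55215)) (tt N7572 (iv F55254)) (tt N5733 F51275))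
theorem Q6584 : ∀ i, i < 6584 → P i := stepQ 6583 Q6583 (allL N6583 (tt N6583 F51276) (tt N7463 (iv F54828)) (tt N6583 F51277) (tt N7576 (iv F55270)) (tt N5545 (iv D13041)) (tt N6709 (iv F51810)) (tt N7563 (iv F55219)) (tt N6870 (iv F52377)) (tt N5734 F51278))
theorem Q6585 : ∀ i, i < 6585 → P i := stepQ 6584 Q6584 (allL N6584 (tt N6584 F51279) (tt N5576 F51280) (tt N7573 (iv F55256)) (tt N6901 (iv F52535)) (tt N5559 F51281) (tt N7564 (iv F55225)) (tt N5547 F51282) (tt N5546 (iv D13042)) (tt N5735 F51283))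
theorem Q6586 : ∀ i, i < 6586 → P i := stepQ 6585 Q6585 (allL N6585 (tt N6585 F51284) (tt N5577 F51285) (tt N6707 (iv F51800)) (tt N5547 (iv D13043)) (tt N6706 (iv F51796)) (tt N5548 F51286) (tt N6901 (iv F52537)) (tt N7552 (iv F55166)) (tt N5736 F51287))
theorem Q6587 : ∀ i, i < 6587 → P i := stepQ 6586 Q6586 (allL N6586 (tt N6586 F51288) (tt N7577 D14035) (tt N5548 (iv D13044)) (tt N7575 (iv F55266)) (tt N6586 F51289) (tt N6707 (iv F51802)) (tt N7566 (iv F55235)) (tt N7553 (iv F55171)) (tt N5737 F51290))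
theorem Q6588 : ∀ i, i < 6588 → P i := stepQ 6587 Q6587 (allL N6587 (tt N6587 F51291) (tt N7467 (iv F54838)) (tt N6587 F51292) (tt N7567 (iv F55239)) (tt N5552 F51293) (tt N6874 (iv F52394)) (tt N6729 (iv F51902)) (tt N7578 D14036) (tt N5549 (iv D13045)))
theorem Q6589 : ∀ i, i < 6589 → P i := stepQ 6588 Q6588 (allL N6588 (tt N6588 F51294) (tt N7468 (iv F54840)) (tt N6588 F51295) (tt N5555 F51296) (tt N6729 (iv F51900)) (tt N6588 F51297) (tt N5552 F51298) (tt N7579 D14037) (tt N5550 (iv D13046)))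
theorem Q6590 : ∀ i, i < 6590 → P i := stepQ 6589 Q6589 (allL N6589 (tt N6589 F51299) (tt N7469 (iv F54845)) (tt N6589 F51300) (tt N5740 F51301) (tt N6728 (iv F51896)) (tt N5553 F51302) (tt N6727 (iv F51892)) (tt N7580 D14038) (tt N5551 (iv D13047)))
theorem Q6591 : ∀ i, i < 6591 → P i := stepQ 6590 Q6590 (allL N6590 (tt N6590 F51303) (tt N7470 (iv F54850)) (tt N6590 F51304) (tt N7581 D14039) (tt N7578 (iv F55278)) (tt N5554 F51305) (tt N7579 (iv F55282)) (tt N5552 (iv D13048)) (tt N7580 (iv F55291)))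
theorem Q6592 : ∀ i, i < 6592 → P i := stepQ 6591 Q6591 (allL N6591 (tt N6591 F51306) (tt N6221 F51307) (tt N6591 F51308) (tt N6192 F51309) (tt N6878 (iv F52410)) (tt N7580 (iv F55289)) (tt N6591 F51310) (tt N5553 (iv D13049)) (tt N5554 F51311))
theorem Q6593 : ∀ i, i < 6593 → P i := stepQ 6592 Q6592 (allL N6592 (tt N6592 F51312) (tt N6223 F51313) (tt N6194 (iv F51317)) (tt N5554 (iv D13050)) (tt N6193 (iv F51318)) (tt N7581 (iv F55294)) (tt N6592 F51314) (tt N5557 F51315) (tt N6192 F51316))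
theorem Q6594 : ∀ i, i < 6594 → P i := stepQ 6593 Q6593 (allL N6593 (tt N6593 F51319) (tt N7471 (iv F54854)) (tt N5559 F51320) (tt N7582 D14040) (tt N7573 (iv F55257)) (tt N6593 F51321) (tt N5556 F51322) (tt N5555 (iv D13051)) (tt N5743 F51323))
theorem Q6595 : ∀ i, i < 6595 → P i := stepQ 6594 Q6594 (allL N6594 (tt N6594 F51324) (tt N7472 (iv F54860)) (tt N6536 F51325) (tt N5556 (iv D13052)) (tt N6535 (iv F51328)) (tt N5557 F51326) (tt N7582 (iv F55303)) (tt N7581 (iv F55296)) (tt N5744 F51327))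
theorem Q6596 : ∀ i, i < 6596 → P i := stepQ 6595 Q6595 (allL N6595 (tt N5564 F51329) (tt N5580 F51330) (tt N7531 (iv F55072)) (tt N7485 (iv F54917)) (tt N6595 F51331) (tt N5562 (iv D13053)) (tt N7583 D14041) (tt N6595 F51332) (tt N7584 D14042))
theorem Q6597 : ∀ i, i < 6597 → P i := stepQ 6596 Q6596 (allL N6596 (tt N5565 F51333) (tt N5581 F51334) (tt N7532 (iv F55077)) (tt N7486 (iv F54920)) (tt N5563 F51335) (tt N7584 (iv F55315)) (tt N5760 F51336) (tt N7585 D14043) (tt N5562 (iv D13054)))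
theorem Q6598 : ∀ i, i < 6598 → P i := stepQ 6597 Q6597 (allL N6597 (tt N5566 F51337) (tt N5582 F51338) (tt N7533 (iv F55082)) (tt N6940 (iv F52729)) (tt N7585 (iv F55318)) (tt N6597 F51339) (tt N5761 F51340) (tt N5563 (iv D13055)) (tt N6597 F51341))
theorem Q6599 : ∀ i, i < 6599 → P i := stepQ 6598 Q6598 (allL N6598 (tt N7583 (iv F55307)) (tt N5567 F51342) (tt N7537 (iv F55097)) (tt N7488 (iv F54927)) (tt N6598 F51343) (tt N5814 F51344) (tt N5564 (iv D13056)) (tt N6598 F51345) (tt N7586 D14044))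
theorem Q6600 : ∀ i, i < 6600 → P i := stepQ 6599 Q6599 (allL N6599 (tt N7584 (iv F55312)) (tt N5568 F51346) (tt N7538 (iv F55102)) (tt N7489 (iv F54930)) (tt N6599 F51347) (tt N5565 F51348) (tt N7586 (iv F55324)) (tt N7587 D14045) (tt N5564 (iv D13057)))
theorem Q6601 : ∀ i, i < 6601 → P i := stepQ 6600 Q6600 (allL N6600 (tt N7585 (iv F55316)) (tt N5569 F51349) (tt N7539 (iv F55106)) (tt N7588 D14046) (tt N5566 F51350) (tt N7587 (iv F55327)) (tt N5816 F51351) (tt N5565 (iv D13058)) (tt N6600 F51352))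
theorem Q6602 : ∀ i, i < 6602 → P i := stepQ 6601 Q6601 (allL N6601 (tt N5586 F51353) (tt N7586 (iv F55321)) (tt N5570 F51354) (tt N7491 (iv F54937)) (tt N6601 F51355) (tt N5833 F51356) (tt N5568 F51357) (tt N7589 D14047) (tt N5567 (iv D13059)))
theorem Q6603 : ∀ i, i < 6603 → P i := stepQ 6602 Q6602 (allL N6602 (tt N5587 F51358) (tt N7587 (iv F55325)) (tt N5571 F51359) (tt N7590 D14048) (tt N6602 F51360) (tt N5569 F51361) (tt N7589 (iv F55336)) (tt N5568 (iv D13060)) (tt N6602 F51362))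
theorem Q6604 : ∀ i, i < 6604 → P i := stepQ 6603 Q6603 (allL N6603 (tt N5588 F51363) (tt N7588 (iv F55329)) (tt N7591 D14049) (tt N5569 (iv D13061)) (tt N7134 (iv F53561)) (tt N7590 (iv F55339)) (tt N5835 F51364) (tt N7493 (iv F54945)) (tt N6603 F51365))
theorem Q6605 : ∀ i, i < 6605 → P i := stepQ 6604 Q6604 (allL N6604 (tt N5589 F51366) (tt N7551 (iv F55158)) (tt N7589 (iv F55333)) (tt N6908 (iv F52573)) (tt N6604 F51367) (tt N5876 F51368) (tt N5571 F51369) (tt N5570 (iv D13062)) (tt N6604 F51370))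
theorem Q6606 : ∀ i, i < 6606 → P i := stepQ 6605 Q6605 (allL N6605 (tt N5590 F51371) (tt N7552 (iv F55164)) (tt N6980 (iv F52899)) (tt N5571 (iv D13063)) (tt N6906 (iv F52560)) (tt N5572 F51372) (tt N6908 (iv F52576)) (tt N5577 F51373) (tt N6605 F51374))
theorem Q6607 : ∀ i, i < 6607 → P i := stepQ 6606 Q6606 (allL N6606 (tt N5591 F51375) (tt N7592 D14050) (tt N5572 (iv D13064)) (tt N7591 (iv F55342)) (tt N6606 F51376) (tt N6980 (iv F52901)) (tt N5878 F51377) (tt N5578 F51378) (tt N6606 F51379))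
theorem Q6608 : ∀ i, i < 6608 → P i := stepQ 6607 Q6607 (allL N6607 (tt N5592 F51380) (tt N7564 (iv F55223)) (tt N7497 (iv F54954)) (tt N6907 (iv F52566)) (tt N6607 F51381) (tt N5576 F51382) (tt N5574 F51383) (tt N5573 (iv D13065)) (tt N5745 F51384))
theorem Q6609 : ∀ i, i < 6609 → P i := stepQ 6608 Q6608 (allL N6608 (tt N5593 F51385) (tt N7565 (iv F55229)) (tt N6981 (iv F52905)) (tt N5574 (iv D13066)) (tt N6909 (iv F52581)) (tt N5575 F51386) (tt N6907 (iv F52569)) (tt N5877 F51387) (tt N5746 F51388))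
theorem Q6610 : ∀ i, i < 6610 → P i := stepQ 6609 Q6609 (allL N6609 (tt N5594 F51389) (tt N7593 D14051) (tt N5575 (iv D13067)) (tt N7305 (iv F54312)) (tt N6609 F51390) (tt N6981 (iv F52907)) (tt N5578 F51391) (tt N5878 F51392) (tt N5747 F51393))
theorem Q6611 : ∀ i, i < 6611 → P i := stepQ 6610 Q6610 (allL N6610 (tt N7076 (iv F53308)) (tt N5578 (iv D13068)) (tt N7577 (iv F55273)) (tt N7498 (iv F54959)) (tt N6610 F51394) (tt N6939 (iv F52725)) (tt N7593 (iv F55350)) (tt N7592 (iv F55347)) (tt N5748 F51395))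
theorem Q6612 : ∀ i, i < 6612 → P i := stepQ 6611 Q6611 (allL N6611 (tt N5583 F51396) (tt N7583 (iv F55308)) (tt N6611 F51397) (tt N7105 (iv F53429)) (tt N6611 F51398) (tt N5778 F51399) (tt N5580 (iv D13069)) (tt N6611 F51400) (tt N7594 D14052))
theorem Q6613 : ∀ i, i < 6613 → P i := stepQ 6612 Q6612 (allL N6612 (tt N5584 F51401) (tt N7584 (iv F55313)) (tt N6612 F51402) (tt N7506 (iv F54984)) (tt N6612 F51403) (tt N5581 F51404) (tt N7594 (iv F55357)) (tt N7595 D14053) (tt N5580 (iv D13070)))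
theorem Q6614 : ∀ i, i < 6614 → P i := stepQ 6613 Q6613 (allL N6613 (tt N5585 F51405) (tt N7585 (iv F55317)) (tt N6613 F51406) (tt N7596 D14054) (tt N5582 F51407) (tt N7595 (iv F55361)) (tt N5780 F51408) (tt N5581 (iv D13071)) (tt N6613 F51409))
theorem Q6615 : ∀ i, i < 6615 → P i := stepQ 6614 Q6614 (allL N6614 (tt N7594 (iv F55353)) (tt N5586 F51410) (tt N6614 F51411) (tt N7144 (iv F53614)) (tt N6614 F51412) (tt N5793 F51413) (tt N5584 F51414) (tt N7597 D14055) (tt N5583 (iv D13072)))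
theorem Q6616 : ∀ i, i < 6616 → P i := stepQ 6615 Q6615 (allL N6615 (tt N7595 (iv F55358)) (tt N5587 F51415) (tt N6615 F51416) (tt N7598 D14056) (tt N6615 F51417) (tt N5585 F51418) (tt N7597 (iv F55370)) (tt N5584 (iv D13073)) (tt N6615 F51419))
theorem Q6617 : ∀ i, i < 6617 → P i := stepQ 6616 Q6616 (allL N6616 (tt N7596 (iv F55363)) (tt N5588 F51420) (tt N7599 D14057) (tt N5585 (iv D13074)) (tt N7023 (iv F53114)) (tt N7598 (iv F55373)) (tt N5795 F51421) (tt N7509 (iv F54993)) (tt N6616 F51422))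
theorem Q6618 : ∀ i, i < 6618 → P i := stepQ 6617 Q6617 (allL N6617 (tt N7589 (iv F55332)) (tt N7597 (iv F55366)) (tt N5589 F51423) (tt N7025 (iv F53123)) (tt N6617 F51424) (tt N5844 F51425) (tt N5587 F51426) (tt N5586 (iv D13075)) (tt N6617 F51427))
theorem Q6619 : ∀ i, i < 6619 → P i := stepQ 6618 Q6618 (allL N6618 (tt N7590 (iv F55338)) (tt N7598 (iv F55372)) (tt N7023 (iv F53113)) (tt N5587 (iv D13076)) (tt N7599 (iv F55376)) (tt N5588 F51428) (tt N7025 (iv F53126)) (tt N7511 (iv F54998)) (tt N6618 F51429))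
theorem Q6620 : ∀ i, i < 6620 → P i := stepQ 6619 Q6619 (allL N6619 (tt N7591 (iv F55341)) (tt N7167 (iv F53709)) (tt N5588 (iv D13077)) (tt N5591 F51430) (tt N7168 (iv F53714)) (tt N7023 (iv F53115)) (tt N5846 F51431) (tt N7512 (iv F55001)) (tt N6619 F51432))
theorem Q6621 : ∀ i, i < 6621 → P i := stepQ 6620 Q6620 (allL N6620 (tt N5642 F51433) (tt N6739 (iv F51937)) (tt N6620 F51434) (tt N5597 F51435) (tt N7600 D14058) (tt N5596 (iv D13078)) (tt N7192 (iv F53829)) (tt N6697 F51752) (tt N6698 (iv F51757)))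
theorem Q6622 : ∀ i, i < 6622 → P i := stepQ 6621 Q6621 (allL N6621 (tt N5655 F51436) (tt N6621 F51437) (tt N5676 F51438) (tt N5602 (iv D13079)) (tt N7601 D14059) (tt N5648 F51439) (tt N5603 F51440) (tt N6621 F51441) (tt N7378 (iv F54570)))
theorem Q6623 : ∀ i, i < 6623 → P i := stepQ 6622 Q6622 (allL N6622 (tt N5657 F51442) (tt N5721 (iv F51447)) (tt N5603 (iv D13080)) (tt N5605 F51443) (tt N7602 D14060) (tt N6622 F51444) (tt N5676 F51445) (tt N6622 F51446) (tt N7451 (iv F54791)))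
theorem Q6624 : ∀ i, i < 6624 → P i := stepQ 6623 Q6623 (allL N6623 (tt N5658 F51448) (tt N6623 F51449) (tt N7602 (iv F55394)) (tt N7244 (iv F54079)) (tt N5603 (iv D13081)) (tt N7603 D14061) (tt N7601 (iv F55390)) (tt N6623 F51450) (tt N7604 D14062))
theorem Q6625 : ∀ i, i < 6625 → P i := stepQ 6624 Q6624 (allL N6624 (tt N5659 F51451) (tt N6624 F51452) (tt N7451 (iv F54788)) (tt N5604 F51453) (tt N7604 (iv F55403)) (tt N6624 F51454) (tt N7378 (iv F54568)) (tt N7605 D14063) (tt N5603 (iv D13082)))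
theorem Q6626 : ∀ i, i < 6626 → P i := stepQ 6625 Q6625 (allL N6625 (tt N5660 F51455) (tt N5720 F51456) (tt N5606 F51457) (tt N7606 D14064) (tt N5605 (iv D13083)) (tt N7607 D14065) (tt N5675 F51458) (tt N5607 F51459) (tt N7450 (iv F54785)))
theorem Q6627 : ∀ i, i < 6627 → P i := stepQ 6626 Q6626 (allL N6626 (tt N5662 F51460) (tt N5628 F51461) (tt N7607 (iv F55416)) (tt N7253 (iv F54111)) (tt N6626 F51462) (tt N5606 (iv D13084)) (tt N7608 D14066) (tt N5608 F51463) (tt N7453 (iv F54800)))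
theorem Q6628 : ∀ i, i < 6628 → P i := stepQ 6627 Q6627 (allL N6627 (tt N5664 F51464) (tt N5717 F51465) (tt N5611 F51466) (tt N5607 (iv D13085)) (tt N6627 F51467) (tt N7609 D14067) (tt N5672 F51468) (tt N7610 D14068) (tt N5667 F51469))
theorem Q6629 : ∀ i, i < 6629 → P i := stepQ 6628 Q6628 (allL N6628 (tt N5665 F51470) (tt N5719 F51471) (tt N5608 F51472) (tt N7609 (iv F55427)) (tt N6628 F51473) (tt N5607 (iv D13086)) (tt N7611 D14069) (tt N7607 (iv F55418)) (tt N5668 F51474))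
theorem Q6630 : ∀ i, i < 6630 → P i := stepQ 6629 Q6629 (allL N6629 (tt N5666 F51475) (tt N5629 F51476) (tt N7611 (iv F55436)) (tt N5615 F51477) (tt N6629 F51478) (tt N5677 F51479) (tt N5608 (iv D13087)) (tt N7608 (iv F55423)) (tt N5669 F51480))
theorem Q6631 : ∀ i, i < 6631 → P i := stepQ 6630 Q6630 (allL N6630 (tt N5667 F51481) (tt N6630 F51482) (tt N5672 F51483) (tt N5609 (iv D13088)) (tt N6630 F51484) (tt N7612 D14070) (tt N5611 F51485) (tt N7613 D14071) (tt N5664 F51486))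
theorem Q6632 : ∀ i, i < 6632 → P i := stepQ 6631 Q6631 (allL N6631 (tt N5668 F51487) (tt N6631 F51488) (tt N5610 F51489) (tt N7612 (iv F55443)) (tt N6631 F51490) (tt N5609 (iv D13089)) (tt N7614 D14072) (tt N7276 (iv F54187)) (tt N5665 F51491))
theorem Q6633 : ∀ i, i < 6633 → P i := stepQ 6632 Q6632 (allL N6632 (tt N5669 F51492) (tt N5630 F51493) (tt N7614 (iv F55452)) (tt N5677 F51494) (tt N6632 F51495) (tt N5615 F51496) (tt N5610 (iv D13090)) (tt N7278 (iv F54198)) (tt N5666 F51497))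
theorem Q6634 : ∀ i, i < 6634 → P i := stepQ 6633 Q6633 (allL N6633 (tt N5670 F51498) (tt N6633 F51499) (tt N7609 (iv F55426)) (tt N5612 F51500) (tt N7615 D14073) (tt N5611 (iv D13091)) (tt N7616 D14074) (tt N7617 D14075) (tt N7618 D14076))
theorem Q6635 : ∀ i, i < 6635 → P i := stepQ 6634 Q6634 (allL N6634 (tt N5671 F51501) (tt N6634 F51502) (tt N7610 (iv F55431)) (tt N7281 (iv F54209)) (tt N6634 F51503) (tt N7617 (iv F55470)) (tt N7613 (iv F55449)) (tt N5611 (iv D13092)) (tt N7619 D14077))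
theorem Q6636 : ∀ i, i < 6636 → P i := stepQ 6635 Q6635 (allL N6635 (tt N5672 F51504) (tt N6635 F51505) (tt N5667 F51506) (tt N5613 F51507) (tt N6635 F51508) (tt N7618 (iv F55476)) (tt N5664 F51509) (tt N7620 D14078) (tt N5611 (iv D13093)))
theorem Q6637 : ∀ i, i < 6637 → P i := stepQ 6636 Q6636 (allL N6636 (tt N5673 F51510) (tt N6636 F51511) (tt N5615 F51512) (tt N7616 (iv F55464)) (tt N5621 F51513) (tt N7614 (iv F55454)) (tt N5612 (iv D13094)) (tt N7283 (iv F54217)) (tt N7621 D14079))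
theorem Q6638 : ∀ i, i < 6638 → P i := stepQ 6637 Q6637 (allL N6637 (tt N5674 F51514) (tt N6637 F51515) (tt N5616 F51516) (tt N7618 (iv F55475)) (tt N5622 F51517) (tt N5613 F51518) (tt N7621 (iv F55490)) (tt N7622 D14080) (tt N5612 (iv D13095)))
theorem Q6639 : ∀ i, i < 6639 → P i := stepQ 6638 Q6638 (allL N6638 (tt N5675 F51519) (tt N6638 F51520) (tt N5617 F51521) (tt N7623 D14081) (tt N5614 F51522) (tt N7622 (iv F55495)) (tt N5660 F51523) (tt N5613 (iv D13096)) (tt N7285 (iv F54228)))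
theorem Q6640 : ∀ i, i < 6640 → P i := stepQ 6639 Q6639 (allL N6639 (tt N5676 F51524) (tt N6639 F51525) (tt N5655 F51526) (tt N5614 (iv D13097)) (tt N7624 D14082) (tt N5624 F51527) (tt N5657 F51528) (tt N6639 F51529) (tt N7286 (iv F54234)))
theorem Q6641 : ∀ i, i < 6641 → P i := stepQ 6640 Q6640 (allL N6640 (tt N5677 F51530) (tt N5631 F51531) (tt N7621 (iv F55487)) (tt N5669 F51532) (tt N5625 F51533) (tt N5666 F51534) (tt N5616 F51535) (tt N7625 D14083) (tt N5615 (iv D13098)))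
theorem Q6642 : ∀ i, i < 6642 → P i := stepQ 6641 Q6641 (allL N6641 (tt N5678 F51536) (tt N5632 F51537) (tt N7622 (iv F55493)) (tt N7410 (iv F54674)) (tt N5626 F51538) (tt N5617 F51539) (tt N7625 (iv F55509)) (tt N5616 (iv D13099)) (tt N7288 (iv F54243)))
theorem Q6643 : ∀ i, i < 6643 → P i := stepQ 6642 Q6642 (allL N6642 (tt N5680 F51540) (tt N6642 F51541) (tt N6642 F51542) (tt N7615 (iv F55458)) (tt N5618 (iv D13100)) (tt N6642 F51543) (tt N6644 (iv F51555)) (tt N6643 F51549) (tt N7626 D14084))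
theorem Q6644 : ∀ i, i < 6644 → P i := stepQ 6643 Q6643 (allL N6643 (tt N5681 F51544) (tt N6643 F51545) (tt N6643 F51546) (tt N5621 F51547) (tt N6644 (iv F51553)) (tt N6643 F51548) (tt N5618 (iv D13101)) (tt N6642 (iv F51549)) (tt N7627 D14085))
theorem Q6645 : ∀ i, i < 6645 → P i := stepQ 6644 Q6644 (allL N6644 (tt N5682 F51550) (tt N6644 F51551) (tt N6644 F51552) (tt N7292 (iv F54257)) (tt N6643 F51553) (tt N5619 F51554) (tt N6642 F51555) (tt N5618 (iv D13102)) (tt N6658 F51620))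
theorem Q6646 : ∀ i, i < 6646 → P i := stepQ 6645 Q6645 (allL N6645 (tt N5683 F51556) (tt N6645 F51557) (tt N6645 F51558) (tt N5622 F51559) (tt N7626 (iv F55513)) (tt N5620 F51560) (tt N7627 (iv F55523)) (tt N6659 (iv F51625)) (tt N5618 (iv D13103)))
theorem Q6647 : ∀ i, i < 6647 → P i := stepQ 6646 Q6646 (allL N6646 (tt N5686 F51561) (tt N6646 F51562) (tt N5625 F51563) (tt N7627 (iv F55520)) (tt N7621 (iv F55488)) (tt N6646 F51564) (tt N5622 F51565) (tt N7628 D14086) (tt N5621 (iv D13104)))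
theorem Q6648 : ∀ i, i < 6648 → P i := stepQ 6647 Q6647 (allL N6647 (tt N5687 F51566) (tt N6647 F51567) (tt N5626 F51568) (tt N6661 (iv F51637)) (tt N7622 (iv F55494)) (tt N5623 F51569) (tt N7628 (iv F55529)) (tt N5622 (iv D13105)) (tt N7295 (iv F54272)))
theorem Q6649 : ∀ i, i < 6649 → P i := stepQ 6648 Q6648 (allL N6648 (tt N5690 F51570) (tt N5633 F51571) (tt N7628 (iv F55527)) (tt N6912 (iv F52600)) (tt N7625 (iv F55507)) (tt N6648 F51572) (tt N5626 F51573) (tt N5625 (iv D13106)) (tt N7296 (iv F54277)))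
theorem Q6650 : ∀ i, i < 6650 → P i := stepQ 6649 Q6649 (allL N6649 (tt N5691 F51574) (tt N5634 F51575) (tt N6663 (iv F51643)) (tt N5626 (iv D13107)) (tt N6990 (iv F52957)) (tt N5627 F51576) (tt N6912 (iv F52603)) (tt N6649 F51577) (tt N7297 (iv F54281)))
theorem Q6651 : ∀ i, i < 6651 → P i := stepQ 6650 Q6650 (allL N6650 (tt N5636 F51578) (tt N7608 (iv F55420)) (tt N5745 F51579) (tt N6974 (iv F52874)) (tt N6650 F51580) (tt N5695 F51581) (tt N5628 (iv D13108)) (tt N5629 F51582) (tt N7497 (iv F54958)))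
theorem Q6652 : ∀ i, i < 6652 → P i := stepQ 6651 Q6651 (allL N6651 (tt N5637 F51583) (tt N7625 (iv F55506)) (tt N6651 F51584) (tt N7013 (iv F53070)) (tt N5633 F51585) (tt N5693 F51586) (tt N5632 F51587) (tt N5631 (iv D13109)) (tt N7329 (iv F54401)))
theorem Q6653 : ∀ i, i < 6653 → P i := stepQ 6652 Q6652 (allL N6652 (tt N6058 F51588) (tt N5703 F51589) (tt N5941 F51590) (tt N7359 (iv F54509)) (tt N5638 (iv D13110)) (tt N6737 (iv F51928)) (tt N5943 F51591) (tt N6652 F51592) (tt N7629 D14087))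
theorem Q6654 : ∀ i, i < 6654 → P i := stepQ 6653 Q6653 (allL N6653 (tt N6059 F51593) (tt N5704 F51594) (tt N5942 F51595) (tt N5639 F51596) (tt N7629 (iv F55533)) (tt N6653 F51597) (tt N5944 F51598) (tt N7630 D14088) (tt N5638 (iv D13111)))
theorem Q6655 : ∀ i, i < 6655 → P i := stepQ 6654 Q6654 (allL N6654 (tt N6036 F51599) (tt N6654 F51600) (tt N5931 F51601) (tt N5641 F51602) (tt N6660 (iv F51632)) (tt N5640 (iv D13112)) (tt N6254 F51603) (tt N7631 D14089) (tt N6179 F51604))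
theorem Q6656 : ∀ i, i < 6656 → P i := stepQ 6655 Q6655 (allL N6655 (tt N6037 F51605) (tt N6655 F51606) (tt N5932 F51607) (tt N7375 (iv F54554)) (tt N6655 F51608) (tt N7631 (iv F55546)) (tt N5930 F51609) (tt N5640 (iv D13113)) (tt N7632 D14090))
theorem Q6657 : ∀ i, i < 6657 → P i := stepQ 6656 Q6656 (allL N6656 (tt N7600 (iv F55379)) (tt N6656 F51610) (tt N6656 F51611) (tt N6660 (iv F51631)) (tt N5642 (iv D13114)) (tt N6656 F51612) (tt N6659 (iv F51627)) (tt N7627 (iv F55524)) (tt N6657 F51628))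
theorem Q6658 : ∀ i, i < 6658 → P i := stepQ 6657 Q6657 (allL N6657 (tt N7192 (iv F53824)) (tt N6657 F51613) (tt N6657 F51614) (tt N5645 F51615) (tt N6659 F51626) (tt N6657 F51616) (tt N5642 (iv D13115)) (tt N7626 F55516) (tt N6656 (iv F51628)))
theorem Q6659 : ∀ i, i < 6659 → P i := stepQ 6658 Q6658 (allL N6658 (tt N6697 (iv F51746)) (tt N6658 F51617) (tt N6658 F51618) (tt N7381 (iv F54580)) (tt N7627 (iv F55521)) (tt N5643 F51619) (tt N7626 (iv F55515)) (tt N5642 (iv D13116)) (tt N6644 (iv F51620)))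
theorem Q6660 : ∀ i, i < 6660 → P i := stepQ 6659 Q6659 (allL N6659 (tt N6698 (iv F51753)) (tt N6659 F51621) (tt N6659 F51622) (tt N5646 F51623) (tt N6657 (iv F51626)) (tt N5644 F51624) (tt N6656 F51627) (tt N6645 F51625) (tt N5642 (iv D13117)))
theorem Q6661 : ∀ i, i < 6661 → P i := stepQ 6660 Q6660 (allL N6660 (tt N7033 (iv F53165)) (tt N6660 F51629) (tt N5649 F51630) (tt N6656 F51631) (tt N6654 F51632) (tt N6660 F51633) (tt N5646 F51634) (tt N7633 D14091) (tt N5645 (iv D13118)))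
theorem Q6662 : ∀ i, i < 6662 → P i := stepQ 6661 Q6661 (allL N6661 (tt N6700 (iv F51763)) (tt N6661 F51635) (tt N5650 F51636) (tt N6647 F51637) (tt N7240 (iv F54064)) (tt N5647 F51638) (tt N7633 (iv F55559)) (tt N5646 (iv D13119)) (tt N7384 (iv F54596)))
theorem Q6663 : ∀ i, i < 6663 → P i := stepQ 6662 Q6662 (allL N6662 (tt N7040 (iv F53189)) (tt N5652 F51639) (tt N7633 (iv F55555)) (tt N7198 (iv F53865)) (tt N6922 (iv F52659)) (tt N6662 F51640) (tt N5650 F51641) (tt N5649 (iv D13120)) (tt N7385 (iv F54600)))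
theorem Q6664 : ∀ i, i < 6664 → P i := stepQ 6663 Q6663 (allL N6663 (tt N6701 (iv F51769)) (tt N5653 F51642) (tt N6649 F51643) (tt N5650 (iv D13121)) (tt N6986 (iv F52930)) (tt N5651 F51644) (tt N7198 (iv F53868)) (tt N6663 F51645) (tt N7386 (iv F54605)))
theorem Q6665 : ∀ i, i < 6665 → P i := stepQ 6664 Q6664 (allL N6664 (tt N7601 (iv F55387)) (tt N5709 F51646) (tt N7624 (iv F55501)) (tt N7400 (iv F54646)) (tt N5655 (iv D13122)) (tt N6691 (iv F51730)) (tt N5658 F51647) (tt N6664 F51648) (tt N7634 D14092))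
theorem Q6666 : ∀ i, i < 6666 → P i := stepQ 6665 Q6665 (allL N6665 (tt N7378 (iv F54564)) (tt N5710 F51649) (tt N7286 (iv F54231)) (tt N5656 F51650) (tt N7634 (iv F55561)) (tt N6473 F51651) (tt N5659 F51652) (tt N7635 D14093) (tt N5655 (iv D13123)))
theorem Q6667 : ∀ i, i < 6667 → P i := stepQ 6666 Q6666 (allL N6666 (tt N7602 (iv F55392)) (tt N6666 F51653) (tt N5658 F51654) (tt N7636 D14094) (tt N5657 (iv D13124)) (tt N7637 D14095) (tt N7624 (iv F55503)) (tt N6666 F51655) (tt N7638 D14096))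
theorem Q6668 : ∀ i, i < 6668 → P i := stepQ 6667 Q6667 (allL N6667 (tt N7451 (iv F54786)) (tt N6667 F51656) (tt N5659 F51657) (tt N5661 F51658) (tt N7638 (iv F55579)) (tt N6667 F51659) (tt N7286 (iv F54233)) (tt N7639 D14097) (tt N5657 (iv D13125)))
theorem Q6669 : ∀ i, i < 6669 → P i := stepQ 6668 Q6668 (allL N6668 (tt N7603 (iv F55397)) (tt N5711 F51660) (tt N7637 (iv F55573)) (tt N7405 (iv F54659)) (tt N6668 F51661) (tt N5658 (iv D13126)) (tt N7640 D14098) (tt N6668 F51662) (tt N7641 D14099))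
theorem Q6670 : ∀ i, i < 6670 → P i := stepQ 6669 Q6669 (allL N6669 (tt N7604 (iv F55401)) (tt N5712 F51663) (tt N7638 (iv F55578)) (tt N7406 (iv F54661)) (tt N5659 F51664) (tt N7641 (iv F55594)) (tt N7634 (iv F55563)) (tt N7642 D14100) (tt N5658 (iv D13127)))
theorem Q6671 : ∀ i, i < 6671 → P i := stepQ 6670 Q6670 (allL N6670 (tt N7605 (iv F55404)) (tt N5713 F51665) (tt N7639 (iv F55582)) (tt N7630 (iv F55539)) (tt N7642 (iv F55596)) (tt N6670 F51666) (tt N7635 (iv F55568)) (tt N5659 (iv D13128)) (tt N6670 F51667))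
theorem Q6672 : ∀ i, i < 6672 → P i := stepQ 6671 Q6671 (allL N6671 (tt N7606 (iv F55411)) (tt N6671 F51668) (tt N7415 (iv F54689)) (tt N5660 (iv D13129)) (tt N7636 (iv F55571)) (tt N7643 D14101) (tt N7623 (iv F55498)) (tt N7644 D14102) (tt N7645 D14103))
theorem Q6673 : ∀ i, i < 6673 → P i := stepQ 6672 Q6672 (allL N6672 (tt N7607 (iv F55414)) (tt N6672 F51669) (tt N5662 F51670) (tt N7643 (iv F55599)) (tt N6672 F51671) (tt N5660 (iv D13130)) (tt N7646 D14104) (tt N5665 F51672) (tt N7647 D14105))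
theorem Q6674 : ∀ i, i < 6674 → P i := stepQ 6673 Q6673 (allL N6673 (tt N7450 (iv F54780)) (tt N6673 F51673) (tt N5663 F51674) (tt N7645 (iv F55603)) (tt N5661 F51675) (tt N7647 (iv F55611)) (tt N7285 (iv F54227)) (tt N7277 (iv F54193)) (tt N5660 (iv D13131)))
theorem Q6675 : ∀ i, i < 6675 → P i := stepQ 6674 Q6674 (allL N6674 (tt N7608 (iv F55419)) (tt N5693 F51676) (tt N7646 (iv F55605)) (tt N7419 (iv F54697)) (tt N6674 F51677) (tt N7625 (iv F55508)) (tt N5662 (iv D13132)) (tt N5666 F51678) (tt N7648 D14106))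
theorem Q6676 : ∀ i, i < 6676 → P i := stepQ 6675 Q6675 (allL N6675 (tt N7453 (iv F54796)) (tt N5694 F51679) (tt N7647 (iv F55609)) (tt N7420 (iv F54700)) (tt N6675 F51680) (tt N5663 F51681) (tt N7648 (iv F55614)) (tt N7279 (iv F54203)) (tt N5662 (iv D13133)))
theorem Q6677 : ∀ i, i < 6677 → P i := stepQ 6676 Q6676 (allL N6676 (tt N7609 (iv F55424)) (tt N6676 F51682) (tt N5670 F51683) (tt N5665 F51684) (tt N7649 D14107) (tt N5664 (iv D13134)) (tt N7650 D14108) (tt N7651 D14109) (tt N7612 (iv F55444)))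
theorem Q6678 : ∀ i, i < 6678 → P i := stepQ 6677 Q6677 (allL N6677 (tt N7610 (iv F55429)) (tt N6677 F51685) (tt N5671 F51686) (tt N7644 (iv F55601)) (tt N6677 F51687) (tt N7651 (iv F55629)) (tt N7620 (iv F55484)) (tt N5664 (iv D13135)) (tt N7652 D14110))
theorem Q6679 : ∀ i, i < 6679 → P i := stepQ 6678 Q6678 (allL N6678 (tt N7611 (iv F55434)) (tt N6678 F51688) (tt N5666 F51689) (tt N7650 (iv F55623)) (tt N6678 F51690) (tt N7621 (iv F55489)) (tt N5665 (iv D13136)) (tt N7646 (iv F55607)) (tt N7614 (iv F55455)))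
theorem Q6680 : ∀ i, i < 6680 → P i := stepQ 6679 Q6679 (allL N6679 (tt N7612 (iv F55440)) (tt N5715 F51691) (tt N7618 (iv F55474)) (tt N5668 F51692) (tt N7653 D14111) (tt N5667 (iv D13137)) (tt N7654 D14112) (tt N7655 D14113) (tt N7609 (iv F55428)))
theorem Q6681 : ∀ i, i < 6681 → P i := stepQ 6680 Q6680 (allL N6680 (tt N7613 (iv F55445)) (tt N5716 F51693) (tt N7620 (iv F55482)) (tt N7446 (iv F54766)) (tt N6680 F51694) (tt N7655 (iv F55646)) (tt N5671 F51695) (tt N5667 (iv D13138)) (tt N7656 D14114))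
theorem Q6682 : ∀ i, i < 6682 → P i := stepQ 6681 Q6681 (allL N6681 (tt N7614 (iv F55450)) (tt N5718 F51696) (tt N5669 F51697) (tt N7654 (iv F55640)) (tt N6681 F51698) (tt N5673 F51699) (tt N5668 (iv D13139)) (tt N7448 (iv F54775)) (tt N7611 (iv F55439)))
theorem Q6683 : ∀ i, i < 6683 → P i := stepQ 6682 Q6682 (allL N6682 (tt N7615 (iv F55456)) (tt N5725 F51700) (tt N7649 (iv F55616)) (tt N5680 F51701) (tt N5670 (iv D13140)) (tt N6682 F51702) (tt N6466 (iv F51703)) (tt N6465 (iv F51704)) (tt N7657 D14115))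
theorem Q6684 : ∀ i, i < 6684 → P i := stepQ 6683 Q6683 (allL N6683 (tt N7616 (iv F55462)) (tt N5726 F51705) (tt N7650 (iv F55622)) (tt N5673 F51706) (tt N6466 F51707) (tt N7654 (iv F55642)) (tt N5670 (iv D13141)) (tt N6464 (iv F51708)) (tt N7658 D14116))
theorem Q6685 : ∀ i, i < 6685 → P i := stepQ 6684 Q6684 (allL N6684 (tt N7617 (iv F55467)) (tt N5727 F51709) (tt N7651 (iv F55627)) (tt N7456 (iv F54807)) (tt N6465 F51710) (tt N5671 F51711) (tt N6464 F51712) (tt N5670 (iv D13142)) (tt N7659 D14117))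
theorem Q6686 : ∀ i, i < 6686 → P i := stepQ 6685 Q6685 (allL N6685 (tt N7618 (iv F55472)) (tt N5728 F51713) (tt N7612 (iv F55442)) (tt N5674 F51714) (tt N7657 (iv F55653)) (tt N5672 F51715) (tt N7658 (iv F55659)) (tt N7660 D14118) (tt N5670 (iv D13143)))
theorem Q6687 : ∀ i, i < 6687 → P i := stepQ 6686 Q6686 (allL N6686 (tt N7619 (iv F55477)) (tt N5729 F51716) (tt N7652 (iv F55632)) (tt N7458 (iv F54815)) (tt N6686 F51717) (tt N7659 (iv F55662)) (tt N7656 (iv F55650)) (tt N7661 D14119) (tt N5671 (iv D13144)))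
theorem Q6688 : ∀ i, i < 6688 → P i := stepQ 6687 Q6687 (allL N6687 (tt N7620 (iv F55480)) (tt N5730 F51718) (tt N7613 (iv F55447)) (tt N7662 D14120) (tt N6687 F51719) (tt N7660 (iv F55665)) (tt N7610 (iv F55433)) (tt N5672 (iv D13145)) (tt N7661 (iv F55668)))
theorem Q6689 : ∀ i, i < 6689 → P i := stepQ 6688 Q6688 (allL N6688 (tt N7621 (iv F55485)) (tt N5731 F51720) (tt N5677 F51721) (tt N7658 (iv F55657)) (tt N5686 F51722) (tt N7611 (iv F55438)) (tt N5674 F51723) (tt N7663 D14121) (tt N5673 (iv D13146)))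
theorem Q6690 : ∀ i, i < 6690 → P i := stepQ 6689 Q6689 (allL N6689 (tt N7622 (iv F55491)) (tt N5732 F51724) (tt N5678 F51725) (tt N7664 D14122) (tt N5687 F51726) (tt N5675 F51727) (tt N7663 (iv F55674)) (tt N5674 (iv D13147)) (tt N7461 (iv F54825)))
theorem Q6691 : ∀ i, i < 6691 → P i := stepQ 6690 Q6690 (allL N6690 (tt N7623 (iv F55496)) (tt N5733 F51728) (tt N7665 D14123) (tt N5675 (iv D13148)) (tt N7666 D14124) (tt N7664 (iv F55677)) (tt N7606 (iv F55413)) (tt N7662 (iv F55670)) (tt N7462 (iv F54827)))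
theorem Q6692 : ∀ i, i < 6692 → P i := stepQ 6691 Q6691 (allL N6691 (tt N7624 (iv F55499)) (tt N5734 F51729) (tt N7601 (iv F55389)) (tt N7666 (iv F55680)) (tt N5676 (iv D13149)) (tt N6664 F51730) (tt N7602 (iv F55395)) (tt N6691 F51731) (tt N7463 (iv F54829)))
theorem Q6693 : ∀ i, i < 6693 → P i := stepQ 6692 Q6692 (allL N6692 (tt N7625 (iv F55505)) (tt N5695 F51732) (tt N7663 (iv F55672)) (tt N6972 (iv F52867)) (tt N5690 F51733) (tt N7608 (iv F55422)) (tt N5678 F51734) (tt N5677 (iv D13150)) (tt N7464 (iv F54833)))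
theorem Q6694 : ∀ i, i < 6694 → P i := stepQ 6693 Q6693 (allL N6693 (tt N7410 (iv F54672)) (tt N5696 F51735) (tt N7667 D14125) (tt N5678 (iv D13151)) (tt N6967 (iv F52847)) (tt N5679 F51736) (tt N6972 (iv F52868)) (tt N7262 (iv F54144)) (tt N7465 (iv F54836)))
theorem Q6695 : ∀ i, i < 6695 → P i := stepQ 6694 Q6694 (allL N6694 (tt N7408 (iv F54664)) (tt N7668 D14126) (tt N5679 (iv D13152)) (tt N7665 (iv F55678)) (tt N7248 (iv F54093)) (tt N7667 (iv F55682)) (tt N7251 (iv F54105)) (tt N7260 (iv F54137)) (tt N7466 (iv F54837)))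
theorem Q6696 : ∀ i, i < 6696 → P i := stepQ 6695 Q6695 (allL N6695 (tt N7626 (iv F55510)) (tt N5738 F51737) (tt N6695 F51738) (tt N7657 (iv F55652)) (tt N5683 F51739) (tt N6695 F51740) (tt N6697 (iv F51751)) (tt N7192 F53830) (tt N5680 (iv D13153)))
theorem Q6697 : ∀ i, i < 6697 → P i := stepQ 6696 Q6696 (allL N6696 (tt N7627 (iv F55517)) (tt N5739 F51741) (tt N6696 F51742) (tt N5686 F51743) (tt N6697 (iv F51749)) (tt N6696 F51744) (tt N5683 F51745) (tt N7600 (iv F55385)) (tt N5681 (iv D13154)))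
theorem Q6698 : ∀ i, i < 6698 → P i := stepQ 6697 Q6697 (allL N6697 (tt N6658 F51746) (tt N5740 F51747) (tt N6697 F51748) (tt N7469 (iv F54846)) (tt N6696 F51749) (tt N5684 F51750) (tt N6695 F51751) (tt N6620 (iv F51752)) (tt N5682 (iv D13155)))
theorem Q6699 : ∀ i, i < 6699 → P i := stepQ 6698 Q6698 (allL N6698 (tt N6659 F51753) (tt N5741 F51754) (tt N6698 F51755) (tt N6414 (iv F51758)) (tt N7192 (iv F53827)) (tt N5685 F51756) (tt N7600 (iv F55384)) (tt N5683 (iv D13156)) (tt N6620 F51757))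
theorem Q6700 : ∀ i, i < 6700 → P i := stepQ 6699 Q6699 (allL N6699 (tt N7628 (iv F55525)) (tt N5743 F51759) (tt N5690 F51760) (tt N7669 D14127) (tt N7663 (iv F55673)) (tt N6699 F51761) (tt N5687 F51762) (tt N5686 (iv D13157)) (tt N7471 (iv F54858)))
theorem Q6701 : ∀ i, i < 6701 → P i := stepQ 6700 Q6700 (allL N6700 (tt N6661 F51763) (tt N5744 F51764) (tt N6421 F51767) (tt N5687 (iv D13158)) (tt N6415 (iv F51768)) (tt N5688 F51765) (tt N7669 (iv F55688)) (tt N6414 F51766) (tt N7472 (iv F54863)))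
theorem Q6702 : ∀ i, i < 6702 → P i := stepQ 6701 Q6701 (allL N6701 (tt N6663 F51769) (tt N6195 F51770) (tt N5691 (iv D13159)) (tt N6421 F51771) (tt N6236 F51772) (tt N5692 F51773) (tt N6197 F51774) (tt N6701 F51775) (tt N7473 (iv F54872)))
theorem Q6703 : ∀ i, i < 6703 → P i := stepQ 6702 Q6702 (allL N6702 (tt N5699 F51776) (tt N7648 (iv F55612)) (tt N6702 F51777) (tt N7481 (iv F54902)) (tt N6702 F51778) (tt N7329 (iv F54399)) (tt N5694 F51779) (tt N7328 (iv F54395)) (tt N5693 (iv D13160)))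
theorem Q6704 : ∀ i, i < 6704 → P i := stepQ 6703 Q6703 (allL N6703 (tt N7058 (iv F53252)) (tt N5697 (iv D13161)) (tt N7668 (iv F55683)) (tt N5748 F51780) (tt N7299 (iv F54287)) (tt N6931 F52698) (tt N7303 (iv F54305)) (tt N7311 (iv F54335)) (tt N7498 (iv F54960)))
theorem Q6705 : ∀ i, i < 6705 → P i := stepQ 6704 Q6704 (allL N6704 (tt N6704 F51781) (tt N5943 F51782) (tt N5893 F51783) (tt N7513 (iv F55004)) (tt N5700 (iv D13162)) (tt N7670 D14128) (tt N5703 F51784) (tt N6704 F51785) (tt N7671 D14129))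
theorem Q6706 : ∀ i, i < 6706 → P i := stepQ 6705 Q6705 (allL N6705 (tt N6705 F51786) (tt N5944 F51787) (tt N5894 F51788) (tt N5701 F51789) (tt N7671 (iv F55699)) (tt N5896 F51790) (tt N5704 F51791) (tt N7672 D14130) (tt N5700 (iv D13163)))
theorem Q6707 : ∀ i, i < 6707 → P i := stepQ 6706 Q6706 (allL N6706 (tt N6706 F51792) (tt N5900 F51793) (tt N5704 F51794) (tt N5705 F51795) (tt N6585 F51796) (tt N6706 F51797) (tt N5894 F51798) (tt N7673 D14131) (tt N5702 (iv D13164)))
theorem Q6708 : ∀ i, i < 6708 → P i := stepQ 6707 Q6707 (allL N6707 (tt N6707 F51799) (tt N7629 (iv F55531)) (tt N6585 F51800) (tt N7516 (iv F55015)) (tt N5704 F51801) (tt N6586 F51802) (tt N7671 (iv F55700)) (tt N7674 D14132) (tt N5703 (iv D13165)))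
theorem Q6709 : ∀ i, i < 6709 → P i := stepQ 6708 Q6708 (allL N6708 (tt N6708 F51803) (tt N7630 (iv F55537)) (tt N7673 (iv F55710)) (tt N5713 F51804) (tt N7674 (iv F55718)) (tt N6708 F51805) (tt N7672 (iv F55706)) (tt N5704 (iv D13166)) (tt N6708 F51806))
theorem Q6710 : ∀ i, i < 6710 → P i := stepQ 6709 Q6709 (allL N6709 (tt N6709 F51807) (tt N7634 (iv F55560)) (tt N6709 F51808) (tt N7518 (iv F55023)) (tt N5710 F51809) (tt N6583 F51810) (tt N5712 F51811) (tt N7675 D14133) (tt N5709 (iv D13167)))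
theorem Q6711 : ∀ i, i < 6711 → P i := stepQ 6710 Q6710 (allL N6710 (tt N6710 F51812) (tt N7635 (iv F55565)) (tt N6710 F51813) (tt N7672 (iv F55704)) (tt N7675 (iv F55723)) (tt N5872 F51814) (tt N5713 F51815) (tt N5710 (iv D13168)) (tt N6710 F51816))
theorem Q6712 : ∀ i, i < 6712 → P i := stepQ 6711 Q6711 (allL N6711 (tt N6711 F51817) (tt N7640 (iv F55587)) (tt N6711 F51818) (tt N7526 (iv F55055)) (tt N6711 F51819) (tt N6723 F51873) (tt N5711 (iv D13169)) (tt N6711 F51820) (tt N7676 D14134))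
theorem Q6713 : ∀ i, i < 6713 → P i := stepQ 6712 Q6712 (allL N6712 (tt N6712 F51821) (tt N7641 (iv F55592)) (tt N6712 F51822) (tt N7527 (iv F55057)) (tt N6712 F51823) (tt N5712 F51824) (tt N7676 (iv F55731)) (tt N7677 D14135) (tt N5711 (iv D13170)))
theorem Q6714 : ∀ i, i < 6714 → P i := stepQ 6713 Q6713 (allL N6713 (tt N6713 F51825) (tt N7642 (iv F55595)) (tt N6713 F51826) (tt N7678 D14136) (tt N5713 F51827) (tt N7677 (iv F55735)) (tt N7675 (iv F55725)) (tt N5712 (iv D13171)) (tt N6713 F51828))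
theorem Q6715 : ∀ i, i < 6715 → P i := stepQ 6714 Q6714 (allL N6714 (tt N6714 F51829) (tt N7653 (iv F55634)) (tt N6714 F51830) (tt N6714 F51831) (tt N5715 (iv D13172)) (tt N6714 F51832) (tt N5865 F51839) (tt N5864 (iv F51840)) (tt N7679 D14137))
theorem Q6716 : ∀ i, i < 6716 → P i := stepQ 6715 Q6715 (allL N6715 (tt N6715 F51833) (tt N7654 (iv F55639)) (tt N6715 F51834) (tt N5718 F51835) (tt N5865 (iv F51837)) (tt N5726 F51836) (tt N5715 (iv D13173)) (tt N5863 (iv F51838)) (tt N7680 D14138))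
theorem Q6717 : ∀ i, i < 6717 → P i := stepQ 6716 Q6716 (allL N6716 (tt N6716 F51841) (tt N7655 (iv F55644)) (tt N6716 F51842) (tt N7556 (iv F55187)) (tt N5864 F51843) (tt N5716 F51844) (tt N5863 F51845) (tt N5715 (iv D13174)) (tt N7681 D14139))
theorem Q6718 : ∀ i, i < 6718 → P i := stepQ 6717 Q6717 (allL N6717 (tt N6717 F51846) (tt N7609 (iv F55425)) (tt N6717 F51847) (tt N5719 F51848) (tt N7679 (iv F55742)) (tt N5717 F51849) (tt N7680 (iv F55750)) (tt N7682 D14140) (tt N5715 (iv D13175)))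
theorem Q6719 : ∀ i, i < 6719 → P i := stepQ 6718 Q6718 (allL N6718 (tt N6718 F51850) (tt N7656 (iv F55648)) (tt N6718 F51851) (tt N7558 (iv F55197)) (tt N6718 F51852) (tt N7681 (iv F55754)) (tt N5729 F51853) (tt N7683 D14141) (tt N5716 (iv D13176)))
theorem Q6720 : ∀ i, i < 6720 → P i := stepQ 6719 Q6719 (allL N6719 (tt N6719 F51854) (tt N7610 (iv F55430)) (tt N6719 F51855) (tt N7684 D14142) (tt N6719 F51856) (tt N7682 (iv F55758)) (tt N5730 F51857) (tt N5717 (iv D13177)) (tt N7683 (iv F55763)))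
theorem Q6721 : ∀ i, i < 6721 → P i := stepQ 6720 Q6720 (allL N6720 (tt N6720 F51858) (tt N7611 (iv F55435)) (tt N5722 F51859) (tt N7680 (iv F55747)) (tt N6720 F51860) (tt N5731 F51861) (tt N5719 F51862) (tt N7685 D14143) (tt N5718 (iv D13178)))
theorem Q6722 : ∀ i, i < 6722 → P i := stepQ 6721 Q6721 (allL N6721 (tt N6721 F51863) (tt N7607 (iv F55415)) (tt N5723 F51864) (tt N7686 D14144) (tt N6721 F51865) (tt N5720 F51866) (tt N7685 (iv F55771)) (tt N5719 (iv D13179)) (tt N7561 (iv F55213)))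
theorem Q6723 : ∀ i, i < 6723 → P i := stepQ 6722 Q6722 (allL N6722 (tt N6722 F51867) (tt N7606 (iv F55412)) (tt N7687 D14145) (tt N5720 (iv D13180)) (tt N7688 D14146) (tt N7686 (iv F55773)) (tt N5733 F51868) (tt N7684 (iv F55766)) (tt N7562 (iv F55216)))
theorem Q6724 : ∀ i, i < 6724 → P i := stepQ 6723 Q6723 (allL N6723 (tt N6723 F51869) (tt N7602 (iv F55393)) (tt N6723 F51870) (tt N7688 (iv F55778)) (tt N5721 (iv D13181)) (tt N6711 (iv F51873)) (tt N5734 F51871) (tt N6723 F51872) (tt N7563 (iv F55221)))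
theorem Q6725 : ∀ i, i < 6725 → P i := stepQ 6724 Q6724 (allL N6724 (tt N6724 F51874) (tt N5745 F51875) (tt N7685 (iv F55768)) (tt N6900 (iv F52529)) (tt N6724 F51876) (tt N5735 F51877) (tt N5723 F51878) (tt N5722 (iv D13182)) (tt N7564 (iv F55227)))
theorem Q6726 : ∀ i, i < 6726 → P i := stepQ 6725 Q6725 (allL N6725 (tt N6725 F51879) (tt N5746 F51880) (tt N7689 D14147) (tt N5723 (iv D13183)) (tt N6904 (iv F52550)) (tt N5724 F51881) (tt N6900 (iv F52531)) (tt N6725 F51882) (tt N7565 (iv F55232)))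
theorem Q6727 : ∀ i, i < 6727 → P i := stepQ 6726 Q6726 (allL N6726 (tt N6726 F51883) (tt N7690 D14148) (tt N5724 (iv D13184)) (tt N7687 (iv F55775)) (tt N6726 F51884) (tt N7689 (iv F55782)) (tt N5737 F51885) (tt N6726 F51886) (tt N7566 (iv F55237)))
theorem Q6728 : ∀ i, i < 6728 → P i := stepQ 6727 Q6727 (allL N6727 (tt N6727 F51887) (tt N7657 (iv F55651)) (tt N6727 F51888) (tt N5738 F51889) (tt N5728 F51890) (tt N6727 F51891) (tt N6589 F51892) (tt N7190 (iv F53819)) (tt N5725 (iv D13185)))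
theorem Q6729 : ∀ i, i < 6729 → P i := stepQ 6728 Q6728 (allL N6728 (tt N6728 F51893) (tt N7658 (iv F55656)) (tt N6728 F51894) (tt N5731 F51895) (tt N6589 F51896) (tt N7680 (iv F55749)) (tt N5728 F51897) (tt N7691 D14149) (tt N5726 (iv D13186)))
theorem Q6730 : ∀ i, i < 6730 → P i := stepQ 6729 Q6729 (allL N6729 (tt N6729 F51898) (tt N7659 (iv F55660)) (tt N6729 F51899) (tt N7569 (iv F55245)) (tt N6588 F51900) (tt N5729 F51901) (tt N6587 F51902) (tt N7692 D14150) (tt N5727 (iv D13187)))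
theorem Q6731 : ∀ i, i < 6731 → P i := stepQ 6730 Q6730 (allL N6730 (tt N6730 F51903) (tt N7660 (iv F55664)) (tt N6730 F51904) (tt N7177 F53752) (tt N7190 (iv F53817)) (tt N5730 F51905) (tt N7691 (iv F55792)) (tt N5728 (iv D13188)) (tt N7692 (iv F55799)))
theorem Q6732 : ∀ i, i < 6732 → P i := stepQ 6731 Q6731 (allL N6731 (tt N6731 F51906) (tt N7661 (iv F55666)) (tt N6731 F51907) (tt N7693 D14151) (tt N6731 F51908) (tt N7692 (iv F55797)) (tt N7683 (iv F55762)) (tt N5729 (iv D13189)) (tt N5730 F51909))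
theorem Q6733 : ∀ i, i < 6733 → P i := stepQ 6732 Q6732 (allL N6732 (tt N6732 F51910) (tt N7662 (iv F55669)) (tt N7179 (iv F53759)) (tt N5730 (iv D13190)) (tt N7523 (iv F55043)) (tt N7177 F53753) (tt N7684 (iv F55765)) (tt N5733 F51911) (tt N7693 (iv F55801)))
theorem Q6734 : ∀ i, i < 6734 → P i := stepQ 6733 Q6733 (allL N6733 (tt N6733 F51912) (tt N7663 (iv F55671)) (tt N5735 F51913) (tt N7694 D14152) (tt N5743 F51914) (tt N7685 (iv F55770)) (tt N5732 F51915) (tt N5731 (iv D13191)) (tt N7573 (iv F55259)))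
theorem Q6735 : ∀ i, i < 6735 → P i := stepQ 6734 Q6734 (allL N6734 (tt N6734 F51916) (tt N7664 (iv F55675)) (tt N6533 F51917) (tt N5732 (iv D13192)) (tt N6532 F51918) (tt N5733 F51919) (tt N7694 (iv F55805)) (tt N7177 (iv F53751)) (tt N7574 (iv F55264)))
theorem Q6736 : ∀ i, i < 6736 → P i := stepQ 6735 Q6735 (allL N6735 (tt N6735 F51920) (tt N7695 D14153) (tt N5733 (iv D13193)) (tt N5737 F51921) (tt N6858 (iv F52341)) (tt N6533 F51922) (tt N7687 (iv F55776)) (tt N7179 (iv F53762)) (tt N7575 (iv F55268)))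
theorem Q6737 : ∀ i, i < 6737 → P i := stepQ 6736 Q6736 (allL N6736 (tt N6736 F51923) (tt N7666 (iv F55679)) (tt N6858 (iv F52339)) (tt N5734 F51924) (tt N5733 (iv D13194)) (tt N6537 F51925) (tt N7688 (iv F55779)) (tt N7523 (iv F55044)) (tt N7576 (iv F55272)))
theorem Q6738 : ∀ i, i < 6738 → P i := stepQ 6737 Q6737 (allL N6737 (tt N7072 (iv F53289)) (tt N5737 (iv D13195)) (tt N5748 F51926) (tt N7695 (iv F55806)) (tt N6737 F51927) (tt N6652 F51928) (tt N7690 (iv F55787)) (tt N6737 F51929) (tt N7577 (iv F55275)))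
theorem Q6739 : ∀ i, i < 6739 → P i := stepQ 6738 Q6738 (allL N6738 (tt N6738 F51930) (tt N7600 (iv F55380)) (tt N5749 F51931) (tt N6161 (iv F51935)) (tt N6739 (iv F51939)) (tt N6738 F51932) (tt N5741 F51933) (tt N5739 (iv D13196)) (tt N6181 F51934))
theorem Q6740 : ∀ i, i < 6740 → P i := stepQ 6739 Q6739 (allL N6739 (tt N6739 F51936) (tt N6620 F51937) (tt N5750 F51938) (tt N6178 (iv F51943)) (tt N6738 F51939) (tt N5742 F51940) (tt N6181 F51941) (tt N5740 (iv D13197)) (tt N5741 F51942))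
theorem Q6741 : ∀ i, i < 6741 → P i := stepQ 6740 Q6740 (allL N6740 (tt N6740 F51944) (tt N7669 (iv F55685)) (tt N6168 F51945) (tt N5743 (iv D13198)) (tt N6162 (iv F51949)) (tt N6740 F51946) (tt N5744 F51947) (tt N6161 F51948) (tt N7582 (iv F55305)))
theorem Q6742 : ∀ i, i < 6742 → P i := stepQ 6741 Q6741 (allL N6741 (tt N7075 (iv F53303)) (tt N5747 (iv D13199)) (tt N7690 (iv F55785)) (tt N7303 F54307) (tt N6741 F51950) (tt N6945 (iv F52748)) (tt N5748 F51951) (tt N6741 F51952) (tt N7593 (iv F55352)))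
theorem Q6743 : ∀ i, i < 6743 → P i := stepQ 6742 Q6742 (allL N6742 (tt N5800 F51953) (tt N6742 F51954) (tt N7696 D14154) (tt N5751 (iv D13200)) (tt N7697 D14155) (tt N7203 (iv F53899)) (tt N7520 (iv F55031)) (tt N6256 F51955) (tt N7698 D14156))
theorem Q6744 : ∀ i, i < 6744 → P i := stepQ 6743 Q6743 (allL N6743 (tt N5801 F51956) (tt N6743 F51957) (tt N5753 F51958) (tt N7698 (iv F55817)) (tt N6743 F51959) (tt N7204 (iv F53906)) (tt N7529 (iv F55065)) (tt N6921 (iv F52656)) (tt N5751 (iv D13201)))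
theorem Q6745 : ∀ i, i < 6745 → P i := stepQ 6744 Q6744 (allL N6744 (tt N5802 F51960) (tt N7699 D14157) (tt N5752 (iv D13202)) (tt N7696 (iv F55809)) (tt N7700 D14158) (tt N7205 (iv F53911)) (tt N7412 (iv F54680)) (tt N5754 F51961) (tt N7701 D14159))
theorem Q6746 : ∀ i, i < 6746 → P i := stepQ 6745 Q6745 (allL N6745 (tt N5803 F51962) (tt N5770 F51963) (tt N7700 (iv F55821)) (tt N6745 F51964) (tt N5752 (iv D13203)) (tt N7114 (iv F53475)) (tt N7474 (iv F54876)) (tt N5755 F51965) (tt N7702 D14160))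
theorem Q6747 : ∀ i, i < 6747 → P i := stepQ 6746 Q6746 (allL N6746 (tt N5804 F51966) (tt N5771 F51967) (tt N7701 (iv F55824)) (tt N5753 F51968) (tt N7702 (iv F55828)) (tt N7206 (iv F53918)) (tt N7475 (iv F54881)) (tt N7703 D14161) (tt N5752 (iv D13204)))
theorem Q6748 : ∀ i, i < 6748 → P i := stepQ 6747 Q6747 (allL N6747 (tt N7259 (iv F54131)) (tt N5754 (iv D13205)) (tt N5772 F51969) (tt N6269 F51970) (tt N7704 D14162) (tt N7209 (iv F53932)) (tt N7265 (iv F54156)) (tt N7699 (iv F55819)) (tt N7705 D14163))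
theorem Q6749 : ∀ i, i < 6749 → P i := stepQ 6748 Q6748 (allL N6748 (tt N5805 F51971) (tt N7704 (iv F55832)) (tt N5755 F51972) (tt N7706 D14164) (tt N5754 (iv D13206)) (tt N7707 D14165) (tt N7429 (iv F54728)) (tt N7700 (iv F55822)) (tt N7708 D14166))
theorem Q6750 : ∀ i, i < 6750 → P i := stepQ 6749 Q6749 (allL N6749 (tt N5806 F51973) (tt N7705 (iv F55834)) (tt N5756 F51974) (tt N6271 F51975) (tt N7708 (iv F55844)) (tt N7211 (iv F53940)) (tt N7430 (iv F54732)) (tt N7709 D14167) (tt N5754 (iv D13207)))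
theorem Q6751 : ∀ i, i < 6751 → P i := stepQ 6750 Q6750 (allL N6750 (tt N5807 F51976) (tt N5775 F51977) (tt N7707 (iv F55841)) (tt N5759 F51978) (tt N7098 (iv F53393)) (tt N5755 (iv D13208)) (tt N7103 (iv F53422)) (tt N7114 (iv F53477)) (tt N7710 D14168))
theorem Q6752 : ∀ i, i < 6752 → P i := stepQ 6751 Q6751 (allL N6751 (tt N5808 F51979) (tt N5776 F51980) (tt N7708 (iv F55843)) (tt N5760 F51981) (tt N5756 F51982) (tt N7710 (iv F55850)) (tt N7486 (iv F54922)) (tt N7711 D14169) (tt N5755 (iv D13209)))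
theorem Q6753 : ∀ i, i < 6753 → P i := stepQ 6752 Q6752 (allL N6752 (tt N5809 F51983) (tt N5777 F51984) (tt N7709 (iv F55846)) (tt N6938 (iv F52720)) (tt N7711 (iv F55853)) (tt N7213 (iv F53949)) (tt N7487 (iv F54925)) (tt N5756 (iv D13210)) (tt N7703 (iv F55831)))
theorem Q6754 : ∀ i, i < 6754 → P i := stepQ 6753 Q6753 (allL N6753 (tt N5810 F51985) (tt N6753 F51986) (tt N7706 (iv F55838)) (tt N5757 (iv D13211)) (tt N6279 F51987) (tt N7712 D14170) (tt N7530 (iv F55069)) (tt N7713 D14171) (tt N7714 D14172))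
theorem Q6755 : ∀ i, i < 6755 → P i := stepQ 6754 Q6754 (allL N6754 (tt N5811 F51988) (tt N6754 F51989) (tt N5759 F51990) (tt N7712 (iv F55856)) (tt N5763 F51991) (tt N5757 (iv D13212)) (tt N7715 D14173) (tt N6754 F51992) (tt N7716 D14174))
theorem Q6756 : ∀ i, i < 6756 → P i := stepQ 6755 Q6755 (allL N6755 (tt N5812 F51993) (tt N6755 F51994) (tt N5760 F51995) (tt N7714 (iv F55863)) (tt N5758 F51996) (tt N7716 (iv F55874)) (tt N7532 (iv F55079)) (tt N7717 D14175) (tt N5757 (iv D13213)))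
theorem Q6757 : ∀ i, i < 6757 → P i := stepQ 6756 Q6756 (allL N6756 (tt N5813 F51997) (tt N6756 F51998) (tt N5761 F51999) (tt N7718 D14176) (tt N7717 (iv F55878)) (tt N5765 F52000) (tt N7533 (iv F55084)) (tt N5758 (iv D13214)) (tt N6756 F52001))
theorem Q6758 : ∀ i, i < 6758 → P i := stepQ 6757 Q6757 (allL N6757 (tt N5814 F52002) (tt N5778 F52003) (tt N7715 (iv F55867)) (tt N7103 (iv F53421)) (tt N5766 F52004) (tt N7583 (iv F55310)) (tt N5759 (iv D13215)) (tt N6757 F52005) (tt N7719 D14177))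
theorem Q6759 : ∀ i, i < 6759 → P i := stepQ 6758 Q6758 (allL N6758 (tt N5815 F52006) (tt N5779 F52007) (tt N7716 (iv F55872)) (tt N7710 (iv F55849)) (tt N5767 F52008) (tt N5760 F52009) (tt N7719 (iv F55890)) (tt N7720 D14178) (tt N5759 (iv D13216)))
theorem Q6760 : ∀ i, i < 6760 → P i := stepQ 6759 Q6759 (allL N6759 (tt N5816 F52010) (tt N5780 F52011) (tt N7717 (iv F55877)) (tt N7721 D14179) (tt N5761 F52012) (tt N7720 (iv F55894)) (tt N7585 (iv F55319)) (tt N5760 (iv D13217)) (tt N6759 F52013))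
theorem Q6761 : ∀ i, i < 6761 → P i := stepQ 6760 Q6760 (allL N6760 (tt N5817 F52014) (tt N6760 F52015) (tt N7216 (iv F53962)) (tt N5763 F52016) (tt N7722 D14180) (tt N5762 (iv D13218)) (tt N7723 D14181) (tt N7724 D14182) (tt N7725 D14183))
theorem Q6762 : ∀ i, i < 6762 → P i := stepQ 6761 Q6761 (allL N6761 (tt N5818 F52017) (tt N6761 F52018) (tt N6468 F52019) (tt N6761 F52020) (tt N6287 F52021) (tt N7724 (iv F55910)) (tt N6761 F52022) (tt N5762 (iv D13219)) (tt N6071 (iv F52023)))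
theorem Q6763 : ∀ i, i < 6763 → P i := stepQ 6762 Q6762 (allL N6762 (tt N5819 F52024) (tt N6762 F52025) (tt N6469 F52026) (tt N5764 F52027) (tt N6288 F52028) (tt N7725 (iv F55916)) (tt N6762 F52029) (tt N6072 F52030) (tt N5762 (iv D13220)))
theorem Q6764 : ∀ i, i < 6764 → P i := stepQ 6763 Q6763 (allL N6763 (tt N5820 F52031) (tt N6763 F52032) (tt N5766 F52033) (tt N7723 (iv F55904)) (tt N7715 (iv F55868)) (tt N6763 F52034) (tt N5763 (iv D13221)) (tt N6763 F52035) (tt N7726 D14184))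
theorem Q6765 : ∀ i, i < 6765 → P i := stepQ 6764 Q6764 (allL N6764 (tt N5821 F52036) (tt N6764 F52037) (tt N5767 F52038) (tt N7725 (iv F55915)) (tt N7716 (iv F55873)) (tt N5764 F52039) (tt N7726 (iv F55922)) (tt N7727 D14185) (tt N5763 (iv D13222)))
theorem Q6766 : ∀ i, i < 6766 → P i := stepQ 6765 Q6765 (allL N6765 (tt N5822 F52040) (tt N6765 F52041) (tt N5768 F52042) (tt N6075 F52043) (tt N5765 F52044) (tt N7727 (iv F55927)) (tt N6765 F52045) (tt N5764 (iv D13223)) (tt N6765 F52046))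
theorem Q6767 : ∀ i, i < 6767 → P i := stepQ 6766 Q6766 (allL N6766 (tt N5823 F52047) (tt N6766 F52048) (tt N6832 (iv F52253)) (tt N5765 (iv D13224)) (tt N6076 F52049) (tt N7718 (iv F55883)) (tt N6766 F52050) (tt N6292 F52051) (tt N6766 F52052))
theorem Q6768 : ∀ i, i < 6768 → P i := stepQ 6767 Q6767 (allL N6767 (tt N5824 F52053) (tt N5781 F52054) (tt N7726 (iv F55920)) (tt N7195 (iv F53844)) (tt N7719 (iv F55889)) (tt N6767 F52055) (tt N5767 F52056) (tt N7728 D14186) (tt N5766 (iv D13225)))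
theorem Q6769 : ∀ i, i < 6769 → P i := stepQ 6768 Q6768 (allL N6768 (tt N5825 F52057) (tt N5782 F52058) (tt N7727 (iv F55925)) (tt N7729 D14187) (tt N7720 (iv F55893)) (tt N5768 F52059) (tt N7728 (iv F55932)) (tt N5767 (iv D13226)) (tt N6768 F52060))
theorem Q6770 : ∀ i, i < 6770 → P i := stepQ 6769 Q6769 (allL N6769 (tt N5826 F52061) (tt N5783 F52062) (tt N6079 F52063) (tt N5768 (iv D13227)) (tt N6835 (iv F52267)) (tt N7729 (iv F55937)) (tt N6769 F52064) (tt N6476 F52065) (tt N6769 F52066))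
theorem Q6771 : ∀ i, i < 6771 → P i := stepQ 6770 Q6770 (allL N6770 (tt N7299 (iv F54285)) (tt N5769 (iv D13228)) (tt N7699 (iv F55818)) (tt N6770 F52067) (tt N7058 (iv F53255)) (tt N7053 F53239) (tt N7302 (iv F54302)) (tt N5772 F52068) (tt N7730 D14188))
theorem Q6772 : ∀ i, i < 6772 → P i := stepQ 6771 Q6771 (allL N6771 (tt N5786 F52069) (tt N7730 (iv F55940)) (tt N5771 F52070) (tt N6771 F52071) (tt N7119 (iv F53502)) (tt N7111 (iv F53459)) (tt N7338 (iv F54437)) (tt N7731 D14189) (tt N5769 (iv D13229)))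
theorem Q6773 : ∀ i, i < 6773 → P i := stepQ 6772 Q6772 (allL N6772 (tt N5787 F52072) (tt N7702 (iv F55826)) (tt N7119 (iv F53500)) (tt N6772 F52073) (tt N5771 F52074) (tt N7116 (iv F53486)) (tt N7499 (iv F54964)) (tt N7732 D14190) (tt N5770 (iv D13230)))
theorem Q6774 : ∀ i, i < 6774 → P i := stepQ 6773 Q6773 (allL N6773 (tt N5788 F52075) (tt N7703 (iv F55830)) (tt N7731 (iv F55943)) (tt N6963 (iv F52827)) (tt N7732 (iv F55946)) (tt N7219 (iv F53975)) (tt N7500 (iv F54966)) (tt N5771 (iv D13231)) (tt N5777 F52076))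
theorem Q6775 : ∀ i, i < 6775 → P i := stepQ 6774 Q6774 (allL N6774 (tt N7311 (iv F54331)) (tt N5773 F52077) (tt N7704 (iv F55833)) (tt N6774 F52078) (tt N5772 (iv D13232)) (tt N7044 (iv F53208)) (tt N7317 (iv F54359)) (tt N7058 (iv F53256)) (tt N7733 D14191))
theorem Q6776 : ∀ i, i < 6776 → P i := stepQ 6775 Q6775 (allL N6775 (tt N7312 (iv F54336)) (tt N5774 F52079) (tt N7705 (iv F55835)) (tt N5784 F52080) (tt N7733 (iv F55950)) (tt N7224 (iv F53997)) (tt N7318 (iv F54363)) (tt N7734 D14192) (tt N5772 (iv D13233)))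
theorem Q6777 : ∀ i, i < 6777 → P i := stepQ 6776 Q6776 (allL N6776 (tt N5789 F52081) (tt N7733 (iv F55948)) (tt N5776 F52082) (tt N6776 F52083) (tt N5774 F52084) (tt N7100 (iv F53407)) (tt N7347 (iv F54471)) (tt N7735 D14193) (tt N5773 (iv D13234)))
theorem Q6778 : ∀ i, i < 6778 → P i := stepQ 6777 Q6777 (allL N6777 (tt N5790 F52085) (tt N7734 (iv F55951)) (tt N5777 F52086) (tt N7736 D14194) (tt N7735 (iv F55954)) (tt N7225 (iv F54000)) (tt N7348 (iv F54474)) (tt N5774 (iv D13235)) (tt N7731 (iv F55944)))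
theorem Q6779 : ∀ i, i < 6779 → P i := stepQ 6778 Q6778 (allL N6778 (tt N5791 F52087) (tt N7710 (iv F55848)) (tt N7100 (iv F53404)) (tt N5779 F52088) (tt N7099 (iv F53400)) (tt N5776 F52089) (tt N7106 (iv F53437)) (tt N7737 D14195) (tt N5775 (iv D13236)))
theorem Q6780 : ∀ i, i < 6780 → P i := stepQ 6779 Q6779 (allL N6779 (tt N5792 F52090) (tt N7711 (iv F55852)) (tt N7735 (iv F55953)) (tt N7738 D14196) (tt N5777 F52091) (tt N7737 (iv F55958)) (tt N7507 (iv F54988)) (tt N5776 (iv D13237)) (tt N7732 (iv F55947)))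
theorem Q6781 : ∀ i, i < 6781 → P i := stepQ 6780 Q6780 (allL N6780 (tt N5793 F52092) (tt N7719 (iv F55888)) (tt N6780 F52093) (tt N7106 (iv F53435)) (tt N5781 F52094) (tt N7594 (iv F55356)) (tt N5779 F52095) (tt N7739 D14197) (tt N5778 (iv D13238)))
theorem Q6782 : ∀ i, i < 6782 → P i := stepQ 6781 Q6781 (allL N6781 (tt N5794 F52096) (tt N7720 (iv F55892)) (tt N6781 F52097) (tt N7740 D14198) (tt N5782 F52098) (tt N5780 F52099) (tt N7739 (iv F55964)) (tt N5779 (iv D13239)) (tt N6781 F52100))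
theorem Q6783 : ∀ i, i < 6783 → P i := stepQ 6782 Q6782 (allL N6782 (tt N5795 F52101) (tt N7721 (iv F55897)) (tt N7741 D14199) (tt N5780 (iv D13240)) (tt N6983 (iv F52917)) (tt N7740 (iv F55967)) (tt N7596 (iv F55364)) (tt N7738 (iv F55960)) (tt N6782 F52102))
theorem Q6784 : ∀ i, i < 6784 → P i := stepQ 6783 Q6783 (allL N6783 (tt N5796 F52103) (tt N7728 (iv F55930)) (tt N6783 F52104) (tt N7200 (iv F53876)) (tt N7739 (iv F55963)) (tt N6783 F52105) (tt N5782 F52106) (tt N5781 (iv D13241)) (tt N6783 F52107))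
theorem Q6785 : ∀ i, i < 6785 → P i := stepQ 6784 Q6784 (allL N6784 (tt N5797 F52108) (tt N7729 (iv F55935)) (tt N7197 (iv F53857)) (tt N5782 (iv D13242)) (tt N7228 (iv F54011)) (tt N5783 F52109) (tt N7200 (iv F53879)) (tt N7196 F53854) (tt N6784 F52110))
theorem Q6786 : ∀ i, i < 6786 → P i := stepQ 6785 Q6785 (allL N6785 (tt N5798 F52111) (tt N6117 F52112) (tt N5783 (iv D13243)) (tt N6785 F52113) (tt N6847 (iv F52308)) (tt N7197 (iv F53860)) (tt N6785 F52114) (tt N6507 F52115) (tt N6785 F52116))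
theorem Q6787 : ∀ i, i < 6787 → P i := stepQ 6786 Q6786 (allL N6786 (tt N7331 (iv F54406)) (tt N5785 F52117) (tt N6334 F52118) (tt N7742 D14200) (tt N6786 F52119) (tt N7230 (iv F54020)) (tt N7333 (iv F54418)) (tt N5784 (iv D13244)) (tt N6786 F52120))
theorem Q6788 : ∀ i, i < 6788 → P i := stepQ 6787 Q6787 (allL N6787 (tt N5799 F52121) (tt N7742 (iv F55972)) (tt N6995 (iv F52977)) (tt N5785 (iv D13245)) (tt N7743 D14201) (tt N7231 (iv F54024)) (tt N7357 (iv F54502)) (tt N7736 (iv F55956)) (tt N6787 F52122))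
theorem Q6789 : ∀ i, i < 6789 → P i := stepQ 6788 Q6788 (allL N6788 (tt N7731 (iv F55942)) (tt N7337 (iv F54429)) (tt N5788 F52123) (tt N7744 D14202) (tt N7154 (iv F53665)) (tt N7149 (iv F53637)) (tt N7339 (iv F54440)) (tt N5786 (iv D13246)) (tt N5790 F52124))
theorem Q6790 : ∀ i, i < 6790 → P i := stepQ 6789 Q6789 (allL N6789 (tt N7732 (iv F55945)) (tt N5840 F52125) (tt N7154 (iv F53664)) (tt N7745 D14203) (tt N5788 F52126) (tt N7152 (iv F53654)) (tt N7501 (iv F54970)) (tt N5787 (iv D13247)) (tt N5792 F52127))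
theorem Q6791 : ∀ i, i < 6791 → P i := stepQ 6790 Q6790 (allL N6790 (tt N7735 (iv F55952)) (tt N7344 (iv F54455)) (tt N5792 F52128) (tt N7746 D14204) (tt N5790 F52129) (tt N7141 (iv F53599)) (tt N7349 (iv F54478)) (tt N5789 (iv D13248)) (tt N7154 (iv F53667)))
theorem Q6792 : ∀ i, i < 6792 → P i := stepQ 6791 Q6791 (allL N6791 (tt N7736 (iv F55955)) (tt N7345 (iv F54460)) (tt N7019 (iv F53097)) (tt N5790 (iv D13249)) (tt N7747 D14205) (tt N7235 (iv F54038)) (tt N7350 (iv F54480)) (tt N5799 F52130) (tt N7744 (iv F55978)))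
theorem Q6793 : ∀ i, i < 6793 → P i := stepQ 6792 Q6792 (allL N6792 (tt N7737 (iv F55957)) (tt N5842 F52131) (tt N7141 (iv F53597)) (tt N7748 D14206) (tt N7140 (iv F53593)) (tt N5792 F52132) (tt N7145 (iv F53621)) (tt N5791 (iv D13250)) (tt N7152 (iv F53656)))
theorem Q6794 : ∀ i, i < 6794 → P i := stepQ 6793 Q6793 (allL N6793 (tt N7738 (iv F55959)) (tt N5843 F52133) (tt N7749 D14207) (tt N5792 (iv D13251)) (tt N7022 (iv F53110)) (tt N7748 (iv F55985)) (tt N7509 (iv F54992)) (tt N5795 F52134) (tt N7745 (iv F55981)))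
theorem Q6795 : ∀ i, i < 6795 → P i := stepQ 6794 Q6794 (allL N6794 (tt N7739 (iv F55961)) (tt N5844 F52135) (tt N6794 F52136) (tt N7239 (iv F54058)) (tt N5796 F52137) (tt N7597 (iv F55369)) (tt N5794 F52138) (tt N5793 (iv D13252)) (tt N6794 F52139))
theorem Q6796 : ∀ i, i < 6796 → P i := stepQ 6795 Q6795 (allL N6795 (tt N7740 (iv F55966)) (tt N5845 F52140) (tt N7356 (iv F54496)) (tt N5794 (iv D13253)) (tt N7236 (iv F54042)) (tt N5795 F52141) (tt N7239 (iv F54059)) (tt N7748 (iv F55986)) (tt N6795 F52142))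
theorem Q6797 : ∀ i, i < 6797 → P i := stepQ 6796 Q6796 (allL N6796 (tt N7741 (iv F55969)) (tt N7750 D14208) (tt N5795 (iv D13254)) (tt N6796 F52143) (tt N7025 (iv F53124)) (tt N7356 (iv F54498)) (tt N7599 (iv F55377)) (tt N7749 (iv F55987)) (tt N6796 F52144))
theorem Q6798 : ∀ i, i < 6798 → P i := stepQ 6797 Q6797 (allL N6797 (tt N7743 (iv F55974)) (tt N7356 (iv F54495)) (tt N7031 (iv F53154)) (tt N6797 F52145) (tt N5799 (iv D13255)) (tt N7750 (iv F55990)) (tt N7169 (iv F53720)) (tt N7747 (iv F55983)) (tt N6797 F52146))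
theorem Q6799 : ∀ i, i < 6799 → P i := stepQ 6798 Q6798 (allL N6798 (tt N7696 (iv F55808)) (tt N7399 (iv F54642)) (tt N5800 (iv D13256)) (tt N5802 F52147) (tt N7751 D14209) (tt N7358 (iv F54505)) (tt N7402 (iv F54653)) (tt N6418 F52148) (tt N7752 D14210))
theorem Q6800 : ∀ i, i < 6800 → P i := stepQ 6799 Q6799 (allL N6799 (tt N7697 (iv F55811)) (tt N5851 F52149) (tt N7751 (iv F55992)) (tt N6799 F52150) (tt N5800 (iv D13257)) (tt N7753 D14211) (tt N7521 (iv F55035)) (tt N6419 F52151) (tt N7754 D14212))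
theorem Q6801 : ∀ i, i < 6801 → P i := stepQ 6800 Q6800 (allL N6800 (tt N7698 (iv F55815)) (tt N5852 F52152) (tt N7752 (iv F55994)) (tt N5801 F52153) (tt N7754 (iv F56002)) (tt N7360 (iv F54514)) (tt N7522 (iv F55039)) (tt N7755 D14213) (tt N5800 (iv D13258)))
theorem Q6802 : ∀ i, i < 6802 → P i := stepQ 6801 Q6801 (allL N6801 (tt N7700 (iv F55820)) (tt N7408 (iv F54665)) (tt N5803 F52154) (tt N7756 D14214) (tt N5802 (iv D13259)) (tt N7757 D14215) (tt N7413 (iv F54684)) (tt N5805 F52155) (tt N7758 D14216))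
theorem Q6803 : ∀ i, i < 6803 → P i := stepQ 6802 Q6802 (allL N6802 (tt N7701 (iv F55823)) (tt N7409 (iv F54669)) (tt N5804 F52156) (tt N7752 (iv F55995)) (tt N7758 (iv F56009)) (tt N7362 (iv F54519)) (tt N7414 (iv F54688)) (tt N7759 D14217) (tt N5802 (iv D13260)))
theorem Q6804 : ∀ i, i < 6804 → P i := stepQ 6803 Q6803 (allL N6803 (tt N7114 (iv F53472)) (tt N5827 F52157) (tt N7757 (iv F56006)) (tt N6803 F52158) (tt N7113 F53471) (tt N5803 (iv D13261)) (tt N7121 (iv F53510)) (tt N5807 F52159) (tt N7760 D14218))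
theorem Q6805 : ∀ i, i < 6805 → P i := stepQ 6804 Q6804 (allL N6804 (tt N7702 (iv F55825)) (tt N5828 F52160) (tt N7758 (iv F56008)) (tt N6804 F52161) (tt N5804 F52162) (tt N7760 (iv F56014)) (tt N7477 (iv F54888)) (tt N7761 D14219) (tt N5803 (iv D13262)))
theorem Q6806 : ∀ i, i < 6806 → P i := stepQ 6805 Q6805 (allL N6805 (tt N7703 (iv F55829)) (tt N5829 F52163) (tt N7759 (iv F56010)) (tt N7051 (iv F53229)) (tt N7761 (iv F56016)) (tt N7363 (iv F54522)) (tt N7478 (iv F54890)) (tt N5804 (iv D13263)) (tt N5809 F52164))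
theorem Q6807 : ∀ i, i < 6807 → P i := stepQ 6806 Q6806 (allL N6806 (tt N7706 (iv F55837)) (tt N7422 (iv F54705)) (tt N5810 F52165) (tt N5805 (iv D13264)) (tt N6440 F52166) (tt N7762 D14220) (tt N7431 (iv F54736)) (tt N7763 D14221) (tt N7764 D14222))
theorem Q6808 : ∀ i, i < 6808 → P i := stepQ 6807 Q6807 (allL N6807 (tt N7707 (iv F55840)) (tt N7423 (iv F54708)) (tt N5807 F52167) (tt N7762 (iv F56019)) (tt N7369 (iv F54539)) (tt N5805 (iv D13265)) (tt N7765 D14223) (tt N7757 (iv F56007)) (tt N7766 D14224))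
theorem Q6809 : ∀ i, i < 6809 → P i := stepQ 6808 Q6808 (allL N6808 (tt N7708 (iv F55842)) (tt N7424 (iv F54710)) (tt N5808 F52168) (tt N7764 (iv F56023)) (tt N5806 F52169) (tt N7766 (iv F56027)) (tt N7433 (iv F54742)) (tt N7767 D14225) (tt N5805 (iv D13266)))
theorem Q6810 : ∀ i, i < 6810 → P i := stepQ 6809 Q6809 (allL N6809 (tt N7709 (iv F55845)) (tt N7425 (iv F54714)) (tt N5809 F52170) (tt N7768 D14226) (tt N7767 (iv F56029)) (tt N7371 (iv F54543)) (tt N7434 (iv F54745)) (tt N5806 (iv D13267)) (tt N7759 (iv F56011)))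
theorem Q6811 : ∀ i, i < 6811 → P i := stepQ 6810 Q6810 (allL N6810 (tt N7103 (iv F53419)) (tt N5830 F52171) (tt N7765 (iv F56025)) (tt N5814 F52172) (tt N7102 F53418) (tt N7488 (iv F54928)) (tt N5807 (iv D13268)) (tt N7121 (iv F53511)) (tt N7769 D14227))
theorem Q6812 : ∀ i, i < 6812 → P i := stepQ 6811 Q6811 (allL N6811 (tt N7710 (iv F55847)) (tt N5831 F52173) (tt N7766 (iv F56026)) (tt N5815 F52174) (tt N7372 (iv F54546)) (tt N5808 F52175) (tt N7769 (iv F56033)) (tt N7770 D14228) (tt N5807 (iv D13269)))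
theorem Q6813 : ∀ i, i < 6813 → P i := stepQ 6812 Q6812 (allL N6812 (tt N7711 (iv F55851)) (tt N5832 F52176) (tt N7767 (iv F56028)) (tt N7771 D14229) (tt N5809 F52177) (tt N7770 (iv F56035)) (tt N7490 (iv F54934)) (tt N5808 (iv D13270)) (tt N7761 (iv F56017)))
theorem Q6814 : ∀ i, i < 6814 → P i := stepQ 6813 Q6813 (allL N6813 (tt N7712 (iv F55854)) (tt N5853 F52178) (tt N7762 (iv F56018)) (tt N5811 F52179) (tt N7772 D14230) (tt N5810 (iv D13271)) (tt N7773 D14231) (tt N7774 D14232) (tt N7775 D14233))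
theorem Q6815 : ∀ i, i < 6815 → P i := stepQ 6814 Q6814 (allL N6814 (tt N7713 (iv F55857)) (tt N5854 F52180) (tt N7763 (iv F56020)) (tt N6814 F52181) (tt N6455 F52182) (tt N7774 (iv F56045)) (tt N7535 (iv F55091)) (tt N5810 (iv D13272)) (tt N7776 D14234))
theorem Q6816 : ∀ i, i < 6816 → P i := stepQ 6815 Q6815 (allL N6815 (tt N7714 (iv F55861)) (tt N5855 F52183) (tt N7764 (iv F56022)) (tt N5812 F52184) (tt N6456 F52185) (tt N7775 (iv F56048)) (tt N7536 (iv F55095)) (tt N7777 D14235) (tt N5810 (iv D13273)))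
theorem Q6817 : ∀ i, i < 6817 → P i := stepQ 6816 Q6816 (allL N6816 (tt N7715 (iv F55865)) (tt N5856 F52186) (tt N5814 F52187) (tt N7773 (iv F56042)) (tt N5820 F52188) (tt N7537 (iv F55099)) (tt N5811 (iv D13274)) (tt N6816 F52189) (tt N7778 D14236))
theorem Q6818 : ∀ i, i < 6818 → P i := stepQ 6817 Q6817 (allL N6817 (tt N7716 (iv F55870)) (tt N5857 F52190) (tt N5815 F52191) (tt N7775 (iv F56047)) (tt N5821 F52192) (tt N5812 F52193) (tt N7778 (iv F56057)) (tt N7779 D14237) (tt N5811 (iv D13275)))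
theorem Q6819 : ∀ i, i < 6819 → P i := stepQ 6818 Q6818 (allL N6818 (tt N7717 (iv F55875)) (tt N5858 F52194) (tt N5816 F52195) (tt N7780 D14238) (tt N5813 F52196) (tt N7779 (iv F56061)) (tt N7539 (iv F55108)) (tt N5812 (iv D13276)) (tt N6818 F52197))
theorem Q6820 : ∀ i, i < 6820 → P i := stepQ 6819 Q6819 (allL N6819 (tt N7718 (iv F55880)) (tt N5859 F52198) (tt N7084 (iv F53335)) (tt N5813 (iv D13277)) (tt N7781 D14239) (tt N5823 F52199) (tt N7540 (iv F55112)) (tt N6460 F52200) (tt N6819 F52201))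
theorem Q6821 : ∀ i, i < 6821 → P i := stepQ 6820 Q6820 (allL N6820 (tt N7719 (iv F55887)) (tt N5833 F52202) (tt N7778 (iv F56055)) (tt N7769 (iv F56032)) (tt N5824 F52203) (tt N7586 (iv F55323)) (tt N5815 F52204) (tt N7782 D14240) (tt N5814 (iv D13278)))
theorem Q6822 : ∀ i, i < 6822 → P i := stepQ 6821 Q6821 (allL N6821 (tt N7720 (iv F55891)) (tt N5834 F52205) (tt N7779 (iv F56059)) (tt N7783 D14241) (tt N5825 F52206) (tt N5816 F52207) (tt N7782 (iv F56070)) (tt N5815 (iv D13279)) (tt N6821 F52208))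
theorem Q6823 : ∀ i, i < 6823 → P i := stepQ 6822 Q6822 (allL N6822 (tt N7721 (iv F55896)) (tt N5835 F52209) (tt N7784 D14242) (tt N5816 (iv D13280)) (tt N7087 (iv F53346)) (tt N7783 (iv F56073)) (tt N7588 (iv F55330)) (tt N7771 (iv F56037)) (tt N6822 F52210))
theorem Q6824 : ∀ i, i < 6824 → P i := stepQ 6823 Q6823 (allL N6823 (tt N7722 (iv F55899)) (tt N5863 F52211) (tt N7379 (iv F54572)) (tt N7772 (iv F56039)) (tt N5817 (iv D13281)) (tt N6464 F52212) (tt N7655 (iv F55647)) (tt N7654 F55643) (tt N7785 D14243))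
theorem Q6825 : ∀ i, i < 6825 → P i := stepQ 6824 Q6824 (allL N6824 (tt N7723 (iv F55902)) (tt N5864 F52213) (tt N7380 (iv F54575)) (tt N5820 F52214) (tt N7655 (iv F55645)) (tt N6824 F52215) (tt N5817 (iv D13282)) (tt N7653 F55638) (tt N7786 D14244))
theorem Q6826 : ∀ i, i < 6826 → P i := stepQ 6825 Q6825 (allL N6825 (tt N7724 (iv F55906)) (tt N5865 F52216) (tt N7381 (iv F54579)) (tt N6825 F52217) (tt N7654 (iv F55641)) (tt N5818 F52218) (tt N7653 F55637) (tt N5817 (iv D13283)) (tt N7787 D14245))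
theorem Q6827 : ∀ i, i < 6827 → P i := stepQ 6826 Q6826 (allL N6826 (tt N7725 (iv F55912)) (tt N5866 F52219) (tt N7382 (iv F54584)) (tt N5821 F52220) (tt N7785 (iv F56077)) (tt N5819 F52221) (tt N7786 (iv F56082)) (tt N7788 D14246) (tt N5817 (iv D13284)))
theorem Q6828 : ∀ i, i < 6828 → P i := stepQ 6827 Q6827 (allL N6827 (tt N6071 F52222) (tt N5867 F52223) (tt N6287 F52224) (tt N6827 F52225) (tt N6468 F52226) (tt N7787 (iv F56087)) (tt N6827 F52227) (tt N5948 (iv F52228)) (tt N5818 (iv D13285)))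
theorem Q6829 : ∀ i, i < 6829 → P i := stepQ 6828 Q6828 (allL N6828 (tt N6072 F52229) (tt N5868 F52230) (tt N6288 F52231) (tt N5950 (iv F52235)) (tt N6469 F52232) (tt N7788 (iv F56092)) (tt N6828 F52233) (tt N5819 (iv D13286)) (tt N5948 F52234))
theorem Q6830 : ∀ i, i < 6830 → P i := stepQ 6829 Q6829 (allL N6829 (tt N7726 (iv F55918)) (tt N5869 F52236) (tt N5824 F52237) (tt N7786 (iv F56080)) (tt N7778 (iv F56056)) (tt N6829 F52238) (tt N5821 F52239) (tt N7789 D14247) (tt N5820 (iv D13287)))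
theorem Q6831 : ∀ i, i < 6831 → P i := stepQ 6830 Q6830 (allL N6830 (tt N7727 (iv F55923)) (tt N5870 F52240) (tt N5825 F52241) (tt N7790 D14248) (tt N7779 (iv F56060)) (tt N5822 F52242) (tt N7789 (iv F56098)) (tt N5821 (iv D13288)) (tt N6830 F52243))
theorem Q6832 : ∀ i, i < 6832 → P i := stepQ 6831 Q6831 (allL N6831 (tt N6075 F52244) (tt N5871 F52245) (tt N5954 (iv F52249)) (tt N5822 (iv D13289)) (tt N5951 (iv F52250)) (tt N7790 (iv F56102)) (tt N6831 F52246) (tt N5950 F52247) (tt N6831 F52248))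
theorem Q6833 : ∀ i, i < 6833 → P i := stepQ 6832 Q6832 (allL N6832 (tt N6076 F52251) (tt N5872 F52252) (tt N6766 F52253) (tt N5951 F52254) (tt N5823 (iv D13290)) (tt N7635 (iv F55567)) (tt N6832 F52255) (tt N6473 F52256) (tt N6832 F52257))
theorem Q6834 : ∀ i, i < 6834 → P i := stepQ 6833 Q6833 (allL N6833 (tt N7728 (iv F55929)) (tt N5836 F52258) (tt N7789 (iv F56096)) (tt N7791 D14249) (tt N7782 (iv F56069)) (tt N6833 F52259) (tt N5825 F52260) (tt N5824 (iv D13291)) (tt N6833 F52261))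
theorem Q6835 : ∀ i, i < 6835 → P i := stepQ 6834 Q6834 (allL N6834 (tt N7729 (iv F55934)) (tt N5837 F52262) (tt N7792 D14250) (tt N5825 (iv D13292)) (tt N7793 D14251) (tt N5826 F52263) (tt N7791 (iv F56108)) (tt N7386 (iv F54604)) (tt N6834 F52264))
theorem Q6836 : ∀ i, i < 6836 → P i := stepQ 6835 Q6835 (allL N6835 (tt N6079 F52265) (tt N5979 (iv F52271)) (tt N5826 (iv D13293)) (tt N5954 F52266) (tt N6769 F52267) (tt N7792 (iv F56112)) (tt N6835 F52268) (tt N6295 F52269) (tt N6835 F52270))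
theorem Q6837 : ∀ i, i < 6837 → P i := stepQ 6836 Q6836 (allL N6836 (tt N5839 F52272) (tt N7760 (iv F56012)) (tt N7330 F54405) (tt N6836 F52273) (tt N7150 (iv F53642)) (tt N5828 F52274) (tt N7157 (iv F53680)) (tt N7794 D14252) (tt N5827 (iv D13294)))
theorem Q6838 : ∀ i, i < 6838 → P i := stepQ 6837 Q6837 (allL N6837 (tt N5840 F52275) (tt N7761 (iv F56015)) (tt N7327 F54389) (tt N7795 D14253) (tt N5829 F52276) (tt N7794 (iv F56119)) (tt N7480 (iv F54899)) (tt N5828 (iv D13295)) (tt N5832 F52277))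
theorem Q6839 : ∀ i, i < 6839 → P i := stepQ 6838 Q6838 (allL N6838 (tt N5841 F52278) (tt N7769 (iv F56031)) (tt N7483 (iv F54908)) (tt N5833 F52279) (tt N7142 (iv F53604)) (tt N7491 (iv F54938)) (tt N5831 F52280) (tt N7796 D14254) (tt N5830 (iv D13296)))
theorem Q6840 : ∀ i, i < 6840 → P i := stepQ 6839 Q6839 (allL N6839 (tt N5842 F52281) (tt N7770 (iv F56034)) (tt N7484 (iv F54913)) (tt N7797 D14255) (tt N7394 (iv F54630)) (tt N5832 F52282) (tt N7796 (iv F56125)) (tt N5831 (iv D13297)) (tt N7794 (iv F56120)))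
theorem Q6841 : ∀ i, i < 6841 → P i := stepQ 6840 Q6840 (allL N6840 (tt N5843 F52283) (tt N7771 (iv F56036)) (tt N7798 D14256) (tt N5832 (iv D13298)) (tt N7131 (iv F53546)) (tt N7797 (iv F56127)) (tt N7493 (iv F54944)) (tt N5835 F52284) (tt N7795 (iv F56123)))
theorem Q6842 : ∀ i, i < 6842 → P i := stepQ 6841 Q6841 (allL N6841 (tt N5844 F52285) (tt N7782 (iv F56068)) (tt N5876 F52286) (tt N7799 D14257) (tt N5836 F52287) (tt N7589 (iv F55335)) (tt N5834 F52288) (tt N5833 (iv D13299)) (tt N6841 F52289))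
theorem Q6843 : ∀ i, i < 6843 → P i := stepQ 6842 Q6842 (allL N6842 (tt N5845 F52290) (tt N7783 (iv F56072)) (tt N7800 D14258) (tt N5834 (iv D13300)) (tt N7801 D14259) (tt N5835 F52291) (tt N7799 (iv F56132)) (tt N7797 (iv F56128)) (tt N6842 F52292))
theorem Q6844 : ∀ i, i < 6844 → P i := stepQ 6843 Q6843 (allL N6843 (tt N5846 F52293) (tt N7802 D14260) (tt N5835 (iv D13301)) (tt N5878 F52294) (tt N7137 (iv F53575)) (tt N7800 (iv F56136)) (tt N7591 (iv F55343)) (tt N7798 (iv F56130)) (tt N6843 F52295))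
theorem Q6845 : ∀ i, i < 6845 → P i := stepQ 6844 Q6844 (allL N6844 (tt N5847 F52296) (tt N7791 (iv F56106)) (tt N7202 (iv F53890)) (tt N5836 (iv D13302)) (tt N7237 (iv F54047)) (tt N6844 F52297) (tt N5837 F52298) (tt N7201 F53887) (tt N6844 F52299))
theorem Q6846 : ∀ i, i < 6846 → P i := stepQ 6845 Q6845 (allL N6845 (tt N5848 F52300) (tt N7803 D14261) (tt N5837 (iv D13303)) (tt N5880 F52301) (tt N6989 (iv F52951)) (tt N5838 F52302) (tt N7202 (iv F53893)) (tt N6988 F52947) (tt N6845 F52303))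
theorem Q6847 : ∀ i, i < 6847 → P i := stepQ 6846 Q6846 (allL N6846 (tt N5849 F52304) (tt N7793 (iv F56116)) (tt N6989 (iv F52949)) (tt N7801 (iv F56139)) (tt N5837 (iv D13304)) (tt N6992 (iv F52967)) (tt N7237 (iv F54049)) (tt N6987 F52939) (tt N6846 F52305))
theorem Q6848 : ∀ i, i < 6848 → P i := stepQ 6847 Q6847 (allL N6847 (tt N6022 (iv F52312)) (tt N5838 (iv D13305)) (tt N5979 F52306) (tt N5882 F52307) (tt N6785 F52308) (tt N7803 (iv F56147)) (tt N6847 F52309) (tt N6330 F52310) (tt N6847 F52311))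
theorem Q6849 : ∀ i, i < 6849 → P i := stepQ 6848 Q6848 (allL N6848 (tt N7794 (iv F56118)) (tt N7152 (iv F53651)) (tt N7355 F54494) (tt N7804 D14262) (tt N7151 (iv F53647)) (tt N5840 F52313) (tt N7160 (iv F53691)) (tt N5839 (iv D13306)) (tt N5842 F52314))
theorem Q6850 : ∀ i, i < 6850 → P i := stepQ 6849 Q6849 (allL N6849 (tt N7795 (iv F56121)) (tt N7745 (iv F55979)) (tt N7352 (iv F54484)) (tt N5840 (iv D13307)) (tt N7148 (iv F53632)) (tt N7804 (iv F56151)) (tt N7503 (iv F54975)) (tt N6849 F52315) (tt N5843 F52316))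
theorem Q6851 : ∀ i, i < 6851 → P i := stepQ 6850 Q6850 (allL N6850 (tt N7796 (iv F56124)) (tt N7145 (iv F53618)) (tt N7505 (iv F54980)) (tt N7805 D14263) (tt N7143 (iv F53608)) (tt N7510 (iv F54995)) (tt N5842 F52317) (tt N5841 (iv D13308)) (tt N7160 (iv F53692)))
theorem Q6852 : ∀ i, i < 6852 → P i := stepQ 6851 Q6851 (allL N6851 (tt N7797 (iv F56126)) (tt N7748 (iv F55984)) (tt N7806 D14264) (tt N5842 (iv D13309)) (tt N7807 D14265) (tt N5843 F52318) (tt N7805 (iv F56154)) (tt N5845 F52319) (tt N7804 (iv F56153)))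
theorem Q6853 : ∀ i, i < 6853 → P i := stepQ 6852 Q6852 (allL N6852 (tt N7798 (iv F56129)) (tt N7808 D14266) (tt N5843 (iv D13310)) (tt N7340 (iv F54443)) (tt N7166 (iv F53707)) (tt N7806 (iv F56156)) (tt N7512 (iv F55000)) (tt N5846 F52320) (tt N7352 (iv F54486)))
theorem Q6854 : ∀ i, i < 6854 → P i := stepQ 6853 Q6853 (allL N6853 (tt N7799 (iv F56131)) (tt N7239 (iv F54056)) (tt N7024 (iv F53119)) (tt N5844 (iv D13311)) (tt N7238 (iv F54052)) (tt N7025 (iv F53125)) (tt N5845 F52321) (tt N7805 (iv F56155)) (tt N6853 F52322))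
theorem Q6855 : ∀ i, i < 6855 → P i := stepQ 6854 Q6854 (allL N6854 (tt N7800 (iv F56134)) (tt N7031 (iv F53153)) (tt N5845 (iv D13312)) (tt N5884 F52323) (tt N7030 (iv F53150)) (tt N5846 F52324) (tt N7024 (iv F53121)) (tt N7806 (iv F56157)) (tt N6854 F52325))
theorem Q6856 : ∀ i, i < 6856 → P i := stepQ 6855 Q6855 (allL N6855 (tt N7801 (iv F56138)) (tt N7236 (iv F54040)) (tt N7030 (iv F53149)) (tt N5849 F52326) (tt N5845 (iv D13313)) (tt N7028 (iv F53141)) (tt N7238 (iv F54054)) (tt N7807 (iv F56158)) (tt N6855 F52327))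
theorem Q6857 : ∀ i, i < 6857 → P i := stepQ 6856 Q6856 (allL N6856 (tt N7809 D14267) (tt N5846 (iv D13314)) (tt N7750 (iv F55988)) (tt N5886 F52328) (tt N7170 (iv F53724)) (tt N7031 F53158) (tt N7167 (iv F53711)) (tt N7808 (iv F56159)) (tt N6856 F52329))
theorem Q6858 : ∀ i, i < 6858 → P i := stepQ 6857 Q6857 (allL N6857 (tt N5850 (iv D13315)) (tt N6022 F52330) (tt N5923 F52331) (tt N5891 F52332) (tt N6206 F52333) (tt N5926 F52334) (tt N6857 F52335) (tt N5921 F52336) (tt N6857 F52337))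
theorem Q6859 : ∀ i, i < 6859 → P i := stepQ 6858 Q6858 (allL N6858 (tt N6858 F52338) (tt N7753 (iv F55996)) (tt N6736 F52339) (tt N6858 F52340) (tt N6735 F52341) (tt N5851 (iv D13316)) (tt N7810 D14268) (tt N6542 F52342) (tt N7811 D14269))
theorem Q6860 : ∀ i, i < 6860 → P i := stepQ 6859 Q6859 (allL N6859 (tt N6859 F52343) (tt N7754 (iv F56000)) (tt N7518 (iv F55022)) (tt N6859 F52344) (tt N5852 F52345) (tt N7811 (iv F56171)) (tt N7524 (iv F55049)) (tt N7812 D14270) (tt N5851 (iv D13317)))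
theorem Q6861 : ∀ i, i < 6861 → P i := stepQ 6860 Q6860 (allL N6860 (tt N6860 F52346) (tt N7755 (iv F56003)) (tt N7519 (iv F55027)) (tt N7181 (iv F53767)) (tt N7812 (iv F56173)) (tt N7517 (iv F55019)) (tt N7525 (iv F55052)) (tt N5852 (iv D13318)) (tt N6544 F52347))
theorem Q6862 : ∀ i, i < 6862 → P i := stepQ 6861 Q6861 (allL N6861 (tt N6861 F52348) (tt N7772 (iv F56038)) (tt N7554 (iv F55174)) (tt N5863 F52349) (tt N5853 (iv D13319)) (tt N6574 F52350) (tt N7556 (iv F55190)) (tt N7555 F55184) (tt N7813 D14271))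
theorem Q6863 : ∀ i, i < 6863 → P i := stepQ 6862 Q6862 (allL N6862 (tt N6862 F52351) (tt N7773 (iv F56041)) (tt N7555 (iv F55180)) (tt N5856 F52352) (tt N7556 (iv F55188)) (tt N7542 (iv F55121)) (tt N5853 (iv D13320)) (tt N7554 F55178) (tt N7814 D14272))
theorem Q6864 : ∀ i, i < 6864 → P i := stepQ 6863 Q6863 (allL N6863 (tt N6863 F52353) (tt N7774 (iv F56043)) (tt N7556 (iv F55186)) (tt N6863 F52354) (tt N7555 (iv F55182)) (tt N5854 F52355) (tt N7554 F55177) (tt N5853 (iv D13321)) (tt N7815 D14273))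
theorem Q6865 : ∀ i, i < 6865 → P i := stepQ 6864 Q6864 (allL N6864 (tt N6864 F52356) (tt N7775 (iv F56046)) (tt N7557 (iv F55192)) (tt N5857 F52357) (tt N7813 (iv F56177)) (tt N5855 F52358) (tt N7814 (iv F56181)) (tt N7816 D14274) (tt N5853 (iv D13322)))
theorem Q6866 : ∀ i, i < 6866 → P i := stepQ 6865 Q6865 (allL N6865 (tt N6865 F52359) (tt N7776 (iv F56049)) (tt N7558 (iv F55196)) (tt N6865 F52360) (tt N6578 F52361) (tt N7815 (iv F56184)) (tt N7545 (iv F55136)) (tt N7817 D14275) (tt N5854 (iv D13323)))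
theorem Q6867 : ∀ i, i < 6867 → P i := stepQ 6866 Q6866 (allL N6866 (tt N6866 F52362) (tt N7777 (iv F56052)) (tt N7559 (iv F55201)) (tt N7818 D14276) (tt N6579 F52363) (tt N7816 (iv F56186)) (tt N7546 (iv F55139)) (tt N5855 (iv D13324)) (tt N7817 (iv F56189)))
theorem Q6868 : ∀ i, i < 6868 → P i := stepQ 6867 Q6867 (allL N6867 (tt N6867 F52364) (tt N7778 (iv F56054)) (tt N5860 F52365) (tt N7814 (iv F56180)) (tt N5869 F52366) (tt N7547 (iv F55143)) (tt N5857 F52367) (tt N7819 D14277) (tt N5856 (iv D13325)))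
theorem Q6869 : ∀ i, i < 6869 → P i := stepQ 6868 Q6868 (allL N6868 (tt N6868 F52368) (tt N7779 (iv F56058)) (tt N5861 F52369) (tt N7820 D14278) (tt N5870 F52370) (tt N5858 F52371) (tt N7819 (iv F56195)) (tt N5857 (iv D13326)) (tt N6868 F52372))
theorem Q6870 : ∀ i, i < 6870 → P i := stepQ 6869 Q6869 (allL N6869 (tt N6869 F52373) (tt N7780 (iv F56063)) (tt N7821 D14279) (tt N5858 (iv D13327)) (tt N7822 D14280) (tt N7820 (iv F56198)) (tt N7549 (iv F55151)) (tt N7818 (iv F56191)) (tt N6869 F52374))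
theorem Q6871 : ∀ i, i < 6871 → P i := stepQ 6870 Q6870 (allL N6870 (tt N6870 F52375) (tt N7781 (iv F56065)) (tt N6870 F52376) (tt N7822 (iv F56204)) (tt N5859 (iv D13328)) (tt N7675 (iv F55724)) (tt N7550 (iv F55155)) (tt N6583 F52377) (tt N6870 F52378))
theorem Q6872 : ∀ i, i < 6872 → P i := stepQ 6871 Q6871 (allL N6871 (tt N6871 F52379) (tt N5876 F52380) (tt N7819 (iv F56193)) (tt N7823 D14281) (tt N5873 F52381) (tt N7551 (iv F55160)) (tt N5861 F52382) (tt N5860 (iv D13329)) (tt N6871 F52383))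
theorem Q6873 : ∀ i, i < 6873 → P i := stepQ 6872 Q6872 (allL N6872 (tt N6872 F52384) (tt N5877 F52385) (tt N7824 D14282) (tt N5861 (iv D13330)) (tt N7825 D14283) (tt N5862 F52386) (tt N7823 (iv F56208)) (tt N7565 (iv F55231)) (tt N6872 F52387))
theorem Q6874 : ∀ i, i < 6874 → P i := stepQ 6873 Q6873 (allL N6873 (tt N6873 F52388) (tt N7826 D14284) (tt N5862 (iv D13331)) (tt N7821 (iv F56201)) (tt N6873 F52389) (tt N7824 (iv F56211)) (tt N7553 (iv F55170)) (tt N7566 (iv F55236)) (tt N6873 F52390))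
theorem Q6875 : ∀ i, i < 6875 → P i := stepQ 6874 Q6874 (allL N6874 (tt N6874 F52391) (tt N7785 (iv F56076)) (tt N6874 F52392) (tt N7813 (iv F56176)) (tt N5866 F52393) (tt N6587 F52394) (tt N7681 (iv F55755)) (tt N7827 D14285) (tt N5863 (iv D13332)))
theorem Q6876 : ∀ i, i < 6876 → P i := stepQ 6875 Q6875 (allL N6875 (tt N6875 F52395) (tt N7786 (iv F56079)) (tt N6875 F52396) (tt N5869 F52397) (tt N7681 (iv F55753)) (tt N6875 F52398) (tt N5866 F52399) (tt N7828 D14286) (tt N5864 (iv D13333)))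
theorem Q6877 : ∀ i, i < 6877 → P i := stepQ 6876 Q6876 (allL N6876 (tt N6876 F52400) (tt N7787 (iv F56084)) (tt N6876 F52401) (tt N6876 F52402) (tt N7680 (iv F55748)) (tt N5867 F52403) (tt N7679 (iv F55744)) (tt N7829 D14287) (tt N5865 (iv D13334)))
theorem Q6878 : ∀ i, i < 6878 → P i := stepQ 6877 Q6877 (allL N6877 (tt N6877 F52404) (tt N7788 (iv F56090)) (tt N6877 F52405) (tt N7830 D14288) (tt N7827 (iv F56223)) (tt N5868 F52406) (tt N7828 (iv F56228)) (tt N5866 (iv D13335)) (tt N7829 (iv F56233)))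
theorem Q6879 : ∀ i, i < 6879 → P i := stepQ 6878 Q6878 (allL N6878 (tt N6878 F52407) (tt N5948 F52408) (tt N6878 F52409) (tt N5895 (iv F52413)) (tt N6591 F52410) (tt N7829 (iv F56232)) (tt N6878 F52411) (tt N5867 (iv D13336)) (tt N5868 F52412))
theorem Q6880 : ∀ i, i < 6880 → P i := stepQ 6879 Q6879 (allL N6879 (tt N6879 F52414) (tt N5950 F52415) (tt N5898 (iv F52420)) (tt N5868 (iv D13337)) (tt N5896 F52416) (tt N7830 (iv F56237)) (tt N6879 F52417) (tt N5871 F52418) (tt N5895 F52419))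
theorem Q6881 : ∀ i, i < 6881 → P i := stepQ 6880 Q6880 (allL N6880 (tt N6880 F52421) (tt N7789 (iv F56095)) (tt N5873 F52422) (tt N7831 D14289) (tt N7819 (iv F56194)) (tt N6880 F52423) (tt N5870 F52424) (tt N5869 (iv D13338)) (tt N6880 F52425))
theorem Q6882 : ∀ i, i < 6882 → P i := stepQ 6881 Q6881 (allL N6881 (tt N6881 F52426) (tt N7790 (iv F56101)) (tt N7832 D14290) (tt N5870 (iv D13339)) (tt N7833 D14291) (tt N5871 F52427) (tt N7831 (iv F56244)) (tt N7830 (iv F56238)) (tt N6881 F52428))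
theorem Q6883 : ∀ i, i < 6883 → P i := stepQ 6882 Q6882 (allL N6882 (tt N6882 F52429) (tt N5906 F52430) (tt N5871 (iv D13340)) (tt N5875 F52431) (tt N5899 (iv F52435)) (tt N7832 (iv F56250)) (tt N6882 F52432) (tt N5898 F52433) (tt N6882 F52434))
theorem Q6884 : ∀ i, i < 6884 → P i := stepQ 6883 Q6883 (allL N6883 (tt N6883 F52436) (tt N5951 F52437) (tt N5899 F52438) (tt N5872 F52439) (tt N5871 (iv D13341)) (tt N7672 (iv F55705)) (tt N6883 F52440) (tt N5896 F52441) (tt N6883 F52442))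
theorem Q6885 : ∀ i, i < 6885 → P i := stepQ 6884 Q6884 (allL N6884 (tt N6884 F52443) (tt N5879 F52444) (tt N6886 (iv F52490)) (tt N5873 (iv D13342)) (tt N6885 (iv F52488)) (tt N6884 F52445) (tt N5874 F52446) (tt N6884 F52447) (tt N6884 F52448))
theorem Q6886 : ∀ i, i < 6886 → P i := stepQ 6885 Q6885 (allL N6885 (tt N6885 F52449) (tt N6893 (iv F52487)) (tt N5874 (iv D13343)) (tt N7832 (iv F56249)) (tt N6884 F52488) (tt N5875 F52450) (tt N6886 F52489) (tt N6885 F52451) (tt N6885 F52452))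
theorem Q6887 : ∀ i, i < 6887 → P i := stepQ 6886 Q6886 (allL N6886 (tt N6886 F52453) (tt N5881 F52454) (tt N6884 F52490) (tt N7825 (iv F56215)) (tt N5874 (iv D13344)) (tt N6886 F52455) (tt N6885 (iv F52489)) (tt N6886 F52456) (tt N6886 F52457))
theorem Q6888 : ∀ i, i < 6888 → P i := stepQ 6887 Q6887 (allL N6887 (tt N5916 (iv F52464)) (tt N5875 (iv D13345)) (tt N5882 F52458) (tt N5906 F52459) (tt N6887 F52460) (tt N6893 F52486) (tt N6887 F52461) (tt N6887 F52462) (tt N6887 F52463))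
theorem Q6889 : ∀ i, i < 6889 → P i := stepQ 6888 Q6888 (allL N6888 (tt N5883 F52465) (tt N7823 (iv F56207)) (tt N6982 (iv F52911)) (tt N5876 (iv D13346)) (tt N6910 (iv F52587)) (tt N6908 (iv F52575)) (tt N5877 F52466) (tt N6907 F52570) (tt N6888 F52467))
theorem Q6890 : ∀ i, i < 6890 → P i := stepQ 6889 Q6889 (allL N6889 (tt N5884 F52468) (tt N7834 D14292) (tt N5877 (iv D13347)) (tt N7800 (iv F56135)) (tt N6984 (iv F52921)) (tt N5878 F52469) (tt N6982 (iv F52914)) (tt N6981 F52909) (tt N6889 F52470))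
theorem Q6891 : ∀ i, i < 6891 → P i := stepQ 6890 Q6890 (allL N6890 (tt N5885 F52471) (tt N7825 (iv F56214)) (tt N6984 (iv F52920)) (tt N5881 F52472) (tt N5877 (iv D13348)) (tt N6890 F52473) (tt N6910 (iv F52589)) (tt N6909 F52584) (tt N6890 F52474))
theorem Q6892 : ∀ i, i < 6892 → P i := stepQ 6891 Q6891 (allL N6891 (tt N7835 D14293) (tt N5878 (iv D13349)) (tt N7826 (iv F56218)) (tt N7802 (iv F56141)) (tt N6891 F52475) (tt N7834 (iv F56259)) (tt N7592 (iv F55346)) (tt N7593 (iv F55351)) (tt N6891 F52476))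
theorem Q6893 : ∀ i, i < 6893 → P i := stepQ 6892 Q6892 (allL N6892 (tt N5887 F52477) (tt N6895 (iv F52497)) (tt N5879 (iv D13350)) (tt N7202 F53895) (tt N6894 F52495) (tt N6892 F52478) (tt N5880 F52479) (tt N6892 F52480) (tt N6892 F52481))
theorem Q6894 : ∀ i, i < 6894 → P i := stepQ 6893 Q6893 (allL N6893 (tt N5888 F52482) (tt N6885 F52487) (tt N6894 (iv F52491)) (tt N6910 F52591) (tt N5879 (iv D13351)) (tt N6887 (iv F52486)) (tt N5881 F52483) (tt N6893 F52484) (tt N6893 F52485))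
theorem Q6895 : ∀ i, i < 6895 → P i := stepQ 6894 Q6894 (allL N6894 (tt N6898 (iv F52513)) (tt N5880 (iv D13352)) (tt N6893 F52491) (tt N7803 (iv F56145)) (tt N6892 (iv F52495)) (tt N5882 F52492) (tt N6895 (iv F52500)) (tt N6894 F52493) (tt N6894 F52494))
theorem Q6896 : ∀ i, i < 6896 → P i := stepQ 6895 Q6895 (allL N6895 (tt N5890 F52496) (tt N6892 F52497) (tt N5881 F52498) (tt N6919 F52647) (tt N5880 (iv D13353)) (tt N6895 F52499) (tt N6894 F52500) (tt N6895 F52501) (tt N6895 F52502))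
theorem Q6897 : ∀ i, i < 6897 → P i := stepQ 6896 Q6896 (allL N6896 (tt N5882 (iv D13354)) (tt N5891 F52503) (tt N5916 F52504) (tt N6022 F52505) (tt N6896 F52506) (tt N6898 F52518) (tt N6896 F52507) (tt N6896 F52508) (tt N6896 F52509))
theorem Q6898 : ∀ i, i < 6898 → P i := stepQ 6897 Q6897 (allL N6897 (tt N5886 (iv D13355)) (tt N7835 (iv F56261)) (tt N6897 F52510) (tt N7809 (iv F56160)) (tt N6897 F52511) (tt N7135 (iv F53567)) (tt N7133 (iv F53558)) (tt N7132 F53553) (tt N6897 F52512))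
theorem Q6899 : ∀ i, i < 6899 → P i := stepQ 6898 Q6898 (allL N6898 (tt N6894 F52513) (tt N6899 (iv F52519)) (tt N5888 F52514) (tt N6918 F52642) (tt N5887 (iv D13356)) (tt N6896 (iv F52518)) (tt N5890 F52515) (tt N6898 F52516) (tt N6898 F52517))
theorem Q6900 : ∀ i, i < 6900 → P i := stepQ 6899 Q6899 (allL N6899 (tt N5889 (iv D13357)) (tt N6898 F52519) (tt N6899 F52520) (tt N5926 F52521) (tt N6209 F52522) (tt N5891 F52523) (tt N5929 F52524) (tt N6899 F52525) (tt N6899 F52526))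
theorem Q6901 : ∀ i, i < 6901 → P i := stepQ 6900 Q6900 (allL N6900 (tt N6900 F52527) (tt N5901 F52528) (tt N7670 (iv F55693)) (tt N6724 F52529) (tt N5897 F52530) (tt N5893 (iv D13358)) (tt N6725 F52531) (tt N6900 F52532) (tt N7836 D14294))
theorem Q6902 : ∀ i, i < 6902 → P i := stepQ 6901 Q6901 (allL N6901 (tt N6901 F52533) (tt N5902 F52534) (tt N7671 (iv F55698)) (tt N6584 F52535) (tt N5894 F52536) (tt N7836 (iv F56268)) (tt N6585 F52537) (tt N7837 D14295) (tt N5893 (iv D13359)))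
theorem Q6903 : ∀ i, i < 6903 → P i := stepQ 6902 Q6902 (allL N6902 (tt N6902 F52538) (tt N5903 F52539) (tt N7672 (iv F55703)) (tt N6902 F52540) (tt N7837 (iv F56274)) (tt N5899 F52541) (tt N7673 (iv F55714)) (tt N5894 (iv D13360)) (tt N6902 F52542))
theorem Q6904 : ∀ i, i < 6904 → P i := stepQ 6903 Q6903 (allL N6903 (tt N6903 F52543) (tt N5949 F52544) (tt N5897 F52545) (tt N7829 F56234) (tt N7670 (iv F55694)) (tt N5895 (iv D13361)) (tt N7838 D14296) (tt N6903 F52546) (tt N7830 (iv F56239)))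
theorem Q6905 : ∀ i, i < 6905 → P i := stepQ 6904 Q6904 (allL N6904 (tt N6904 F52547) (tt N5904 F52548) (tt N7838 (iv F56280)) (tt N6904 F52549) (tt N6725 F52550) (tt N6904 F52551) (tt N5897 (iv D13362)) (tt N6904 F52552) (tt N7839 D14297))
theorem Q6906 : ∀ i, i < 6906 → P i := stepQ 6905 Q6905 (allL N6905 (tt N6905 F52553) (tt N5905 F52554) (tt N7830 F56240) (tt N6905 F52555) (tt N7836 (iv F56267)) (tt N5898 F52556) (tt N7839 (iv F56289)) (tt N7832 (iv F56252)) (tt N5897 (iv D13363)))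
theorem Q6907 : ∀ i, i < 6907 → P i := stepQ 6906 Q6906 (allL N6906 (tt N5911 F52557) (tt N7673 (iv F55709)) (tt N5973 F52558) (tt N6906 F52559) (tt N6605 F52560) (tt N6906 F52561) (tt N5903 F52562) (tt N5900 (iv D13364)) (tt N6906 F52563))
theorem Q6908 : ∀ i, i < 6908 → P i := stepQ 6907 Q6907 (allL N6907 (tt N5912 F52564) (tt N7836 (iv F56265)) (tt N5975 F52565) (tt N6607 F52566) (tt N5905 F52567) (tt N5902 F52568) (tt N6608 F52569) (tt N6888 (iv F52570)) (tt N5901 (iv D13365)))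
theorem Q6909 : ∀ i, i < 6909 → P i := stepQ 6908 Q6908 (allL N6908 (tt N5913 F52571) (tt N7837 (iv F56272)) (tt N5976 F52572) (tt N6604 F52573) (tt N5903 F52574) (tt N6888 F52575) (tt N6605 F52576) (tt N5902 (iv D13366)) (tt N6908 F52577))
theorem Q6910 : ∀ i, i < 6910 → P i := stepQ 6909 Q6909 (allL N6909 (tt N5914 F52578) (tt N7839 (iv F56285)) (tt N5977 F52579) (tt N6909 F52580) (tt N6608 F52581) (tt N6909 F52582) (tt N5905 F52583) (tt N6890 (iv F52584)) (tt N5904 (iv D13367)))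
theorem Q6911 : ∀ i, i < 6911 → P i := stepQ 6910 Q6910 (allL N6910 (tt N5915 F52585) (tt N7832 (iv F56248)) (tt N5978 F52586) (tt N6893 (iv F52591)) (tt N6888 F52587) (tt N5906 F52588) (tt N6890 F52589) (tt N5905 (iv D13368)) (tt N6910 F52590))
theorem Q6912 : ∀ i, i < 6912 → P i := stepQ 6911 Q6911 (allL N6911 (tt N5917 F52592) (tt N7197 (iv F53856)) (tt N6116 F52593) (tt N6911 F52594) (tt N5985 F52595) (tt N6117 F52596) (tt N5910 F52597) (tt N5907 (iv D13369)) (tt N6911 F52598))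
theorem Q6913 : ∀ i, i < 6913 → P i := stepQ 6912 Q6912 (allL N6912 (tt N5908 (iv D13370)) (tt N5918 F52599) (tt N7198 (iv F53864)) (tt N6648 F52600) (tt N5986 F52601) (tt N6912 F52602) (tt N6649 F52603) (tt N6912 F52604) (tt N7840 D14298))
theorem Q6914 : ∀ i, i < 6914 → P i := stepQ 6913 Q6913 (allL N6913 (tt N7840 (iv F56291)) (tt N5909 F52605) (tt N7199 (iv F53871)) (tt N6474 F52606) (tt N5987 F52607) (tt N6913 F52608) (tt N6475 F52609) (tt N7841 D14299) (tt N5908 (iv D13371)))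
theorem Q6915 : ∀ i, i < 6915 → P i := stepQ 6914 Q6914 (allL N6914 (tt N5920 F52610) (tt N7841 (iv F56297)) (tt N5910 F52611) (tt N6115 F52612) (tt N5988 F52613) (tt N6914 F52614) (tt N6116 F52615) (tt N5909 (iv D13372)) (tt N6914 F52616))
theorem Q6916 : ∀ i, i < 6916 → P i := stepQ 6915 Q6915 (allL N6915 (tt N5919 F52617) (tt N7840 (iv F56292)) (tt N5927 F52618) (tt N6328 F52619) (tt N6029 F52620) (tt N6915 F52621) (tt N6329 F52622) (tt N7842 D14300) (tt N5918 (iv D13373)))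
theorem Q6917 : ∀ i, i < 6917 → P i := stepQ 6916 Q6916 (allL N6916 (tt N7842 (iv F56303)) (tt N5920 F52623) (tt N5928 F52624) (tt N6020 F52625) (tt N6030 F52626) (tt N6916 F52627) (tt N6021 F52628) (tt N5919 (iv D13374)) (tt N6916 F52629))
theorem Q6918 : ∀ i, i < 6918 → P i := stepQ 6917 Q6917 (allL N6917 (tt N5925 F52630) (tt N6988 (iv F52941)) (tt N6329 F52631) (tt N6917 F52632) (tt N6033 F52633) (tt N6330 F52634) (tt N5927 F52635) (tt N7803 (iv F56149)) (tt N5924 (iv D13375)))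
theorem Q6919 : ∀ i, i < 6919 → P i := stepQ 6918 Q6918 (allL N6918 (tt N7803 (iv F56143)) (tt N5926 F52636) (tt N6021 F52637) (tt N6898 (iv F52642)) (tt N6034 F52638) (tt N6022 F52639) (tt N5928 F52640) (tt N5925 (iv D13376)) (tt N6918 F52641))
theorem Q6920 : ∀ i, i < 6920 → P i := stepQ 6919 Q6919 (allL N6919 (tt N5928 F52643) (tt N7202 (iv F53889)) (tt N7842 (iv F56304)) (tt N6895 (iv F52647)) (tt N6035 F52644) (tt N6919 F52645) (tt N7803 (iv F56148)) (tt N5927 (iv D13377)) (tt N6919 F52646))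
theorem Q6921 : ∀ i, i < 6921 → P i := stepQ 6920 Q6920 (allL N6920 (tt N6038 F52648) (tt N6920 F52649) (tt N7843 D14301) (tt N5930 (iv D13378)) (tt N7844 D14302) (tt N6256 F52650) (tt N7375 (iv F54556)) (tt N7203 (iv F53901)) (tt N7845 D14303))
theorem Q6922 : ∀ i, i < 6922 → P i := stepQ 6921 Q6921 (allL N6921 (tt N6039 F52651) (tt N6921 F52652) (tt N5934 F52653) (tt N7845 (iv F56320)) (tt N6921 F52654) (tt N6257 F52655) (tt N7632 (iv F55552)) (tt N6743 F52656) (tt N5930 (iv D13379)))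
theorem Q6923 : ∀ i, i < 6923 → P i := stepQ 6922 Q6922 (allL N6922 (tt N6041 F52657) (tt N5955 F52658) (tt N7631 (iv F55545)) (tt N7846 D14304) (tt N6662 F52659) (tt N5932 F52660) (tt N6258 F52661) (tt N5931 (iv D13380)) (tt N7847 D14305))
theorem Q6924 : ∀ i, i < 6924 → P i := stepQ 6923 Q6923 (allL N6923 (tt N6042 F52662) (tt N5956 F52663) (tt N7848 D14306) (tt N5932 (iv D13381)) (tt N7849 D14307) (tt N7846 (iv F56325)) (tt N5933 F52664) (tt N5936 F52665) (tt N7850 D14308))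
theorem Q6925 : ∀ i, i < 6925 → P i := stepQ 6924 Q6924 (allL N6924 (tt N6043 F52666) (tt N5957 F52667) (tt N7632 (iv F55550)) (tt N7850 (iv F56345)) (tt N6924 F52668) (tt N7847 (iv F56331)) (tt N5934 F52669) (tt N6547 F52670) (tt N5932 (iv D13382)))
theorem Q6926 : ∀ i, i < 6926 → P i := stepQ 6925 Q6925 (allL N6925 (tt N6044 F52671) (tt N7851 D14309) (tt N5933 (iv D13383)) (tt N7843 (iv F56311)) (tt N7852 D14310) (tt N6261 F52672) (tt N7848 (iv F56335)) (tt N5938 F52673) (tt N7853 D14311))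
theorem Q6927 : ∀ i, i < 6927 → P i := stepQ 6926 Q6926 (allL N6926 (tt N6045 F52674) (tt N5959 F52675) (tt N7852 (iv F56351)) (tt N6926 F52676) (tt N5933 (iv D13384)) (tt N7854 D14312) (tt N7849 (iv F56341)) (tt N5939 F52677) (tt N7855 D14313))
theorem Q6928 : ∀ i, i < 6928 → P i := stepQ 6927 Q6927 (allL N6927 (tt N6046 F52678) (tt N5960 F52679) (tt N7853 (iv F56354)) (tt N5934 F52680) (tt N7855 (iv F56365)) (tt N6263 F52681) (tt N7850 (iv F56346)) (tt N7856 D14314) (tt N5933 (iv D13385)))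
theorem Q6929 : ∀ i, i < 6929 → P i := stepQ 6928 Q6928 (allL N6928 (tt N6047 F52682) (tt N5961 F52683) (tt N7857 D14315) (tt N5935 (iv D13386)) (tt N7858 D14316) (tt N5936 F52684) (tt N6264 F52685) (tt N7846 (iv F56327)) (tt N7859 D14317))
theorem Q6930 : ∀ i, i < 6930 → P i := stepQ 6929 Q6929 (allL N6929 (tt N6048 F52686) (tt N5962 F52687) (tt N7138 (iv F53579)) (tt N7859 (iv F56382)) (tt N6929 F52688) (tt N5937 F52689) (tt N6265 F52690) (tt N6120 F52691) (tt N5935 (iv D13387)))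
theorem Q6931 : ∀ i, i < 6931 → P i := stepQ 6930 Q6930 (allL N6930 (tt N6049 F52692) (tt N7860 D14318) (tt N5936 (iv D13388)) (tt N7207 (iv F53921)) (tt N7861 D14319) (tt N7857 (iv F56372)) (tt N5938 F52693) (tt N7848 (iv F56336)) (tt N7862 D14320))
theorem Q6932 : ∀ i, i < 6932 → P i := stepQ 6931 Q6931 (allL N6931 (tt N6050 F52694) (tt N5964 F52695) (tt N7861 (iv F56390)) (tt N5941 F52696) (tt N5936 (iv D13389)) (tt N6703 (iv F52698)) (tt N5939 F52697) (tt N7849 (iv F56342)) (tt N7863 D14321))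
theorem Q6933 : ∀ i, i < 6933 → P i := stepQ 6932 Q6932 (allL N6932 (tt N6051 F52699) (tt N5965 F52700) (tt N7862 (iv F56394)) (tt N5937 F52701) (tt N7863 (iv F56399)) (tt N7859 (iv F56383)) (tt N5940 F52702) (tt N7864 D14322) (tt N5936 (iv D13390)))
theorem Q6934 : ∀ i, i < 6934 → P i := stepQ 6933 Q6933 (allL N6933 (tt N7865 D14323) (tt N5938 (iv D13391)) (tt N5966 F52703) (tt N7209 (iv F53931)) (tt N7866 D14324) (tt N6269 F52704) (tt N7860 (iv F56386)) (tt N7851 (iv F56349)) (tt N7867 D14325))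
theorem Q6935 : ∀ i, i < 6935 → P i := stepQ 6934 Q6934 (allL N6934 (tt N6053 F52705) (tt N7866 (iv F56409)) (tt N5939 F52706) (tt N7868 D14326) (tt N5938 (iv D13392)) (tt N7869 D14327) (tt N7861 (iv F56391)) (tt N7852 (iv F56352)) (tt N7870 D14328))
theorem Q6936 : ∀ i, i < 6936 → P i := stepQ 6935 Q6935 (allL N6935 (tt N6054 F52707) (tt N7867 (iv F56412)) (tt N5940 F52708) (tt N7211 (iv F53939)) (tt N7870 (iv F56422)) (tt N6271 F52709) (tt N7862 (iv F56395)) (tt N7871 D14329) (tt N5938 (iv D13393)))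
theorem Q6937 : ∀ i, i < 6937 → P i := stepQ 6936 Q6936 (allL N6936 (tt N6055 F52710) (tt N5969 F52711) (tt N7869 (iv F56418)) (tt N5945 F52712) (tt N6272 F52713) (tt N5939 (iv D13394)) (tt N7872 D14330) (tt N7854 (iv F56361)) (tt N7873 D14331))
theorem Q6938 : ∀ i, i < 6938 → P i := stepQ 6937 Q6937 (allL N6937 (tt N6056 F52714) (tt N5970 F52715) (tt N7870 (iv F56421)) (tt N5946 F52716) (tt N5940 F52717) (tt N7873 (iv F56436)) (tt N7863 (iv F56401)) (tt N7874 D14332) (tt N5939 (iv D13395)))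
theorem Q6939 : ∀ i, i < 6939 → P i := stepQ 6938 Q6938 (allL N6938 (tt N6057 F52718) (tt N5971 F52719) (tt N7871 (iv F56424)) (tt N6752 F52720) (tt N7874 (iv F56439)) (tt N6274 F52721) (tt N7864 (iv F56405)) (tt N5940 (iv D13396)) (tt N7856 (iv F56370)))
theorem Q6940 : ∀ i, i < 6940 → P i := stepQ 6939 Q6939 (allL N6939 (tt N6061 F52722) (tt N5972 F52723) (tt N7629 (iv F55532)) (tt N7863 (iv F56398)) (tt N5942 F52724) (tt N6610 F52725) (tt N5946 F52726) (tt N7875 D14333) (tt N5941 (iv D13397)))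
theorem Q6941 : ∀ i, i < 6941 → P i := stepQ 6940 Q6940 (allL N6940 (tt N6062 F52727) (tt N5973 F52728) (tt N7630 (iv F55538)) (tt N6597 F52729) (tt N7875 (iv F56442)) (tt N6940 F52730) (tt N5947 F52731) (tt N5942 (iv D13398)) (tt N6940 F52732))
theorem Q6942 : ∀ i, i < 6942 → P i := stepQ 6941 Q6941 (allL N6941 (tt N6063 F52733) (tt N7513 (iv F55003)) (tt N7868 (iv F56416)) (tt N5943 (iv D13399)) (tt N7214 (iv F53952)) (tt N7876 D14334) (tt N7359 (iv F54510)) (tt N7877 D14335) (tt N7878 D14336))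
theorem Q6943 : ∀ i, i < 6943 → P i := stepQ 6942 Q6942 (allL N6942 (tt N6064 F52734) (tt N7670 (iv F55692)) (tt N5945 F52735) (tt N7876 (iv F56447)) (tt N5949 F52736) (tt N5943 (iv D13400)) (tt N7879 D14337) (tt N6942 F52737) (tt N7880 D14338))
theorem Q6944 : ∀ i, i < 6944 → P i := stepQ 6943 Q6943 (allL N6943 (tt N6065 F52738) (tt N7671 (iv F55697)) (tt N5946 F52739) (tt N7878 (iv F56454)) (tt N5944 F52740) (tt N7880 (iv F56464)) (tt N7629 (iv F55535)) (tt N7881 D14339) (tt N5943 (iv D13401)))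
theorem Q6945 : ∀ i, i < 6945 → P i := stepQ 6944 Q6944 (allL N6944 (tt N6066 F52741) (tt N7672 (iv F55702)) (tt N5947 F52742) (tt N7635 (iv F55566)) (tt N7881 (iv F56467)) (tt N5951 F52743) (tt N7630 (iv F55541)) (tt N5944 (iv D13402)) (tt N6944 F52744))
theorem Q6946 : ∀ i, i < 6946 → P i := stepQ 6945 Q6945 (allL N6945 (tt N6067 F52745) (tt N5974 F52746) (tt N7879 (iv F56457)) (tt N7872 (iv F56428)) (tt N5952 F52747) (tt N6741 F52748) (tt N5945 (iv D13403)) (tt N6945 F52749) (tt N7882 D14340))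
theorem Q6947 : ∀ i, i < 6947 → P i := stepQ 6946 Q6946 (allL N6946 (tt N6068 F52750) (tt N5975 F52751) (tt N7880 (iv F56462)) (tt N7873 (iv F56434)) (tt N5953 F52752) (tt N5946 F52753) (tt N7882 (iv F56473)) (tt N7883 D14341) (tt N5945 (iv D13404)))
theorem Q6948 : ∀ i, i < 6948 → P i := stepQ 6947 Q6947 (allL N6947 (tt N6069 F52754) (tt N5976 F52755) (tt N7881 (iv F56466)) (tt N7884 D14342) (tt N5947 F52756) (tt N7883 (iv F56478)) (tt N7875 (iv F56444)) (tt N5946 (iv D13405)) (tt N6947 F52757))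
theorem Q6949 : ∀ i, i < 6949 → P i := stepQ 6948 Q6948 (allL N6948 (tt N6070 F52758) (tt N7829 (iv F56230)) (tt N6286 F52759) (tt N5949 F52760) (tt N7885 D14343) (tt N5948 (iv D13406)) (tt N7886 D14344) (tt N7787 F56088) (tt N7788 (iv F56093)))
theorem Q6950 : ∀ i, i < 6950 → P i := stepQ 6949 Q6949 (allL N6949 (tt N6073 F52761) (tt N7838 (iv F56279)) (tt N5952 F52762) (tt N7886 (iv F56489)) (tt N7879 (iv F56458)) (tt N6949 F52763) (tt N5949 (iv D13407)) (tt N6949 F52764) (tt N7887 D14345))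
theorem Q6951 : ∀ i, i < 6951 → P i := stepQ 6950 Q6950 (allL N6950 (tt N6074 F52765) (tt N7830 (iv F56236)) (tt N5953 F52766) (tt N7788 F56094) (tt N7880 (iv F56463)) (tt N5950 F52767) (tt N7887 (iv F56494)) (tt N7790 (iv F56103)) (tt N5949 (iv D13408)))
theorem Q6952 : ∀ i, i < 6952 → P i := stepQ 6951 Q6951 (allL N6951 (tt N6077 F52768) (tt N5977 F52769) (tt N7887 (iv F56492)) (tt N6293 F52770) (tt N7882 (iv F56471)) (tt N6951 F52771) (tt N5953 F52772) (tt N7888 D14346) (tt N5952 (iv D13409)))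
theorem Q6953 : ∀ i, i < 6953 → P i := stepQ 6952 Q6952 (allL N6952 (tt N6078 F52773) (tt N5978 F52774) (tt N7790 F56105) (tt N7792 (iv F56111)) (tt N7883 (iv F56477)) (tt N5954 F52775) (tt N7888 (iv F56499)) (tt N5953 (iv D13410)) (tt N6952 F52776))
theorem Q6954 : ∀ i, i < 6954 → P i := stepQ 6953 Q6953 (allL N6953 (tt N5989 F52777) (tt N7846 (iv F56323)) (tt N6306 (iv F52782)) (tt N5955 (iv D13411)) (tt N6245 F52778) (tt N5956 F52779) (tt N6296 F52780) (tt N5961 F52781) (tt N7889 D14347))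
theorem Q6955 : ∀ i, i < 6955 → P i := stepQ 6954 Q6954 (allL N6954 (tt N5990 F52783) (tt N7847 (iv F56329)) (tt N6954 F52784) (tt N7889 (iv F56503)) (tt N6407 F52785) (tt N5957 F52786) (tt N6297 F52787) (tt N6190 F52788) (tt N5955 (iv D13412)))
theorem Q6956 : ∀ i, i < 6956 → P i := stepQ 6955 Q6955 (allL N6955 (tt N5991 F52789) (tt N7890 D14348) (tt N5956 (iv D13413)) (tt N6955 F52790) (tt N6311 (iv F52794)) (tt N6306 F52791) (tt N5958 F52792) (tt N5963 F52793) (tt N7891 D14349))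
theorem Q6957 : ∀ i, i < 6957 → P i := stepQ 6956 Q6956 (allL N6956 (tt N5992 F52795) (tt N7849 (iv F56338)) (tt N6311 F52796) (tt N6956 F52797) (tt N5956 (iv D13414)) (tt N6309 F52798) (tt N5959 F52799) (tt N5964 F52800) (tt N7892 D14350))
theorem Q6958 : ∀ i, i < 6958 → P i := stepQ 6957 Q6957 (allL N6957 (tt N5993 F52801) (tt N7850 (iv F56344)) (tt N7891 (iv F56514)) (tt N5957 F52802) (tt N7892 (iv F56522)) (tt N7889 (iv F56505)) (tt N5960 F52803) (tt N7893 D14351) (tt N5956 (iv D13415)))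
theorem Q6959 : ∀ i, i < 6959 → P i := stepQ 6958 Q6958 (allL N6958 (tt N7894 D14352) (tt N5958 (iv D13416)) (tt N7851 (iv F56347)) (tt N6958 F52804) (tt N7895 D14353) (tt N6300 F52805) (tt N7890 (iv F56511)) (tt N5966 F52806) (tt N7896 D14354))
theorem Q6960 : ∀ i, i < 6960 → P i := stepQ 6959 Q6959 (allL N6959 (tt N5995 F52807) (tt N7895 (iv F56536)) (tt N5959 F52808) (tt N6323 (iv F52811)) (tt N5958 (iv D13417)) (tt N6320 F52812) (tt N6311 F52809) (tt N5967 F52810) (tt N7897 D14355))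
theorem Q6961 : ∀ i, i < 6961 → P i := stepQ 6960 Q6960 (allL N6960 (tt N5996 F52813) (tt N7896 (iv F56541)) (tt N5960 F52814) (tt N6960 F52815) (tt N7897 (iv F56547)) (tt N6302 F52816) (tt N7891 (iv F56518)) (tt N7898 D14356) (tt N5958 (iv D13418)))
theorem Q6962 : ∀ i, i < 6962 → P i := stepQ 6961 Q6961 (allL N6961 (tt N5997 F52817) (tt N7854 (iv F56357)) (tt N6320 F52818) (tt N6961 F52819) (tt N6303 F52820) (tt N5959 (iv D13419)) (tt N6317 F52821) (tt N5969 F52822) (tt N7899 D14357))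
theorem Q6963 : ∀ i, i < 6963 → P i := stepQ 6962 Q6962 (allL N6962 (tt N5998 F52823) (tt N7855 (iv F56363)) (tt N7897 (iv F56545)) (tt N6962 F52824) (tt N5960 F52825) (tt N7899 (iv F56558)) (tt N7892 (iv F56524)) (tt N7900 D14358) (tt N5959 (iv D13420)))
theorem Q6964 : ∀ i, i < 6964 → P i := stepQ 6963 Q6963 (allL N6963 (tt N5999 F52826) (tt N7856 (iv F56367)) (tt N7898 (iv F56551)) (tt N6773 F52827) (tt N7900 (iv F56561)) (tt N6305 F52828) (tt N7893 (iv F56527)) (tt N5960 (iv D13421)) (tt N5971 F52829))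
theorem Q6965 : ∀ i, i < 6965 → P i := stepQ 6964 Q6964 (allL N6964 (tt N6000 F52830) (tt N7901 D14359) (tt N5961 (iv D13422)) (tt N5980 F52831) (tt N6296 (iv F52835)) (tt N5963 F52832) (tt N6245 F52833) (tt N6306 F52834) (tt N7902 D14360))
theorem Q6966 : ∀ i, i < 6966 → P i := stepQ 6965 Q6965 (allL N6965 (tt N6001 F52836) (tt N7858 (iv F56375)) (tt N6296 F52837) (tt N6965 F52838) (tt N5961 (iv D13423)) (tt N6298 F52839) (tt N6306 F52840) (tt N6245 F52841) (tt N7903 D14361))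
theorem Q6967 : ∀ i, i < 6967 → P i := stepQ 6966 Q6966 (allL N6966 (tt N6002 F52842) (tt N7859 (iv F56381)) (tt N7902 (iv F56570)) (tt N5962 F52843) (tt N7903 (iv F56578)) (tt N5965 F52844) (tt N6307 F52845) (tt N7904 D14362) (tt N5961 (iv D13424)))
theorem Q6968 : ∀ i, i < 6968 → P i := stepQ 6967 Q6967 (allL N6967 (tt N7905 D14363) (tt N5963 (iv D13425)) (tt N7860 (iv F56385)) (tt N5983 F52846) (tt N6693 F52847) (tt N7901 (iv F56566)) (tt N5966 F52848) (tt N7890 (iv F56512)) (tt N7906 D14364))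
theorem Q6969 : ∀ i, i < 6969 → P i := stepQ 6968 Q6968 (allL N6968 (tt N6004 F52849) (tt N7906 (iv F56591)) (tt N5965 F52850) (tt N5984 F52851) (tt N6505 F52852) (tt N7902 (iv F56573)) (tt N5968 F52853) (tt N7907 D14365) (tt N5963 (iv D13426)))
theorem Q6970 : ∀ i, i < 6970 → P i := stepQ 6969 Q6969 (allL N6969 (tt N6005 F52854) (tt N7863 (iv F56397)) (tt N6505 F52855) (tt N5972 F52856) (tt N5965 F52857) (tt N6506 F52858) (tt N5970 F52859) (tt N7908 D14366) (tt N5964 (iv D13427)))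
theorem Q6971 : ∀ i, i < 6971 → P i := stepQ 6970 Q6970 (allL N6970 (tt N6006 F52860) (tt N7864 (iv F56403)) (tt N7907 (iv F56596)) (tt N6520 F52861) (tt N7908 (iv F56601)) (tt N7904 (iv F56583)) (tt N5971 F52862) (tt N5965 (iv D13428)) (tt N7893 (iv F56528)))
theorem Q6972 : ∀ i, i < 6972 → P i := stepQ 6971 Q6971 (allL N6971 (tt N5966 (iv D13429)) (tt N6007 F52863) (tt N7865 (iv F56407)) (tt N5986 F52864) (tt N7909 D14367) (tt N6314 F52865) (tt N7905 (iv F56589)) (tt N7894 (iv F56533)) (tt N7910 D14368))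
theorem Q6973 : ∀ i, i < 6973 → P i := stepQ 6972 Q6972 (allL N6972 (tt N7909 (iv F56604)) (tt N5967 F52866) (tt N7866 (iv F56410)) (tt N6692 F52867) (tt N5966 (iv D13430)) (tt N7911 D14369) (tt N6693 F52868) (tt N7895 (iv F56539)) (tt N7912 D14370))
theorem Q6974 : ∀ i, i < 6974 → P i := stepQ 6973 Q6973 (allL N6973 (tt N7910 (iv F56610)) (tt N5968 F52869) (tt N7867 (iv F56413)) (tt N5987 F52870) (tt N7912 (iv F56622)) (tt N6316 F52871) (tt N7906 (iv F56594)) (tt N7913 D14371) (tt N5966 (iv D13431)))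
theorem Q6975 : ∀ i, i < 6975 → P i := stepQ 6974 Q6974 (allL N6974 (tt N6010 F52872) (tt N7911 (iv F56615)) (tt N5969 F52873) (tt N6650 F52874) (tt N6317 F52875) (tt N5967 (iv D13432)) (tt N6303 F52876) (tt N6320 F52877) (tt N7914 D14372))
theorem Q6976 : ∀ i, i < 6976 → P i := stepQ 6975 Q6975 (allL N6975 (tt N6011 F52878) (tt N7912 (iv F56620)) (tt N5970 F52879) (tt N6504 F52880) (tt N5968 F52881) (tt N7914 (iv F56630)) (tt N6505 F52882) (tt N7915 D14373) (tt N5967 (iv D13433)))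
theorem Q6977 : ∀ i, i < 6977 → P i := stepQ 6976 Q6976 (allL N6976 (tt N6012 F52883) (tt N7913 (iv F56624)) (tt N5971 F52884) (tt N7916 D14374) (tt N7915 (iv F56635)) (tt N6319 F52885) (tt N7907 (iv F56598)) (tt N5968 (iv D13434)) (tt N7898 (iv F56553)))
theorem Q6978 : ∀ i, i < 6978 → P i := stepQ 6977 Q6977 (allL N6977 (tt N6013 F52886) (tt N7872 (iv F56427)) (tt N6303 F52887) (tt N5974 F52888) (tt N6320 F52889) (tt N6301 F52890) (tt N5969 (iv D13435)) (tt N6317 F52891) (tt N7917 D14375))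
theorem Q6979 : ∀ i, i < 6979 → P i := stepQ 6978 Q6978 (allL N6978 (tt N6014 F52892) (tt N7873 (iv F56433)) (tt N7914 (iv F56627)) (tt N5975 F52893) (tt N6321 F52894) (tt N5970 F52895) (tt N7917 (iv F56646)) (tt N7918 D14376) (tt N5969 (iv D13436)))
theorem Q6980 : ∀ i, i < 6980 → P i := stepQ 6979 Q6979 (allL N6979 (tt N6015 F52896) (tt N7874 (iv F56438)) (tt N7915 (iv F56633)) (tt N7919 D14377) (tt N5971 F52897) (tt N7918 (iv F56649)) (tt N7908 (iv F56603)) (tt N5970 (iv D13437)) (tt N7900 (iv F56562)))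
theorem Q6981 : ∀ i, i < 6981 → P i := stepQ 6980 Q6980 (allL N6980 (tt N6016 F52898) (tt N7875 (iv F56441)) (tt N6605 F52899) (tt N7920 D14378) (tt N5973 F52900) (tt N6606 F52901) (tt N5976 F52902) (tt N5972 (iv D13438)) (tt N6980 F52903))
theorem Q6982 : ∀ i, i < 6982 → P i := stepQ 6981 Q6981 (allL N6981 (tt N6017 F52904) (tt N7882 (iv F56470)) (tt N6608 F52905) (tt N7917 (iv F56643)) (tt N5977 F52906) (tt N6609 F52907) (tt N5975 F52908) (tt N6889 (iv F52909)) (tt N5974 (iv D13439)))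
theorem Q6983 : ∀ i, i < 6983 → P i := stepQ 6982 Q6982 (allL N6982 (tt N6018 F52910) (tt N7883 (iv F56476)) (tt N6888 F52911) (tt N7921 D14379) (tt N5978 F52912) (tt N5976 F52913) (tt N6889 F52914) (tt N5975 (iv D13440)) (tt N6982 F52915))
theorem Q6984 : ∀ i, i < 6984 → P i := stepQ 6983 Q6983 (allL N6983 (tt N6019 F52916) (tt N7884 (iv F56482)) (tt N7922 D14380) (tt N5976 (iv D13441)) (tt N6782 F52917) (tt N7921 (iv F56661)) (tt N7920 (iv F56657)) (tt N7919 (iv F56652)) (tt N6983 F52918))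
theorem Q6985 : ∀ i, i < 6985 → P i := stepQ 6984 Q6984 (allL N6984 (tt N6020 F52919) (tt N7888 (iv F56496)) (tt N6890 F52920) (tt N7842 (iv F56305)) (tt N6889 F52921) (tt N6984 F52922) (tt N5978 F52923) (tt N5977 (iv D13442)) (tt N6984 F52924))
theorem Q6986 : ∀ i, i < 6986 → P i := stepQ 6985 Q6985 (allL N6985 (tt N6021 F52925) (tt N7792 F56115) (tt N7803 (iv F56144)) (tt N5978 (iv D13443)) (tt N7923 D14381) (tt N5979 F52926) (tt N7842 (iv F56308)) (tt N6329 F52927) (tt N6985 F52928))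
theorem Q6987 : ∀ i, i < 6987 → P i := stepQ 6986 Q6986 (allL N6986 (tt N6236 F52929) (tt N5980 (iv D13444)) (tt N6990 (iv F52956)) (tt N7901 (iv F56564)) (tt N6663 F52930) (tt N5983 F52931) (tt N6239 F52932) (tt N6986 F52933) (tt N7924 D14382))
theorem Q6988 : ∀ i, i < 6988 → P i := stepQ 6987 Q6987 (allL N6987 (tt N6023 F52934) (tt N7924 (iv F56677)) (tt N5982 F52935) (tt N7902 (iv F56571)) (tt N6408 F52936) (tt N5984 F52937) (tt N6250 F52938) (tt N6846 (iv F52939)) (tt N5980 (iv D13445)))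
theorem Q6989 : ∀ i, i < 6989 → P i := stepQ 6988 Q6988 (allL N6988 (tt N6024 F52940) (tt N6917 F52941) (tt N6408 F52942) (tt N6988 F52943) (tt N5982 F52944) (tt N6409 F52945) (tt N6207 F52946) (tt N6845 (iv F52947)) (tt N5981 (iv D13446)))
theorem Q6990 : ∀ i, i < 6990 → P i := stepQ 6989 Q6989 (allL N6989 (tt N6025 F52948) (tt N7032 (iv F53160)) (tt N6846 F52949) (tt N6035 F52950) (tt N6845 F52951) (tt N5985 F52952) (tt N6253 F52953) (tt N5982 (iv D13447)) (tt N6989 F52954))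
theorem Q6991 : ∀ i, i < 6991 → P i := stepQ 6990 Q6990 (allL N6990 (tt N5983 (iv D13448)) (tt N6026 F52955) (tt N6986 F52956) (tt N7905 (iv F56586)) (tt N6649 F52957) (tt N6236 F52958) (tt N5986 F52959) (tt N6990 F52960) (tt N7925 D14383))
theorem Q6992 : ∀ i, i < 6992 → P i := stepQ 6991 Q6991 (allL N6991 (tt N7925 (iv F56682)) (tt N5984 F52961) (tt N7227 (iv F54007)) (tt N7906 (iv F56592)) (tt N6475 F52962) (tt N7924 (iv F56679)) (tt N5987 F52963) (tt N7926 D14384) (tt N5983 (iv D13449)))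
theorem Q6993 : ∀ i, i < 6993 → P i := stepQ 6992 Q6992 (allL N6992 (tt N6028 F52964) (tt N7926 (iv F56688)) (tt N5985 F52965) (tt N7927 D14385) (tt N6116 F52966) (tt N6846 F52967) (tt N5988 F52968) (tt N5984 (iv D13450)) (tt N6992 F52969))
theorem Q6994 : ∀ i, i < 6994 → P i := stepQ 6993 Q6993 (allL N6993 (tt N5987 F52970) (tt N6029 F52971) (tt N7229 (iv F54016)) (tt N7910 (iv F56612)) (tt N7840 (iv F56294)) (tt N6333 F52972) (tt N7925 (iv F56687)) (tt N7928 D14386) (tt N5986 (iv D13451)))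
theorem Q6995 : ∀ i, i < 6995 → P i := stepQ 6994 Q6994 (allL N6994 (tt N7928 (iv F56699)) (tt N5988 F52973) (tt N7230 (iv F54019)) (tt N7929 D14387) (tt N7841 (iv F56299)) (tt N6334 F52974) (tt N7926 (iv F56691)) (tt N5987 (iv D13452)) (tt N6994 F52975))
theorem Q6996 : ∀ i, i < 6996 → P i := stepQ 6995 Q6995 (allL N6995 (tt N6031 F52976) (tt N7929 (iv F56703)) (tt N6787 F52977) (tt N5988 (iv D13453)) (tt N7930 D14388) (tt N6335 F52978) (tt N7927 (iv F56697)) (tt N7916 (iv F56640)) (tt N6995 F52979))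
theorem Q6997 : ∀ i, i < 6997 → P i := stepQ 6996 Q6996 (allL N6996 (tt N7889 (iv F56501)) (tt N6122 F52980) (tt N6345 F52981) (tt N5990 F52982) (tt N6246 F52983) (tt N5993 F52984) (tt N6336 F52985) (tt N7931 D14389) (tt N5989 (iv D13454)))
theorem Q6998 : ∀ i, i < 6998 → P i := stepQ 6997 Q6997 (allL N6997 (tt N7891 (iv F56513)) (tt N6411 F52986) (tt N5993 F52987) (tt N6997 F52988) (tt N6349 F52989) (tt N6345 F52990) (tt N5996 F52991) (tt N7932 D14390) (tt N5991 (iv D13455)))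
theorem Q6999 : ∀ i, i < 6999 → P i := stepQ 6998 Q6998 (allL N6998 (tt N7892 (iv F56519)) (tt N6124 F52992) (tt N6349 F52993) (tt N6998 F52994) (tt N5993 F52995) (tt N6347 F52996) (tt N5998 F52997) (tt N7933 D14391) (tt N5992 (iv D13456)))
theorem Q7000 : ∀ i, i < 7000 → P i := stepQ 6999 Q6999 (allL N6999 (tt N7893 (iv F56525)) (tt N6125 F52998) (tt N7932 (iv F56720)) (tt N6511 F52999) (tt N7933 (iv F56727)) (tt N7931 (iv F56716)) (tt N5999 F53000) (tt N5993 (iv D13457)) (tt N6006 F53001))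
theorem Q7001 : ∀ i, i < 7001 → P i := stepQ 7000 Q7000 (allL N7000 (tt N5994 (iv D13458)) (tt N7894 (iv F56529)) (tt N6126 F53002) (tt N7000 F53003) (tt N6488 F53004) (tt N6339 F53005) (tt N6402 F53006) (tt N6007 F53007) (tt N7934 D14392))
theorem Q7002 : ∀ i, i < 7002 → P i := stepQ 7001 Q7001 (allL N7001 (tt N7934 (iv F56731)) (tt N5996 F53008) (tt N6127 F53009) (tt N7001 F53010) (tt N6516 F53011) (tt N6340 F53012) (tt N6411 F53013) (tt N7935 D14393) (tt N5994 (iv D13459)))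
theorem Q7003 : ∀ i, i < 7003 → P i := stepQ 7002 Q7002 (allL N7002 (tt N7897 (iv F56544)) (tt N6516 F53014) (tt N5998 F53015) (tt N6361 F53016) (tt N5996 F53017) (tt N6358 F53018) (tt N6349 F53019) (tt N7936 D14394) (tt N5995 (iv D13460)))
theorem Q7004 : ∀ i, i < 7004 → P i := stepQ 7003 Q7003 (allL N7003 (tt N7898 (iv F56550)) (tt N7935 (iv F56737)) (tt N5999 F53020) (tt N7937 D14395) (tt N7936 (iv F56746)) (tt N6342 F53021) (tt N7932 (iv F56723)) (tt N5996 (iv D13461)) (tt N6012 F53022))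
theorem Q7005 : ∀ i, i < 7005 → P i := stepQ 7004 Q7004 (allL N7004 (tt N7899 (iv F56554)) (tt N6132 F53023) (tt N6358 F53024) (tt N7004 F53025) (tt N6343 F53026) (tt N5998 F53027) (tt N6355 F53028) (tt N7938 D14396) (tt N5997 (iv D13462)))
theorem Q7006 : ∀ i, i < 7006 → P i := stepQ 7005 Q7005 (allL N7005 (tt N7900 (iv F56560)) (tt N6133 F53029) (tt N7936 (iv F56744)) (tt N7939 D14397) (tt N5999 F53030) (tt N7938 (iv F56757)) (tt N7933 (iv F56729)) (tt N5998 (iv D13463)) (tt N6015 F53031))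
theorem Q7007 : ∀ i, i < 7007 → P i := stepQ 7006 Q7006 (allL N7006 (tt N7902 (iv F56569)) (tt N6243 F53032) (tt N6002 F53033) (tt N6023 F53034) (tt N6336 F53035) (tt N6004 F53036) (tt N6246 F53037) (tt N7940 D14398) (tt N6000 (iv D13464)))
theorem Q7008 : ∀ i, i < 7008 → P i := stepQ 7007 Q7007 (allL N7007 (tt N7903 (iv F56575)) (tt N6134 F53038) (tt N6336 F53039) (tt N7007 F53040) (tt N6002 F53041) (tt N6337 F53042) (tt N6345 F53043) (tt N7941 D14399) (tt N6001 (iv D13465)))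
theorem Q7009 : ∀ i, i < 7009 → P i := stepQ 7008 Q7008 (allL N7008 (tt N7904 (iv F56581)) (tt N6135 F53044) (tt N7940 (iv F56765)) (tt N6147 F53045) (tt N7941 (iv F56773)) (tt N6006 F53046) (tt N6346 F53047) (tt N6002 (iv D13466)) (tt N7931 (iv F56718)))
theorem Q7010 : ∀ i, i < 7010 → P i := stepQ 7009 Q7009 (allL N7009 (tt N6003 (iv D13467)) (tt N7905 (iv F56585)) (tt N6136 F53048) (tt N6026 F53049) (tt N6477 F53050) (tt N6228 F53051) (tt N6007 F53052) (tt N6402 F53053) (tt N7942 D14400))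
theorem Q7011 : ∀ i, i < 7011 → P i := stepQ 7010 Q7010 (allL N7010 (tt N7942 (iv F56777)) (tt N6004 F53054) (tt N6137 F53055) (tt N6027 F53056) (tt N6363 F53057) (tt N6243 F53058) (tt N6009 F53059) (tt N7943 D14401) (tt N6003 (iv D13468)))
theorem Q7012 : ∀ i, i < 7012 → P i := stepQ 7011 Q7011 (allL N7011 (tt N7907 (iv F56595)) (tt N7943 (iv F56783)) (tt N6006 F53060) (tt N7944 D14402) (tt N6527 F53061) (tt N7940 (iv F56768)) (tt N6012 F53062) (tt N6004 (iv D13469)) (tt N7932 (iv F56724)))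
theorem Q7013 : ∀ i, i < 7013 → P i := stepQ 7012 Q7012 (allL N7012 (tt N7908 (iv F56599)) (tt N6142 F53063) (tt N6527 F53064) (tt N7945 D14403) (tt N6006 F53065) (tt N6528 F53066) (tt N6015 F53067) (tt N6005 (iv D13470)) (tt N7933 (iv F56730)))
theorem Q7014 : ∀ i, i < 7014 → P i := stepQ 7013 Q7013 (allL N7013 (tt N6008 F53068) (tt N7909 (iv F56605)) (tt N6143 F53069) (tt N6651 F53070) (tt N6007 (iv D13471)) (tt N6485 (iv F53073)) (tt N6477 F53071) (tt N6488 F53072) (tt N7946 D14404))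
theorem Q7015 : ∀ i, i < 7015 → P i := stepQ 7014 Q7014 (allL N7014 (tt N6009 F53074) (tt N7910 (iv F56611)) (tt N6144 F53075) (tt N6029 F53076) (tt N7946 (iv F56803)) (tt N6352 F53077) (tt N7942 (iv F56782)) (tt N7947 D14405) (tt N6007 (iv D13472)))
theorem Q7016 : ∀ i, i < 7016 → P i := stepQ 7015 Q7015 (allL N7015 (tt N7946 (iv F56800)) (tt N6011 F53078) (tt N6146 F53079) (tt N6362 F53080) (tt N6009 F53081) (tt N6514 F53082) (tt N6363 F53083) (tt N7948 D14406) (tt N6008 (iv D13473)))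
theorem Q7017 : ∀ i, i < 7017 → P i := stepQ 7016 Q7016 (allL N7016 (tt N7947 (iv F56806)) (tt N6012 F53084) (tt N6147 F53085) (tt N7949 D14407) (tt N7948 (iv F56812)) (tt N6354 F53086) (tt N7943 (iv F56787)) (tt N6009 (iv D13474)) (tt N7935 (iv F56742)))
theorem Q7018 : ∀ i, i < 7018 → P i := stepQ 7017 Q7017 (allL N7017 (tt N7914 (iv F56626)) (tt N6514 F53087) (tt N6014 F53088) (tt N6529 F53089) (tt N6355 F53090) (tt N6011 F53091) (tt N6343 F53092) (tt N7950 D14408) (tt N6010 (iv D13475)))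
theorem Q7019 : ∀ i, i < 7019 → P i := stepQ 7018 Q7018 (allL N7018 (tt N7915 (iv F56632)) (tt N7948 (iv F56809)) (tt N6015 F53093) (tt N6526 F53094) (tt N6012 F53095) (tt N7950 (iv F56825)) (tt N6527 F53096) (tt N6011 (iv D13476)) (tt N7936 (iv F56749)))
theorem Q7020 : ∀ i, i < 7020 → P i := stepQ 7019 Q7019 (allL N7019 (tt N7916 (iv F56637)) (tt N7949 (iv F56816)) (tt N6791 F53097) (tt N6012 (iv D13477)) (tt N7951 D14409) (tt N6357 F53098) (tt N7944 (iv F56792)) (tt N6031 F53099) (tt N7937 (iv F56753)))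
theorem Q7021 : ∀ i, i < 7021 → P i := stepQ 7020 Q7020 (allL N7020 (tt N7917 (iv F56641)) (tt N6151 F53100) (tt N6343 F53101) (tt N6017 F53102) (tt N6358 F53103) (tt N6341 F53104) (tt N6014 F53105) (tt N7952 D14410) (tt N6013 (iv D13478)))
theorem Q7022 : ∀ i, i < 7022 → P i := stepQ 7021 Q7021 (allL N7021 (tt N7918 (iv F56647)) (tt N6152 F53106) (tt N7950 (iv F56822)) (tt N7953 D14411) (tt N6359 F53107) (tt N6015 F53108) (tt N7952 (iv F56839)) (tt N6014 (iv D13479)) (tt N7938 (iv F56759)))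
theorem Q7023 : ∀ i, i < 7023 → P i := stepQ 7022 Q7022 (allL N7022 (tt N7919 (iv F56650)) (tt N6153 F53109) (tt N7954 D14412) (tt N6015 (iv D13480)) (tt N6793 F53110) (tt N7953 (iv F56843)) (tt N7945 (iv F56798)) (tt N6019 F53111) (tt N7939 (iv F56763)))
theorem Q7024 : ∀ i, i < 7024 → P i := stepQ 7023 Q7023 (allL N7023 (tt N7920 (iv F56653)) (tt N6156 F53112) (tt N6618 F53113) (tt N6016 (iv D13481)) (tt N6616 F53114) (tt N6619 F53115) (tt N6019 F53116) (tt N7945 (iv F56799)) (tt N7023 F53117))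
theorem Q7025 : ∀ i, i < 7025 → P i := stepQ 7024 Q7024 (allL N7024 (tt N7921 (iv F56659)) (tt N6158 F53118) (tt N6853 F53119) (tt N6018 (iv D13482)) (tt N7955 D14413) (tt N6019 F53120) (tt N6854 F53121) (tt N7953 (iv F56845)) (tt N7024 F53122))
theorem Q7026 : ∀ i, i < 7026 → P i := stepQ 7025 Q7025 (allL N7025 (tt N7922 (iv F56664)) (tt N7956 D14414) (tt N6019 (iv D13483)) (tt N6617 F53123) (tt N6796 F53124) (tt N6853 F53125) (tt N6618 F53126) (tt N7954 (iv F56850)) (tt N7025 F53127))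
theorem Q7027 : ∀ i, i < 7027 → P i := stepQ 7026 Q7026 (allL N7026 (tt N7923 (iv F56670)) (tt N6028 F53128) (tt N6034 F53129) (tt N7955 (iv F56853)) (tt N6021 (iv D13484)) (tt N6249 F53130) (tt N6030 F53131) (tt N6027 F53132) (tt N7026 F53133))
theorem Q7028 : ∀ i, i < 7028 → P i := stepQ 7027 Q7027 (allL N7027 (tt N6027 F53134) (tt N7925 (iv F56683)) (tt N6033 F53135) (tt N7942 (iv F56779)) (tt N6329 F53136) (tt N6237 F53137) (tt N6029 F53138) (tt N7923 (iv F56674)) (tt N6026 (iv D13485)))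
theorem Q7029 : ∀ i, i < 7029 → P i := stepQ 7028 Q7028 (allL N7028 (tt N7927 (iv F56693)) (tt N7955 (iv F56851)) (tt N6366 F53139) (tt N6028 (iv D13486)) (tt N6158 F53140) (tt N6855 F53141) (tt N6031 F53142) (tt N7944 (iv F56793)) (tt N7028 F53143))
theorem Q7030 : ∀ i, i < 7030 → P i := stepQ 7029 Q7029 (allL N7029 (tt N6030 F53144) (tt N7928 (iv F56700)) (tt N6035 F53145) (tt N7957 D14415) (tt N7842 (iv F56306)) (tt N6365 F53146) (tt N7923 (iv F56673)) (tt N6029 (iv D13487)) (tt N7029 F53147))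
theorem Q7031 : ∀ i, i < 7031 → P i := stepQ 7030 Q7030 (allL N7030 (tt N7957 (iv F56863)) (tt N6031 F53148) (tt N6855 F53149) (tt N6030 (iv D13488)) (tt N6854 F53150) (tt N6366 F53151) (tt N7955 (iv F56855)) (tt N7949 (iv F56819)) (tt N7030 F53152))
theorem Q7032 : ∀ i, i < 7032 → P i := stepQ 7031 Q7031 (allL N7031 (tt N7930 (iv F56706)) (tt N6854 F53153) (tt N6797 F53154) (tt N6157 F53155) (tt N6031 (iv D13489)) (tt N6856 (iv F53158)) (tt N6158 F53156) (tt N7951 (iv F56832)) (tt N7031 F53157))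
theorem Q7033 : ∀ i, i < 7033 → P i := stepQ 7032 Q7032 (allL N7032 (tt N6034 F53159) (tt N6989 F53160) (tt N7923 (iv F56671)) (tt N6253 F53161) (tt N7803 (iv F56146)) (tt N6238 F53162) (tt N6035 F53163) (tt N6033 (iv D13490)) (tt N7032 F53164))
theorem Q7034 : ∀ i, i < 7034 → P i := stepQ 7033 Q7033 (allL N7033 (tt N6660 F53165) (tt N6161 F53166) (tt N6040 F53167) (tt N7600 (iv F55382)) (tt N6036 (iv D13491)) (tt N7033 F53168) (tt N6414 F53169) (tt N7669 (iv F55689)) (tt N6180 F53170))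
theorem Q7035 : ∀ i, i < 7035 → P i := stepQ 7034 Q7034 (allL N7034 (tt N7631 (iv F55543)) (tt N6162 F53171) (tt N6041 F53172) (tt N7958 D14416) (tt N7669 F55690) (tt N6037 F53173) (tt N6415 F53174) (tt N6036 (iv D13492)) (tt N7959 D14417))
theorem Q7036 : ∀ i, i < 7036 → P i := stepQ 7035 Q7035 (allL N7035 (tt N7375 (iv F54552)) (tt N6163 F53175) (tt N7960 D14418) (tt N6037 (iv D13493)) (tt N7877 (iv F56451)) (tt N7958 (iv F56869)) (tt N6038 F53176) (tt N7214 (iv F53954)) (tt N7961 D14419))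
theorem Q7037 : ∀ i, i < 7037 → P i := stepQ 7036 Q7036 (allL N7036 (tt N7632 (iv F55548)) (tt N6164 F53177) (tt N6043 F53178) (tt N7961 (iv F56879)) (tt N7036 F53179) (tt N7959 (iv F56873)) (tt N6039 F53180) (tt N6546 F53181) (tt N6037 (iv D13494)))
theorem Q7038 : ∀ i, i < 7038 → P i := stepQ 7037 Q7037 (allL N7037 (tt N7843 (iv F56310)) (tt N7962 D14420) (tt N6038 (iv D13495)) (tt N6044 F53182) (tt N7963 D14421) (tt N6418 F53183) (tt N7960 (iv F56877)) (tt N7358 (iv F54506)) (tt N7964 D14422))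
theorem Q7039 : ∀ i, i < 7039 → P i := stepQ 7038 Q7038 (allL N7038 (tt N7844 (iv F56313)) (tt N6166 F53184) (tt N7963 (iv F56884)) (tt N7038 F53185) (tt N6038 (iv D13496)) (tt N7965 D14423) (tt N7877 (iv F56452)) (tt N7359 (iv F54511)) (tt N7966 D14424))
theorem Q7040 : ∀ i, i < 7040 → P i := stepQ 7039 Q7039 (allL N7039 (tt N7845 (iv F56318)) (tt N6167 F53186) (tt N7964 (iv F56885)) (tt N6039 F53187) (tt N7966 (iv F56894)) (tt N6420 F53188) (tt N7961 (iv F56880)) (tt N7967 D14425) (tt N6038 (iv D13497)))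
theorem Q7041 : ∀ i, i < 7041 → P i := stepQ 7040 Q7040 (allL N7040 (tt N6662 F53189) (tt N6080 F53190) (tt N7669 (iv F55686)) (tt N6197 (iv F53194)) (tt N6041 F53191) (tt N7040 F53192) (tt N6421 F53193) (tt N6040 (iv D13498)) (tt N7968 D14426))
theorem Q7042 : ∀ i, i < 7042 → P i := stepQ 7041 Q7041 (allL N7041 (tt N7846 (iv F56322)) (tt N6081 F53195) (tt N7969 D14427) (tt N6041 (iv D13499)) (tt N6230 F53196) (tt N6042 F53197) (tt N6396 F53198) (tt N6047 F53199) (tt N7970 D14428))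
theorem Q7043 : ∀ i, i < 7043 → P i := stepQ 7042 Q7042 (allL N7042 (tt N7847 (iv F56328)) (tt N6082 F53200) (tt N7959 (iv F56872)) (tt N7970 (iv F56911)) (tt N7968 (iv F56901)) (tt N6043 F53201) (tt N6422 F53202) (tt N6188 F53203) (tt N6041 (iv D13500)))
theorem Q7044 : ∀ i, i < 7044 → P i := stepQ 7043 Q7043 (allL N7043 (tt N7848 (iv F56334)) (tt N7971 D14429) (tt N6042 (iv D13501)) (tt N7960 (iv F56876)) (tt N7972 D14430) (tt N7969 (iv F56907)) (tt N6044 F53204) (tt N6049 F53205) (tt N7973 D14431))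
theorem Q7045 : ∀ i, i < 7045 → P i := stepQ 7044 Q7044 (allL N7044 (tt N7849 (iv F56337)) (tt N6084 F53206) (tt N7972 (iv F56922)) (tt N7044 F53207) (tt N6042 (iv D13502)) (tt N6774 F53208) (tt N6045 F53209) (tt N6050 F53210) (tt N7974 D14432))
theorem Q7046 : ∀ i, i < 7046 → P i := stepQ 7045 Q7045 (allL N7045 (tt N7850 (iv F56343)) (tt N6085 F53211) (tt N7973 (iv F56926)) (tt N6043 F53212) (tt N7974 (iv F56930)) (tt N7970 (iv F56913)) (tt N6046 F53213) (tt N7975 D14433) (tt N6042 (iv D13503)))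
theorem Q7047 : ∀ i, i < 7047 → P i := stepQ 7046 Q7046 (allL N7046 (tt N7976 D14434) (tt N6044 (iv D13504)) (tt N6086 F53214) (tt N7962 (iv F56882)) (tt N7977 D14435) (tt N6426 F53215) (tt N7971 (iv F56917)) (tt N6052 F53216) (tt N7978 D14436))
theorem Q7048 : ∀ i, i < 7048 → P i := stepQ 7047 Q7047 (allL N7047 (tt N7852 (iv F56350)) (tt N7977 (iv F56943)) (tt N6045 F53217) (tt N7979 D14437) (tt N6044 (iv D13505)) (tt N7980 D14438) (tt N7972 (iv F56924)) (tt N6053 F53218) (tt N7981 D14439))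
theorem Q7049 : ∀ i, i < 7049 → P i := stepQ 7048 Q7048 (allL N7048 (tt N7853 (iv F56353)) (tt N7978 (iv F56947)) (tt N6046 F53219) (tt N7964 (iv F56886)) (tt N7981 (iv F56955)) (tt N6428 F53220) (tt N7973 (iv F56927)) (tt N7982 D14440) (tt N6044 (iv D13506)))
theorem Q7050 : ∀ i, i < 7050 → P i := stepQ 7049 Q7049 (allL N7049 (tt N7854 (iv F56356)) (tt N6089 F53221) (tt N7980 (iv F56951)) (tt N7049 F53222) (tt N6429 F53223) (tt N6045 (iv D13507)) (tt N7983 D14441) (tt N6055 F53224) (tt N7984 D14442))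
theorem Q7051 : ∀ i, i < 7051 → P i := stepQ 7050 Q7050 (allL N7050 (tt N7855 (iv F56362)) (tt N6090 F53225) (tt N7981 (iv F56954)) (tt N7050 F53226) (tt N6046 F53227) (tt N7984 (iv F56968)) (tt N7974 (iv F56932)) (tt N7985 D14443) (tt N6045 (iv D13508)))
theorem Q7052 : ∀ i, i < 7052 → P i := stepQ 7051 Q7051 (allL N7051 (tt N7856 (iv F56366)) (tt N6091 F53228) (tt N7982 (iv F56956)) (tt N6805 F53229) (tt N7985 (iv F56970)) (tt N6431 F53230) (tt N7975 (iv F56935)) (tt N6046 (iv D13509)) (tt N6057 F53231))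
theorem Q7053 : ∀ i, i < 7053 → P i := stepQ 7052 Q7052 (allL N7052 (tt N7857 (iv F56371)) (tt N6372 F53232) (tt N6047 (iv D13510)) (tt N7055 (iv F53245)) (tt N7986 D14444) (tt N6049 F53233) (tt N6374 F53234) (tt N7969 (iv F56909)) (tt N7987 D14445))
theorem Q7054 : ∀ i, i < 7054 → P i := stepQ 7053 Q7053 (allL N7053 (tt N7858 (iv F56374)) (tt N6092 F53235) (tt N7986 (iv F56973)) (tt N7053 F53236) (tt N6047 (iv D13511)) (tt N6770 (iv F53239)) (tt N6400 F53237) (tt N6230 F53238) (tt N7988 D14446))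
theorem Q7055 : ∀ i, i < 7055 → P i := stepQ 7054 Q7054 (allL N7054 (tt N7859 (iv F56380)) (tt N6093 F53240) (tt N7987 (iv F56978)) (tt N6048 F53241) (tt N7988 (iv F56983)) (tt N6051 F53242) (tt N6401 F53243) (tt N7989 D14447) (tt N6047 (iv D13512)))
theorem Q7056 : ∀ i, i < 7056 → P i := stepQ 7055 Q7055 (allL N7055 (tt N7990 D14448) (tt N6049 (iv D13513)) (tt N6094 F53244) (tt N7052 F53245) (tt N7991 D14449) (tt N6372 F53246) (tt N6052 F53247) (tt N7971 (iv F56918)) (tt N7992 D14450))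
theorem Q7057 : ∀ i, i < 7057 → P i := stepQ 7056 Q7056 (allL N7056 (tt N7861 (iv F56388)) (tt N7991 (iv F56997)) (tt N6050 F53248) (tt N7993 D14451) (tt N6049 (iv D13514)) (tt N7994 D14452) (tt N6053 F53249) (tt N7972 (iv F56925)) (tt N7995 D14453))
theorem Q7058 : ∀ i, i < 7058 → P i := stepQ 7057 Q7057 (allL N7057 (tt N7862 (iv F56393)) (tt N7992 (iv F57002)) (tt N6051 F53250) (tt N7364 (iv F54525)) (tt N7995 (iv F57015)) (tt N7987 (iv F56979)) (tt N6054 F53251) (tt N7996 D14454) (tt N6049 (iv D13515)))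
theorem Q7059 : ∀ i, i < 7059 → P i := stepQ 7058 Q7058 (allL N7058 (tt N6703 F53252) (tt N6097 F53253) (tt N7994 (iv F57011)) (tt N6060 F53254) (tt N6770 F53255) (tt N6050 (iv D13516)) (tt N7997 D14455) (tt N6774 F53256) (tt N7998 D14456))
theorem Q7060 : ∀ i, i < 7060 → P i := stepQ 7059 Q7059 (allL N7059 (tt N7863 (iv F56396)) (tt N6098 F53257) (tt N7995 (iv F57014)) (tt N6061 F53258) (tt N6051 F53259) (tt N7998 (iv F57029)) (tt N6056 F53260) (tt N7999 D14457) (tt N6050 (iv D13517)))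
theorem Q7061 : ∀ i, i < 7061 → P i := stepQ 7060 Q7060 (allL N7060 (tt N7864 (iv F56402)) (tt N6099 F53261) (tt N7996 (iv F57017)) (tt N6495 F53262) (tt N7999 (iv F57031)) (tt N7989 (iv F56988)) (tt N6057 F53263) (tt N6051 (iv D13518)) (tt N7975 (iv F56936)))
theorem Q7062 : ∀ i, i < 7062 → P i := stepQ 7061 Q7061 (allL N7061 (tt N6052 (iv D13519)) (tt N7865 (iv F56406)) (tt N6100 F53264) (tt N7256 (iv F54122)) (tt N8000 D14458) (tt N6437 F53265) (tt N7990 (iv F56993)) (tt N7976 (iv F56940)) (tt N8001 D14459))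
theorem Q7063 : ∀ i, i < 7063 → P i := stepQ 7062 Q7062 (allL N7062 (tt N8000 (iv F57033)) (tt N6053 F53266) (tt N6101 F53267) (tt N8002 D14460) (tt N6052 (iv D13520)) (tt N8003 D14461) (tt N7991 (iv F57000)) (tt N7977 (iv F56946)) (tt N8004 D14462))
theorem Q7064 : ∀ i, i < 7064 → P i := stepQ 7063 Q7063 (allL N7063 (tt N8001 (iv F57037)) (tt N6054 F53268) (tt N6102 F53269) (tt N7367 (iv F54534)) (tt N8004 (iv F57047)) (tt N6439 F53270) (tt N7992 (iv F57006)) (tt N8005 D14463) (tt N6052 (iv D13521)))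
theorem Q7065 : ∀ i, i < 7065 → P i := stepQ 7064 Q7064 (allL N7064 (tt N7868 (iv F56415)) (tt N8002 (iv F57040)) (tt N6063 F53271) (tt N6053 (iv D13522)) (tt N7368 (iv F54537)) (tt N8006 D14464) (tt N7993 (iv F57008)) (tt N8007 D14465) (tt N8008 D14466))
theorem Q7066 : ∀ i, i < 7066 → P i := stepQ 7065 Q7065 (allL N7065 (tt N7869 (iv F56417)) (tt N8003 (iv F57042)) (tt N6055 F53272) (tt N8006 (iv F57052)) (tt N6441 F53273) (tt N6053 (iv D13523)) (tt N8009 D14467) (tt N7980 (iv F56953)) (tt N8010 D14468))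
theorem Q7067 : ∀ i, i < 7067 → P i := stepQ 7066 Q7066 (allL N7066 (tt N7870 (iv F56420)) (tt N8004 (iv F57045)) (tt N6056 F53274) (tt N8008 (iv F57055)) (tt N6054 F53275) (tt N8010 (iv F57060)) (tt N7995 (iv F57016)) (tt N8011 D14469) (tt N6053 (iv D13524)))
theorem Q7068 : ∀ i, i < 7068 → P i := stepQ 7067 Q7067 (allL N7067 (tt N7871 (iv F56423)) (tt N8005 (iv F57048)) (tt N6057 F53276) (tt N8012 D14470) (tt N8011 (iv F57062)) (tt N6443 F53277) (tt N7996 (iv F57018)) (tt N6054 (iv D13525)) (tt N7982 (iv F56958)))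
theorem Q7069 : ∀ i, i < 7069 → P i := stepQ 7068 Q7068 (allL N7068 (tt N7872 (iv F56426)) (tt N6106 F53278) (tt N8009 (iv F57056)) (tt N6067 F53279) (tt N6444 F53280) (tt N7997 (iv F57023)) (tt N6055 (iv D13526)) (tt N7983 (iv F56964)) (tt N8013 D14471))
theorem Q7070 : ∀ i, i < 7070 → P i := stepQ 7069 Q7069 (allL N7069 (tt N7873 (iv F56432)) (tt N6107 F53281) (tt N8010 (iv F57058)) (tt N6068 F53282) (tt N6445 F53283) (tt N6056 F53284) (tt N8013 (iv F57068)) (tt N8014 D14472) (tt N6055 (iv D13527)))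
theorem Q7071 : ∀ i, i < 7071 → P i := stepQ 7070 Q7070 (allL N7070 (tt N7874 (iv F56437)) (tt N6108 F53285) (tt N8011 (iv F57061)) (tt N8015 D14473) (tt N6057 F53286) (tt N8014 (iv F57071)) (tt N7999 (iv F57032)) (tt N6056 (iv D13528)) (tt N7985 (iv F56971)))
theorem Q7072 : ∀ i, i < 7072 → P i := stepQ 7071 Q7071 (allL N7071 (tt N7359 (iv F54507)) (tt N7071 F53287) (tt N7993 (iv F57007)) (tt N6058 (iv D13529)) (tt N7203 (iv F53898)) (tt N8016 D14474) (tt N6063 F53288) (tt N7844 (iv F56317)) (tt N8017 D14475))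
theorem Q7073 : ∀ i, i < 7073 → P i := stepQ 7072 Q7072 (allL N7072 (tt N6737 F53289) (tt N7072 F53290) (tt N6060 F53291) (tt N8016 (iv F57077)) (tt N7072 F53292) (tt N6058 (iv D13530)) (tt N8018 D14476) (tt N7072 F53293) (tt N8019 D14477))
theorem Q7074 : ∀ i, i < 7074 → P i := stepQ 7073 Q7073 (allL N7073 (tt N7629 (iv F55530)) (tt N7073 F53294) (tt N6061 F53295) (tt N8017 (iv F57079)) (tt N6059 F53296) (tt N8019 (iv F57091)) (tt N6065 F53297) (tt N8020 D14478) (tt N6058 (iv D13531)))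
theorem Q7075 : ∀ i, i < 7075 → P i := stepQ 7074 Q7074 (allL N7074 (tt N7630 (iv F55536)) (tt N7074 F53298) (tt N6062 F53299) (tt N7605 (iv F55407)) (tt N8020 (iv F57094)) (tt N7074 F53300) (tt N6066 F53301) (tt N6059 (iv D13532)) (tt N7074 F53302))
theorem Q7076 : ∀ i, i < 7076 → P i := stepQ 7075 Q7075 (allL N7075 (tt N6741 F53303) (tt N6109 F53304) (tt N8018 (iv F57083)) (tt N7997 (iv F57021)) (tt N7075 F53305) (tt N6067 F53306) (tt N6060 (iv D13533)) (tt N7075 F53307) (tt N8021 D14479))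
theorem Q7077 : ∀ i, i < 7077 → P i := stepQ 7076 Q7076 (allL N7076 (tt N6610 F53308) (tt N6110 F53309) (tt N8019 (iv F57089)) (tt N7998 (iv F57027)) (tt N7076 F53310) (tt N6061 F53311) (tt N8021 (iv F57101)) (tt N8022 D14480) (tt N6060 (iv D13534)))
theorem Q7078 : ∀ i, i < 7078 → P i := stepQ 7077 Q7077 (allL N7077 (tt N7875 (iv F56440)) (tt N6111 F53312) (tt N8020 (iv F57093)) (tt N8023 D14481) (tt N6062 F53313) (tt N8022 (iv F57106)) (tt N6069 F53314) (tt N6061 (iv D13535)) (tt N7077 F53315))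
theorem Q7079 : ∀ i, i < 7079 → P i := stepQ 7078 Q7078 (allL N7078 (tt N7876 (iv F56446)) (tt N7078 F53316) (tt N8006 (iv F57051)) (tt N6064 F53317) (tt N8024 D14482) (tt N6063 (iv D13536)) (tt N8025 D14483) (tt N8026 D14484) (tt N8027 D14485))
theorem Q7080 : ∀ i, i < 7080 → P i := stepQ 7079 Q7079 (allL N7079 (tt N7877 (iv F56448)) (tt N7079 F53318) (tt N8007 (iv F57053)) (tt N7079 F53319) (tt N7375 (iv F54555)) (tt N8026 (iv F57119)) (tt N7844 (iv F56316)) (tt N6063 (iv D13537)) (tt N8028 D14486))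
theorem Q7081 : ∀ i, i < 7081 → P i := stepQ 7080 Q7080 (allL N7080 (tt N7878 (iv F56453)) (tt N7080 F53320) (tt N8008 (iv F57054)) (tt N6065 F53321) (tt N7376 (iv F54559)) (tt N8027 (iv F57122)) (tt N8017 (iv F57080)) (tt N8029 D14487) (tt N6063 (iv D13538)))
theorem Q7082 : ∀ i, i < 7082 → P i := stepQ 7081 Q7081 (allL N7081 (tt N7879 (iv F56455)) (tt N7081 F53322) (tt N6067 F53323) (tt N8025 (iv F57116)) (tt N6073 F53324) (tt N8018 (iv F57085)) (tt N6064 (iv D13539)) (tt N7081 F53325) (tt N8030 D14488))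
theorem Q7083 : ∀ i, i < 7083 → P i := stepQ 7082 Q7082 (allL N7082 (tt N7880 (iv F56461)) (tt N7082 F53326) (tt N6068 F53327) (tt N8027 (iv F57121)) (tt N6074 F53328) (tt N6065 F53329) (tt N8030 (iv F57129)) (tt N8031 D14489) (tt N6064 (iv D13540)))
theorem Q7084 : ∀ i, i < 7084 → P i := stepQ 7083 Q7083 (allL N7083 (tt N7881 (iv F56465)) (tt N7083 F53330) (tt N6069 F53331) (tt N8032 D14490) (tt N6066 F53332) (tt N8031 (iv F57133)) (tt N8020 (iv F57095)) (tt N6065 (iv D13541)) (tt N7083 F53333))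
theorem Q7085 : ∀ i, i < 7085 → P i := stepQ 7084 Q7084 (allL N7084 (tt N7635 (iv F55564)) (tt N7084 F53334) (tt N6819 F53335) (tt N6066 (iv D13542)) (tt N8033 D14491) (tt N6076 F53336) (tt N7605 (iv F55409)) (tt N7378 (iv F54569)) (tt N7084 F53337))
theorem Q7086 : ∀ i, i < 7086 → P i := stepQ 7085 Q7085 (allL N7085 (tt N7882 (iv F56469)) (tt N6112 F53338) (tt N8030 (iv F57127)) (tt N8013 (iv F57066)) (tt N6077 F53339) (tt N8021 (iv F57100)) (tt N6068 F53340) (tt N8034 D14492) (tt N6067 (iv D13543)))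
theorem Q7087 : ∀ i, i < 7087 → P i := stepQ 7086 Q7086 (allL N7086 (tt N7883 (iv F56475)) (tt N6113 F53341) (tt N8031 (iv F57131)) (tt N8035 D14493) (tt N6078 F53342) (tt N6069 F53343) (tt N8034 (iv F57144)) (tt N6068 (iv D13544)) (tt N7086 F53344))
theorem Q7088 : ∀ i, i < 7088 → P i := stepQ 7087 Q7087 (allL N7087 (tt N7884 (iv F56481)) (tt N6114 F53345) (tt N8036 D14494) (tt N6069 (iv D13545)) (tt N6822 F53346) (tt N8035 (iv F57147)) (tt N8023 (iv F57111)) (tt N8015 (iv F57074)) (tt N7087 F53347))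
theorem Q7089 : ∀ i, i < 7089 → P i := stepQ 7088 Q7088 (allL N7088 (tt N7885 (iv F56485)) (tt N7088 F53348) (tt N6464 F53349) (tt N8024 (iv F57114)) (tt N6070 (iv D13546)) (tt N7379 (iv F54573)) (tt N7651 (iv F55630)) (tt N7650 F55625) (tt N8037 D14495))
theorem Q7090 : ∀ i, i < 7090 → P i := stepQ 7089 Q7089 (allL N7089 (tt N7886 (iv F56487)) (tt N7089 F53350) (tt N6465 F53351) (tt N6073 F53352) (tt N7651 (iv F55628)) (tt N7089 F53353) (tt N6070 (iv D13547)) (tt N7649 F55620) (tt N8038 D14496))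
theorem Q7091 : ∀ i, i < 7091 → P i := stepQ 7090 Q7090 (allL N7090 (tt N7787 (iv F56083)) (tt N7090 F53354) (tt N6466 F53355) (tt N7090 F53356) (tt N7650 (iv F55624)) (tt N6071 F53357) (tt N7649 F55619) (tt N6070 (iv D13548)) (tt N7724 F55911))
theorem Q7092 : ∀ i, i < 7092 → P i := stepQ 7091 Q7091 (allL N7091 (tt N7788 (iv F56089)) (tt N7091 F53358) (tt N6467 F53359) (tt N6074 F53360) (tt N8037 (iv F57153)) (tt N6072 F53361) (tt N8038 (iv F57158)) (tt N7725 (iv F55917)) (tt N6070 (iv D13549)))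
theorem Q7093 : ∀ i, i < 7093 → P i := stepQ 7092 Q7092 (allL N7092 (tt N7887 (iv F56491)) (tt N7092 F53362) (tt N6077 F53363) (tt N8038 (iv F57156)) (tt N8030 (iv F57128)) (tt N7092 F53364) (tt N6074 F53365) (tt N8039 D14497) (tt N6073 (iv D13550)))
theorem Q7094 : ∀ i, i < 7094 → P i := stepQ 7093 Q7093 (allL N7093 (tt N7790 (iv F56100)) (tt N7093 F53366) (tt N6078 F53367) (tt N7727 (iv F55926)) (tt N8031 (iv F57132)) (tt N6075 F53368) (tt N8039 (iv F57162)) (tt N6074 (iv D13551)) (tt N7093 F53369))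
theorem Q7095 : ∀ i, i < 7095 → P i := stepQ 7094 Q7094 (allL N7094 (tt N7888 (iv F56495)) (tt N6115 F53370) (tt N8039 (iv F57160)) (tt N7841 (iv F56298)) (tt N8034 (iv F57142)) (tt N7094 F53371) (tt N6078 F53372) (tt N6077 (iv D13552)) (tt N7094 F53373))
theorem Q7096 : ∀ i, i < 7096 → P i := stepQ 7095 Q7095 (allL N7095 (tt N7792 (iv F56110)) (tt N6116 F53374) (tt N7729 (iv F55936)) (tt N6078 (iv D13553)) (tt N7926 (iv F56689)) (tt N6079 F53375) (tt N7841 (iv F56301)) (tt N6475 F53376) (tt N7095 F53377))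
theorem Q7097 : ∀ i, i < 7097 → P i := stepQ 7096 Q7096 (allL N7096 (tt N6121 F53378) (tt N7968 (iv F56899)) (tt N6182 F53379) (tt N6198 F53380) (tt N6082 F53381) (tt N7096 F53382) (tt N6234 F53383) (tt N6189 F53384) (tt N6080 (iv D13554)))
theorem Q7098 : ∀ i, i < 7098 → P i := stepQ 7097 Q7097 (allL N7097 (tt N6122 F53385) (tt N7970 (iv F56910)) (tt N6232 F53386) (tt N6082 F53387) (tt N6231 F53388) (tt N6085 F53389) (tt N6397 F53390) (tt N8040 D14498) (tt N6081 (iv D13555)))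
theorem Q7099 : ∀ i, i < 7099 → P i := stepQ 7098 Q7098 (allL N7098 (tt N6377 F53391) (tt N6083 (iv D13556)) (tt N7971 (iv F56915)) (tt N6183 F53392) (tt N6750 F53393) (tt N6216 F53394) (tt N6086 F53395) (tt N6094 F53396) (tt N8041 D14499))
theorem Q7100 : ∀ i, i < 7100 → P i := stepQ 7099 Q7099 (allL N7099 (tt N6123 F53397) (tt N8041 (iv F57172)) (tt N6085 F53398) (tt N6184 F53399) (tt N6778 F53400) (tt N6232 F53401) (tt N6088 F53402) (tt N8042 D14500) (tt N6083 (iv D13557)))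
theorem Q7101 : ∀ i, i < 7101 → P i := stepQ 7100 Q7100 (allL N7100 (tt N6124 F53403) (tt N7974 (iv F56928)) (tt N6778 F53404) (tt N7100 F53405) (tt N6085 F53406) (tt N6776 F53407) (tt N6090 F53408) (tt N8043 D14501) (tt N6084 (iv D13558)))
theorem Q7102 : ∀ i, i < 7102 → P i := stepQ 7101 Q7101 (allL N7101 (tt N6125 F53409) (tt N7975 (iv F56933)) (tt N8042 (iv F57178)) (tt N6484 F53410) (tt N8043 (iv F57186)) (tt N8040 (iv F57168)) (tt N6091 F53411) (tt N6085 (iv D13559)) (tt N6099 F53412))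
theorem Q7103 : ∀ i, i < 7103 → P i := stepQ 7102 Q7102 (allL N7102 (tt N6086 (iv D13560)) (tt N6126 F53413) (tt N7976 (iv F56937)) (tt N6186 F53414) (tt N6810 (iv F53418)) (tt N6479 F53415) (tt N6377 F53416) (tt N6100 F53417) (tt N8044 D14502))
theorem Q7104 : ∀ i, i < 7104 → P i := stepQ 7103 Q7103 (allL N7103 (tt N6810 F53419) (tt N6087 F53420) (tt N7977 (iv F56944)) (tt N6757 F53421) (tt N6086 (iv D13561)) (tt N8045 D14503) (tt N6750 F53422) (tt N6101 F53423) (tt N8046 D14504))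
theorem Q7105 : ∀ i, i < 7105 → P i := stepQ 7104 Q7104 (allL N7104 (tt N8044 (iv F57190)) (tt N6088 F53424) (tt N7978 (iv F56948)) (tt N6188 F53425) (tt N8046 (iv F57205)) (tt N6481 F53426) (tt N8041 (iv F57176)) (tt N8047 D14505) (tt N6086 (iv D13562)))
theorem Q7106 : ∀ i, i < 7106 → P i := stepQ 7105 Q7105 (allL N7105 (tt N6128 F53427) (tt N8045 (iv F57197)) (tt N6089 F53428) (tt N6611 F53429) (tt N6482 F53430) (tt N6087 (iv D13563)) (tt N6518 F53431) (tt N6103 F53432) (tt N8048 D14506))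
theorem Q7107 : ∀ i, i < 7107 → P i := stepQ 7106 Q7106 (allL N7106 (tt N6129 F53433) (tt N8046 (iv F57203)) (tt N6090 F53434) (tt N6780 F53435) (tt N6088 F53436) (tt N8048 (iv F57214)) (tt N6778 F53437) (tt N8049 D14507) (tt N6087 (iv D13564)))
theorem Q7108 : ∀ i, i < 7108 → P i := stepQ 7107 Q7107 (allL N7107 (tt N6130 F53438) (tt N8047 (iv F57207)) (tt N6091 F53439) (tt N8040 (iv F57166)) (tt N8049 (iv F57218)) (tt N6484 F53440) (tt N8042 (iv F57182)) (tt N6088 (iv D13565)) (tt N6105 F53441))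
theorem Q7109 : ∀ i, i < 7109 → P i := stepQ 7108 Q7108 (allL N7108 (tt N6131 F53442) (tt N7983 (iv F56960)) (tt N6518 F53443) (tt N7108 F53444) (tt N6485 F53445) (tt N6351 F53446) (tt N6089 (iv D13566)) (tt N6106 F53447) (tt N8050 D14508))
theorem Q7110 : ∀ i, i < 7110 → P i := stepQ 7109 Q7109 (allL N7109 (tt N6132 F53448) (tt N7984 (iv F56965)) (tt N8048 (iv F57211)) (tt N7109 F53449) (tt N6486 F53450) (tt N6090 F53451) (tt N8050 (iv F57226)) (tt N8051 D14509) (tt N6089 (iv D13567)))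
theorem Q7111 : ∀ i, i < 7111 → P i := stepQ 7110 Q7110 (allL N7110 (tt N6133 F53452) (tt N7985 (iv F56969)) (tt N8049 (iv F57217)) (tt N8052 D14510) (tt N6091 F53453) (tt N8051 (iv F57229)) (tt N8043 (iv F57188)) (tt N6090 (iv D13568)) (tt N6108 F53454))
theorem Q7112 : ∀ i, i < 7112 → P i := stepQ 7111 Q7111 (allL N7111 (tt N6134 F53455) (tt N7988 (iv F56981)) (tt N6227 F53456) (tt N7111 F53457) (tt N6093 F53458) (tt N6771 F53459) (tt N6403 F53460) (tt N8053 D14511) (tt N6092 (iv D13569)))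
theorem Q7113 : ∀ i, i < 7113 → P i := stepQ 7112 Q7112 (allL N7112 (tt N6135 F53461) (tt N7989 (iv F56986)) (tt N6399 F53462) (tt N6105 F53463) (tt N8053 (iv F57237)) (tt N6099 F53464) (tt N6404 F53465) (tt N6093 (iv D13570)) (tt N8040 (iv F57170)))
theorem Q7114 : ∀ i, i < 7114 → P i := stepQ 7113 Q7113 (allL N7113 (tt N6094 (iv D13571)) (tt N6136 F53466) (tt N7990 (iv F56990)) (tt N6118 F53467) (tt N6803 (iv F53471)) (tt N6213 F53468) (tt N6100 F53469) (tt N6377 F53470) (tt N8054 D14512))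
theorem Q7115 : ∀ i, i < 7115 → P i := stepQ 7114 Q7114 (allL N7114 (tt N6803 F53472) (tt N6095 F53473) (tt N7991 (iv F56998)) (tt N7114 F53474) (tt N6094 (iv D13572)) (tt N6745 F53475) (tt N6101 F53476) (tt N6750 F53477) (tt N8055 D14513))
theorem Q7116 : ∀ i, i < 7116 → P i := stepQ 7115 Q7115 (allL N7115 (tt N8054 (iv F57241)) (tt N6096 F53478) (tt N7992 (iv F57003)) (tt N6119 F53479) (tt N8055 (iv F57250)) (tt N6373 F53480) (tt N6102 F53481) (tt N8056 D14514) (tt N6094 (iv D13573)))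
theorem Q7117 : ∀ i, i < 7117 → P i := stepQ 7116 Q7116 (allL N7116 (tt N6138 F53482) (tt N8055 (iv F57248)) (tt N6098 F53483) (tt N7116 F53484) (tt N6096 F53485) (tt N6772 F53486) (tt N6104 F53487) (tt N8057 D14515) (tt N6095 (iv D13574)))
theorem Q7118 : ∀ i, i < 7118 → P i := stepQ 7117 Q7117 (allL N7117 (tt N6139 F53488) (tt N8056 (iv F57253)) (tt N6099 F53489) (tt N6404 F53490) (tt N8057 (iv F57259)) (tt N6399 F53491) (tt N6105 F53492) (tt N6096 (iv D13575)) (tt N8042 (iv F57183)))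
theorem Q7119 : ∀ i, i < 7119 → P i := stepQ 7118 Q7118 (allL N7118 (tt N6140 F53493) (tt N7997 (iv F57020)) (tt N6508 F53494) (tt N6109 F53495) (tt N6339 F53496) (tt N6106 F53497) (tt N6097 (iv D13576)) (tt N6351 F53498) (tt N8058 D14516))
theorem Q7120 : ∀ i, i < 7120 → P i := stepQ 7119 Q7119 (allL N7119 (tt N6141 F53499) (tt N7998 (iv F57026)) (tt N6772 F53500) (tt N6110 F53501) (tt N6771 F53502) (tt N6098 F53503) (tt N8058 (iv F57268)) (tt N8059 D14517) (tt N6097 (iv D13577)))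
theorem Q7121 : ∀ i, i < 7121 → P i := stepQ 7120 Q7120 (allL N7120 (tt N6142 F53504) (tt N7999 (iv F57030)) (tt N8057 (iv F57258)) (tt N8060 D14518) (tt N6099 F53505) (tt N8059 (iv F57272)) (tt N6108 F53506) (tt N6098 (iv D13578)) (tt N8043 (iv F57189)))
theorem Q7122 : ∀ i, i < 7122 → P i := stepQ 7121 Q7121 (allL N7121 (tt N6101 F53507) (tt N6143 F53508) (tt N8000 (iv F57034)) (tt N7121 F53509) (tt N6100 (iv D13579)) (tt N8061 D14519) (tt N6803 F53510) (tt N6810 F53511) (tt N8062 D14520))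
theorem Q7123 : ∀ i, i < 7123 → P i := stepQ 7122 Q7122 (allL N7122 (tt N6102 F53512) (tt N6144 F53513) (tt N8001 (iv F57038)) (tt N6120 F53514) (tt N8062 (iv F57287)) (tt N6492 F53515) (tt N8054 (iv F57246)) (tt N8063 D14521) (tt N6100 (iv D13580)))
theorem Q7124 : ∀ i, i < 7124 → P i := stepQ 7123 Q7123 (allL N7123 (tt N8061 (iv F57278)) (tt N6103 F53516) (tt N8003 (iv F57043)) (tt N7123 F53517) (tt N6493 F53518) (tt N6101 (iv D13581)) (tt N8064 D14522) (tt N8045 (iv F57201)) (tt N8065 D14523))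
theorem Q7125 : ∀ i, i < 7125 → P i := stepQ 7124 Q7124 (allL N7124 (tt N8062 (iv F57284)) (tt N6104 F53519) (tt N8004 (iv F57046)) (tt N7124 F53520) (tt N6102 F53521) (tt N8065 (iv F57301)) (tt N8055 (iv F57252)) (tt N8066 D14524) (tt N6101 (iv D13582)))
theorem Q7126 : ∀ i, i < 7126 → P i := stepQ 7125 Q7125 (allL N7125 (tt N8063 (iv F57289)) (tt N6105 F53522) (tt N8005 (iv F57049)) (tt N7989 (iv F56987)) (tt N8066 (iv F57303)) (tt N6495 F53523) (tt N8056 (iv F57256)) (tt N6102 (iv D13583)) (tt N8047 (iv F57209)))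
theorem Q7127 : ∀ i, i < 7127 → P i := stepQ 7126 Q7126 (allL N7126 (tt N6148 F53524) (tt N8064 (iv F57293)) (tt N6106 F53525) (tt N7126 F53526) (tt N6496 F53527) (tt N6508 F53528) (tt N6103 (iv D13584)) (tt N6518 F53529) (tt N8067 D14525))
theorem Q7128 : ∀ i, i < 7128 → P i := stepQ 7127 Q7127 (allL N7127 (tt N6149 F53530) (tt N8065 (iv F57298)) (tt N6107 F53531) (tt N7127 F53532) (tt N6497 F53533) (tt N6104 F53534) (tt N8067 (iv F57309)) (tt N8068 D14526) (tt N6103 (iv D13585)))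
theorem Q7129 : ∀ i, i < 7129 → P i := stepQ 7128 Q7128 (allL N7128 (tt N6150 F53535) (tt N8066 (iv F57302)) (tt N6108 F53536) (tt N8069 D14527) (tt N6105 F53537) (tt N8068 (iv F57313)) (tt N8057 (iv F57261)) (tt N6104 (iv D13586)) (tt N8049 (iv F57220)))
theorem Q7130 : ∀ i, i < 7130 → P i := stepQ 7129 Q7129 (allL N7129 (tt N6151 F53538) (tt N8013 (iv F57065)) (tt N8067 (iv F57305)) (tt N6112 F53539) (tt N6499 F53540) (tt N8058 (iv F57267)) (tt N6107 F53541) (tt N8070 D14528) (tt N6106 (iv D13587)))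
theorem Q7131 : ∀ i, i < 7131 → P i := stepQ 7130 Q7130 (allL N7130 (tt N6152 F53542) (tt N8014 (iv F57069)) (tt N8068 (iv F57311)) (tt N8071 D14529) (tt N6500 F53543) (tt N6108 F53544) (tt N8070 (iv F57318)) (tt N6107 (iv D13588)) (tt N8051 (iv F57230)))
theorem Q7132 : ∀ i, i < 7132 → P i := stepQ 7131 Q7131 (allL N7131 (tt N6153 F53545) (tt N8015 (iv F57072)) (tt N8072 D14530) (tt N6108 (iv D13589)) (tt N6840 F53546) (tt N8071 (iv F57320)) (tt N8060 (iv F57276)) (tt N6114 F53547) (tt N8052 (iv F57234)))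
theorem Q7133 : ∀ i, i < 7133 → P i := stepQ 7132 Q7132 (allL N7132 (tt N6154 F53548) (tt N8021 (iv F57098)) (tt N7132 F53549) (tt N8058 (iv F57265)) (tt N7132 F53550) (tt N6112 F53551) (tt N6110 F53552) (tt N6897 (iv F53553)) (tt N6109 (iv D13590)))
theorem Q7134 : ∀ i, i < 7134 → P i := stepQ 7133 Q7133 (allL N7133 (tt N6155 F53554) (tt N8022 (iv F57104)) (tt N7133 F53555) (tt N8073 D14531) (tt N7133 F53556) (tt N6111 F53557) (tt N6897 F53558) (tt N6110 (iv D13591)) (tt N7133 F53559))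
theorem Q7135 : ∀ i, i < 7135 → P i := stepQ 7134 Q7134 (allL N7134 (tt N6156 F53560) (tt N8023 (iv F57109)) (tt N8074 D14532) (tt N6111 (iv D13592)) (tt N6603 F53561) (tt N8073 (iv F57326)) (tt N6114 F53562) (tt N8060 (iv F57277)) (tt N7134 F53563))
theorem Q7136 : ∀ i, i < 7136 → P i := stepQ 7135 Q7135 (allL N7135 (tt N6157 F53564) (tt N8034 (iv F57141)) (tt N7135 F53565) (tt N7930 (iv F56708)) (tt N6115 F53566) (tt N6897 F53567) (tt N6113 F53568) (tt N6112 (iv D13593)) (tt N7135 F53569))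
theorem Q7137 : ∀ i, i < 7137 → P i := stepQ 7136 Q7136 (allL N7136 (tt N6158 F53570) (tt N8035 (iv F57146)) (tt N8075 D14533) (tt N6113 (iv D13594)) (tt N7927 (iv F56695)) (tt N6114 F53571) (tt N7930 (iv F56709)) (tt N8071 (iv F57321)) (tt N7136 F53572))
theorem Q7138 : ∀ i, i < 7138 → P i := stepQ 7137 Q7137 (allL N7137 (tt N6159 F53573) (tt N8076 D14534) (tt N6114 (iv D13595)) (tt N7137 F53574) (tt N6843 F53575) (tt N8075 (iv F57337)) (tt N8074 (iv F57332)) (tt N8072 (iv F57324)) (tt N7137 F53576))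
theorem Q7139 : ∀ i, i < 7139 → P i := stepQ 7138 Q7138 (allL N7138 (tt N6119 F53577) (tt N6160 F53578) (tt N6929 F53579) (tt N8054 (iv F57243)) (tt N7138 F53580) (tt N6214 F53581) (tt N6120 F53582) (tt N6265 F53583) (tt N6118 (iv D13596)))
theorem Q7140 : ∀ i, i < 7140 → P i := stepQ 7139 Q7139 (allL N7139 (tt N8040 (iv F57164)) (tt N7931 (iv F56712)) (tt N6248 F53584) (tt N6130 F53585) (tt N6247 F53586) (tt N6125 F53587) (tt N6410 F53588) (tt N6122 (iv D13597)) (tt N6135 F53589))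
theorem Q7141 : ∀ i, i < 7141 → P i := stepQ 7140 Q7140 (allL N7140 (tt N8042 (iv F57177)) (tt N6413 F53590) (tt N6125 F53591) (tt N6410 F53592) (tt N6792 F53593) (tt N6248 F53594) (tt N6130 F53595) (tt N6123 (iv D13598)) (tt N6139 F53596))
theorem Q7142 : ∀ i, i < 7142 → P i := stepQ 7141 Q7141 (allL N7141 (tt N8043 (iv F57184)) (tt N7933 (iv F56725)) (tt N6792 F53597) (tt N8077 D14535) (tt N6125 F53598) (tt N6790 F53599) (tt N6133 F53600) (tt N6124 (iv D13599)) (tt N6142 F53601))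
theorem Q7143 : ∀ i, i < 7143 → P i := stepQ 7142 Q7142 (allL N7142 (tt N6127 F53602) (tt N8044 (iv F57191)) (tt N7934 (iv F56732)) (tt N6190 F53603) (tt N6838 F53604) (tt N6509 F53605) (tt N6405 F53606) (tt N8078 D14536) (tt N6126 (iv D13600)))
theorem Q7144 : ∀ i, i < 7144 → P i := stepQ 7143 Q7143 (allL N7143 (tt N8078 (iv F57348)) (tt N6130 F53607) (tt N7935 (iv F56738)) (tt N7931 (iv F56714)) (tt N6850 F53608) (tt N6511 F53609) (tt N6413 F53610) (tt N6127 (iv D13601)) (tt N6147 F53611))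
theorem Q7145 : ∀ i, i < 7145 → P i := stepQ 7144 Q7144 (allL N7144 (tt N8048 (iv F57210)) (tt N6523 F53612) (tt N6132 F53613) (tt N6614 F53614) (tt N6512 F53615) (tt N6129 F53616) (tt N6521 F53617) (tt N8079 D14537) (tt N6128 (iv D13602)))
theorem Q7146 : ∀ i, i < 7146 → P i := stepQ 7145 Q7145 (allL N7145 (tt N8049 (iv F57216)) (tt N6850 F53618) (tt N6133 F53619) (tt N8080 D14538) (tt N6130 F53620) (tt N8079 (iv F57356)) (tt N6792 F53621) (tt N6129 (iv D13603)) (tt N6150 F53622))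
theorem Q7147 : ∀ i, i < 7147 → P i := stepQ 7146 Q7146 (allL N7146 (tt N8050 (iv F57221)) (tt N6355 F53623) (tt N6521 F53624) (tt N7146 F53625) (tt N6514 F53626) (tt N6353 F53627) (tt N6132 F53628) (tt N8081 D14539) (tt N6131 (iv D13604)))
theorem Q7148 : ∀ i, i < 7148 → P i := stepQ 7147 Q7147 (allL N7147 (tt N8051 (iv F57227)) (tt N7938 (iv F56754)) (tt N8079 (iv F57354)) (tt N8082 D14540) (tt N6515 F53629) (tt N6133 F53630) (tt N8081 (iv F57369)) (tt N6132 (iv D13605)) (tt N6152 F53631))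
theorem Q7149 : ∀ i, i < 7149 → P i := stepQ 7148 Q7148 (allL N7148 (tt N8052 (iv F57231)) (tt N7939 (iv F56760)) (tt N8083 D14541) (tt N6133 (iv D13606)) (tt N6849 F53632) (tt N8082 (iv F57371)) (tt N8077 (iv F57345)) (tt N7148 F53633) (tt N6153 F53634))
theorem Q7150 : ∀ i, i < 7150 → P i := stepQ 7149 Q7149 (allL N7149 (tt N8053 (iv F57235)) (tt N7941 (iv F56771)) (tt N6242 F53635) (tt N8084 D14542) (tt N6135 F53636) (tt N6788 F53637) (tt N6412 F53638) (tt N6134 (iv D13607)) (tt N6247 F53639))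
theorem Q7151 : ∀ i, i < 7151 → P i := stepQ 7150 Q7150 (allL N7150 (tt N6137 F53640) (tt N8054 (iv F57242)) (tt N7942 (iv F56778)) (tt N6160 F53641) (tt N6836 F53642) (tt N6229 F53643) (tt N6144 F53644) (tt N8085 D14543) (tt N6136 (iv D13608)))
theorem Q7152 : ∀ i, i < 7152 → P i := stepQ 7151 Q7151 (allL N7151 (tt N8085 (iv F57384)) (tt N6139 F53645) (tt N7943 (iv F56784)) (tt N6346 F53646) (tt N6848 F53647) (tt N6244 F53648) (tt N6147 F53649) (tt N6137 (iv D13609)) (tt N6413 F53650))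
theorem Q7153 : ∀ i, i < 7153 → P i := stepQ 7152 Q7152 (allL N7152 (tt N8057 (iv F57257)) (tt N6848 F53651) (tt N6142 F53652) (tt N8086 D14544) (tt N6139 F53653) (tt N6789 F53654) (tt N6150 F53655) (tt N6138 (iv D13610)) (tt N6792 F53656))
theorem Q7154 : ∀ i, i < 7154 → P i := stepQ 7153 Q7153 (allL N7153 (tt N8058 (iv F57263)) (tt N6341 F53657) (tt N6510 F53658) (tt N6154 F53659) (tt N6340 F53660) (tt N6151 F53661) (tt N6141 F53662) (tt N8087 D14545) (tt N6140 (iv D13611)))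
theorem Q7155 : ∀ i, i < 7155 → P i := stepQ 7154 Q7154 (allL N7154 (tt N8059 (iv F57269)) (tt N6528 F53663) (tt N6789 F53664) (tt N8088 D14546) (tt N6788 F53665) (tt N6142 F53666) (tt N8087 (iv F57401)) (tt N6141 (iv D13612)) (tt N6790 F53667))
theorem Q7156 : ∀ i, i < 7156 → P i := stepQ 7155 Q7155 (allL N7155 (tt N8060 (iv F57274)) (tt N7945 (iv F56794)) (tt N8089 D14547) (tt N6142 (iv D13613)) (tt N6525 F53668) (tt N8088 (iv F57404)) (tt N6153 F53669) (tt N6156 F53670) (tt N8077 (iv F57347)))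
theorem Q7157 : ∀ i, i < 7157 → P i := stepQ 7156 Q7156 (allL N7156 (tt N6145 F53671) (tt N8061 (iv F57279)) (tt N6485 F53672) (tt N7156 F53673) (tt N6518 F53674) (tt N6143 (iv D13614)) (tt N6482 F53675) (tt N6496 F53676) (tt N8090 D14548))
theorem Q7158 : ∀ i, i < 7158 → P i := stepQ 7157 Q7157 (allL N7157 (tt N6146 F53677) (tt N8062 (iv F57285)) (tt N7946 (iv F56801)) (tt N7157 F53678) (tt N6144 F53679) (tt N8090 (iv F57415)) (tt N6836 F53680) (tt N8091 D14549) (tt N6143 (iv D13615)))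
theorem Q7159 : ∀ i, i < 7159 → P i := stepQ 7158 Q7158 (allL N7158 (tt N6147 F53681) (tt N8063 (iv F57290)) (tt N7947 (iv F56807)) (tt N7904 (iv F56582)) (tt N8091 (iv F57418)) (tt N6520 F53682) (tt N8085 (iv F57388)) (tt N6144 (iv D13616)) (tt N8078 (iv F57352)))
theorem Q7160 : ∀ i, i < 7160 → P i := stepQ 7159 Q7159 (allL N7159 (tt N8090 (iv F57411)) (tt N6149 F53683) (tt N6514 F53684) (tt N7159 F53685) (tt N6521 F53686) (tt N6146 F53687) (tt N6512 F53688) (tt N8092 D14550) (tt N6145 (iv D13617)))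
theorem Q7161 : ∀ i, i < 7161 → P i := stepQ 7160 Q7160 (allL N7160 (tt N8091 (iv F57417)) (tt N6150 F53689) (tt N7948 (iv F56810)) (tt N8093 D14551) (tt N6147 F53690) (tt N8092 (iv F57424)) (tt N6848 F53691) (tt N6146 (iv D13618)) (tt N6850 F53692))
theorem Q7162 : ∀ i, i < 7162 → P i := stepQ 7161 Q7161 (allL N7161 (tt N8067 (iv F57304)) (tt N6512 F53693) (tt N6151 F53694) (tt N7161 F53695) (tt N6523 F53696) (tt N6510 F53697) (tt N6149 F53698) (tt N8094 D14552) (tt N6148 (iv D13619)))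
theorem Q7163 : ∀ i, i < 7163 → P i := stepQ 7162 Q7162 (allL N7162 (tt N8068 (iv F57310)) (tt N8092 (iv F57421)) (tt N6152 F53699) (tt N8095 D14553) (tt N6524 F53700) (tt N6150 F53701) (tt N8094 (iv F57435)) (tt N6149 (iv D13620)) (tt N8079 (iv F57358)))
theorem Q7164 : ∀ i, i < 7164 → P i := stepQ 7163 Q7163 (allL N7163 (tt N8069 (iv F57314)) (tt N8093 (iv F57427)) (tt N8096 D14554) (tt N6150 (iv D13621)) (tt N8084 (iv F57379)) (tt N8095 (iv F57437)) (tt N8086 (iv F57393)) (tt N7163 F53702) (tt N8080 (iv F57363)))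
theorem Q7165 : ∀ i, i < 7165 → P i := stepQ 7164 Q7164 (allL N7164 (tt N8070 (iv F57316)) (tt N7952 (iv F56834)) (tt N8094 (iv F57432)) (tt N7951 (iv F56830)) (tt N6526 F53703) (tt N8087 (iv F57400)) (tt N6152 F53704) (tt N6151 (iv D13622)) (tt N8081 (iv F57370)))
theorem Q7166 : ∀ i, i < 7166 → P i := stepQ 7165 Q7165 (allL N7165 (tt N8071 (iv F57319)) (tt N7953 (iv F56841)) (tt N8097 D14555) (tt N6152 (iv D13623)) (tt N7944 (iv F56790)) (tt N6153 F53705) (tt N7951 (iv F56831)) (tt N6158 F53706) (tt N8082 (iv F57373)))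
theorem Q7167 : ∀ i, i < 7167 → P i := stepQ 7166 Q7166 (allL N7166 (tt N8072 (iv F57322)) (tt N8098 D14556) (tt N6153 (iv D13624)) (tt N8096 (iv F57439)) (tt N6852 F53707) (tt N8097 (iv F57445)) (tt N8089 (iv F57409)) (tt N6159 F53708) (tt N8083 (iv F57377)))
theorem Q7168 : ∀ i, i < 7168 → P i := stepQ 7167 Q7167 (allL N7167 (tt N8073 (iv F57325)) (tt N6619 F53709) (tt N8099 D14557) (tt N6155 (iv D13625)) (tt N8100 D14558) (tt N6156 F53710) (tt N6856 F53711) (tt N8088 (iv F57406)) (tt N7167 F53712))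
theorem Q7169 : ∀ i, i < 7169 → P i := stepQ 7168 Q7168 (allL N7168 (tt N8074 (iv F57329)) (tt N8100 (iv F57457)) (tt N6156 (iv D13626)) (tt N7168 F53713) (tt N6619 F53714) (tt N8099 (iv F57453)) (tt N6159 F53715) (tt N8089 (iv F57410)) (tt N7168 F53716))
theorem Q7170 : ∀ i, i < 7170 → P i := stepQ 7169 Q7169 (allL N7169 (tt N8075 (iv F57334)) (tt N6367 (iv F53722)) (tt N6158 (iv D13627)) (tt N7169 F53717) (tt N6366 F53718) (tt N6159 F53719) (tt N6797 F53720) (tt N8097 (iv F57447)) (tt N7169 F53721))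
theorem Q7171 : ∀ i, i < 7171 → P i := stepQ 7170 Q7170 (allL N7170 (tt N8101 D14559) (tt N6159 (iv D13628)) (tt N7956 (iv F56857)) (tt N7170 F53723) (tt N6856 F53724) (tt N6367 F53725) (tt N8100 (iv F57461)) (tt N8098 (iv F57450)) (tt N7170 F53726))
theorem Q7172 : ∀ i, i < 7172 → P i := stepQ 7171 Q7171 (allL N7171 (tt N7171 F53727) (tt N7958 (iv F56868)) (tt N6530 F53728) (tt N6162 (iv D13629)) (tt N7694 (iv F55804)) (tt N6163 F53729) (tt N6532 F53730) (tt N7173 (iv F53740)) (tt N8102 D14560))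
theorem Q7173 : ∀ i, i < 7173 → P i := stepQ 7172 Q7172 (allL N7172 (tt N7172 F53731) (tt N7959 (iv F56871)) (tt N6169 F53732) (tt N8102 (iv F57469)) (tt N7582 F55306) (tt N6164 F53733) (tt N6535 F53734) (tt N6175 F53735) (tt N6162 (iv D13630)))
theorem Q7174 : ∀ i, i < 7174 → P i := stepQ 7173 Q7173 (allL N7173 (tt N7173 F53736) (tt N8103 D14561) (tt N6163 (iv D13631)) (tt N6170 F53737) (tt N8104 D14562) (tt N6530 F53738) (tt N6165 F53739) (tt N7171 F53740) (tt N8105 D14563))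
theorem Q7175 : ∀ i, i < 7175 → P i := stepQ 7174 Q7174 (allL N7174 (tt N7174 F53741) (tt N7877 (iv F56449)) (tt N8104 (iv F57478)) (tt N7174 F53742) (tt N6163 (iv D13632)) (tt N8106 D14564) (tt N6166 F53743) (tt N7513 (iv F55006)) (tt N8107 D14565))
theorem Q7176 : ∀ i, i < 7176 → P i := stepQ 7175 Q7175 (allL N7175 (tt N7175 F53744) (tt N7961 (iv F56878)) (tt N8105 (iv F57483)) (tt N6164 F53745) (tt N8107 (iv F57491)) (tt N8102 (iv F57470)) (tt N6167 F53746) (tt N8108 D14566) (tt N6163 (iv D13633)))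
theorem Q7177 : ∀ i, i < 7177 → P i := stepQ 7176 Q7176 (allL N7176 (tt N8109 D14567) (tt N6165 (iv D13634)) (tt N7962 (iv F56881)) (tt N6173 F53747) (tt N8110 D14568) (tt N6539 F53748) (tt N8103 (iv F57474)) (tt N7397 (iv F54638)) (tt N8111 D14569))
theorem Q7178 : ∀ i, i < 7178 → P i := stepQ 7177 Q7177 (allL N7177 (tt N7177 F53749) (tt N8110 (iv F57500)) (tt N6166 F53750) (tt N6730 (iv F53752)) (tt N6165 (iv D13635)) (tt N6732 (iv F53753)) (tt N8104 (iv F57480)) (tt N6734 F53751) (tt N8112 D14570))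
theorem Q7179 : ∀ i, i < 7179 → P i := stepQ 7178 Q7178 (allL N7178 (tt N7178 F53754) (tt N8111 (iv F57504)) (tt N6167 F53755) (tt N6175 F53756) (tt N8112 (iv F57510)) (tt N6541 F53757) (tt N8105 (iv F57486)) (tt N8113 D14571) (tt N6165 (iv D13636)))
theorem Q7180 : ∀ i, i < 7180 → P i := stepQ 7179 Q7179 (allL N7179 (tt N7179 F53758) (tt N7965 (iv F56888)) (tt N6732 F53759) (tt N7179 F53760) (tt N6542 F53761) (tt N6166 (iv D13637)) (tt N8114 D14572) (tt N6735 F53762) (tt N8115 D14573))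
theorem Q7181 : ∀ i, i < 7181 → P i := stepQ 7180 Q7180 (allL N7180 (tt N7180 F53763) (tt N7966 (iv F56892)) (tt N8112 (iv F57508)) (tt N7180 F53764) (tt N6167 F53765) (tt N8115 (iv F57524)) (tt N8107 (iv F57492)) (tt N8116 D14574) (tt N6166 (iv D13638)))
theorem Q7182 : ∀ i, i < 7182 → P i := stepQ 7181 Q7181 (allL N7181 (tt N7181 F53766) (tt N7967 (iv F56895)) (tt N8113 (iv F57513)) (tt N6860 F53767) (tt N8116 (iv F57526)) (tt N6544 F53768) (tt N8108 (iv F57495)) (tt N6167 (iv D13639)) (tt N7517 (iv F55020)))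
theorem Q7183 : ∀ i, i < 7183 → P i := stepQ 7182 Q7182 (allL N7182 (tt N7182 F53769) (tt N6182 F53770) (tt N7582 (iv F55301)) (tt N6191 F53771) (tt N6169 F53772) (tt N7182 F53773) (tt N6536 F53774) (tt N6176 F53775) (tt N6168 (iv D13640)))
theorem Q7184 : ∀ i, i < 7184 → P i := stepQ 7183 Q7183 (allL N7183 (tt N6382 F53780) (tt N6170 (iv D13641)) (tt N6183 F53776) (tt N8103 (iv F57472)) (tt N6222 (iv F53781)) (tt N6218 F53777) (tt N6173 F53778) (tt N6177 F53779) (tt N8117 D14575))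
theorem Q7185 : ∀ i, i < 7185 → P i := stepQ 7184 Q7184 (allL N7184 (tt N7184 F53782) (tt N6222 F53783) (tt N6171 F53784) (tt N7580 (iv F55288)) (tt N6170 (iv D13642)) (tt N6192 F53785) (tt N6174 F53786) (tt N6178 F53787) (tt N7581 (iv F55297)))
theorem Q7186 : ∀ i, i < 7186 → P i := stepQ 7185 Q7185 (allL N7185 (tt N7185 F53788) (tt N8117 (iv F57528)) (tt N6172 F53789) (tt N8105 (iv F57484)) (tt N7581 F55299) (tt N6531 F53790) (tt N6175 F53791) (tt N6535 F53792) (tt N6170 (iv D13643)))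
theorem Q7187 : ∀ i, i < 7187 → P i := stepQ 7186 Q7186 (allL N7186 (tt N7186 F53793) (tt N6185 F53794) (tt N7581 F55298) (tt N7186 F53795) (tt N6172 F53796) (tt N6194 F53797) (tt N6176 F53798) (tt N6536 F53799) (tt N6171 (iv D13644)))
theorem Q7188 : ∀ i, i < 7188 → P i := stepQ 7187 Q7187 (allL N7187 (tt N6173 (iv D13645)) (tt N7187 F53800) (tt N6186 F53801) (tt N8109 (iv F57497)) (tt N6389 (iv F53805)) (tt N6545 F53802) (tt N6382 F53803) (tt N6179 F53804) (tt N8118 D14576))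
theorem Q7189 : ∀ i, i < 7189 → P i := stepQ 7188 Q7188 (allL N7188 (tt N6389 F53806) (tt N6174 F53807) (tt N6187 F53808) (tt N8119 D14577) (tt N6173 (iv D13646)) (tt N7188 F53809) (tt N6222 F53810) (tt N6180 F53811) (tt N8120 D14578))
theorem Q7190 : ∀ i, i < 7190 → P i := stepQ 7189 Q7189 (allL N7189 (tt N8118 (iv F57534)) (tt N6175 F53812) (tt N6188 F53813) (tt N8111 (iv F57505)) (tt N8120 (iv F57550)) (tt N6546 F53814) (tt N8117 (iv F57532)) (tt N7959 (iv F56875)) (tt N6173 (iv D13647)))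
theorem Q7191 : ∀ i, i < 7191 → P i := stepQ 7190 Q7190 (allL N7190 (tt N7190 F53815) (tt N8119 (iv F57541)) (tt N7190 F53816) (tt N6174 (iv D13648)) (tt N6730 F53817) (tt N7190 F53818) (tt N7580 (iv F55290)) (tt N6727 F53819) (tt N7579 (iv F55283)))
theorem Q7192 : ∀ i, i < 7192 → P i := stepQ 7191 Q7191 (allL N7191 (tt N7191 F53820) (tt N8120 (iv F57548)) (tt N6176 F53821) (tt N7579 F55284) (tt N6175 F53822) (tt N7191 F53823) (tt N7581 (iv F55295)) (tt N7582 (iv F55304)) (tt N6174 (iv D13649)))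
theorem Q7193 : ∀ i, i < 7193 → P i := stepQ 7192 Q7192 (allL N7192 (tt N6657 F53824) (tt N6181 F53825) (tt N7192 F53826) (tt N6180 (iv D13650)) (tt N6698 F53827) (tt N7192 F53828) (tt N6620 F53829) (tt N6695 (iv F53830)) (tt N7600 (iv F55386)))
theorem Q7194 : ∀ i, i < 7194 → P i := stepQ 7193 Q7193 (allL N7193 (tt N6385 F53831) (tt N6184 F53832) (tt N8117 (iv F57529)) (tt N8041 (iv F57173)) (tt N6225 F53833) (tt N6220 F53834) (tt N6188 F53835) (tt N6422 F53836) (tt N6183 (iv D13651)))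
theorem Q7195 : ∀ i, i < 7195 → P i := stepQ 7194 Q7194 (allL N7194 (tt N6188 F53837) (tt N6190 F53838) (tt N8118 (iv F57536)) (tt N8044 (iv F57192)) (tt N6393 F53839) (tt N6547 F53840) (tt N6385 F53841) (tt N7847 (iv F56333)) (tt N6186 (iv D13652)))
theorem Q7196 : ∀ i, i < 7196 → P i := stepQ 7195 Q7195 (allL N7195 (tt N6393 F53842) (tt N6189 F53843) (tt N8120 (iv F57549)) (tt N6767 F53844) (tt N6188 F53845) (tt N7195 F53846) (tt N6225 F53847) (tt N7968 (iv F56904)) (tt N6187 (iv D13653)))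
theorem Q7197 : ∀ i, i < 7197 → P i := stepQ 7196 Q7196 (allL N7196 (tt N6201 F53848) (tt N7473 (iv F54867)) (tt N6196 F53849) (tt N6234 F53850) (tt N6237 F53851) (tt N6235 F53852) (tt N6198 F53853) (tt N6784 (iv F53854)) (tt N6195 (iv D13654)))
theorem Q7198 : ∀ i, i < 7198 → P i := stepQ 7197 Q7197 (allL N7197 (tt N6202 F53855) (tt N6911 F53856) (tt N6784 F53857) (tt N7197 F53858) (tt N6238 F53859) (tt N6785 F53860) (tt N6199 F53861) (tt N6196 (iv D13655)) (tt N7197 F53862))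
theorem Q7199 : ∀ i, i < 7199 → P i := stepQ 7198 Q7198 (allL N7198 (tt N6197 (iv D13656)) (tt N6203 F53863) (tt N6912 F53864) (tt N6662 F53865) (tt N6239 F53866) (tt N7198 F53867) (tt N6663 F53868) (tt N7198 F53869) (tt N8121 D14579))
theorem Q7200 : ∀ i, i < 7200 → P i := stepQ 7199 Q7199 (allL N7199 (tt N8121 (iv F57553)) (tt N6198 F53870) (tt N6913 F53871) (tt N7968 (iv F56900)) (tt N6240 F53872) (tt N7199 F53873) (tt N7473 (iv F54871)) (tt N8122 D14580) (tt N6197 (iv D13657)))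
theorem Q7201 : ∀ i, i < 7201 → P i := stepQ 7200 Q7200 (allL N7200 (tt N6205 F53874) (tt N8122 (iv F57562)) (tt N6199 F53875) (tt N6783 F53876) (tt N6241 F53877) (tt N7200 F53878) (tt N6784 F53879) (tt N6198 (iv D13658)) (tt N7200 F53880))
theorem Q7202 : ∀ i, i < 7202 → P i := stepQ 7201 Q7201 (allL N7201 (tt N6204 F53881) (tt N8121 (iv F57554)) (tt N6207 F53882) (tt N6407 F53883) (tt N6250 F53884) (tt N7201 F53885) (tt N6408 F53886) (tt N6844 (iv F53887)) (tt N6203 (iv D13659)))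
theorem Q7203 : ∀ i, i < 7203 → P i := stepQ 7202 Q7202 (allL N7202 (tt N6208 F53888) (tt N6919 F53889) (tt N6844 F53890) (tt N6892 (iv F53895)) (tt N6253 F53891) (tt N7202 F53892) (tt N6845 F53893) (tt N6207 (iv D13660)) (tt N7202 F53894))
theorem Q7204 : ∀ i, i < 7204 → P i := stepQ 7203 Q7203 (allL N7203 (tt N6368 F53896) (tt N7203 F53897) (tt N8123 D14581) (tt N6210 (iv D13661)) (tt N7071 F53898) (tt N6742 F53899) (tt N6381 F53900) (tt N6920 F53901) (tt N8124 D14582))
theorem Q7205 : ∀ i, i < 7205 → P i := stepQ 7204 Q7204 (allL N7204 (tt N6369 F53902) (tt N7204 F53903) (tt N6212 F53904) (tt N8124 (iv F57577)) (tt N6380 F53905) (tt N6743 F53906) (tt N6383 F53907) (tt N6257 F53908) (tt N6210 (iv D13662)))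
theorem Q7206 : ∀ i, i < 7206 → P i := stepQ 7205 Q7205 (allL N7205 (tt N6370 F53909) (tt N7986 (iv F56972)) (tt N6211 (iv D13663)) (tt N8123 (iv F57570)) (tt N6372 F53910) (tt N6744 F53911) (tt N6375 F53912) (tt N6215 F53913) (tt N8125 D14583))
theorem Q7207 : ∀ i, i < 7207 → P i := stepQ 7206 Q7206 (allL N7206 (tt N6371 F53914) (tt N6227 F53915) (tt N8125 (iv F57582)) (tt N6212 F53916) (tt N6373 F53917) (tt N6746 F53918) (tt N6378 F53919) (tt N8126 D14584) (tt N6211 (iv D13664)))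
theorem Q7208 : ∀ i, i < 7208 → P i := stepQ 7207 Q7207 (allL N7207 (tt N6372 F53920) (tt N8127 D14585) (tt N6213 (iv D13665)) (tt N6930 F53921) (tt N6370 F53922) (tt N7990 (iv F56992)) (tt N6215 F53923) (tt N6375 F53924) (tt N8128 D14586))
theorem Q7209 : ∀ i, i < 7209 → P i := stepQ 7208 Q7208 (allL N7208 (tt N6373 F53925) (tt N6229 F53926) (tt N8128 (iv F57599)) (tt N6214 F53927) (tt N6371 F53928) (tt N8054 (iv F57245)) (tt N6217 F53929) (tt N8129 D14587) (tt N6213 (iv D13666)))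
theorem Q7210 : ∀ i, i < 7210 → P i := stepQ 7209 Q7209 (allL N7209 (tt N8130 D14588) (tt N6215 (iv D13667)) (tt N6230 F53930) (tt N6933 F53931) (tt N7969 (iv F56906)) (tt N6747 F53932) (tt N8127 (iv F57596)) (tt N7986 (iv F56975)) (tt N8131 D14589))
theorem Q7211 : ∀ i, i < 7211 → P i := stepQ 7210 Q7210 (allL N7210 (tt N6375 F53933) (tt N7969 (iv F56905)) (tt N6216 F53934) (tt N8132 D14590) (tt N6215 (iv D13668)) (tt N7971 (iv F56916)) (tt N6370 F53935) (tt N6372 F53936) (tt N8133 D14591))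
theorem Q7212 : ∀ i, i < 7212 → P i := stepQ 7211 Q7211 (allL N7211 (tt N6376 F53937) (tt N8131 (iv F57613)) (tt N6217 F53938) (tt N6935 F53939) (tt N8133 (iv F57624)) (tt N6749 F53940) (tt N8128 (iv F57602)) (tt N8134 D14592) (tt N6215 (iv D13669)))
theorem Q7213 : ∀ i, i < 7213 → P i := stepQ 7212 Q7212 (allL N7212 (tt N6378 F53941) (tt N6232 F53942) (tt N8133 (iv F57623)) (tt N6220 F53943) (tt N6217 F53944) (tt N8041 (iv F57175)) (tt N6371 F53945) (tt N8135 D14593) (tt N6216 (iv D13670)))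
theorem Q7214 : ∀ i, i < 7214 → P i := stepQ 7213 Q7213 (allL N7213 (tt N6379 F53946) (tt N6233 F53947) (tt N8134 (iv F57627)) (tt N6274 F53948) (tt N8135 (iv F57632)) (tt N6752 F53949) (tt N8129 (iv F57607)) (tt N6217 (iv D13671)) (tt N8126 (iv F57592)))
theorem Q7215 : ∀ i, i < 7215 → P i := stepQ 7214 Q7214 (allL N7214 (tt N6381 F53950) (tt N6530 F53951) (tt N8132 (iv F57618)) (tt N6218 (iv D13672)) (tt N6941 F53952) (tt N8103 (iv F57473)) (tt N6368 F53953) (tt N7035 F53954) (tt N8136 D14594))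
theorem Q7216 : ∀ i, i < 7216 → P i := stepQ 7215 Q7215 (allL N7215 (tt N6383 F53955) (tt N6531 F53956) (tt N6220 F53957) (tt N8136 (iv F57637)) (tt N6219 F53958) (tt N8117 (iv F57531)) (tt N6369 F53959) (tt N6417 F53960) (tt N6218 (iv D13673)))
theorem Q7217 : ∀ i, i < 7217 → P i := stepQ 7216 Q7216 (allL N7216 (tt N6386 F53961) (tt N7580 (iv F55286)) (tt N6760 F53962) (tt N6222 F53963) (tt N8137 D14595) (tt N6221 (iv D13674)) (tt N8119 (iv F57545)) (tt N7469 F54848) (tt N7470 (iv F54852)))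
theorem Q7218 : ∀ i, i < 7218 → P i := stepQ 7217 Q7217 (allL N7217 (tt N6390 F53964) (tt N7581 (iv F55293)) (tt N6225 F53965) (tt N7470 F54853) (tt N8117 (iv F57530)) (tt N6223 F53966) (tt N8120 (iv F57552)) (tt N7472 (iv F54862)) (tt N6222 (iv D13675)))
theorem Q7219 : ∀ i, i < 7219 → P i := stepQ 7218 Q7218 (allL N7218 (tt N6394 F53967) (tt N6234 F53968) (tt N7472 F54864) (tt N7473 (iv F54868)) (tt N6422 F53969) (tt N6226 F53970) (tt N7968 (iv F56903)) (tt N6225 (iv D13676)) (tt N6421 F53971))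
theorem Q7220 : ∀ i, i < 7220 → P i := stepQ 7219 Q7219 (allL N7219 (tt N6242 F53972) (tt N8126 (iv F57587)) (tt N8053 (iv F57236)) (tt N6305 F53973) (tt N6399 F53974) (tt N6773 F53975) (tt N6406 F53976) (tt N6227 (iv D13677)) (tt N6233 F53977))
theorem Q7221 : ∀ i, i < 7221 → P i := stepQ 7220 Q7220 (allL N7220 (tt N7901 (iv F56563)) (tt N6228 (iv D13678)) (tt N8127 (iv F57593)) (tt N6236 F53978) (tt N6396 F53979) (tt N7905 (iv F56588)) (tt N6230 F53980) (tt N6400 F53981) (tt N8138 D14596))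
theorem Q7222 : ∀ i, i < 7222 → P i := stepQ 7221 Q7221 (allL N7221 (tt N6243 F53982) (tt N8138 (iv F57646)) (tt N6229 F53983) (tt N6237 F53984) (tt N6397 F53985) (tt N7942 (iv F56781)) (tt N6231 F53986) (tt N8139 D14597) (tt N6228 (iv D13679)))
theorem Q7223 : ∀ i, i < 7223 → P i := stepQ 7222 Q7222 (allL N7222 (tt N6244 F53987) (tt N8129 (iv F57604)) (tt N8139 (iv F57651)) (tt N6313 F53988) (tt N6398 F53989) (tt N8085 (iv F57387)) (tt N6233 F53990) (tt N6229 (iv D13680)) (tt N6406 F53991))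
theorem Q7224 : ∀ i, i < 7224 → P i := stepQ 7223 Q7223 (allL N7223 (tt N6230 (iv D13681)) (tt N6245 F53992) (tt N8130 (iv F57610)) (tt N6239 F53993) (tt N7846 (iv F56324)) (tt N6308 F53994) (tt N7901 (iv F56567)) (tt N7858 (iv F56379)) (tt N8140 D14598))
theorem Q7225 : ∀ i, i < 7225 → P i := stepQ 7224 Q7224 (allL N7224 (tt N8140 (iv F57655)) (tt N6231 F53995) (tt N8131 (iv F57614)) (tt N6240 F53996) (tt N7970 (iv F56912)) (tt N6775 F53997) (tt N8138 (iv F57649)) (tt N8141 D14599) (tt N6230 (iv D13682)))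
theorem Q7226 : ∀ i, i < 7226 → P i := stepQ 7225 Q7225 (allL N7225 (tt N6247 F53998) (tt N8141 (iv F57659)) (tt N6233 F53999) (tt N8142 D14600) (tt N8040 (iv F57167)) (tt N6777 F54000) (tt N8139 (iv F57653)) (tt N6231 (iv D13683)) (tt N8053 (iv F57240)))
theorem Q7227 : ∀ i, i < 7227 → P i := stepQ 7226 Q7226 (allL N7226 (tt N6248 F54001) (tt N8135 (iv F57630)) (tt N8040 (iv F57165)) (tt N6478 F54002) (tt N6233 F54003) (tt N8042 (iv F57181)) (tt N6398 F54004) (tt N6232 (iv D13684)) (tt N6399 F54005))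
theorem Q7228 : ∀ i, i < 7228 → P i := stepQ 7227 Q7227 (allL N7227 (tt N7924 (iv F56676)) (tt N6237 F54006) (tt N6991 F54007) (tt N8138 (iv F57647)) (tt N7473 (iv F54869)) (tt N7925 (iv F56686)) (tt N6240 F54008) (tt N8143 D14601) (tt N6236 (iv D13685)))
theorem Q7229 : ∀ i, i < 7229 → P i := stepQ 7228 Q7228 (allL N7228 (tt N6249 F54009) (tt N8143 (iv F57666)) (tt N6238 F54010) (tt N8144 D14602) (tt N6784 F54011) (tt N7923 (iv F56672)) (tt N6241 F54012) (tt N6237 (iv D13686)) (tt N7228 F54013))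
theorem Q7230 : ∀ i, i < 7230 → P i := stepQ 7229 Q7229 (allL N7229 (tt N6240 F54014) (tt N6250 F54015) (tt N6993 F54016) (tt N8140 (iv F57657)) (tt N8121 (iv F57557)) (tt N6331 F54017) (tt N7924 (iv F56680)) (tt N8145 D14603) (tt N6239 (iv D13687)))
theorem Q7231 : ∀ i, i < 7231 → P i := stepQ 7230 Q7230 (allL N7230 (tt N8145 (iv F57676)) (tt N6241 F54018) (tt N6994 F54019) (tt N8146 D14604) (tt N8122 (iv F57565)) (tt N6786 F54020) (tt N8143 (iv F57669)) (tt N6240 (iv D13688)) (tt N7230 F54021))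
theorem Q7232 : ∀ i, i < 7232 → P i := stepQ 7231 Q7231 (allL N7231 (tt N6252 F54022) (tt N8146 (iv F57683)) (tt N6335 F54023) (tt N6241 (iv D13689)) (tt N8147 D14605) (tt N6787 F54024) (tt N8144 (iv F57674)) (tt N8142 (iv F57664)) (tt N7231 F54025))
theorem Q7233 : ∀ i, i < 7233 → P i := stepQ 7232 Q7232 (allL N7232 (tt N8139 (iv F57650)) (tt N7940 (iv F56764)) (tt N6244 F54026) (tt N8148 D14606) (tt N6410 F54027) (tt N7943 (iv F56786)) (tt N6247 F54028) (tt N6243 (iv D13690)) (tt N6412 F54029))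
theorem Q7234 : ∀ i, i < 7234 → P i := stepQ 7233 Q7233 (allL N7233 (tt N6246 F54030) (tt N8140 (iv F57656)) (tt N6307 F54031) (tt N6250 F54032) (tt N7889 (iv F56504)) (tt N6310 F54033) (tt N7902 (iv F56574)) (tt N8149 D14607) (tt N6245 (iv D13691)))
theorem Q7235 : ∀ i, i < 7235 → P i := stepQ 7234 Q7234 (allL N7234 (tt N8149 (iv F57697)) (tt N6247 F54034) (tt N6346 F54035) (tt N8150 D14608) (tt N7931 (iv F56715)) (tt N6348 F54036) (tt N7940 (iv F56769)) (tt N6246 (iv D13692)) (tt N7941 (iv F56776)))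
theorem Q7236 : ∀ i, i < 7236 → P i := stepQ 7235 Q7235 (allL N7235 (tt N8142 (iv F57661)) (tt N8150 (iv F57700)) (tt N6357 F54037) (tt N6247 (iv D13693)) (tt N8080 (iv F57360)) (tt N6791 F54038) (tt N8148 (iv F57694)) (tt N6252 F54039) (tt N8084 (iv F57383)))
theorem Q7237 : ∀ i, i < 7237 → P i := stepQ 7236 Q7236 (allL N7236 (tt N8144 (iv F57671)) (tt N6855 F54040) (tt N6364 F54041) (tt N6249 (iv D13694)) (tt N6795 F54042) (tt N7955 (iv F56854)) (tt N6252 F54043) (tt N8148 (iv F57695)) (tt N7236 F54044))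
theorem Q7238 : ∀ i, i < 7238 → P i := stepQ 7237 Q7237 (allL N7237 (tt N6251 F54045) (tt N8145 (iv F57677)) (tt N6253 F54046) (tt N8151 D14609) (tt N6844 F54047) (tt N6332 F54048) (tt N6846 F54049) (tt N6250 (iv D13695)) (tt N7237 F54050))
theorem Q7239 : ∀ i, i < 7239 → P i := stepQ 7238 Q7238 (allL N7238 (tt N8151 (iv F57705)) (tt N6252 F54051) (tt N7955 (iv F56852)) (tt N6251 (iv D13696)) (tt N6853 F54052) (tt N6364 F54053) (tt N6855 F54054) (tt N8150 (iv F57704)) (tt N7238 F54055))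
theorem Q7240 : ∀ i, i < 7240 → P i := stepQ 7239 Q7239 (allL N7239 (tt N8147 (iv F57686)) (tt N6853 F54056) (tt N6367 F54057) (tt N6794 F54058) (tt N6252 (iv D13697)) (tt N7956 (iv F56860)) (tt N6795 F54059) (tt N8080 (iv F57362)) (tt N7239 F54060))
theorem Q7241 : ∀ i, i < 7241 → P i := stepQ 7240 Q7240 (allL N7240 (tt N6415 F54061) (tt N7240 F54062) (tt N6258 F54063) (tt N8152 D14610) (tt N6661 F54064) (tt N6255 F54065) (tt N7631 (iv F55547)) (tt N6254 (iv D13698)) (tt N8153 D14611))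
theorem Q7242 : ∀ i, i < 7242 → P i := stepQ 7241 Q7241 (allL N7241 (tt N6416 F54066) (tt N7241 F54067) (tt N8154 D14612) (tt N6255 (iv D13699)) (tt N8155 D14613) (tt N8152 (iv F57712)) (tt N6256 F54068) (tt N7520 (iv F55032)) (tt N8156 D14614))
theorem Q7243 : ∀ i, i < 7243 → P i := stepQ 7242 Q7242 (allL N7242 (tt N6417 F54069) (tt N7242 F54070) (tt N6260 F54071) (tt N8156 (iv F57729)) (tt N6384 F54072) (tt N8153 (iv F57718)) (tt N6257 F54073) (tt N6383 F54074) (tt N6255 (iv D13700)))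
theorem Q7244 : ∀ i, i < 7244 → P i := stepQ 7243 Q7243 (allL N7243 (tt N6418 F54075) (tt N8157 D14615) (tt N6256 (iv D13701)) (tt N6261 F54076) (tt N8158 D14616) (tt N7843 (iv F56312)) (tt N8154 (iv F57722)) (tt N7696 (iv F55810)) (tt N8159 D14617))
theorem Q7245 : ∀ i, i < 7245 → P i := stepQ 7244 Q7244 (allL N7244 (tt N6419 F54077) (tt N7244 F54078) (tt N8158 (iv F57734)) (tt N6623 F54079) (tt N6256 (iv D13702)) (tt N8160 D14618) (tt N8155 (iv F57726)) (tt N7697 (iv F55814)) (tt N8161 D14619))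
theorem Q7246 : ∀ i, i < 7246 → P i := stepQ 7245 Q7245 (allL N7245 (tt N6420 F54080) (tt N7245 F54081) (tt N8159 (iv F57736)) (tt N6257 F54082) (tt N8161 (iv F57744)) (tt N7845 (iv F56321)) (tt N8156 (iv F57730)) (tt N8162 D14620) (tt N6256 (iv D13703)))
theorem Q7247 : ∀ i, i < 7247 → P i := stepQ 7246 Q7246 (allL N7246 (tt N6396 F54083) (tt N6296 F54084) (tt N8163 D14621) (tt N6258 (iv D13704)) (tt N7901 (iv F56565)) (tt N6259 F54085) (tt N7846 (iv F56326)) (tt N6264 F54086) (tt N8164 D14622))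
theorem Q7248 : ∀ i, i < 7248 → P i := stepQ 7247 Q7247 (allL N7247 (tt N6422 F54087) (tt N6297 F54088) (tt N8153 (iv F57716)) (tt N8164 (iv F57752)) (tt N6394 F54089) (tt N6260 F54090) (tt N7847 (iv F56332)) (tt N6385 F54091) (tt N6258 (iv D13705)))
theorem Q7249 : ∀ i, i < 7249 → P i := stepQ 7248 Q7248 (allL N7248 (tt N6423 F54092) (tt N8165 D14623) (tt N6259 (iv D13706)) (tt N8154 (iv F57721)) (tt N6694 F54093) (tt N8163 (iv F57748)) (tt N6261 F54094) (tt N6266 F54095) (tt N8166 D14624))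
theorem Q7250 : ∀ i, i < 7250 → P i := stepQ 7249 Q7249 (allL N7249 (tt N6425 F54096) (tt N6299 F54097) (tt N8166 (iv F57760)) (tt N6260 F54098) (tt N6463 F54099) (tt N8164 (iv F57753)) (tt N6263 F54100) (tt N8167 D14625) (tt N6259 (iv D13707)))
theorem Q7251 : ∀ i, i < 7251 → P i := stepQ 7250 Q7250 (allL N7250 (tt N8168 D14626) (tt N6261 (iv D13708)) (tt N6300 F54101) (tt N8157 (iv F57732)) (tt N8169 D14627) (tt N7851 (iv F56348)) (tt N8165 (iv F57757)) (tt N6269 F54102) (tt N8170 D14628))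
theorem Q7252 : ∀ i, i < 7252 → P i := stepQ 7251 Q7251 (allL N7251 (tt N6427 F54103) (tt N8169 (iv F57773)) (tt N6262 F54104) (tt N8171 D14629) (tt N6261 (iv D13709)) (tt N8172 D14630) (tt N6694 F54105) (tt N6270 F54106) (tt N8173 D14631))
theorem Q7253 : ∀ i, i < 7253 → P i := stepQ 7252 Q7252 (allL N7252 (tt N6428 F54107) (tt N8170 (iv F57777)) (tt N6263 F54108) (tt N8159 (iv F57737)) (tt N8173 (iv F57787)) (tt N7853 (iv F56355)) (tt N8166 (iv F57762)) (tt N8174 D14632) (tt N6261 (iv D13710)))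
theorem Q7254 : ∀ i, i < 7254 → P i := stepQ 7253 Q7253 (allL N7253 (tt N6429 F54109) (tt N6303 F54110) (tt N8172 (iv F57783)) (tt N6626 F54111) (tt N7854 (iv F56359)) (tt N6262 (iv D13711)) (tt N7911 (iv F56618)) (tt N6272 F54112) (tt N8175 D14633))
theorem Q7255 : ∀ i, i < 7255 → P i := stepQ 7254 Q7254 (allL N7254 (tt N6430 F54113) (tt N6304 F54114) (tt N8173 (iv F57786)) (tt N6453 F54115) (tt N6263 F54116) (tt N8175 (iv F57795)) (tt N6463 F54117) (tt N8176 D14634) (tt N6262 (iv D13712)))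
theorem Q7256 : ∀ i, i < 7256 → P i := stepQ 7255 Q7255 (allL N7255 (tt N6431 F54118) (tt N6305 F54119) (tt N8174 (iv F57790)) (tt N8126 (iv F57588)) (tt N8176 (iv F57799)) (tt N7856 (iv F56369)) (tt N8167 (iv F57767)) (tt N6263 (iv D13713)) (tt N6274 F54120))
theorem Q7257 : ∀ i, i < 7257 → P i := stepQ 7256 Q7256 (allL N7256 (tt N6374 F54121) (tt N8130 (iv F57609)) (tt N6264 (iv D13714)) (tt N7061 F54122) (tt N8177 D14635) (tt N6266 F54123) (tt N7857 (iv F56373)) (tt N8163 (iv F57749)) (tt N8178 D14636))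
theorem Q7258 : ∀ i, i < 7258 → P i := stepQ 7257 Q7257 (allL N7257 (tt N6400 F54124) (tt N6306 F54125) (tt N8177 (iv F57803)) (tt N7257 F54126) (tt N6264 (iv D13715)) (tt N7890 (iv F56510)) (tt N7858 (iv F56378)) (tt N7901 (iv F56568)) (tt N8179 D14637))
theorem Q7259 : ∀ i, i < 7259 → P i := stepQ 7258 Q7258 (allL N7258 (tt N6401 F54127) (tt N6307 F54128) (tt N8178 (iv F57805)) (tt N6265 F54129) (tt N8179 (iv F57811)) (tt N6268 F54130) (tt N7859 (iv F56384)) (tt N8180 D14638) (tt N6264 (iv D13716)))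
theorem Q7260 : ∀ i, i < 7260 → P i := stepQ 7259 Q7259 (allL N7259 (tt N6747 F54131) (tt N6266 (iv D13717)) (tt N6308 F54132) (tt N7265 (iv F54155)) (tt N8181 D14639) (tt N8130 (iv F57612)) (tt N6269 F54133) (tt N8165 (iv F57758)) (tt N8182 D14640))
theorem Q7261 : ∀ i, i < 7261 → P i := stepQ 7260 Q7260 (allL N7260 (tt N6432 F54134) (tt N8181 (iv F57816)) (tt N6267 F54135) (tt N8183 D14641) (tt N6266 (iv D13718)) (tt N8184 D14642) (tt N6270 F54136) (tt N6694 F54137) (tt N8185 D14643))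
theorem Q7262 : ∀ i, i < 7262 → P i := stepQ 7261 Q7261 (allL N7261 (tt N6433 F54138) (tt N8182 (iv F57821)) (tt N6268 F54139) (tt N7430 (iv F54731)) (tt N8185 (iv F57832)) (tt N8178 (iv F57807)) (tt N6271 F54140) (tt N8186 D14644) (tt N6266 (iv D13719)))
theorem Q7263 : ∀ i, i < 7263 → P i := stepQ 7262 Q7262 (allL N7262 (tt N6434 F54141) (tt N6311 F54142) (tt N8184 (iv F57828)) (tt N6277 F54143) (tt N7890 (iv F56509)) (tt N6267 (iv D13720)) (tt N7895 (iv F56538)) (tt N6693 F54144) (tt N8187 D14645))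
theorem Q7264 : ∀ i, i < 7264 → P i := stepQ 7263 Q7263 (allL N7263 (tt N6435 F54145) (tt N6312 F54146) (tt N8185 (iv F57831)) (tt N6278 F54147) (tt N6268 F54148) (tt N8187 (iv F57840)) (tt N6273 F54149) (tt N8188 D14646) (tt N6267 (iv D13721)))
theorem Q7265 : ∀ i, i < 7265 → P i := stepQ 7264 Q7264 (allL N7264 (tt N6436 F54150) (tt N6313 F54151) (tt N8186 (iv F57835)) (tt N8129 (iv F57605)) (tt N8188 (iv F57844)) (tt N8180 (iv F57814)) (tt N6274 F54152) (tt N6268 (iv D13722)) (tt N8167 (iv F57768)))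
theorem Q7266 : ∀ i, i < 7266 → P i := stepQ 7265 Q7265 (allL N7265 (tt N6269 (iv D13723)) (tt N6437 F54153) (tt N6314 F54154) (tt N7259 F54155) (tt N8189 D14647) (tt N7865 (iv F56408)) (tt N6747 F54156) (tt N8168 (iv F57772)) (tt N8190 D14648))
theorem Q7267 : ∀ i, i < 7267 → P i := stepQ 7266 Q7266 (allL N7266 (tt N8189 (iv F57847)) (tt N6270 F54157) (tt N6315 F54158) (tt N8191 D14649) (tt N6269 (iv D13724)) (tt N8192 D14650) (tt N8181 (iv F57818)) (tt N8169 (iv F57776)) (tt N8193 D14651))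
theorem Q7268 : ∀ i, i < 7268 → P i := stepQ 7267 Q7267 (allL N7267 (tt N8190 (iv F57851)) (tt N6271 F54159) (tt N6316 F54160) (tt N7705 (iv F55836)) (tt N8193 (iv F57862)) (tt N7867 (iv F56414)) (tt N8182 (iv F57823)) (tt N8194 D14652) (tt N6269 (iv D13725)))
theorem Q7269 : ∀ i, i < 7269 → P i := stepQ 7268 Q7268 (allL N7268 (tt N6440 F54161) (tt N8191 (iv F57856)) (tt N6279 F54162) (tt N6270 (iv D13726)) (tt N7706 (iv F55839)) (tt N8195 D14653) (tt N8183 (iv F57826)) (tt N8196 D14654) (tt N8197 D14655))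
theorem Q7270 : ∀ i, i < 7270 → P i := stepQ 7269 Q7269 (allL N7269 (tt N6441 F54163) (tt N8192 (iv F57858)) (tt N6272 F54164) (tt N8195 (iv F57867)) (tt N7869 (iv F56419)) (tt N6270 (iv D13727)) (tt N8198 D14656) (tt N8172 (iv F57784)) (tt N8199 D14657))
theorem Q7271 : ∀ i, i < 7271 → P i := stepQ 7270 Q7270 (allL N7270 (tt N6442 F54165) (tt N8193 (iv F57860)) (tt N6273 F54166) (tt N8197 (iv F57872)) (tt N6271 F54167) (tt N8199 (iv F57877)) (tt N8185 (iv F57833)) (tt N8200 D14658) (tt N6270 (iv D13728)))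
theorem Q7272 : ∀ i, i < 7272 → P i := stepQ 7271 Q7271 (allL N7271 (tt N6443 F54168) (tt N8194 (iv F57863)) (tt N6274 F54169) (tt N8201 D14659) (tt N8200 (iv F57880)) (tt N7871 (iv F56425)) (tt N8186 (iv F57836)) (tt N6271 (iv D13729)) (tt N8174 (iv F57791)))
theorem Q7273 : ∀ i, i < 7273 → P i := stepQ 7272 Q7272 (allL N7272 (tt N6444 F54170) (tt N6320 F54171) (tt N8198 (iv F57874)) (tt N6283 F54172) (tt N7872 (iv F56429)) (tt N7895 (iv F56537)) (tt N6272 (iv D13730)) (tt N7911 (iv F56619)) (tt N8202 D14660))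
theorem Q7274 : ∀ i, i < 7274 → P i := stepQ 7273 Q7273 (allL N7273 (tt N6445 F54173) (tt N6321 F54174) (tt N8199 (iv F57876)) (tt N6284 F54175) (tt N7873 (iv F56435)) (tt N6273 F54176) (tt N8202 (iv F57885)) (tt N8203 D14661) (tt N6272 (iv D13731)))
theorem Q7275 : ∀ i, i < 7275 → P i := stepQ 7274 Q7274 (allL N7274 (tt N6446 F54177) (tt N6322 F54178) (tt N8200 (iv F57879)) (tt N8204 D14662) (tt N6274 F54179) (tt N8203 (iv F57888)) (tt N8188 (iv F57845)) (tt N6273 (iv D13732)) (tt N8176 (iv F57801)))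
theorem Q7276 : ∀ i, i < 7276 → P i := stepQ 7275 Q7275 (allL N7275 (tt N6447 F54180) (tt N7275 F54181) (tt N8183 (iv F57825)) (tt N6275 (iv D13733)) (tt N7530 (iv F55068)) (tt N8205 D14663) (tt N6279 F54182) (tt N8206 D14664) (tt N8207 D14665))
theorem Q7277 : ∀ i, i < 7277 → P i := stepQ 7276 Q7276 (allL N7276 (tt N6448 F54183) (tt N7276 F54184) (tt N6277 F54185) (tt N8205 (iv F57897)) (tt N7276 F54186) (tt N6275 (iv D13734)) (tt N8208 D14666) (tt N6631 F54187) (tt N8209 D14667))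
theorem Q7278 : ∀ i, i < 7278 → P i := stepQ 7277 Q7277 (allL N7277 (tt N6449 F54188) (tt N7277 F54189) (tt N6278 F54190) (tt N8207 (iv F57904)) (tt N6276 F54191) (tt N8209 (iv F57916)) (tt N6281 F54192) (tt N6673 F54193) (tt N6275 (iv D13735)))
theorem Q7279 : ∀ i, i < 7279 → P i := stepQ 7278 Q7278 (allL N7278 (tt N6451 F54194) (tt N6323 F54195) (tt N8208 (iv F57908)) (tt N7895 F56540) (tt N7278 F54196) (tt N6283 F54197) (tt N6277 (iv D13736)) (tt N6632 F54198) (tt N8210 D14668))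
theorem Q7280 : ∀ i, i < 7280 → P i := stepQ 7279 Q7279 (allL N7279 (tt N6452 F54199) (tt N6324 F54200) (tt N8209 (iv F57914)) (tt N8187 (iv F57839)) (tt N7279 F54201) (tt N6278 F54202) (tt N8210 (iv F57922)) (tt N6675 F54203) (tt N6277 (iv D13737)))
theorem Q7281 : ∀ i, i < 7281 → P i := stepQ 7280 Q7280 (allL N7280 (tt N6454 F54204) (tt N7280 F54205) (tt N8195 (iv F57866)) (tt N6280 F54206) (tt N8211 D14669) (tt N6279 (iv D13738)) (tt N8212 D14670) (tt N8213 D14671) (tt N8214 D14672))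
theorem Q7282 : ∀ i, i < 7282 → P i := stepQ 7281 Q7281 (allL N7281 (tt N6455 F54207) (tt N7281 F54208) (tt N8196 (iv F57869)) (tt N6634 F54209) (tt N7713 (iv F55860)) (tt N8213 (iv F57935)) (tt N8206 (iv F57901)) (tt N6279 (iv D13739)) (tt N8215 D14673))
theorem Q7283 : ∀ i, i < 7283 → P i := stepQ 7282 Q7282 (allL N7282 (tt N6456 F54210) (tt N7282 F54211) (tt N8197 (iv F57871)) (tt N6281 F54212) (tt N7714 (iv F55864)) (tt N8214 (iv F57940)) (tt N8207 (iv F57905)) (tt N8216 D14674) (tt N6279 (iv D13740)))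
theorem Q7284 : ∀ i, i < 7284 → P i := stepQ 7283 Q7283 (allL N7283 (tt N6457 F54213) (tt N7283 F54214) (tt N6283 F54215) (tt N8212 (iv F57929)) (tt N6289 F54216) (tt N8208 (iv F57910)) (tt N6280 (iv D13741)) (tt N6636 F54217) (tt N8217 D14675))
theorem Q7285 : ∀ i, i < 7285 → P i := stepQ 7284 Q7284 (allL N7284 (tt N6458 F54218) (tt N7284 F54219) (tt N6284 F54220) (tt N8214 (iv F57939)) (tt N6290 F54221) (tt N6281 F54222) (tt N8217 (iv F57950)) (tt N8218 D14676) (tt N6280 (iv D13742)))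
theorem Q7286 : ∀ i, i < 7286 → P i := stepQ 7285 Q7285 (allL N7285 (tt N6459 F54223) (tt N7285 F54224) (tt N6285 F54225) (tt N8219 D14677) (tt N6282 F54226) (tt N8218 (iv F57955)) (tt N6673 F54227) (tt N6281 (iv D13743)) (tt N6638 F54228))
theorem Q7287 : ∀ i, i < 7287 → P i := stepQ 7286 Q7286 (allL N7286 (tt N6460 F54229) (tt N7286 F54230) (tt N6665 F54231) (tt N6282 (iv D13744)) (tt N8220 D14678) (tt N6292 F54232) (tt N6667 F54233) (tt N7718 (iv F55885)) (tt N6639 F54234))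
theorem Q7288 : ∀ i, i < 7288 → P i := stepQ 7287 Q7287 (allL N7287 (tt N6461 F54235) (tt N6325 F54236) (tt N8217 (iv F57948)) (tt N8202 (iv F57884)) (tt N6293 F54237) (tt N8210 (iv F57921)) (tt N6284 F54238) (tt N8221 D14679) (tt N6283 (iv D13745)))
theorem Q7289 : ∀ i, i < 7289 → P i := stepQ 7288 Q7288 (allL N7288 (tt N6462 F54239) (tt N6326 F54240) (tt N8218 (iv F57953)) (tt N8222 D14680) (tt N6294 F54241) (tt N6285 F54242) (tt N8221 (iv F57970)) (tt N6284 (iv D13746)) (tt N6641 F54243))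
theorem Q7290 : ∀ i, i < 7290 → P i := stepQ 7289 Q7289 (allL N7289 (tt N6463 F54244) (tt N6327 F54245) (tt N8223 D14681) (tt N6285 (iv D13747)) (tt N6425 F54246) (tt N8222 (iv F57974)) (tt N6430 F54247) (tt N8204 (iv F57893)) (tt N6424 F54248))
theorem Q7291 : ∀ i, i < 7291 → P i := stepQ 7290 Q7290 (allL N7290 (tt N6464 F54249) (tt N7290 F54250) (tt N7885 (iv F56486)) (tt N8211 (iv F57926)) (tt N6286 (iv D13748)) (tt N7722 (iv F55901)) (tt N7617 (iv F55471)) (tt N7616 F55466) (tt N8224 D14682))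
theorem Q7292 : ∀ i, i < 7292 → P i := stepQ 7291 Q7291 (allL N7291 (tt N6465 F54251) (tt N7291 F54252) (tt N7886 (iv F56488)) (tt N6289 F54253) (tt N7617 (iv F55469)) (tt N7291 F54254) (tt N6286 (iv D13749)) (tt N7615 F55460) (tt N8225 D14683))
theorem Q7293 : ∀ i, i < 7293 → P i := stepQ 7292 Q7292 (allL N7292 (tt N6466 F54255) (tt N7292 F54256) (tt N7787 (iv F56085)) (tt N6644 F54257) (tt N7616 (iv F55465)) (tt N6287 F54258) (tt N7615 (iv F55461)) (tt N6286 (iv D13750)) (tt N7381 F54582))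
theorem Q7294 : ∀ i, i < 7294 → P i := stepQ 7293 Q7293 (allL N7293 (tt N6467 F54259) (tt N7293 F54260) (tt N7788 (iv F56091)) (tt N6290 F54261) (tt N8224 (iv F57983)) (tt N6288 F54262) (tt N8225 (iv F57988)) (tt N7382 (iv F54587)) (tt N6286 (iv D13751)))
theorem Q7295 : ∀ i, i < 7295 → P i := stepQ 7294 Q7294 (allL N7294 (tt N6470 F54263) (tt N7294 F54264) (tt N6293 F54265) (tt N8225 (iv F57986)) (tt N8217 (iv F57949)) (tt N7294 F54266) (tt N6290 F54267) (tt N8226 D14684) (tt N6289 (iv D13752)))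
theorem Q7296 : ∀ i, i < 7296 → P i := stepQ 7295 Q7295 (allL N7295 (tt N6471 F54268) (tt N7295 F54269) (tt N6294 F54270) (tt N7384 (iv F54594)) (tt N8218 (iv F57954)) (tt N6291 F54271) (tt N8226 (iv F57993)) (tt N6290 (iv D13753)) (tt N6647 F54272))
theorem Q7297 : ∀ i, i < 7297 → P i := stepQ 7296 Q7296 (allL N7296 (tt N6474 F54273) (tt N6328 F54274) (tt N8226 (iv F57991)) (tt N7840 (iv F56293)) (tt N8221 (iv F57968)) (tt N7296 F54275) (tt N6294 F54276) (tt N6293 (iv D13754)) (tt N6648 F54277))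
theorem Q7298 : ∀ i, i < 7298 → P i := stepQ 7297 Q7297 (allL N7297 (tt N6475 F54278) (tt N6329 F54279) (tt N7386 (iv F54602)) (tt N6294 (iv D13755)) (tt N7925 (iv F56685)) (tt N6295 F54280) (tt N7840 (iv F56296)) (tt N7792 (iv F56113)) (tt N6649 F54281))
theorem Q7299 : ∀ i, i < 7299 → P i := stepQ 7298 Q7298 (allL N7298 (tt N6336 F54282) (tt N8164 (iv F57751)) (tt N7903 (iv F56576)) (tt N6297 F54283) (tt N7902 (iv F56572)) (tt N6299 F54284) (tt N7889 (iv F56506)) (tt N8227 D14685) (tt N6296 (iv D13756)))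
theorem Q7300 : ∀ i, i < 7300 → P i := stepQ 7299 Q7299 (allL N7299 (tt N6770 F54285) (tt N6298 (iv D13757)) (tt N8165 (iv F57755)) (tt N7299 F54286) (tt N6703 F54287) (tt N7858 (iv F56377)) (tt N6300 F54288) (tt N6308 F54289) (tt N8228 D14686))
theorem Q7301 : ∀ i, i < 7301 → P i := stepQ 7300 Q7300 (allL N7300 (tt N6337 F54290) (tt N8228 (iv F58000)) (tt N6299 F54291) (tt N7300 F54292) (tt N6506 F54293) (tt N7903 (iv F56579)) (tt N6302 F54294) (tt N8229 D14687) (tt N6298 (iv D13758)))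
theorem Q7302 : ∀ i, i < 7302 → P i := stepQ 7301 Q7301 (allL N7301 (tt N6338 F54295) (tt N8167 (iv F57764)) (tt N8229 (iv F58005)) (tt N6406 F54296) (tt N6501 F54297) (tt N8227 (iv F57997)) (tt N6305 F54298) (tt N6299 (iv D13759)) (tt N6313 F54299))
theorem Q7303 : ∀ i, i < 7303 → P i := stepQ 7302 Q7302 (allL N7302 (tt N6300 (iv D13760)) (tt N6339 F54300) (tt N8168 (iv F57770)) (tt N7302 F54301) (tt N7997 (iv F57022)) (tt N7894 (iv F56531)) (tt N6770 F54302) (tt N6314 F54303) (tt N8230 D14688))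
theorem Q7304 : ∀ i, i < 7304 → P i := stepQ 7303 Q7303 (allL N7303 (tt N7997 (iv F57019)) (tt N6301 F54304) (tt N8169 (iv F57774)) (tt N6741 (iv F54307)) (tt N6300 (iv D13761)) (tt N7872 (iv F56430)) (tt N6703 F54305) (tt N6315 F54306) (tt N8231 D14689))
theorem Q7305 : ∀ i, i < 7305 → P i := stepQ 7304 Q7304 (allL N7304 (tt N8230 (iv F58009)) (tt N6302 F54308) (tt N8170 (iv F57778)) (tt N7304 F54309) (tt N8231 (iv F58015)) (tt N7896 (iv F56543)) (tt N8228 (iv F58003)) (tt N8232 D14690) (tt N6300 (iv D13762)))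
theorem Q7306 : ∀ i, i < 7306 → P i := stepQ 7305 Q7305 (allL N7305 (tt N6341 F54310) (tt N8231 (iv F58013)) (tt N6304 F54311) (tt N6609 F54312) (tt N6302 F54313) (tt N7917 (iv F56645)) (tt N6506 F54314) (tt N8233 D14691) (tt N6301 (iv D13763)))
theorem Q7307 : ∀ i, i < 7307 → P i := stepQ 7306 Q7306 (allL N7306 (tt N6342 F54315) (tt N8232 (iv F58017)) (tt N6305 F54316) (tt N8234 D14692) (tt N8233 (iv F58022)) (tt N7898 (iv F56552)) (tt N8229 (iv F58007)) (tt N6302 (iv D13764)) (tt N6319 F54317))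
theorem Q7308 : ∀ i, i < 7308 → P i := stepQ 7307 Q7307 (allL N7307 (tt N6343 F54318) (tt N8175 (iv F57793)) (tt N7917 (iv F56642)) (tt N6503 F54319) (tt N7899 (iv F56557)) (tt N6304 F54320) (tt N7914 (iv F56631)) (tt N8235 D14693) (tt N6303 (iv D13765)))
theorem Q7309 : ∀ i, i < 7309 → P i := stepQ 7308 Q7308 (allL N7308 (tt N6344 F54321) (tt N8176 (iv F57797)) (tt N8233 (iv F58020)) (tt N6490 F54322) (tt N6305 F54323) (tt N8235 (iv F58030)) (tt N6501 F54324) (tt N6304 (iv D13766)) (tt N6322 F54325))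
theorem Q7310 : ∀ i, i < 7310 → P i := stepQ 7309 Q7309 (allL N7309 (tt N6345 F54326) (tt N8179 (iv F57809)) (tt N7889 (iv F56502)) (tt N7309 F54327) (tt N6307 F54328) (tt N7891 (iv F56517)) (tt N7903 (iv F56580)) (tt N8236 D14694) (tt N6306 (iv D13767)))
theorem Q7311 : ∀ i, i < 7311 → P i := stepQ 7310 Q7310 (allL N7310 (tt N6346 F54329) (tt N8180 (iv F57813)) (tt N8149 (iv F57698)) (tt N8085 (iv F57385)) (tt N8236 (iv F58033)) (tt N6313 F54330) (tt N7904 (iv F56584)) (tt N6307 (iv D13768)) (tt N8227 (iv F57998)))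
theorem Q7312 : ∀ i, i < 7312 → P i := stepQ 7311 Q7311 (allL N7311 (tt N6774 F54331) (tt N6309 F54332) (tt N8181 (iv F57817)) (tt N7311 F54333) (tt N6308 (iv D13769)) (tt N7849 (iv F56340)) (tt N6315 F54334) (tt N6703 F54335) (tt N8237 D14695))
theorem Q7313 : ∀ i, i < 7313 → P i := stepQ 7312 Q7312 (allL N7312 (tt N6775 F54336) (tt N6310 F54337) (tt N8182 (iv F57822)) (tt N6331 F54338) (tt N8237 (iv F58037)) (tt N8140 (iv F57658)) (tt N6316 F54339) (tt N8238 D14696) (tt N6308 (iv D13770)))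
theorem Q7314 : ∀ i, i < 7314 → P i := stepQ 7313 Q7313 (allL N7313 (tt N6347 F54340) (tt N8237 (iv F58035)) (tt N6312 F54341) (tt N7313 F54342) (tt N6310 F54343) (tt N7892 (iv F56523)) (tt N6318 F54344) (tt N8239 D14697) (tt N6309 (iv D13771)))
theorem Q7315 : ∀ i, i < 7315 → P i := stepQ 7314 Q7314 (allL N7314 (tt N6348 F54345) (tt N8238 (iv F58040)) (tt N6313 F54346) (tt N8240 D14698) (tt N8239 (iv F58044)) (tt N8149 (iv F57699)) (tt N6319 F54347) (tt N6310 (iv D13772)) (tt N8229 (iv F58008)))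
theorem Q7316 : ∀ i, i < 7316 → P i := stepQ 7315 Q7315 (allL N7315 (tt N6349 F54348) (tt N8187 (iv F57838)) (tt N7892 (iv F56520)) (tt N6324 F54349) (tt N7891 (iv F56516)) (tt N6312 F54350) (tt N7897 (iv F56549)) (tt N8241 D14699) (tt N6311 (iv D13773)))
theorem Q7317 : ∀ i, i < 7317 → P i := stepQ 7316 Q7316 (allL N7316 (tt N6350 F54351) (tt N8188 (iv F57842)) (tt N8239 (iv F58043)) (tt N6487 F54352) (tt N6313 F54353) (tt N8241 (iv F58052)) (tt N6322 F54354) (tt N6312 (iv D13774)) (tt N6501 F54355))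
theorem Q7318 : ∀ i, i < 7318 → P i := stepQ 7317 Q7317 (allL N7317 (tt N6315 F54356) (tt N6351 F54357) (tt N8189 (iv F57849)) (tt N7317 F54358) (tt N6314 (iv D13775)) (tt N7983 (iv F56963)) (tt N6774 F54359) (tt N7997 (iv F57024)) (tt N8242 D14700))
theorem Q7319 : ∀ i, i < 7319 → P i := stepQ 7318 Q7318 (allL N7318 (tt N6316 F54360) (tt N6352 F54361) (tt N8190 (iv F57853)) (tt N6333 F54362) (tt N8242 (iv F58057)) (tt N7910 (iv F56613)) (tt N6775 F54363) (tt N8243 D14701) (tt N6314 (iv D13776)))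
theorem Q7320 : ∀ i, i < 7320 → P i := stepQ 7319 Q7319 (allL N7319 (tt N7983 (iv F56959)) (tt N6317 F54364) (tt N8192 (iv F57859)) (tt N7319 F54365) (tt N7911 (iv F56617)) (tt N6315 (iv D13777)) (tt N7854 (iv F56360)) (tt N7872 (iv F56431)) (tt N8244 D14702))
theorem Q7321 : ∀ i, i < 7321 → P i := stepQ 7320 Q7320 (allL N7320 (tt N8242 (iv F58054)) (tt N6318 F54366) (tt N8193 (iv F57861)) (tt N7320 F54367) (tt N6316 F54368) (tt N8244 (iv F58064)) (tt N8237 (iv F58038)) (tt N8245 D14703) (tt N6315 (iv D13778)))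
theorem Q7322 : ∀ i, i < 7322 → P i := stepQ 7321 Q7321 (allL N7321 (tt N8243 (iv F58059)) (tt N6319 F54369) (tt N8194 (iv F57864)) (tt N8246 D14704) (tt N8245 (iv F58066)) (tt N7913 (iv F56625)) (tt N8238 (iv F58041)) (tt N6316 (iv D13779)) (tt N8232 (iv F58018)))
theorem Q7323 : ∀ i, i < 7323 → P i := stepQ 7322 Q7322 (allL N7322 (tt N6355 F54370) (tt N8244 (iv F58062)) (tt N6321 F54371) (tt N7322 F54372) (tt N7914 (iv F56629)) (tt N6318 F54373) (tt N7899 (iv F56559)) (tt N8247 D14705) (tt N6317 (iv D13780)))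
theorem Q7324 : ∀ i, i < 7324 → P i := stepQ 7323 Q7323 (allL N7323 (tt N6356 F54374) (tt N8245 (iv F58065)) (tt N6322 F54375) (tt N8248 D14706) (tt N6319 F54376) (tt N8247 (iv F58071)) (tt N8239 (iv F58045)) (tt N6318 (iv D13781)) (tt N8233 (iv F58024)))
theorem Q7325 : ∀ i, i < 7325 → P i := stepQ 7324 Q7324 (allL N7324 (tt N6357 F54377) (tt N8246 (iv F58067)) (tt N8142 (iv F57662)) (tt N6319 (iv D13782)) (tt N8249 D14707) (tt N7916 (iv F56639)) (tt N8240 (iv F58048)) (tt N6335 F54378) (tt N8234 (iv F58027)))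
theorem Q7326 : ∀ i, i < 7326 → P i := stepQ 7325 Q7325 (allL N7325 (tt N6358 F54379) (tt N8202 (iv F57883)) (tt N7899 (iv F56555)) (tt N6325 F54380) (tt N7917 (iv F56644)) (tt N7897 (iv F56548)) (tt N6321 F54381) (tt N8250 D14708) (tt N6320 (iv D13783)))
theorem Q7327 : ∀ i, i < 7327 → P i := stepQ 7326 Q7326 (allL N7326 (tt N6359 F54382) (tt N8203 (iv F57887)) (tt N8247 (iv F58070)) (tt N8251 D14709) (tt N7918 (iv F56648)) (tt N6322 F54383) (tt N8250 (iv F58079)) (tt N6321 (iv D13784)) (tt N8235 (iv F58031)))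
theorem Q7328 : ∀ i, i < 7328 → P i := stepQ 7327 Q7327 (allL N7327 (tt N6360 F54384) (tt N8204 (iv F57890)) (tt N6837 (iv F54389)) (tt N6322 (iv D13785)) (tt N6478 F54385) (tt N8251 (iv F58081)) (tt N6487 F54386) (tt N6327 F54387) (tt N6490 F54388))
theorem Q7329 : ∀ i, i < 7329 → P i := stepQ 7328 Q7328 (allL N7328 (tt N6361 F54390) (tt N8210 (iv F57919)) (tt N7328 F54391) (tt N7897 (iv F56546)) (tt N7328 F54392) (tt N6325 F54393) (tt N6324 F54394) (tt N6702 F54395) (tt N6323 (iv D13786)))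
theorem Q7330 : ∀ i, i < 7330 → P i := stepQ 7329 Q7329 (allL N7329 (tt N6362 F54396) (tt N8221 (iv F57967)) (tt N7329 F54397) (tt N7946 (iv F56802)) (tt N6328 F54398) (tt N6702 F54399) (tt N6326 F54400) (tt N6325 (iv D13787)) (tt N6651 F54401))
theorem Q7331 : ∀ i, i < 7331 → P i := stepQ 7330 Q7330 (allL N7330 (tt N6363 F54402) (tt N8222 (iv F57973)) (tt N6836 (iv F54405)) (tt N6326 (iv D13788)) (tt N7942 (iv F56780)) (tt N6327 F54403) (tt N7946 (iv F56805)) (tt N8251 (iv F58082)) (tt N6477 F54404))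
theorem Q7332 : ∀ i, i < 7332 → P i := stepQ 7331 Q7331 (allL N7331 (tt N6786 F54406) (tt N6332 F54407) (tt N7333 (iv F54416)) (tt N8252 D14710) (tt N7331 F54408) (tt N8145 (iv F57680)) (tt N6334 F54409) (tt N6331 (iv D13789)) (tt N7331 F54410))
theorem Q7333 : ∀ i, i < 7333 → P i := stepQ 7332 Q7332 (allL N7332 (tt N6364 F54411) (tt N8252 (iv F58086)) (tt N8144 (iv F57672)) (tt N6332 (iv D13790)) (tt N8253 D14711) (tt N8151 (iv F57707)) (tt N6335 F54412) (tt N8240 (iv F58049)) (tt N7332 F54413))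
theorem Q7334 : ∀ i, i < 7334 → P i := stepQ 7333 Q7333 (allL N7333 (tt N6334 F54414) (tt N6365 F54415) (tt N7331 F54416) (tt N8254 D14712) (tt N7333 F54417) (tt N7928 (iv F56701)) (tt N6786 F54418) (tt N6333 (iv D13791)) (tt N7333 F54419))
theorem Q7335 : ∀ i, i < 7335 → P i := stepQ 7334 Q7334 (allL N7334 (tt N8254 (iv F58095)) (tt N6335 F54420) (tt N8255 D14713) (tt N6334 (iv D13792)) (tt N8256 D14714) (tt N7929 (iv F56704)) (tt N8252 (iv F58087)) (tt N8246 (iv F58068)) (tt N7334 F54421))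
theorem Q7336 : ∀ i, i < 7336 → P i := stepQ 7335 Q7335 (allL N7335 (tt N6367 F54422) (tt N8256 (iv F58100)) (tt N8147 (iv F57687)) (tt N7335 F54423) (tt N6335 (iv D13793)) (tt N8101 (iv F57465)) (tt N8253 (iv F58093)) (tt N8249 (iv F58077)) (tt N7335 F54424))
theorem Q7337 : ∀ i, i < 7337 → P i := stepQ 7336 Q7336 (allL N7336 (tt N8227 (iv F57995)) (tt N6410 F54425) (tt N7941 (iv F56772)) (tt N6413 F54426) (tt N7940 (iv F56767)) (tt N6338 F54427) (tt N7931 (iv F56717)) (tt N6336 (iv D13794)) (tt N6346 F54428))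
theorem Q7338 : ∀ i, i < 7338 → P i := stepQ 7337 Q7337 (allL N7337 (tt N8229 (iv F58004)) (tt N6788 F54429) (tt N6338 F54430) (tt N8257 D14715) (tt N6528 F54431) (tt N7941 (iv F56774)) (tt N6342 F54432) (tt N6337 (iv D13795)) (tt N6348 F54433))
theorem Q7339 : ∀ i, i < 7339 → P i := stepQ 7338 Q7338 (allL N7338 (tt N6340 F54434) (tt N8230 (iv F58010)) (tt N6509 F54435) (tt N7338 F54436) (tt N8058 (iv F57266)) (tt N7934 (iv F56735)) (tt N6771 F54437) (tt N8258 D14716) (tt N6339 (iv D13796)))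
theorem Q7340 : ∀ i, i < 7340 → P i := stepQ 7339 Q7339 (allL N7339 (tt N8258 (iv F58108)) (tt N6342 F54438) (tt N6511 F54439) (tt N8259 D14717) (tt N8087 (iv F57399)) (tt N7935 (iv F56740)) (tt N6788 F54440) (tt N6340 (iv D13797)) (tt N6354 F54441))
theorem Q7341 : ∀ i, i < 7341 → P i := stepQ 7340 Q7340 (allL N7340 (tt N8233 (iv F58019)) (tt N8087 (iv F57396)) (tt N6344 F54442) (tt N6852 F54443) (tt N6342 F54444) (tt N7952 (iv F56838)) (tt N6528 F54445) (tt N6341 (iv D13798)) (tt N6356 F54446))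
theorem Q7342 : ∀ i, i < 7342 → P i := stepQ 7341 Q7341 (allL N7341 (tt N8234 (iv F58025)) (tt N8259 (iv F58112)) (tt N8084 (iv F57378)) (tt N6342 (iv D13799)) (tt N8096 (iv F57440)) (tt N7937 (iv F56751)) (tt N8257 (iv F58105)) (tt N7341 F54447) (tt N6357 F54448))
theorem Q7343 : ∀ i, i < 7343 → P i := stepQ 7342 Q7342 (allL N7342 (tt N8235 (iv F58028)) (tt N6515 F54449) (tt N7952 (iv F56835)) (tt N6517 F54450) (tt N7938 (iv F56756)) (tt N6344 F54451) (tt N7950 (iv F56826)) (tt N6343 (iv D13800)) (tt N6359 F54452))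
theorem Q7344 : ∀ i, i < 7344 → P i := stepQ 7343 Q7343 (allL N7343 (tt N8236 (iv F58032)) (tt N6412 F54453) (tt N7931 (iv F56713)) (tt N8260 D14718) (tt N6346 F54454) (tt N7932 (iv F56722)) (tt N7941 (iv F56775)) (tt N6345 (iv D13801)) (tt N7940 (iv F56770)))
theorem Q7345 : ∀ i, i < 7345 → P i := stepQ 7344 Q7344 (allL N7344 (tt N8239 (iv F58042)) (tt N6790 F54455) (tt N6350 F54456) (tt N8261 D14719) (tt N6348 F54457) (tt N7933 (iv F56728)) (tt N6356 F54458) (tt N6347 (iv D13802)) (tt N6528 F54459))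
theorem Q7346 : ∀ i, i < 7346 → P i := stepQ 7345 Q7345 (allL N7345 (tt N8240 (iv F58047)) (tt N6791 F54460) (tt N8148 (iv F57692)) (tt N6348 (iv D13803)) (tt N8262 D14720) (tt N8150 (iv F57702)) (tt N6357 F54461) (tt N6364 F54462) (tt N8257 (iv F58107)))
theorem Q7347 : ∀ i, i < 7347 → P i := stepQ 7346 Q7346 (allL N7346 (tt N8241 (iv F58050)) (tt N6517 F54463) (tt N7933 (iv F56726)) (tt N6515 F54464) (tt N7932 (iv F56721)) (tt N6350 F54465) (tt N7936 (iv F56748)) (tt N6349 (iv D13804)) (tt N6527 F54466))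
theorem Q7348 : ∀ i, i < 7348 → P i := stepQ 7347 Q7347 (allL N7347 (tt N6353 F54467) (tt N8242 (iv F58055)) (tt N6519 F54468) (tt N7347 F54469) (tt N6352 F54470) (tt N8050 (iv F57225)) (tt N6776 F54471) (tt N8263 D14721) (tt N6351 (iv D13805)))
theorem Q7349 : ∀ i, i < 7349 → P i := stepQ 7348 Q7348 (allL N7348 (tt N6354 F54472) (tt N8243 (iv F58060)) (tt N6520 F54473) (tt N8264 D14722) (tt N8263 (iv F58132)) (tt N7947 (iv F56808)) (tt N6777 F54474) (tt N6352 (iv D13806)) (tt N8258 (iv F58111)))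
theorem Q7350 : ∀ i, i < 7350 → P i := stepQ 7349 Q7349 (allL N7349 (tt N8263 (iv F58130)) (tt N6356 F54475) (tt N6522 F54476) (tt N8265 D14723) (tt N6354 F54477) (tt N8081 (iv F57368)) (tt N6790 F54478) (tt N6353 (iv D13807)) (tt N8087 (iv F57402)))
theorem Q7351 : ∀ i, i < 7351 → P i := stepQ 7350 Q7350 (allL N7350 (tt N8264 (iv F58134)) (tt N6357 F54479) (tt N7944 (iv F56789)) (tt N6354 (iv D13808)) (tt N8097 (iv F57444)) (tt N7949 (iv F56818)) (tt N6791 F54480) (tt N6366 F54481) (tt N8259 (iv F58115)))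
theorem Q7352 : ∀ i, i < 7352 → P i := stepQ 7351 Q7351 (allL N7351 (tt N8247 (iv F58069)) (tt N8081 (iv F57365)) (tt N6359 F54482) (tt N8266 D14724) (tt N7950 (iv F56824)) (tt N6356 F54483) (tt N7938 (iv F56758)) (tt N6355 (iv D13809)) (tt N7952 (iv F56840)))
theorem Q7353 : ∀ i, i < 7353 → P i := stepQ 7352 Q7352 (allL N7352 (tt N8248 (iv F58072)) (tt N8265 (iv F58137)) (tt N6849 F54484) (tt N6356 (iv D13810)) (tt N8083 (iv F57375)) (tt N8266 (iv F58142)) (tt N8261 (iv F58122)) (tt N7352 F54485) (tt N6852 F54486))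
theorem Q7354 : ∀ i, i < 7354 → P i := stepQ 7353 Q7353 (allL N7353 (tt N8249 (iv F58076)) (tt N8097 (iv F57443)) (tt N8080 F57364) (tt N8083 (iv F57374)) (tt N6357 (iv D13811)) (tt N8098 (iv F57449)) (tt N8262 (iv F58128)) (tt N6367 F54487) (tt N8096 (iv F57442)))
theorem Q7355 : ∀ i, i < 7355 → P i := stepQ 7354 Q7354 (allL N7354 (tt N8250 (iv F58078)) (tt N6526 F54488) (tt N7938 (iv F56755)) (tt N7948 (iv F56811)) (tt N7952 (iv F56837)) (tt N7936 (iv F56747)) (tt N6359 F54489) (tt N6358 (iv D13812)) (tt N7950 (iv F56827)))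
theorem Q7356 : ∀ i, i < 7356 → P i := stepQ 7355 Q7355 (allL N7355 (tt N8251 (iv F58080)) (tt N6527 F54490) (tt N6848 (iv F54494)) (tt N6359 (iv D13813)) (tt N7943 (iv F56785)) (tt N6360 F54491) (tt N7948 (iv F56814)) (tt N6363 F54492) (tt N6517 F54493))
theorem Q7357 : ∀ i, i < 7357 → P i := stepQ 7356 Q7356 (allL N7356 (tt N8253 (iv F58089)) (tt N6797 F54495) (tt N6795 F54496) (tt N7356 F54497) (tt N6364 (iv D13814)) (tt N6796 F54498) (tt N6367 F54499) (tt N8262 (iv F58129)) (tt N7356 F54500))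
theorem Q7358 : ∀ i, i < 7358 → P i := stepQ 7357 Q7357 (allL N7357 (tt N6366 F54501) (tt N8254 (iv F58096)) (tt N7927 (iv F56694)) (tt N6365 (iv D13815)) (tt N8075 (iv F57336)) (tt N7957 (iv F56866)) (tt N6787 F54502) (tt N8264 (iv F58136)) (tt N7357 F54503))
theorem Q7359 : ∀ i, i < 7359 → P i := stepQ 7358 Q7358 (allL N7358 (tt N8123 (iv F57569)) (tt N8267 D14725) (tt N6368 (iv D13816)) (tt N6370 F54504) (tt N8268 D14726) (tt N6798 F54505) (tt N8132 (iv F57620)) (tt N7037 F54506) (tt N8269 D14727))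
theorem Q7360 : ∀ i, i < 7360 → P i := stepQ 7359 Q7359 (allL N7359 (tt N7071 F54507) (tt N6533 F54508) (tt N8268 (iv F58150)) (tt N6652 F54509) (tt N6368 (iv D13817)) (tt N7695 (iv F55807)) (tt N6941 F54510) (tt N7038 F54511) (tt N8270 D14728))
theorem Q7361 : ∀ i, i < 7361 → P i := stepQ 7360 Q7360 (allL N7360 (tt N8124 (iv F57575)) (tt N6534 F54512) (tt N8269 (iv F58154)) (tt N6369 F54513) (tt N8270 (iv F58160)) (tt N6800 F54514) (tt N8136 (iv F57639)) (tt N8271 D14729) (tt N6368 (iv D13818)))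
theorem Q7362 : ∀ i, i < 7362 → P i := stepQ 7361 Q7361 (allL N7361 (tt N8163 (iv F57747)) (tt N6370 (iv D13819)) (tt N6396 F54515) (tt N8267 (iv F58146)) (tt N8127 (iv F57595)) (tt N6423 F54516) (tt N7969 (iv F56908)) (tt N6374 F54517) (tt N8272 D14730))
theorem Q7363 : ∀ i, i < 7363 → P i := stepQ 7362 Q7362 (allL N7362 (tt N8125 (iv F57581)) (tt N8272 (iv F58166)) (tt N6371 F54518) (tt N8269 (iv F58155)) (tt N8128 (iv F57601)) (tt N6802 F54519) (tt N8133 (iv F57625)) (tt N8273 D14731) (tt N6370 (iv D13820)))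
theorem Q7364 : ∀ i, i < 7364 → P i := stepQ 7363 Q7363 (allL N7363 (tt N8126 (iv F57586)) (tt N6398 F54520) (tt N8273 (iv F58169)) (tt N6431 F54521) (tt N8129 (iv F57606)) (tt N6805 F54522) (tt N8135 (iv F57633)) (tt N6371 (iv D13821)) (tt N6379 F54523))
theorem Q7365 : ∀ i, i < 7365 → P i := stepQ 7364 Q7364 (allL N7364 (tt N8128 (iv F57598)) (tt N7987 (iv F56977)) (tt N6373 F54524) (tt N7057 F54525) (tt N8125 (iv F57583)) (tt N7992 (iv F57005)) (tt N6376 F54526) (tt N8274 D14732) (tt N6372 (iv D13822)))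
theorem Q7366 : ∀ i, i < 7366 → P i := stepQ 7365 Q7365 (allL N7365 (tt N8129 (iv F57603)) (tt N6399 F54527) (tt N8274 (iv F58172)) (tt N6436 F54528) (tt N8126 (iv F57589)) (tt N8056 (iv F57255)) (tt N6379 F54529) (tt N6373 (iv D13823)) (tt N8135 (iv F57634)))
theorem Q7367 : ∀ i, i < 7367 → P i := stepQ 7366 Q7366 (allL N7366 (tt N8177 (iv F57802)) (tt N6375 F54530) (tt N6400 F54531) (tt N8275 D14733) (tt N6374 (iv D13824)) (tt N8276 D14734) (tt N7986 (iv F56974)) (tt N8127 (iv F57597)) (tt N8277 D14735))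
theorem Q7368 : ∀ i, i < 7368 → P i := stepQ 7367 Q7367 (allL N7367 (tt N8178 (iv F57804)) (tt N6376 F54532) (tt N6401 F54533) (tt N7063 F54534) (tt N8277 (iv F58182)) (tt N6433 F54535) (tt N7987 (iv F56980)) (tt N8278 D14736) (tt N6374 (iv D13825)))
theorem Q7369 : ∀ i, i < 7369 → P i := stepQ 7368 Q7368 (allL N7368 (tt N8132 (iv F57617)) (tt N8275 (iv F58174)) (tt N6381 F54536) (tt N6375 (iv D13826)) (tt N7064 F54537) (tt N8279 D14737) (tt N8123 (iv F57573)) (tt N8280 D14738) (tt N8281 D14739))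
theorem Q7370 : ∀ i, i < 7370 → P i := stepQ 7369 Q7369 (allL N7369 (tt N7971 F56919) (tt N8276 (iv F58177)) (tt N6377 F54538) (tt N8279 (iv F58187)) (tt N6807 F54539) (tt N6375 (iv D13827)) (tt N7976 (iv F56939)) (tt N7990 (iv F56994)) (tt N8282 D14740))
theorem Q7371 : ∀ i, i < 7371 → P i := stepQ 7370 Q7370 (allL N7370 (tt N8133 (iv F57622)) (tt N8277 (iv F58180)) (tt N6378 F54540) (tt N8281 (iv F58194)) (tt N6376 F54541) (tt N8282 (iv F58198)) (tt N8125 (iv F57585)) (tt N8283 D14741) (tt N6375 (iv D13828)))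
theorem Q7372 : ∀ i, i < 7372 → P i := stepQ 7371 Q7371 (allL N7371 (tt N8134 (iv F57626)) (tt N8278 (iv F58183)) (tt N6379 F54542) (tt N8284 D14742) (tt N8283 (iv F58200)) (tt N6809 F54543) (tt N8274 (iv F58173)) (tt N6376 (iv D13829)) (tt N8273 (iv F58171)))
theorem Q7373 : ∀ i, i < 7373 → P i := stepQ 7372 Q7372 (allL N7372 (tt N8041 (iv F57171)) (tt N6405 F54544) (tt N8282 (iv F58196)) (tt N6385 F54545) (tt N6811 F54546) (tt N6378 F54547) (tt N8044 (iv F57195)) (tt N8285 D14743) (tt N6377 (iv D13830)))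
theorem Q7374 : ∀ i, i < 7374 → P i := stepQ 7373 Q7373 (allL N7373 (tt N8135 (iv F57629)) (tt N6406 F54548) (tt N8283 (iv F58199)) (tt N8167 (iv F57765)) (tt N6379 F54549) (tt N8285 (iv F58206)) (tt N8126 (iv F57591)) (tt N6378 (iv D13831)) (tt N8129 (iv F57608)))
theorem Q7375 : ∀ i, i < 7375 → P i := stepQ 7374 Q7374 (allL N7374 (tt N8103 F57476) (tt N7374 F54550) (tt N8279 (iv F58186)) (tt N6382 F54551) (tt N8286 D14744) (tt N6381 (iv D13832)) (tt N8109 (iv F57499)) (tt N8287 D14745) (tt N8288 D14746))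
theorem Q7376 : ∀ i, i < 7376 → P i := stepQ 7375 Q7375 (allL N7375 (tt N7035 F54552) (tt N7375 F54553) (tt N8280 (iv F58189)) (tt N6655 F54554) (tt N7079 F54555) (tt N8287 (iv F58213)) (tt N6920 F54556) (tt N6381 (iv D13833)) (tt N8289 D14747))
theorem Q7377 : ∀ i, i < 7377 → P i := stepQ 7376 Q7376 (allL N7376 (tt N8136 (iv F57635)) (tt N7376 F54557) (tt N8281 (iv F58193)) (tt N6383 F54558) (tt N7080 F54559) (tt N8288 (iv F58217)) (tt N8124 (iv F57580)) (tt N8290 D14748) (tt N6381 (iv D13834)))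
theorem Q7378 : ∀ i, i < 7378 → P i := stepQ 7377 Q7377 (allL N7377 (tt N8117 (iv F57527)) (tt N7377 F54560) (tt N6385 F54561) (tt N8288 (iv F58216)) (tt N6390 F54562) (tt N6383 F54563) (tt N8118 (iv F57539)) (tt N8153 (iv F57719)) (tt N6382 (iv D13835)))
theorem Q7379 : ∀ i, i < 7379 → P i := stepQ 7378 Q7378 (allL N7378 (tt N6665 F54564) (tt N7378 F54565) (tt N6460 F54566) (tt N6384 (iv D13836)) (tt N8291 D14749) (tt N6392 F54567) (tt N6624 F54568) (tt N7084 F54569) (tt N6621 F54570))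
theorem Q7380 : ∀ i, i < 7380 → P i := stepQ 7379 Q7379 (allL N7379 (tt N8137 (iv F57640)) (tt N7379 F54571) (tt N6823 F54572) (tt N8286 (iv F58208)) (tt N6386 (iv D13837)) (tt N7088 F54573) (tt N8292 D14750) (tt N8293 D14751) (tt N8294 D14752))
theorem Q7381 : ∀ i, i < 7381 → P i := stepQ 7380 Q7380 (allL N7380 (tt N8119 (iv F57540)) (tt N7380 F54574) (tt N6824 F54575) (tt N6389 F54576) (tt N8292 (iv F58235)) (tt N7380 F54577) (tt N6386 (iv D13838)) (tt N8295 D14753) (tt N8296 D14754))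
theorem Q7382 : ∀ i, i < 7382 → P i := stepQ 7381 Q7381 (allL N7381 (tt N7469 (iv F54844)) (tt N7381 F54578) (tt N6825 F54579) (tt N6658 F54580) (tt N8293 (iv F58241)) (tt N6387 F54581) (tt N8295 (iv F58257)) (tt N6386 (iv D13839)) (tt N7292 (iv F54582)))
theorem Q7383 : ∀ i, i < 7383 → P i := stepQ 7382 Q7382 (allL N7382 (tt N7470 (iv F54849)) (tt N7382 F54583) (tt N6826 F54584) (tt N6390 F54585) (tt N8294 (iv F58248)) (tt N6388 F54586) (tt N8296 (iv F58263)) (tt N7293 F54587) (tt N6386 (iv D13840)))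
theorem Q7384 : ∀ i, i < 7384 → P i := stepQ 7383 Q7383 (allL N7383 (tt N8120 (iv F57547)) (tt N7383 F54588) (tt N6393 F54589) (tt N8296 (iv F58261)) (tt N8118 (iv F57537)) (tt N7383 F54590) (tt N6390 F54591) (tt N8297 D14755) (tt N6389 (iv D13841)))
theorem Q7385 : ∀ i, i < 7385 → P i := stepQ 7384 Q7384 (allL N7384 (tt N7472 (iv F54859)) (tt N7384 F54592) (tt N6394 F54593) (tt N7295 F54594) (tt N8153 (iv F57717)) (tt N6391 F54595) (tt N8297 (iv F58269)) (tt N6390 (iv D13842)) (tt N6661 F54596))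
theorem Q7386 : ∀ i, i < 7386 → P i := stepQ 7385 Q7385 (allL N7385 (tt N7968 (iv F56898)) (tt N6407 F54597) (tt N8297 (iv F58266)) (tt N8121 (iv F57556)) (tt N7847 (iv F56330)) (tt N7385 F54598) (tt N6394 F54599) (tt N6393 (iv D13843)) (tt N6662 F54600))
theorem Q7387 : ∀ i, i < 7387 → P i := stepQ 7386 Q7386 (allL N7386 (tt N7473 (iv F54866)) (tt N6408 F54601) (tt N7297 F54602) (tt N6394 (iv D13844)) (tt N7924 (iv F56678)) (tt N6395 F54603) (tt N8121 (iv F57559)) (tt N6834 F54604) (tt N6663 F54605))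
theorem Q7388 : ∀ i, i < 7388 → P i := stepQ 7387 Q7387 (allL N7387 (tt N8164 (iv F57750)) (tt N6397 F54606) (tt N8272 (iv F58167)) (tt N6422 F54607) (tt N8138 (iv F57648)) (tt N6425 F54608) (tt N7970 (iv F56914)) (tt N8298 D14756) (tt N6396 (iv D13845)))
theorem Q7389 : ∀ i, i < 7389 → P i := stepQ 7388 Q7388 (allL N7388 (tt N6410 F54609) (tt N8298 (iv F58271)) (tt N6398 F54610) (tt N8042 (iv F57179)) (tt N8139 (iv F57652)) (tt N6478 F54611) (tt N8040 (iv F57169)) (tt N6397 (iv D13846)) (tt N6404 F54612))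
theorem Q7390 : ∀ i, i < 7390 → P i := stepQ 7389 Q7389 (allL N7389 (tt N7890 (iv F56507)) (tt N6402 F54613) (tt N8276 (iv F58178)) (tt N7389 F54614) (tt N6434 F54615) (tt N6400 (iv D13847)) (tt N7894 (iv F56532)) (tt N7905 (iv F56590)) (tt N8299 D14757))
theorem Q7391 : ∀ i, i < 7391 → P i := stepQ 7390 Q7390 (allL N7390 (tt N8179 (iv F57808)) (tt N6403 F54616) (tt N8277 (iv F58181)) (tt N7390 F54617) (tt N6401 F54618) (tt N8299 (iv F58277)) (tt N7988 (iv F56985)) (tt N8300 D14758) (tt N6400 (iv D13848)))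
theorem Q7392 : ∀ i, i < 7392 → P i := stepQ 7391 Q7391 (allL N7391 (tt N8180 (iv F57812)) (tt N6404 F54619) (tt N8278 (iv F58184)) (tt N8056 (iv F57254)) (tt N8300 (iv F58279)) (tt N6436 F54620) (tt N7989 (iv F56989)) (tt N6401 (iv D13849)) (tt N8298 (iv F58273)))
theorem Q7393 : ∀ i, i < 7393 → P i := stepQ 7392 Q7392 (allL N7392 (tt N6411 F54621) (tt N8299 (iv F58274)) (tt N6405 F54622) (tt N7392 F54623) (tt N6489 F54624) (tt N6403 F54625) (tt N7934 (iv F56736)) (tt N8301 D14759) (tt N6402 (iv D13850)))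
theorem Q7394 : ∀ i, i < 7394 → P i := stepQ 7393 Q7393 (allL N7393 (tt N6412 F54626) (tt N8300 (iv F58278)) (tt N6406 F54627) (tt N8302 D14760) (tt N6404 F54628) (tt N8301 (iv F58283)) (tt N8053 (iv F57239)) (tt N6403 (iv D13851)) (tt N8139 (iv F57654)))
theorem Q7395 : ∀ i, i < 7395 → P i := stepQ 7394 Q7394 (allL N7394 (tt N6413 F54629) (tt N8285 (iv F58204)) (tt N8301 (iv F58281)) (tt N8227 (iv F57996)) (tt N6839 F54630) (tt N6406 F54631) (tt N8078 (iv F57351)) (tt N6405 (iv D13852)) (tt N8085 (iv F57389)))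
theorem Q7396 : ∀ i, i < 7396 → P i := stepQ 7395 Q7395 (allL N7395 (tt N8301 (iv F58280)) (tt N7932 (iv F56719)) (tt N6413 F54632) (tt N8303 D14761) (tt N6517 F54633) (tt N6412 F54634) (tt N7935 (iv F56741)) (tt N6411 (iv D13853)) (tt N7943 (iv F56788)))
theorem Q7397 : ∀ i, i < 7397 → P i := stepQ 7396 Q7396 (allL N7396 (tt N8302 (iv F58284)) (tt N8260 (iv F58116)) (tt N8257 (iv F58104)) (tt N6412 (iv D13854)) (tt N8086 (iv F57391)) (tt N8303 (iv F58286)) (tt N8084 (iv F57381)) (tt N7396 F54635) (tt N8148 (iv F57696)))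
theorem Q7398 : ∀ i, i < 7398 → P i := stepQ 7397 Q7397 (allL N7397 (tt N8152 (iv F57710)) (tt N6532 F54636) (tt N8267 (iv F58145)) (tt N6415 (iv D13855)) (tt N7664 (iv F55676)) (tt N6416 F54637) (tt N7958 (iv F56870)) (tt N7176 F54638) (tt N8304 D14762))
theorem Q7399 : ∀ i, i < 7399 → P i := stepQ 7398 Q7398 (allL N7398 (tt N8153 (iv F57714)) (tt N6535 F54639) (tt N6422 F54640) (tt N8304 (iv F58289)) (tt N7472 F54865) (tt N6417 F54641) (tt N7959 (iv F56874)) (tt N8117 (iv F57533)) (tt N6415 (iv D13856)))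
theorem Q7400 : ∀ i, i < 7400 → P i := stepQ 7399 Q7399 (allL N7399 (tt N8154 (iv F57720)) (tt N6798 F54642) (tt N6416 (iv D13857)) (tt N6423 F54643) (tt N8305 D14763) (tt N8267 (iv F58147)) (tt N6418 F54644) (tt N7402 (iv F54654)) (tt N8306 D14764))
theorem Q7401 : ∀ i, i < 7401 → P i := stepQ 7400 Q7400 (allL N7400 (tt N8155 (iv F57723)) (tt N6537 F54645) (tt N8305 (iv F58292)) (tt N6664 F54646) (tt N6416 (iv D13858)) (tt N7666 (iv F55681)) (tt N6419 F54647) (tt N7521 (iv F55036)) (tt N8307 D14765))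
theorem Q7402 : ∀ i, i < 7402 → P i := stepQ 7401 Q7401 (allL N7401 (tt N8156 (iv F57727)) (tt N6538 F54648) (tt N8306 (iv F58295)) (tt N6417 F54649) (tt N8307 (iv F58300)) (tt N8304 (iv F58290)) (tt N6420 F54650) (tt N8308 D14766) (tt N6416 (iv D13859)))
theorem Q7403 : ∀ i, i < 7403 → P i := stepQ 7402 Q7402 (allL N7402 (tt N8309 D14767) (tt N6418 (iv D13860)) (tt N6539 F54651) (tt N6426 F54652) (tt N8310 D14768) (tt N7962 (iv F56883)) (tt N6798 F54653) (tt N7399 F54654) (tt N8311 D14769))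
theorem Q7404 : ∀ i, i < 7404 → P i := stepQ 7403 Q7403 (allL N7403 (tt N8158 (iv F57733)) (tt N8310 (iv F58308)) (tt N6419 F54655) (tt N8312 D14770) (tt N6418 (iv D13861)) (tt N8313 D14771) (tt N8305 (iv F58293)) (tt N7751 (iv F55993)) (tt N8314 D14772))
theorem Q7405 : ∀ i, i < 7405 → P i := stepQ 7404 Q7404 (allL N7404 (tt N8159 (iv F57735)) (tt N8311 (iv F58312)) (tt N6420 F54656) (tt N6428 F54657) (tt N8314 (iv F58320)) (tt N7964 (iv F56887)) (tt N8306 (iv F58297)) (tt N8315 D14773) (tt N6418 (iv D13862)))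
theorem Q7406 : ∀ i, i < 7406 → P i := stepQ 7405 Q7405 (allL N7405 (tt N8160 (iv F57738)) (tt N6542 F54658) (tt N8313 (iv F58318)) (tt N6668 F54659) (tt N7965 (iv F56890)) (tt N6419 (iv D13863)) (tt N8316 D14774) (tt N7753 (iv F55999)) (tt N8317 D14775))
theorem Q7407 : ∀ i, i < 7407 → P i := stepQ 7406 Q7406 (allL N7406 (tt N8161 (iv F57741)) (tt N6543 F54660) (tt N8314 (iv F58319)) (tt N6669 F54661) (tt N6420 F54662) (tt N8317 (iv F58326)) (tt N8307 (iv F58301)) (tt N8318 D14776) (tt N6419 (iv D13864)))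
theorem Q7408 : ∀ i, i < 7408 → P i := stepQ 7407 Q7407 (allL N7407 (tt N8162 (iv F57745)) (tt N6544 F54663) (tt N8315 (iv F58321)) (tt N8271 (iv F58163)) (tt N8318 (iv F58328)) (tt N7967 (iv F56897)) (tt N8308 (iv F58303)) (tt N6420 (iv D13865)) (tt N7755 (iv F56004)))
theorem Q7409 : ∀ i, i < 7409 → P i := stepQ 7408 Q7408 (allL N7408 (tt N6694 F54664) (tt N6801 F54665) (tt N6424 F54666) (tt N8319 D14777) (tt N6423 (iv D13866)) (tt N8320 D14778) (tt N6427 F54667) (tt N6432 F54668) (tt N8223 (iv F57980)))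
theorem Q7410 : ∀ i, i < 7410 → P i := stepQ 7409 Q7409 (allL N7409 (tt N8166 (iv F57759)) (tt N6802 F54669) (tt N6425 F54670) (tt N8306 (iv F58296)) (tt N8223 (iv F57978)) (tt N8272 (iv F58168)) (tt N6428 F54671) (tt N8321 D14779) (tt N6423 (iv D13867)))
theorem Q7411 : ∀ i, i < 7411 → P i := stepQ 7410 Q7410 (allL N7410 (tt N6693 F54672) (tt N6477 F54673) (tt N8320 (iv F58335)) (tt N6641 F54674) (tt N7905 (iv F56587)) (tt N6424 (iv D13868)) (tt N7909 (iv F56607)) (tt N6434 F54675) (tt N8222 (iv F57975)))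
theorem Q7412 : ∀ i, i < 7412 → P i := stepQ 7411 Q7411 (allL N7411 (tt N8167 (iv F57763)) (tt N6478 F54676) (tt N8321 (iv F58338)) (tt N8135 (iv F57631)) (tt N8204 (iv F57891)) (tt N8298 (iv F58272)) (tt N6431 F54677) (tt N6425 (iv D13869)) (tt N6436 F54678))
theorem Q7413 : ∀ i, i < 7413 → P i := stepQ 7412 Q7412 (allL N7412 (tt N6426 (iv D13870)) (tt N8168 (iv F57769)) (tt N6479 F54679) (tt N8309 (iv F58305)) (tt N8322 D14780) (tt N7976 (iv F56938)) (tt N6744 F54680) (tt N6437 F54681) (tt N8323 D14781))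
theorem Q7414 : ∀ i, i < 7414 → P i := stepQ 7413 Q7413 (allL N7413 (tt N8322 (iv F58341)) (tt N6427 F54682) (tt N6480 F54683) (tt N8324 D14782) (tt N6426 (iv D13871)) (tt N8325 D14783) (tt N6801 F54684) (tt N6438 F54685) (tt N8326 D14784))
theorem Q7415 : ∀ i, i < 7415 → P i := stepQ 7414 Q7414 (allL N7414 (tt N8323 (iv F58345)) (tt N6428 F54686) (tt N6481 F54687) (tt N8311 (iv F58314)) (tt N8326 (iv F58356)) (tt N7978 (iv F56949)) (tt N6802 F54688) (tt N8327 D14785) (tt N6426 (iv D13872)))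
theorem Q7416 : ∀ i, i < 7416 → P i := stepQ 7415 Q7415 (allL N7415 (tt N8171 (iv F57779)) (tt N8324 (iv F58348)) (tt N6671 F54689) (tt N6427 (iv D13873)) (tt N8312 (iv F58317)) (tt N8328 D14786) (tt N8319 (iv F58332)) (tt N8329 D14787) (tt N8330 D14788))
theorem Q7417 : ∀ i, i < 7417 → P i := stepQ 7416 Q7416 (allL N7416 (tt N8172 (iv F57782)) (tt N8325 (iv F58351)) (tt N6429 F54690) (tt N8328 (iv F58363)) (tt N7980 (iv F56952)) (tt N6427 (iv D13874)) (tt N8331 D14789) (tt N6441 F54691) (tt N8332 D14790))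
theorem Q7418 : ∀ i, i < 7418 → P i := stepQ 7417 Q7417 (allL N7417 (tt N8173 (iv F57785)) (tt N8326 (iv F58354)) (tt N6430 F54692) (tt N8330 (iv F58367)) (tt N6428 F54693) (tt N8332 (iv F58371)) (tt N8223 (iv F57979)) (tt N8333 D14791) (tt N6427 (iv D13875)))
theorem Q7419 : ∀ i, i < 7419 → P i := stepQ 7418 Q7418 (allL N7418 (tt N8174 (iv F57789)) (tt N8327 (iv F58358)) (tt N6431 F54694) (tt N8334 D14792) (tt N8333 (iv F58373)) (tt N7982 (iv F56957)) (tt N8321 (iv F58339)) (tt N6428 (iv D13876)) (tt N6443 F54695))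
theorem Q7420 : ∀ i, i < 7420 → P i := stepQ 7419 Q7419 (allL N7419 (tt N7911 (iv F56614)) (tt N6485 F54696) (tt N8331 (iv F58368)) (tt N6674 F54697) (tt N7983 (iv F56962)) (tt N7909 F56609) (tt N6429 (iv D13877)) (tt N6444 F54698) (tt N8335 D14793))
theorem Q7421 : ∀ i, i < 7421 → P i := stepQ 7420 Q7420 (allL N7420 (tt N8175 (iv F57792)) (tt N6486 F54699) (tt N8332 (iv F58370)) (tt N6675 F54700) (tt N7984 (iv F56967)) (tt N6430 F54701) (tt N8335 (iv F58378)) (tt N8336 D14794) (tt N6429 (iv D13878)))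
theorem Q7422 : ∀ i, i < 7422 → P i := stepQ 7421 Q7421 (allL N7421 (tt N8176 (iv F57796)) (tt N6487 F54702) (tt N8333 (iv F58372)) (tt N8188 (iv F57843)) (tt N6431 F54703) (tt N8336 (iv F58380)) (tt N8204 (iv F57892)) (tt N6430 (iv D13879)) (tt N6446 F54704))
theorem Q7423 : ∀ i, i < 7423 → P i := stepQ 7422 Q7422 (allL N7422 (tt N8183 (iv F57824)) (tt N6806 F54705) (tt N6447 F54706) (tt N6432 (iv D13880)) (tt N7431 (iv F54735)) (tt N8337 D14795) (tt N6440 F54707) (tt N8338 D14796) (tt N8339 D14797))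
theorem Q7424 : ∀ i, i < 7424 → P i := stepQ 7423 Q7423 (allL N7423 (tt N8184 (iv F57827)) (tt N6807 F54708) (tt N6434 F54709) (tt N8337 (iv F58384)) (tt N8276 (iv F58179)) (tt N6432 (iv D13881)) (tt N8340 D14798) (tt N8320 (iv F58336)) (tt N8341 D14799))
theorem Q7425 : ∀ i, i < 7425 → P i := stepQ 7424 Q7424 (allL N7424 (tt N8185 (iv F57830)) (tt N6808 F54710) (tt N6435 F54711) (tt N8339 (iv F58390)) (tt N6433 F54712) (tt N8341 (iv F58397)) (tt N6442 F54713) (tt N8342 D14800) (tt N6432 (iv D13882)))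
theorem Q7426 : ∀ i, i < 7426 → P i := stepQ 7425 Q7425 (allL N7425 (tt N8186 (iv F57834)) (tt N6809 F54714) (tt N6436 F54715) (tt N8343 D14801) (tt N8342 (iv F58400)) (tt N8278 (iv F58185)) (tt N6443 F54716) (tt N6433 (iv D13883)) (tt N8321 (iv F58340)))
theorem Q7427 : ∀ i, i < 7427 → P i := stepQ 7426 Q7426 (allL N7426 (tt N7895 (iv F56535)) (tt N6488 F54717) (tt N8340 (iv F58393)) (tt N6451 F54718) (tt N7894 F56534) (tt N6444 F54719) (tt N6434 (iv D13884)) (tt N7909 (iv F56608)) (tt N8344 D14802))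
theorem Q7428 : ∀ i, i < 7428 → P i := stepQ 7427 Q7427 (allL N7427 (tt N8187 (iv F57837)) (tt N6489 F54720) (tt N8341 (iv F58396)) (tt N6452 F54721) (tt N8299 (iv F58276)) (tt N6435 F54722) (tt N8344 (iv F58407)) (tt N8345 D14803) (tt N6434 (iv D13885)))
theorem Q7429 : ∀ i, i < 7429 → P i := stepQ 7428 Q7428 (allL N7428 (tt N8188 (iv F57841)) (tt N6490 F54723) (tt N8342 (iv F58399)) (tt N8176 (iv F57798)) (tt N6436 F54724) (tt N8345 (iv F58409)) (tt N6446 F54725) (tt N6435 (iv D13886)) (tt N8204 (iv F57894)))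
theorem Q7430 : ∀ i, i < 7430 → P i := stepQ 7429 Q7429 (allL N7429 (tt N6438 F54726) (tt N8189 (iv F57848)) (tt N6491 F54727) (tt N8346 D14804) (tt N6437 (iv D13887)) (tt N8347 D14805) (tt N6748 F54728) (tt N8322 (iv F58344)) (tt N8348 D14806))
theorem Q7431 : ∀ i, i < 7431 → P i := stepQ 7430 Q7430 (allL N7430 (tt N6439 F54729) (tt N8190 (iv F57852)) (tt N6492 F54730) (tt N7261 F54731) (tt N8348 (iv F58418)) (tt N8001 (iv F57039)) (tt N6749 F54732) (tt N8349 D14807) (tt N6437 (iv D13888)))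
theorem Q7432 : ∀ i, i < 7432 → P i := stepQ 7431 Q7431 (allL N7431 (tt N8346 (iv F58410)) (tt N6440 F54733) (tt N6550 F54734) (tt N6438 (iv D13889)) (tt N7422 F54735) (tt N8350 D14808) (tt N6806 F54736) (tt N8351 D14809) (tt N8352 D14810))
theorem Q7433 : ∀ i, i < 7433 → P i := stepQ 7432 Q7432 (allL N7432 (tt N8347 (iv F58414)) (tt N6441 F54737) (tt N6493 F54738) (tt N8350 (iv F58425)) (tt N8003 (iv F57044)) (tt N6438 (iv D13890)) (tt N8353 D14811) (tt N8325 (iv F58353)) (tt N8354 D14812))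
theorem Q7434 : ∀ i, i < 7434 → P i := stepQ 7433 Q7433 (allL N7433 (tt N8348 (iv F58416)) (tt N6442 F54739) (tt N6494 F54740) (tt N8352 (iv F58432)) (tt N6439 F54741) (tt N8354 (iv F58440)) (tt N6808 F54742) (tt N8355 D14813) (tt N6438 (iv D13891)))
theorem Q7435 : ∀ i, i < 7435 → P i := stepQ 7434 Q7434 (allL N7434 (tt N8349 (iv F58420)) (tt N6443 F54743) (tt N6495 F54744) (tt N8356 D14814) (tt N8355 (iv F58443)) (tt N8005 (iv F57050)) (tt N6809 F54745) (tt N6439 (iv D13892)) (tt N8327 (iv F58361)))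
theorem Q7436 : ∀ i, i < 7436 → P i := stepQ 7435 Q7435 (allL N7435 (tt N8195 (iv F57865)) (tt N8350 (iv F58423)) (tt N6454 F54746) (tt N6441 F54747) (tt N8357 D14815) (tt N6440 (iv D13893)) (tt N8358 D14816) (tt N8359 D14817) (tt N8360 D14818))
theorem Q7437 : ∀ i, i < 7437 → P i := stepQ 7436 Q7436 (allL N7436 (tt N8196 (iv F57868)) (tt N8351 (iv F58426)) (tt N6455 F54748) (tt N8329 (iv F58365)) (tt N7763 (iv F56021)) (tt N8359 (iv F58454)) (tt N8338 (iv F58387)) (tt N6440 (iv D13894)) (tt N8361 D14819))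
theorem Q7438 : ∀ i, i < 7438 → P i := stepQ 7437 Q7437 (allL N7437 (tt N8197 (iv F57870)) (tt N8352 (iv F58430)) (tt N6456 F54749) (tt N6442 F54750) (tt N7764 (iv F56024)) (tt N8360 (iv F58458)) (tt N8339 (iv F58391)) (tt N8362 D14820) (tt N6440 (iv D13895)))
theorem Q7439 : ∀ i, i < 7439 → P i := stepQ 7438 Q7438 (allL N7438 (tt N8198 (iv F57873)) (tt N8353 (iv F58435)) (tt N6444 F54751) (tt N8358 (iv F58450)) (tt N8009 (iv F57057)) (tt N8340 (iv F58394)) (tt N6441 (iv D13896)) (tt N8331 (iv F58369)) (tt N8363 D14821))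
theorem Q7440 : ∀ i, i < 7440 → P i := stepQ 7439 Q7439 (allL N7439 (tt N8199 (iv F57875)) (tt N8354 (iv F58438)) (tt N6445 F54752) (tt N8360 (iv F58457)) (tt N8010 (iv F57059)) (tt N6442 F54753) (tt N8363 (iv F58462)) (tt N8364 D14822) (tt N6441 (iv D13897)))
theorem Q7441 : ∀ i, i < 7441 → P i := stepQ 7440 Q7440 (allL N7440 (tt N8200 (iv F57878)) (tt N8355 (iv F58441)) (tt N6446 F54754) (tt N8365 D14823) (tt N6443 F54755) (tt N8364 (iv F58464)) (tt N8342 (iv F58401)) (tt N6442 (iv D13898)) (tt N8333 (iv F58374)))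
theorem Q7442 : ∀ i, i < 7442 → P i := stepQ 7441 Q7441 (allL N7441 (tt N8201 (iv F57881)) (tt N8356 (iv F58445)) (tt N8284 (iv F58201)) (tt N6443 (iv D13899)) (tt N8366 D14824) (tt N8012 (iv F57064)) (tt N8343 (iv F58403)) (tt N7768 (iv F56030)) (tt N8334 (iv F58375)))
theorem Q7443 : ∀ i, i < 7443 → P i := stepQ 7442 Q7442 (allL N7442 (tt N8202 (iv F57882)) (tt N6499 F54756) (tt N8363 (iv F58461)) (tt N6461 F54757) (tt N8013 (iv F57067)) (tt N8344 (iv F58406)) (tt N6445 F54758) (tt N8367 D14825) (tt N6444 (iv D13900)))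
theorem Q7444 : ∀ i, i < 7444 → P i := stepQ 7443 Q7443 (allL N7443 (tt N8203 (iv F57886)) (tt N6500 F54759) (tt N8364 (iv F58463)) (tt N8368 D14826) (tt N8014 (iv F57070)) (tt N6446 F54760) (tt N8367 (iv F58466)) (tt N6445 (iv D13901)) (tt N8336 (iv F58381)))
theorem Q7445 : ∀ i, i < 7445 → P i := stepQ 7444 Q7444 (allL N7444 (tt N8204 (iv F57889)) (tt N6501 F54761) (tt N8369 D14827) (tt N6446 (iv D13902)) (tt N8167 (iv F57766)) (tt N8368 (iv F58468)) (tt N8176 (iv F57800)) (tt N6463 F54762) (tt N8188 (iv F57846)))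
theorem Q7446 : ∀ i, i < 7446 → P i := stepQ 7445 Q7445 (allL N7445 (tt N8205 (iv F57895)) (tt N6564 F54763) (tt N8337 (iv F58383)) (tt N6448 F54764) (tt N8370 D14828) (tt N6447 (iv D13903)) (tt N8371 D14829) (tt N8372 D14830) (tt N8373 D14831))
theorem Q7447 : ∀ i, i < 7447 → P i := stepQ 7446 Q7446 (allL N7446 (tt N8206 (iv F57898)) (tt N6565 F54765) (tt N8338 (iv F58386)) (tt N6680 F54766) (tt N7535 (iv F55090)) (tt N8372 (iv F58483)) (tt N6455 F54767) (tt N6447 (iv D13904)) (tt N8374 D14832))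
theorem Q7448 : ∀ i, i < 7448 → P i := stepQ 7447 Q7447 (allL N7447 (tt N8207 (iv F57902)) (tt N6566 F54768) (tt N8339 (iv F58389)) (tt N6449 F54769) (tt N7536 (iv F55094)) (tt N8373 (iv F58487)) (tt N6456 F54770) (tt N8375 D14833) (tt N6447 (iv D13905)))
theorem Q7449 : ∀ i, i < 7449 → P i := stepQ 7448 Q7448 (allL N7448 (tt N8208 (iv F57906)) (tt N6567 F54771) (tt N6451 F54772) (tt N8371 (iv F58476)) (tt N7448 F54773) (tt N6457 F54774) (tt N6448 (iv D13906)) (tt N6681 F54775) (tt N8376 D14834))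
theorem Q7450 : ∀ i, i < 7450 → P i := stepQ 7449 Q7449 (allL N7449 (tt N8209 (iv F57912)) (tt N6568 F54776) (tt N6452 F54777) (tt N8373 (iv F58486)) (tt N7449 F54778) (tt N6449 F54779) (tt N8376 (iv F58497)) (tt N8377 D14835) (tt N6448 (iv D13907)))
theorem Q7451 : ∀ i, i < 7451 → P i := stepQ 7450 Q7450 (allL N7450 (tt N6673 F54780) (tt N6569 F54781) (tt N6453 F54782) (tt N8378 D14836) (tt N6450 F54783) (tt N8377 (iv F58502)) (tt N6459 F54784) (tt N6449 (iv D13908)) (tt N6625 F54785))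
theorem Q7452 : ∀ i, i < 7452 → P i := stepQ 7451 Q7451 (allL N7451 (tt N6667 F54786) (tt N6570 F54787) (tt N6624 F54788) (tt N6450 (iv D13909)) (tt N8379 D14837) (tt N7451 F54789) (tt N6460 F54790) (tt N7540 (iv F55113)) (tt N6622 F54791))
theorem Q7453 : ∀ i, i < 7453 → P i := stepQ 7452 Q7452 (allL N7452 (tt N8210 (iv F57918)) (tt N6502 F54792) (tt N8376 (iv F58494)) (tt N8344 (iv F58405)) (tt N7452 F54793) (tt N6461 F54794) (tt N6452 F54795) (tt N8380 D14838) (tt N6451 (iv D13910)))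
theorem Q7454 : ∀ i, i < 7454 → P i := stepQ 7453 Q7453 (allL N7453 (tt N6675 F54796) (tt N6503 F54797) (tt N8377 (iv F58500)) (tt N8175 (iv F57794)) (tt N7453 F54798) (tt N6453 F54799) (tt N8380 (iv F58517)) (tt N6452 (iv D13911)) (tt N6626 F54800))
theorem Q7455 : ∀ i, i < 7455 → P i := stepQ 7454 Q7454 (allL N7454 (tt N8211 (iv F57924)) (tt N6574 F54801) (tt N8357 (iv F58448)) (tt N6464 F54802) (tt N6454 (iv D13912)) (tt N7772 (iv F56040)) (tt N7456 (iv F54810)) (tt N7455 F54805) (tt N8381 D14839))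
theorem Q7456 : ∀ i, i < 7456 → P i := stepQ 7455 Q7455 (allL N7455 (tt N8212 (iv F57927)) (tt N6575 F54803) (tt N8358 (iv F58449)) (tt N6457 F54804) (tt N7456 (iv F54808)) (tt N8371 (iv F58478)) (tt N6454 (iv D13913)) (tt N7454 (iv F54805)) (tt N8382 D14840))
theorem Q7457 : ∀ i, i < 7457 → P i := stepQ 7456 Q7456 (allL N7456 (tt N8213 (iv F57931)) (tt N6576 F54806) (tt N8359 (iv F58452)) (tt N6684 F54807) (tt N7455 F54808) (tt N6455 F54809) (tt N7454 F54810) (tt N6454 (iv D13914)) (tt N8383 D14841))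
theorem Q7458 : ∀ i, i < 7458 → P i := stepQ 7457 Q7457 (allL N7457 (tt N8214 (iv F57937)) (tt N6577 F54811) (tt N8360 (iv F58456)) (tt N6458 F54812) (tt N8381 (iv F58521)) (tt N6456 F54813) (tt N8382 (iv F58524)) (tt N8384 D14842) (tt N6454 (iv D13915)))
theorem Q7459 : ∀ i, i < 7459 → P i := stepQ 7458 Q7458 (allL N7458 (tt N8215 (iv F57941)) (tt N6578 F54814) (tt N8361 (iv F58459)) (tt N6686 F54815) (tt N7776 (iv F56051)) (tt N8383 (iv F58528)) (tt N8374 (iv F58490)) (tt N8385 D14843) (tt N6455 (iv D13916)))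
theorem Q7460 : ∀ i, i < 7460 → P i := stepQ 7459 Q7459 (allL N7459 (tt N8216 (iv F57944)) (tt N6579 F54816) (tt N8362 (iv F58460)) (tt N8386 D14844) (tt N7777 (iv F56053)) (tt N8384 (iv F58531)) (tt N8375 (iv F58492)) (tt N6456 (iv D13917)) (tt N8385 (iv F58533)))
theorem Q7461 : ∀ i, i < 7461 → P i := stepQ 7460 Q7460 (allL N7460 (tt N8217 (iv F57946)) (tt N6580 F54817) (tt N6461 F54818) (tt N8382 (iv F58523)) (tt N6470 F54819) (tt N8376 (iv F58496)) (tt N6458 F54820) (tt N8387 D14845) (tt N6457 (iv D13918)))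
theorem Q7462 : ∀ i, i < 7462 → P i := stepQ 7461 Q7461 (allL N7461 (tt N8218 (iv F57951)) (tt N6581 F54821) (tt N6462 F54822) (tt N8388 D14846) (tt N6471 F54823) (tt N6459 F54824) (tt N8387 (iv F58539)) (tt N6458 (iv D13919)) (tt N6689 F54825))
theorem Q7463 : ∀ i, i < 7463 → P i := stepQ 7462 Q7462 (allL N7462 (tt N8219 (iv F57957)) (tt N6582 F54826) (tt N8389 D14847) (tt N6459 (iv D13920)) (tt N8390 D14848) (tt N8388 (iv F58543)) (tt N8378 (iv F58506)) (tt N8386 (iv F58535)) (tt N6690 F54827))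
theorem Q7464 : ∀ i, i < 7464 → P i := stepQ 7463 Q7463 (allL N7463 (tt N8220 (iv F57961)) (tt N6583 F54828) (tt N8291 (iv F58227)) (tt N8390 (iv F58548)) (tt N6460 (iv D13921)) (tt N7634 (iv F55562)) (tt N8379 (iv F58511)) (tt N7781 (iv F56066)) (tt N6691 F54829))
theorem Q7465 : ∀ i, i < 7465 → P i := stepQ 7464 Q7464 (allL N7464 (tt N8221 (iv F57966)) (tt N6504 F54830) (tt N8387 (iv F58537)) (tt N7912 (iv F56621)) (tt N6474 F54831) (tt N8380 (iv F58516)) (tt N6462 F54832) (tt N6461 (iv D13922)) (tt N6692 F54833))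
theorem Q7466 : ∀ i, i < 7466 → P i := stepQ 7465 Q7465 (allL N7465 (tt N8222 (iv F57972)) (tt N6505 F54834) (tt N8391 D14849) (tt N6462 (iv D13923)) (tt N7906 (iv F56593)) (tt N6463 F54835) (tt N7912 (iv F56623)) (tt N8368 (iv F58469)) (tt N6693 F54836))
theorem Q7467 : ∀ i, i < 7467 → P i := stepQ 7466 Q7466 (allL N7466 (tt N8223 (iv F57976)) (tt N8392 D14850) (tt N6463 (iv D13924)) (tt N8389 (iv F58545)) (tt N8166 (iv F57761)) (tt N8391 (iv F58551)) (tt N8173 (iv F57788)) (tt N8369 (iv F58470)) (tt N6694 F54837))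
theorem Q7468 : ∀ i, i < 7468 → P i := stepQ 7467 Q7467 (allL N7467 (tt N8224 (iv F57981)) (tt N6587 F54838) (tt N8037 (iv F57152)) (tt N8381 (iv F58520)) (tt N6467 F54839) (tt N7785 (iv F56078)) (tt N7659 (iv F55663)) (tt N8393 D14851) (tt N6464 (iv D13925)))
theorem Q7469 : ∀ i, i < 7469 → P i := stepQ 7468 Q7468 (allL N7468 (tt N8225 (iv F57984)) (tt N6588 F54840) (tt N8038 (iv F57155)) (tt N6470 F54841) (tt N7659 (iv F55661)) (tt N7468 F54842) (tt N6467 F54843) (tt N8394 D14852) (tt N6465 (iv D13926)))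
theorem Q7470 : ∀ i, i < 7470 → P i := stepQ 7469 Q7469 (allL N7469 (tt N7381 F54844) (tt N6589 F54845) (tt N7724 (iv F55908)) (tt N6697 F54846) (tt N7658 (iv F55658)) (tt N6468 F54847) (tt N7657 (iv F55655)) (tt N7216 (iv F54848)) (tt N6466 (iv D13927)))
theorem Q7471 : ∀ i, i < 7471 → P i := stepQ 7470 Q7470 (allL N7470 (tt N7382 F54849) (tt N6590 F54850) (tt N7725 (iv F55914)) (tt N7217 (iv F54853)) (tt N8393 (iv F58557)) (tt N6469 F54851) (tt N8394 (iv F58562)) (tt N6467 (iv D13928)) (tt N7216 F54852))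
theorem Q7472 : ∀ i, i < 7472 → P i := stepQ 7471 Q7471 (allL N7471 (tt N8226 (iv F57989)) (tt N6593 F54854) (tt N6474 F54855) (tt N8395 D14853) (tt N8387 (iv F58538)) (tt N7471 F54856) (tt N6471 F54857) (tt N6470 (iv D13929)) (tt N6699 F54858))
theorem Q7473 : ∀ i, i < 7473 → P i := stepQ 7472 Q7472 (allL N7472 (tt N7384 F54859) (tt N6594 F54860) (tt N7218 (iv F54864)) (tt N6471 (iv D13930)) (tt N7398 (iv F54865)) (tt N6472 F54861) (tt N8395 (iv F58569)) (tt N7217 F54862) (tt N6700 F54863))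
theorem Q7474 : ∀ i, i < 7474 → P i := stepQ 7473 Q7473 (allL N7473 (tt N7386 F54866) (tt N7196 F54867) (tt N6475 (iv D13931)) (tt N7218 F54868) (tt N7227 F54869) (tt N6476 F54870) (tt N7199 F54871) (tt N7729 (iv F55938)) (tt N6701 F54872))
theorem Q7475 : ∀ i, i < 7475 → P i := stepQ 7474 Q7474 (allL N7474 (tt N6480 F54873) (tt N6508 F54874) (tt N8322 (iv F58342)) (tt N7474 F54875) (tt N6479 (iv D13932)) (tt N8064 (iv F57296)) (tt N6745 F54876) (tt N6491 F54877) (tt N8396 D14854))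
theorem Q7476 : ∀ i, i < 7476 → P i := stepQ 7475 Q7475 (allL N7475 (tt N6481 F54878) (tt N6509 F54879) (tt N8323 (iv F58346)) (tt N6547 F54880) (tt N8396 (iv F58576)) (tt N8044 (iv F57194)) (tt N6746 F54881) (tt N8397 D14855) (tt N6479 (iv D13933)))
theorem Q7477 : ∀ i, i < 7477 → P i := stepQ 7476 Q7476 (allL N7476 (tt N8064 (iv F57292)) (tt N6482 F54882) (tt N8325 (iv F58352)) (tt N7476 F54883) (tt N8045 (iv F57199)) (tt N6480 (iv D13934)) (tt N8061 (iv F57282)) (tt N6493 F54884) (tt N8398 D14856))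
theorem Q7478 : ∀ i, i < 7478 → P i := stepQ 7477 Q7477 (allL N7477 (tt N8396 (iv F58573)) (tt N6483 F54885) (tt N8326 (iv F58355)) (tt N7477 F54886) (tt N6481 F54887) (tt N8398 (iv F58584)) (tt N6804 F54888) (tt N8399 D14857) (tt N6480 (iv D13935)))
theorem Q7479 : ∀ i, i < 7479 → P i := stepQ 7478 Q7478 (allL N7478 (tt N8397 (iv F58578)) (tt N6484 F54889) (tt N8327 (iv F58359)) (tt N7975 (iv F56934)) (tt N8399 (iv F58586)) (tt N8047 (iv F57208)) (tt N6805 F54890) (tt N6481 (iv D13936)) (tt N6495 F54891))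
theorem Q7480 : ∀ i, i < 7480 → P i := stepQ 7479 Q7479 (allL N7479 (tt N6512 F54892) (tt N8398 (iv F58582)) (tt N6486 F54893) (tt N7479 F54894) (tt N8048 (iv F57213)) (tt N6483 F54895) (tt N8090 (iv F57416)) (tt N8400 D14858) (tt N6482 (iv D13937)))
theorem Q7481 : ∀ i, i < 7481 → P i := stepQ 7480 Q7480 (allL N7480 (tt N6513 F54896) (tt N8399 (iv F58585)) (tt N6487 F54897) (tt N8401 D14859) (tt N6484 F54898) (tt N8400 (iv F58591)) (tt N6837 F54899) (tt N6483 (iv D13938)) (tt N6498 F54900))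
theorem Q7482 : ∀ i, i < 7482 → P i := stepQ 7481 Q7481 (allL N7481 (tt N6514 F54901) (tt N8335 (iv F58376)) (tt N8090 (iv F57412)) (tt N6702 F54902) (tt N8050 (iv F57224)) (tt N7946 (iv F56804)) (tt N6486 F54903) (tt N8402 D14860) (tt N6485 (iv D13939)))
theorem Q7483 : ∀ i, i < 7483 → P i := stepQ 7482 Q7482 (allL N7482 (tt N6515 F54904) (tt N8336 (iv F58379)) (tt N8400 (iv F58590)) (tt N8241 (iv F58051)) (tt N8051 (iv F57228)) (tt N6487 F54905) (tt N8402 (iv F58598)) (tt N6486 (iv D13940)) (tt N6500 F54906))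
theorem Q7484 : ∀ i, i < 7484 → P i := stepQ 7483 Q7483 (allL N7483 (tt N6516 F54907) (tt N8344 (iv F58404)) (tt N6838 F54908) (tt N6502 F54909) (tt N7934 (iv F56734)) (tt N6499 F54910) (tt N6489 F54911) (tt N8403 D14861) (tt N6488 (iv D13941)))
theorem Q7485 : ∀ i, i < 7485 → P i := stepQ 7484 Q7484 (allL N7484 (tt N6517 F54912) (tt N8345 (iv F58408)) (tt N6839 F54913) (tt N8235 (iv F58029)) (tt N8301 (iv F58282)) (tt N6490 F54914) (tt N8403 (iv F58603)) (tt N6489 (iv D13942)) (tt N8251 (iv F58083)))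
theorem Q7486 : ∀ i, i < 7486 → P i := stepQ 7485 Q7485 (allL N7485 (tt N6493 F54915) (tt N6518 F54916) (tt N8347 (iv F58415)) (tt N6595 F54917) (tt N8061 (iv F57281)) (tt N6491 (iv D13943)) (tt N8045 (iv F57200)) (tt N8064 (iv F57297)) (tt N8404 D14862))
theorem Q7487 : ∀ i, i < 7487 → P i := stepQ 7486 Q7486 (allL N7486 (tt N6494 F54918) (tt N6519 F54919) (tt N8348 (iv F58417)) (tt N6596 F54920) (tt N6492 F54921) (tt N8404 (iv F58607)) (tt N6751 F54922) (tt N8405 D14863) (tt N6491 (iv D13944)))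
theorem Q7488 : ∀ i, i < 7488 → P i := stepQ 7487 Q7487 (allL N7487 (tt N6495 F54923) (tt N6520 F54924) (tt N8349 (iv F58421)) (tt N7864 (iv F56404)) (tt N8405 (iv F58610)) (tt N8063 (iv F57291)) (tt N6752 F54925) (tt N6492 (iv D13945)) (tt N8397 (iv F58581)))
theorem Q7489 : ∀ i, i < 7489 → P i := stepQ 7488 Q7488 (allL N7488 (tt N8045 (iv F57196)) (tt N6496 F54926) (tt N8353 (iv F58436)) (tt N6598 F54927) (tt N8064 (iv F57295)) (tt N6810 F54928) (tt N6493 (iv D13946)) (tt N8061 (iv F57283)) (tt N8406 D14864))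
theorem Q7490 : ∀ i, i < 7490 → P i := stepQ 7489 Q7489 (allL N7489 (tt N8404 (iv F58604)) (tt N6497 F54929) (tt N8354 (iv F58439)) (tt N6599 F54930) (tt N8065 (iv F57300)) (tt N6494 F54931) (tt N8406 (iv F58615)) (tt N8407 D14865) (tt N6493 (iv D13947)))
theorem Q7491 : ∀ i, i < 7491 → P i := stepQ 7490 Q7490 (allL N7490 (tt N8405 (iv F58608)) (tt N6498 F54932) (tt N8355 (iv F58442)) (tt N8408 D14866) (tt N6495 F54933) (tt N8407 (iv F58617)) (tt N6812 F54934) (tt N6494 (iv D13948)) (tt N8399 (iv F58588)))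
theorem Q7492 : ∀ i, i < 7492 → P i := stepQ 7491 Q7491 (allL N7491 (tt N6523 F54935) (tt N8406 (iv F58612)) (tt N6499 F54936) (tt N6601 F54937) (tt N8067 (iv F57307)) (tt N6838 F54938) (tt N6497 F54939) (tt N8409 D14867) (tt N6496 (iv D13949)))
theorem Q7493 : ∀ i, i < 7493 → P i := stepQ 7492 Q7492 (allL N7492 (tt N6524 F54940) (tt N8407 (iv F58616)) (tt N6500 F54941) (tt N8410 D14868) (tt N8068 (iv F57312)) (tt N6498 F54942) (tt N8409 (iv F58624)) (tt N6497 (iv D13950)) (tt N8400 (iv F58592)))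
theorem Q7494 : ∀ i, i < 7494 → P i := stepQ 7493 Q7493 (allL N7493 (tt N6525 F54943) (tt N8408 (iv F58618)) (tt N8411 D14869) (tt N6498 (iv D13951)) (tt N8060 (iv F57275)) (tt N8410 (iv F58626)) (tt N6840 F54944) (tt N6603 F54945) (tt N8401 (iv F58596)))
theorem Q7495 : ∀ i, i < 7495 → P i := stepQ 7494 Q7494 (allL N7494 (tt N6526 F54946) (tt N8367 (iv F58465)) (tt N8409 (iv F58622)) (tt N7915 (iv F56634)) (tt N8070 (iv F57317)) (tt N8403 (iv F58602)) (tt N6500 F54947) (tt N6499 (iv D13952)) (tt N8402 (iv F58599)))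
theorem Q7496 : ∀ i, i < 7496 → P i := stepQ 7495 Q7495 (allL N7495 (tt N6527 F54948) (tt N8368 (iv F58467)) (tt N7908 (iv F56600)) (tt N6500 (iv D13953)) (tt N7907 (iv F56597)) (tt N6501 F54949) (tt N7915 (iv F56636)) (tt N6505 F54950) (tt N8241 (iv F58053)))
theorem Q7497 : ∀ i, i < 7497 → P i := stepQ 7496 Q7496 (allL N7496 (tt N6528 F54951) (tt N8412 D14870) (tt N6501 (iv D13954)) (tt N8411 (iv F58629)) (tt N8229 (iv F58006)) (tt N7908 (iv F56602)) (tt N8233 (iv F58023)) (tt N6506 F54952) (tt N8239 (iv F58046)))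
theorem Q7498 : ∀ i, i < 7498 → P i := stepQ 7497 Q7497 (allL N7497 (tt N6529 F54953) (tt N8380 (iv F58514)) (tt N6607 F54954) (tt N7914 (iv F56628)) (tt N7497 F54955) (tt N6504 F54956) (tt N6503 F54957) (tt N6502 (iv D13955)) (tt N6650 F54958))
theorem Q7499 : ∀ i, i < 7499 → P i := stepQ 7498 Q7498 (allL N7498 (tt N7998 (iv F57025)) (tt N6506 (iv D13956)) (tt N8392 (iv F58553)) (tt N6610 F54959) (tt N8228 (iv F58002)) (tt N7863 (iv F56400)) (tt N8231 (iv F58016)) (tt N8412 (iv F58632)) (tt N6703 F54960))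
theorem Q7500 : ∀ i, i < 7500 → P i := stepQ 7499 Q7499 (allL N7499 (tt N6510 F54961) (tt N8396 (iv F58574)) (tt N8058 (iv F57264)) (tt N7499 F54962) (tt N6509 F54963) (tt N8067 (iv F57308)) (tt N6772 F54964) (tt N8413 D14871) (tt N6508 (iv D13957)))
theorem Q7501 : ∀ i, i < 7501 → P i := stepQ 7500 Q7500 (allL N7500 (tt N6511 F54965) (tt N8397 (iv F58579)) (tt N8258 (iv F58109)) (tt N7893 (iv F56526)) (tt N8413 (iv F58634)) (tt N8078 (iv F57350)) (tt N6773 F54966) (tt N6509 (iv D13958)) (tt N6520 F54967))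
theorem Q7502 : ∀ i, i < 7502 → P i := stepQ 7501 Q7501 (allL N7501 (tt N8413 (iv F58633)) (tt N6513 F54968) (tt N8087 (iv F57397)) (tt N8414 D14872) (tt N6511 F54969) (tt N8094 (iv F57434)) (tt N6789 F54970) (tt N6510 (iv D13959)) (tt N6522 F54971))
theorem Q7503 : ∀ i, i < 7503 → P i := stepQ 7502 Q7502 (allL N7502 (tt N8400 (iv F58589)) (tt N8094 (iv F57431)) (tt N6515 F54972) (tt N8415 D14873) (tt N8079 (iv F57355)) (tt N6513 F54973) (tt N8092 (iv F57425)) (tt N6512 (iv D13960)) (tt N6524 F54974))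
theorem Q7504 : ∀ i, i < 7504 → P i := stepQ 7503 Q7503 (allL N7503 (tt N8401 (iv F58593)) (tt N8414 (iv F58637)) (tt N8261 (iv F58121)) (tt N6513 (iv D13961)) (tt N8077 (iv F57343)) (tt N8415 (iv F58641)) (tt N6849 F54975) (tt N7503 F54976) (tt N6525 F54977))
theorem Q7505 : ∀ i, i < 7505 → P i := stepQ 7504 Q7504 (allL N7504 (tt N8402 (iv F58597)) (tt N7950 (iv F56821)) (tt N8092 (iv F57422)) (tt N7936 (iv F56745)) (tt N8081 (iv F57367)) (tt N7948 (iv F56813)) (tt N6515 F54978) (tt N6514 (iv D13962)) (tt N6526 F54979))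
theorem Q7506 : ∀ i, i < 7506 → P i := stepQ 7505 Q7505 (allL N7505 (tt N8403 (iv F58600)) (tt N7936 (iv F56743)) (tt N6850 F54980) (tt N7950 (iv F56823)) (tt N7935 (iv F56739)) (tt N6526 F54981) (tt N6517 F54982) (tt N6516 (iv D13963)) (tt N7948 (iv F56815)))
theorem Q7507 : ∀ i, i < 7507 → P i := stepQ 7506 Q7506 (allL N7506 (tt N6521 F54983) (tt N8404 (iv F58605)) (tt N8050 (iv F57222)) (tt N6612 F54984) (tt N8090 (iv F57414)) (tt N6519 F54985) (tt N8048 (iv F57215)) (tt N8416 D14874) (tt N6518 (iv D13964)))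
theorem Q7508 : ∀ i, i < 7508 → P i := stepQ 7507 Q7507 (allL N7507 (tt N6522 F54986) (tt N8405 (iv F58609)) (tt N8263 (iv F58131)) (tt N8417 D14875) (tt N6520 F54987) (tt N8416 (iv F58645)) (tt N6779 F54988) (tt N6519 (iv D13965)) (tt N8413 (iv F58636)))
theorem Q7509 : ∀ i, i < 7509 → P i := stepQ 7508 Q7508 (allL N7508 (tt N8416 (iv F58644)) (tt N6524 F54989) (tt N8081 (iv F57366)) (tt N8418 D14876) (tt N8092 (iv F57423)) (tt N6522 F54990) (tt N8079 (iv F57357)) (tt N6521 (iv D13966)) (tt N8094 (iv F57436)))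
theorem Q7510 : ∀ i, i < 7510 → P i := stepQ 7509 Q7509 (allL N7509 (tt N8417 (iv F58646)) (tt N6525 F54991) (tt N8419 D14877) (tt N6522 (iv D13967)) (tt N7945 (iv F56796)) (tt N8418 (iv F58650)) (tt N6793 F54992) (tt N6616 F54993) (tt N8414 (iv F58640)))
theorem Q7511 : ∀ i, i < 7511 → P i := stepQ 7510 Q7510 (allL N7510 (tt N8409 (iv F58621)) (tt N8079 (iv F57353)) (tt N6526 F54994) (tt N7954 (iv F56846)) (tt N8094 (iv F57433)) (tt N6850 F54995) (tt N6524 F54996) (tt N6523 (iv D13968)) (tt N8092 (iv F57426)))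
theorem Q7512 : ∀ i, i < 7512 → P i := stepQ 7511 Q7511 (allL N7511 (tt N8410 (iv F58625)) (tt N8418 (iv F58649)) (tt N7945 (iv F56795)) (tt N6524 (iv D13969)) (tt N8419 (iv F58652)) (tt N6525 F54997) (tt N7954 (iv F56849)) (tt N6618 F54998) (tt N8415 (iv F58643)))
theorem Q7513 : ∀ i, i < 7513 → P i := stepQ 7512 Q7512 (allL N7512 (tt N8411 (iv F58628)) (tt N8088 (iv F57403)) (tt N6525 (iv D13970)) (tt N6528 F54999) (tt N8089 (iv F57408)) (tt N7945 (iv F56797)) (tt N6852 F55000) (tt N6619 F55001) (tt N8261 (iv F58124)))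
theorem Q7514 : ∀ i, i < 7514 → P i := stepQ 7513 Q7513 (allL N7513 (tt N7513 F55002) (tt N6941 F55003) (tt N7694 (iv F55803)) (tt N6704 F55004) (tt N6530 (iv D13971)) (tt N8420 D14878) (tt N6533 F55005) (tt N7174 F55006) (tt N8421 D14879))
theorem Q7515 : ∀ i, i < 7515 → P i := stepQ 7514 Q7514 (allL N7514 (tt N7514 F55007) (tt N8136 (iv F57636)) (tt N8102 (iv F57468)) (tt N6531 F55008) (tt N8421 (iv F58662)) (tt N8105 (iv F57485)) (tt N6534 F55009) (tt N8422 D14880) (tt N6530 (iv D13972)))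
theorem Q7516 : ∀ i, i < 7516 → P i := stepQ 7515 Q7515 (allL N7515 (tt N7515 F55010) (tt N8304 (iv F58288)) (tt N6534 F55011) (tt N6535 F55012) (tt N7574 (iv F55262)) (tt N6538 F55013) (tt N8102 (iv F57471)) (tt N8423 D14881) (tt N6532 (iv D13973)))
theorem Q7517 : ∀ i, i < 7517 → P i := stepQ 7516 Q7516 (allL N7516 (tt N7516 F55014) (tt N8270 (iv F58158)) (tt N7574 (iv F55261)) (tt N6707 F55015) (tt N6534 F55016) (tt N7575 (iv F55267)) (tt N8421 (iv F58663)) (tt N8424 D14882) (tt N6533 (iv D13974)))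
theorem Q7518 : ∀ i, i < 7518 → P i := stepQ 7517 Q7517 (allL N7517 (tt N7517 F55017) (tt N8271 (iv F58162)) (tt N8423 (iv F58669)) (tt N6544 F55018) (tt N8424 (iv F58673)) (tt N6860 F55019) (tt N8422 (iv F58666)) (tt N6534 (iv D13975)) (tt N7181 F55020))
theorem Q7519 : ∀ i, i < 7519 → P i := stepQ 7518 Q7518 (allL N7518 (tt N7518 F55021) (tt N8307 (iv F58298)) (tt N6859 F55022) (tt N6709 F55023) (tt N6538 F55024) (tt N7576 (iv F55271)) (tt N6543 F55025) (tt N8425 D14883) (tt N6537 (iv D13976)))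
theorem Q7520 : ∀ i, i < 7520 → P i := stepQ 7519 Q7519 (allL N7519 (tt N7519 F55026) (tt N8308 (iv F58302)) (tt N6860 F55027) (tt N8422 (iv F58665)) (tt N8425 (iv F58677)) (tt N8423 (iv F58670)) (tt N6544 F55028) (tt N6538 (iv D13977)) (tt N7525 (iv F55053)))
theorem Q7521 : ∀ i, i < 7521 → P i := stepQ 7520 Q7520 (allL N7520 (tt N6539 (iv D13978)) (tt N7520 F55029) (tt N8309 (iv F58304)) (tt N6545 F55030) (tt N8426 D14884) (tt N8109 (iv F57498)) (tt N6742 F55031) (tt N7241 F55032) (tt N8427 D14885))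
theorem Q7522 : ∀ i, i < 7522 → P i := stepQ 7521 Q7521 (allL N7521 (tt N8426 (iv F58679)) (tt N6540 F55033) (tt N8310 (iv F58309)) (tt N7521 F55034) (tt N6539 (iv D13979)) (tt N8428 D14886) (tt N6799 F55035) (tt N7400 F55036) (tt N8429 D14887))
theorem Q7523 : ∀ i, i < 7523 → P i := stepQ 7522 Q7522 (allL N7522 (tt N8427 (iv F58684)) (tt N6541 F55037) (tt N8311 (iv F58313)) (tt N6546 F55038) (tt N8429 (iv F58694)) (tt N8111 (iv F57506)) (tt N6800 F55039) (tt N8430 D14888) (tt N6539 (iv D13980)))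
theorem Q7524 : ∀ i, i < 7524 → P i := stepQ 7523 Q7523 (allL N7523 (tt N7523 F55040) (tt N8428 (iv F58688)) (tt N6542 F55041) (tt N7523 F55042) (tt N6732 F55043) (tt N6540 (iv D13981)) (tt N8431 D14889) (tt N6736 F55044) (tt N8432 D14890))
theorem Q7525 : ∀ i, i < 7525 → P i := stepQ 7524 Q7524 (allL N7524 (tt N7524 F55045) (tt N8429 (iv F58692)) (tt N6543 F55046) (tt N7524 F55047) (tt N6541 F55048) (tt N8432 (iv F58709)) (tt N6859 F55049) (tt N8433 D14891) (tt N6540 (iv D13982)))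
theorem Q7526 : ∀ i, i < 7526 → P i := stepQ 7525 Q7525 (allL N7525 (tt N7525 F55050) (tt N8430 (iv F58696)) (tt N6544 F55051) (tt N8108 (iv F57494)) (tt N8433 (iv F58712)) (tt N8113 (iv F57514)) (tt N6860 F55052) (tt N6541 (iv D13983)) (tt N7519 F55053))
theorem Q7527 : ∀ i, i < 7527 → P i := stepQ 7526 Q7526 (allL N7526 (tt N7526 F55054) (tt N8316 (iv F58322)) (tt N8431 (iv F58700)) (tt N6711 F55055) (tt N8114 (iv F57518)) (tt N7688 F55780) (tt N6542 (iv D13984)) (tt N7810 (iv F56166)) (tt N8434 D14892))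
theorem Q7528 : ∀ i, i < 7528 → P i := stepQ 7527 Q7527 (allL N7527 (tt N7527 F55056) (tt N8317 (iv F58324)) (tt N8432 (iv F58706)) (tt N6712 F55057) (tt N8115 (iv F57523)) (tt N6543 F55058) (tt N8434 (iv F58717)) (tt N8435 D14893) (tt N6542 (iv D13985)))
theorem Q7529 : ∀ i, i < 7529 → P i := stepQ 7528 Q7528 (allL N7528 (tt N7528 F55059) (tt N8318 (iv F58327)) (tt N8433 (iv F58711)) (tt N8436 D14894) (tt N6544 F55060) (tt N8435 (iv F58719)) (tt N8425 (iv F58678)) (tt N6543 (iv D13986)) (tt N7812 (iv F56174)))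
theorem Q7530 : ∀ i, i < 7530 → P i := stepQ 7529 Q7529 (allL N7529 (tt N6546 F55061) (tt N7529 F55062) (tt N6547 F55063) (tt N8427 (iv F58686)) (tt N7529 F55064) (tt N8118 (iv F57538)) (tt N6743 F55065) (tt N7632 (iv F55553)) (tt N6545 (iv D13987)))
theorem Q7531 : ∀ i, i < 7531 → P i := stepQ 7530 Q7530 (allL N7530 (tt N6550 F55066) (tt N7530 F55067) (tt N8346 (iv F58411)) (tt N6548 (iv D13988)) (tt N7275 F55068) (tt N8437 D14895) (tt N6753 F55069) (tt N8438 D14896) (tt N8439 D14897))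
theorem Q7532 : ∀ i, i < 7532 → P i := stepQ 7531 Q7531 (allL N7531 (tt N6551 F55070) (tt N7531 F55071) (tt N6595 F55072) (tt N8437 (iv F58724)) (tt N7531 F55073) (tt N6548 (iv D13989)) (tt N8440 D14898) (tt N7531 F55074) (tt N8441 D14899))
theorem Q7533 : ∀ i, i < 7533 → P i := stepQ 7532 Q7532 (allL N7532 (tt N6552 F55075) (tt N7532 F55076) (tt N6596 F55077) (tt N8439 (iv F58732)) (tt N6549 F55078) (tt N8441 (iv F58745)) (tt N6755 F55079) (tt N8442 D14900) (tt N6548 (iv D13990)))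
theorem Q7534 : ∀ i, i < 7534 → P i := stepQ 7533 Q7533 (allL N7533 (tt N6553 F55080) (tt N7533 F55081) (tt N6597 F55082) (tt N7639 (iv F55583)) (tt N8442 (iv F58749)) (tt N7533 F55083) (tt N6756 F55084) (tt N6549 (iv D13991)) (tt N7533 F55085))
theorem Q7535 : ∀ i, i < 7535 → P i := stepQ 7534 Q7534 (allL N7534 (tt N8437 (iv F58722)) (tt N6554 F55086) (tt N8350 (iv F58424)) (tt N6551 F55087) (tt N8443 D14901) (tt N6550 (iv D13992)) (tt N8444 D14902) (tt N8445 D14903) (tt N8446 D14904))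
theorem Q7536 : ∀ i, i < 7536 → P i := stepQ 7535 Q7535 (allL N7535 (tt N8438 (iv F58725)) (tt N6555 F55088) (tt N8351 (iv F58427)) (tt N7535 F55089) (tt N7446 F55090) (tt N8445 (iv F58762)) (tt N6814 F55091) (tt N6550 (iv D13993)) (tt N8447 D14905))
theorem Q7537 : ∀ i, i < 7537 → P i := stepQ 7536 Q7536 (allL N7536 (tt N8439 (iv F58730)) (tt N6556 F55092) (tt N8352 (iv F58431)) (tt N6552 F55093) (tt N7447 F55094) (tt N8446 (iv F58766)) (tt N6815 F55095) (tt N8448 D14906) (tt N6550 (iv D13994)))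
theorem Q7538 : ∀ i, i < 7538 → P i := stepQ 7537 Q7537 (allL N7537 (tt N8440 (iv F58735)) (tt N6557 F55096) (tt N6598 F55097) (tt N8444 (iv F58756)) (tt N7537 F55098) (tt N6816 F55099) (tt N6551 (iv D13995)) (tt N7537 F55100) (tt N8449 D14907))
theorem Q7539 : ∀ i, i < 7539 → P i := stepQ 7538 Q7538 (allL N7538 (tt N8441 (iv F58741)) (tt N6558 F55101) (tt N6599 F55102) (tt N8446 (iv F58765)) (tt N7538 F55103) (tt N6552 F55104) (tt N8449 (iv F58778)) (tt N8450 D14908) (tt N6551 (iv D13996)))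
theorem Q7540 : ∀ i, i < 7540 → P i := stepQ 7539 Q7539 (allL N7539 (tt N8442 (iv F58746)) (tt N6559 F55105) (tt N6600 F55106) (tt N8451 D14909) (tt N6553 F55107) (tt N8450 (iv F58782)) (tt N6818 F55108) (tt N6552 (iv D13997)) (tt N7539 F55109))
theorem Q7541 : ∀ i, i < 7541 → P i := stepQ 7540 Q7540 (allL N7540 (tt N7639 (iv F55580)) (tt N6560 F55110) (tt N7605 (iv F55406)) (tt N6553 (iv D13998)) (tt N8452 D14910) (tt N7540 F55111) (tt N6819 F55112) (tt N7451 F55113) (tt N7540 F55114))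
theorem Q7542 : ∀ i, i < 7542 → P i := stepQ 7541 Q7541 (allL N7541 (tt N7541 F55115) (tt N8443 (iv F58752)) (tt N6574 F55116) (tt N7541 F55117) (tt N6554 (iv D13999)) (tt N7554 (iv F55176)) (tt N7543 (iv F55128)) (tt N7542 F55122) (tt N8453 D14911))
theorem Q7543 : ∀ i, i < 7543 → P i := stepQ 7542 Q7542 (allL N7542 (tt N7542 F55118) (tt N8444 (iv F58755)) (tt N6575 F55119) (tt N6557 F55120) (tt N7543 (iv F55126)) (tt N6862 F55121) (tt N6554 (iv D14000)) (tt N7541 (iv F55122)) (tt N8454 D14912))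
theorem Q7544 : ∀ i, i < 7544 → P i := stepQ 7543 Q7543 (allL N7543 (tt N7543 F55123) (tt N8445 (iv F58759)) (tt N6576 F55124) (tt N7543 F55125) (tt N7542 F55126) (tt N6555 F55127) (tt N7541 F55128) (tt N6554 (iv D14001)) (tt N8455 D14913))
theorem Q7545 : ∀ i, i < 7545 → P i := stepQ 7544 Q7544 (allL N7544 (tt N7544 F55129) (tt N8446 (iv F58764)) (tt N6577 F55130) (tt N6558 F55131) (tt N8453 (iv F58794)) (tt N6556 F55132) (tt N8454 (iv F58799)) (tt N8456 D14914) (tt N6554 (iv D14002)))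
theorem Q7546 : ∀ i, i < 7546 → P i := stepQ 7545 Q7545 (allL N7545 (tt N7545 F55133) (tt N8447 (iv F58767)) (tt N6578 F55134) (tt N7545 F55135) (tt N7558 (iv F55198)) (tt N8455 (iv F58804)) (tt N6865 F55136) (tt N8457 D14915) (tt N6555 (iv D14003)))
theorem Q7547 : ∀ i, i < 7547 → P i := stepQ 7546 Q7546 (allL N7546 (tt N7546 F55137) (tt N8448 (iv F58771)) (tt N6579 F55138) (tt N8458 D14916) (tt N7559 (iv F55202)) (tt N8456 (iv F58808)) (tt N6866 F55139) (tt N6556 (iv D14004)) (tt N8457 (iv F58812)))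
theorem Q7548 : ∀ i, i < 7548 → P i := stepQ 7547 Q7547 (allL N7547 (tt N7547 F55140) (tt N8449 (iv F58774)) (tt N6561 F55141) (tt N8454 (iv F58797)) (tt N7547 F55142) (tt N6867 F55143) (tt N6558 F55144) (tt N8459 D14917) (tt N6557 (iv D14005)))
theorem Q7549 : ∀ i, i < 7549 → P i := stepQ 7548 Q7548 (allL N7548 (tt N7548 F55145) (tt N8450 (iv F58779)) (tt N6562 F55146) (tt N8460 D14918) (tt N7548 F55147) (tt N6559 F55148) (tt N8459 (iv F58820)) (tt N6558 (iv D14006)) (tt N7548 F55149))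
theorem Q7550 : ∀ i, i < 7550 → P i := stepQ 7549 Q7549 (allL N7549 (tt N7549 F55150) (tt N8451 (iv F58784)) (tt N8461 D14919) (tt N6559 (iv D14007)) (tt N8462 D14920) (tt N8460 (iv F58823)) (tt N6869 F55151) (tt N8458 (iv F58815)) (tt N7549 F55152))
theorem Q7551 : ∀ i, i < 7551 → P i := stepQ 7550 Q7550 (allL N7550 (tt N7550 F55153) (tt N8452 (iv F58787)) (tt N7550 F55154) (tt N8462 (iv F58830)) (tt N6560 (iv D14008)) (tt N8463 D14921) (tt N6870 F55155) (tt N7563 (iv F55220)) (tt N7550 F55156))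
theorem Q7552 : ∀ i, i < 7552 → P i := stepQ 7551 Q7551 (allL N7551 (tt N7551 F55157) (tt N6604 F55158) (tt N8459 (iv F58817)) (tt N7837 (iv F56273)) (tt N7551 F55159) (tt N6871 F55160) (tt N6562 F55161) (tt N6561 (iv D14009)) (tt N7551 F55162))
theorem Q7553 : ∀ i, i < 7553 → P i := stepQ 7552 Q7552 (allL N7552 (tt N7552 F55163) (tt N6605 F55164) (tt N7674 (iv F55717)) (tt N6562 (iv D14010)) (tt N7673 (iv F55712)) (tt N6563 F55165) (tt N7837 (iv F56276)) (tt N6585 F55166) (tt N7552 F55167))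
theorem Q7554 : ∀ i, i < 7554 → P i := stepQ 7553 Q7553 (allL N7553 (tt N7553 F55168) (tt N8464 D14922) (tt N6563 (iv D14011)) (tt N8461 (iv F58826)) (tt N7553 F55169) (tt N7674 (iv F55719)) (tt N6873 F55170) (tt N6586 F55171) (tt N7553 F55172))
theorem Q7555 : ∀ i, i < 7555 → P i := stepQ 7554 Q7554 (allL N7554 (tt N7554 F55173) (tt N8370 (iv F58471)) (tt N6861 F55174) (tt N7554 F55175) (tt N6564 (iv D14012)) (tt N7541 F55176) (tt N6863 (iv F55177)) (tt N6862 (iv F55178)) (tt N8465 D14923))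
theorem Q7556 : ∀ i, i < 7556 → P i := stepQ 7555 Q7555 (allL N7555 (tt N7555 F55179) (tt N8371 (iv F58475)) (tt N6862 F55180) (tt N6567 F55181) (tt N6863 F55182) (tt N6575 F55183) (tt N6564 (iv D14013)) (tt N6861 (iv F55184)) (tt N8466 D14924))
theorem Q7557 : ∀ i, i < 7557 → P i := stepQ 7556 Q7556 (allL N7556 (tt N7556 F55185) (tt N8372 (iv F58480)) (tt N6863 F55186) (tt N6716 F55187) (tt N6862 F55188) (tt N6565 F55189) (tt N6861 F55190) (tt N6564 (iv D14014)) (tt N8467 D14925))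
theorem Q7558 : ∀ i, i < 7558 → P i := stepQ 7557 Q7557 (allL N7557 (tt N7557 F55191) (tt N8373 (iv F58485)) (tt N6864 F55192) (tt N6568 F55193) (tt N8465 (iv F58847)) (tt N6566 F55194) (tt N8466 (iv F58855)) (tt N8468 D14926) (tt N6564 (iv D14015)))
theorem Q7559 : ∀ i, i < 7559 → P i := stepQ 7558 Q7558 (allL N7558 (tt N7558 F55195) (tt N8374 (iv F58488)) (tt N6865 F55196) (tt N6718 F55197) (tt N7545 F55198) (tt N8467 (iv F58860)) (tt N6578 F55199) (tt N8469 D14927) (tt N6565 (iv D14016)))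
theorem Q7560 : ∀ i, i < 7560 → P i := stepQ 7559 Q7559 (allL N7559 (tt N7559 F55200) (tt N8375 (iv F58491)) (tt N6866 F55201) (tt N8470 D14928) (tt N7546 F55202) (tt N8468 (iv F58864)) (tt N6579 F55203) (tt N6566 (iv D14017)) (tt N8469 (iv F58869)))
theorem Q7561 : ∀ i, i < 7561 → P i := stepQ 7560 Q7560 (allL N7560 (tt N7560 F55204) (tt N8376 (iv F58493)) (tt N6571 F55205) (tt N8466 (iv F58852)) (tt N7560 F55206) (tt N6580 F55207) (tt N6568 F55208) (tt N8471 D14929) (tt N6567 (iv D14018)))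
theorem Q7562 : ∀ i, i < 7562 → P i := stepQ 7561 Q7561 (allL N7561 (tt N7561 F55209) (tt N8377 (iv F58499)) (tt N6572 F55210) (tt N8472 D14930) (tt N7561 F55211) (tt N6569 F55212) (tt N8471 (iv F58877)) (tt N6568 (iv D14019)) (tt N6721 F55213))
theorem Q7563 : ∀ i, i < 7563 → P i := stepQ 7562 Q7562 (allL N7562 (tt N7562 F55214) (tt N8378 (iv F58505)) (tt N8473 D14931) (tt N6569 (iv D14020)) (tt N8474 D14932) (tt N8472 (iv F58880)) (tt N6582 F55215) (tt N8470 (iv F58872)) (tt N6722 F55216))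
theorem Q7564 : ∀ i, i < 7564 → P i := stepQ 7563 Q7563 (allL N7563 (tt N7563 F55217) (tt N8379 (iv F58509)) (tt N7563 F55218) (tt N8474 (iv F58887)) (tt N6570 (iv D14021)) (tt N7676 (iv F55730)) (tt N6583 F55219) (tt N7550 F55220) (tt N6723 F55221))
theorem Q7565 : ∀ i, i < 7565 → P i := stepQ 7564 Q7564 (allL N7564 (tt N7564 F55222) (tt N6607 F55223) (tt N8471 (iv F58874)) (tt N7836 (iv F56266)) (tt N7564 F55224) (tt N6584 F55225) (tt N6572 F55226) (tt N6571 (iv D14022)) (tt N6724 F55227))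
theorem Q7566 : ∀ i, i < 7566 → P i := stepQ 7565 Q7565 (allL N7565 (tt N7565 F55228) (tt N6608 F55229) (tt N8475 D14933) (tt N6572 (iv D14023)) (tt N7839 (iv F56287)) (tt N6573 F55230) (tt N7836 (iv F56269)) (tt N6872 F55231) (tt N6725 F55232))
theorem Q7567 : ∀ i, i < 7567 → P i := stepQ 7566 Q7566 (allL N7566 (tt N7566 F55233) (tt N8476 D14934) (tt N6573 (iv D14024)) (tt N8473 (iv F58883)) (tt N7566 F55234) (tt N8475 (iv F58892)) (tt N6586 F55235) (tt N6873 F55236) (tt N6726 F55237))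
theorem Q7568 : ∀ i, i < 7568 → P i := stepQ 7567 Q7567 (allL N7567 (tt N7567 F55238) (tt N8381 (iv F58519)) (tt N8453 (iv F58792)) (tt N6587 F55239) (tt N6577 F55240) (tt N7813 (iv F56178)) (tt N7569 (iv F55248)) (tt N8477 D14935) (tt N6574 (iv D14025)))
theorem Q7569 : ∀ i, i < 7569 → P i := stepQ 7568 Q7568 (allL N7568 (tt N7568 F55241) (tt N8382 (iv F58522)) (tt N8454 (iv F58796)) (tt N6580 F55242) (tt N7569 (iv F55246)) (tt N8466 (iv F58854)) (tt N6577 F55243) (tt N8478 D14936) (tt N6575 (iv D14026)))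
theorem Q7570 : ∀ i, i < 7570 → P i := stepQ 7569 Q7569 (allL N7569 (tt N7569 F55244) (tt N8383 (iv F58525)) (tt N8455 (iv F58801)) (tt N6729 F55245) (tt N7568 F55246) (tt N6578 F55247) (tt N7567 F55248) (tt N8479 D14937) (tt N6576 (iv D14027)))
theorem Q7571 : ∀ i, i < 7571 → P i := stepQ 7570 Q7570 (allL N7570 (tt N7570 F55249) (tt N8384 (iv F58530)) (tt N8456 (iv F58807)) (tt N8480 D14938) (tt N8477 (iv F58901)) (tt N6579 F55250) (tt N8478 (iv F58903)) (tt N6577 (iv D14028)) (tt N8479 (iv F58909)))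
theorem Q7572 : ∀ i, i < 7572 → P i := stepQ 7571 Q7571 (allL N7571 (tt N7571 F55251) (tt N8385 (iv F58532)) (tt N8457 (iv F58810)) (tt N8481 D14939) (tt N7817 (iv F56188)) (tt N8479 (iv F58907)) (tt N8469 (iv F58868)) (tt N6578 (iv D14029)) (tt N6579 F55252))
theorem Q7573 : ∀ i, i < 7573 → P i := stepQ 7572 Q7572 (allL N7572 (tt N7572 F55253) (tt N8386 (iv F58534)) (tt N8482 D14940) (tt N6579 (iv D14030)) (tt N8483 D14941) (tt N8480 (iv F58911)) (tt N8470 (iv F58871)) (tt N6582 F55254) (tt N8481 (iv F58917)))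
theorem Q7574 : ∀ i, i < 7574 → P i := stepQ 7573 Q7573 (allL N7573 (tt N7573 F55255) (tt N8387 (iv F58536)) (tt N6584 F55256) (tt N8484 D14942) (tt N6593 F55257) (tt N8471 (iv F58876)) (tt N6581 F55258) (tt N6580 (iv D14031)) (tt N6733 F55259))
theorem Q7575 : ∀ i, i < 7575 → P i := stepQ 7574 Q7574 (allL N7574 (tt N7574 F55260) (tt N8388 (iv F58541)) (tt N7516 F55261) (tt N6581 (iv D14032)) (tt N7515 F55262) (tt N6582 F55263) (tt N8484 (iv F58927)) (tt N8480 (iv F58912)) (tt N6734 F55264))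
theorem Q7576 : ∀ i, i < 7576 → P i := stepQ 7575 Q7575 (allL N7575 (tt N7575 F55265) (tt N8485 D14943) (tt N6582 (iv D14033)) (tt N6586 F55266) (tt N7811 (iv F56170)) (tt N7516 F55267) (tt N8473 (iv F58884)) (tt N8482 (iv F58920)) (tt N6735 F55268))
theorem Q7577 : ∀ i, i < 7577 → P i := stepQ 7576 Q7576 (allL N7576 (tt N7576 F55269) (tt N8390 (iv F58547)) (tt N7811 (iv F56168)) (tt N6583 F55270) (tt N6582 (iv D14034)) (tt N7518 F55271) (tt N8474 (iv F58888)) (tt N8483 (iv F58923)) (tt N6736 F55272))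
theorem Q7578 : ∀ i, i < 7578 → P i := stepQ 7577 Q7577 (allL N7577 (tt N8019 (iv F57087)) (tt N6586 (iv D14035)) (tt N6610 F55273) (tt N8485 (iv F58929)) (tt N7577 F55274) (tt N7629 (iv F55534)) (tt N8476 (iv F58897)) (tt N8464 (iv F58842)) (tt N6737 F55275))
theorem Q7579 : ∀ i, i < 7579 → P i := stepQ 7578 Q7578 (allL N7578 (tt N7578 F55276) (tt N8393 (iv F58556)) (tt N7578 F55277) (tt N8486 D14944) (tt N6590 F55278) (tt N7827 (iv F56224)) (tt N7692 (iv F55798)) (tt N6587 (iv D14036)) (tt N7691 (iv F55793)))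
theorem Q7580 : ∀ i, i < 7580 → P i := stepQ 7579 Q7579 (allL N7579 (tt N7579 F55279) (tt N8394 (iv F58560)) (tt N7579 F55280) (tt N7191 (iv F55284)) (tt N7692 (iv F55796)) (tt N7579 F55281) (tt N6590 F55282) (tt N6588 (iv D14037)) (tt N7190 F55283))
theorem Q7581 : ∀ i, i < 7581 → P i := stepQ 7580 Q7580 (allL N7580 (tt N7580 F55285) (tt N7216 F55286) (tt N7580 F55287) (tt N7184 F55288) (tt N7691 (iv F55791)) (tt N6591 F55289) (tt N7190 F55290) (tt N6589 (iv D14038)) (tt N6590 F55291))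
theorem Q7582 : ∀ i, i < 7582 → P i := stepQ 7581 Q7581 (allL N7581 (tt N7581 F55292) (tt N7217 F55293) (tt N7186 (iv F55298)) (tt N6590 (iv D14039)) (tt N7185 (iv F55299)) (tt N6592 F55294) (tt N7191 F55295) (tt N6594 F55296) (tt N7184 F55297))
theorem Q7583 : ∀ i, i < 7583 → P i := stepQ 7582 Q7582 (allL N7582 (tt N7582 F55300) (tt N8395 (iv F58566)) (tt N7182 F55301) (tt N6593 (iv D14040)) (tt N7172 (iv F55306)) (tt N7582 F55302) (tt N6594 F55303) (tt N7191 F55304) (tt N6740 F55305))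
theorem Q7584 : ∀ i, i < 7584 → P i := stepQ 7583 Q7583 (allL N7583 (tt N6598 F55307) (tt N6611 F55308) (tt N8440 (iv F58737)) (tt N8045 (iv F57198)) (tt N7583 F55309) (tt N6757 F55310) (tt N6595 (iv D14041)) (tt N7583 F55311) (tt N8487 D14945))
theorem Q7585 : ∀ i, i < 7585 → P i := stepQ 7584 Q7584 (allL N7584 (tt N6599 F55312) (tt N6612 F55313) (tt N8441 (iv F58743)) (tt N8404 (iv F58606)) (tt N7584 F55314) (tt N6596 F55315) (tt N8487 (iv F58941)) (tt N8488 D14946) (tt N6595 (iv D14042)))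
theorem Q7586 : ∀ i, i < 7586 → P i := stepQ 7585 Q7585 (allL N7585 (tt N6600 F55316) (tt N6613 F55317) (tt N8442 (iv F58748)) (tt N8489 D14947) (tt N6597 F55318) (tt N8488 (iv F58945)) (tt N6759 F55319) (tt N6596 (iv D14043)) (tt N7585 F55320))
theorem Q7587 : ∀ i, i < 7587 → P i := stepQ 7586 Q7586 (allL N7586 (tt N8487 (iv F58937)) (tt N6601 F55321) (tt N8449 (iv F58775)) (tt N8406 (iv F58613)) (tt N7586 F55322) (tt N6820 F55323) (tt N6599 F55324) (tt N8490 D14948) (tt N6598 (iv D14044)))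
theorem Q7588 : ∀ i, i < 7588 → P i := stepQ 7587 Q7587 (allL N7587 (tt N8488 (iv F58942)) (tt N6602 F55325) (tt N8450 (iv F58780)) (tt N8491 D14949) (tt N7587 F55326) (tt N6600 F55327) (tt N8490 (iv F58954)) (tt N6599 (iv D14045)) (tt N7587 F55328))
theorem Q7589 : ∀ i, i < 7589 → P i := stepQ 7588 Q7588 (allL N7588 (tt N8489 (iv F58947)) (tt N6603 F55329) (tt N8492 D14950) (tt N6600 (iv D14046)) (tt N8023 (iv F57110)) (tt N8491 (iv F58957)) (tt N6822 F55330) (tt N8408 (iv F58620)) (tt N7588 F55331))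
theorem Q7590 : ∀ i, i < 7590 → P i := stepQ 7589 Q7589 (allL N7589 (tt N6617 F55332) (tt N8490 (iv F58951)) (tt N6604 F55333) (tt N7922 (iv F56665)) (tt N7589 F55334) (tt N6841 F55335) (tt N6602 F55336) (tt N6601 (iv D14047)) (tt N7589 F55337))
theorem Q7591 : ∀ i, i < 7591 → P i := stepQ 7590 Q7590 (allL N7590 (tt N6618 F55338) (tt N8491 (iv F58956)) (tt N7920 (iv F56654)) (tt N6602 (iv D14048)) (tt N8493 D14951) (tt N6603 F55339) (tt N7922 (iv F56668)) (tt N8410 (iv F58627)) (tt N7590 F55340))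
theorem Q7592 : ∀ i, i < 7592 → P i := stepQ 7591 Q7591 (allL N7591 (tt N6619 F55341) (tt N8494 D14952) (tt N6603 (iv D14049)) (tt N6606 F55342) (tt N8074 (iv F57331)) (tt N7920 (iv F56656)) (tt N6843 F55343) (tt N8411 (iv F58631)) (tt N7591 F55344))
theorem Q7593 : ∀ i, i < 7593 → P i := stepQ 7592 Q7592 (allL N7592 (tt N8022 (iv F57103)) (tt N6606 (iv D14050)) (tt N8464 (iv F58839)) (tt N8494 (iv F58966)) (tt N7592 F55345) (tt N7875 (iv F56443)) (tt N6891 F55346) (tt N6610 F55347) (tt N7592 F55348))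
theorem Q7594 : ∀ i, i < 7594 → P i := stepQ 7593 Q7593 (allL N7593 (tt N8021 (iv F57097)) (tt N6609 (iv D14051)) (tt N8476 (iv F58895)) (tt N8231 (iv F58014)) (tt N7593 F55349) (tt N7882 (iv F56472)) (tt N6610 F55350) (tt N6891 F55351) (tt N6741 F55352))
theorem Q7595 : ∀ i, i < 7595 → P i := stepQ 7594 Q7594 (allL N7594 (tt N6614 F55353) (tt N8487 (iv F58938)) (tt N7594 F55354) (tt N8048 (iv F57212)) (tt N7594 F55355) (tt N6780 F55356) (tt N6612 F55357) (tt N8495 D14953) (tt N6611 (iv D14052)))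
theorem Q7596 : ∀ i, i < 7596 → P i := stepQ 7595 Q7595 (allL N7595 (tt N6615 F55358) (tt N8488 (iv F58943)) (tt N7595 F55359) (tt N8496 D14954) (tt N7595 F55360) (tt N6613 F55361) (tt N8495 (iv F58973)) (tt N6612 (iv D14053)) (tt N7595 F55362))
theorem Q7597 : ∀ i, i < 7597 → P i := stepQ 7596 Q7596 (allL N7596 (tt N6616 F55363) (tt N8489 (iv F58948)) (tt N8493 (iv F58962)) (tt N6613 (iv D14054)) (tt N7920 (iv F56655)) (tt N8496 (iv F58976)) (tt N6782 F55364) (tt N8417 (iv F58648)) (tt N7596 F55365))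
theorem Q7598 : ∀ i, i < 7598 → P i := stepQ 7597 Q7597 (allL N7597 (tt N8495 (iv F58969)) (tt N6617 F55366) (tt N7597 F55367) (tt N7956 (iv F56858)) (tt N7597 F55368) (tt N6794 F55369) (tt N6615 F55370) (tt N6614 (iv D14055)) (tt N7597 F55371))
theorem Q7599 : ∀ i, i < 7599 → P i := stepQ 7598 Q7598 (allL N7598 (tt N8496 (iv F58975)) (tt N6618 F55372) (tt N8100 (iv F57458)) (tt N6615 (iv D14056)) (tt N8099 F57456) (tt N6616 F55373) (tt N7956 (iv F56861)) (tt N8418 (iv F58651)) (tt N7598 F55374))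
theorem Q7600 : ∀ i, i < 7600 → P i := stepQ 7599 Q7599 (allL N7599 (tt N8493 (iv F58961)) (tt N8099 (iv F57451)) (tt N6616 (iv D14057)) (tt N7599 F55375) (tt N6618 F55376) (tt N8100 (iv F57460)) (tt N6796 F55377) (tt N8419 (iv F58654)) (tt N7599 F55378))
theorem Q7601 : ∀ i, i < 7601 → P i := stepQ 7600 Q7600 (allL N7600 (tt N6656 F55379) (tt N6738 F55380) (tt N7600 F55381) (tt N7033 F55382) (tt N6620 (iv D14058)) (tt N7600 F55383) (tt N6698 F55384) (tt N6696 F55385) (tt N7192 F55386))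
theorem Q7602 : ∀ i, i < 7602 → P i := stepQ 7601 Q7601 (allL N7601 (tt N6664 F55387) (tt N7601 F55388) (tt N6691 F55389) (tt N8155 (iv F57725)) (tt N6621 (iv D14059)) (tt N7624 (iv F55502)) (tt N6623 F55390) (tt N7601 F55391) (tt N8291 (iv F58231)))
theorem Q7603 : ∀ i, i < 7603 → P i := stepQ 7602 Q7602 (allL N7602 (tt N6666 F55392) (tt N6723 F55393) (tt N6623 F55394) (tt N8497 D14955) (tt N6622 (iv D14060)) (tt N7640 (iv F55590)) (tt N6691 F55395) (tt N7602 F55396) (tt N8379 (iv F58512)))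
theorem Q7604 : ∀ i, i < 7604 → P i := stepQ 7603 Q7603 (allL N7603 (tt N6668 F55397) (tt N7603 F55398) (tt N7640 (iv F55588)) (tt N8160 (iv F57740)) (tt N7603 F55399) (tt N6623 (iv D14061)) (tt N7637 (iv F55575)) (tt N7603 F55400) (tt N8498 D14956))
theorem Q7605 : ∀ i, i < 7605 → P i := stepQ 7604 Q7604 (allL N7604 (tt N6669 F55401) (tt N7604 F55402) (tt N8379 (iv F58510)) (tt N8161 (iv F57743)) (tt N6624 F55403) (tt N8498 (iv F58986)) (tt N8291 (iv F58229)) (tt N8499 D14957) (tt N6623 (iv D14062)))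
theorem Q7606 : ∀ i, i < 7606 → P i := stepQ 7605 Q7605 (allL N7605 (tt N6670 F55404) (tt N7605 F55405) (tt N7540 F55406) (tt N7074 F55407) (tt N8499 (iv F58990)) (tt N7605 F55408) (tt N7084 F55409) (tt N6624 (iv D14063)) (tt N7605 F55410))
theorem Q7607 : ∀ i, i < 7607 → P i := stepQ 7606 Q7606 (allL N7606 (tt N6671 F55411) (tt N6722 F55412) (tt N8171 (iv F57780)) (tt N6625 (iv D14064)) (tt N8497 (iv F58980)) (tt N8500 D14958) (tt N6690 F55413) (tt N8501 D14959) (tt N8378 (iv F58507)))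
theorem Q7608 : ∀ i, i < 7608 → P i := stepQ 7607 Q7607 (allL N7607 (tt N6672 F55414) (tt N6721 F55415) (tt N6626 F55416) (tt N8500 (iv F58995)) (tt N7607 F55417) (tt N6625 (iv D14065)) (tt N8502 D14960) (tt N6628 F55418) (tt N8377 (iv F58503)))
theorem Q7609 : ∀ i, i < 7609 → P i := stepQ 7608 Q7608 (allL N7608 (tt N6674 F55419) (tt N6650 F55420) (tt N8502 (iv F59002)) (tt N7911 (iv F56616)) (tt N7608 F55421) (tt N6692 F55422) (tt N6626 (iv D14066)) (tt N6629 F55423) (tt N8380 (iv F58518)))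
theorem Q7610 : ∀ i, i < 7610 → P i := stepQ 7609 Q7609 (allL N7609 (tt N6676 F55424) (tt N6717 F55425) (tt N6633 F55426) (tt N6628 F55427) (tt N8503 D14961) (tt N6627 (iv D14067)) (tt N8504 D14962) (tt N8505 D14963) (tt N6679 F55428))
theorem Q7611 : ∀ i, i < 7611 → P i := stepQ 7610 Q7610 (allL N7610 (tt N6677 F55429) (tt N6719 F55430) (tt N6634 F55431) (tt N8501 (iv F58998)) (tt N7610 F55432) (tt N8505 (iv F59026)) (tt N6687 F55433) (tt N6627 (iv D14068)) (tt N8506 D14964))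
theorem Q7612 : ∀ i, i < 7612 → P i := stepQ 7611 Q7611 (allL N7611 (tt N6678 F55434) (tt N6720 F55435) (tt N6629 F55436) (tt N8504 (iv F59017)) (tt N7611 F55437) (tt N6688 F55438) (tt N6628 (iv D14069)) (tt N8502 (iv F59005)) (tt N6681 F55439))
theorem Q7613 : ∀ i, i < 7613 → P i := stepQ 7612 Q7612 (allL N7612 (tt N6679 F55440) (tt N7612 F55441) (tt N6685 F55442) (tt N6631 F55443) (tt N8507 D14965) (tt N6630 (iv D14070)) (tt N8508 D14966) (tt N8509 D14967) (tt N6676 F55444))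
theorem Q7614 : ∀ i, i < 7614 → P i := stepQ 7613 Q7613 (allL N7613 (tt N6680 F55445) (tt N7613 F55446) (tt N6687 F55447) (tt N8206 (iv F57900)) (tt N7613 F55448) (tt N8509 (iv F59054)) (tt N6634 F55449) (tt N6630 (iv D14071)) (tt N8510 D14968))
theorem Q7615 : ∀ i, i < 7615 → P i := stepQ 7614 Q7614 (allL N7614 (tt N6681 F55450) (tt N7614 F55451) (tt N6632 F55452) (tt N8508 (iv F59045)) (tt N7614 F55453) (tt N6636 F55454) (tt N6631 (iv D14072)) (tt N8208 (iv F57911)) (tt N6678 F55455))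
theorem Q7616 : ∀ i, i < 7616 → P i := stepQ 7615 Q7615 (allL N7615 (tt N6682 F55456) (tt N7615 F55457) (tt N8503 (iv F59008)) (tt N6642 F55458) (tt N6633 (iv D14073)) (tt N7615 F55459) (tt N7292 F55461) (tt N7291 (iv F55460)) (tt N8295 F58258))
theorem Q7617 : ∀ i, i < 7617 → P i := stepQ 7616 Q7616 (allL N7616 (tt N6683 F55462) (tt N7616 F55463) (tt N8504 (iv F59016)) (tt N6636 F55464) (tt N7292 F55465) (tt N8508 (iv F59047)) (tt N6633 (iv D14074)) (tt N7290 (iv F55466)) (tt N8293 F58245))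
theorem Q7618 : ∀ i, i < 7618 → P i := stepQ 7617 Q7617 (allL N7617 (tt N6684 F55467) (tt N7617 F55468) (tt N8505 (iv F59024)) (tt N8213 (iv F57933)) (tt N7291 F55469) (tt N6634 F55470) (tt N7290 F55471) (tt N6633 (iv D14075)) (tt N8511 D14969))
theorem Q7619 : ∀ i, i < 7619 → P i := stepQ 7618 Q7618 (allL N7618 (tt N6685 F55472) (tt N7618 F55473) (tt N6679 F55474) (tt N6637 F55475) (tt N8295 (iv F58255)) (tt N6635 F55476) (tt N8293 (iv F58243)) (tt N8292 F58237) (tt N6633 (iv D14076)))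
theorem Q7620 : ∀ i, i < 7620 → P i := stepQ 7619 Q7619 (allL N7619 (tt N6686 F55477) (tt N7619 F55478) (tt N8506 (iv F59030)) (tt N8215 (iv F57943)) (tt N7619 F55479) (tt N8511 (iv F59065)) (tt N8510 (iv F59060)) (tt N8512 D14970) (tt N6634 (iv D14077)))
theorem Q7621 : ∀ i, i < 7621 → P i := stepQ 7620 Q7620 (allL N7620 (tt N6687 F55480) (tt N7620 F55481) (tt N6680 F55482) (tt N8513 D14971) (tt N7620 F55483) (tt N8292 (iv F58236)) (tt N6677 F55484) (tt N6635 (iv D14078)) (tt N8512 (iv F59072)))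
theorem Q7622 : ∀ i, i < 7622 → P i := stepQ 7621 Q7621 (allL N7621 (tt N6688 F55485) (tt N7621 F55486) (tt N6640 F55487) (tt N8293 F58244) (tt N6646 F55488) (tt N6678 F55489) (tt N6637 F55490) (tt N8514 D14972) (tt N6636 (iv D14079)))
theorem Q7623 : ∀ i, i < 7623 → P i := stepQ 7622 Q7622 (allL N7622 (tt N6689 F55491) (tt N7622 F55492) (tt N6641 F55493) (tt N8515 D14973) (tt N6647 F55494) (tt N6638 F55495) (tt N8514 (iv F59082)) (tt N6637 (iv D14080)) (tt N8218 (iv F57956)))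
theorem Q7624 : ∀ i, i < 7624 → P i := stepQ 7623 Q7623 (allL N7623 (tt N6690 F55496) (tt N7623 F55497) (tt N8319 (iv F58331)) (tt N6638 (iv D14081)) (tt N8516 D14974) (tt N8515 (iv F59086)) (tt N6671 F55498) (tt N8513 (iv F59076)) (tt N8219 (iv F57960)))
theorem Q7625 : ∀ i, i < 7625 → P i := stepQ 7624 Q7624 (allL N7624 (tt N6691 F55499) (tt N7624 F55500) (tt N6664 F55501) (tt N8516 (iv F59089)) (tt N6639 (iv D14082)) (tt N7601 F55502) (tt N6666 F55503) (tt N7624 F55504) (tt N8220 (iv F57965)))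
theorem Q7626 : ∀ i, i < 7626 → P i := stepQ 7625 Q7625 (allL N7625 (tt N6692 F55505) (tt N6651 F55506) (tt N8514 (iv F59079)) (tt N7909 (iv F56606)) (tt N6648 F55507) (tt N6674 F55508) (tt N6641 F55509) (tt N6640 (iv D14083)) (tt N8221 (iv F57971)))
theorem Q7627 : ∀ i, i < 7627 → P i := stepQ 7626 Q7626 (allL N7626 (tt N6695 F55510) (tt N7626 F55511) (tt N7626 F55512) (tt N8295 (iv F58254)) (tt N6645 F55513) (tt N7626 F55514) (tt N6658 F55515) (tt N6657 (iv F55516)) (tt N6642 (iv D14084)))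
theorem Q7628 : ∀ i, i < 7628 → P i := stepQ 7627 Q7627 (allL N7627 (tt N6696 F55517) (tt N7627 F55518) (tt N7627 F55519) (tt N6646 F55520) (tt N6658 F55521) (tt N7627 F55522) (tt N6645 F55523) (tt N6656 F55524) (tt N6643 (iv D14085)))
theorem Q7629 : ∀ i, i < 7629 → P i := stepQ 7628 Q7628 (allL N7628 (tt N6699 F55525) (tt N7628 F55526) (tt N6648 F55527) (tt N7633 (iv F55556)) (tt N8514 (iv F59080)) (tt N7628 F55528) (tt N6647 F55529) (tt N6646 (iv D14086)) (tt N8226 (iv F57994)))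
theorem Q7630 : ∀ i, i < 7630 → P i := stepQ 7629 Q7629 (allL N7629 (tt N7073 F55530) (tt N6707 F55531) (tt N6939 F55532) (tt N8270 (iv F58159)) (tt N6653 F55533) (tt N7577 F55534) (tt N6943 F55535) (tt N8517 D14975) (tt N6652 (iv D14087)))
theorem Q7631 : ∀ i, i < 7631 → P i := stepQ 7630 Q7630 (allL N7630 (tt N7074 F55536) (tt N6708 F55537) (tt N6940 F55538) (tt N6670 F55539) (tt N8517 (iv F59095)) (tt N7630 F55540) (tt N6944 F55541) (tt N6653 (iv D14088)) (tt N7630 F55542))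
theorem Q7632 : ∀ i, i < 7632 → P i := stepQ 7631 Q7631 (allL N7631 (tt N7034 F55543) (tt N7631 F55544) (tt N6922 F55545) (tt N8287 (iv F58212)) (tt N7633 (iv F55557)) (tt N6655 F55546) (tt N7240 F55547) (tt N6654 (iv D14089)) (tt N8518 D14976))
theorem Q7633 : ∀ i, i < 7633 → P i := stepQ 7632 Q7632 (allL N7632 (tt N7036 F55548) (tt N7632 F55549) (tt N6924 F55550) (tt N8289 (iv F58220)) (tt N7632 F55551) (tt N8518 (iv F59103)) (tt N6921 F55552) (tt N7529 F55553) (tt N6655 (iv D14090)))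
theorem Q7634 : ∀ i, i < 7634 → P i := stepQ 7633 Q7633 (allL N7633 (tt N7669 (iv F55684)) (tt N7633 F55554) (tt N6662 F55555) (tt N7628 F55556) (tt N7631 F55557) (tt N7633 F55558) (tt N6661 F55559) (tt N6660 (iv D14091)) (tt N8297 (iv F58270)))
theorem Q7635 : ∀ i, i < 7635 → P i := stepQ 7634 Q7634 (allL N7634 (tt N8291 (iv F58225)) (tt N6709 F55560) (tt N8220 (iv F57963)) (tt N8307 (iv F58299)) (tt N6665 F55561) (tt N7463 F55562) (tt N6669 F55563) (tt N8519 D14977) (tt N6664 (iv D14092)))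
theorem Q7636 : ∀ i, i < 7636 → P i := stepQ 7635 Q7635 (allL N7635 (tt N7084 F55564) (tt N6710 F55565) (tt N7718 (iv F55882)) (tt N6944 F55566) (tt N8519 (iv F59108)) (tt N6832 F55567) (tt N6670 F55568) (tt N6665 (iv D14093)) (tt N7635 F55569))
theorem Q7637 : ∀ i, i < 7637 → P i := stepQ 7636 Q7636 (allL N7636 (tt N8497 (iv F58978)) (tt N7636 F55570) (tt N8312 (iv F58316)) (tt N6666 (iv D14094)) (tt N6671 F55571) (tt N8520 D14978) (tt N8516 (iv F59091)) (tt N8521 D14979) (tt N8522 D14980))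
theorem Q7638 : ∀ i, i < 7638 → P i := stepQ 7637 Q7637 (allL N7637 (tt N7640 (iv F55586)) (tt N7637 F55572) (tt N6668 F55573) (tt N8520 (iv F59114)) (tt N7637 F55574) (tt N6666 (iv D14095)) (tt N7603 F55575) (tt N7637 F55576) (tt N8523 D14981))
theorem Q7639 : ∀ i, i < 7639 → P i := stepQ 7638 Q7638 (allL N7638 (tt N8379 (iv F58508)) (tt N7638 F55577) (tt N6669 F55578) (tt N8522 (iv F59120)) (tt N6667 F55579) (tt N8523 (iv F59125)) (tt N8220 (iv F57964)) (tt N8524 D14982) (tt N6666 (iv D14096)))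
theorem Q7640 : ∀ i, i < 7640 → P i := stepQ 7639 Q7639 (allL N7639 (tt N7540 F55580) (tt N7639 F55581) (tt N6670 F55582) (tt N7533 F55583) (tt N8524 (iv F59130)) (tt N7639 F55584) (tt N7718 (iv F55884)) (tt N6667 (iv D14097)) (tt N7639 F55585))
theorem Q7641 : ∀ i, i < 7641 → P i := stepQ 7640 Q7640 (allL N7640 (tt N7637 F55586) (tt N6711 F55587) (tt N7603 F55588) (tt N8316 (iv F58323)) (tt N7640 F55589) (tt N7602 F55590) (tt N6668 (iv D14098)) (tt N7640 F55591) (tt N8525 D14983))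
theorem Q7642 : ∀ i, i < 7642 → P i := stepQ 7641 Q7641 (allL N7641 (tt N8498 (iv F58983)) (tt N6712 F55592) (tt N8523 (iv F59123)) (tt N8317 (iv F58325)) (tt N7641 F55593) (tt N6669 F55594) (tt N8525 (iv F59137)) (tt N8526 D14984) (tt N6668 (iv D14099)))
theorem Q7643 : ∀ i, i < 7643 → P i := stepQ 7642 Q7642 (allL N7642 (tt N8499 (iv F58987)) (tt N6713 F55595) (tt N8524 (iv F59129)) (tt N8527 D14985) (tt N6670 F55596) (tt N8526 (iv F59140)) (tt N8519 (iv F59110)) (tt N6669 (iv D14100)) (tt N7642 F55597))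
theorem Q7644 : ∀ i, i < 7644 → P i := stepQ 7643 Q7643 (allL N7643 (tt N8500 (iv F58993)) (tt N7643 F55598) (tt N8328 (iv F58362)) (tt N6672 F55599) (tt N8528 D14986) (tt N6671 (iv D14101)) (tt N8529 D14987) (tt N8530 D14988) (tt N8531 D14989))
theorem Q7645 : ∀ i, i < 7645 → P i := stepQ 7644 Q7644 (allL N7644 (tt N8501 (iv F58996)) (tt N7644 F55600) (tt N8329 (iv F58364)) (tt N6677 F55601) (tt N8521 (iv F59118)) (tt N8530 (iv F59155)) (tt N8513 (iv F59075)) (tt N6671 (iv D14102)) (tt N8532 D14990))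
theorem Q7646 : ∀ i, i < 7646 → P i := stepQ 7645 Q7645 (allL N7645 (tt N8378 (iv F58504)) (tt N7645 F55602) (tt N8330 (iv F58366)) (tt N6673 F55603) (tt N8522 (iv F59121)) (tt N8531 (iv F59159)) (tt N8219 (iv F57959)) (tt N8533 D14991) (tt N6671 (iv D14103)))
theorem Q7647 : ∀ i, i < 7647 → P i := stepQ 7646 Q7646 (allL N7646 (tt N8502 (iv F59000)) (tt N7646 F55604) (tt N6674 F55605) (tt N8529 (iv F59147)) (tt N7646 F55606) (tt N8514 (iv F59081)) (tt N6672 (iv D14104)) (tt N6678 F55607) (tt N8534 D14992))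
theorem Q7648 : ∀ i, i < 7648 → P i := stepQ 7647 Q7647 (allL N7647 (tt N8377 (iv F58498)) (tt N7647 F55608) (tt N6675 F55609) (tt N8531 (iv F59158)) (tt N7647 F55610) (tt N6673 F55611) (tt N8534 (iv F59166)) (tt N8209 (iv F57917)) (tt N6672 (iv D14105)))
theorem Q7649 : ∀ i, i < 7649 → P i := stepQ 7648 Q7648 (allL N7648 (tt N8380 (iv F58513)) (tt N6702 F55612) (tt N8534 (iv F59164)) (tt N8335 (iv F58377)) (tt N7648 F55613) (tt N8221 (iv F57969)) (tt N6675 F55614) (tt N8210 (iv F57923)) (tt N6674 (iv D14106)))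
theorem Q7650 : ∀ i, i < 7650 → P i := stepQ 7649 Q7649 (allL N7649 (tt N8503 (iv F59006)) (tt N7649 F55615) (tt N6682 F55616) (tt N7649 F55617) (tt N6676 (iv D14107)) (tt N7649 F55618) (tt N7090 (iv F55619)) (tt N7089 (iv F55620)) (tt N8507 (iv F59039)))
theorem Q7651 : ∀ i, i < 7651 → P i := stepQ 7650 Q7650 (allL N7650 (tt N8504 (iv F59014)) (tt N7650 F55621) (tt N6683 F55622) (tt N6678 F55623) (tt N7090 F55624) (tt N8293 (iv F58242)) (tt N6676 (iv D14108)) (tt N7088 (iv F55625)) (tt N8508 (iv F59048)))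
theorem Q7652 : ∀ i, i < 7652 → P i := stepQ 7651 Q7651 (allL N7651 (tt N8505 (iv F59022)) (tt N7651 F55626) (tt N6684 F55627) (tt N8530 (iv F59153)) (tt N7089 F55628) (tt N6677 F55629) (tt N7088 F55630) (tt N6676 (iv D14109)) (tt N8535 D14993))
theorem Q7653 : ∀ i, i < 7653 → P i := stepQ 7652 Q7652 (allL N7652 (tt N8506 (iv F59028)) (tt N7652 F55631) (tt N6686 F55632) (tt N8532 (iv F59161)) (tt N7652 F55633) (tt N8535 (iv F59170)) (tt N8512 (iv F59071)) (tt N8510 (iv F59061)) (tt N6677 (iv D14110)))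
theorem Q7654 : ∀ i, i < 7654 → P i := stepQ 7653 Q7653 (allL N7653 (tt N8507 (iv F59034)) (tt N6714 F55634) (tt N8295 (iv F58253)) (tt N7653 F55635) (tt N6679 (iv D14111)) (tt N7653 F55636) (tt N6825 (iv F55637)) (tt N6824 (iv F55638)) (tt N8503 (iv F59011)))
theorem Q7655 : ∀ i, i < 7655 → P i := stepQ 7654 Q7654 (allL N7654 (tt N8508 (iv F59042)) (tt N6715 F55639) (tt N8293 (iv F58240)) (tt N6681 F55640) (tt N6825 F55641) (tt N6683 F55642) (tt N6679 (iv D14112)) (tt N6823 (iv F55643)) (tt N8504 (iv F59020)))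
theorem Q7656 : ∀ i, i < 7656 → P i := stepQ 7655 Q7655 (allL N7655 (tt N8509 (iv F59050)) (tt N6716 F55644) (tt N8292 (iv F58234)) (tt N8372 (iv F58481)) (tt N6824 F55645) (tt N6680 F55646) (tt N6823 F55647) (tt N6679 (iv D14113)) (tt N8536 D14994))
theorem Q7657 : ∀ i, i < 7657 → P i := stepQ 7656 Q7656 (allL N7656 (tt N8510 (iv F59056)) (tt N6718 F55648) (tt N8512 (iv F59069)) (tt N8374 (iv F58489)) (tt N7656 F55649) (tt N8536 (iv F59174)) (tt N6686 F55650) (tt N8506 (iv F59033)) (tt N6680 (iv D14114)))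
theorem Q7658 : ∀ i, i < 7658 → P i := stepQ 7657 Q7657 (allL N7657 (tt N8295 (iv F58251)) (tt N6727 F55651) (tt N8507 (iv F59036)) (tt N6695 F55652) (tt N6685 F55653) (tt N7657 F55654) (tt N7469 F55655) (tt N8119 (iv F57546)) (tt N6682 (iv D14115)))
theorem Q7659 : ∀ i, i < 7659 → P i := stepQ 7658 Q7658 (allL N7658 (tt N8293 (iv F58238)) (tt N6728 F55656) (tt N8508 (iv F59044)) (tt N6688 F55657) (tt N7469 F55658) (tt N8504 (iv F59019)) (tt N6685 F55659) (tt N8137 (iv F57645)) (tt N6683 (iv D14116)))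
theorem Q7660 : ∀ i, i < 7660 → P i := stepQ 7659 Q7659 (allL N7659 (tt N8511 (iv F59062)) (tt N6729 F55660) (tt N8535 (iv F59168)) (tt N8383 (iv F58526)) (tt N7468 F55661) (tt N6686 F55662) (tt N7467 F55663) (tt N8537 D14995) (tt N6684 (iv D14117)))
theorem Q7661 : ∀ i, i < 7661 → P i := stepQ 7660 Q7660 (allL N7660 (tt N8292 (iv F58232)) (tt N6730 F55664) (tt N8509 (iv F59052)) (tt N8110 F57502) (tt N8119 (iv F57543)) (tt N6687 F55665) (tt N8137 (iv F57644)) (tt N6685 (iv D14118)) (tt N8537 (iv F59180)))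
theorem Q7662 : ∀ i, i < 7662 → P i := stepQ 7661 Q7661 (allL N7661 (tt N8512 (iv F59067)) (tt N6731 F55666) (tt N8510 (iv F59058)) (tt N8538 D14996) (tt N7661 F55667) (tt N8537 (iv F59178)) (tt N8506 (iv F59032)) (tt N6686 (iv D14119)) (tt N6687 F55668))
theorem Q7663 : ∀ i, i < 7663 → P i := stepQ 7662 Q7662 (allL N7662 (tt N8513 (iv F59073)) (tt N6732 F55669) (tt N8539 D14997) (tt N6687 (iv D14120)) (tt N8428 (iv F58690)) (tt N8110 F57503) (tt N8501 (iv F58999)) (tt N6690 F55670) (tt N8538 (iv F59182)))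
theorem Q7664 : ∀ i, i < 7664 → P i := stepQ 7663 Q7663 (allL N7663 (tt N8514 (iv F59077)) (tt N6733 F55671) (tt N6692 F55672) (tt N8540 D14998) (tt N6699 F55673) (tt N8502 (iv F59004)) (tt N6689 F55674) (tt N6688 (iv D14121)) (tt N8387 (iv F58540)))
theorem Q7665 : ∀ i, i < 7665 → P i := stepQ 7664 Q7664 (allL N7664 (tt N8515 (iv F59083)) (tt N6734 F55675) (tt N8541 D14999) (tt N6689 (iv D14122)) (tt N7397 F55676) (tt N6690 F55677) (tt N8540 (iv F59186)) (tt N8110 (iv F57501)) (tt N8388 (iv F58544)))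
theorem Q7666 : ∀ i, i < 7666 → P i := stepQ 7665 Q7665 (allL N7665 (tt N8319 (iv F58329)) (tt N8542 D15000) (tt N6690 (iv D14123)) (tt N6694 F55678) (tt N8543 D15001) (tt N8541 (iv F59190)) (tt N8171 (iv F57781)) (tt N8539 (iv F59183)) (tt N8389 (iv F58546)))
theorem Q7667 : ∀ i, i < 7667 → P i := stepQ 7666 Q7666 (allL N7666 (tt N8516 (iv F59087)) (tt N6736 F55679) (tt N8543 (iv F59194)) (tt N6691 F55680) (tt N6690 (iv D14124)) (tt N7400 F55681) (tt N8497 (iv F58982)) (tt N8428 (iv F58691)) (tt N8390 (iv F58550)))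
theorem Q7668 : ∀ i, i < 7668 → P i := stepQ 7667 Q7667 (allL N7667 (tt N8320 (iv F58333)) (tt N7861 (iv F56389)) (tt N6693 (iv D14125)) (tt N8541 (iv F59188)) (tt N7860 F56387) (tt N6694 F55682) (tt N7866 (iv F56411)) (tt N8184 (iv F57829)) (tt N8391 (iv F58552)))
theorem Q7669 : ∀ i, i < 7669 → P i := stepQ 7668 Q7668 (allL N7668 (tt N7994 (iv F57009)) (tt N6694 (iv D14126)) (tt N6703 F55683) (tt N8542 (iv F59192)) (tt N8165 (iv F57756)) (tt N7861 F56392) (tt N8169 (iv F57775)) (tt N8181 (iv F57819)) (tt N8392 (iv F58554)))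
theorem Q7670 : ∀ i, i < 7670 → P i := stepQ 7669 Q7669 (allL N7669 (tt N7633 F55684) (tt N6740 F55685) (tt N7040 F55686) (tt N6699 (iv D14127)) (tt N7034 (iv F55690)) (tt N7669 F55687) (tt N6700 F55688) (tt N7033 F55689) (tt N8395 (iv F58571)))
theorem Q7671 : ∀ i, i < 7671 → P i := stepQ 7670 Q7670 (allL N7670 (tt N7670 F55691) (tt N6942 F55692) (tt N6900 F55693) (tt N8420 (iv F58657)) (tt N6903 F55694) (tt N6704 (iv D14128)) (tt N7689 (iv F55783)) (tt N7670 F55695) (tt N8544 D15002))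
theorem Q7672 : ∀ i, i < 7672 → P i := stepQ 7671 Q7671 (allL N7671 (tt N7671 F55696) (tt N6943 F55697) (tt N6901 F55698) (tt N8421 (iv F58661)) (tt N6705 F55699) (tt N8544 (iv F59200)) (tt N6707 F55700) (tt N8545 D15003) (tt N6704 (iv D14129)))
theorem Q7673 : ∀ i, i < 7673 → P i := stepQ 7672 Q7672 (allL N7672 (tt N7672 F55701) (tt N6944 F55702) (tt N6902 F55703) (tt N6710 F55704) (tt N8545 (iv F59206)) (tt N6883 F55705) (tt N6708 F55706) (tt N6705 (iv D14130)) (tt N7672 F55707))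
theorem Q7674 : ∀ i, i < 7674 → P i := stepQ 7673 Q7673 (allL N7673 (tt N7673 F55708) (tt N6906 F55709) (tt N6708 F55710) (tt N7673 F55711) (tt N7552 F55712) (tt N7673 F55713) (tt N6902 F55714) (tt N6706 (iv D14131)) (tt N7673 F55715))
theorem Q7675 : ∀ i, i < 7675 → P i := stepQ 7674 Q7674 (allL N7674 (tt N7674 F55716) (tt N8517 (iv F59093)) (tt N7552 F55717) (tt N8546 D15004) (tt N6708 F55718) (tt N7553 F55719) (tt N8545 (iv F59208)) (tt N6707 (iv D14132)) (tt N7674 F55720))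
theorem Q7676 : ∀ i, i < 7676 → P i := stepQ 7675 Q7675 (allL N7675 (tt N7675 F55721) (tt N8519 (iv F59107)) (tt N7675 F55722) (tt N8547 D15005) (tt N6710 F55723) (tt N6870 F55724) (tt N6713 F55725) (tt N6709 (iv D14133)) (tt N7675 F55726))
theorem Q7677 : ∀ i, i < 7677 → P i := stepQ 7676 Q7676 (allL N7676 (tt N7676 F55727) (tt N8525 (iv F59133)) (tt N7676 F55728) (tt N8434 (iv F58716)) (tt N7676 F55729) (tt N7563 F55730) (tt N6712 F55731) (tt N8463 (iv F58837)) (tt N6711 (iv D14134)))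
theorem Q7678 : ∀ i, i < 7678 → P i := stepQ 7677 Q7677 (allL N7677 (tt N7677 F55732) (tt N8526 (iv F59138)) (tt N7677 F55733) (tt N8548 D15006) (tt N7677 F55734) (tt N6713 F55735) (tt N8463 (iv F58836)) (tt N6712 (iv D14135)) (tt N7677 F55736))
theorem Q7679 : ∀ i, i < 7679 → P i := stepQ 7678 Q7678 (allL N7678 (tt N7678 F55737) (tt N8527 (iv F59142)) (tt N8549 D15007) (tt N6713 (iv D14136)) (tt N8546 (iv F59212)) (tt N8548 (iv F59220)) (tt N8547 (iv F59217)) (tt N8436 (iv F58721)) (tt N7678 F55738))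
theorem Q7680 : ∀ i, i < 7680 → P i := stepQ 7679 Q7679 (allL N7679 (tt N7679 F55739) (tt N8503 (iv F59007)) (tt N7679 F55740) (tt N7679 F55741) (tt N6717 F55742) (tt N7679 F55743) (tt N6876 F55744) (tt N8550 D15008) (tt N6714 (iv D14137)))
theorem Q7681 : ∀ i, i < 7681 → P i := stepQ 7680 Q7680 (allL N7680 (tt N7680 F55745) (tt N8504 (iv F59015)) (tt N7680 F55746) (tt N6720 F55747) (tt N6876 F55748) (tt N6728 F55749) (tt N6717 F55750) (tt N8551 D15009) (tt N6715 (iv D14138)))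
theorem Q7682 : ∀ i, i < 7682 → P i := stepQ 7681 Q7681 (allL N7681 (tt N7681 F55751) (tt N8536 (iv F59172)) (tt N7681 F55752) (tt N8467 (iv F58858)) (tt N6875 F55753) (tt N6718 F55754) (tt N6874 F55755) (tt N8552 D15010) (tt N6716 (iv D14139)))
theorem Q7683 : ∀ i, i < 7683 → P i := stepQ 7682 Q7682 (allL N7682 (tt N7682 F55756) (tt N8505 (iv F59023)) (tt N7682 F55757) (tt N8553 D15011) (tt N8550 (iv F59229)) (tt N6719 F55758) (tt N8551 (iv F59239)) (tt N6717 (iv D14140)) (tt N8552 (iv F59246)))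
theorem Q7684 : ∀ i, i < 7684 → P i := stepQ 7683 Q7683 (allL N7683 (tt N7683 F55759) (tt N8506 (iv F59029)) (tt N7683 F55760) (tt N8554 D15012) (tt N7683 F55761) (tt N8552 (iv F59244)) (tt N6731 F55762) (tt N6718 (iv D14141)) (tt N6719 F55763))
theorem Q7685 : ∀ i, i < 7685 → P i := stepQ 7684 Q7684 (allL N7684 (tt N7684 F55764) (tt N8501 (iv F58997)) (tt N8114 (iv F57516)) (tt N6719 (iv D14142)) (tt N8431 (iv F58702)) (tt N8553 (iv F59248)) (tt N6732 F55765) (tt N6722 F55766) (tt N8554 (iv F59252)))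
theorem Q7686 : ∀ i, i < 7686 → P i := stepQ 7685 Q7685 (allL N7685 (tt N7685 F55767) (tt N8502 (iv F59001)) (tt N6724 F55768) (tt N8555 D15013) (tt N7685 F55769) (tt N6733 F55770) (tt N6721 F55771) (tt N6720 (iv D14143)) (tt N8471 (iv F58878)))
theorem Q7687 : ∀ i, i < 7687 → P i := stepQ 7686 Q7686 (allL N7686 (tt N7686 F55772) (tt N8500 (iv F58994)) (tt N8556 D15014) (tt N6721 (iv D14144)) (tt N8557 D15015) (tt N6722 F55773) (tt N8555 (iv F59256)) (tt N8553 (iv F59249)) (tt N8472 (iv F58881)))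
theorem Q7688 : ∀ i, i < 7688 → P i := stepQ 7687 Q7687 (allL N7687 (tt N7687 F55774) (tt N8558 D15016) (tt N6722 (iv D14145)) (tt N6726 F55775) (tt N7810 (iv F56165)) (tt N8556 (iv F59260)) (tt N6735 F55776) (tt N8114 (iv F57519)) (tt N8473 (iv F58885)))
theorem Q7689 : ∀ i, i < 7689 → P i := stepQ 7688 Q7688 (allL N7688 (tt N7688 F55777) (tt N8497 (iv F58979)) (tt N7810 (iv F56163)) (tt N6723 F55778) (tt N6722 (iv D14146)) (tt N7526 (iv F55780)) (tt N6736 F55779) (tt N8431 (iv F58704)) (tt N8474 (iv F58889)))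
theorem Q7690 : ∀ i, i < 7690 → P i := stepQ 7689 Q7689 (allL N7689 (tt N7689 F55781) (tt N7879 (iv F56456)) (tt N6725 (iv D14147)) (tt N8556 (iv F59259)) (tt N7838 (iv F56281)) (tt N6726 F55782) (tt N7670 F55783) (tt N7689 F55784) (tt N8475 (iv F58894)))
theorem Q7691 : ∀ i, i < 7691 → P i := stepQ 7690 Q7690 (allL N7690 (tt N8018 (iv F57081)) (tt N6726 (iv D14148)) (tt N6741 F55785) (tt N8558 (iv F59269)) (tt N7690 F55786) (tt N7879 (iv F56459)) (tt N6737 F55787) (tt N7690 F55788) (tt N8476 (iv F58899)))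
theorem Q7692 : ∀ i, i < 7692 → P i := stepQ 7691 Q7691 (allL N7691 (tt N7691 F55789) (tt N8137 (iv F57641)) (tt N7691 F55790) (tt N8104 (iv F57479)) (tt N7580 F55791) (tt N8551 (iv F59238)) (tt N6730 F55792) (tt N6728 (iv D14149)) (tt N7578 F55793))
theorem Q7693 : ∀ i, i < 7693 → P i := stepQ 7692 Q7692 (allL N7692 (tt N7692 F55794) (tt N8537 (iv F59176)) (tt N7692 F55795) (tt N8112 (iv F57509)) (tt N7579 F55796) (tt N6731 F55797) (tt N7578 F55798) (tt N6729 (iv D14150)) (tt N6730 F55799))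
theorem Q7694 : ∀ i, i < 7694 → P i := stepQ 7693 Q7693 (allL N7693 (tt N7693 F55800) (tt N8538 (iv F59181)) (tt N8115 (iv F57521)) (tt N6731 (iv D14151)) (tt N8432 (iv F58708)) (tt N8112 (iv F57511)) (tt N8554 (iv F59251)) (tt N8481 (iv F58916)) (tt N6732 F55801))
theorem Q7695 : ∀ i, i < 7695 → P i := stepQ 7694 Q7694 (allL N7694 (tt N7694 F55802) (tt N8540 (iv F59184)) (tt N7513 F55803) (tt N6733 (iv D14152)) (tt N7171 F55804) (tt N8555 (iv F59255)) (tt N6734 F55805) (tt N8104 (iv F57481)) (tt N8484 (iv F58928)))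
theorem Q7696 : ∀ i, i < 7696 → P i := stepQ 7695 Q7695 (allL N7695 (tt N8016 (iv F57075)) (tt N6735 (iv D14153)) (tt N8542 (iv F59191)) (tt N6737 F55806) (tt N7753 (iv F55998)) (tt N7359 F55807) (tt N8558 (iv F59270)) (tt N7965 (iv F56891)) (tt N8485 (iv F58931)))
theorem Q7697 : ∀ i, i < 7697 → P i := stepQ 7696 Q7696 (allL N7696 (tt N6798 F55808) (tt N8559 D15017) (tt N6742 (iv D14154)) (tt N6744 F55809) (tt N8560 D15018) (tt N8123 (iv F57572)) (tt N8309 (iv F58306)) (tt N7243 F55810) (tt N8561 D15019))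
theorem Q7698 : ∀ i, i < 7698 → P i := stepQ 7697 Q7697 (allL N7697 (tt N6799 F55811) (tt N7697 F55812) (tt N8560 (iv F59275)) (tt N7697 F55813) (tt N6742 (iv D14155)) (tt N8562 D15020) (tt N8426 (iv F58682)) (tt N7244 F55814) (tt N8563 D15021))
theorem Q7699 : ∀ i, i < 7699 → P i := stepQ 7698 Q7698 (allL N7698 (tt N6800 F55815) (tt N7698 F55816) (tt N8561 (iv F59278)) (tt N6743 F55817) (tt N8563 (iv F59288)) (tt N8124 (iv F57579)) (tt N8427 (iv F58687)) (tt N8564 D15022) (tt N6742 (iv D14156)))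
theorem Q7700 : ∀ i, i < 7700 → P i := stepQ 7699 Q7699 (allL N7699 (tt N8165 (iv F57754)) (tt N6744 (iv D14157)) (tt N6770 F55818) (tt N8559 (iv F59272)) (tt N7994 (iv F57012)) (tt N7986 F56976) (tt N8168 (iv F57771)) (tt N6747 F55819) (tt N8565 D15023))
theorem Q7701 : ∀ i, i < 7701 → P i := stepQ 7700 Q7700 (allL N7700 (tt N6801 F55820) (tt N7994 (iv F57010)) (tt N6745 F55821) (tt N8566 D15024) (tt N6744 (iv D14158)) (tt N7991 (iv F56999)) (tt N8322 (iv F58343)) (tt N6748 F55822) (tt N8567 D15025))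
theorem Q7702 : ∀ i, i < 7702 → P i := stepQ 7701 Q7701 (allL N7701 (tt N6802 F55823) (tt N8565 (iv F59292)) (tt N6746 F55824) (tt N8561 (iv F59279)) (tt N8567 (iv F59298)) (tt N8125 (iv F57584)) (tt N8323 (iv F58347)) (tt N8568 D15026) (tt N6744 (iv D14159)))
theorem Q7703 : ∀ i, i < 7703 → P i := stepQ 7702 Q7702 (allL N7702 (tt N6804 F55825) (tt N6772 F55826) (tt N8567 (iv F59297)) (tt N7702 F55827) (tt N6746 F55828) (tt N8055 (iv F57251)) (tt N8396 (iv F58577)) (tt N8569 D15027) (tt N6745 (iv D14160)))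
theorem Q7704 : ∀ i, i < 7704 → P i := stepQ 7703 Q7703 (allL N7703 (tt N6805 F55829) (tt N6773 F55830) (tt N8568 (iv F59300)) (tt N7856 (iv F56368)) (tt N8569 (iv F59304)) (tt N8126 (iv F57590)) (tt N8397 (iv F58580)) (tt N6746 (iv D14161)) (tt N6752 F55831))
theorem Q7705 : ∀ i, i < 7705 → P i := stepQ 7704 Q7704 (allL N7704 (tt N8181 (iv F57815)) (tt N6748 F55832) (tt N6774 F55833) (tt N8570 D15028) (tt N6747 (iv D14162)) (tt N7972 (iv F56923)) (tt N8189 (iv F57850)) (tt N7994 (iv F57013)) (tt N8571 D15029))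
theorem Q7706 : ∀ i, i < 7706 → P i := stepQ 7705 Q7705 (allL N7705 (tt N8182 (iv F57820)) (tt N6749 F55834) (tt N6775 F55835) (tt N7267 F55836) (tt N8571 (iv F59311)) (tt N8131 (iv F57616)) (tt N8190 (iv F57855)) (tt N8572 D15030) (tt N6747 (iv D14163)))
theorem Q7707 : ∀ i, i < 7707 → P i := stepQ 7706 Q7706 (allL N7706 (tt N6806 F55837) (tt N8570 (iv F59306)) (tt N6753 F55838) (tt N6748 (iv D14164)) (tt N7268 F55839) (tt N8573 D15031) (tt N8346 (iv F58413)) (tt N8574 D15032) (tt N8575 D15033))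
theorem Q7708 : ∀ i, i < 7708 → P i := stepQ 7707 Q7707 (allL N7707 (tt N6807 F55840) (tt N7972 (iv F56921)) (tt N6750 F55841) (tt N8573 (iv F59316)) (tt N7971 F56920) (tt N6748 (iv D14165)) (tt N7977 (iv F56945)) (tt N7991 (iv F57001)) (tt N8576 D15034))
theorem Q7709 : ∀ i, i < 7709 → P i := stepQ 7708 Q7708 (allL N7708 (tt N6808 F55842) (tt N8571 (iv F59309)) (tt N6751 F55843) (tt N8575 (iv F59322)) (tt N6749 F55844) (tt N8576 (iv F59326)) (tt N8348 (iv F58419)) (tt N8577 D15035) (tt N6748 (iv D14166)))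
theorem Q7710 : ∀ i, i < 7710 → P i := stepQ 7709 Q7709 (allL N7709 (tt N6809 F55845) (tt N8572 (iv F59312)) (tt N6752 F55846) (tt N8578 D15036) (tt N8577 (iv F59329)) (tt N8134 (iv F57628)) (tt N8349 (iv F58422)) (tt N6749 (iv D14167)) (tt N8568 (iv F59301)))
theorem Q7711 : ∀ i, i < 7711 → P i := stepQ 7710 Q7710 (allL N7710 (tt N6811 F55847) (tt N6778 F55848) (tt N8576 (iv F59325)) (tt N6758 F55849) (tt N8041 (iv F57174)) (tt N6751 F55850) (tt N8046 (iv F57206)) (tt N8579 D15037) (tt N6750 (iv D14168)))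
theorem Q7712 : ∀ i, i < 7712 → P i := stepQ 7711 Q7711 (allL N7711 (tt N6812 F55851) (tt N6779 F55852) (tt N8577 (iv F59328)) (tt N8580 D15038) (tt N6752 F55853) (tt N8579 (iv F59334)) (tt N8405 (iv F58611)) (tt N6751 (iv D14169)) (tt N8569 (iv F59305)))
theorem Q7713 : ∀ i, i < 7713 → P i := stepQ 7712 Q7712 (allL N7712 (tt N6813 F55854) (tt N7712 F55855) (tt N8573 (iv F59315)) (tt N6754 F55856) (tt N8581 D15039) (tt N6753 (iv D14170)) (tt N8582 D15040) (tt N8583 D15041) (tt N8584 D15042))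
theorem Q7714 : ∀ i, i < 7714 → P i := stepQ 7713 Q7713 (allL N7713 (tt N6814 F55857) (tt N7713 F55858) (tt N8574 (iv F59318)) (tt N7713 F55859) (tt N7281 F55860) (tt N8583 (iv F59348)) (tt N8438 (iv F58729)) (tt N6753 (iv D14171)) (tt N8585 D15043))
theorem Q7715 : ∀ i, i < 7715 → P i := stepQ 7714 Q7714 (allL N7714 (tt N6815 F55861) (tt N7714 F55862) (tt N8575 (iv F59321)) (tt N6755 F55863) (tt N7282 F55864) (tt N8584 (iv F59352)) (tt N8439 (iv F58734)) (tt N8586 D15044) (tt N6753 (iv D14172)))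
theorem Q7716 : ∀ i, i < 7716 → P i := stepQ 7715 Q7715 (allL N7715 (tt N6816 F55865) (tt N7715 F55866) (tt N6757 F55867) (tt N8582 (iv F59344)) (tt N6763 F55868) (tt N8440 (iv F58739)) (tt N6754 (iv D14173)) (tt N7715 F55869) (tt N8587 D15045))
theorem Q7717 : ∀ i, i < 7717 → P i := stepQ 7716 Q7716 (allL N7716 (tt N6817 F55870) (tt N7716 F55871) (tt N6758 F55872) (tt N8584 (iv F59351)) (tt N6764 F55873) (tt N6755 F55874) (tt N8587 (iv F59364)) (tt N8588 D15046) (tt N6754 (iv D14174)))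
theorem Q7718 : ∀ i, i < 7718 → P i := stepQ 7717 Q7717 (allL N7717 (tt N6818 F55875) (tt N7717 F55876) (tt N6759 F55877) (tt N8589 D15047) (tt N6756 F55878) (tt N8588 (iv F59369)) (tt N8442 (iv F58750)) (tt N6755 (iv D14175)) (tt N7717 F55879))
theorem Q7719 : ∀ i, i < 7719 → P i := stepQ 7718 Q7718 (allL N7718 (tt N6819 F55880) (tt N7718 F55881) (tt N7635 F55882) (tt N6756 (iv D14176)) (tt N8590 D15048) (tt N6766 F55883) (tt N7639 F55884) (tt N7286 F55885) (tt N7718 F55886))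
theorem Q7720 : ∀ i, i < 7720 → P i := stepQ 7719 Q7719 (allL N7719 (tt N6820 F55887) (tt N6780 F55888) (tt N8587 (iv F59362)) (tt N8046 (iv F57204)) (tt N6767 F55889) (tt N8487 (iv F58940)) (tt N6758 F55890) (tt N8591 D15049) (tt N6757 (iv D14177)))
theorem Q7721 : ∀ i, i < 7721 → P i := stepQ 7720 Q7720 (allL N7720 (tt N6821 F55891) (tt N6781 F55892) (tt N8588 (iv F59367)) (tt N8592 D15050) (tt N6768 F55893) (tt N6759 F55894) (tt N8591 (iv F59384)) (tt N6758 (iv D14178)) (tt N7720 F55895))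
theorem Q7722 : ∀ i, i < 7722 → P i := stepQ 7721 Q7721 (allL N7721 (tt N6822 F55896) (tt N6782 F55897) (tt N8593 D15051) (tt N6759 (iv D14179)) (tt N7884 (iv F56483)) (tt N8592 (iv F59388)) (tt N8489 (iv F58949)) (tt N8580 (iv F59337)) (tt N7721 F55898))
theorem Q7723 : ∀ i, i < 7723 → P i := stepQ 7722 Q7722 (allL N7722 (tt N6823 F55899) (tt N7722 F55900) (tt N8137 (iv F57642)) (tt N8581 (iv F59340)) (tt N6760 (iv D14180)) (tt N7290 F55901) (tt N8509 (iv F59055)) (tt N8508 F59049) (tt N8594 D15052))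
theorem Q7724 : ∀ i, i < 7724 → P i := stepQ 7723 Q7723 (allL N7723 (tt N6824 F55902) (tt N7723 F55903) (tt N8119 (iv F57542)) (tt N6763 F55904) (tt N8509 (iv F59053)) (tt N7723 F55905) (tt N6760 (iv D14181)) (tt N8507 F59040) (tt N8595 D15053))
theorem Q7725 : ∀ i, i < 7725 → P i := stepQ 7724 Q7724 (allL N7724 (tt N6825 F55906) (tt N7724 F55907) (tt N7469 F55908) (tt N7724 F55909) (tt N8508 (iv F59046)) (tt N6761 F55910) (tt N8507 (iv F59041)) (tt N6760 (iv D14182)) (tt N7090 (iv F55911)))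
theorem Q7726 : ∀ i, i < 7726 → P i := stepQ 7725 Q7725 (allL N7725 (tt N6826 F55912) (tt N7725 F55913) (tt N7470 F55914) (tt N6764 F55915) (tt N8594 (iv F59395)) (tt N6762 F55916) (tt N8595 (iv F59403)) (tt N7091 F55917) (tt N6760 (iv D14183)))
theorem Q7727 : ∀ i, i < 7727 → P i := stepQ 7726 Q7726 (allL N7726 (tt N6829 F55918) (tt N7726 F55919) (tt N6767 F55920) (tt N8595 (iv F59401)) (tt N8587 (iv F59363)) (tt N7726 F55921) (tt N6764 F55922) (tt N8596 D15054) (tt N6763 (iv D14184)))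
theorem Q7728 : ∀ i, i < 7728 → P i := stepQ 7727 Q7727 (allL N7727 (tt N6830 F55923) (tt N7727 F55924) (tt N6768 F55925) (tt N7093 F55926) (tt N8588 (iv F59368)) (tt N6765 F55927) (tt N8596 (iv F59410)) (tt N6764 (iv D14185)) (tt N7727 F55928))
theorem Q7729 : ∀ i, i < 7729 → P i := stepQ 7728 Q7728 (allL N7728 (tt N6833 F55929) (tt N6783 F55930) (tt N8596 (iv F59407)) (tt N8122 (iv F57564)) (tt N8591 (iv F59383)) (tt N7728 F55931) (tt N6768 F55932) (tt N6767 (iv D14186)) (tt N7728 F55933))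
theorem Q7730 : ∀ i, i < 7730 → P i := stepQ 7729 Q7729 (allL N7729 (tt N6834 F55934) (tt N6784 F55935) (tt N7095 F55936) (tt N6768 (iv D14187)) (tt N8143 (iv F57668)) (tt N6769 F55937) (tt N8122 (iv F57567)) (tt N7473 F55938) (tt N7729 F55939))
theorem Q7731 : ∀ i, i < 7731 → P i := stepQ 7730 Q7730 (allL N7730 (tt N8228 (iv F57999)) (tt N6771 F55940) (tt N8565 (iv F59293)) (tt N7730 F55941) (tt N7998 (iv F57028)) (tt N7988 (iv F56984)) (tt N8230 (iv F58012)) (tt N8597 D15055) (tt N6770 (iv D14188)))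
theorem Q7732 : ∀ i, i < 7732 → P i := stepQ 7731 Q7731 (allL N7731 (tt N6788 F55942) (tt N8597 (iv F59412)) (tt N6773 F55943) (tt N8598 D15056) (tt N8059 (iv F57271)) (tt N8053 (iv F57238)) (tt N8258 (iv F58110)) (tt N6771 (iv D14189)) (tt N6777 F55944))
theorem Q7733 : ∀ i, i < 7733 → P i := stepQ 7732 Q7732 (allL N7732 (tt N6789 F55945) (tt N8569 (iv F59303)) (tt N8059 (iv F57270)) (tt N8599 D15057) (tt N6773 F55946) (tt N8057 (iv F57260)) (tt N8413 (iv F58635)) (tt N6772 (iv D14190)) (tt N6779 F55947))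
theorem Q7734 : ∀ i, i < 7734 → P i := stepQ 7733 Q7733 (allL N7733 (tt N8237 (iv F58034)) (tt N6776 F55948) (tt N8571 (iv F59310)) (tt N7733 F55949) (tt N6775 F55950) (tt N7974 (iv F56931)) (tt N8242 (iv F58058)) (tt N8600 D15058) (tt N6774 (iv D14191)))
theorem Q7735 : ∀ i, i < 7735 → P i := stepQ 7734 Q7734 (allL N7734 (tt N8238 (iv F58039)) (tt N6777 F55951) (tt N8572 (iv F59313)) (tt N8601 D15059) (tt N8600 (iv F59421)) (tt N8141 (iv F57660)) (tt N8243 (iv F58061)) (tt N6775 (iv D14192)) (tt N8597 (iv F59413)))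
theorem Q7736 : ∀ i, i < 7736 → P i := stepQ 7735 Q7735 (allL N7735 (tt N6790 F55952) (tt N8600 (iv F59420)) (tt N6779 F55953) (tt N8602 D15060) (tt N6777 F55954) (tt N8043 (iv F57187)) (tt N8263 (iv F58133)) (tt N6776 (iv D14193)) (tt N8059 (iv F57273)))
theorem Q7737 : ∀ i, i < 7737 → P i := stepQ 7736 Q7736 (allL N7736 (tt N6791 F55955) (tt N8601 (iv F59422)) (tt N7916 (iv F56638)) (tt N6777 (iv D14194)) (tt N8603 D15061) (tt N8142 (iv F57663)) (tt N8264 (iv F58135)) (tt N6787 F55956) (tt N8598 (iv F59416)))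
theorem Q7738 : ∀ i, i < 7738 → P i := stepQ 7737 Q7737 (allL N7737 (tt N6792 F55957) (tt N8579 (iv F59333)) (tt N8043 (iv F57185)) (tt N8604 D15062) (tt N8042 (iv F57180)) (tt N6779 F55958) (tt N8049 (iv F57219)) (tt N6778 (iv D14195)) (tt N8057 (iv F57262)))
theorem Q7739 : ∀ i, i < 7739 → P i := stepQ 7738 Q7738 (allL N7738 (tt N6793 F55959) (tt N8580 (iv F59336)) (tt N8605 D15063) (tt N6779 (iv D14196)) (tt N7919 (iv F56651)) (tt N8604 (iv F59429)) (tt N8417 (iv F58647)) (tt N6782 F55960) (tt N8599 (iv F59419)))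
theorem Q7740 : ∀ i, i < 7740 → P i := stepQ 7739 Q7739 (allL N7739 (tt N6794 F55961) (tt N8591 (iv F59382)) (tt N7739 F55962) (tt N8147 (iv F57688)) (tt N6783 F55963) (tt N8495 (iv F58972)) (tt N6781 F55964) (tt N6780 (iv D14197)) (tt N7739 F55965))
theorem Q7741 : ∀ i, i < 7741 → P i := stepQ 7740 Q7740 (allL N7740 (tt N6795 F55966) (tt N8592 (iv F59387)) (tt N8253 (iv F58090)) (tt N6781 (iv D14198)) (tt N8144 (iv F57673)) (tt N6782 F55967) (tt N8147 (iv F57689)) (tt N8604 (iv F59430)) (tt N7740 F55968))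
theorem Q7742 : ∀ i, i < 7742 → P i := stepQ 7741 Q7741 (allL N7741 (tt N6796 F55969) (tt N8606 D15064) (tt N6782 (iv D14199)) (tt N7741 F55970) (tt N7922 (iv F56666)) (tt N8253 (iv F58092)) (tt N8493 (iv F58964)) (tt N8605 (iv F59432)) (tt N7741 F55971))
theorem Q7743 : ∀ i, i < 7743 → P i := stepQ 7742 Q7742 (allL N7742 (tt N8252 (iv F58085)) (tt N6787 F55972) (tt N8607 D15065) (tt N6786 (iv D14200)) (tt N8608 D15066) (tt N8146 (iv F57684)) (tt N8254 (iv F58097)) (tt N8601 (iv F59423)) (tt N7742 F55973))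
theorem Q7744 : ∀ i, i < 7744 → P i := stepQ 7743 Q7743 (allL N7743 (tt N6797 F55974) (tt N8608 (iv F59437)) (tt N7930 (iv F56707)) (tt N7743 F55975) (tt N6787 (iv D14201)) (tt N8609 D15067) (tt N8075 (iv F57338)) (tt N8603 (iv F59427)) (tt N7743 F55976))
theorem Q7745 : ∀ i, i < 7745 → P i := stepQ 7744 Q7744 (allL N7744 (tt N8598 (iv F59414)) (tt N8257 (iv F58103)) (tt N7937 (iv F56750)) (tt N6788 (iv D14202)) (tt N8610 D15068) (tt N8084 (iv F57380)) (tt N8259 (iv F58113)) (tt N7744 F55977) (tt N6791 F55978))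
theorem Q7746 : ∀ i, i < 7746 → P i := stepQ 7745 Q7745 (allL N7745 (tt N8599 (iv F59417)) (tt N6849 F55979) (tt N8611 D15069) (tt N6789 (iv D14203)) (tt N7939 (iv F56761)) (tt N8086 (iv F57392)) (tt N8414 (iv F58638)) (tt N7745 F55980) (tt N6793 F55981))
theorem Q7747 : ∀ i, i < 7747 → P i := stepQ 7746 Q7746 (allL N7746 (tt N8602 (iv F59424)) (tt N8261 (iv F58120)) (tt N8612 D15070) (tt N6790 (iv D14204)) (tt N8613 D15071) (tt N8077 (iv F57344)) (tt N8265 (iv F58138)) (tt N7746 F55982) (tt N8088 (iv F57407)))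
theorem Q7748 : ∀ i, i < 7748 → P i := stepQ 7747 Q7747 (allL N7747 (tt N8603 (iv F59426)) (tt N8262 (iv F58125)) (tt N7951 (iv F56829)) (tt N8613 (iv F59450)) (tt N6791 (iv D14205)) (tt N8614 D15072) (tt N8097 (iv F57446)) (tt N6797 F55983) (tt N8610 (iv F59445)))
theorem Q7749 : ∀ i, i < 7749 → P i := stepQ 7748 Q7748 (allL N7748 (tt N8604 (iv F59428)) (tt N6851 F55984) (tt N8262 (iv F58126)) (tt N6792 (iv D14206)) (tt N8148 (iv F57693)) (tt N6793 F55985) (tt N8080 (iv F57361)) (tt N6795 F55986) (tt N8086 (iv F57395)))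
theorem Q7750 : ∀ i, i < 7750 → P i := stepQ 7749 Q7749 (allL N7749 (tt N8605 (iv F59431)) (tt N8614 (iv F59452)) (tt N6793 (iv D14207)) (tt N8612 (iv F59448)) (tt N7954 (iv F56847)) (tt N8262 (iv F58127)) (tt N8419 (iv F58653)) (tt N6796 F55987) (tt N8611 (iv F59447)))
theorem Q7751 : ∀ i, i < 7751 → P i := stepQ 7750 Q7750 (allL N7750 (tt N8609 (iv F59440)) (tt N6796 (iv D14208)) (tt N6856 F55988) (tt N7750 F55989) (tt N7956 (iv F56859)) (tt N6797 F55990) (tt N8099 (iv F57454)) (tt N8614 (iv F59454)) (tt N7750 F55991))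
theorem Q7752 : ∀ i, i < 7752 → P i := stepQ 7751 Q7751 (allL N7751 (tt N8560 (iv F59274)) (tt N8305 (iv F58291)) (tt N6799 F55992) (tt N8615 D15073) (tt N6798 (iv D14209)) (tt N8616 D15074) (tt N8310 (iv F58310)) (tt N7403 F55993) (tt N8617 D15075))
theorem Q7753 : ∀ i, i < 7753 → P i := stepQ 7752 Q7752 (allL N7752 (tt N8561 (iv F59277)) (tt N8306 (iv F58294)) (tt N6800 F55994) (tt N6802 F55995) (tt N8617 (iv F59462)) (tt N8269 (iv F58156)) (tt N8311 (iv F58315)) (tt N8618 D15076) (tt N6798 (iv D14210)))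
theorem Q7754 : ∀ i, i < 7754 → P i := stepQ 7753 Q7753 (allL N7753 (tt N8562 (iv F59280)) (tt N6858 F55996) (tt N8616 (iv F59458)) (tt N7753 F55997) (tt N7695 F55998) (tt N6799 (iv D14211)) (tt N8619 D15077) (tt N7405 F55999) (tt N8620 D15078))
theorem Q7755 : ∀ i, i < 7755 → P i := stepQ 7754 Q7754 (allL N7754 (tt N8563 (iv F59285)) (tt N6859 F56000) (tt N8617 (iv F59461)) (tt N7754 F56001) (tt N6800 F56002) (tt N8620 (iv F59472)) (tt N8429 (iv F58695)) (tt N8621 D15079) (tt N6799 (iv D14212)))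
theorem Q7756 : ∀ i, i < 7756 → P i := stepQ 7755 Q7755 (allL N7755 (tt N8564 (iv F59289)) (tt N6860 F56003) (tt N8618 (iv F59463)) (tt N7967 (iv F56896)) (tt N8621 (iv F59474)) (tt N8271 (iv F58164)) (tt N8430 (iv F58697)) (tt N6800 (iv D14213)) (tt N7407 F56004))
theorem Q7757 : ∀ i, i < 7757 → P i := stepQ 7756 Q7756 (allL N7756 (tt N8566 (iv F59294)) (tt N8319 (iv F58330)) (tt N7756 F56005) (tt N6801 (iv D14214)) (tt N8615 (iv F59456)) (tt N8622 D15080) (tt N8324 (iv F58350)) (tt N8623 D15081) (tt N8624 D15082))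
theorem Q7758 : ∀ i, i < 7758 → P i := stepQ 7757 Q7757 (allL N7757 (tt N7991 (iv F56996)) (tt N8320 (iv F58334)) (tt N6803 F56006) (tt N8622 (iv F59477)) (tt N7990 F56995) (tt N6801 (iv D14215)) (tt N8000 (iv F57035)) (tt N6807 F56007) (tt N8625 D15083))
theorem Q7759 : ∀ i, i < 7759 → P i := stepQ 7758 Q7758 (allL N7758 (tt N8567 (iv F59296)) (tt N8223 (iv F57977)) (tt N6804 F56008) (tt N8624 (iv F59481)) (tt N6802 F56009) (tt N8625 (iv F59483)) (tt N8326 (iv F58357)) (tt N8626 D15084) (tt N6801 (iv D14216)))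
theorem Q7760 : ∀ i, i < 7760 → P i := stepQ 7759 Q7759 (allL N7759 (tt N8568 (iv F59299)) (tt N8321 (iv F58337)) (tt N6805 F56010) (tt N8627 D15085) (tt N8626 (iv F59485)) (tt N8273 (iv F58170)) (tt N8327 (iv F58360)) (tt N6802 (iv D14217)) (tt N6809 F56011))
theorem Q7761 : ∀ i, i < 7761 → P i := stepQ 7760 Q7760 (allL N7760 (tt N8055 (iv F57247)) (tt N6836 F56012) (tt N8625 (iv F59482)) (tt N7760 F56013) (tt N8054 (iv F57244)) (tt N6804 F56014) (tt N8062 (iv F57288)) (tt N8628 D15086) (tt N6803 (iv D14218)))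
theorem Q7762 : ∀ i, i < 7762 → P i := stepQ 7761 Q7761 (allL N7761 (tt N8569 (iv F59302)) (tt N6837 F56015) (tt N8626 (iv F59484)) (tt N8629 D15087) (tt N6805 F56016) (tt N8628 (iv F59489)) (tt N8399 (iv F58587)) (tt N6804 (iv D14219)) (tt N6812 F56017))
theorem Q7763 : ∀ i, i < 7763 → P i := stepQ 7762 Q7762 (allL N7762 (tt N8573 (iv F59314)) (tt N8337 (iv F58382)) (tt N6813 F56018) (tt N6807 F56019) (tt N8630 D15088) (tt N6806 (iv D14220)) (tt N8631 D15089) (tt N8632 D15090) (tt N8633 D15091))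
theorem Q7764 : ∀ i, i < 7764 → P i := stepQ 7763 Q7763 (allL N7763 (tt N8574 (iv F59317)) (tt N8338 (iv F58385)) (tt N6814 F56020) (tt N8623 (iv F59479)) (tt N7436 F56021) (tt N8632 (iv F59499)) (tt N8351 (iv F58429)) (tt N6806 (iv D14221)) (tt N8634 D15092))
theorem Q7765 : ∀ i, i < 7765 → P i := stepQ 7764 Q7764 (allL N7764 (tt N8575 (iv F59320)) (tt N8339 (iv F58388)) (tt N6815 F56022) (tt N6808 F56023) (tt N7437 F56024) (tt N8633 (iv F59502)) (tt N8352 (iv F58434)) (tt N8635 D15093) (tt N6806 (iv D14222)))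
theorem Q7766 : ∀ i, i < 7766 → P i := stepQ 7765 Q7765 (allL N7765 (tt N7977 (iv F56942)) (tt N8340 (iv F58392)) (tt N6810 F56025) (tt N8631 (iv F59497)) (tt N7976 F56941) (tt N8353 (iv F58437)) (tt N6807 (iv D14223)) (tt N8000 (iv F57036)) (tt N8636 D15094))
theorem Q7767 : ∀ i, i < 7767 → P i := stepQ 7766 Q7766 (allL N7766 (tt N8576 (iv F59324)) (tt N8341 (iv F58395)) (tt N6811 F56026) (tt N8633 (iv F59501)) (tt N8282 (iv F58197)) (tt N6808 F56027) (tt N8636 (iv F59508)) (tt N8637 D15095) (tt N6807 (iv D14224)))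
theorem Q7768 : ∀ i, i < 7768 → P i := stepQ 7767 Q7767 (allL N7767 (tt N8577 (iv F59327)) (tt N8342 (iv F58398)) (tt N6812 F56028) (tt N8638 D15096) (tt N6809 F56029) (tt N8637 (iv F59510)) (tt N8355 (iv F58444)) (tt N6808 (iv D14225)) (tt N8626 (iv F59486)))
theorem Q7769 : ∀ i, i < 7769 → P i := stepQ 7768 Q7768 (allL N7768 (tt N8578 (iv F59330)) (tt N8343 (iv F58402)) (tt N8012 (iv F57063)) (tt N6809 (iv D14226)) (tt N8639 D15097) (tt N8284 (iv F58202)) (tt N8356 (iv F58446)) (tt N7441 F56030) (tt N8627 (iv F59487)))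
theorem Q7770 : ∀ i, i < 7770 → P i := stepQ 7769 Q7769 (allL N7769 (tt N8046 (iv F57202)) (tt N6838 F56031) (tt N8636 (iv F59507)) (tt N6820 F56032) (tt N8044 (iv F57193)) (tt N8406 (iv F58614)) (tt N6811 F56033) (tt N8640 D15098) (tt N6810 (iv D14227)))
theorem Q7771 : ∀ i, i < 7771 → P i := stepQ 7770 Q7770 (allL N7770 (tt N8579 (iv F59332)) (tt N6839 F56034) (tt N8637 (iv F59509)) (tt N8641 D15099) (tt N8285 (iv F58205)) (tt N6812 F56035) (tt N8640 (iv F59513)) (tt N6811 (iv D14228)) (tt N8628 (iv F59490)))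
theorem Q7772 : ∀ i, i < 7772 → P i := stepQ 7771 Q7771 (allL N7771 (tt N8580 (iv F59335)) (tt N6840 F56036) (tt N8642 D15100) (tt N6812 (iv D14229)) (tt N8015 (iv F57073)) (tt N8641 (iv F59515)) (tt N8408 (iv F58619)) (tt N6822 F56037) (tt N8629 (iv F59493)))
theorem Q7773 : ∀ i, i < 7773 → P i := stepQ 7772 Q7772 (allL N7772 (tt N8581 (iv F59338)) (tt N6861 F56038) (tt N8630 (iv F59494)) (tt N6823 F56039) (tt N6813 (iv D14230)) (tt N7454 F56040) (tt N8372 (iv F58484)) (tt N8371 F58479) (tt N8643 D15101))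
theorem Q7774 : ∀ i, i < 7774 → P i := stepQ 7773 Q7773 (allL N7773 (tt N8582 (iv F59342)) (tt N6862 F56041) (tt N8631 (iv F59496)) (tt N6816 F56042) (tt N8372 (iv F58482)) (tt N8444 (iv F58757)) (tt N6813 (iv D14231)) (tt N8370 F58474) (tt N8644 D15102))
theorem Q7775 : ∀ i, i < 7775 → P i := stepQ 7774 Q7774 (allL N7774 (tt N8583 (iv F59345)) (tt N6863 F56043) (tt N8632 (iv F59498)) (tt N7774 F56044) (tt N8371 (iv F58477)) (tt N6814 F56045) (tt N8370 F58473) (tt N6813 (iv D14232)) (tt N8645 D15103))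
theorem Q7776 : ∀ i, i < 7776 → P i := stepQ 7775 Q7775 (allL N7775 (tt N8584 (iv F59349)) (tt N6864 F56046) (tt N8633 (iv F59500)) (tt N6817 F56047) (tt N8643 (iv F59520)) (tt N6815 F56048) (tt N8644 (iv F59524)) (tt N8646 D15104) (tt N6813 (iv D14233)))
theorem Q7777 : ∀ i, i < 7777 → P i := stepQ 7776 Q7776 (allL N7776 (tt N8585 (iv F59353)) (tt N6865 F56049) (tt N8634 (iv F59503)) (tt N7776 F56050) (tt N7458 F56051) (tt N8645 (iv F59527)) (tt N8447 (iv F58770)) (tt N8647 D15105) (tt N6814 (iv D14234)))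
theorem Q7778 : ∀ i, i < 7778 → P i := stepQ 7777 Q7777 (allL N7777 (tt N8586 (iv F59357)) (tt N6866 F56052) (tt N8635 (iv F59505)) (tt N8648 D15106) (tt N7459 F56053) (tt N8646 (iv F59529)) (tt N8448 (iv F58773)) (tt N6815 (iv D14235)) (tt N8647 (iv F59532)))
theorem Q7779 : ∀ i, i < 7779 → P i := stepQ 7778 Q7778 (allL N7778 (tt N8587 (iv F59360)) (tt N6867 F56054) (tt N6820 F56055) (tt N8644 (iv F59523)) (tt N6829 F56056) (tt N8449 (iv F58777)) (tt N6817 F56057) (tt N8649 D15107) (tt N6816 (iv D14236)))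
theorem Q7780 : ∀ i, i < 7780 → P i := stepQ 7779 Q7779 (allL N7779 (tt N8588 (iv F59365)) (tt N6868 F56058) (tt N6821 F56059) (tt N8650 D15108) (tt N6830 F56060) (tt N6818 F56061) (tt N8649 (iv F59538)) (tt N6817 (iv D14237)) (tt N7779 F56062))
theorem Q7781 : ∀ i, i < 7781 → P i := stepQ 7780 Q7780 (allL N7780 (tt N8589 (iv F59371)) (tt N6869 F56063) (tt N8651 D15109) (tt N6818 (iv D14238)) (tt N8652 D15110) (tt N8650 (iv F59541)) (tt N8451 (iv F58785)) (tt N8648 (iv F59534)) (tt N7780 F56064))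
theorem Q7782 : ∀ i, i < 7782 → P i := stepQ 7781 Q7781 (allL N7781 (tt N8590 (iv F59374)) (tt N6870 F56065) (tt N8033 (iv F57138)) (tt N8652 (iv F59546)) (tt N6819 (iv D14239)) (tt N8519 (iv F59109)) (tt N8452 (iv F58788)) (tt N7463 F56066) (tt N7781 F56067))
theorem Q7783 : ∀ i, i < 7783 → P i := stepQ 7782 Q7782 (allL N7782 (tt N8591 (iv F59381)) (tt N6841 F56068) (tt N8649 (iv F59536)) (tt N8653 D15111) (tt N6833 F56069) (tt N8490 (iv F58953)) (tt N6821 F56070) (tt N6820 (iv D14240)) (tt N7782 F56071))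
theorem Q7784 : ∀ i, i < 7784 → P i := stepQ 7783 Q7783 (allL N7783 (tt N8592 (iv F59386)) (tt N6842 F56072) (tt N8654 D15112) (tt N6821 (iv D14241)) (tt N8655 D15113) (tt N6822 F56073) (tt N8653 (iv F59549)) (tt N8641 (iv F59516)) (tt N7783 F56074))
theorem Q7785 : ∀ i, i < 7785 → P i := stepQ 7784 Q7784 (allL N7784 (tt N8593 (iv F59390)) (tt N8656 D15114) (tt N6822 (iv D14242)) (tt N8651 (iv F59543)) (tt N8036 (iv F57149)) (tt N8654 (iv F59551)) (tt N8492 (iv F58959)) (tt N8642 (iv F59517)) (tt N7784 F56075))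
theorem Q7786 : ∀ i, i < 7786 → P i := stepQ 7785 Q7785 (allL N7785 (tt N8594 (iv F59392)) (tt N6874 F56076) (tt N8294 (iv F58247)) (tt N8643 (iv F59519)) (tt N6826 F56077) (tt N7467 F56078) (tt N8536 (iv F59175)) (tt N8657 D15115) (tt N6823 (iv D14243)))
theorem Q7787 : ∀ i, i < 7787 → P i := stepQ 7786 Q7786 (allL N7786 (tt N8595 (iv F59398)) (tt N6875 F56079) (tt N8296 (iv F58260)) (tt N6829 F56080) (tt N8536 (iv F59173)) (tt N7786 F56081) (tt N6826 F56082) (tt N8658 D15116) (tt N6824 (iv D14244)))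
theorem Q7788 : ∀ i, i < 7788 → P i := stepQ 7787 Q7787 (allL N7787 (tt N7090 F56083) (tt N6876 F56084) (tt N7292 F56085) (tt N7787 F56086) (tt N8504 (iv F59018)) (tt N6827 F56087) (tt N8503 (iv F59013)) (tt N6948 (iv F56088)) (tt N6825 (iv D14245)))
theorem Q7789 : ∀ i, i < 7789 → P i := stepQ 7788 Q7788 (allL N7788 (tt N7091 F56089) (tt N6877 F56090) (tt N7293 F56091) (tt N6950 (iv F56094)) (tt N8657 (iv F59561)) (tt N6828 F56092) (tt N8658 (iv F59568)) (tt N6826 (iv D14246)) (tt N6948 F56093))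
theorem Q7790 : ∀ i, i < 7790 → P i := stepQ 7789 Q7789 (allL N7789 (tt N8596 (iv F59405)) (tt N6880 F56095) (tt N6833 F56096) (tt N8659 D15117) (tt N8649 (iv F59537)) (tt N7789 F56097) (tt N6830 F56098) (tt N6829 (iv D14247)) (tt N7789 F56099))
theorem Q7791 : ∀ i, i < 7791 → P i := stepQ 7790 Q7790 (allL N7790 (tt N7093 F56100) (tt N6881 F56101) (tt N6952 (iv F56105)) (tt N6830 (iv D14248)) (tt N8660 D15118) (tt N6831 F56102) (tt N8659 (iv F59574)) (tt N6950 F56103) (tt N7790 F56104))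
theorem Q7792 : ∀ i, i < 7792 → P i := stepQ 7791 Q7791 (allL N7791 (tt N8122 (iv F57561)) (tt N6844 F56106) (tt N8661 D15119) (tt N6833 (iv D14249)) (tt N8145 (iv F57679)) (tt N7791 F56107) (tt N6834 F56108) (tt N8121 F57560) (tt N7791 F56109))
theorem Q7793 : ∀ i, i < 7793 → P i := stepQ 7792 Q7792 (allL N7792 (tt N7095 F56110) (tt N6985 (iv F56115)) (tt N6834 (iv D14250)) (tt N6952 F56111) (tt N8662 D15120) (tt N6835 F56112) (tt N8661 (iv F59589)) (tt N7297 F56113) (tt N7792 F56114))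
theorem Q7794 : ∀ i, i < 7794 → P i := stepQ 7793 Q7793 (allL N7793 (tt N8143 (iv F57665)) (tt N6846 F56116) (tt N8662 (iv F59594)) (tt N8655 (iv F59554)) (tt N6834 (iv D14251)) (tt N7926 (iv F56690)) (tt N8145 (iv F57681)) (tt N7924 F56681) (tt N7793 F56117))
theorem Q7795 : ∀ i, i < 7795 → P i := stepQ 7794 Q7794 (allL N7794 (tt N6848 F56118) (tt N8628 (iv F59488)) (tt N8251 F58084) (tt N8663 D15121) (tt N8085 (iv F57386)) (tt N6837 F56119) (tt N8091 (iv F57419)) (tt N6836 (iv D14252)) (tt N6839 F56120))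
theorem Q7796 : ∀ i, i < 7796 → P i := stepQ 7795 Q7795 (allL N7795 (tt N6849 F56121) (tt N8629 (iv F59491)) (tt N8248 (iv F58073)) (tt N6837 (iv D14253)) (tt N8052 (iv F57232)) (tt N8663 (iv F59600)) (tt N8401 (iv F58594)) (tt N7795 F56122) (tt N6840 F56123))
theorem Q7797 : ∀ i, i < 7797 → P i := stepQ 7796 Q7796 (allL N7796 (tt N6850 F56124) (tt N8640 (iv F59512)) (tt N8403 (iv F58601)) (tt N8664 D15122) (tt N8078 (iv F57349)) (tt N8409 (iv F58623)) (tt N6839 F56125) (tt N6838 (iv D14254)) (tt N8091 (iv F57420)))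
theorem Q7798 : ∀ i, i < 7798 → P i := stepQ 7797 Q7797 (allL N7797 (tt N6851 F56126) (tt N8641 (iv F59514)) (tt N8665 D15123) (tt N6839 (iv D14255)) (tt N8666 D15124) (tt N6840 F56127) (tt N8664 (iv F59604)) (tt N6842 F56128) (tt N8663 (iv F59602)))
theorem Q7799 : ∀ i, i < 7799 → P i := stepQ 7798 Q7798 (allL N7798 (tt N6852 F56129) (tt N8667 D15125) (tt N6840 (iv D14256)) (tt N8233 (iv F58021)) (tt N8072 (iv F57323)) (tt N8665 (iv F59607)) (tt N8411 (iv F58630)) (tt N6843 F56130) (tt N8248 (iv F58075)))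
theorem Q7800 : ∀ i, i < 7800 → P i := stepQ 7799 Q7799 (allL N7799 (tt N6853 F56131) (tt N8653 (iv F59548)) (tt N7921 (iv F56660)) (tt N6841 (iv D14257)) (tt N8151 (iv F57706)) (tt N7922 (iv F56667)) (tt N6842 F56132) (tt N8664 (iv F59605)) (tt N7799 F56133))
theorem Q7801 : ∀ i, i < 7801 → P i := stepQ 7800 Q7800 (allL N7800 (tt N6854 F56134) (tt N8668 D15126) (tt N6842 (iv D14258)) (tt N6889 F56135) (tt N7957 (iv F56865)) (tt N6843 F56136) (tt N7921 (iv F56662)) (tt N8665 (iv F59608)) (tt N7800 F56137))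
theorem Q7802 : ∀ i, i < 7802 → P i := stepQ 7801 Q7801 (allL N7801 (tt N6855 F56138) (tt N8655 (iv F59553)) (tt N7957 (iv F56864)) (tt N6846 F56139) (tt N6842 (iv D14259)) (tt N7927 (iv F56696)) (tt N8151 (iv F57708)) (tt N8666 (iv F59610)) (tt N7801 F56140))
theorem Q7803 : ∀ i, i < 7803 → P i := stepQ 7802 Q7802 (allL N7802 (tt N8669 D15127) (tt N6843 (iv D14260)) (tt N8656 (iv F59556)) (tt N6891 F56141) (tt N8076 (iv F57341)) (tt N8668 (iv F59613)) (tt N8494 (iv F58967)) (tt N8667 (iv F59611)) (tt N7802 F56142))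
theorem Q7804 : ∀ i, i < 7804 → P i := stepQ 7803 Q7803 (allL N7803 (tt N6918 F56143) (tt N6845 (iv D14261)) (tt N6985 F56144) (tt N6894 F56145) (tt N7032 F56146) (tt N6847 F56147) (tt N6919 F56148) (tt N6917 F56149) (tt N7803 F56150))
theorem Q7805 : ∀ i, i < 7805 → P i := stepQ 7804 Q7804 (allL N7804 (tt N8663 (iv F59599)) (tt N8086 (iv F57390)) (tt N8266 (iv F58141)) (tt N6848 (iv D14262)) (tt N8260 (iv F58117)) (tt N6849 F56151) (tt N8093 (iv F57428)) (tt N7804 F56152) (tt N6851 F56153))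
theorem Q7806 : ∀ i, i < 7806 → P i := stepQ 7805 Q7805 (allL N7805 (tt N8664 (iv F59603)) (tt N8080 (iv F57359)) (tt N7953 (iv F56842)) (tt N6850 (iv D14263)) (tt N8150 (iv F57701)) (tt N7954 (iv F56848)) (tt N6851 F56154) (tt N6853 F56155) (tt N8093 (iv F57430)))
theorem Q7807 : ∀ i, i < 7807 → P i := stepQ 7806 Q7806 (allL N7806 (tt N8665 (iv F59606)) (tt N7951 (iv F56828)) (tt N6851 (iv D14264)) (tt N7952 (iv F56836)) (tt N7949 F56820) (tt N6852 F56156) (tt N7953 (iv F56844)) (tt N6854 F56157) (tt N8266 (iv F58144)))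
theorem Q7808 : ∀ i, i < 7808 → P i := stepQ 7807 Q7807 (allL N7807 (tt N8666 (iv F59609)) (tt N8148 (iv F57691)) (tt N7949 (iv F56817)) (tt N7940 (iv F56766)) (tt N6851 (iv D14265)) (tt N7944 (iv F56791)) (tt N8150 (iv F57703)) (tt N6855 F56158) (tt N8260 (iv F58119)))
theorem Q7809 : ∀ i, i < 7809 → P i := stepQ 7808 Q7808 (allL N7808 (tt N8670 D15128) (tt N6852 (iv D14266)) (tt N8614 (iv F59453)) (tt N8087 (iv F57398)) (tt N8098 (iv F57448)) (tt N7951 F56833) (tt N8088 (iv F57405)) (tt N6856 F56159) (tt N8265 (iv F58140)))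
theorem Q7810 : ∀ i, i < 7810 → P i := stepQ 7809 Q7809 (allL N7809 (tt N6856 (iv D14267)) (tt N8669 (iv F59615)) (tt N8609 (iv F59441)) (tt N6897 F56160) (tt N8101 (iv F57464)) (tt N7930 F56711) (tt N8073 (iv F57327)) (tt N8670 (iv F59618)) (tt N7809 F56161))
theorem Q7811 : ∀ i, i < 7811 → P i := stepQ 7810 Q7810 (allL N7810 (tt N7810 F56162) (tt N8619 (iv F59465)) (tt N7688 F56163) (tt N7810 F56164) (tt N7687 F56165) (tt N8431 (iv F58703)) (tt N6858 (iv D14268)) (tt N7526 F56166) (tt N8671 D15129))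
theorem Q7812 : ∀ i, i < 7812 → P i := stepQ 7811 Q7811 (allL N7811 (tt N7811 F56167) (tt N8620 (iv F59469)) (tt N7576 F56168) (tt N7811 F56169) (tt N7575 F56170) (tt N6859 F56171) (tt N8671 (iv F59623)) (tt N8672 D15130) (tt N6858 (iv D14269)))
theorem Q7813 : ∀ i, i < 7813 → P i := stepQ 7812 Q7812 (allL N7812 (tt N7812 F56172) (tt N8621 (iv F59473)) (tt N8425 (iv F58676)) (tt N8673 D15131) (tt N6860 F56173) (tt N8672 (iv F59627)) (tt N8433 (iv F58713)) (tt N6859 (iv D14270)) (tt N7528 F56174))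
theorem Q7814 : ∀ i, i < 7814 → P i := stepQ 7813 Q7813 (allL N7813 (tt N7813 F56175) (tt N8643 (iv F59518)) (tt N8465 (iv F58845)) (tt N6874 F56176) (tt N6864 F56177) (tt N7567 F56178) (tt N8467 (iv F58861)) (tt N8674 D15132) (tt N6861 (iv D14271)))
theorem Q7815 : ∀ i, i < 7815 → P i := stepQ 7814 Q7814 (allL N7814 (tt N7814 F56179) (tt N8644 (iv F59522)) (tt N8466 (iv F58851)) (tt N6867 F56180) (tt N8467 (iv F58859)) (tt N8454 (iv F58798)) (tt N6864 F56181) (tt N8675 D15133) (tt N6862 (iv D14272)))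
theorem Q7816 : ∀ i, i < 7816 → P i := stepQ 7815 Q7815 (allL N7815 (tt N7815 F56182) (tt N8645 (iv F59525)) (tt N8467 (iv F58857)) (tt N7815 F56183) (tt N8466 (iv F58853)) (tt N6865 F56184) (tt N8465 (iv F58849)) (tt N8676 D15134) (tt N6863 (iv D14273)))
theorem Q7817 : ∀ i, i < 7817 → P i := stepQ 7816 Q7816 (allL N7816 (tt N7816 F56185) (tt N8646 (iv F59528)) (tt N8468 (iv F58863)) (tt N8677 D15135) (tt N8674 (iv F59633)) (tt N6866 F56186) (tt N8675 (iv F59636)) (tt N6864 (iv D14274)) (tt N8676 (iv F59639)))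
theorem Q7818 : ∀ i, i < 7818 → P i := stepQ 7817 Q7817 (allL N7817 (tt N7817 F56187) (tt N8647 (iv F59530)) (tt N8469 (iv F58866)) (tt N8678 D15136) (tt N7571 F56188) (tt N8676 (iv F59638)) (tt N8457 (iv F58811)) (tt N6865 (iv D14275)) (tt N6866 F56189))
theorem Q7819 : ∀ i, i < 7819 → P i := stepQ 7818 Q7818 (allL N7818 (tt N7818 F56190) (tt N8648 (iv F59533)) (tt N8679 D15137) (tt N6866 (iv D14276)) (tt N8680 D15138) (tt N8677 (iv F59641)) (tt N8458 (iv F58814)) (tt N6869 F56191) (tt N8678 (iv F59645)))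
theorem Q7820 : ∀ i, i < 7820 → P i := stepQ 7819 Q7819 (allL N7819 (tt N7819 F56192) (tt N8649 (iv F59535)) (tt N6871 F56193) (tt N8681 D15139) (tt N6880 F56194) (tt N8459 (iv F58819)) (tt N6868 F56195) (tt N6867 (iv D14277)) (tt N7819 F56196))
theorem Q7821 : ∀ i, i < 7821 → P i := stepQ 7820 Q7820 (allL N7820 (tt N7820 F56197) (tt N8650 (iv F59540)) (tt N8682 D15140) (tt N6868 (iv D14278)) (tt N8683 D15141) (tt N6869 F56198) (tt N8681 (iv F59652)) (tt N8677 (iv F59642)) (tt N7820 F56199))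
theorem Q7822 : ∀ i, i < 7822 → P i := stepQ 7821 Q7821 (allL N7821 (tt N7821 F56200) (tt N8684 D15142) (tt N6869 (iv D14279)) (tt N6873 F56201) (tt N8685 D15143) (tt N8682 (iv F59656)) (tt N8461 (iv F58827)) (tt N8679 (iv F59647)) (tt N7821 F56202))
theorem Q7823 : ∀ i, i < 7823 → P i := stepQ 7822 Q7822 (allL N7822 (tt N7822 F56203) (tt N8652 (iv F59545)) (tt N8685 (iv F59667)) (tt N6870 F56204) (tt N6869 (iv D14280)) (tt N8547 (iv F59216)) (tt N8462 (iv F58831)) (tt N8680 (iv F59650)) (tt N7822 F56205))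
theorem Q7824 : ∀ i, i < 7824 → P i := stepQ 7823 Q7823 (allL N7823 (tt N7823 F56206) (tt N6888 F56207) (tt N7833 (iv F56256)) (tt N6871 (iv D14281)) (tt N7832 F56254) (tt N7837 (iv F56275)) (tt N6872 F56208) (tt N7836 F56270) (tt N7823 F56209))
theorem Q7825 : ∀ i, i < 7825 → P i := stepQ 7824 Q7824 (allL N7824 (tt N7824 F56210) (tt N8686 D15144) (tt N6872 (iv D14282)) (tt N8682 (iv F59655)) (tt N7831 F56246) (tt N6873 F56211) (tt N7833 (iv F56257)) (tt N8475 (iv F58893)) (tt N7824 F56212))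
theorem Q7826 : ∀ i, i < 7826 → P i := stepQ 7825 Q7825 (allL N7825 (tt N7825 F56213) (tt N6890 F56214) (tt N7831 (iv F56242)) (tt N6886 F56215) (tt N6872 (iv D14283)) (tt N7825 F56216) (tt N7832 (iv F56251)) (tt N7839 F56290) (tt N7825 F56217))
theorem Q7827 : ∀ i, i < 7827 → P i := stepQ 7826 Q7826 (allL N7826 (tt N8687 D15145) (tt N6873 (iv D14284)) (tt N6891 F56218) (tt N8684 (iv F59664)) (tt N7826 F56219) (tt N8686 (iv F59672)) (tt N8464 (iv F58841)) (tt N8476 (iv F58898)) (tt N7826 F56220))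
theorem Q7828 : ∀ i, i < 7828 → P i := stepQ 7827 Q7827 (allL N7827 (tt N7827 F56221) (tt N8657 (iv F59559)) (tt N7827 F56222) (tt N8688 D15146) (tt N6877 F56223) (tt N7578 F56224) (tt N8552 (iv F59245)) (tt N6874 (iv D14285)) (tt N8551 (iv F59240)))
theorem Q7829 : ∀ i, i < 7829 → P i := stepQ 7828 Q7828 (allL N7828 (tt N7828 F56225) (tt N8658 (iv F59565)) (tt N7828 F56226) (tt N8689 D15147) (tt N8552 (iv F59243)) (tt N7828 F56227) (tt N6877 F56228) (tt N6875 (iv D14286)) (tt N8550 (iv F59232)))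
theorem Q7830 : ∀ i, i < 7830 → P i := stepQ 7829 Q7829 (allL N7829 (tt N7829 F56229) (tt N6948 F56230) (tt N7829 F56231) (tt N6903 (iv F56234)) (tt N8551 (iv F59237)) (tt N6878 F56232) (tt N8550 (iv F59231)) (tt N6876 (iv D14287)) (tt N6877 F56233))
theorem Q7831 : ∀ i, i < 7831 → P i := stepQ 7830 Q7830 (allL N7830 (tt N7830 F56235) (tt N6950 F56236) (tt N6905 (iv F56240)) (tt N6877 (iv D14288)) (tt N8544 (iv F59199)) (tt N6879 F56237) (tt N8689 (iv F59684)) (tt N6881 F56238) (tt N6903 F56239))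
theorem Q7832 : ∀ i, i < 7832 → P i := stepQ 7831 Q7831 (allL N7831 (tt N7831 F56241) (tt N8659 (iv F59572)) (tt N7825 F56242) (tt N6880 (iv D14289)) (tt N7824 (iv F56246)) (tt N7831 F56243) (tt N6881 F56244) (tt N8689 (iv F59685)) (tt N7831 F56245))
theorem Q7833 : ∀ i, i < 7833 → P i := stepQ 7832 Q7832 (allL N7832 (tt N7832 F56247) (tt N6910 F56248) (tt N6881 (iv D14290)) (tt N6885 F56249) (tt N7823 (iv F56254)) (tt N6882 F56250) (tt N7825 F56251) (tt N6905 F56252) (tt N7832 F56253))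
theorem Q7834 : ∀ i, i < 7834 → P i := stepQ 7833 Q7833 (allL N7833 (tt N7833 F56255) (tt N8660 (iv F59579)) (tt N7823 F56256) (tt N8683 (iv F59661)) (tt N6881 (iv D14291)) (tt N8545 (iv F59207)) (tt N7824 F56257) (tt N8544 F59202) (tt N7833 F56258))
theorem Q7835 : ∀ i, i < 7835 → P i := stepQ 7834 Q7834 (allL N7834 (tt N8034 (iv F57140)) (tt N6889 (iv D14292)) (tt N8686 (iv F59670)) (tt N8668 (iv F59612)) (tt N7888 (iv F56497)) (tt N6891 F56259) (tt N7883 (iv F56479)) (tt N7882 F56474) (tt N7834 F56260))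
theorem Q7836 : ∀ i, i < 7836 → P i := stepQ 7835 Q7835 (allL N7835 (tt N6891 (iv D14293)) (tt N6897 F56261) (tt N8687 (iv F59676)) (tt N8669 (iv F59616)) (tt N7835 F56262) (tt N8034 (iv F57143)) (tt N8022 (iv F57107)) (tt N8021 F57102) (tt N7835 F56263))
theorem Q7837 : ∀ i, i < 7837 → P i := stepQ 7836 Q7836 (allL N7836 (tt N7836 F56264) (tt N6907 F56265) (tt N8544 (iv F59198)) (tt N7564 F56266) (tt N6905 F56267) (tt N6901 F56268) (tt N7565 F56269) (tt N7823 (iv F56270)) (tt N6900 (iv D14294)))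
theorem Q7838 : ∀ i, i < 7838 → P i := stepQ 7837 Q7837 (allL N7837 (tt N7837 F56271) (tt N6908 F56272) (tt N8545 (iv F59205)) (tt N7551 F56273) (tt N6902 F56274) (tt N7823 F56275) (tt N7552 F56276) (tt N6901 (iv D14295)) (tt N7837 F56277))
theorem Q7839 : ∀ i, i < 7839 → P i := stepQ 7838 Q7838 (allL N7838 (tt N7838 F56278) (tt N6949 F56279) (tt N6904 F56280) (tt N8550 F59233) (tt N7689 F56281) (tt N7838 F56282) (tt N6903 (iv D14296)) (tt N7838 F56283) (tt N8689 (iv F59686)))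
theorem Q7840 : ∀ i, i < 7840 → P i := stepQ 7839 Q7839 (allL N7839 (tt N7839 F56284) (tt N6909 F56285) (tt N8689 F59687) (tt N7839 F56286) (tt N7565 F56287) (tt N7839 F56288) (tt N6905 F56289) (tt N7825 (iv F56290)) (tt N6904 (iv D14297)))
theorem Q7841 : ∀ i, i < 7841 → P i := stepQ 7840 Q7840 (allL N7840 (tt N6913 F56291) (tt N6915 F56292) (tt N8121 (iv F57555)) (tt N7296 F56293) (tt N6993 F56294) (tt N7840 F56295) (tt N7297 F56296) (tt N8661 (iv F59590)) (tt N6912 (iv D14298)))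
theorem Q7842 : ∀ i, i < 7842 → P i := stepQ 7841 Q7841 (allL N7841 (tt N8661 (iv F59584)) (tt N6914 F56297) (tt N8122 (iv F57563)) (tt N7094 F56298) (tt N6994 F56299) (tt N7841 F56300) (tt N7095 F56301) (tt N6913 (iv D14299)) (tt N7841 F56302))
theorem Q7843 : ∀ i, i < 7843 → P i := stepQ 7842 Q7842 (allL N7842 (tt N6916 F56303) (tt N8661 (iv F59585)) (tt N6919 F56304) (tt N6984 F56305) (tt N7029 F56306) (tt N7842 F56307) (tt N6985 F56308) (tt N6915 (iv D14300)) (tt N7842 F56309))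
theorem Q7844 : ∀ i, i < 7844 → P i := stepQ 7843 Q7843 (allL N7843 (tt N7037 F56310) (tt N8690 D15148) (tt N6920 (iv D14301)) (tt N6925 F56311) (tt N8691 D15149) (tt N7243 F56312) (tt N8280 (iv F58192)) (tt N8123 (iv F57574)) (tt N8692 D15150))
theorem Q7845 : ∀ i, i < 7845 → P i := stepQ 7844 Q7844 (allL N7844 (tt N7038 F56313) (tt N7844 F56314) (tt N8691 (iv F59693)) (tt N7844 F56315) (tt N6920 (iv D14302)) (tt N8693 D15151) (tt N7079 F56316) (tt N7071 F56317) (tt N8694 D15152))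
theorem Q7846 : ∀ i, i < 7846 → P i := stepQ 7845 Q7845 (allL N7845 (tt N7039 F56318) (tt N7845 F56319) (tt N8692 (iv F59697)) (tt N6921 F56320) (tt N8694 (iv F59708)) (tt N7245 F56321) (tt N8289 (iv F58222)) (tt N8695 D15153) (tt N6920 (iv D14303)))
theorem Q7847 : ∀ i, i < 7847 → P i := stepQ 7846 Q7846 (allL N7846 (tt N7041 F56322) (tt N6953 F56323) (tt N8696 D15154) (tt N6922 (iv D14304)) (tt N7223 F56324) (tt N6923 F56325) (tt N7246 F56326) (tt N6928 F56327) (tt N8697 D15155))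
theorem Q7848 : ∀ i, i < 7848 → P i := stepQ 7847 Q7847 (allL N7847 (tt N7042 F56328) (tt N6954 F56329) (tt N8518 (iv F59101)) (tt N8697 (iv F59722)) (tt N7385 F56330) (tt N6924 F56331) (tt N7247 F56332) (tt N7194 F56333) (tt N6922 (iv D14305)))
theorem Q7849 : ∀ i, i < 7849 → P i := stepQ 7848 Q7848 (allL N7848 (tt N7043 F56334) (tt N8698 D15156) (tt N6923 (iv D14306)) (tt N8280 (iv F58190)) (tt N8699 D15157) (tt N8696 (iv F59717)) (tt N6925 F56335) (tt N6930 F56336) (tt N8700 D15158))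
theorem Q7850 : ∀ i, i < 7850 → P i := stepQ 7849 Q7849 (allL N7849 (tt N7044 F56337) (tt N6956 F56338) (tt N8699 (iv F59734)) (tt N7849 F56339) (tt N6923 (iv D14307)) (tt N7311 F56340) (tt N6926 F56341) (tt N6931 F56342) (tt N8701 D15159))
theorem Q7851 : ∀ i, i < 7851 → P i := stepQ 7850 Q7850 (allL N7850 (tt N7045 F56343) (tt N6957 F56344) (tt N8700 (iv F59739)) (tt N6924 F56345) (tt N8701 (iv F59744)) (tt N8697 (iv F59724)) (tt N6927 F56346) (tt N8702 D15160) (tt N6923 (iv D14308)))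
theorem Q7852 : ∀ i, i < 7852 → P i := stepQ 7851 Q7851 (allL N7851 (tt N8703 D15161) (tt N6925 (iv D14309)) (tt N6958 F56347) (tt N8690 (iv F59690)) (tt N8704 D15162) (tt N7250 F56348) (tt N8698 (iv F59729)) (tt N6933 F56349) (tt N8705 D15163))
theorem Q7853 : ∀ i, i < 7853 → P i := stepQ 7852 Q7852 (allL N7852 (tt N7047 F56350) (tt N8704 (iv F59759)) (tt N6926 F56351) (tt N8706 D15164) (tt N6925 (iv D14310)) (tt N8707 D15165) (tt N8699 (iv F59736)) (tt N6934 F56352) (tt N8708 D15166))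
theorem Q7854 : ∀ i, i < 7854 → P i := stepQ 7853 Q7853 (allL N7853 (tt N7048 F56353) (tt N8705 (iv F59764)) (tt N6927 F56354) (tt N8692 (iv F59698)) (tt N8708 (iv F59777)) (tt N7252 F56355) (tt N8700 (iv F59740)) (tt N8709 D15167) (tt N6925 (iv D14311)))
theorem Q7855 : ∀ i, i < 7855 → P i := stepQ 7854 Q7854 (allL N7854 (tt N7049 F56356) (tt N6961 F56357) (tt N8707 (iv F59771)) (tt N7854 F56358) (tt N7253 F56359) (tt N6926 (iv D14312)) (tt N7319 F56360) (tt N6936 F56361) (tt N8710 D15168))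
theorem Q7856 : ∀ i, i < 7856 → P i := stepQ 7855 Q7855 (allL N7855 (tt N7050 F56362) (tt N6962 F56363) (tt N8708 (iv F59776)) (tt N7855 F56364) (tt N6927 F56365) (tt N8710 (iv F59786)) (tt N8701 (iv F59746)) (tt N8711 D15169) (tt N6926 (iv D14313)))
theorem Q7857 : ∀ i, i < 7857 → P i := stepQ 7856 Q7856 (allL N7856 (tt N7051 F56366) (tt N6963 F56367) (tt N8709 (iv F59779)) (tt N7703 F56368) (tt N8711 (iv F59790)) (tt N7255 F56369) (tt N8702 (iv F59750)) (tt N6927 (iv D14314)) (tt N6938 F56370))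
theorem Q7858 : ∀ i, i < 7858 → P i := stepQ 7857 Q7857 (allL N7857 (tt N7052 F56371) (tt N8712 D15170) (tt N6928 (iv D14315)) (tt N7990 (iv F56991)) (tt N8713 D15171) (tt N6930 F56372) (tt N7256 F56373) (tt N8696 (iv F59719)) (tt N8714 D15172))
theorem Q7859 : ∀ i, i < 7859 → P i := stepQ 7858 Q7858 (allL N7858 (tt N7053 F56374) (tt N6965 F56375) (tt N8713 (iv F59800)) (tt N7858 F56376) (tt N6928 (iv D14316)) (tt N7299 F56377) (tt N7257 F56378) (tt N7223 F56379) (tt N8715 D15173))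
theorem Q7860 : ∀ i, i < 7860 → P i := stepQ 7859 Q7859 (allL N7859 (tt N7054 F56380) (tt N6966 F56381) (tt N8714 (iv F59805)) (tt N6929 F56382) (tt N8715 (iv F59811)) (tt N6932 F56383) (tt N7258 F56384) (tt N8716 D15174) (tt N6928 (iv D14317)))
theorem Q7861 : ∀ i, i < 7861 → P i := stepQ 7860 Q7860 (allL N7860 (tt N8717 D15175) (tt N6930 (iv D14318)) (tt N6967 F56385) (tt N8127 (iv F57594)) (tt N7667 (iv F56387)) (tt N8712 (iv F59794)) (tt N6933 F56386) (tt N8698 (iv F59730)) (tt N8718 D15176))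
theorem Q7862 : ∀ i, i < 7862 → P i := stepQ 7861 Q7861 (allL N7861 (tt N7056 F56388) (tt N7667 F56389) (tt N6931 F56390) (tt N8268 (iv F58151)) (tt N6930 (iv D14319)) (tt N7668 (iv F56392)) (tt N6934 F56391) (tt N8699 (iv F59737)) (tt N8719 D15177))
theorem Q7863 : ∀ i, i < 7863 → P i := stepQ 7862 Q7862 (allL N7862 (tt N7057 F56393) (tt N8718 (iv F59826)) (tt N6932 F56394) (tt N8128 (iv F57600)) (tt N8719 (iv F59833)) (tt N8714 (iv F59806)) (tt N6935 F56395) (tt N8720 D15178) (tt N6930 (iv D14320)))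
theorem Q7864 : ∀ i, i < 7864 → P i := stepQ 7863 Q7863 (allL N7863 (tt N7059 F56396) (tt N6969 F56397) (tt N8719 (iv F59832)) (tt N6939 F56398) (tt N6932 F56399) (tt N7498 F56400) (tt N6937 F56401) (tt N8721 D15179) (tt N6931 (iv D14321)))
theorem Q7865 : ∀ i, i < 7865 → P i := stepQ 7864 Q7864 (allL N7864 (tt N7060 F56402) (tt N6970 F56403) (tt N8720 (iv F59837)) (tt N7487 F56404) (tt N8721 (iv F59841)) (tt N8716 (iv F59817)) (tt N6938 F56405) (tt N6932 (iv D14322)) (tt N8702 (iv F59751)))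
theorem Q7866 : ∀ i, i < 7866 → P i := stepQ 7865 Q7865 (allL N7865 (tt N6933 (iv D14323)) (tt N7061 F56406) (tt N6971 F56407) (tt N8130 (iv F57611)) (tt N8722 D15180) (tt N7265 F56408) (tt N8717 (iv F59824)) (tt N8703 (iv F59756)) (tt N8723 D15181))
theorem Q7867 : ∀ i, i < 7867 → P i := stepQ 7866 Q7866 (allL N7866 (tt N8722 (iv F59844)) (tt N6934 F56409) (tt N6972 F56410) (tt N8724 D15182) (tt N6933 (iv D14324)) (tt N8725 D15183) (tt N7667 F56411) (tt N8704 (iv F59762)) (tt N8726 D15184))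
theorem Q7868 : ∀ i, i < 7868 → P i := stepQ 7867 Q7867 (allL N7867 (tt N8723 (iv F59850)) (tt N6935 F56412) (tt N6973 F56413) (tt N8131 (iv F57615)) (tt N8726 (iv F59865)) (tt N7267 F56414) (tt N8718 (iv F59829)) (tt N8727 D15185) (tt N6933 (iv D14325)))
theorem Q7869 : ∀ i, i < 7869 → P i := stepQ 7868 Q7868 (allL N7868 (tt N7064 F56415) (tt N8724 (iv F59854)) (tt N6941 F56416) (tt N6934 (iv D14326)) (tt N8132 (iv F57619)) (tt N8728 D15186) (tt N8268 (iv F58152)) (tt N8729 D15187) (tt N8730 D15188))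
theorem Q7870 : ∀ i, i < 7870 → P i := stepQ 7869 Q7869 (allL N7869 (tt N7065 F56417) (tt N8725 (iv F59858)) (tt N6936 F56418) (tt N8728 (iv F59872)) (tt N7269 F56419) (tt N6934 (iv D14327)) (tt N8731 D15189) (tt N8707 (iv F59774)) (tt N8732 D15190))
theorem Q7871 : ∀ i, i < 7871 → P i := stepQ 7870 Q7870 (allL N7870 (tt N7066 F56420) (tt N8726 (iv F59863)) (tt N6937 F56421) (tt N8730 (iv F59879)) (tt N6935 F56422) (tt N8732 (iv F59889)) (tt N8719 (iv F59835)) (tt N8733 D15191) (tt N6934 (iv D14328)))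
theorem Q7872 : ∀ i, i < 7872 → P i := stepQ 7871 Q7871 (allL N7871 (tt N7067 F56423) (tt N8727 (iv F59867)) (tt N6938 F56424) (tt N8734 D15192) (tt N8733 (iv F59892)) (tt N7271 F56425) (tt N8720 (iv F59838)) (tt N6935 (iv D14329)) (tt N8709 (iv F59781)))
theorem Q7873 : ∀ i, i < 7873 → P i := stepQ 7872 Q7872 (allL N7872 (tt N7068 F56426) (tt N6977 F56427) (tt N8731 (iv F59882)) (tt N6945 F56428) (tt N7272 F56429) (tt N7303 F56430) (tt N6936 (iv D14330)) (tt N7319 F56431) (tt N8735 D15193))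
theorem Q7874 : ∀ i, i < 7874 → P i := stepQ 7873 Q7873 (allL N7873 (tt N7069 F56432) (tt N6978 F56433) (tt N8732 (iv F59887)) (tt N6946 F56434) (tt N7273 F56435) (tt N6937 F56436) (tt N8735 (iv F59901)) (tt N8736 D15194) (tt N6936 (iv D14331)))
theorem Q7875 : ∀ i, i < 7875 → P i := stepQ 7874 Q7874 (allL N7874 (tt N7070 F56437) (tt N6979 F56438) (tt N8733 (iv F59891)) (tt N8737 D15195) (tt N6938 F56439) (tt N8736 (iv F59905)) (tt N8721 (iv F59843)) (tt N6937 (iv D14332)) (tt N8711 (iv F59791)))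
theorem Q7876 : ∀ i, i < 7876 → P i := stepQ 7875 Q7875 (allL N7875 (tt N7077 F56440) (tt N6980 F56441) (tt N8517 (iv F59094)) (tt N8738 D15196) (tt N6940 F56442) (tt N7592 F56443) (tt N6947 F56444) (tt N6939 (iv D14333)) (tt N7875 F56445))
theorem Q7877 : ∀ i, i < 7877 → P i := stepQ 7876 Q7876 (allL N7876 (tt N7078 F56446) (tt N8420 (iv F58656)) (tt N8728 (iv F59871)) (tt N6942 F56447) (tt N8739 D15197) (tt N6941 (iv D14334)) (tt N8740 D15198) (tt N8741 D15199) (tt N8742 D15200))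
theorem Q7878 : ∀ i, i < 7878 → P i := stepQ 7877 Q7877 (allL N7877 (tt N7079 F56448) (tt N7174 F56449) (tt N8729 (iv F59874)) (tt N7877 F56450) (tt N7035 F56451) (tt N8741 (iv F59925)) (tt N7038 F56452) (tt N6941 (iv D14335)) (tt N8743 D15201))
theorem Q7879 : ∀ i, i < 7879 → P i := stepQ 7878 Q7878 (allL N7878 (tt N7080 F56453) (tt N8421 (iv F58660)) (tt N8730 (iv F59878)) (tt N6943 F56454) (tt N8136 (iv F57638)) (tt N8742 (iv F59928)) (tt N8270 (iv F58161)) (tt N8744 D15202) (tt N6941 (iv D14336)))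
theorem Q7880 : ∀ i, i < 7880 → P i := stepQ 7879 Q7879 (allL N7879 (tt N7081 F56455) (tt N7689 F56456) (tt N6945 F56457) (tt N8740 (iv F59920)) (tt N6949 F56458) (tt N7690 F56459) (tt N6942 (iv D14337)) (tt N7879 F56460) (tt N8745 D15203))
theorem Q7881 : ∀ i, i < 7881 → P i := stepQ 7880 Q7880 (allL N7880 (tt N7082 F56461) (tt N8544 (iv F59197)) (tt N6946 F56462) (tt N8742 (iv F59927)) (tt N6950 F56463) (tt N6943 F56464) (tt N8745 (iv F59940)) (tt N8660 (iv F59582)) (tt N6942 (iv D14338)))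
theorem Q7882 : ∀ i, i < 7882 → P i := stepQ 7881 Q7881 (allL N7881 (tt N7083 F56465) (tt N8545 (iv F59204)) (tt N6947 F56466) (tt N8746 D15204) (tt N6944 F56467) (tt N8660 (iv F59581)) (tt N8517 (iv F59097)) (tt N6943 (iv D14339)) (tt N7881 F56468))
theorem Q7883 : ∀ i, i < 7883 → P i := stepQ 7882 Q7882 (allL N7882 (tt N7085 F56469) (tt N6981 F56470) (tt N8745 (iv F59937)) (tt N8735 (iv F59898)) (tt N6951 F56471) (tt N7593 F56472) (tt N6946 F56473) (tt N7834 (iv F56474)) (tt N6945 (iv D14340)))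
theorem Q7884 : ∀ i, i < 7884 → P i := stepQ 7883 Q7883 (allL N7883 (tt N7086 F56475) (tt N6982 F56476) (tt N8660 (iv F59580)) (tt N8747 D15205) (tt N6952 F56477) (tt N6947 F56478) (tt N7834 F56479) (tt N6946 (iv D14341)) (tt N7883 F56480))
theorem Q7885 : ∀ i, i < 7885 → P i := stepQ 7884 Q7884 (allL N7884 (tt N7087 F56481) (tt N6983 F56482) (tt N8748 D15206) (tt N6947 (iv D14342)) (tt N7721 F56483) (tt N8747 (iv F59946)) (tt N8738 (iv F59914)) (tt N8737 (iv F59909)) (tt N7884 F56484))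
theorem Q7886 : ∀ i, i < 7886 → P i := stepQ 7885 Q7885 (allL N7885 (tt N7088 F56485) (tt N8551 (iv F59235)) (tt N7290 F56486) (tt N8739 (iv F59917)) (tt N6948 (iv D14343)) (tt N8137 (iv F57643)) (tt N8505 (iv F59027)) (tt N8504 F59021) (tt N8657 (iv F59563)))
theorem Q7887 : ∀ i, i < 7887 → P i := stepQ 7886 Q7886 (allL N7886 (tt N7089 F56487) (tt N8550 (iv F59227)) (tt N7291 F56488) (tt N6949 F56489) (tt N8505 (iv F59025)) (tt N7886 F56490) (tt N6948 (iv D14344)) (tt N8503 F59012) (tt N8658 (iv F59569)))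
theorem Q7888 : ∀ i, i < 7888 → P i := stepQ 7887 Q7887 (allL N7887 (tt N7092 F56491) (tt N8689 (iv F59682)) (tt N6951 F56492) (tt N8658 F59570) (tt N8745 (iv F59938)) (tt N7887 F56493) (tt N6950 F56494) (tt N8659 (iv F59575)) (tt N6949 (iv D14345)))
theorem Q7889 : ∀ i, i < 7889 → P i := stepQ 7888 Q7888 (allL N7888 (tt N7094 F56495) (tt N6984 F56496) (tt N8659 F59577) (tt N8661 (iv F59586)) (tt N7834 F56497) (tt N7888 F56498) (tt N6952 F56499) (tt N6951 (iv D14346)) (tt N7888 F56500))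
theorem Q7890 : ∀ i, i < 7890 → P i := stepQ 7889 Q7889 (allL N7889 (tt N6996 F56501) (tt N8697 (iv F59721)) (tt N7309 F56502) (tt N6954 F56503) (tt N7233 F56504) (tt N6957 F56505) (tt N7298 F56506) (tt N8749 D15207) (tt N6953 (iv D14347)))
theorem Q7891 : ∀ i, i < 7891 → P i := stepQ 7890 Q7890 (allL N7890 (tt N7389 F56507) (tt N6955 (iv D14348)) (tt N8698 (iv F59727)) (tt N7890 F56508) (tt N7262 F56509) (tt N7257 F56510) (tt N6958 F56511) (tt N6967 F56512) (tt N8750 D15208))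
theorem Q7892 : ∀ i, i < 7892 → P i := stepQ 7891 Q7891 (allL N7891 (tt N6997 F56513) (tt N8750 (iv F59960)) (tt N6957 F56514) (tt N7891 F56515) (tt N7315 F56516) (tt N7309 F56517) (tt N6960 F56518) (tt N8751 D15209) (tt N6955 (iv D14349)))
theorem Q7893 : ∀ i, i < 7893 → P i := stepQ 7892 Q7892 (allL N7892 (tt N6998 F56519) (tt N8701 (iv F59742)) (tt N7315 F56520) (tt N7892 F56521) (tt N6957 F56522) (tt N7313 F56523) (tt N6962 F56524) (tt N8752 D15210) (tt N6956 (iv D14350)))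
theorem Q7894 : ∀ i, i < 7894 → P i := stepQ 7893 Q7893 (allL N7893 (tt N6999 F56525) (tt N8702 (iv F59748)) (tt N8751 (iv F59966)) (tt N7500 F56526) (tt N8752 (iv F59973)) (tt N8749 (iv F59956)) (tt N6963 F56527) (tt N6957 (iv D14351)) (tt N6970 F56528))
theorem Q7895 : ∀ i, i < 7895 → P i := stepQ 7894 Q7894 (allL N7894 (tt N6958 (iv D14352)) (tt N7000 F56529) (tt N8703 (iv F59753)) (tt N7894 F56530) (tt N7426 (iv F56534)) (tt N7302 F56531) (tt N7389 F56532) (tt N6971 F56533) (tt N8753 D15211))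
theorem Q7896 : ∀ i, i < 7896 → P i := stepQ 7895 Q7895 (allL N7895 (tt N7426 F56535) (tt N6959 F56536) (tt N8704 (iv F59760)) (tt N7278 (iv F56540)) (tt N6958 (iv D14353)) (tt N7272 F56537) (tt N7262 F56538) (tt N6972 F56539) (tt N8754 D15212))
theorem Q7897 : ∀ i, i < 7897 → P i := stepQ 7896 Q7896 (allL N7896 (tt N8753 (iv F59977)) (tt N6960 F56541) (tt N8705 (iv F59765)) (tt N7896 F56542) (tt N8754 (iv F59986)) (tt N7304 F56543) (tt N8750 (iv F59964)) (tt N8755 D15213) (tt N6958 (iv D14354)))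
theorem Q7898 : ∀ i, i < 7898 → P i := stepQ 7897 Q7897 (allL N7897 (tt N7002 F56544) (tt N8754 (iv F59984)) (tt N6962 F56545) (tt N7328 F56546) (tt N6960 F56547) (tt N7325 F56548) (tt N7315 F56549) (tt N8756 D15214) (tt N6959 (iv D14355)))
theorem Q7899 : ∀ i, i < 7899 → P i := stepQ 7898 Q7898 (allL N7898 (tt N7003 F56550) (tt N8755 (iv F59989)) (tt N6963 F56551) (tt N8757 D15215) (tt N8756 (iv F59995)) (tt N7306 F56552) (tt N8751 (iv F59969)) (tt N6960 (iv D14356)) (tt N6976 F56553))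
theorem Q7900 : ∀ i, i < 7900 → P i := stepQ 7899 Q7899 (allL N7899 (tt N7004 F56554) (tt N8710 (iv F59783)) (tt N7325 F56555) (tt N7899 F56556) (tt N7307 F56557) (tt N6962 F56558) (tt N7322 F56559) (tt N8758 D15216) (tt N6961 (iv D14357)))
theorem Q7901 : ∀ i, i < 7901 → P i := stepQ 7900 Q7900 (allL N7900 (tt N7005 F56560) (tt N8711 (iv F59789)) (tt N8756 (iv F59993)) (tt N8759 D15217) (tt N6963 F56561) (tt N8758 (iv F60007)) (tt N8752 (iv F59975)) (tt N6962 (iv D14358)) (tt N6979 F56562))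
theorem Q7902 : ∀ i, i < 7902 → P i := stepQ 7901 Q7901 (allL N7901 (tt N7220 F56563) (tt N6964 (iv D14359)) (tt N8712 (iv F59793)) (tt N6986 F56564) (tt N7246 F56565) (tt N6967 F56566) (tt N7223 F56567) (tt N7257 F56568) (tt N8760 D15218))
theorem Q7903 : ∀ i, i < 7903 → P i := stepQ 7902 Q7902 (allL N7902 (tt N7006 F56569) (tt N8760 (iv F60015)) (tt N6966 F56570) (tt N6987 F56571) (tt N7298 F56572) (tt N6968 F56573) (tt N7233 F56574) (tt N8761 D15219) (tt N6964 (iv D14360)))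
theorem Q7904 : ∀ i, i < 7904 → P i := stepQ 7903 Q7903 (allL N7903 (tt N7007 F56575) (tt N8715 (iv F59809)) (tt N7298 F56576) (tt N7903 F56577) (tt N6966 F56578) (tt N7300 F56579) (tt N7309 F56580) (tt N8762 D15220) (tt N6965 (iv D14361)))
theorem Q7905 : ∀ i, i < 7905 → P i := stepQ 7904 Q7904 (allL N7904 (tt N7008 F56581) (tt N8716 (iv F59815)) (tt N8761 (iv F60021)) (tt N7158 F56582) (tt N8762 (iv F60029)) (tt N6970 F56583) (tt N7310 F56584) (tt N6966 (iv D14362)) (tt N8749 (iv F59958)))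
theorem Q7906 : ∀ i, i < 7906 → P i := stepQ 7905 Q7905 (allL N7905 (tt N6967 (iv D14363)) (tt N7009 F56585) (tt N8717 (iv F59820)) (tt N6990 F56586) (tt N7410 F56587) (tt N7220 F56588) (tt N6971 F56589) (tt N7389 F56590) (tt N8763 D15221))
theorem Q7907 : ∀ i, i < 7907 → P i := stepQ 7906 Q7906 (allL N7906 (tt N8763 (iv F60033)) (tt N6968 F56591) (tt N8718 (iv F59827)) (tt N6991 F56592) (tt N7465 F56593) (tt N8760 (iv F60018)) (tt N6973 F56594) (tt N8764 D15222) (tt N6967 (iv D14364)))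
theorem Q7908 : ∀ i, i < 7908 → P i := stepQ 7907 Q7907 (allL N7907 (tt N7011 F56595) (tt N8764 (iv F60039)) (tt N6970 F56596) (tt N8765 D15223) (tt N7495 F56597) (tt N8761 (iv F60024)) (tt N6976 F56598) (tt N6968 (iv D14365)) (tt N8751 (iv F59970)))
theorem Q7909 : ∀ i, i < 7909 → P i := stepQ 7908 Q7908 (allL N7908 (tt N7012 F56599) (tt N8721 (iv F59840)) (tt N7495 F56600) (tt N8766 D15224) (tt N6970 F56601) (tt N7496 F56602) (tt N6979 F56603) (tt N6969 (iv D14366)) (tt N8752 (iv F59976)))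
theorem Q7910 : ∀ i, i < 7910 → P i := stepQ 7909 Q7909 (allL N7909 (tt N6972 F56604) (tt N7013 F56605) (tt N8722 (iv F59846)) (tt N7625 F56606) (tt N6971 (iv D14367)) (tt N7419 (iv F56609)) (tt N7410 F56607) (tt N7426 F56608) (tt N8767 D15225))
theorem Q7911 : ∀ i, i < 7911 → P i := stepQ 7910 Q7910 (allL N7910 (tt N6973 F56610) (tt N7014 F56611) (tt N8723 (iv F59852)) (tt N6993 F56612) (tt N8767 (iv F60057)) (tt N7318 F56613) (tt N8763 (iv F60038)) (tt N8768 D15226) (tt N6971 (iv D14368)))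
theorem Q7912 : ∀ i, i < 7912 → P i := stepQ 7911 Q7911 (allL N7911 (tt N7419 F56614) (tt N6974 F56615) (tt N8725 (iv F59859)) (tt N7608 F56616) (tt N7319 F56617) (tt N6972 (iv D14369)) (tt N7253 F56618) (tt N7272 F56619) (tt N8769 D15227))
theorem Q7913 : ∀ i, i < 7913 → P i := stepQ 7912 Q7912 (allL N7912 (tt N8767 (iv F60054)) (tt N6975 F56620) (tt N8726 (iv F59864)) (tt N7464 F56621) (tt N6973 F56622) (tt N8769 (iv F60067)) (tt N7465 F56623) (tt N8770 D15228) (tt N6972 (iv D14370)))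
theorem Q7914 : ∀ i, i < 7914 → P i := stepQ 7913 Q7913 (allL N7913 (tt N8768 (iv F60060)) (tt N6976 F56624) (tt N8727 (iv F59868)) (tt N8771 D15229) (tt N8770 (iv F60071)) (tt N7321 F56625) (tt N8764 (iv F60041)) (tt N6973 (iv D14371)) (tt N8755 (iv F59991)))
theorem Q7915 : ∀ i, i < 7915 → P i := stepQ 7914 Q7914 (allL N7914 (tt N7017 F56626) (tt N8769 (iv F60064)) (tt N6978 F56627) (tt N7497 F56628) (tt N7322 F56629) (tt N6975 F56630) (tt N7307 F56631) (tt N8772 D15230) (tt N6974 (iv D14372)))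
theorem Q7916 : ∀ i, i < 7916 → P i := stepQ 7915 Q7915 (allL N7915 (tt N7018 F56632) (tt N8770 (iv F60069)) (tt N6979 F56633) (tt N7494 F56634) (tt N6976 F56635) (tt N8772 (iv F60080)) (tt N7495 F56636) (tt N6975 (iv D14373)) (tt N8756 (iv F59998)))
theorem Q7917 : ∀ i, i < 7917 → P i := stepQ 7916 Q7916 (allL N7916 (tt N7019 F56637) (tt N8771 (iv F60073)) (tt N7736 F56638) (tt N6976 (iv D14374)) (tt N8773 D15231) (tt N7324 F56639) (tt N8765 (iv F60046)) (tt N6995 F56640) (tt N8757 (iv F60003)))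
theorem Q7918 : ∀ i, i < 7918 → P i := stepQ 7917 Q7917 (allL N7917 (tt N7020 F56641) (tt N8735 (iv F59897)) (tt N7307 F56642) (tt N6981 F56643) (tt N7325 F56644) (tt N7305 F56645) (tt N6978 F56646) (tt N8774 D15232) (tt N6977 (iv D14375)))
theorem Q7919 : ∀ i, i < 7919 → P i := stepQ 7918 Q7918 (allL N7918 (tt N7021 F56647) (tt N8736 (iv F59903)) (tt N8772 (iv F60077)) (tt N8775 D15233) (tt N7326 F56648) (tt N6979 F56649) (tt N8774 (iv F60094)) (tt N6978 (iv D14376)) (tt N8758 (iv F60009)))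
theorem Q7920 : ∀ i, i < 7920 → P i := stepQ 7919 Q7919 (allL N7919 (tt N7022 F56650) (tt N8737 (iv F59907)) (tt N8776 D15234) (tt N6979 (iv D14377)) (tt N7738 F56651) (tt N8775 (iv F60098)) (tt N8766 (iv F60052)) (tt N6983 F56652) (tt N8759 (iv F60013)))
theorem Q7921 : ∀ i, i < 7921 → P i := stepQ 7920 Q7920 (allL N7920 (tt N7023 F56653) (tt N8738 (iv F59911)) (tt N7590 F56654) (tt N6980 (iv D14378)) (tt N7596 F56655) (tt N7591 F56656) (tt N6983 F56657) (tt N8766 (iv F60053)) (tt N7920 F56658))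
theorem Q7922 : ∀ i, i < 7922 → P i := stepQ 7921 Q7921 (allL N7921 (tt N7024 F56659) (tt N8747 (iv F59945)) (tt N7799 F56660) (tt N6982 (iv D14379)) (tt N8777 D15235) (tt N6983 F56661) (tt N7800 F56662) (tt N8775 (iv F60100)) (tt N7921 F56663))
theorem Q7923 : ∀ i, i < 7923 → P i := stepQ 7922 Q7922 (allL N7922 (tt N7025 F56664) (tt N8778 D15236) (tt N6983 (iv D14380)) (tt N7589 F56665) (tt N7741 F56666) (tt N7799 F56667) (tt N7590 F56668) (tt N8776 (iv F60106)) (tt N7922 F56669))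
theorem Q7924 : ∀ i, i < 7924 → P i := stepQ 7923 Q7923 (allL N7923 (tt N7026 F56670) (tt N8662 (iv F59593)) (tt N7032 F56671) (tt N8777 (iv F60109)) (tt N6985 (iv D14381)) (tt N7228 F56672) (tt N7029 F56673) (tt N7027 F56674) (tt N7923 F56675))
theorem Q7925 : ∀ i, i < 7925 → P i := stepQ 7924 Q7924 (allL N7924 (tt N7227 F56676) (tt N6987 F56677) (tt N7925 (iv F56684)) (tt N8760 (iv F60016)) (tt N7386 F56678) (tt N6991 F56679) (tt N7229 F56680) (tt N7793 (iv F56681)) (tt N6986 (iv D14382)))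
theorem Q7926 : ∀ i, i < 7926 → P i := stepQ 7925 Q7925 (allL N7925 (tt N6991 F56682) (tt N7027 F56683) (tt N7924 F56684) (tt N8763 (iv F60035)) (tt N7297 F56685) (tt N7227 F56686) (tt N6993 F56687) (tt N8662 (iv F59597)) (tt N6990 (iv D14383)))
theorem Q7927 : ∀ i, i < 7927 → P i := stepQ 7926 Q7926 (allL N7926 (tt N8662 (iv F59592)) (tt N6992 F56688) (tt N8143 (iv F57667)) (tt N8779 D15237) (tt N7095 F56689) (tt N7793 F56690) (tt N6994 F56691) (tt N6991 (iv D14384)) (tt N7926 F56692))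
theorem Q7928 : ∀ i, i < 7928 → P i := stepQ 7927 Q7927 (allL N7927 (tt N7028 F56693) (tt N8779 (iv F60118)) (tt N7357 F56694) (tt N6992 (iv D14385)) (tt N7136 F56695) (tt N7801 F56696) (tt N6995 F56697) (tt N8765 (iv F60047)) (tt N7927 F56698))
theorem Q7929 : ∀ i, i < 7929 → P i := stepQ 7928 Q7928 (allL N7928 (tt N6994 F56699) (tt N7029 F56700) (tt N8145 (iv F57678)) (tt N8780 D15238) (tt N8661 (iv F59587)) (tt N7333 F56701) (tt N8662 (iv F59596)) (tt N6993 (iv D14386)) (tt N7928 F56702))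
theorem Q7930 : ∀ i, i < 7930 → P i := stepQ 7929 Q7929 (allL N7929 (tt N8780 (iv F60123)) (tt N6995 F56703) (tt N8781 D15239) (tt N6994 (iv D14387)) (tt N8782 D15240) (tt N7334 F56704) (tt N8779 (iv F60121)) (tt N8771 (iv F60075)) (tt N7929 F56705))
theorem Q7931 : ∀ i, i < 7931 → P i := stepQ 7930 Q7930 (allL N7930 (tt N7031 F56706) (tt N8782 (iv F60132)) (tt N7743 F56707) (tt N7135 F56708) (tt N6995 (iv D14388)) (tt N7809 (iv F56711)) (tt N7136 F56709) (tt N8773 (iv F60087)) (tt N7930 F56710))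
theorem Q7932 : ∀ i, i < 7932 → P i := stepQ 7931 Q7931 (allL N7931 (tt N8749 (iv F59952)) (tt N7139 F56712) (tt N7343 F56713) (tt N7143 F56714) (tt N7234 F56715) (tt N6999 F56716) (tt N7336 F56717) (tt N6996 (iv D14389)) (tt N7008 F56718))
theorem Q7933 : ∀ i, i < 7933 → P i := stepQ 7932 Q7932 (allL N7932 (tt N8751 (iv F59965)) (tt N7395 F56719) (tt N6999 F56720) (tt N8783 D15241) (tt N7346 F56721) (tt N7343 F56722) (tt N7003 F56723) (tt N6997 (iv D14390)) (tt N7011 F56724))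
theorem Q7934 : ∀ i, i < 7934 → P i := stepQ 7933 Q7933 (allL N7933 (tt N8752 (iv F59971)) (tt N7141 F56725) (tt N7346 F56726) (tt N8784 D15242) (tt N6999 F56727) (tt N7344 F56728) (tt N7005 F56729) (tt N6998 (iv D14391)) (tt N7012 F56730))
theorem Q7935 : ∀ i, i < 7935 → P i := stepQ 7934 Q7934 (allL N7934 (tt N7001 F56731) (tt N8753 (iv F59978)) (tt N7142 F56732) (tt N7934 F56733) (tt N7483 F56734) (tt N7338 F56735) (tt N7392 F56736) (tt N8785 D15243) (tt N7000 (iv D14392)))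
theorem Q7936 : ∀ i, i < 7936 → P i := stepQ 7935 Q7935 (allL N7935 (tt N8785 (iv F60151)) (tt N7003 F56737) (tt N7143 F56738) (tt N8786 D15244) (tt N7505 F56739) (tt N7339 F56740) (tt N7395 F56741) (tt N7001 (iv D14393)) (tt N7016 F56742))
theorem Q7937 : ∀ i, i < 7937 → P i := stepQ 7936 Q7936 (allL N7936 (tt N8756 (iv F59992)) (tt N7505 F56743) (tt N7005 F56744) (tt N7504 F56745) (tt N7003 F56746) (tt N7354 F56747) (tt N7346 F56748) (tt N7002 (iv D14394)) (tt N7018 F56749))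
theorem Q7938 : ∀ i, i < 7938 → P i := stepQ 7937 Q7937 (allL N7937 (tt N8757 (iv F59999)) (tt N8786 (iv F60157)) (tt N7744 F56750) (tt N7003 (iv D14395)) (tt N8787 D15245) (tt N7341 F56751) (tt N8783 (iv F60141)) (tt N7937 F56752) (tt N7019 F56753))
theorem Q7939 : ∀ i, i < 7939 → P i := stepQ 7938 Q7938 (allL N7938 (tt N8758 (iv F60004)) (tt N7147 F56754) (tt N7354 F56755) (tt N8788 D15246) (tt N7342 F56756) (tt N7005 F56757) (tt N7351 F56758) (tt N7004 (iv D14396)) (tt N7021 F56759))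
theorem Q7940 : ∀ i, i < 7940 → P i := stepQ 7939 Q7939 (allL N7939 (tt N8759 (iv F60010)) (tt N7148 F56760) (tt N8789 D15247) (tt N7005 (iv D14397)) (tt N7745 F56761) (tt N8788 (iv F60174)) (tt N8784 (iv F60148)) (tt N7939 F56762) (tt N7022 F56763))
theorem Q7941 : ∀ i, i < 7941 → P i := stepQ 7940 Q7940 (allL N7940 (tt N8761 (iv F60020)) (tt N7232 F56764) (tt N7008 F56765) (tt N7807 F56766) (tt N7336 F56767) (tt N7011 F56768) (tt N7234 F56769) (tt N7006 (iv D14398)) (tt N7343 F56770))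
theorem Q7942 : ∀ i, i < 7942 → P i := stepQ 7941 Q7941 (allL N7941 (tt N8762 (iv F60027)) (tt N7149 F56771) (tt N7336 F56772) (tt N8790 D15248) (tt N7008 F56773) (tt N7337 F56774) (tt N7343 F56775) (tt N7007 (iv D14399)) (tt N7234 F56776))
theorem Q7943 : ∀ i, i < 7943 → P i := stepQ 7942 Q7942 (allL N7942 (tt N7010 F56777) (tt N8763 (iv F60034)) (tt N7150 F56778) (tt N7027 F56779) (tt N7330 F56780) (tt N7221 F56781) (tt N7014 F56782) (tt N8791 D15249) (tt N7009 (iv D14400)))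
theorem Q7944 : ∀ i, i < 7944 → P i := stepQ 7943 Q7943 (allL N7943 (tt N8791 (iv F60192)) (tt N7011 F56783) (tt N7151 F56784) (tt N8792 D15250) (tt N7355 F56785) (tt N7232 F56786) (tt N7016 F56787) (tt N7010 (iv D14401)) (tt N7395 F56788))
theorem Q7945 : ∀ i, i < 7945 → P i := stepQ 7944 Q7944 (allL N7944 (tt N8765 (iv F60042)) (tt N8792 (iv F60198)) (tt N7350 F56789) (tt N7011 (iv D14402)) (tt N7165 F56790) (tt N7807 F56791) (tt N7019 F56792) (tt N7028 F56793) (tt N8783 (iv F60143)))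
theorem Q7946 : ∀ i, i < 7946 → P i := stepQ 7945 Q7945 (allL N7945 (tt N8766 (iv F60048)) (tt N7155 F56794) (tt N7511 F56795) (tt N7012 (iv D14403)) (tt N7509 F56796) (tt N7512 F56797) (tt N7022 F56798) (tt N7023 F56799) (tt N8784 (iv F60150)))
theorem Q7947 : ∀ i, i < 7947 → P i := stepQ 7946 Q7946 (allL N7946 (tt N7015 F56800) (tt N8767 (iv F60055)) (tt N7157 F56801) (tt N7329 F56802) (tt N7014 F56803) (tt N7481 F56804) (tt N7330 F56805) (tt N8793 D15251) (tt N7013 (iv D14404)))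
theorem Q7948 : ∀ i, i < 7948 → P i := stepQ 7947 Q7947 (allL N7947 (tt N7016 F56806) (tt N8768 (iv F60061)) (tt N7158 F56807) (tt N8794 D15252) (tt N8793 (iv F60208)) (tt N7348 F56808) (tt N8791 (iv F60196)) (tt N7014 (iv D14405)) (tt N8785 (iv F60156)))
theorem Q7949 : ∀ i, i < 7949 → P i := stepQ 7948 Q7948 (allL N7948 (tt N8793 (iv F60205)) (tt N7018 F56809) (tt N7160 F56810) (tt N7354 F56811) (tt N7016 F56812) (tt N7504 F56813) (tt N7355 F56814) (tt N7015 (iv D14406)) (tt N7505 F56815))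
theorem Q7950 : ∀ i, i < 7950 → P i := stepQ 7949 Q7949 (allL N7949 (tt N8794 (iv F60212)) (tt N7019 F56816) (tt N7807 F56817) (tt N7016 (iv D14407)) (tt N7806 (iv F56820)) (tt N7350 F56818) (tt N8792 (iv F60202)) (tt N7030 F56819) (tt N8786 (iv F60163)))
theorem Q7951 : ∀ i, i < 7951 → P i := stepQ 7950 Q7950 (allL N7950 (tt N8772 (iv F60076)) (tt N7504 F56821) (tt N7021 F56822) (tt N7505 F56823) (tt N7351 F56824) (tt N7018 F56825) (tt N7342 F56826) (tt N7017 (iv D14408)) (tt N7354 F56827))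
theorem Q7952 : ∀ i, i < 7952 → P i := stepQ 7951 Q7951 (allL N7951 (tt N8773 (iv F60083)) (tt N7806 F56828) (tt N7747 F56829) (tt N7164 F56830) (tt N7019 (iv D14409)) (tt N7808 (iv F56833)) (tt N7165 F56831) (tt N7031 F56832) (tt N8787 (iv F60169)))
theorem Q7953 : ∀ i, i < 7953 → P i := stepQ 7952 Q7952 (allL N7952 (tt N8774 (iv F60089)) (tt N7164 F56834) (tt N7342 F56835) (tt N7806 F56836) (tt N7354 F56837) (tt N7340 F56838) (tt N7021 F56839) (tt N7020 (iv D14410)) (tt N7351 F56840))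
theorem Q7954 : ∀ i, i < 7954 → P i := stepQ 7953 Q7953 (allL N7953 (tt N8775 (iv F60096)) (tt N7165 F56841) (tt N7805 F56842) (tt N7021 (iv D14411)) (tt N8792 (iv F60200)) (tt N7022 F56843) (tt N7806 F56844) (tt N7024 F56845) (tt N8788 (iv F60177)))
theorem Q7955 : ∀ i, i < 7955 → P i := stepQ 7954 Q7954 (allL N7954 (tt N8776 (iv F60101)) (tt N8795 D15253) (tt N7022 (iv D14412)) (tt N7510 F56846) (tt N7749 F56847) (tt N7805 F56848) (tt N7511 F56849) (tt N7025 F56850) (tt N8789 (iv F60183)))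
theorem Q7956 : ∀ i, i < 7956 → P i := stepQ 7955 Q7955 (allL N7955 (tt N8777 (iv F60107)) (tt N7028 F56851) (tt N7238 F56852) (tt N7026 F56853) (tt N7024 (iv D14413)) (tt N7236 F56854) (tt N7030 F56855) (tt N8792 (iv F60203)) (tt N7955 F56856))
theorem Q7957 : ∀ i, i < 7957 → P i := stepQ 7956 Q7956 (allL N7956 (tt N8796 D15254) (tt N7025 (iv D14414)) (tt N7170 F56857) (tt N7597 F56858) (tt N7750 F56859) (tt N7239 F56860) (tt N7598 F56861) (tt N8795 (iv F60222)) (tt N7956 F56862))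
theorem Q7958 : ∀ i, i < 7958 → P i := stepQ 7957 Q7957 (allL N7957 (tt N7030 F56863) (tt N8780 (iv F60124)) (tt N7801 F56864) (tt N7029 (iv D14415)) (tt N7800 F56865) (tt N7357 F56866) (tt N8777 (iv F60111)) (tt N8794 (iv F60216)) (tt N7957 F56867))
theorem Q7959 : ∀ i, i < 7959 → P i := stepQ 7958 Q7958 (allL N7958 (tt N8287 (iv F58210)) (tt N7171 F56868) (tt N8797 D15255) (tt N7034 (iv D14416)) (tt N8540 (iv F59185)) (tt N7035 F56869) (tt N7397 F56870) (tt N8103 (iv F57475)) (tt N8798 D15256))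
theorem Q7960 : ∀ i, i < 7960 → P i := stepQ 7959 Q7959 (allL N7959 (tt N8518 (iv F59099)) (tt N7172 F56871) (tt N7042 F56872) (tt N8798 (iv F60236)) (tt N8395 F58572) (tt N7036 F56873) (tt N7398 F56874) (tt N7189 F56875) (tt N7034 (iv D14417)))
theorem Q7961 : ∀ i, i < 7961 → P i := stepQ 7960 Q7960 (allL N7960 (tt N8280 (iv F58188)) (tt N8799 D15257) (tt N7035 (iv D14418)) (tt N7043 F56876) (tt N8729 (iv F59875)) (tt N8797 (iv F60233)) (tt N7037 F56877) (tt N8132 (iv F57621)) (tt N8800 D15258))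
theorem Q7962 : ∀ i, i < 7962 → P i := stepQ 7961 Q7961 (allL N7961 (tt N8289 (iv F58218)) (tt N7175 F56878) (tt N8800 (iv F60245)) (tt N7036 F56879) (tt N8743 (iv F59932)) (tt N8798 (iv F60237)) (tt N7039 F56880) (tt N8801 D15259) (tt N7035 (iv D14419)))
theorem Q7963 : ∀ i, i < 7963 → P i := stepQ 7962 Q7962 (allL N7962 (tt N8802 D15260) (tt N7037 (iv D14420)) (tt N7176 F56881) (tt N7046 F56882) (tt N8803 D15261) (tt N7402 F56883) (tt N8799 (iv F60242)) (tt N8267 (iv F58148)) (tt N8804 D15262))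
theorem Q7964 : ∀ i, i < 7964 → P i := stepQ 7963 Q7963 (allL N7963 (tt N8691 (iv F59692)) (tt N8803 (iv F60255)) (tt N7038 F56884) (tt N8805 D15263) (tt N7037 (iv D14421)) (tt N8806 D15264) (tt N8729 (iv F59876)) (tt N8268 (iv F58153)) (tt N8807 D15265))
theorem Q7965 : ∀ i, i < 7965 → P i := stepQ 7964 Q7964 (allL N7964 (tt N8692 (iv F59696)) (tt N8804 (iv F60259)) (tt N7039 F56885) (tt N7048 F56886) (tt N8807 (iv F60270)) (tt N7404 F56887) (tt N8800 (iv F60247)) (tt N8808 D15266) (tt N7037 (iv D14422)))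
theorem Q7966 : ∀ i, i < 7966 → P i := stepQ 7965 Q7965 (allL N7965 (tt N8693 (iv F59700)) (tt N7179 F56888) (tt N8806 (iv F60266)) (tt N7965 F56889) (tt N7405 F56890) (tt N7038 (iv D14423)) (tt N8809 D15267) (tt N7695 F56891) (tt N8810 D15268))
theorem Q7967 : ∀ i, i < 7967 → P i := stepQ 7966 Q7966 (allL N7966 (tt N8694 (iv F59705)) (tt N7180 F56892) (tt N8807 (iv F60269)) (tt N7966 F56893) (tt N7039 F56894) (tt N8810 (iv F60280)) (tt N8743 (iv F59933)) (tt N8811 D15269) (tt N7038 (iv D14424)))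
theorem Q7968 : ∀ i, i < 7968 → P i := stepQ 7967 Q7967 (allL N7967 (tt N8695 (iv F59710)) (tt N7181 F56895) (tt N8808 (iv F60271)) (tt N7755 F56896) (tt N8811 (iv F60282)) (tt N7407 F56897) (tt N8801 (iv F60250)) (tt N7039 (iv D14425)) (tt N8271 (iv F58165)))
theorem Q7969 : ∀ i, i < 7969 → P i := stepQ 7968 Q7968 (allL N7968 (tt N7385 F56898) (tt N7096 F56899) (tt N8395 (iv F58567)) (tt N7199 F56900) (tt N7042 F56901) (tt N7968 F56902) (tt N7218 F56903) (tt N7195 F56904) (tt N7040 (iv D14426)))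
theorem Q7970 : ∀ i, i < 7970 → P i := stepQ 7969 Q7969 (allL N7969 (tt N8696 (iv F59714)) (tt N7210 F56905) (tt N7041 (iv D14427)) (tt N8797 (iv F60231)) (tt N7209 F56906) (tt N7043 F56907) (tt N7361 F56908) (tt N7052 F56909) (tt N8812 D15270))
theorem Q7971 : ∀ i, i < 7971 → P i := stepQ 7970 Q7970 (allL N7970 (tt N8697 (iv F59720)) (tt N7097 F56910) (tt N8812 (iv F60284)) (tt N7042 F56911) (tt N7224 F56912) (tt N7045 F56913) (tt N7387 F56914) (tt N8813 D15271) (tt N7041 (iv D14428)))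
theorem Q7972 : ∀ i, i < 7972 → P i := stepQ 7971 Q7971 (allL N7971 (tt N7369 (iv F56919)) (tt N7043 (iv D14429)) (tt N7098 F56915) (tt N8799 (iv F60240)) (tt N7707 (iv F56920)) (tt N7210 F56916) (tt N7046 F56917) (tt N7055 F56918) (tt N8814 D15272))
theorem Q7973 : ∀ i, i < 7973 → P i := stepQ 7972 Q7972 (allL N7972 (tt N8699 (iv F59732)) (tt N7707 F56921) (tt N7044 F56922) (tt N8815 D15273) (tt N7043 (iv D14430)) (tt N7704 F56923) (tt N7047 F56924) (tt N7056 F56925) (tt N8816 D15274))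
theorem Q7974 : ∀ i, i < 7974 → P i := stepQ 7973 Q7973 (allL N7973 (tt N8700 (iv F59738)) (tt N8814 (iv F60295)) (tt N7045 F56926) (tt N8800 (iv F60246)) (tt N8816 (iv F60306)) (tt N8812 (iv F60286)) (tt N7048 F56927) (tt N8817 D15275) (tt N7043 (iv D14431)))
theorem Q7975 : ∀ i, i < 7975 → P i := stepQ 7974 Q7974 (allL N7974 (tt N8701 (iv F59741)) (tt N7100 F56928) (tt N8816 (iv F60305)) (tt N7974 F56929) (tt N7045 F56930) (tt N7733 F56931) (tt N7050 F56932) (tt N8818 D15276) (tt N7044 (iv D14432)))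
theorem Q7976 : ∀ i, i < 7976 → P i := stepQ 7975 Q7975 (allL N7975 (tt N8702 (iv F59747)) (tt N7101 F56933) (tt N8817 (iv F60309)) (tt N7478 F56934) (tt N8818 (iv F60313)) (tt N8813 (iv F60291)) (tt N7051 F56935) (tt N7045 (iv D14433)) (tt N7060 F56936))
theorem Q7977 : ∀ i, i < 7977 → P i := stepQ 7976 Q7976 (allL N7976 (tt N7046 (iv D14434)) (tt N8703 (iv F59752)) (tt N7102 F56937) (tt N8802 (iv F60252)) (tt N7765 (iv F56941)) (tt N7412 F56938) (tt N7369 F56939) (tt N7061 F56940) (tt N8819 D15277))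
theorem Q7978 : ∀ i, i < 7978 → P i := stepQ 7977 Q7977 (allL N7977 (tt N7765 F56942) (tt N7047 F56943) (tt N7103 F56944) (tt N8820 D15278) (tt N7046 (iv D14435)) (tt N8821 D15279) (tt N7707 F56945) (tt N7062 F56946) (tt N8822 D15280))
theorem Q7979 : ∀ i, i < 7979 → P i := stepQ 7978 Q7978 (allL N7978 (tt N8819 (iv F60317)) (tt N7048 F56947) (tt N7104 F56948) (tt N8804 (iv F60261)) (tt N8822 (iv F60335)) (tt N7414 F56949) (tt N8814 (iv F60299)) (tt N8823 D15281) (tt N7046 (iv D14436)))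
theorem Q7980 : ∀ i, i < 7980 → P i := stepQ 7979 Q7979 (allL N7979 (tt N8706 (iv F59767)) (tt N8820 (iv F60323)) (tt N7979 F56950) (tt N7047 (iv D14437)) (tt N8805 (iv F60264)) (tt N8824 D15282) (tt N8815 (iv F60303)) (tt N8825 D15283) (tt N8826 D15284))
theorem Q7981 : ∀ i, i < 7981 → P i := stepQ 7980 Q7980 (allL N7980 (tt N8707 (iv F59769)) (tt N8821 (iv F60327)) (tt N7049 F56951) (tt N8824 (iv F60342)) (tt N7416 F56952) (tt N7047 (iv D14438)) (tt N8827 D15285) (tt N7065 F56953) (tt N8828 D15286))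
theorem Q7982 : ∀ i, i < 7982 → P i := stepQ 7981 Q7981 (allL N7981 (tt N8708 (iv F59775)) (tt N8822 (iv F60333)) (tt N7050 F56954) (tt N8826 (iv F60346)) (tt N7048 F56955) (tt N8828 (iv F60355)) (tt N8816 (iv F60308)) (tt N8829 D15287) (tt N7047 (iv D14439)))
theorem Q7983 : ∀ i, i < 7983 → P i := stepQ 7982 Q7982 (allL N7982 (tt N8709 (iv F59778)) (tt N8823 (iv F60337)) (tt N7051 F56956) (tt N8830 D15288) (tt N8829 (iv F60357)) (tt N7418 F56957) (tt N8817 (iv F60310)) (tt N7048 (iv D14440)) (tt N7067 F56958))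
theorem Q7984 : ∀ i, i < 7984 → P i := stepQ 7983 Q7983 (allL N7983 (tt N7319 F56959) (tt N7108 F56960) (tt N8827 (iv F60349)) (tt N7983 F56961) (tt N7419 F56962) (tt N7317 F56963) (tt N7049 (iv D14441)) (tt N7068 F56964) (tt N8831 D15289))
theorem Q7985 : ∀ i, i < 7985 → P i := stepQ 7984 Q7984 (allL N7984 (tt N8710 (iv F59782)) (tt N7109 F56965) (tt N8828 (iv F60353)) (tt N7984 F56966) (tt N7420 F56967) (tt N7050 F56968) (tt N8831 (iv F60367)) (tt N8832 D15290) (tt N7049 (iv D14442)))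
theorem Q7986 : ∀ i, i < 7986 → P i := stepQ 7985 Q7985 (allL N7985 (tt N8711 (iv F59788)) (tt N7110 F56969) (tt N8829 (iv F60356)) (tt N8833 D15291) (tt N7051 F56970) (tt N8832 (iv F60370)) (tt N8818 (iv F60315)) (tt N7050 (iv D14443)) (tt N7070 F56971))
theorem Q7987 : ∀ i, i < 7987 → P i := stepQ 7986 Q7986 (allL N7986 (tt N8713 (iv F59798)) (tt N7205 F56972) (tt N7053 F56973) (tt N8834 D15292) (tt N7052 (iv D14444)) (tt N7699 (iv F56976)) (tt N7366 F56974) (tt N7209 F56975) (tt N8835 D15293))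
theorem Q7988 : ∀ i, i < 7988 → P i := stepQ 7987 Q7987 (allL N7987 (tt N8714 (iv F59804)) (tt N7364 F56977) (tt N7054 F56978) (tt N7992 (iv F57004)) (tt N8835 (iv F60383)) (tt N7057 F56979) (tt N7367 F56980) (tt N8836 D15294) (tt N7052 (iv D14445)))
theorem Q7989 : ∀ i, i < 7989 → P i := stepQ 7988 Q7988 (allL N7988 (tt N8715 (iv F59808)) (tt N7111 F56981) (tt N8835 (iv F60382)) (tt N7988 F56982) (tt N7054 F56983) (tt N7730 F56984) (tt N7390 F56985) (tt N8837 D15295) (tt N7053 (iv D14446)))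
theorem Q7990 : ∀ i, i < 7990 → P i := stepQ 7989 Q7989 (allL N7989 (tt N8716 (iv F59814)) (tt N7112 F56986) (tt N8836 (iv F60387)) (tt N7125 F56987) (tt N8837 (iv F60391)) (tt N7060 F56988) (tt N7391 F56989) (tt N7054 (iv D14447)) (tt N8813 (iv F60293)))
theorem Q7991 : ∀ i, i < 7991 → P i := stepQ 7990 Q7990 (allL N7990 (tt N7055 (iv D14448)) (tt N8717 (iv F59819)) (tt N7113 F56990) (tt N7857 F56991) (tt N7757 (iv F56995)) (tt N7207 F56992) (tt N7061 F56993) (tt N7369 F56994) (tt N8838 D15296))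
theorem Q7992 : ∀ i, i < 7992 → P i := stepQ 7991 Q7991 (allL N7991 (tt N7757 F56996) (tt N7056 F56997) (tt N7114 F56998) (tt N8839 D15297) (tt N7055 (iv D14449)) (tt N7700 F56999) (tt N7062 F57000) (tt N7707 F57001) (tt N8840 D15298))
theorem Q7993 : ∀ i, i < 7993 → P i := stepQ 7992 Q7992 (allL N7992 (tt N8838 (iv F60395)) (tt N7057 F57002) (tt N7115 F57003) (tt N7987 F57004) (tt N8840 (iv F60410)) (tt N7364 F57005) (tt N7063 F57006) (tt N8841 D15299) (tt N7055 (iv D14450)))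
theorem Q7994 : ∀ i, i < 7994 → P i := stepQ 7993 Q7993 (allL N7993 (tt N8268 (iv F58149)) (tt N8839 (iv F60402)) (tt N7071 F57007) (tt N7056 (iv D14451)) (tt N8123 (iv F57571)) (tt N8842 D15300) (tt N7064 F57008) (tt N8691 (iv F59695)) (tt N8843 D15301))
theorem Q7995 : ∀ i, i < 7995 → P i := stepQ 7994 Q7994 (allL N7994 (tt N7668 F57009) (tt N7700 F57010) (tt N7058 F57011) (tt N8842 (iv F60420)) (tt N7699 F57012) (tt N7056 (iv D14452)) (tt N8844 D15302) (tt N7704 F57013) (tt N8845 D15303))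
theorem Q7996 : ∀ i, i < 7996 → P i := stepQ 7995 Q7995 (allL N7995 (tt N8719 (iv F59830)) (tt N8840 (iv F60408)) (tt N7059 F57014) (tt N8843 (iv F60422)) (tt N7057 F57015) (tt N8845 (iv F60434)) (tt N7066 F57016) (tt N8846 D15304) (tt N7056 (iv D14453)))
theorem Q7997 : ∀ i, i < 7997 → P i := stepQ 7996 Q7996 (allL N7996 (tt N8720 (iv F59836)) (tt N8841 (iv F60413)) (tt N7060 F57017) (tt N8847 D15305) (tt N8846 (iv F60436)) (tt N8836 (iv F60388)) (tt N7067 F57018) (tt N7057 (iv D14454)) (tt N8817 (iv F60311)))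
theorem Q7998 : ∀ i, i < 7998 → P i := stepQ 7997 Q7997 (allL N7997 (tt N7303 F57019) (tt N7118 F57020) (tt N8844 (iv F60426)) (tt N7075 F57021) (tt N7302 F57022) (tt N7068 F57023) (tt N7058 (iv D14455)) (tt N7317 F57024) (tt N8848 D15306))
theorem Q7999 : ∀ i, i < 7999 → P i := stepQ 7998 Q7998 (allL N7998 (tt N7498 F57025) (tt N7119 F57026) (tt N8845 (iv F60432)) (tt N7076 F57027) (tt N7730 F57028) (tt N7059 F57029) (tt N8848 (iv F60445)) (tt N8849 D15307) (tt N7058 (iv D14456)))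
theorem Q8000 : ∀ i, i < 8000 → P i := stepQ 7999 Q7999 (allL N7999 (tt N8721 (iv F59839)) (tt N7120 F57030) (tt N8846 (iv F60435)) (tt N8850 D15308) (tt N7060 F57031) (tt N8849 (iv F60449)) (tt N7070 F57032) (tt N7059 (iv D14457)) (tt N8818 (iv F60316)))
theorem Q8001 : ∀ i, i < 8001 → P i := stepQ 8000 Q8000 (allL N8000 (tt N7062 F57033) (tt N8722 (iv F59845)) (tt N7121 F57034) (tt N8851 D15309) (tt N7061 (iv D14458)) (tt N8852 D15310) (tt N7757 F57035) (tt N7765 F57036) (tt N8853 D15311))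
theorem Q8002 : ∀ i, i < 8002 → P i := stepQ 8001 Q8001 (allL N8001 (tt N7063 F57037) (tt N8723 (iv F59851)) (tt N7122 F57038) (tt N8178 (iv F57806)) (tt N8853 (iv F60466)) (tt N7430 F57039) (tt N8838 (iv F60400)) (tt N8854 D15312) (tt N7061 (iv D14459)))
theorem Q8003 : ∀ i, i < 8003 → P i := stepQ 8002 Q8002 (allL N8002 (tt N8851 (iv F60455)) (tt N7064 F57040) (tt N8002 F57041) (tt N7062 (iv D14460)) (tt N8275 (iv F58176)) (tt N8855 D15313) (tt N8839 (iv F60406)) (tt N8856 D15314) (tt N8857 D15315))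
theorem Q8004 : ∀ i, i < 8004 → P i := stepQ 8003 Q8003 (allL N8003 (tt N8852 (iv F60458)) (tt N7065 F57042) (tt N7123 F57043) (tt N8855 (iv F60473)) (tt N7432 F57044) (tt N7062 (iv D14461)) (tt N8858 D15316) (tt N8821 (iv F60331)) (tt N8859 D15317))
theorem Q8005 : ∀ i, i < 8005 → P i := stepQ 8004 Q8004 (allL N8004 (tt N8853 (iv F60464)) (tt N7066 F57045) (tt N7124 F57046) (tt N8857 (iv F60478)) (tt N7063 F57047) (tt N8859 (iv F60488)) (tt N8840 (iv F60412)) (tt N8860 D15318) (tt N7062 (iv D14462)))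
theorem Q8006 : ∀ i, i < 8006 → P i := stepQ 8005 Q8005 (allL N8005 (tt N8854 (iv F60468)) (tt N7067 F57048) (tt N7125 F57049) (tt N8861 D15319) (tt N8860 (iv F60491)) (tt N7434 F57050) (tt N8841 (iv F60416)) (tt N7063 (iv D14463)) (tt N8823 (iv F60340)))
theorem Q8007 : ∀ i, i < 8007 → P i := stepQ 8006 Q8006 (allL N8006 (tt N8728 (iv F59870)) (tt N8855 (iv F60471)) (tt N7078 F57051) (tt N7065 F57052) (tt N8862 D15320) (tt N7064 (iv D14464)) (tt N8863 D15321) (tt N8864 D15322) (tt N8865 D15323))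
theorem Q8008 : ∀ i, i < 8008 → P i := stepQ 8007 Q8007 (allL N8007 (tt N8729 (iv F59873)) (tt N8856 (iv F60474)) (tt N7079 F57053) (tt N8825 (iv F60344)) (tt N8280 (iv F58191)) (tt N8864 (iv F60499)) (tt N8691 (iv F59694)) (tt N7064 (iv D14465)) (tt N8866 D15324))
theorem Q8009 : ∀ i, i < 8009 → P i := stepQ 8008 Q8008 (allL N8008 (tt N8730 (iv F59877)) (tt N8857 (iv F60476)) (tt N7080 F57054) (tt N7066 F57055) (tt N8281 (iv F58195)) (tt N8865 (iv F60502)) (tt N8843 (iv F60423)) (tt N8867 D15325) (tt N7064 (iv D14466)))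
theorem Q8010 : ∀ i, i < 8010 → P i := stepQ 8009 Q8009 (allL N8009 (tt N8731 (iv F59880)) (tt N8858 (iv F60480)) (tt N7068 F57056) (tt N8863 (iv F60497)) (tt N7438 F57057) (tt N8844 (iv F60428)) (tt N7065 (iv D14467)) (tt N8827 (iv F60352)) (tt N8868 D15326))
theorem Q8011 : ∀ i, i < 8011 → P i := stepQ 8010 Q8010 (allL N8010 (tt N8732 (iv F59886)) (tt N8859 (iv F60485)) (tt N7069 F57058) (tt N8865 (iv F60501)) (tt N7439 F57059) (tt N7066 F57060) (tt N8868 (iv F60507)) (tt N8869 D15327) (tt N7065 (iv D14468)))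
theorem Q8012 : ∀ i, i < 8012 → P i := stepQ 8011 Q8011 (allL N8011 (tt N8733 (iv F59890)) (tt N8860 (iv F60489)) (tt N7070 F57061) (tt N8870 D15328) (tt N7067 F57062) (tt N8869 (iv F60510)) (tt N8846 (iv F60437)) (tt N7066 (iv D14469)) (tt N8829 (iv F60358)))
theorem Q8013 : ∀ i, i < 8013 → P i := stepQ 8012 Q8012 (allL N8012 (tt N8734 (iv F59893)) (tt N8861 (iv F60492)) (tt N7768 F57063) (tt N7067 (iv D14470)) (tt N8871 D15329) (tt N7441 F57064) (tt N8847 (iv F60439)) (tt N8284 (iv F58203)) (tt N8830 (iv F60361)))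
theorem Q8014 : ∀ i, i < 8014 → P i := stepQ 8013 Q8013 (allL N8013 (tt N8735 (iv F59896)) (tt N7129 F57065) (tt N8868 (iv F60505)) (tt N7085 F57066) (tt N7442 F57067) (tt N8848 (iv F60444)) (tt N7069 F57068) (tt N8872 D15330) (tt N7068 (iv D14471)))
theorem Q8015 : ∀ i, i < 8015 → P i := stepQ 8014 Q8014 (allL N8014 (tt N8736 (iv F59902)) (tt N7130 F57069) (tt N8869 (iv F60508)) (tt N8873 D15331) (tt N7443 F57070) (tt N7070 F57071) (tt N8872 (iv F60514)) (tt N7069 (iv D14472)) (tt N8832 (iv F60371)))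
theorem Q8016 : ∀ i, i < 8016 → P i := stepQ 8015 Q8015 (allL N8015 (tt N8737 (iv F59906)) (tt N7131 F57072) (tt N8874 D15332) (tt N7070 (iv D14473)) (tt N7771 F57073) (tt N8873 (iv F60516)) (tt N8850 (iv F60453)) (tt N7087 F57074) (tt N8833 (iv F60375)))
theorem Q8017 : ∀ i, i < 8017 → P i := stepQ 8016 Q8016 (allL N8016 (tt N7695 F57075) (tt N8016 F57076) (tt N8842 (iv F60419)) (tt N7072 F57077) (tt N8562 (iv F59283)) (tt N7071 (iv D14474)) (tt N8875 D15333) (tt N8693 (iv F59704)) (tt N8876 D15334))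
theorem Q8018 : ∀ i, i < 8018 → P i := stepQ 8017 Q8017 (allL N8017 (tt N8270 (iv F58157)) (tt N8017 F57078) (tt N8843 (iv F60421)) (tt N7073 F57079) (tt N8124 (iv F57578)) (tt N8876 (iv F60527)) (tt N7080 F57080) (tt N8877 D15335) (tt N7071 (iv D14475)))
theorem Q8019 : ∀ i, i < 8019 → P i := stepQ 8018 Q8018 (allL N8018 (tt N7690 F57081) (tt N8018 F57082) (tt N7075 F57083) (tt N8875 (iv F60522)) (tt N8018 F57084) (tt N7081 F57085) (tt N7072 (iv D14476)) (tt N8018 F57086) (tt N8878 D15336))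
theorem Q8020 : ∀ i, i < 8020 → P i := stepQ 8019 Q8019 (allL N8019 (tt N7577 F57087) (tt N8019 F57088) (tt N7076 F57089) (tt N8876 (iv F60526)) (tt N8019 F57090) (tt N7073 F57091) (tt N8878 (iv F60535)) (tt N8879 D15337) (tt N7072 (iv D14477)))
theorem Q8021 : ∀ i, i < 8021 → P i := stepQ 8020 Q8020 (allL N8020 (tt N8517 (iv F59092)) (tt N8020 F57092) (tt N7077 F57093) (tt N8880 D15338) (tt N7074 F57094) (tt N8879 (iv F60541)) (tt N7083 F57095) (tt N7073 (iv D14478)) (tt N8020 F57096))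
theorem Q8022 : ∀ i, i < 8022 → P i := stepQ 8021 Q8021 (allL N8021 (tt N7593 F57097) (tt N7132 F57098) (tt N8878 (iv F60532)) (tt N8848 (iv F60442)) (tt N8021 F57099) (tt N7085 F57100) (tt N7076 F57101) (tt N7835 (iv F57102)) (tt N7075 (iv D14479)))
theorem Q8023 : ∀ i, i < 8023 → P i := stepQ 8022 Q8022 (allL N8022 (tt N7592 F57103) (tt N7133 F57104) (tt N8879 (iv F60539)) (tt N8881 D15339) (tt N8022 F57105) (tt N7077 F57106) (tt N7835 F57107) (tt N7076 (iv D14480)) (tt N8022 F57108))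
theorem Q8024 : ∀ i, i < 8024 → P i := stepQ 8023 Q8023 (allL N8023 (tt N8738 (iv F59910)) (tt N7134 F57109) (tt N8882 D15340) (tt N7077 (iv D14481)) (tt N7588 F57110) (tt N8881 (iv F60549)) (tt N7087 F57111) (tt N8850 (iv F60454)) (tt N8023 F57112))
theorem Q8025 : ∀ i, i < 8025 → P i := stepQ 8024 Q8024 (allL N8024 (tt N8739 (iv F59916)) (tt N8024 F57113) (tt N8862 (iv F60494)) (tt N7088 F57114) (tt N7078 (iv D14482)) (tt N8286 (iv F58209)) (tt N8530 (iv F59156)) (tt N8529 F59148) (tt N8883 D15341))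
theorem Q8026 : ∀ i, i < 8026 → P i := stepQ 8025 Q8025 (allL N8025 (tt N8740 (iv F59918)) (tt N8025 F57115) (tt N8863 (iv F60496)) (tt N7081 F57116) (tt N8530 (iv F59154)) (tt N8875 (iv F60523)) (tt N7078 (iv D14483)) (tt N8528 F59151) (tt N8884 D15342))
theorem Q8027 : ∀ i, i < 8027 → P i := stepQ 8026 Q8026 (allL N8026 (tt N8741 (iv F59922)) (tt N8026 F57117) (tt N8864 (iv F60498)) (tt N8026 F57118) (tt N8529 F59149) (tt N7079 F57119) (tt N8528 (iv F59150)) (tt N7078 (iv D14484)) (tt N8885 D15343))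
theorem Q8028 : ∀ i, i < 8028 → P i := stepQ 8027 Q8027 (allL N8027 (tt N8742 (iv F59926)) (tt N8027 F57120) (tt N8865 (iv F60500)) (tt N7082 F57121) (tt N8883 (iv F60557)) (tt N7080 F57122) (tt N8884 (iv F60560)) (tt N8886 D15344) (tt N7078 (iv D14485)))
theorem Q8029 : ∀ i, i < 8029 → P i := stepQ 8028 Q8028 (allL N8028 (tt N8743 (iv F59929)) (tt N8028 F57123) (tt N8866 (iv F60503)) (tt N8028 F57124) (tt N8289 (iv F58221)) (tt N8885 (iv F60563)) (tt N8694 (iv F59709)) (tt N8887 D15345) (tt N7079 (iv D14486)))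
theorem Q8030 : ∀ i, i < 8030 → P i := stepQ 8029 Q8029 (allL N8029 (tt N8744 (iv F59934)) (tt N8029 F57125) (tt N8867 (iv F60504)) (tt N8888 D15346) (tt N8290 (iv F58224)) (tt N8886 (iv F60565)) (tt N8877 (iv F60529)) (tt N7080 (iv D14487)) (tt N8887 (iv F60567)))
theorem Q8031 : ∀ i, i < 8031 → P i := stepQ 8030 Q8030 (allL N8030 (tt N8745 (iv F59935)) (tt N8030 F57126) (tt N7085 F57127) (tt N8884 (iv F60559)) (tt N7092 F57128) (tt N8878 (iv F60534)) (tt N7082 F57129) (tt N8889 D15347) (tt N7081 (iv D14488)))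
theorem Q8032 : ∀ i, i < 8032 → P i := stepQ 8031 Q8031 (allL N8031 (tt N8660 (iv F59578)) (tt N8031 F57130) (tt N7086 F57131) (tt N8890 D15348) (tt N7093 F57132) (tt N7083 F57133) (tt N8889 (iv F60575)) (tt N7082 (iv D14489)) (tt N8031 F57134))
theorem Q8033 : ∀ i, i < 8033 → P i := stepQ 8032 Q8032 (allL N8032 (tt N8746 (iv F59942)) (tt N8032 F57135) (tt N8891 D15349) (tt N7083 (iv D14490)) (tt N8892 D15350) (tt N8890 (iv F60578)) (tt N8880 (iv F60545)) (tt N8888 (iv F60569)) (tt N8032 F57136))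
theorem Q8034 : ∀ i, i < 8034 → P i := stepQ 8033 Q8033 (allL N8033 (tt N8519 (iv F59106)) (tt N8033 F57137) (tt N7781 F57138) (tt N8892 (iv F60583)) (tt N7084 (iv D14491)) (tt N8590 (iv F59377)) (tt N8499 (iv F58991)) (tt N8291 (iv F58230)) (tt N8033 F57139))
theorem Q8035 : ∀ i, i < 8035 → P i := stepQ 8034 Q8034 (allL N8034 (tt N7834 F57140) (tt N7135 F57141) (tt N8889 (iv F60572)) (tt N8782 (iv F60133)) (tt N7094 F57142) (tt N7835 F57143) (tt N7086 F57144) (tt N7085 (iv D14492)) (tt N8034 F57145))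
theorem Q8036 : ∀ i, i < 8036 → P i := stepQ 8035 Q8035 (allL N8035 (tt N8747 (iv F59944)) (tt N7136 F57146) (tt N8893 D15351) (tt N7086 (iv D14493)) (tt N8779 (iv F60119)) (tt N7087 F57147) (tt N8782 (iv F60134)) (tt N8873 (iv F60517)) (tt N8035 F57148))
theorem Q8037 : ∀ i, i < 8037 → P i := stepQ 8036 Q8036 (allL N8036 (tt N8748 (iv F59949)) (tt N8894 D15352) (tt N7087 (iv D14494)) (tt N8891 (iv F60580)) (tt N7784 F57149) (tt N8893 (iv F60585)) (tt N8882 (iv F60553)) (tt N8874 (iv F60519)) (tt N8036 F57150))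
theorem Q8038 : ∀ i, i < 8038 → P i := stepQ 8037 Q8037 (allL N8037 (tt N8657 (iv F59558)) (tt N8037 F57151) (tt N7467 F57152) (tt N8883 (iv F60556)) (tt N7091 F57153) (tt N8294 (iv F58249)) (tt N8535 (iv F59171)) (tt N8594 (iv F59397)) (tt N7088 (iv D14495)))
theorem Q8039 : ∀ i, i < 8039 → P i := stepQ 8038 Q8038 (allL N8038 (tt N8658 (iv F59564)) (tt N8038 F57154) (tt N7468 F57155) (tt N7092 F57156) (tt N8535 (iv F59169)) (tt N8038 F57157) (tt N7091 F57158) (tt N8595 (iv F59404)) (tt N7089 (iv D14496)))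
theorem Q8040 : ∀ i, i < 8040 → P i := stepQ 8039 Q8039 (allL N8039 (tt N8659 (iv F59571)) (tt N8039 F57159) (tt N7094 F57160) (tt N8596 (iv F59408)) (tt N8889 (iv F60573)) (tt N8039 F57161) (tt N7093 F57162) (tt N7092 (iv D14497)) (tt N8039 F57163))
theorem Q8041 : ∀ i, i < 8041 → P i := stepQ 8040 Q8040 (allL N8040 (tt N7139 F57164) (tt N8813 (iv F60288)) (tt N7226 F57165) (tt N7107 F57166) (tt N7225 F57167) (tt N7101 F57168) (tt N7388 F57169) (tt N7097 (iv D14498)) (tt N7112 F57170))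
theorem Q8042 : ∀ i, i < 8042 → P i := stepQ 8041 Q8041 (allL N8041 (tt N7372 F57171) (tt N7099 F57172) (tt N8814 (iv F60296)) (tt N7193 F57173) (tt N7710 F57174) (tt N7212 F57175) (tt N7104 F57176) (tt N8895 D15353) (tt N7098 (iv D14499)))
theorem Q8043 : ∀ i, i < 8043 → P i := stepQ 8042 Q8042 (allL N8042 (tt N7140 F57177) (tt N8895 (iv F60591)) (tt N7101 F57178) (tt N7388 F57179) (tt N7737 F57180) (tt N7226 F57181) (tt N7107 F57182) (tt N7099 (iv D14500)) (tt N7117 F57183))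
theorem Q8044 : ∀ i, i < 8044 → P i := stepQ 8043 Q8043 (allL N8043 (tt N7141 F57184) (tt N8818 (iv F60312)) (tt N7737 F57185) (tt N8896 D15354) (tt N7101 F57186) (tt N7735 F57187) (tt N7110 F57188) (tt N7100 (iv D14501)) (tt N7120 F57189))
theorem Q8045 : ∀ i, i < 8045 → P i := stepQ 8044 Q8044 (allL N8044 (tt N7104 F57190) (tt N7142 F57191) (tt N8819 (iv F60318)) (tt N7194 F57192) (tt N7769 F57193) (tt N7475 F57194) (tt N7372 F57195) (tt N8897 D15355) (tt N7102 (iv D14502)))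
theorem Q8046 : ∀ i, i < 8046 → P i := stepQ 8045 Q8045 (allL N8045 (tt N7488 F57196) (tt N7105 F57197) (tt N8821 (iv F60328)) (tt N7583 F57198) (tt N7476 F57199) (tt N7103 (iv D14503)) (tt N7485 F57200) (tt N7123 F57201) (tt N8898 D15356))
theorem Q8047 : ∀ i, i < 8047 → P i := stepQ 8046 Q8046 (allL N8046 (tt N7769 F57202) (tt N7106 F57203) (tt N8822 (iv F60334)) (tt N7719 F57204) (tt N7104 F57205) (tt N8898 (iv F60613)) (tt N7710 F57206) (tt N8899 D15357) (tt N7103 (iv D14504)))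
theorem Q8048 : ∀ i, i < 8048 → P i := stepQ 8047 Q8047 (allL N8047 (tt N8897 (iv F60603)) (tt N7107 F57207) (tt N8823 (iv F60338)) (tt N8813 (iv F60289)) (tt N8899 (iv F60617)) (tt N7478 F57208) (tt N8895 (iv F60595)) (tt N7104 (iv D14505)) (tt N7125 F57209))
theorem Q8049 : ∀ i, i < 8049 → P i := stepQ 8048 Q8048 (allL N8048 (tt N7144 F57210) (tt N8898 (iv F60610)) (tt N7109 F57211) (tt N7594 F57212) (tt N7479 F57213) (tt N7106 F57214) (tt N7506 F57215) (tt N8900 D15358) (tt N7105 (iv D14506)))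
theorem Q8050 : ∀ i, i < 8050 → P i := stepQ 8049 Q8049 (allL N8049 (tt N7145 F57216) (tt N8899 (iv F60616)) (tt N7110 F57217) (tt N8901 D15359) (tt N7107 F57218) (tt N8900 (iv F60623)) (tt N7737 F57219) (tt N7106 (iv D14507)) (tt N7128 F57220))
theorem Q8051 : ∀ i, i < 8051 → P i := stepQ 8050 Q8050 (allL N8050 (tt N7146 F57221) (tt N8831 (iv F60363)) (tt N7506 F57222) (tt N8050 F57223) (tt N7481 F57224) (tt N7347 F57225) (tt N7109 F57226) (tt N8902 D15360) (tt N7108 (iv D14508)))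
theorem Q8052 : ∀ i, i < 8052 → P i := stepQ 8051 Q8051 (allL N8051 (tt N7147 F57227) (tt N8832 (iv F60368)) (tt N8900 (iv F60621)) (tt N8903 D15361) (tt N7482 F57228) (tt N7110 F57229) (tt N8902 (iv F60636)) (tt N7109 (iv D14509)) (tt N7130 F57230))
theorem Q8053 : ∀ i, i < 8053 → P i := stepQ 8052 Q8052 (allL N8052 (tt N7148 F57231) (tt N8833 (iv F60372)) (tt N8904 D15362) (tt N7110 (iv D14510)) (tt N7795 F57232) (tt N8903 (iv F60639)) (tt N8896 (iv F60600)) (tt N8052 F57233) (tt N7131 F57234))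
theorem Q8054 : ∀ i, i < 8054 → P i := stepQ 8053 Q8053 (allL N8053 (tt N7149 F57235) (tt N8837 (iv F60390)) (tt N7219 F57236) (tt N8905 D15363) (tt N7112 F57237) (tt N7731 F57238) (tt N7393 F57239) (tt N7111 (iv D14511)) (tt N7225 F57240))
theorem Q8055 : ∀ i, i < 8055 → P i := stepQ 8054 Q8054 (allL N8054 (tt N7115 F57241) (tt N7150 F57242) (tt N8838 (iv F60396)) (tt N7138 F57243) (tt N7760 F57244) (tt N7208 F57245) (tt N7122 F57246) (tt N8906 D15364) (tt N7113 (iv D14512)))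
theorem Q8056 : ∀ i, i < 8056 → P i := stepQ 8055 Q8055 (allL N8055 (tt N7760 F57247) (tt N7116 F57248) (tt N8840 (iv F60409)) (tt N8055 F57249) (tt N7115 F57250) (tt N7702 F57251) (tt N7124 F57252) (tt N8907 D15365) (tt N7114 (iv D14513)))
theorem Q8057 : ∀ i, i < 8057 → P i := stepQ 8056 Q8056 (allL N8056 (tt N8906 (iv F60654)) (tt N7117 F57253) (tt N8841 (iv F60414)) (tt N7391 F57254) (tt N8907 (iv F60663)) (tt N7365 F57255) (tt N7125 F57256) (tt N7115 (iv D14514)) (tt N8895 (iv F60596)))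
theorem Q8058 : ∀ i, i < 8058 → P i := stepQ 8057 Q8057 (allL N8057 (tt N7152 F57257) (tt N8907 (iv F60662)) (tt N7120 F57258) (tt N8908 D15366) (tt N7117 F57259) (tt N7732 F57260) (tt N7128 F57261) (tt N7116 (iv D14515)) (tt N7737 F57262))
theorem Q8059 : ∀ i, i < 8059 → P i := stepQ 8058 Q8058 (allL N8058 (tt N7153 F57263) (tt N8848 (iv F60441)) (tt N7499 F57264) (tt N7132 F57265) (tt N7338 F57266) (tt N7129 F57267) (tt N7119 F57268) (tt N8909 D15367) (tt N7118 (iv D14516)))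
theorem Q8060 : ∀ i, i < 8060 → P i := stepQ 8059 Q8059 (allL N8059 (tt N7154 F57269) (tt N8849 (iv F60447)) (tt N7732 F57270) (tt N8910 D15368) (tt N7731 F57271) (tt N7120 F57272) (tt N8909 (iv F60678)) (tt N7119 (iv D14517)) (tt N7735 F57273))
theorem Q8061 : ∀ i, i < 8061 → P i := stepQ 8060 Q8060 (allL N8060 (tt N7155 F57274) (tt N8850 (iv F60451)) (tt N8911 D15369) (tt N7120 (iv D14518)) (tt N7493 F57275) (tt N8910 (iv F60681)) (tt N7131 F57276) (tt N7134 F57277) (tt N8896 (iv F60602)))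
theorem Q8062 : ∀ i, i < 8062 → P i := stepQ 8061 Q8061 (allL N8061 (tt N7123 F57278) (tt N7156 F57279) (tt N8852 (iv F60460)) (tt N8061 F57280) (tt N7485 F57281) (tt N7121 (iv D14519)) (tt N7476 F57282) (tt N7488 F57283) (tt N8912 D15370))
theorem Q8063 : ∀ i, i < 8063 → P i := stepQ 8062 Q8062 (allL N8062 (tt N7124 F57284) (tt N7157 F57285) (tt N8853 (iv F60465)) (tt N8062 F57286) (tt N7122 F57287) (tt N8912 (iv F60693)) (tt N7760 F57288) (tt N8913 D15371) (tt N7121 (iv D14520)))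
theorem Q8064 : ∀ i, i < 8064 → P i := stepQ 8063 Q8063 (allL N8063 (tt N7125 F57289) (tt N7158 F57290) (tt N8854 (iv F60469)) (tt N8716 (iv F59816)) (tt N8913 (iv F60697)) (tt N7487 F57291) (tt N8906 (iv F60659)) (tt N7122 (iv D14521)) (tt N8897 (iv F60608)))
theorem Q8065 : ∀ i, i < 8065 → P i := stepQ 8064 Q8064 (allL N8064 (tt N7476 F57292) (tt N7126 F57293) (tt N8858 (iv F60481)) (tt N8064 F57294) (tt N7488 F57295) (tt N7474 F57296) (tt N7123 (iv D14522)) (tt N7485 F57297) (tt N8914 D15372))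
theorem Q8066 : ∀ i, i < 8066 → P i := stepQ 8065 Q8065 (allL N8065 (tt N8912 (iv F60689)) (tt N7127 F57298) (tt N8859 (iv F60486)) (tt N8065 F57299) (tt N7489 F57300) (tt N7124 F57301) (tt N8914 (iv F60705)) (tt N8915 D15373) (tt N7123 (iv D14523)))
theorem Q8067 : ∀ i, i < 8067 → P i := stepQ 8066 Q8066 (allL N8066 (tt N8913 (iv F60695)) (tt N7128 F57302) (tt N8860 (iv F60490)) (tt N8916 D15374) (tt N7125 F57303) (tt N8915 (iv F60708)) (tt N8907 (iv F60665)) (tt N7124 (iv D14524)) (tt N8899 (iv F60619)))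
theorem Q8068 : ∀ i, i < 8068 → P i := stepQ 8067 Q8067 (allL N8067 (tt N7161 F57304) (tt N8914 (iv F60701)) (tt N7129 F57305) (tt N8067 F57306) (tt N7491 F57307) (tt N7499 F57308) (tt N7127 F57309) (tt N8917 D15375) (tt N7126 (iv D14525)))
theorem Q8069 : ∀ i, i < 8069 → P i := stepQ 8068 Q8068 (allL N8068 (tt N7162 F57310) (tt N8915 (iv F60706)) (tt N7130 F57311) (tt N8918 D15376) (tt N7492 F57312) (tt N7128 F57313) (tt N8917 (iv F60715)) (tt N7127 (iv D14526)) (tt N8900 (iv F60625)))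
theorem Q8070 : ∀ i, i < 8070 → P i := stepQ 8069 Q8069 (allL N8069 (tt N7163 F57314) (tt N8916 (iv F60709)) (tt N8919 D15377) (tt N7128 (iv D14527)) (tt N8905 (iv F60649)) (tt N8918 (iv F60718)) (tt N8908 (iv F60670)) (tt N8069 F57315) (tt N8901 (iv F60630)))
theorem Q8071 : ∀ i, i < 8071 → P i := stepQ 8070 Q8070 (allL N8070 (tt N7164 F57316) (tt N8872 (iv F60512)) (tt N8917 (iv F60712)) (tt N8773 (iv F60085)) (tt N7494 F57317) (tt N8909 (iv F60677)) (tt N7130 F57318) (tt N7129 (iv D14528)) (tt N8902 (iv F60637)))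
theorem Q8072 : ∀ i, i < 8072 → P i := stepQ 8071 Q8071 (allL N8071 (tt N7165 F57319) (tt N8873 (iv F60515)) (tt N8920 D15378) (tt N7130 (iv D14529)) (tt N8765 (iv F60044)) (tt N7131 F57320) (tt N8773 (iv F60086)) (tt N7136 F57321) (tt N8903 (iv F60641)))
theorem Q8073 : ∀ i, i < 8073 → P i := stepQ 8072 Q8072 (allL N8072 (tt N7166 F57322) (tt N8921 D15379) (tt N7131 (iv D14530)) (tt N8919 (iv F60721)) (tt N7798 F57323) (tt N8920 (iv F60727)) (tt N8911 (iv F60687)) (tt N7137 F57324) (tt N8904 (iv F60646)))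
theorem Q8074 : ∀ i, i < 8074 → P i := stepQ 8073 Q8073 (allL N8073 (tt N7167 F57325) (tt N8881 (iv F60548)) (tt N8922 D15380) (tt N7133 (iv D14531)) (tt N8923 D15381) (tt N7134 F57326) (tt N7809 F57327) (tt N8910 (iv F60683)) (tt N8073 F57328))
theorem Q8075 : ∀ i, i < 8075 → P i := stepQ 8074 Q8074 (allL N8074 (tt N7168 F57329) (tt N8924 D15382) (tt N7134 (iv D14532)) (tt N8074 F57330) (tt N7591 F57331) (tt N8922 (iv F60734)) (tt N7137 F57332) (tt N8911 (iv F60688)) (tt N8074 F57333))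
theorem Q8076 : ∀ i, i < 8076 → P i := stepQ 8075 Q8075 (allL N8075 (tt N7169 F57334) (tt N8925 D15383) (tt N7136 (iv D14533)) (tt N8075 F57335) (tt N7357 F57336) (tt N7137 F57337) (tt N7743 F57338) (tt N8920 (iv F60729)) (tt N8075 F57339))
theorem Q8077 : ∀ i, i < 8077 → P i := stepQ 8076 Q8076 (allL N8076 (tt N8926 D15384) (tt N7137 (iv D14534)) (tt N8894 (iv F60587)) (tt N8076 F57340) (tt N7802 F57341) (tt N8925 (iv F60751)) (tt N8924 (iv F60746)) (tt N8921 (iv F60731)) (tt N8076 F57342))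
theorem Q8078 : ∀ i, i < 8078 → P i := stepQ 8077 Q8077 (allL N8077 (tt N8896 (iv F60597)) (tt N8784 (iv F60144)) (tt N8927 D15385) (tt N7141 (iv D14535)) (tt N7503 F57343) (tt N7746 F57344) (tt N7148 F57345) (tt N8077 F57346) (tt N7155 F57347))
theorem Q8079 : ∀ i, i < 8079 → P i := stepQ 8078 Q8078 (allL N8078 (tt N7143 F57348) (tt N8897 (iv F60604)) (tt N8785 (iv F60152)) (tt N8749 (iv F59954)) (tt N7796 F57349) (tt N7500 F57350) (tt N7394 F57351) (tt N7142 (iv D14536)) (tt N7158 F57352))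
theorem Q8080 : ∀ i, i < 8080 → P i := stepQ 8079 Q8079 (allL N8079 (tt N8900 (iv F60620)) (tt N7510 F57353) (tt N7147 F57354) (tt N8795 (iv F60218)) (tt N7502 F57355) (tt N7145 F57356) (tt N7508 F57357) (tt N7144 (iv D14537)) (tt N7162 F57358))
theorem Q8081 : ∀ i, i < 8081 → P i := stepQ 8080 Q8080 (allL N8080 (tt N8901 (iv F60626)) (tt N7805 F57359) (tt N7353 (iv F57364)) (tt N7145 (iv D14538)) (tt N7235 F57360) (tt N8795 (iv F60220)) (tt N7748 F57361) (tt N7239 F57362) (tt N7163 F57363))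
theorem Q8082 : ∀ i, i < 8082 → P i := stepQ 8081 Q8081 (allL N8081 (tt N8902 (iv F60632)) (tt N7351 F57365) (tt N7508 F57366) (tt N8787 (iv F60166)) (tt N7504 F57367) (tt N7349 F57368) (tt N7147 F57369) (tt N7146 (iv D14539)) (tt N7164 F57370))
theorem Q8083 : ∀ i, i < 8083 → P i := stepQ 8082 Q8082 (allL N8082 (tt N8903 (iv F60638)) (tt N8788 (iv F60171)) (tt N8928 D15386) (tt N7147 (iv D14540)) (tt N8783 (iv F60139)) (tt N7148 F57371) (tt N8787 (iv F60167)) (tt N8082 F57372) (tt N7165 F57373))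
theorem Q8084 : ∀ i, i < 8084 → P i := stepQ 8083 Q8083 (allL N8083 (tt N8904 (iv F60642)) (tt N8929 D15387) (tt N7148 (iv D14541)) (tt N7353 F57374) (tt N7352 F57375) (tt N8928 (iv F60769)) (tt N8927 (iv F60762)) (tt N8083 F57376) (tt N7166 F57377))
theorem Q8085 : ∀ i, i < 8085 → P i := stepQ 8084 Q8084 (allL N8084 (tt N8905 (iv F60647)) (tt N8790 (iv F60185)) (tt N7341 F57378) (tt N7149 (iv D14542)) (tt N7163 F57379) (tt N7744 F57380) (tt N7396 F57381) (tt N8084 F57382) (tt N7235 F57383))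
theorem Q8086 : ∀ i, i < 8086 → P i := stepQ 8085 Q8085 (allL N8085 (tt N7151 F57384) (tt N8906 (iv F60655)) (tt N8791 (iv F60193)) (tt N7310 F57385) (tt N7794 F57386) (tt N7222 F57387) (tt N7158 F57388) (tt N7150 (iv D14543)) (tt N7394 F57389))
theorem Q8087 : ∀ i, i < 8087 → P i := stepQ 8086 Q8086 (allL N8086 (tt N8908 (iv F60667)) (tt N7804 F57390) (tt N8930 D15388) (tt N7152 (iv D14544)) (tt N7396 F57391) (tt N7745 F57392) (tt N7163 F57393) (tt N8086 F57394) (tt N7748 F57395))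
theorem Q8088 : ∀ i, i < 8088 → P i := stepQ 8087 Q8087 (allL N8087 (tt N8909 (iv F60673)) (tt N7340 F57396) (tt N7501 F57397) (tt N7808 F57398) (tt N7339 F57399) (tt N7164 F57400) (tt N7154 F57401) (tt N7153 (iv D14545)) (tt N7349 F57402))
theorem Q8089 : ∀ i, i < 8089 → P i := stepQ 8088 Q8088 (allL N8088 (tt N8910 (iv F60680)) (tt N7512 F57403) (tt N8931 D15389) (tt N7154 (iv D14546)) (tt N8932 D15390) (tt N7155 F57404) (tt N7808 F57405) (tt N7167 F57406) (tt N7746 F57407))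
theorem Q8090 : ∀ i, i < 8090 → P i := stepQ 8089 Q8089 (allL N8089 (tt N8911 (iv F60685)) (tt N8932 (iv F60794)) (tt N7155 (iv D14547)) (tt N8930 (iv F60781)) (tt N7512 F57408) (tt N8931 (iv F60789)) (tt N7166 F57409) (tt N7168 F57410) (tt N8927 (iv F60764)))
theorem Q8091 : ∀ i, i < 8091 → P i := stepQ 8090 Q8090 (allL N8090 (tt N7159 F57411) (tt N8912 (iv F60690)) (tt N7481 F57412) (tt N8090 F57413) (tt N7506 F57414) (tt N7157 F57415) (tt N7479 F57416) (tt N8933 D15391) (tt N7156 (iv D14548)))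
theorem Q8092 : ∀ i, i < 8092 → P i := stepQ 8091 Q8091 (allL N8091 (tt N7160 F57417) (tt N8913 (iv F60696)) (tt N8793 (iv F60206)) (tt N8934 D15392) (tt N7158 F57418) (tt N8933 (iv F60804)) (tt N7794 F57419) (tt N7157 (iv D14549)) (tt N7796 F57420))
theorem Q8093 : ∀ i, i < 8093 → P i := stepQ 8092 Q8092 (allL N8092 (tt N8933 (iv F60801)) (tt N7162 F57421) (tt N7504 F57422) (tt N8789 (iv F60178)) (tt N7508 F57423) (tt N7160 F57424) (tt N7502 F57425) (tt N7159 (iv D14550)) (tt N7510 F57426))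
theorem Q8094 : ∀ i, i < 8094 → P i := stepQ 8093 Q8093 (allL N8093 (tt N8934 (iv F60807)) (tt N7163 F57427) (tt N8788 (iv F60172)) (tt N7160 (iv D14551)) (tt N8790 (iv F60187)) (tt N8789 (iv F60180)) (tt N7804 F57428) (tt N8093 F57429) (tt N7805 F57430))
theorem Q8095 : ∀ i, i < 8095 → P i := stepQ 8094 Q8094 (allL N8094 (tt N8917 (iv F60711)) (tt N7502 F57431) (tt N7164 F57432) (tt N8935 D15393) (tt N7510 F57433) (tt N7501 F57434) (tt N7162 F57435) (tt N7161 (iv D14552)) (tt N7508 F57436))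
theorem Q8096 : ∀ i, i < 8096 → P i := stepQ 8095 Q8095 (allL N8095 (tt N8918 (iv F60717)) (tt N8789 F60184) (tt N8929 (iv F60773)) (tt N7162 (iv D14553)) (tt N8936 D15394) (tt N7163 F57437) (tt N8935 (iv F60815)) (tt N8095 F57438) (tt N8795 (iv F60223)))
theorem Q8097 : ∀ i, i < 8097 → P i := stepQ 8096 Q8096 (allL N8096 (tt N8919 (iv F60720)) (tt N8928 (iv F60766)) (tt N7163 (iv D14554)) (tt N7166 F57439) (tt N7341 F57440) (tt N8929 (iv F60776)) (tt N8930 (iv F60784)) (tt N8096 F57441) (tt N7353 F57442))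
theorem Q8098 : ∀ i, i < 8098 → P i := stepQ 8097 Q8097 (allL N8097 (tt N8920 (iv F60725)) (tt N7353 F57443) (tt N7165 (iv D14555)) (tt N8929 (iv F60774)) (tt N7350 F57444) (tt N7166 F57445) (tt N7747 F57446) (tt N7169 F57447) (tt N8928 (iv F60772)))
theorem Q8099 : ∀ i, i < 8099 → P i := stepQ 8098 Q8098 (allL N8098 (tt N8937 D15395) (tt N7166 (iv D14556)) (tt N8795 (iv F60217)) (tt N8928 (iv F60767)) (tt N7808 F57448) (tt N7353 F57449) (tt N8932 (iv F60798)) (tt N7170 F57450) (tt N8929 (iv F60779)))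
theorem Q8100 : ∀ i, i < 8100 → P i := stepQ 8099 Q8099 (allL N8099 (tt N8922 (iv F60732)) (tt N7599 F57451) (tt N7167 (iv D14557)) (tt N8099 F57452) (tt N7598 (iv F57456)) (tt N7168 F57453) (tt N7750 F57454) (tt N8931 (iv F60791)) (tt N8099 F57455))
theorem Q8101 : ∀ i, i < 8101 → P i := stepQ 8100 Q8100 (allL N8100 (tt N8923 (iv F60738)) (tt N7168 F57457) (tt N7598 F57458) (tt N8100 F57459) (tt N7167 (iv D14558)) (tt N7599 F57460) (tt N7170 F57461) (tt N8932 (iv F60799)) (tt N8100 F57462))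
theorem Q8102 : ∀ i, i < 8102 → P i := stepQ 8101 Q8101 (allL N8101 (tt N7170 (iv D14559)) (tt N8926 (iv F60754)) (tt N8796 (iv F60224)) (tt N8101 F57463) (tt N7809 F57464) (tt N7335 F57465) (tt N8923 (iv F60742)) (tt N8937 (iv F60827)) (tt N8101 F57466))
theorem Q8103 : ∀ i, i < 8103 → P i := stepQ 8102 Q8102 (allL N8102 (tt N8102 F57467) (tt N8798 (iv F60235)) (tt N7514 F57468) (tt N7172 F57469) (tt N8484 (iv F58926)) (tt N7175 F57470) (tt N7515 F57471) (tt N8938 D15396) (tt N7171 (iv D14560)))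
theorem Q8104 : ∀ i, i < 8104 → P i := stepQ 8103 Q8103 (allL N8103 (tt N7374 (iv F57476)) (tt N7173 (iv D14561)) (tt N8799 (iv F60239)) (tt N7183 F57472) (tt N8939 D15397) (tt N7214 F57473) (tt N7176 F57474) (tt N7958 F57475) (tt N8940 D15398))
theorem Q8105 : ∀ i, i < 8105 → P i := stepQ 8104 Q8104 (allL N8104 (tt N8104 F57477) (tt N8939 (iv F60834)) (tt N7174 F57478) (tt N7691 F57479) (tt N7173 (iv D14562)) (tt N8941 D15399) (tt N7177 F57480) (tt N7694 F57481) (tt N8486 (iv F58935)))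
theorem Q8106 : ∀ i, i < 8106 → P i := stepQ 8105 Q8105 (allL N8105 (tt N8105 F57482) (tt N8940 (iv F60840)) (tt N7175 F57483) (tt N7185 F57484) (tt N8486 (iv F58933)) (tt N7514 F57485) (tt N7178 F57486) (tt N8942 D15400) (tt N7173 (iv D14563)))
theorem Q8107 : ∀ i, i < 8107 → P i := stepQ 8106 Q8106 (allL N8106 (tt N8106 F57487) (tt N8741 (iv F59923)) (tt N8941 (iv F60846)) (tt N8106 F57488) (tt N8555 F59257) (tt N7174 (iv D14564)) (tt N8557 (iv F59267)) (tt N8420 (iv F58658)) (tt N8943 D15401))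
theorem Q8108 : ∀ i, i < 8108 → P i := stepQ 8107 Q8107 (allL N8107 (tt N8107 F57489) (tt N8743 (iv F59930)) (tt N8486 F58936) (tt N8107 F57490) (tt N7175 F57491) (tt N8943 (iv F60861)) (tt N7180 F57492) (tt N8944 D15402) (tt N7174 (iv D14565)))
theorem Q8109 : ∀ i, i < 8109 → P i := stepQ 8108 Q8108 (allL N8108 (tt N8108 F57493) (tt N8801 (iv F60248)) (tt N8942 (iv F60853)) (tt N7525 F57494) (tt N8944 (iv F60863)) (tt N8938 (iv F60831)) (tt N7181 F57495) (tt N7175 (iv D14566)) (tt N8422 (iv F58667)))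
theorem Q8110 : ∀ i, i < 8110 → P i := stepQ 8109 Q8109 (allL N8109 (tt N7176 (iv D14567)) (tt N8109 F57496) (tt N8802 (iv F60251)) (tt N7187 F57497) (tt N8945 D15403) (tt N7520 F57498) (tt N7374 F57499) (tt N8152 (iv F57713)) (tt N8946 D15404))
theorem Q8111 : ∀ i, i < 8111 → P i := stepQ 8110 Q8110 (allL N8110 (tt N8945 (iv F60865)) (tt N7177 F57500) (tt N8803 (iv F60256)) (tt N7660 (iv F57502)) (tt N7176 (iv D14568)) (tt N7662 (iv F57503)) (tt N8939 (iv F60837)) (tt N7664 F57501) (tt N8947 D15405))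
theorem Q8112 : ∀ i, i < 8112 → P i := stepQ 8111 Q8111 (allL N8111 (tt N8946 (iv F60871)) (tt N7178 F57504) (tt N8804 (iv F60260)) (tt N7189 F57505) (tt N8947 (iv F60878)) (tt N7522 F57506) (tt N8940 (iv F60843)) (tt N8948 D15406) (tt N7176 (iv D14569)))
theorem Q8113 : ∀ i, i < 8113 → P i := stepQ 8112 Q8112 (allL N8112 (tt N8112 F57507) (tt N8947 (iv F60876)) (tt N7180 F57508) (tt N7692 F57509) (tt N7178 F57510) (tt N7693 F57511) (tt N8486 (iv F58934)) (tt N8949 D15407) (tt N7177 (iv D14570)))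
theorem Q8114 : ∀ i, i < 8114 → P i := stepQ 8113 Q8113 (allL N8113 (tt N8113 F57512) (tt N8948 (iv F60880)) (tt N7181 F57513) (tt N8938 (iv F60830)) (tt N8949 (iv F60885)) (tt N7525 F57514) (tt N8942 (iv F60856)) (tt N7178 (iv D14571)) (tt N8423 (iv F58671)))
theorem Q8115 : ∀ i, i < 8115 → P i := stepQ 8114 Q8114 (allL N8114 (tt N8114 F57515) (tt N8809 (iv F60273)) (tt N7684 F57516) (tt N8114 F57517) (tt N7526 F57518) (tt N8557 (iv F59266)) (tt N7179 (iv D14572)) (tt N7687 F57519) (tt N8950 D15408))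
theorem Q8116 : ∀ i, i < 8116 → P i := stepQ 8115 Q8115 (allL N8115 (tt N8115 F57520) (tt N8810 (iv F60277)) (tt N7693 F57521) (tt N8115 F57522) (tt N7527 F57523) (tt N7180 F57524) (tt N8950 (iv F60892)) (tt N8951 D15409) (tt N7179 (iv D14573)))
theorem Q8117 : ∀ i, i < 8117 → P i := stepQ 8116 Q8116 (allL N8116 (tt N8116 F57525) (tt N8811 (iv F60281)) (tt N8949 (iv F60883)) (tt N8952 D15410) (tt N7181 F57526) (tt N8951 (iv F60896)) (tt N8944 (iv F60864)) (tt N7180 (iv D14574)) (tt N8424 (iv F58674)))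
theorem Q8118 : ∀ i, i < 8118 → P i := stepQ 8117 Q8117 (allL N8117 (tt N7377 F57527) (tt N7185 F57528) (tt N7193 F57529) (tt N8940 (iv F60841)) (tt N7217 F57530) (tt N7215 F57531) (tt N7189 F57532) (tt N7398 F57533) (tt N7183 (iv D14575)))
theorem Q8119 : ∀ i, i < 8119 → P i := stepQ 8118 Q8118 (allL N8118 (tt N7189 F57534) (tt N8118 F57535) (tt N7194 F57536) (tt N8946 (iv F60873)) (tt N7383 F57537) (tt N7529 F57538) (tt N7377 F57539) (tt N8518 (iv F59105)) (tt N7187 (iv D14576)))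
theorem Q8120 : ∀ i, i < 8120 → P i := stepQ 8119 Q8119 (allL N8119 (tt N7380 F57540) (tt N7190 F57541) (tt N7723 F57542) (tt N7188 (iv D14577)) (tt N7660 F57543) (tt N8119 F57544) (tt N7216 F57545) (tt N7657 F57546) (tt N8394 (iv F58563)))
theorem Q8121 : ∀ i, i < 8121 → P i := stepQ 8120 Q8120 (allL N8120 (tt N7383 F57547) (tt N7191 F57548) (tt N7195 F57549) (tt N8394 F58564) (tt N7189 F57550) (tt N8120 F57551) (tt N7217 F57552) (tt N8395 (iv F58570)) (tt N7188 (iv D14578)))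
theorem Q8122 : ∀ i, i < 8122 → P i := stepQ 8121 Q8121 (allL N8121 (tt N7199 F57553) (tt N7201 F57554) (tt N7840 F57555) (tt N7385 F57556) (tt N7229 F57557) (tt N8121 F57558) (tt N7386 F57559) (tt N7791 (iv F57560)) (tt N7198 (iv D14579)))
theorem Q8123 : ∀ i, i < 8123 → P i := stepQ 8122 Q8122 (allL N8122 (tt N7791 F57561) (tt N7200 F57562) (tt N7841 F57563) (tt N7728 F57564) (tt N7230 F57565) (tt N8122 F57566) (tt N7729 F57567) (tt N7199 (iv D14580)) (tt N8122 F57568))
theorem Q8124 : ∀ i, i < 8124 → P i := stepQ 8123 Q8123 (allL N8123 (tt N7358 F57569) (tt N8834 (iv F60376)) (tt N7203 (iv D14581)) (tt N7205 F57570) (tt N7993 F57571) (tt N7696 F57572) (tt N7368 F57573) (tt N7843 F57574) (tt N8953 D15411))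
theorem Q8125 : ∀ i, i < 8125 → P i := stepQ 8124 Q8124 (allL N8124 (tt N7360 F57575) (tt N8124 F57576) (tt N8953 (iv F60902)) (tt N7204 F57577) (tt N8017 F57578) (tt N7698 F57579) (tt N7376 F57580) (tt N8954 D15412) (tt N7203 (iv D14582)))
theorem Q8126 : ∀ i, i < 8126 → P i := stepQ 8125 Q8125 (allL N8125 (tt N7362 F57581) (tt N8835 (iv F60381)) (tt N7206 F57582) (tt N8953 (iv F60903)) (tt N7364 F57583) (tt N7701 F57584) (tt N7370 F57585) (tt N8955 D15413) (tt N7205 (iv D14583)))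
theorem Q8127 : ∀ i, i < 8127 → P i := stepQ 8126 Q8126 (allL N8126 (tt N7363 F57586) (tt N7219 F57587) (tt N8955 (iv F60915)) (tt N7255 F57588) (tt N7365 F57589) (tt N7703 F57590) (tt N7373 F57591) (tt N7206 (iv D14584)) (tt N7213 F57592))
theorem Q8128 : ∀ i, i < 8128 → P i := stepQ 8127 Q8127 (allL N8127 (tt N8712 (iv F59792)) (tt N7207 (iv D14585)) (tt N7220 F57593) (tt N7860 F57594) (tt N7361 F57595) (tt N8717 (iv F59823)) (tt N7209 F57596) (tt N7366 F57597) (tt N8956 D15414))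
theorem Q8129 : ∀ i, i < 8129 → P i := stepQ 8128 Q8128 (allL N8128 (tt N7364 F57598) (tt N8956 (iv F60920)) (tt N7208 F57599) (tt N7862 F57600) (tt N7362 F57601) (tt N8838 (iv F60399)) (tt N7211 F57602) (tt N8957 D15415) (tt N7207 (iv D14586)))
theorem Q8130 : ∀ i, i < 8130 → P i := stepQ 8129 Q8129 (allL N8129 (tt N7365 F57603) (tt N7222 F57604) (tt N8957 (iv F60926)) (tt N7264 F57605) (tt N7363 F57606) (tt N8906 (iv F60658)) (tt N7213 F57607) (tt N7208 (iv D14587)) (tt N7373 F57608))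
theorem Q8131 : ∀ i, i < 8131 → P i := stepQ 8130 Q8130 (allL N8130 (tt N7209 (iv D14588)) (tt N7256 F57609) (tt N7223 F57610) (tt N7865 F57611) (tt N8696 (iv F59716)) (tt N7259 F57612) (tt N8712 (iv F59795)) (tt N8713 (iv F59803)) (tt N8958 D15416))
theorem Q8132 : ∀ i, i < 8132 → P i := stepQ 8131 Q8131 (allL N8131 (tt N8958 (iv F60930)) (tt N7211 F57613) (tt N7224 F57614) (tt N7867 F57615) (tt N8812 (iv F60285)) (tt N7705 F57616) (tt N8956 (iv F60924)) (tt N8959 D15417) (tt N7209 (iv D14589)))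
theorem Q8133 : ∀ i, i < 8133 → P i := stepQ 8132 Q8132 (allL N8132 (tt N7368 F57617) (tt N8797 (iv F60230)) (tt N7214 F57618) (tt N7210 (iv D14590)) (tt N7868 F57619) (tt N8799 (iv F60241)) (tt N7358 F57620) (tt N7960 F57621) (tt N8960 D15418))
theorem Q8134 : ∀ i, i < 8134 → P i := stepQ 8133 Q8133 (allL N8133 (tt N7370 F57622) (tt N8812 (iv F60283)) (tt N7212 F57623) (tt N8960 (iv F60940)) (tt N7211 F57624) (tt N8814 (iv F60298)) (tt N7362 F57625) (tt N8961 D15419) (tt N7210 (iv D14591)))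
theorem Q8135 : ∀ i, i < 8135 → P i := stepQ 8134 Q8134 (allL N8134 (tt N7371 F57626) (tt N8959 (iv F60935)) (tt N7213 F57627) (tt N8962 D15420) (tt N8961 (iv F60945)) (tt N7709 F57628) (tt N8957 (iv F60928)) (tt N7211 (iv D14592)) (tt N8955 (iv F60919)))
theorem Q8136 : ∀ i, i < 8136 → P i := stepQ 8135 Q8135 (allL N8135 (tt N7373 F57629) (tt N7226 F57630) (tt N8961 (iv F60944)) (tt N7411 F57631) (tt N7213 F57632) (tt N8895 (iv F60594)) (tt N7363 F57633) (tt N7212 (iv D14593)) (tt N7365 F57634))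
theorem Q8137 : ∀ i, i < 8137 → P i := stepQ 8136 Q8136 (allL N8136 (tt N7376 F57635) (tt N7514 F57636) (tt N8960 (iv F60939)) (tt N7215 F57637) (tt N7878 F57638) (tt N8940 (iv F60842)) (tt N7360 F57639) (tt N8963 D15421) (tt N7214 (iv D14594)))
theorem Q8138 : ∀ i, i < 8138 → P i := stepQ 8137 Q8137 (allL N8137 (tt N7379 F57640) (tt N7691 F57641) (tt N7722 F57642) (tt N8939 (iv F60835)) (tt N7216 (iv D14595)) (tt N7885 F57643) (tt N7660 F57644) (tt N7658 F57645) (tt N8393 (iv F58558)))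
theorem Q8139 : ∀ i, i < 8139 → P i := stepQ 8138 Q8138 (allL N8138 (tt N8760 (iv F60014)) (tt N7221 F57646) (tt N8956 (iv F60921)) (tt N7227 F57647) (tt N7387 F57648) (tt N8763 (iv F60037)) (tt N7224 F57649) (tt N8964 D15422) (tt N7220 (iv D14596)))
theorem Q8140 : ∀ i, i < 8140 → P i := stepQ 8139 Q8139 (allL N8139 (tt N7232 F57650) (tt N8964 (iv F60958)) (tt N7222 F57651) (tt N8965 D15423) (tt N7388 F57652) (tt N8791 (iv F60195)) (tt N7225 F57653) (tt N7221 (iv D14597)) (tt N7393 F57654))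
theorem Q8141 : ∀ i, i < 8141 → P i := stepQ 8140 Q8140 (allL N8140 (tt N7224 F57655) (tt N7233 F57656) (tt N8958 (iv F60932)) (tt N7229 F57657) (tt N8697 (iv F59723)) (tt N7312 F57658) (tt N8760 (iv F60019)) (tt N8966 D15424) (tt N7223 (iv D14598)))
theorem Q8142 : ∀ i, i < 8142 → P i := stepQ 8141 Q8141 (allL N8141 (tt N8966 (iv F60968)) (tt N7225 F57659) (tt N8959 (iv F60936)) (tt N8967 D15425) (tt N8813 (iv F60290)) (tt N7734 F57660) (tt N8964 (iv F60960)) (tt N7224 (iv D14599)) (tt N8837 (iv F60394)))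
theorem Q8143 : ∀ i, i < 8143 → P i := stepQ 8142 Q8142 (allL N8142 (tt N7235 F57661) (tt N8967 (iv F60971)) (tt N7324 F57662) (tt N7225 (iv D14600)) (tt N8901 (iv F60627)) (tt N7736 F57663) (tt N8965 (iv F60965)) (tt N7231 F57664) (tt N8905 (iv F60653)))
theorem Q8144 : ∀ i, i < 8144 → P i := stepQ 8143 Q8143 (allL N8143 (tt N7793 F57665) (tt N7228 F57666) (tt N7926 F57667) (tt N8968 D15426) (tt N7729 F57668) (tt N8662 (iv F59595)) (tt N7230 F57669) (tt N7227 (iv D14601)) (tt N8143 F57670))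
theorem Q8145 : ∀ i, i < 8145 → P i := stepQ 8144 Q8144 (allL N8144 (tt N7236 F57671) (tt N8968 (iv F60975)) (tt N7332 F57672) (tt N7228 (iv D14602)) (tt N7740 F57673) (tt N8777 (iv F60110)) (tt N7231 F57674) (tt N8965 (iv F60966)) (tt N8144 F57675))
theorem Q8146 : ∀ i, i < 8146 → P i := stepQ 8145 Q8145 (allL N8145 (tt N7230 F57676) (tt N7237 F57677) (tt N7928 F57678) (tt N8969 D15427) (tt N7791 F57679) (tt N7331 F57680) (tt N7793 F57681) (tt N7229 (iv D14603)) (tt N8145 F57682))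
theorem Q8147 : ∀ i, i < 8147 → P i := stepQ 8146 Q8146 (allL N8146 (tt N8969 (iv F60979)) (tt N7231 F57683) (tt N8970 D15428) (tt N7230 (iv D14604)) (tt N8971 D15429) (tt N7742 F57684) (tt N8968 (iv F60977)) (tt N8967 (iv F60973)) (tt N8146 F57685))
theorem Q8148 : ∀ i, i < 8148 → P i := stepQ 8147 Q8147 (allL N8147 (tt N7239 F57686) (tt N8971 (iv F60990)) (tt N7335 F57687) (tt N7739 F57688) (tt N7231 (iv D14605)) (tt N8796 (iv F60227)) (tt N7740 F57689) (tt N8901 (iv F60629)) (tt N8147 F57690))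
theorem Q8149 : ∀ i, i < 8149 → P i := stepQ 8148 Q8148 (allL N8148 (tt N8965 (iv F60962)) (tt N7807 F57691) (tt N7345 F57692) (tt N7232 (iv D14606)) (tt N7748 F57693) (tt N8792 (iv F60201)) (tt N7235 F57694) (tt N7236 F57695) (tt N7396 F57696))
theorem Q8150 : ∀ i, i < 8150 → P i := stepQ 8149 Q8149 (allL N8149 (tt N7234 F57697) (tt N8966 (iv F60969)) (tt N7310 F57698) (tt N8972 D15430) (tt N8749 (iv F59955)) (tt N7314 F57699) (tt N8761 (iv F60025)) (tt N7233 (iv D14607)) (tt N8762 (iv F60032)))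
theorem Q8151 : ∀ i, i < 8151 → P i := stepQ 8150 Q8150 (allL N8150 (tt N8972 (iv F60994)) (tt N7235 F57700) (tt N8792 (iv F60199)) (tt N7234 (iv D14608)) (tt N7805 F57701) (tt N7345 F57702) (tt N7807 F57703) (tt N7238 F57704) (tt N8790 (iv F60191)))
theorem Q8152 : ∀ i, i < 8152 → P i := stepQ 8151 Q8151 (allL N8151 (tt N7238 F57705) (tt N8969 (iv F60980)) (tt N8777 (iv F60108)) (tt N7237 (iv D14609)) (tt N7799 F57706) (tt N7332 F57707) (tt N7801 F57708) (tt N8972 (iv F60998)) (tt N8151 F57709))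
theorem Q8153 : ∀ i, i < 8153 → P i := stepQ 8152 Q8152 (allL N8152 (tt N7397 F57710) (tt N8152 F57711) (tt N8973 D15431) (tt N7240 (iv D14610)) (tt N8515 (iv F59085)) (tt N7241 F57712) (tt N8287 (iv F58214)) (tt N8109 F57713) (tt N8974 D15432))
theorem Q8154 : ∀ i, i < 8154 → P i := stepQ 8153 Q8153 (allL N8153 (tt N7398 F57714) (tt N8153 F57715) (tt N7247 F57716) (tt N8974 (iv F61005)) (tt N7384 F57717) (tt N7242 F57718) (tt N8518 (iv F59104)) (tt N7377 F57719) (tt N7240 (iv D14611)))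
theorem Q8155 : ∀ i, i < 8155 → P i := stepQ 8154 Q8154 (allL N8154 (tt N7399 F57720) (tt N8975 D15433) (tt N7241 (iv D14612)) (tt N7248 F57721) (tt N8976 D15434) (tt N8973 (iv F61001)) (tt N7243 F57722) (tt N8309 (iv F58307)) (tt N8977 D15435))
theorem Q8156 : ∀ i, i < 8156 → P i := stepQ 8155 Q8155 (allL N8155 (tt N7400 F57723) (tt N8155 F57724) (tt N8976 (iv F61012)) (tt N7601 F57725) (tt N7241 (iv D14613)) (tt N8516 (iv F59090)) (tt N7244 F57726) (tt N8426 (iv F58683)) (tt N8978 D15436))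
theorem Q8157 : ∀ i, i < 8157 → P i := stepQ 8156 Q8156 (allL N8156 (tt N7401 F57727) (tt N8156 F57728) (tt N8977 (iv F61016)) (tt N7242 F57729) (tt N8978 (iv F61022)) (tt N8974 (iv F61006)) (tt N7245 F57730) (tt N8979 D15437) (tt N7241 (iv D14614)))
theorem Q8158 : ∀ i, i < 8158 → P i := stepQ 8157 Q8157 (allL N8157 (tt N8980 D15438) (tt N7243 (iv D14615)) (tt N8157 F57731) (tt N7250 F57732) (tt N8981 D15439) (tt N8690 (iv F59691)) (tt N8975 (iv F61010)) (tt N8559 (iv F59273)) (tt N8982 D15440))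
theorem Q8159 : ∀ i, i < 8159 → P i := stepQ 8158 Q8158 (allL N8158 (tt N7403 F57733) (tt N8981 (iv F61033)) (tt N7244 F57734) (tt N8983 D15441) (tt N7243 (iv D14616)) (tt N8984 D15442) (tt N8976 (iv F61014)) (tt N8560 (iv F59276)) (tt N8985 D15443))
theorem Q8160 : ∀ i, i < 8160 → P i := stepQ 8159 Q8159 (allL N8159 (tt N7404 F57735) (tt N8982 (iv F61035)) (tt N7245 F57736) (tt N7252 F57737) (tt N8985 (iv F61046)) (tt N8692 (iv F59699)) (tt N8977 (iv F61018)) (tt N8986 D15444) (tt N7243 (iv D14617)))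
theorem Q8161 : ∀ i, i < 8161 → P i := stepQ 8160 Q8160 (allL N8160 (tt N7405 F57738) (tt N8160 F57739) (tt N8984 (iv F61043)) (tt N7603 F57740) (tt N8693 (iv F59703)) (tt N7244 (iv D14618)) (tt N8520 (iv F59115)) (tt N8562 (iv F59284)) (tt N8987 D15445))
theorem Q8162 : ∀ i, i < 8162 → P i := stepQ 8161 Q8161 (allL N8161 (tt N7406 F57741) (tt N8161 F57742) (tt N8985 (iv F61045)) (tt N7604 F57743) (tt N7245 F57744) (tt N8987 (iv F61052)) (tt N8978 (iv F61023)) (tt N8988 D15446) (tt N7244 (iv D14619)))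
theorem Q8163 : ∀ i, i < 8163 → P i := stepQ 8162 Q8162 (allL N8162 (tt N7407 F57745) (tt N8162 F57746) (tt N8986 (iv F61048)) (tt N8954 (iv F60909)) (tt N8988 (iv F61055)) (tt N8695 (iv F59713)) (tt N8979 (iv F61027)) (tt N7245 (iv D14620)) (tt N8564 (iv F59291)))
theorem Q8164 : ∀ i, i < 8164 → P i := stepQ 8163 Q8163 (allL N8163 (tt N7361 F57747) (tt N8713 (iv F59799)) (tt N7246 (iv D14621)) (tt N8973 (iv F61000)) (tt N8712 F59797) (tt N7248 F57748) (tt N8696 (iv F59718)) (tt N7256 F57749) (tt N8989 D15447))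
theorem Q8165 : ∀ i, i < 8165 → P i := stepQ 8164 Q8164 (allL N8164 (tt N7387 F57750) (tt N7298 F57751) (tt N8989 (iv F61057)) (tt N7247 F57752) (tt N8760 (iv F60017)) (tt N7249 F57753) (tt N8697 (iv F59725)) (tt N8990 D15448) (tt N7246 (iv D14622)))
theorem Q8166 : ∀ i, i < 8166 → P i := stepQ 8165 Q8165 (allL N8165 (tt N7699 F57754) (tt N7248 (iv D14623)) (tt N7299 F57755) (tt N8975 (iv F61009)) (tt N7668 F57756) (tt N8713 (iv F59801)) (tt N7250 F57757) (tt N7259 F57758) (tt N8991 D15449))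
theorem Q8167 : ∀ i, i < 8167 → P i := stepQ 8166 Q8166 (allL N8166 (tt N7409 F57759) (tt N8991 (iv F61065)) (tt N7249 F57760) (tt N8977 (iv F61017)) (tt N7466 F57761) (tt N8989 (iv F61058)) (tt N7252 F57762) (tt N8992 D15450) (tt N7248 (iv D14624)))
theorem Q8168 : ∀ i, i < 8168 → P i := stepQ 8167 Q8167 (allL N8167 (tt N7411 F57763) (tt N7301 F57764) (tt N8992 (iv F61070)) (tt N7373 F57765) (tt N7444 F57766) (tt N8990 (iv F61062)) (tt N7255 F57767) (tt N7249 (iv D14625)) (tt N7264 F57768))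
theorem Q8169 : ∀ i, i < 8169 → P i := stepQ 8168 Q8168 (allL N8168 (tt N7250 (iv D14626)) (tt N7412 F57769) (tt N7302 F57770) (tt N8980 (iv F61030)) (tt N8844 (iv F60427)) (tt N8703 (iv F59754)) (tt N7699 F57771) (tt N7265 F57772) (tt N8993 D15451))
theorem Q8170 : ∀ i, i < 8170 → P i := stepQ 8169 Q8169 (allL N8169 (tt N8844 (iv F60424)) (tt N7251 F57773) (tt N7303 F57774) (tt N8994 D15452) (tt N7250 (iv D14627)) (tt N8731 (iv F59884)) (tt N7668 F57775) (tt N7266 F57776) (tt N8995 D15453))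
theorem Q8171 : ∀ i, i < 8171 → P i := stepQ 8170 Q8170 (allL N8170 (tt N8993 (iv F61074)) (tt N7252 F57777) (tt N7304 F57778) (tt N8982 (iv F61037)) (tt N8995 (iv F61083)) (tt N8705 (iv F59766)) (tt N8991 (iv F61068)) (tt N8996 D15454) (tt N7250 (iv D14628)))
theorem Q8172 : ∀ i, i < 8172 → P i := stepQ 8171 Q8171 (allL N8171 (tt N7415 F57779) (tt N8994 (iv F61078)) (tt N7606 F57780) (tt N7251 (iv D14629)) (tt N8983 (iv F61040)) (tt N8997 D15455) (tt N7665 F57781) (tt N8998 D15456) (tt N8999 D15457))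
theorem Q8173 : ∀ i, i < 8173 → P i := stepQ 8172 Q8172 (allL N8172 (tt N7416 F57782) (tt N8731 (iv F59881)) (tt N7253 F57783) (tt N8997 (iv F61090)) (tt N8707 (iv F59772)) (tt N7251 (iv D14630)) (tt N8725 (iv F59861)) (tt N7269 F57784) (tt N9000 D15458))
theorem Q8174 : ∀ i, i < 8174 → P i := stepQ 8173 Q8173 (allL N8173 (tt N7417 F57785) (tt N8995 (iv F61081)) (tt N7254 F57786) (tt N8999 (iv F61097)) (tt N7252 F57787) (tt N9000 (iv F61101)) (tt N7466 F57788) (tt N9001 D15459) (tt N7251 (iv D14631)))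
theorem Q8175 : ∀ i, i < 8175 → P i := stepQ 8174 Q8174 (allL N8174 (tt N7418 F57789) (tt N8996 (iv F61085)) (tt N7255 F57790) (tt N9002 D15460) (tt N9001 (iv F61104)) (tt N8709 (iv F59780)) (tt N8992 (iv F61072)) (tt N7252 (iv D14632)) (tt N7271 F57791))
theorem Q8176 : ∀ i, i < 8176 → P i := stepQ 8175 Q8175 (allL N8175 (tt N7420 F57792) (tt N7307 F57793) (tt N9000 (iv F61100)) (tt N7453 F57794) (tt N8710 (iv F59785)) (tt N7254 F57795) (tt N8769 (iv F60068)) (tt N9003 D15461) (tt N7253 (iv D14633)))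
theorem Q8177 : ∀ i, i < 8177 → P i := stepQ 8176 Q8176 (allL N8176 (tt N7421 F57796) (tt N7308 F57797) (tt N9001 (iv F61103)) (tt N7428 F57798) (tt N7255 F57799) (tt N9003 (iv F61112)) (tt N7444 F57800) (tt N7254 (iv D14634)) (tt N7274 F57801))
theorem Q8178 : ∀ i, i < 8178 → P i := stepQ 8177 Q8177 (allL N8177 (tt N7366 F57802) (tt N8696 (iv F59715)) (tt N7257 F57803) (tt N9004 D15462) (tt N7256 (iv D14635)) (tt N8698 (iv F59728)) (tt N8713 (iv F59802)) (tt N8712 (iv F59796)) (tt N9005 D15463))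
theorem Q8179 : ∀ i, i < 8179 → P i := stepQ 8178 Q8178 (allL N8178 (tt N7367 F57804) (tt N8958 (iv F60931)) (tt N7258 F57805) (tt N8001 F57806) (tt N9005 (iv F61119)) (tt N7261 F57807) (tt N8714 (iv F59807)) (tt N9006 D15464) (tt N7256 (iv D14636)))
theorem Q8180 : ∀ i, i < 8180 → P i := stepQ 8179 Q8179 (allL N8179 (tt N7390 F57808) (tt N7309 F57809) (tt N9005 (iv F61118)) (tt N8179 F57810) (tt N7258 F57811) (tt N8750 (iv F59963)) (tt N8715 (iv F59813)) (tt N9007 D15465) (tt N7257 (iv D14637)))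
theorem Q8181 : ∀ i, i < 8181 → P i := stepQ 8180 Q8180 (allL N8180 (tt N7391 F57812) (tt N7310 F57813) (tt N9006 (iv F61121)) (tt N8906 (iv F60656)) (tt N9007 (iv F61125)) (tt N7264 F57814) (tt N8716 (iv F59818)) (tt N7258 (iv D14638)) (tt N8990 (iv F61063)))
theorem Q8182 : ∀ i, i < 8182 → P i := stepQ 8181 Q8181 (allL N8181 (tt N7704 F57815) (tt N7260 F57816) (tt N7311 F57817) (tt N9008 D15466) (tt N7259 (iv D14639)) (tt N8699 (iv F59735)) (tt N7266 F57818) (tt N7668 F57819) (tt N9009 D15467))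
theorem Q8183 : ∀ i, i < 8183 → P i := stepQ 8182 Q8182 (allL N8182 (tt N7705 F57820) (tt N7261 F57821) (tt N7312 F57822) (tt N8190 (iv F57854)) (tt N9009 (iv F61133)) (tt N8958 (iv F60934)) (tt N7267 F57823) (tt N9010 D15468) (tt N7259 (iv D14640)))
theorem Q8184 : ∀ i, i < 8184 → P i := stepQ 8183 Q8183 (allL N8183 (tt N7422 F57824) (tt N9008 (iv F61127)) (tt N7275 F57825) (tt N7260 (iv D14641)) (tt N8346 (iv F58412)) (tt N9011 D15469) (tt N7268 F57826) (tt N9012 D15470) (tt N9013 D15471))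
theorem Q8185 : ∀ i, i < 8185 → P i := stepQ 8184 Q8184 (allL N8184 (tt N7423 F57827) (tt N8699 (iv F59733)) (tt N7262 F57828) (tt N9011 (iv F61141)) (tt N8698 F59731) (tt N7260 (iv D14642)) (tt N8704 (iv F59761)) (tt N7667 F57829) (tt N9014 D15472))
theorem Q8186 : ∀ i, i < 8186 → P i := stepQ 8185 Q8185 (allL N8185 (tt N7424 F57830) (tt N9009 (iv F61131)) (tt N7263 F57831) (tt N9013 (iv F61148)) (tt N7261 F57832) (tt N9014 (iv F61152)) (tt N7270 F57833) (tt N9015 D15473) (tt N7260 (iv D14643)))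
theorem Q8187 : ∀ i, i < 8187 → P i := stepQ 8186 Q8186 (allL N8186 (tt N7425 F57834) (tt N9010 (iv F61136)) (tt N7264 F57835) (tt N9016 D15474) (tt N9015 (iv F61155)) (tt N9006 (iv F61122)) (tt N7271 F57836) (tt N7261 (iv D14644)) (tt N8992 (iv F61073)))
theorem Q8188 : ∀ i, i < 8188 → P i := stepQ 8187 Q8187 (allL N8187 (tt N7427 F57837) (tt N7315 F57838) (tt N9014 (iv F61151)) (tt N7279 F57839) (tt N8750 (iv F59962)) (tt N7263 F57840) (tt N8754 (iv F59988)) (tt N9017 D15475) (tt N7262 (iv D14645)))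
theorem Q8189 : ∀ i, i < 8189 → P i := stepQ 8188 Q8188 (allL N8188 (tt N7428 F57841) (tt N7316 F57842) (tt N9015 (iv F61154)) (tt N7421 F57843) (tt N7264 F57844) (tt N9017 (iv F61163)) (tt N7274 F57845) (tt N7263 (iv D14646)) (tt N7444 F57846))
theorem Q8190 : ∀ i, i < 8190 → P i := stepQ 8189 Q8189 (allL N8189 (tt N7266 F57847) (tt N7429 F57848) (tt N7317 F57849) (tt N9018 D15476) (tt N7265 (iv D14647)) (tt N8827 (iv F60351)) (tt N7704 F57850) (tt N8844 (iv F60429)) (tt N9019 D15477))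
theorem Q8191 : ∀ i, i < 8191 → P i := stepQ 8190 Q8190 (allL N8190 (tt N7267 F57851) (tt N7430 F57852) (tt N7318 F57853) (tt N8182 F57854) (tt N9019 (iv F61173)) (tt N8723 (iv F59853)) (tt N7705 F57855) (tt N9020 D15478) (tt N7265 (iv D14648)))
theorem Q8192 : ∀ i, i < 8192 → P i := stepQ 8191 Q8191 (allL N8191 (tt N9018 (iv F61165)) (tt N7268 F57856) (tt N8191 F57857) (tt N7266 (iv D14649)) (tt N8570 (iv F59308)) (tt N9021 D15479) (tt N9008 (iv F61129)) (tt N9022 D15480) (tt N9023 D15481))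
theorem Q8193 : ∀ i, i < 8193 → P i := stepQ 8192 Q8192 (allL N8192 (tt N8827 (iv F60347)) (tt N7269 F57858) (tt N7319 F57859) (tt N9021 (iv F61181)) (tt N8725 (iv F59860)) (tt N7266 (iv D14650)) (tt N8707 (iv F59773)) (tt N8731 (iv F59885)) (tt N9024 D15482))
theorem Q8194 : ∀ i, i < 8194 → P i := stepQ 8193 Q8193 (allL N8193 (tt N9019 (iv F61170)) (tt N7270 F57860) (tt N7320 F57861) (tt N9023 (iv F61186)) (tt N7267 F57862) (tt N9024 (iv F61189)) (tt N9009 (iv F61134)) (tt N9025 D15483) (tt N7266 (iv D14651)))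
theorem Q8195 : ∀ i, i < 8195 → P i := stepQ 8194 Q8194 (allL N8194 (tt N9020 (iv F61175)) (tt N7271 F57863) (tt N7321 F57864) (tt N9026 D15484) (tt N9025 (iv F61192)) (tt N8727 (iv F59869)) (tt N9010 (iv F61138)) (tt N7267 (iv D14652)) (tt N8996 (iv F61087)))
theorem Q8196 : ∀ i, i < 8196 → P i := stepQ 8195 Q8195 (allL N8195 (tt N7435 F57865) (tt N9021 (iv F61179)) (tt N7280 F57866) (tt N7269 F57867) (tt N9027 D15485) (tt N7268 (iv D14653)) (tt N9028 D15486) (tt N9029 D15487) (tt N9030 D15488))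
theorem Q8197 : ∀ i, i < 8197 → P i := stepQ 8196 Q8196 (allL N8196 (tt N7436 F57868) (tt N9022 (iv F61182)) (tt N7281 F57869) (tt N8998 (iv F61093)) (tt N8574 (iv F59319)) (tt N9029 (iv F61203)) (tt N9012 (iv F61145)) (tt N7268 (iv D14654)) (tt N9031 D15489))
theorem Q8198 : ∀ i, i < 8198 → P i := stepQ 8197 Q8197 (allL N8197 (tt N7437 F57870) (tt N9023 (iv F61184)) (tt N7282 F57871) (tt N7270 F57872) (tt N8575 (iv F59323)) (tt N9030 (iv F61208)) (tt N9013 (iv F61149)) (tt N9032 D15490) (tt N7268 (iv D14655)))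
theorem Q8199 : ∀ i, i < 8199 → P i := stepQ 8198 Q8198 (allL N8198 (tt N7438 F57873) (tt N8707 (iv F59770)) (tt N7272 F57874) (tt N9028 (iv F61198)) (tt N8731 (iv F59883)) (tt N8704 F59763) (tt N7269 (iv D14656)) (tt N8725 (iv F59862)) (tt N9033 D15491))
theorem Q8200 : ∀ i, i < 8200 → P i := stepQ 8199 Q8199 (allL N8199 (tt N7439 F57875) (tt N9024 (iv F61187)) (tt N7273 F57876) (tt N9030 (iv F61207)) (tt N8732 (iv F59888)) (tt N7270 F57877) (tt N9033 (iv F61215)) (tt N9034 D15492) (tt N7269 (iv D14657)))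
theorem Q8201 : ∀ i, i < 8201 → P i := stepQ 8200 Q8200 (allL N8200 (tt N7440 F57878) (tt N9025 (iv F61190)) (tt N7274 F57879) (tt N9035 D15493) (tt N7271 F57880) (tt N9034 (iv F61218)) (tt N9015 (iv F61156)) (tt N7270 (iv D14658)) (tt N9001 (iv F61106)))
theorem Q8202 : ∀ i, i < 8202 → P i := stepQ 8201 Q8201 (allL N8201 (tt N7441 F57881) (tt N9026 (iv F61193)) (tt N8962 (iv F60949)) (tt N7271 (iv D14659)) (tt N9036 D15494) (tt N8734 (iv F59895)) (tt N9016 (iv F61159)) (tt N8578 (iv F59331)) (tt N9002 (iv F61108)))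
theorem Q8203 : ∀ i, i < 8203 → P i := stepQ 8202 Q8202 (allL N8202 (tt N7442 F57882) (tt N7325 F57883) (tt N9033 (iv F61214)) (tt N7287 F57884) (tt N8735 (iv F59899)) (tt N8754 (iv F59987)) (tt N7273 F57885) (tt N9037 D15495) (tt N7272 (iv D14660)))
theorem Q8204 : ∀ i, i < 8204 → P i := stepQ 8203 Q8203 (allL N8203 (tt N7443 F57886) (tt N7326 F57887) (tt N9034 (iv F61217)) (tt N9038 D15496) (tt N8736 (iv F59904)) (tt N7274 F57888) (tt N9037 (iv F61223)) (tt N7273 (iv D14661)) (tt N9003 (iv F61113)))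
theorem Q8205 : ∀ i, i < 8205 → P i := stepQ 8204 Q8204 (allL N8204 (tt N7444 F57889) (tt N7327 F57890) (tt N9039 D15497) (tt N7274 (iv D14662)) (tt N7411 F57891) (tt N9038 (iv F61226)) (tt N7421 F57892) (tt N7289 F57893) (tt N7428 F57894))
theorem Q8206 : ∀ i, i < 8206 → P i := stepQ 8205 Q8205 (allL N8205 (tt N7445 F57895) (tt N8205 F57896) (tt N9011 (iv F61140)) (tt N7276 F57897) (tt N9040 D15498) (tt N7275 (iv D14663)) (tt N9041 D15499) (tt N9042 D15500) (tt N9043 D15501))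
theorem Q8207 : ∀ i, i < 8207 → P i := stepQ 8206 Q8206 (allL N8206 (tt N7446 F57898) (tt N8206 F57899) (tt N9012 (iv F61143)) (tt N7613 F57900) (tt N8438 (iv F58728)) (tt N9042 (iv F61250)) (tt N7281 F57901) (tt N7275 (iv D14664)) (tt N9044 D15502))
theorem Q8208 : ∀ i, i < 8208 → P i := stepQ 8207 Q8207 (allL N8207 (tt N7447 F57902) (tt N8207 F57903) (tt N9013 (iv F61147)) (tt N7277 F57904) (tt N8439 (iv F58733)) (tt N9043 (iv F61255)) (tt N7282 F57905) (tt N9045 D15503) (tt N7275 (iv D14665)))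
theorem Q8209 : ∀ i, i < 8209 → P i := stepQ 8208 Q8208 (allL N8208 (tt N7448 F57906) (tt N8208 F57907) (tt N7278 F57908) (tt N9041 (iv F61242)) (tt N8208 F57909) (tt N7283 F57910) (tt N7276 (iv D14666)) (tt N7614 F57911) (tt N9046 D15504))
theorem Q8210 : ∀ i, i < 8210 → P i := stepQ 8209 Q8209 (allL N8209 (tt N7449 F57912) (tt N8209 F57913) (tt N7279 F57914) (tt N9043 (iv F61254)) (tt N8209 F57915) (tt N7277 F57916) (tt N9046 (iv F61269)) (tt N7647 F57917) (tt N7276 (iv D14667)))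
theorem Q8211 : ∀ i, i < 8211 → P i := stepQ 8210 Q8210 (allL N8210 (tt N7452 F57918) (tt N7328 F57919) (tt N9046 (iv F61266)) (tt N8754 (iv F59985)) (tt N8210 F57920) (tt N7287 F57921) (tt N7279 F57922) (tt N7648 F57923) (tt N7278 (iv D14668)))
theorem Q8212 : ∀ i, i < 8212 → P i := stepQ 8211 Q8211 (allL N8211 (tt N7454 F57924) (tt N8211 F57925) (tt N9027 (iv F61195)) (tt N7290 F57926) (tt N7280 (iv D14669)) (tt N8581 (iv F59341)) (tt N8213 (iv F57936)) (tt N8212 F57930) (tt N9047 D15505))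
theorem Q8213 : ∀ i, i < 8213 → P i := stepQ 8212 Q8212 (allL N8212 (tt N7455 F57927) (tt N8212 F57928) (tt N9028 (iv F61197)) (tt N7283 F57929) (tt N8213 (iv F57934)) (tt N9041 (iv F61244)) (tt N7280 (iv D14670)) (tt N8211 (iv F57930)) (tt N9048 D15506))
theorem Q8214 : ∀ i, i < 8214 → P i := stepQ 8213 Q8213 (allL N8213 (tt N7456 F57931) (tt N8213 F57932) (tt N9029 (iv F61201)) (tt N7617 F57933) (tt N8212 F57934) (tt N7281 F57935) (tt N8211 F57936) (tt N7280 (iv D14671)) (tt N9049 D15507))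
theorem Q8215 : ∀ i, i < 8215 → P i := stepQ 8214 Q8214 (allL N8214 (tt N7457 F57937) (tt N8214 F57938) (tt N9030 (iv F61206)) (tt N7284 F57939) (tt N9047 (iv F61274)) (tt N7282 F57940) (tt N9048 (iv F61278)) (tt N9050 D15508) (tt N7280 (iv D14672)))
theorem Q8216 : ∀ i, i < 8216 → P i := stepQ 8215 Q8215 (allL N8215 (tt N7458 F57941) (tt N8215 F57942) (tt N9031 (iv F61210)) (tt N7619 F57943) (tt N8585 (iv F59356)) (tt N9049 (iv F61283)) (tt N9044 (iv F61259)) (tt N9051 D15509) (tt N7281 (iv D14673)))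
theorem Q8217 : ∀ i, i < 8217 → P i := stepQ 8216 Q8216 (allL N8216 (tt N7459 F57944) (tt N8216 F57945) (tt N9032 (iv F61212)) (tt N9052 D15510) (tt N8586 (iv F59359)) (tt N9050 (iv F61287)) (tt N9045 (iv F61263)) (tt N7282 (iv D14674)) (tt N9051 (iv F61290)))
theorem Q8218 : ∀ i, i < 8218 → P i := stepQ 8217 Q8217 (allL N8217 (tt N7460 F57946) (tt N8217 F57947) (tt N7287 F57948) (tt N9048 (iv F61277)) (tt N7294 F57949) (tt N9046 (iv F61268)) (tt N7284 F57950) (tt N9053 D15511) (tt N7283 (iv D14675)))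
theorem Q8219 : ∀ i, i < 8219 → P i := stepQ 8218 Q8218 (allL N8218 (tt N7461 F57951) (tt N8218 F57952) (tt N7288 F57953) (tt N9054 D15512) (tt N7295 F57954) (tt N7285 F57955) (tt N9053 (iv F61300)) (tt N7284 (iv D14676)) (tt N7622 F57956))
theorem Q8220 : ∀ i, i < 8220 → P i := stepQ 8219 Q8219 (allL N8219 (tt N7462 F57957) (tt N8219 F57958) (tt N9055 D15513) (tt N7285 (iv D14677)) (tt N9056 D15514) (tt N9054 (iv F61305)) (tt N7645 F57959) (tt N9052 (iv F61294)) (tt N7623 F57960))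
theorem Q8221 : ∀ i, i < 8221 → P i := stepQ 8220 Q8220 (allL N8220 (tt N7463 F57961) (tt N8220 F57962) (tt N7634 F57963) (tt N9056 (iv F61314)) (tt N7286 (iv D14678)) (tt N8291 (iv F58228)) (tt N7638 F57964) (tt N8590 (iv F59379)) (tt N7624 F57965))
theorem Q8222 : ∀ i, i < 8222 → P i := stepQ 8221 Q8221 (allL N8221 (tt N7464 F57966) (tt N7329 F57967) (tt N9053 (iv F61297)) (tt N8767 (iv F60056)) (tt N7296 F57968) (tt N7648 F57969) (tt N7288 F57970) (tt N7287 (iv D14679)) (tt N7625 F57971))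
theorem Q8223 : ∀ i, i < 8223 → P i := stepQ 8222 Q8222 (allL N8222 (tt N7465 F57972) (tt N7330 F57973) (tt N9057 D15515) (tt N7288 (iv D14680)) (tt N8763 (iv F60036)) (tt N7289 F57974) (tt N8767 (iv F60059)) (tt N9038 (iv F61227)) (tt N7410 F57975))
theorem Q8224 : ∀ i, i < 8224 → P i := stepQ 8223 Q8223 (allL N8223 (tt N7466 F57976) (tt N7758 F57977) (tt N7289 (iv D14681)) (tt N9055 (iv F61308)) (tt N7409 F57978) (tt N9057 (iv F61320)) (tt N7417 F57979) (tt N9039 (iv F61233)) (tt N7408 F57980))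
theorem Q8225 : ∀ i, i < 8225 → P i := stepQ 8224 Q8224 (allL N8224 (tt N7467 F57981) (tt N8224 F57982) (tt N8657 (iv F59560)) (tt N9047 (iv F61273)) (tt N7293 F57983) (tt N8594 (iv F59396)) (tt N8511 (iv F59066)) (tt N8294 (iv F58250)) (tt N7290 (iv D14682)))
theorem Q8226 : ∀ i, i < 8226 → P i := stepQ 8225 Q8225 (allL N8225 (tt N7468 F57984) (tt N8225 F57985) (tt N8658 (iv F59566)) (tt N7294 F57986) (tt N8511 (iv F59064)) (tt N8225 F57987) (tt N7293 F57988) (tt N8296 (iv F58264)) (tt N7291 (iv D14683)))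
theorem Q8227 : ∀ i, i < 8227 → P i := stepQ 8226 Q8226 (allL N8226 (tt N7471 F57989) (tt N8226 F57990) (tt N7296 F57991) (tt N8297 (iv F58267)) (tt N9053 (iv F61298)) (tt N8226 F57992) (tt N7295 F57993) (tt N7294 (iv D14684)) (tt N7628 F57994))
theorem Q8228 : ∀ i, i < 8228 → P i := stepQ 8227 Q8227 (allL N8227 (tt N7336 F57995) (tt N8990 (iv F61060)) (tt N8762 (iv F60028)) (tt N7394 F57996) (tt N8761 (iv F60023)) (tt N7301 F57997) (tt N8749 (iv F59957)) (tt N7298 (iv D14685)) (tt N7310 F57998))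
theorem Q8229 : ∀ i, i < 8229 → P i := stepQ 8228 Q8228 (allL N8228 (tt N7730 F57999) (tt N7300 F58000) (tt N8991 (iv F61066)) (tt N8228 F58001) (tt N7498 F58002) (tt N8715 (iv F59812)) (tt N7304 F58003) (tt N9058 D15516) (tt N7299 (iv D14686)))
theorem Q8230 : ∀ i, i < 8230 → P i := stepQ 8229 Q8229 (allL N8229 (tt N7337 F58004) (tt N9058 (iv F61323)) (tt N7301 F58005) (tt N9059 D15517) (tt N7496 F58006) (tt N8762 (iv F60030)) (tt N7306 F58007) (tt N7300 (iv D14687)) (tt N7314 F58008))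
theorem Q8231 : ∀ i, i < 8231 → P i := stepQ 8230 Q8230 (allL N8230 (tt N7304 F58009) (tt N7338 F58010) (tt N8993 (iv F61076)) (tt N8230 F58011) (tt N8848 (iv F60443)) (tt N8753 (iv F59981)) (tt N7730 F58012) (tt N9060 D15518) (tt N7302 (iv D14688)))
theorem Q8232 : ∀ i, i < 8232 → P i := stepQ 8231 Q8231 (allL N8231 (tt N8848 (iv F60440)) (tt N7305 F58013) (tt N8995 (iv F61082)) (tt N7593 F58014) (tt N7304 F58015) (tt N8735 (iv F59900)) (tt N7498 F58016) (tt N9061 D15519) (tt N7303 (iv D14689)))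
theorem Q8233 : ∀ i, i < 8233 → P i := stepQ 8232 Q8232 (allL N8232 (tt N9060 (iv F61332)) (tt N7306 F58017) (tt N8996 (iv F61086)) (tt N9062 D15520) (tt N9061 (iv F61338)) (tt N8755 (iv F59990)) (tt N9058 (iv F61325)) (tt N7304 (iv D14690)) (tt N7321 F58018))
theorem Q8234 : ∀ i, i < 8234 → P i := stepQ 8233 Q8233 (allL N8233 (tt N7340 F58019) (tt N9061 (iv F61336)) (tt N7308 F58020) (tt N7798 F58021) (tt N7306 F58022) (tt N8774 (iv F60093)) (tt N7496 F58023) (tt N7305 (iv D14691)) (tt N7323 F58024))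
theorem Q8235 : ∀ i, i < 8235 → P i := stepQ 8234 Q8234 (allL N8234 (tt N7341 F58025) (tt N9062 (iv F61341)) (tt N8905 (iv F60648)) (tt N7306 (iv D14692)) (tt N8919 (iv F60722)) (tt N8757 (iv F60001)) (tt N9059 (iv F61329)) (tt N8234 F58026) (tt N7324 F58027))
theorem Q8236 : ∀ i, i < 8236 → P i := stepQ 8235 Q8235 (allL N8235 (tt N7342 F58028) (tt N9003 (iv F61110)) (tt N8774 (iv F60090)) (tt N7484 F58029) (tt N8758 (iv F60006)) (tt N7308 F58030) (tt N8772 (iv F60081)) (tt N7307 (iv D14693)) (tt N7326 F58031))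
theorem Q8237 : ∀ i, i < 8237 → P i := stepQ 8236 Q8236 (allL N8236 (tt N7343 F58032) (tt N9007 (iv F61124)) (tt N8749 (iv F59953)) (tt N9063 D15521) (tt N7310 F58033) (tt N8751 (iv F59968)) (tt N8762 (iv F60031)) (tt N7309 (iv D14694)) (tt N8761 (iv F60026)))
theorem Q8238 : ∀ i, i < 8238 → P i := stepQ 8237 Q8237 (allL N8237 (tt N7733 F58034) (tt N7313 F58035) (tt N9009 (iv F61132)) (tt N8237 F58036) (tt N7312 F58037) (tt N8701 (iv F59745)) (tt N7320 F58038) (tt N9064 D15522) (tt N7311 (iv D14695)))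
theorem Q8239 : ∀ i, i < 8239 → P i := stepQ 8238 Q8238 (allL N8238 (tt N7734 F58039) (tt N7314 F58040) (tt N9010 (iv F61137)) (tt N9065 D15523) (tt N9064 (iv F61350)) (tt N8966 (iv F60970)) (tt N7321 F58041) (tt N7312 (iv D14696)) (tt N9058 (iv F61326)))
theorem Q8240 : ∀ i, i < 8240 → P i := stepQ 8239 Q8239 (allL N8239 (tt N7344 F58042) (tt N9064 (iv F61349)) (tt N7316 F58043) (tt N9066 D15524) (tt N7314 F58044) (tt N8752 (iv F59974)) (tt N7323 F58045) (tt N7313 (iv D14697)) (tt N7496 F58046))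
theorem Q8241 : ∀ i, i < 8241 → P i := stepQ 8240 Q8240 (allL N8240 (tt N7345 F58047) (tt N9065 (iv F61354)) (tt N8965 (iv F60963)) (tt N7314 (iv D14698)) (tt N9067 D15525) (tt N8972 (iv F60996)) (tt N7324 F58048) (tt N7332 F58049) (tt N9059 (iv F61331)))
theorem Q8242 : ∀ i, i < 8242 → P i := stepQ 8241 Q8241 (allL N8241 (tt N7346 F58050) (tt N9017 (iv F61161)) (tt N8752 (iv F59972)) (tt N7482 F58051) (tt N8751 (iv F59967)) (tt N7316 F58052) (tt N8756 (iv F59997)) (tt N7315 (iv D14699)) (tt N7495 F58053))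
theorem Q8243 : ∀ i, i < 8243 → P i := stepQ 8242 Q8242 (allL N8242 (tt N7320 F58054) (tt N7347 F58055) (tt N9019 (iv F61172)) (tt N8242 F58056) (tt N7318 F58057) (tt N8831 (iv F60366)) (tt N7733 F58058) (tt N9068 D15526) (tt N7317 (iv D14700)))
theorem Q8244 : ∀ i, i < 8244 → P i := stepQ 8243 Q8243 (allL N8243 (tt N7321 F58059) (tt N7348 F58060) (tt N9020 (iv F61177)) (tt N9069 D15527) (tt N9068 (iv F61369)) (tt N8768 (iv F60062)) (tt N7734 F58061) (tt N7318 (iv D14701)) (tt N9060 (iv F61335)))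
theorem Q8245 : ∀ i, i < 8245 → P i := stepQ 8244 Q8244 (allL N8244 (tt N8831 (iv F60362)) (tt N7322 F58062) (tt N9024 (iv F61188)) (tt N8244 F58063) (tt N8769 (iv F60066)) (tt N7320 F58064) (tt N8710 (iv F59787)) (tt N9070 D15528) (tt N7319 (iv D14702)))
theorem Q8246 : ∀ i, i < 8246 → P i := stepQ 8245 Q8245 (allL N8245 (tt N9068 (iv F61367)) (tt N7323 F58065) (tt N9025 (iv F61191)) (tt N9071 D15529) (tt N7321 F58066) (tt N9070 (iv F61376)) (tt N9064 (iv F61351)) (tt N7320 (iv D14703)) (tt N9061 (iv F61340)))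
theorem Q8247 : ∀ i, i < 8247 → P i := stepQ 8246 Q8246 (allL N8246 (tt N9069 (iv F61371)) (tt N7324 F58067) (tt N9072 D15530) (tt N7321 (iv D14704)) (tt N9073 D15531) (tt N8771 (iv F60074)) (tt N9065 (iv F61355)) (tt N7334 F58068) (tt N9062 (iv F61343)))
theorem Q8248 : ∀ i, i < 8248 → P i := stepQ 8247 Q8247 (allL N8247 (tt N7351 F58069) (tt N9070 (iv F61375)) (tt N7326 F58070) (tt N9074 D15532) (tt N8772 (iv F60079)) (tt N7323 F58071) (tt N8758 (iv F60008)) (tt N7322 (iv D14705)) (tt N8774 (iv F60095)))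
theorem Q8249 : ∀ i, i < 8249 → P i := stepQ 8248 Q8248 (allL N8248 (tt N7352 F58072) (tt N9071 (iv F61377)) (tt N7795 F58073) (tt N7323 (iv D14706)) (tt N8904 (iv F60644)) (tt N9074 (iv F61385)) (tt N9066 (iv F61359)) (tt N8248 F58074) (tt N7798 F58075))
theorem Q8250 : ∀ i, i < 8250 → P i := stepQ 8249 Q8249 (allL N8249 (tt N7353 F58076) (tt N9073 (iv F61381)) (tt N8901 F60631) (tt N8904 (iv F60643)) (tt N7324 (iv D14707)) (tt N8937 (iv F60826)) (tt N9067 (iv F61365)) (tt N7335 F58077) (tt N8919 (iv F60724)))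
theorem Q8251 : ∀ i, i < 8251 → P i := stepQ 8250 Q8250 (allL N8250 (tt N7354 F58078) (tt N9037 (iv F61222)) (tt N8758 (iv F60005)) (tt N8793 (iv F60207)) (tt N8774 (iv F60092)) (tt N8756 (iv F59996)) (tt N7326 F58079) (tt N7325 (iv D14708)) (tt N8772 (iv F60082)))
theorem Q8252 : ∀ i, i < 8252 → P i := stepQ 8251 Q8251 (allL N8251 (tt N7355 F58080) (tt N9038 (iv F61225)) (tt N7794 (iv F58084)) (tt N7326 (iv D14709)) (tt N8791 (iv F60194)) (tt N7327 F58081) (tt N8793 (iv F60210)) (tt N7330 F58082) (tt N7484 F58083))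
theorem Q8253 : ∀ i, i < 8253 → P i := stepQ 8252 Q8252 (allL N8252 (tt N7742 F58085) (tt N7332 F58086) (tt N9075 D15533) (tt N7331 (iv D14710)) (tt N9076 D15534) (tt N8969 (iv F60982)) (tt N7334 F58087) (tt N9065 (iv F61356)) (tt N8252 F58088))
theorem Q8254 : ∀ i, i < 8254 → P i := stepQ 8253 Q8253 (allL N8253 (tt N7356 F58089) (tt N9076 (iv F61392)) (tt N7740 F58090) (tt N8253 F58091) (tt N7332 (iv D14711)) (tt N7741 F58092) (tt N7335 F58093) (tt N9067 (iv F61366)) (tt N8253 F58094))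
theorem Q8255 : ∀ i, i < 8255 → P i := stepQ 8254 Q8254 (allL N8254 (tt N7334 F58095) (tt N7357 F58096) (tt N9077 D15535) (tt N7333 (iv D14712)) (tt N8925 (iv F60750)) (tt N8780 (iv F60126)) (tt N7742 F58097) (tt N9069 (iv F61374)) (tt N8254 F58098))
theorem Q8256 : ∀ i, i < 8256 → P i := stepQ 8255 Q8255 (allL N8255 (tt N9077 (iv F61397)) (tt N8970 (iv F60985)) (tt N7334 (iv D14713)) (tt N8607 (iv F59435)) (tt N9078 D15536) (tt N8781 (iv F60129)) (tt N9075 (iv F61389)) (tt N9072 (iv F61380)) (tt N8255 F58099))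
theorem Q8257 : ∀ i, i < 8257 → P i := stepQ 8256 Q8256 (allL N8256 (tt N8925 (iv F60748)) (tt N7335 F58100) (tt N9078 (iv F61401)) (tt N8256 F58101) (tt N7334 (iv D14714)) (tt N8926 (iv F60757)) (tt N9076 (iv F61395)) (tt N9073 (iv F61382)) (tt N8256 F58102))
theorem Q8258 : ∀ i, i < 8258 → P i := stepQ 8257 Q8257 (allL N8257 (tt N9059 (iv F61327)) (tt N7744 F58103) (tt N7396 F58104) (tt N7337 (iv D14715)) (tt N8930 (iv F60782)) (tt N8790 (iv F60188)) (tt N7341 F58105) (tt N8257 F58106) (tt N7345 F58107))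
theorem Q8259 : ∀ i, i < 8259 → P i := stepQ 8258 Q8258 (allL N8258 (tt N7339 F58108) (tt N9060 (iv F61333)) (tt N7500 F58109) (tt N9079 D15537) (tt N8909 (iv F60676)) (tt N8785 (iv F60154)) (tt N7731 F58110) (tt N7338 (iv D14716)) (tt N7348 F58111))
theorem Q8260 : ∀ i, i < 8260 → P i := stepQ 8259 Q8259 (allL N8259 (tt N9079 (iv F61403)) (tt N7341 F58112) (tt N8783 (iv F60138)) (tt N7339 (iv D14717)) (tt N8928 (iv F60768)) (tt N8786 (iv F60160)) (tt N7744 F58113) (tt N8259 F58114) (tt N7350 F58115))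
theorem Q8261 : ∀ i, i < 8261 → P i := stepQ 8260 Q8260 (allL N8260 (tt N9063 (iv F61344)) (tt N7396 F58116) (tt N8786 (iv F60158)) (tt N7343 (iv D14718)) (tt N7804 F58117) (tt N8783 (iv F60140)) (tt N8790 (iv F60189)) (tt N8260 F58118) (tt N7807 F58119))
theorem Q8262 : ∀ i, i < 8262 → P i := stepQ 8261 Q8261 (allL N8261 (tt N9066 (iv F61357)) (tt N7746 F58120) (tt N7503 F58121) (tt N7344 (iv D14719)) (tt N8927 (iv F60760)) (tt N8784 (iv F60147)) (tt N7352 F58122) (tt N8261 F58123) (tt N7512 F58124))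
theorem Q8263 : ∀ i, i < 8263 → P i := stepQ 8262 Q8262 (allL N8262 (tt N9067 (iv F61362)) (tt N7747 F58125) (tt N7748 F58126) (tt N8927 (iv F60759)) (tt N7345 (iv D14720)) (tt N7749 F58127) (tt N7353 F58128) (tt N7356 F58129) (tt N8930 (iv F60786)))
theorem Q8264 : ∀ i, i < 8264 → P i := stepQ 8263 Q8263 (allL N8263 (tt N7349 F58130) (tt N9068 (iv F61368)) (tt N7507 F58131) (tt N9080 D15538) (tt N7348 F58132) (tt N8902 (iv F60635)) (tt N7735 F58133) (tt N7347 (iv D14721)) (tt N8909 (iv F60679)))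
theorem Q8265 : ∀ i, i < 8265 → P i := stepQ 8264 Q8264 (allL N8264 (tt N7350 F58134) (tt N9069 (iv F61372)) (tt N8765 (iv F60043)) (tt N7348 (iv D14722)) (tt N8920 (iv F60726)) (tt N8794 (iv F60215)) (tt N7736 F58135) (tt N7357 F58136) (tt N9079 (iv F61406)))
theorem Q8266 : ∀ i, i < 8266 → P i := stepQ 8265 Q8265 (allL N8265 (tt N9080 (iv F61407)) (tt N7352 F58137) (tt N8936 (iv F60819)) (tt N7349 (iv D14723)) (tt N8929 (iv F60775)) (tt N8787 F60170) (tt N7746 F58138) (tt N8265 F58139) (tt N7808 F58140))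
theorem Q8267 : ∀ i, i < 8267 → P i := stepQ 8266 Q8266 (allL N8266 (tt N9074 (iv F61383)) (tt N8787 (iv F60164)) (tt N7804 F58141) (tt N7351 (iv D14724)) (tt N8786 (iv F60159)) (tt N7352 F58142) (tt N8788 (iv F60175)) (tt N8266 F58143) (tt N7806 F58144))
theorem Q8268 : ∀ i, i < 8268 → P i := stepQ 8267 Q8267 (allL N8267 (tt N8973 (iv F60999)) (tt N7358 (iv D14725)) (tt N7397 F58145) (tt N7361 F58146) (tt N8541 (iv F59189)) (tt N7399 F58147) (tt N8797 (iv F60234)) (tt N7962 F58148) (tt N9081 D15539))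
theorem Q8269 : ∀ i, i < 8269 → P i := stepQ 8268 Q8268 (allL N8268 (tt N7993 F58149) (tt N8541 (iv F59187)) (tt N7359 F58150) (tt N7861 F58151) (tt N7358 (iv D14726)) (tt N8542 (iv F59193)) (tt N7868 F58152) (tt N7963 F58153) (tt N9082 D15540))
theorem Q8270 : ∀ i, i < 8270 → P i := stepQ 8269 Q8269 (allL N8269 (tt N8953 (iv F60901)) (tt N9081 (iv F61411)) (tt N7360 F58154) (tt N7362 F58155) (tt N9082 (iv F61418)) (tt N7752 F58156) (tt N8960 (iv F60942)) (tt N9083 D15541) (tt N7358 (iv D14727)))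
theorem Q8271 : ∀ i, i < 8271 → P i := stepQ 8270 Q8270 (allL N8270 (tt N8017 F58157) (tt N7516 F58158) (tt N9082 (iv F61416)) (tt N7629 F58159) (tt N7360 F58160) (tt N8485 (iv F58930)) (tt N7878 F58161) (tt N9084 D15542) (tt N7359 (iv D14728)))
theorem Q8272 : ∀ i, i < 8272 → P i := stepQ 8271 Q8271 (allL N8271 (tt N8954 (iv F60907)) (tt N7517 F58162) (tt N9083 (iv F61420)) (tt N7407 F58163) (tt N9084 (iv F61425)) (tt N7755 F58164) (tt N8963 (iv F60956)) (tt N7360 (iv D14729)) (tt N7967 F58165))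
theorem Q8273 : ∀ i, i < 8273 → P i := stepQ 8272 Q8272 (allL N8272 (tt N8989 (iv F61056)) (tt N7362 F58166) (tt N7387 F58167) (tt N9081 (iv F61413)) (tt N8956 (iv F60923)) (tt N7409 F58168) (tt N8812 (iv F60287)) (tt N9085 D15543) (tt N7361 (iv D14730)))
theorem Q8274 : ∀ i, i < 8274 → P i := stepQ 8273 Q8273 (allL N8273 (tt N8955 (iv F60914)) (tt N9085 (iv F61428)) (tt N7363 F58169) (tt N9086 D15544) (tt N8957 (iv F60927)) (tt N7759 F58170) (tt N8961 (iv F60946)) (tt N7362 (iv D14731)) (tt N7371 F58171))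
theorem Q8275 : ∀ i, i < 8275 → P i := stepQ 8274 Q8274 (allL N8274 (tt N8957 (iv F60925)) (tt N8836 (iv F60386)) (tt N7365 F58172) (tt N9087 D15545) (tt N8955 (iv F60916)) (tt N8841 (iv F60415)) (tt N7371 F58173) (tt N7364 (iv D14732)) (tt N8961 (iv F60947)))
theorem Q8276 : ∀ i, i < 8276 → P i := stepQ 8275 Q8275 (allL N8275 (tt N9004 (iv F61114)) (tt N7368 F58174) (tt N8275 F58175) (tt N7366 (iv D14733)) (tt N8002 F58176) (tt N9088 D15546) (tt N8834 (iv F60379)) (tt N9089 D15547) (tt N9090 D15548))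
theorem Q8277 : ∀ i, i < 8277 → P i := stepQ 8276 Q8276 (allL N8276 (tt N8698 (iv F59726)) (tt N7369 F58177) (tt N7389 F58178) (tt N9088 (iv F61440)) (tt N7423 F58179) (tt N7366 (iv D14734)) (tt N8703 (iv F59755)) (tt N8717 (iv F59825)) (tt N9091 D15549))
theorem Q8278 : ∀ i, i < 8278 → P i := stepQ 8277 Q8277 (allL N8277 (tt N9005 (iv F61117)) (tt N7370 F58180) (tt N7390 F58181) (tt N9090 (iv F61451)) (tt N7367 F58182) (tt N9091 (iv F61456)) (tt N8835 (iv F60385)) (tt N9092 D15550) (tt N7366 (iv D14735)))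
theorem Q8279 : ∀ i, i < 8279 → P i := stepQ 8278 Q8278 (allL N8278 (tt N9006 (iv F61120)) (tt N7371 F58183) (tt N7391 F58184) (tt N9093 D15551) (tt N9092 (iv F61459)) (tt N7425 F58185) (tt N8836 (iv F60389)) (tt N7367 (iv D14736)) (tt N9085 (iv F61431)))
theorem Q8280 : ∀ i, i < 8280 → P i := stepQ 8279 Q8279 (allL N8279 (tt N8799 F60244) (tt N9088 (iv F61438)) (tt N7374 F58186) (tt N7369 F58187) (tt N9094 D15552) (tt N7368 (iv D14737)) (tt N8802 (iv F60254)) (tt N9095 D15553) (tt N9096 D15554))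
theorem Q8281 : ∀ i, i < 8281 → P i := stepQ 8280 Q8280 (allL N8280 (tt N7960 F58188) (tt N9089 (iv F61443)) (tt N7375 F58189) (tt N7848 F58190) (tt N8007 F58191) (tt N9095 (iv F61470)) (tt N7843 F58192) (tt N7368 (iv D14738)) (tt N9097 D15555))
theorem Q8282 : ∀ i, i < 8282 → P i := stepQ 8281 Q8281 (allL N8281 (tt N8960 (iv F60938)) (tt N9090 (iv F61449)) (tt N7376 F58193) (tt N7370 F58194) (tt N8008 F58195) (tt N9096 (iv F61474)) (tt N8953 (iv F60906)) (tt N9098 D15556) (tt N7368 (iv D14739)))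
theorem Q8283 : ∀ i, i < 8283 → P i := stepQ 8282 Q8282 (allL N8282 (tt N8814 (iv F60294)) (tt N9091 (iv F61453)) (tt N7372 F58196) (tt N9096 (iv F61473)) (tt N7766 F58197) (tt N7370 F58198) (tt N8819 (iv F60321)) (tt N9099 D15557) (tt N7369 (iv D14740)))
theorem Q8284 : ∀ i, i < 8284 → P i := stepQ 8283 Q8283 (allL N8283 (tt N8961 (iv F60943)) (tt N9092 (iv F61457)) (tt N7373 F58199) (tt N9100 D15558) (tt N7371 F58200) (tt N9099 (iv F61484)) (tt N8955 (iv F60918)) (tt N7370 (iv D14741)) (tt N8957 (iv F60929)))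
theorem Q8285 : ∀ i, i < 8285 → P i := stepQ 8284 Q8284 (allL N8284 (tt N8962 (iv F60948)) (tt N9093 (iv F61460)) (tt N7441 F58201) (tt N7371 (iv D14742)) (tt N9101 D15559) (tt N7768 F58202) (tt N9087 (iv F61436)) (tt N8012 F58203) (tt N9086 (iv F61434)))
theorem Q8286 : ∀ i, i < 8286 → P i := stepQ 8285 Q8285 (allL N8285 (tt N8895 (iv F60590)) (tt N7394 F58204) (tt N9099 (iv F61482)) (tt N8990 (iv F61061)) (tt N7770 F58205) (tt N7373 F58206) (tt N8897 (iv F60607)) (tt N7372 (iv D14743)) (tt N8906 (iv F60660)))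
theorem Q8287 : ∀ i, i < 8287 → P i := stepQ 8286 Q8286 (allL N8286 (tt N8939 (iv F60833)) (tt N8286 F58207) (tt N9094 (iv F61463)) (tt N7379 F58208) (tt N7374 (iv D14744)) (tt N8024 F58209) (tt N8945 (iv F60868)) (tt N9102 D15560) (tt N9103 D15561))
theorem Q8288 : ∀ i, i < 8288 → P i := stepQ 8287 Q8287 (allL N8287 (tt N7958 F58210) (tt N8287 F58211) (tt N9095 (iv F61468)) (tt N7631 F58212) (tt N9102 (iv F61490)) (tt N7375 F58213) (tt N8152 F58214) (tt N7374 (iv D14745)) (tt N9104 D15562))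
theorem Q8289 : ∀ i, i < 8289 → P i := stepQ 8288 Q8288 (allL N8288 (tt N8940 (iv F60839)) (tt N8288 F58215) (tt N9096 (iv F61472)) (tt N7377 F58216) (tt N9103 (iv F61495)) (tt N7376 F58217) (tt N8946 (iv F60875)) (tt N9105 D15563) (tt N7374 (iv D14746)))
theorem Q8290 : ∀ i, i < 8290 → P i := stepQ 8289 Q8289 (allL N8289 (tt N7961 F58218) (tt N8289 F58219) (tt N9097 (iv F61476)) (tt N7632 F58220) (tt N8028 F58221) (tt N9104 (iv F61500)) (tt N7845 F58222) (tt N9106 D15564) (tt N7375 (iv D14747)))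
theorem Q8291 : ∀ i, i < 8291 → P i := stepQ 8290 Q8290 (allL N8290 (tt N8963 (iv F60952)) (tt N8290 F58223) (tt N9098 (iv F61480)) (tt N8979 (iv F61026)) (tt N8029 F58224) (tt N9105 (iv F61503)) (tt N8954 (iv F60912)) (tt N7376 (iv D14748)) (tt N9106 (iv F61508)))
theorem Q8292 : ∀ i, i < 8292 → P i := stepQ 8291 Q8291 (allL N8291 (tt N7634 F58225) (tt N8291 F58226) (tt N7463 F58227) (tt N8978 (iv F61021)) (tt N7378 (iv D14749)) (tt N8220 F58228) (tt N7604 F58229) (tt N8033 F58230) (tt N7601 F58231))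
theorem Q8293 : ∀ i, i < 8293 → P i := stepQ 8292 Q8292 (allL N8292 (tt N7660 F58232) (tt N8292 F58233) (tt N7655 F58234) (tt N8945 (iv F60867)) (tt N7380 F58235) (tt N7620 F58236) (tt N7379 (iv D14750)) (tt N7618 (iv F58237)) (tt N9107 D15565))
theorem Q8294 : ∀ i, i < 8294 → P i := stepQ 8293 Q8293 (allL N8293 (tt N7658 F58238) (tt N8293 F58239) (tt N7654 F58240) (tt N7621 (iv F58244)) (tt N7381 F58241) (tt N7650 F58242) (tt N7618 F58243) (tt N7379 (iv D14751)) (tt N7616 (iv F58245)))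
theorem Q8295 : ∀ i, i < 8295 → P i := stepQ 8294 Q8294 (allL N8294 (tt N8393 (iv F58555)) (tt N8294 F58246) (tt N7785 F58247) (tt N9103 (iv F61494)) (tt N7382 F58248) (tt N8037 F58249) (tt N9107 (iv F61514)) (tt N8224 F58250) (tt N7379 (iv D14752)))
theorem Q8296 : ∀ i, i < 8296 → P i := stepQ 8295 Q8295 (allL N8295 (tt N7657 F58251) (tt N8295 F58252) (tt N7653 F58253) (tt N7626 F58254) (tt N7618 F58255) (tt N8295 F58256) (tt N7381 F58257) (tt N7380 (iv D14753)) (tt N7615 (iv F58258)))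
theorem Q8297 : ∀ i, i < 8297 → P i := stepQ 8296 Q8296 (allL N8296 (tt N8394 (iv F58559)) (tt N8296 F58259) (tt N7786 F58260) (tt N7383 F58261) (tt N9107 (iv F61512)) (tt N8296 F58262) (tt N7382 F58263) (tt N8225 F58264) (tt N7380 (iv D14754)))
theorem Q8298 : ∀ i, i < 8298 → P i := stepQ 8297 Q8297 (allL N8297 (tt N8395 (iv F58565)) (tt N8297 F58265) (tt N7385 F58266) (tt N8226 F58267) (tt N8518 (iv F59102)) (tt N8297 F58268) (tt N7384 F58269) (tt N7383 (iv D14755)) (tt N7633 F58270))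
theorem Q8299 : ∀ i, i < 8299 → P i := stepQ 8298 Q8298 (allL N8298 (tt N8990 (iv F61059)) (tt N7388 F58271) (tt N9085 (iv F61429)) (tt N8895 (iv F60592)) (tt N8964 (iv F60959)) (tt N7411 F58272) (tt N8813 (iv F60292)) (tt N7387 (iv D14756)) (tt N7391 F58273))
theorem Q8300 : ∀ i, i < 8300 → P i := stepQ 8299 Q8299 (allL N8299 (tt N8750 (iv F59959)) (tt N7392 F58274) (tt N9091 (iv F61454)) (tt N8299 F58275) (tt N7427 F58276) (tt N7390 F58277) (tt N8753 (iv F59982)) (tt N9108 D15566) (tt N7389 (iv D14757)))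
theorem Q8301 : ∀ i, i < 8301 → P i := stepQ 8300 Q8300 (allL N8300 (tt N9007 (iv F61123)) (tt N7393 F58278) (tt N9092 (iv F61458)) (tt N9109 D15567) (tt N7391 F58279) (tt N9108 (iv F61518)) (tt N8837 (iv F60393)) (tt N7390 (iv D14758)) (tt N8964 (iv F60961)))
theorem Q8302 : ∀ i, i < 8302 → P i := stepQ 8301 Q8301 (allL N8301 (tt N7395 F58280) (tt N9108 (iv F61516)) (tt N7394 F58281) (tt N9110 D15568) (tt N7484 F58282) (tt N7393 F58283) (tt N8785 (iv F60155)) (tt N7392 (iv D14759)) (tt N8791 (iv F60197)))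
theorem Q8303 : ∀ i, i < 8303 → P i := stepQ 8302 Q8302 (allL N8302 (tt N7396 F58284) (tt N9109 (iv F61519)) (tt N9059 (iv F61328)) (tt N7393 (iv D14760)) (tt N8908 (iv F60668)) (tt N9110 (iv F61522)) (tt N8905 (iv F60651)) (tt N8302 F58285) (tt N8965 (iv F60967)))
theorem Q8304 : ∀ i, i < 8304 → P i := stepQ 8303 Q8303 (allL N8303 (tt N9110 (iv F61521)) (tt N8783 (iv F60137)) (tt N8790 (iv F60186)) (tt N7395 (iv D14761)) (tt N8788 (iv F60173)) (tt N7396 F58286) (tt N8786 (iv F60161)) (tt N8303 F58287) (tt N8792 (iv F60204)))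
theorem Q8305 : ∀ i, i < 8305 → P i := stepQ 8304 Q8304 (allL N8304 (tt N8974 (iv F61003)) (tt N7515 F58288) (tt N9081 (iv F61412)) (tt N7398 F58289) (tt N8388 (iv F58542)) (tt N7401 F58290) (tt N8798 (iv F60238)) (tt N9111 D15569) (tt N7397 (iv D14762)))
theorem Q8306 : ∀ i, i < 8306 → P i := stepQ 8305 Q8305 (allL N8305 (tt N8976 (iv F61011)) (tt N7751 F58291) (tt N7400 F58292) (tt N9112 D15570) (tt N7399 (iv D14763)) (tt N8543 (iv F59195)) (tt N7403 F58293) (tt N8310 (iv F58311)) (tt N9113 D15571))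
theorem Q8307 : ∀ i, i < 8307 → P i := stepQ 8306 Q8306 (allL N8306 (tt N8977 (iv F61015)) (tt N7752 F58294) (tt N7401 F58295) (tt N7409 F58296) (tt N9113 (iv F61535)) (tt N9081 (iv F61414)) (tt N7404 F58297) (tt N9114 D15572) (tt N7399 (iv D14764)))
theorem Q8308 : ∀ i, i < 8308 → P i := stepQ 8307 Q8307 (allL N8307 (tt N8978 (iv F61019)) (tt N7518 F58298) (tt N9113 (iv F61534)) (tt N7634 F58299) (tt N7401 F58300) (tt N8390 (iv F58549)) (tt N7406 F58301) (tt N9115 D15573) (tt N7400 (iv D14765)))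
theorem Q8309 : ∀ i, i < 8309 → P i := stepQ 8308 Q8308 (allL N8308 (tt N8979 (iv F61024)) (tt N7519 F58302) (tt N9114 (iv F61538)) (tt N8963 (iv F60954)) (tt N9115 (iv F61541)) (tt N9111 (iv F61525)) (tt N7407 F58303) (tt N7401 (iv D14766)) (tt N8430 (iv F58698)))
theorem Q8310 : ∀ i, i < 8310 → P i := stepQ 8309 Q8309 (allL N8309 (tt N7402 (iv D14767)) (tt N8980 (iv F61028)) (tt N7520 F58304) (tt N7412 F58305) (tt N9116 D15574) (tt N8802 (iv F60253)) (tt N7696 F58306) (tt N8154 F58307) (tt N9117 D15575))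
theorem Q8311 : ∀ i, i < 8311 → P i := stepQ 8310 Q8310 (allL N8310 (tt N9116 (iv F61543)) (tt N7403 F58308) (tt N7521 F58309) (tt N9118 D15576) (tt N7402 (iv D14768)) (tt N9119 D15577) (tt N7751 F58310) (tt N8305 F58311) (tt N9120 D15578))
theorem Q8312 : ∀ i, i < 8312 → P i := stepQ 8311 Q8311 (allL N8311 (tt N9117 (iv F61547)) (tt N7404 F58312) (tt N7522 F58313) (tt N7414 F58314) (tt N9120 (iv F61561)) (tt N8804 (iv F60262)) (tt N7752 F58315) (tt N9121 D15579) (tt N7402 (iv D14769)))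
theorem Q8313 : ∀ i, i < 8313 → P i := stepQ 8312 Q8312 (allL N8312 (tt N8983 (iv F61038)) (tt N9118 (iv F61551)) (tt N7636 F58316) (tt N7403 (iv D14770)) (tt N7415 F58317) (tt N9122 D15580) (tt N9112 (iv F61532)) (tt N9123 D15581) (tt N9124 D15582))
theorem Q8314 : ∀ i, i < 8314 → P i := stepQ 8313 Q8313 (allL N8313 (tt N8984 (iv F61042)) (tt N9119 (iv F61555)) (tt N7405 F58318) (tt N9122 (iv F61568)) (tt N8806 (iv F60267)) (tt N7403 (iv D14771)) (tt N9125 D15583) (tt N8616 (iv F59460)) (tt N9126 D15584))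
theorem Q8315 : ∀ i, i < 8315 → P i := stepQ 8314 Q8314 (allL N8314 (tt N8985 (iv F61044)) (tt N9120 (iv F61559)) (tt N7406 F58319) (tt N9124 (iv F61573)) (tt N7404 F58320) (tt N9126 (iv F61580)) (tt N9113 (iv F61536)) (tt N9127 D15585) (tt N7403 (iv D14772)))
theorem Q8316 : ∀ i, i < 8316 → P i := stepQ 8315 Q8315 (allL N8315 (tt N8986 (iv F61047)) (tt N9121 (iv F61563)) (tt N7407 F58321) (tt N9128 D15586) (tt N9127 (iv F61582)) (tt N8808 (iv F60272)) (tt N9114 (iv F61539)) (tt N7404 (iv D14773)) (tt N8618 (iv F59464)))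
theorem Q8317 : ∀ i, i < 8317 → P i := stepQ 8316 Q8316 (allL N8316 (tt N8520 (iv F59112)) (tt N7526 F58322) (tt N9125 (iv F61576)) (tt N7640 F58323) (tt N8809 (iv F60275)) (tt N8497 (iv F58981)) (tt N7405 (iv D14774)) (tt N8619 (iv F59468)) (tt N9129 D15587))
theorem Q8318 : ∀ i, i < 8318 → P i := stepQ 8317 Q8317 (allL N8317 (tt N8987 (iv F61049)) (tt N7527 F58324) (tt N9126 (iv F61579)) (tt N7641 F58325) (tt N8810 (iv F60279)) (tt N7406 F58326) (tt N9129 (iv F61586)) (tt N9130 D15588) (tt N7405 (iv D14775)))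
theorem Q8319 : ∀ i, i < 8319 → P i := stepQ 8318 Q8318 (allL N8318 (tt N8988 (iv F61053)) (tt N7528 F58327) (tt N9127 (iv F61581)) (tt N9131 D15589) (tt N7407 F58328) (tt N9130 (iv F61588)) (tt N9115 (iv F61542)) (tt N7406 (iv D14776)) (tt N8621 (iv F59475)))
theorem Q8320 : ∀ i, i < 8320 → P i := stepQ 8319 Q8319 (allL N8319 (tt N7665 F58329) (tt N7756 F58330) (tt N7623 F58331) (tt N7408 (iv D14777)) (tt N9112 (iv F61530)) (tt N9132 D15590) (tt N7415 F58332) (tt N9133 D15591) (tt N9055 (iv F61310)))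
theorem Q8321 : ∀ i, i < 8321 → P i := stepQ 8320 Q8320 (allL N8320 (tt N7667 F58333) (tt N7757 F58334) (tt N7410 F58335) (tt N9132 (iv F61594)) (tt N8717 (iv F59822)) (tt N7408 (iv D14778)) (tt N8722 (iv F59847)) (tt N7423 F58336) (tt N9057 (iv F61321)))
theorem Q8322 : ∀ i, i < 8322 → P i := stepQ 8321 Q8321 (allL N8321 (tt N8992 (iv F61069)) (tt N7759 F58337) (tt N7411 F58338) (tt N9134 D15592) (tt N9039 (iv F61231)) (tt N9085 (iv F61430)) (tt N7418 F58339) (tt N7409 (iv D14779)) (tt N7425 F58340))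
theorem Q8323 : ∀ i, i < 8323 → P i := stepQ 8322 Q8322 (allL N8322 (tt N7413 F58341) (tt N8844 (iv F60425)) (tt N7474 F58342) (tt N9135 D15593) (tt N7412 (iv D14780)) (tt N8858 (iv F60483)) (tt N7700 F58343) (tt N7429 F58344) (tt N9136 D15594))
theorem Q8324 : ∀ i, i < 8324 → P i := stepQ 8323 Q8323 (allL N8323 (tt N7414 F58345) (tt N8993 (iv F61075)) (tt N7475 F58346) (tt N9117 (iv F61549)) (tt N9136 (iv F61609)) (tt N8819 (iv F60320)) (tt N7701 F58347) (tt N9137 D15595) (tt N7412 (iv D14781)))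
theorem Q8325 : ∀ i, i < 8325 → P i := stepQ 8324 Q8324 (allL N8324 (tt N9135 (iv F61604)) (tt N7415 F58348) (tt N8324 F58349) (tt N7413 (iv D14782)) (tt N9118 (iv F61553)) (tt N9138 D15596) (tt N7756 F58350) (tt N9139 D15597) (tt N9140 D15598))
theorem Q8326 : ∀ i, i < 8326 → P i := stepQ 8325 Q8325 (allL N8325 (tt N8858 (iv F60479)) (tt N7416 F58351) (tt N7476 F58352) (tt N9138 (iv F61617)) (tt N8821 (iv F60329)) (tt N7413 (iv D14783)) (tt N8852 (iv F60462)) (tt N7432 F58353) (tt N9141 D15599))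
theorem Q8327 : ∀ i, i < 8327 → P i := stepQ 8326 Q8326 (allL N8326 (tt N9136 (iv F61607)) (tt N7417 F58354) (tt N7477 F58355) (tt N9140 (iv F61624)) (tt N7414 F58356) (tt N9141 (iv F61628)) (tt N7758 F58357) (tt N9142 D15600) (tt N7413 (iv D14784)))
theorem Q8328 : ∀ i, i < 8328 → P i := stepQ 8327 Q8327 (allL N8327 (tt N9137 (iv F61611)) (tt N7418 F58358) (tt N7478 F58359) (tt N9143 D15601) (tt N9142 (iv F61631)) (tt N8823 (iv F60339)) (tt N7759 F58360) (tt N7414 (iv D14785)) (tt N7434 F58361))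
theorem Q8329 : ∀ i, i < 8329 → P i := stepQ 8328 Q8328 (allL N8328 (tt N8997 (iv F61088)) (tt N9138 (iv F61615)) (tt N7643 F58362) (tt N7416 F58363) (tt N9144 D15602) (tt N7415 (iv D14786)) (tt N9145 D15603) (tt N9146 D15604) (tt N9147 D15605))
theorem Q8330 : ∀ i, i < 8330 → P i := stepQ 8329 Q8329 (allL N8329 (tt N8998 (iv F61091)) (tt N9139 (iv F61618)) (tt N7644 F58364) (tt N7436 F58365) (tt N9123 (iv F61571)) (tt N9146 (iv F61647)) (tt N9133 (iv F61600)) (tt N7415 (iv D14787)) (tt N9148 D15606))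
theorem Q8331 : ∀ i, i < 8331 → P i := stepQ 8330 Q8330 (allL N8330 (tt N8999 (iv F61095)) (tt N9140 (iv F61622)) (tt N7645 F58366) (tt N7417 F58367) (tt N9124 (iv F61574)) (tt N9147 (iv F61651)) (tt N9055 (iv F61309)) (tt N9149 D15607) (tt N7415 (iv D14788)))
theorem Q8332 : ∀ i, i < 8332 → P i := stepQ 8331 Q8331 (allL N8331 (tt N8725 (iv F59857)) (tt N8852 (iv F60459)) (tt N7419 F58368) (tt N9145 (iv F61641)) (tt N8827 (iv F60350)) (tt N8722 F59849) (tt N7416 (iv D14789)) (tt N7438 F58369) (tt N9150 D15608))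
theorem Q8333 : ∀ i, i < 8333 → P i := stepQ 8332 Q8332 (allL N8332 (tt N9000 (iv F61099)) (tt N9141 (iv F61626)) (tt N7420 F58370) (tt N9147 (iv F61650)) (tt N8828 (iv F60354)) (tt N7417 F58371) (tt N9150 (iv F61656)) (tt N9151 D15609) (tt N7416 (iv D14790)))
theorem Q8334 : ∀ i, i < 8334 → P i := stepQ 8333 Q8333 (allL N8333 (tt N9001 (iv F61102)) (tt N9142 (iv F61629)) (tt N7421 F58372) (tt N9152 D15610) (tt N7418 F58373) (tt N9151 (iv F61658)) (tt N9039 (iv F61232)) (tt N7417 (iv D14791)) (tt N7440 F58374))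
theorem Q8335 : ∀ i, i < 8335 → P i := stepQ 8334 Q8334 (allL N8334 (tt N9002 (iv F61107)) (tt N9143 (iv F61634)) (tt N9086 (iv F61432)) (tt N7418 (iv D14792)) (tt N9153 D15611) (tt N8830 (iv F60360)) (tt N9134 (iv F61602)) (tt N9128 (iv F61583)) (tt N7441 F58375))
theorem Q8336 : ∀ i, i < 8336 → P i := stepQ 8335 Q8335 (allL N8335 (tt N8769 (iv F60063)) (tt N7481 F58376) (tt N9150 (iv F61655)) (tt N7648 F58377) (tt N8831 (iv F60365)) (tt N8767 (iv F60058)) (tt N7420 F58378) (tt N9154 D15612) (tt N7419 (iv D14793)))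
theorem Q8337 : ∀ i, i < 8337 → P i := stepQ 8336 Q8336 (allL N8336 (tt N9003 (iv F61109)) (tt N7482 F58379) (tt N9151 (iv F61657)) (tt N9017 (iv F61162)) (tt N8832 (iv F60369)) (tt N7421 F58380) (tt N9154 (iv F61663)) (tt N7420 (iv D14794)) (tt N7443 F58381))
theorem Q8338 : ∀ i, i < 8338 → P i := stepQ 8337 Q8337 (allL N8337 (tt N9011 (iv F61139)) (tt N7762 F58382) (tt N7445 F58383) (tt N7423 F58384) (tt N9155 D15613) (tt N7422 (iv D14795)) (tt N9156 D15614) (tt N9157 D15615) (tt N9158 D15616))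
theorem Q8339 : ∀ i, i < 8339 → P i := stepQ 8338 Q8338 (allL N8338 (tt N9012 (iv F61142)) (tt N7763 F58385) (tt N7446 F58386) (tt N9133 (iv F61599)) (tt N8351 (iv F58428)) (tt N9157 (iv F61678)) (tt N7436 F58387) (tt N7422 (iv D14796)) (tt N9159 D15617))
theorem Q8340 : ∀ i, i < 8340 → P i := stepQ 8339 Q8339 (allL N8339 (tt N9013 (iv F61146)) (tt N7764 F58388) (tt N7447 F58389) (tt N7424 F58390) (tt N8352 (iv F58433)) (tt N9158 (iv F61683)) (tt N7437 F58391) (tt N9160 D15618) (tt N7422 (iv D14797)))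
theorem Q8341 : ∀ i, i < 8341 → P i := stepQ 8340 Q8340 (allL N8340 (tt N8704 (iv F59758)) (tt N7765 F58392) (tt N7426 F58393) (tt N9156 (iv F61671)) (tt N8703 F59757) (tt N7438 F58394) (tt N7423 (iv D14798)) (tt N8722 (iv F59848)) (tt N9161 D15619))
theorem Q8342 : ∀ i, i < 8342 → P i := stepQ 8341 Q8341 (allL N8341 (tt N9014 (iv F61150)) (tt N7766 F58395) (tt N7427 F58396) (tt N9158 (iv F61682)) (tt N9091 (iv F61455)) (tt N7424 F58397) (tt N9161 (iv F61693)) (tt N9162 D15620) (tt N7423 (iv D14799)))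
theorem Q8343 : ∀ i, i < 8343 → P i := stepQ 8342 Q8342 (allL N8342 (tt N9015 (iv F61153)) (tt N7767 F58398) (tt N7428 F58399) (tt N9163 D15621) (tt N7425 F58400) (tt N9162 (iv F61696)) (tt N7440 F58401) (tt N7424 (iv D14800)) (tt N9039 (iv F61234)))
theorem Q8344 : ∀ i, i < 8344 → P i := stepQ 8343 Q8343 (allL N8343 (tt N9016 (iv F61158)) (tt N7768 F58402) (tt N9087 (iv F61435)) (tt N7425 (iv D14801)) (tt N9164 D15622) (tt N9093 (iv F61461)) (tt N7441 F58403) (tt N8356 (iv F58447)) (tt N9134 (iv F61603)))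
theorem Q8345 : ∀ i, i < 8345 → P i := stepQ 8344 Q8344 (allL N8344 (tt N8754 (iv F59983)) (tt N7483 F58404) (tt N9161 (iv F61691)) (tt N7452 F58405) (tt N8753 (iv F59980)) (tt N7442 F58406) (tt N7427 F58407) (tt N9165 D15623) (tt N7426 (iv D14802)))
theorem Q8346 : ∀ i, i < 8346 → P i := stepQ 8345 Q8345 (allL N8345 (tt N9017 (iv F61160)) (tt N7484 F58408) (tt N9162 (iv F61695)) (tt N9003 (iv F61111)) (tt N9108 (iv F61517)) (tt N7428 F58409) (tt N9165 (iv F61703)) (tt N7427 (iv D14803)) (tt N9038 (iv F61228)))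
theorem Q8347 : ∀ i, i < 8347 → P i := stepQ 8346 Q8346 (allL N8346 (tt N7431 F58410) (tt N9018 (iv F61166)) (tt N7530 F58411) (tt N7429 (iv D14804)) (tt N8183 F58412) (tt N9166 D15624) (tt N7706 F58413) (tt N9167 D15625) (tt N9168 D15626))
theorem Q8348 : ∀ i, i < 8348 → P i := stepQ 8347 Q8347 (allL N8347 (tt N7432 F58414) (tt N8827 (iv F60348)) (tt N7485 F58415) (tt N9166 (iv F61706)) (tt N8852 (iv F60461)) (tt N7429 (iv D14805)) (tt N8821 (iv F60330)) (tt N8858 (iv F60484)) (tt N9169 D15627))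
theorem Q8349 : ∀ i, i < 8349 → P i := stepQ 8348 Q8348 (allL N8348 (tt N7433 F58416) (tt N9019 (iv F61171)) (tt N7486 F58417) (tt N9168 (iv F61713)) (tt N7430 F58418) (tt N9169 (iv F61718)) (tt N7708 F58419) (tt N9170 D15628) (tt N7429 (iv D14806)))
theorem Q8350 : ∀ i, i < 8350 → P i := stepQ 8349 Q8349 (allL N8349 (tt N7434 F58420) (tt N9020 (iv F61176)) (tt N7487 F58421) (tt N9171 D15629) (tt N9170 (iv F61721)) (tt N8854 (iv F60470)) (tt N7709 F58422) (tt N7430 (iv D14807)) (tt N9137 (iv F61614)))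
theorem Q8351 : ∀ i, i < 8351 → P i := stepQ 8350 Q8350 (allL N8350 (tt N9166 (iv F61704)) (tt N7435 F58423) (tt N7534 F58424) (tt N7432 F58425) (tt N9172 D15630) (tt N7431 (iv D14808)) (tt N9173 D15631) (tt N9174 D15632) (tt N9175 D15633))
theorem Q8352 : ∀ i, i < 8352 → P i := stepQ 8351 Q8351 (allL N8351 (tt N9167 (iv F61707)) (tt N7436 F58426) (tt N7535 F58427) (tt N9139 (iv F61620)) (tt N8338 F58428) (tt N9174 (iv F61737)) (tt N7763 F58429) (tt N7431 (iv D14809)) (tt N9176 D15634))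
theorem Q8353 : ∀ i, i < 8353 → P i := stepQ 8352 Q8352 (allL N8352 (tt N9168 (iv F61711)) (tt N7437 F58430) (tt N7536 F58431) (tt N7433 F58432) (tt N8339 F58433) (tt N9175 (iv F61742)) (tt N7764 F58434) (tt N9177 D15635) (tt N7431 (iv D14810)))
theorem Q8354 : ∀ i, i < 8354 → P i := stepQ 8353 Q8353 (allL N8353 (tt N8821 (iv F60326)) (tt N7438 F58435) (tt N7488 F58436) (tt N9173 (iv F61731)) (tt N8858 (iv F60482)) (tt N7765 F58437) (tt N7432 (iv D14811)) (tt N8852 (iv F60463)) (tt N9178 D15636))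
theorem Q8355 : ∀ i, i < 8355 → P i := stepQ 8354 Q8354 (allL N8354 (tt N9169 (iv F61716)) (tt N7439 F58438) (tt N7489 F58439) (tt N9175 (iv F61741)) (tt N8859 (iv F60487)) (tt N7433 F58440) (tt N9178 (iv F61754)) (tt N9179 D15637) (tt N7432 (iv D14812)))
theorem Q8356 : ∀ i, i < 8356 → P i := stepQ 8355 Q8355 (allL N8355 (tt N9170 (iv F61719)) (tt N7440 F58441) (tt N7490 F58442) (tt N9180 D15638) (tt N7434 F58443) (tt N9179 (iv F61757)) (tt N7767 F58444) (tt N7433 (iv D14813)) (tt N9142 (iv F61633)))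
theorem Q8357 : ∀ i, i < 8357 → P i := stepQ 8356 Q8356 (allL N8356 (tt N9171 (iv F61723)) (tt N7441 F58445) (tt N8847 (iv F60438)) (tt N7434 (iv D14814)) (tt N9181 D15639) (tt N8861 (iv F60493)) (tt N7768 F58446) (tt N8343 F58447) (tt N9143 (iv F61636)))
theorem Q8358 : ∀ i, i < 8358 → P i := stepQ 8357 Q8357 (allL N8357 (tt N9027 (iv F61194)) (tt N9172 (iv F61726)) (tt N7454 F58448) (tt N8862 (iv F60495)) (tt N7435 (iv D14815)) (tt N8630 (iv F59495)) (tt N8359 (iv F58455)) (tt N8358 F58451) (tt N9182 D15640))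
theorem Q8359 : ∀ i, i < 8359 → P i := stepQ 8358 Q8358 (allL N8358 (tt N9028 (iv F61196)) (tt N9173 (iv F61729)) (tt N7455 F58449) (tt N7438 F58450) (tt N8359 (iv F58453)) (tt N9156 (iv F61673)) (tt N7435 (iv D14816)) (tt N8357 (iv F58451)) (tt N9183 D15641))
theorem Q8360 : ∀ i, i < 8360 → P i := stepQ 8359 Q8359 (allL N8359 (tt N9029 (iv F61200)) (tt N9174 (iv F61734)) (tt N7456 F58452) (tt N9146 (iv F61645)) (tt N8358 F58453) (tt N7436 F58454) (tt N8357 F58455) (tt N7435 (iv D14817)) (tt N9184 D15642))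
theorem Q8361 : ∀ i, i < 8361 → P i := stepQ 8360 Q8360 (allL N8360 (tt N9030 (iv F61205)) (tt N9175 (iv F61739)) (tt N7457 F58456) (tt N7439 F58457) (tt N9182 (iv F61764)) (tt N7437 F58458) (tt N9183 (iv F61767)) (tt N9185 D15643) (tt N7435 (iv D14818)))
theorem Q8362 : ∀ i, i < 8362 → P i := stepQ 8361 Q8361 (allL N8361 (tt N9031 (iv F61209)) (tt N9176 (iv F61743)) (tt N7458 F58459) (tt N9148 (iv F61653)) (tt N8634 (iv F59504)) (tt N9184 (iv F61770)) (tt N9159 (iv F61686)) (tt N9186 D15644) (tt N7436 (iv D14819)))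
theorem Q8363 : ∀ i, i < 8363 → P i := stepQ 8362 Q8362 (allL N8362 (tt N9032 (iv F61211)) (tt N9177 (iv F61747)) (tt N7459 F58460) (tt N9187 D15645) (tt N8635 (iv F59506)) (tt N9185 (iv F61773)) (tt N9160 (iv F61689)) (tt N7437 (iv D14820)) (tt N9186 (iv F61775)))
theorem Q8364 : ∀ i, i < 8364 → P i := stepQ 8363 Q8363 (allL N8363 (tt N9033 (iv F61213)) (tt N9178 (iv F61751)) (tt N7442 F58461) (tt N9183 (iv F61766)) (tt N8868 (iv F60506)) (tt N9161 (iv F61692)) (tt N7439 F58462) (tt N9188 D15646) (tt N7438 (iv D14821)))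
theorem Q8365 : ∀ i, i < 8365 → P i := stepQ 8364 Q8364 (allL N8364 (tt N9034 (iv F61216)) (tt N9179 (iv F61755)) (tt N7443 F58463) (tt N9189 D15647) (tt N8869 (iv F60509)) (tt N7440 F58464) (tt N9188 (iv F61778)) (tt N7439 (iv D14822)) (tt N9151 (iv F61659)))
theorem Q8366 : ∀ i, i < 8366 → P i := stepQ 8365 Q8365 (allL N8365 (tt N9035 (iv F61219)) (tt N9180 (iv F61758)) (tt N9190 D15648) (tt N7440 (iv D14823)) (tt N9191 D15649) (tt N9189 (iv F61779)) (tt N9163 (iv F61698)) (tt N9187 (iv F61776)) (tt N9152 (iv F61660)))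
theorem Q8367 : ∀ i, i < 8367 → P i := stepQ 8366 Q8366 (allL N8366 (tt N9036 (iv F61220)) (tt N9181 (iv F61760)) (tt N9101 (iv F61485)) (tt N9191 (iv F61781)) (tt N7441 (iv D14824)) (tt N9192 D15650) (tt N9164 (iv F61700)) (tt N8639 (iv F59511)) (tt N9153 (iv F61661)))
theorem Q8368 : ∀ i, i < 8368 → P i := stepQ 8367 Q8367 (allL N8367 (tt N9037 (iv F61221)) (tt N7494 F58465) (tt N9188 (iv F61777)) (tt N8770 (iv F60070)) (tt N8872 (iv F60513)) (tt N9165 (iv F61702)) (tt N7443 F58466) (tt N7442 (iv D14825)) (tt N9154 (iv F61664)))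
theorem Q8369 : ∀ i, i < 8369 → P i := stepQ 8368 Q8368 (allL N8368 (tt N9038 (iv F61224)) (tt N7495 F58467) (tt N9193 D15651) (tt N7443 (iv D14826)) (tt N8764 (iv F60040)) (tt N7444 F58468) (tt N8770 (iv F60072)) (tt N7465 F58469) (tt N9017 (iv F61164)))
theorem Q8370 : ∀ i, i < 8370 → P i := stepQ 8369 Q8369 (allL N8369 (tt N9039 (iv F61229)) (tt N9194 D15652) (tt N7444 (iv D14827)) (tt N9190 (iv F61780)) (tt N8992 (iv F61071)) (tt N9193 (iv F61782)) (tt N9001 (iv F61105)) (tt N7466 F58470) (tt N9015 (iv F61157)))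
theorem Q8371 : ∀ i, i < 8371 → P i := stepQ 8370 Q8370 (allL N8370 (tt N9040 (iv F61235)) (tt N7554 F58471) (tt N9155 (iv F61666)) (tt N8370 F58472) (tt N7445 (iv D14828)) (tt N8443 (iv F58754)) (tt N7774 (iv F58473)) (tt N7773 (iv F58474)) (tt N9195 D15653))
theorem Q8372 : ∀ i, i < 8372 → P i := stepQ 8371 Q8371 (allL N8371 (tt N9041 (iv F61240)) (tt N7555 F58475) (tt N9156 (iv F61670)) (tt N7448 F58476) (tt N7774 F58477) (tt N7455 F58478) (tt N7445 (iv D14829)) (tt N7772 (iv F58479)) (tt N9196 D15654))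
theorem Q8373 : ∀ i, i < 8373 → P i := stepQ 8372 Q8372 (allL N8372 (tt N9042 (iv F61246)) (tt N7556 F58480) (tt N9157 (iv F61676)) (tt N7655 F58481) (tt N7773 F58482) (tt N7446 F58483) (tt N7772 F58484) (tt N7445 (iv D14830)) (tt N9197 D15655))
theorem Q8374 : ∀ i, i < 8374 → P i := stepQ 8373 Q8373 (allL N8373 (tt N9043 (iv F61252)) (tt N7557 F58485) (tt N9158 (iv F61681)) (tt N7449 F58486) (tt N9195 (iv F61788)) (tt N7447 F58487) (tt N9196 (iv F61794)) (tt N9198 D15656) (tt N7445 (iv D14831)))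
theorem Q8375 : ∀ i, i < 8375 → P i := stepQ 8374 Q8374 (allL N8374 (tt N9044 (iv F61256)) (tt N7558 F58488) (tt N9159 (iv F61685)) (tt N7656 F58489) (tt N8447 (iv F58769)) (tt N9197 (iv F61798)) (tt N7458 F58490) (tt N9199 D15657) (tt N7446 (iv D14832)))
theorem Q8376 : ∀ i, i < 8376 → P i := stepQ 8375 Q8375 (allL N8375 (tt N9045 (iv F61260)) (tt N7559 F58491) (tt N9160 (iv F61688)) (tt N9200 D15658) (tt N8448 (iv F58772)) (tt N9198 (iv F61801)) (tt N7459 F58492) (tt N7447 (iv D14833)) (tt N9199 (iv F61804)))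
theorem Q8377 : ∀ i, i < 8377 → P i := stepQ 8376 Q8376 (allL N8376 (tt N9046 (iv F61264)) (tt N7560 F58493) (tt N7452 F58494) (tt N9196 (iv F61791)) (tt N8376 F58495) (tt N7460 F58496) (tt N7449 F58497) (tt N9201 D15659) (tt N7448 (iv D14834)))
theorem Q8378 : ∀ i, i < 8378 → P i := stepQ 8377 Q8377 (allL N8377 (tt N7647 F58498) (tt N7561 F58499) (tt N7453 F58500) (tt N9202 D15660) (tt N8377 F58501) (tt N7450 F58502) (tt N9201 (iv F61814)) (tt N7449 (iv D14835)) (tt N7607 F58503))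
theorem Q8379 : ∀ i, i < 8379 → P i := stepQ 8378 Q8378 (allL N8378 (tt N7645 F58504) (tt N7562 F58505) (tt N8999 (iv F61096)) (tt N7450 (iv D14836)) (tt N9203 D15661) (tt N9202 (iv F61818)) (tt N7462 F58506) (tt N9200 (iv F61808)) (tt N7606 F58507))
theorem Q8380 : ∀ i, i < 8380 → P i := stepQ 8379 Q8379 (allL N8379 (tt N7638 F58508) (tt N7563 F58509) (tt N7604 F58510) (tt N9203 (iv F61822)) (tt N7451 (iv D14837)) (tt N8525 (iv F59136)) (tt N7463 F58511) (tt N8452 (iv F58789)) (tt N7602 F58512))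
theorem Q8381 : ∀ i, i < 8381 → P i := stepQ 8380 Q8380 (allL N8380 (tt N7648 F58513) (tt N7497 F58514) (tt N9201 (iv F61811)) (tt N8769 (iv F60065)) (tt N8380 F58515) (tt N7464 F58516) (tt N7453 F58517) (tt N7452 (iv D14838)) (tt N7608 F58518))
theorem Q8382 : ∀ i, i < 8382 → P i := stepQ 8381 Q8381 (allL N8381 (tt N9047 (iv F61271)) (tt N7567 F58519) (tt N9182 (iv F61763)) (tt N7467 F58520) (tt N7457 F58521) (tt N8643 (iv F59521)) (tt N8383 (iv F58529)) (tt N9204 D15662) (tt N7454 (iv D14839)))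
theorem Q8383 : ∀ i, i < 8383 → P i := stepQ 8382 Q8382 (allL N8382 (tt N9048 (iv F61275)) (tt N7568 F58522) (tt N9183 (iv F61765)) (tt N7460 F58523) (tt N8383 (iv F58527)) (tt N9196 (iv F61793)) (tt N7457 F58524) (tt N9205 D15663) (tt N7455 (iv D14840)))
theorem Q8384 : ∀ i, i < 8384 → P i := stepQ 8383 Q8383 (allL N8383 (tt N9049 (iv F61279)) (tt N7569 F58525) (tt N9184 (iv F61768)) (tt N7659 F58526) (tt N8382 F58527) (tt N7458 F58528) (tt N8381 F58529) (tt N9206 D15664) (tt N7456 (iv D14841)))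
theorem Q8385 : ∀ i, i < 8385 → P i := stepQ 8384 Q8384 (allL N8384 (tt N9050 (iv F61285)) (tt N7570 F58530) (tt N9185 (iv F61772)) (tt N9207 D15665) (tt N9204 (iv F61827)) (tt N7459 F58531) (tt N9205 (iv F61829)) (tt N7457 (iv D14842)) (tt N9206 (iv F61835)))
theorem Q8386 : ∀ i, i < 8386 → P i := stepQ 8385 Q8385 (allL N8385 (tt N9051 (iv F61288)) (tt N7571 F58532) (tt N9186 (iv F61774)) (tt N9208 D15666) (tt N8647 (iv F59531)) (tt N9206 (iv F61833)) (tt N9199 (iv F61803)) (tt N7458 (iv D14843)) (tt N7459 F58533))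
theorem Q8387 : ∀ i, i < 8387 → P i := stepQ 8386 Q8386 (allL N8386 (tt N9052 (iv F61291)) (tt N7572 F58534) (tt N9209 D15667) (tt N7459 (iv D14844)) (tt N9210 D15668) (tt N9207 (iv F61837)) (tt N9200 (iv F61807)) (tt N7462 F58535) (tt N9208 (iv F61842)))
theorem Q8388 : ∀ i, i < 8388 → P i := stepQ 8387 Q8387 (allL N8387 (tt N9053 (iv F61295)) (tt N7573 F58536) (tt N7464 F58537) (tt N9211 D15669) (tt N7471 F58538) (tt N9201 (iv F61813)) (tt N7461 F58539) (tt N7460 (iv D14845)) (tt N7663 F58540))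
theorem Q8389 : ∀ i, i < 8389 → P i := stepQ 8388 Q8388 (allL N8388 (tt N9054 (iv F61302)) (tt N7574 F58541) (tt N9212 D15670) (tt N7461 (iv D14846)) (tt N8304 F58542) (tt N7462 F58543) (tt N9211 (iv F61849)) (tt N9207 (iv F61838)) (tt N7664 F58544))
theorem Q8390 : ∀ i, i < 8390 → P i := stepQ 8389 Q8389 (allL N8389 (tt N9055 (iv F61307)) (tt N9213 D15671) (tt N7462 (iv D14847)) (tt N7466 F58545) (tt N9214 D15672) (tt N9212 (iv F61854)) (tt N8999 (iv F61098)) (tt N9209 (iv F61843)) (tt N7665 F58546))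
theorem Q8391 : ∀ i, i < 8391 → P i := stepQ 8390 Q8390 (allL N8390 (tt N9056 (iv F61312)) (tt N7576 F58547) (tt N9214 (iv F61860)) (tt N7463 F58548) (tt N7462 (iv D14848)) (tt N8307 F58549) (tt N9203 (iv F61823)) (tt N9210 (iv F61846)) (tt N7666 F58550))
theorem Q8392 : ∀ i, i < 8392 → P i := stepQ 8391 Q8391 (allL N8391 (tt N9057 (iv F61318)) (tt N8719 (iv F59831)) (tt N7465 (iv D14849)) (tt N9212 (iv F61852)) (tt N8718 (iv F59828)) (tt N7466 F58551) (tt N8726 (iv F59866)) (tt N9193 (iv F61783)) (tt N7667 F58552))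
theorem Q8393 : ∀ i, i < 8393 → P i := stepQ 8392 Q8392 (allL N8392 (tt N8845 (iv F60430)) (tt N7466 (iv D14850)) (tt N7498 F58553) (tt N9213 (iv F61857)) (tt N8991 (iv F61067)) (tt N8719 (iv F59834)) (tt N8995 (iv F61084)) (tt N9194 (iv F61785)) (tt N7668 F58554))
theorem Q8394 : ∀ i, i < 8394 → P i := stepQ 8393 Q8393 (allL N8393 (tt N8294 F58555) (tt N7578 F58556) (tt N8594 (iv F59394)) (tt N9215 D15673) (tt N7470 F58557) (tt N8657 (iv F59562)) (tt N8537 (iv F59179)) (tt N7467 (iv D14851)) (tt N8137 F58558))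
theorem Q8395 : ∀ i, i < 8395 → P i := stepQ 8394 Q8394 (allL N8394 (tt N8296 F58559) (tt N7579 F58560) (tt N8595 (iv F59400)) (tt N8120 (iv F58564)) (tt N8537 (iv F59177)) (tt N8394 F58561) (tt N7470 F58562) (tt N7468 (iv D14852)) (tt N8119 F58563))
theorem Q8396 : ∀ i, i < 8396 → P i := stepQ 8395 Q8395 (allL N8395 (tt N8297 F58565) (tt N7582 F58566) (tt N7968 F58567) (tt N7471 (iv D14853)) (tt N7959 (iv F58572)) (tt N8395 F58568) (tt N7472 F58569) (tt N8120 F58570) (tt N7669 F58571))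
theorem Q8397 : ∀ i, i < 8397 → P i := stepQ 8396 Q8396 (allL N8396 (tt N7477 F58573) (tt N7499 F58574) (tt N9136 (iv F61608)) (tt N8396 F58575) (tt N7475 F58576) (tt N8914 (iv F60704)) (tt N7702 F58577) (tt N9216 D15674) (tt N7474 (iv D14854)))
theorem Q8398 : ∀ i, i < 8398 → P i := stepQ 8397 Q8397 (allL N8397 (tt N7478 F58578) (tt N7500 F58579) (tt N9137 (iv F61612)) (tt N8702 (iv F59749)) (tt N9216 (iv F61870)) (tt N8897 (iv F60606)) (tt N7703 F58580) (tt N7475 (iv D14855)) (tt N7487 F58581))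
theorem Q8399 : ∀ i, i < 8399 → P i := stepQ 8398 Q8398 (allL N8398 (tt N8914 (iv F60700)) (tt N7479 F58582) (tt N9141 (iv F61627)) (tt N8398 F58583) (tt N8898 (iv F60612)) (tt N7477 F58584) (tt N8912 (iv F60694)) (tt N9217 D15675) (tt N7476 (iv D14856)))
theorem Q8400 : ∀ i, i < 8400 → P i := stepQ 8399 Q8399 (allL N8399 (tt N9216 (iv F61868)) (tt N7480 F58585) (tt N9142 (iv F61630)) (tt N9218 D15676) (tt N7478 F58586) (tt N9217 (iv F61874)) (tt N7761 F58587) (tt N7477 (iv D14857)) (tt N7490 F58588))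
theorem Q8401 : ∀ i, i < 8401 → P i := stepQ 8400 Q8400 (allL N8400 (tt N7502 F58589) (tt N9217 (iv F61873)) (tt N7482 F58590) (tt N9219 D15677) (tt N8900 (iv F60622)) (tt N7480 F58591) (tt N8933 (iv F60805)) (tt N7479 (iv D14858)) (tt N7492 F58592))
theorem Q8402 : ∀ i, i < 8402 → P i := stepQ 8401 Q8401 (allL N8401 (tt N7503 F58593) (tt N9218 (iv F61876)) (tt N9066 (iv F61358)) (tt N7480 (iv D14859)) (tt N8896 (iv F60598)) (tt N9219 (iv F61881)) (tt N7795 F58594) (tt N8401 F58595) (tt N7493 F58596))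
theorem Q8403 : ∀ i, i < 8403 → P i := stepQ 8402 Q8402 (allL N8402 (tt N7504 F58597) (tt N9154 (iv F61662)) (tt N8933 (iv F60802)) (tt N8756 (iv F59994)) (tt N8902 (iv F60634)) (tt N8793 (iv F60209)) (tt N7482 F58598) (tt N7481 (iv D14860)) (tt N7494 F58599))
theorem Q8404 : ∀ i, i < 8404 → P i := stepQ 8403 Q8403 (allL N8403 (tt N7505 F58600) (tt N9165 (iv F61701)) (tt N7796 F58601) (tt N8772 (iv F60078)) (tt N8785 (iv F60153)) (tt N7494 F58602) (tt N7484 F58603) (tt N7483 (iv D14861)) (tt N8793 (iv F60211)))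
theorem Q8405 : ∀ i, i < 8405 → P i := stepQ 8404 Q8404 (allL N8404 (tt N7489 F58604) (tt N7506 F58605) (tt N9169 (iv F61717)) (tt N7584 F58606) (tt N8912 (iv F60692)) (tt N7486 F58607) (tt N8898 (iv F60614)) (tt N9220 D15678) (tt N7485 (iv D14862)))
theorem Q8406 : ∀ i, i < 8406 → P i := stepQ 8405 Q8405 (allL N8405 (tt N7490 F58608) (tt N7507 F58609) (tt N9170 (iv F61720)) (tt N9221 D15679) (tt N7487 F58610) (tt N9220 (iv F61886)) (tt N7711 F58611) (tt N7486 (iv D14863)) (tt N9216 (iv F61872)))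
theorem Q8407 : ∀ i, i < 8407 → P i := stepQ 8406 Q8406 (allL N8406 (tt N8898 (iv F60609)) (tt N7491 F58612) (tt N9178 (iv F61752)) (tt N7586 F58613) (tt N8914 (iv F60703)) (tt N7769 F58614) (tt N7489 F58615) (tt N9222 D15680) (tt N7488 (iv D14864)))
theorem Q8408 : ∀ i, i < 8408 → P i := stepQ 8407 Q8407 (allL N8407 (tt N9220 (iv F61884)) (tt N7492 F58616) (tt N9179 (iv F61756)) (tt N9223 D15681) (tt N8915 (iv F60707)) (tt N7490 F58617) (tt N9222 (iv F61893)) (tt N7489 (iv D14865)) (tt N9217 (iv F61875)))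
theorem Q8409 : ∀ i, i < 8409 → P i := stepQ 8408 Q8408 (allL N8408 (tt N9221 (iv F61887)) (tt N7493 F58618) (tt N9224 D15682) (tt N7490 (iv D14866)) (tt N8850 (iv F60452)) (tt N9223 (iv F61895)) (tt N7771 F58619) (tt N7588 F58620) (tt N9218 (iv F61879)))
theorem Q8410 : ∀ i, i < 8410 → P i := stepQ 8409 Q8409 (allL N8409 (tt N7510 F58621) (tt N9222 (iv F61891)) (tt N7494 F58622) (tt N8776 (iv F60102)) (tt N8917 (iv F60713)) (tt N7796 F58623) (tt N7492 F58624) (tt N7491 (iv D14867)) (tt N8933 (iv F60806)))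
theorem Q8411 : ∀ i, i < 8411 → P i := stepQ 8410 Q8410 (allL N8410 (tt N7511 F58625) (tt N9223 (iv F61894)) (tt N8766 (iv F60049)) (tt N7492 (iv D14868)) (tt N9225 D15683) (tt N7493 F58626) (tt N8776 (iv F60105)) (tt N7590 F58627) (tt N9219 (iv F61883)))
theorem Q8412 : ∀ i, i < 8412 → P i := stepQ 8411 Q8411 (allL N8411 (tt N7512 F58628) (tt N9226 D15684) (tt N7493 (iv D14869)) (tt N7496 F58629) (tt N8911 (iv F60686)) (tt N8766 (iv F60051)) (tt N7798 F58630) (tt N7591 F58631) (tt N9066 (iv F61361)))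
theorem Q8413 : ∀ i, i < 8413 → P i := stepQ 8412 Q8412 (allL N8412 (tt N8849 (iv F60446)) (tt N7496 (iv D14870)) (tt N9194 (iv F61784)) (tt N9226 (iv F61903)) (tt N9058 (iv F61324)) (tt N8721 (iv F59842)) (tt N9061 (iv F61339)) (tt N7498 F58632) (tt N9064 (iv F61352)))
theorem Q8414 : ∀ i, i < 8414 → P i := stepQ 8413 Q8413 (allL N8413 (tt N7501 F58633) (tt N9216 (iv F61869)) (tt N8909 (iv F60674)) (tt N9227 D15685) (tt N7500 F58634) (tt N8917 (iv F60714)) (tt N7732 F58635) (tt N7499 (iv D14871)) (tt N7507 F58636))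
theorem Q8415 : ∀ i, i < 8415 → P i := stepQ 8414 Q8414 (allL N8414 (tt N9227 (iv F61906)) (tt N7503 F58637) (tt N9228 D15686) (tt N7501 (iv D14872)) (tt N8784 (iv F60146)) (tt N8935 (iv F60814)) (tt N7745 F58638) (tt N8414 F58639) (tt N7509 F58640))
theorem Q8416 : ∀ i, i < 8416 → P i := stepQ 8415 Q8415 (allL N8415 (tt N9219 (iv F61880)) (tt N8935 (iv F60811)) (tt N8784 (iv F60145)) (tt N7502 (iv D14873)) (tt N9228 (iv F61912)) (tt N7503 F58641) (tt N8789 (iv F60181)) (tt N8415 F58642) (tt N7511 F58643))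
theorem Q8417 : ∀ i, i < 8417 → P i := stepQ 8416 Q8416 (allL N8416 (tt N7508 F58644) (tt N9220 (iv F61885)) (tt N8902 (iv F60633)) (tt N9229 D15687) (tt N8933 (iv F60803)) (tt N7507 F58645) (tt N8900 (iv F60624)) (tt N7506 (iv D14874)) (tt N8917 (iv F60716)))
theorem Q8418 : ∀ i, i < 8418 → P i := stepQ 8417 Q8417 (allL N8417 (tt N7509 F58646) (tt N9221 (iv F61888)) (tt N9225 (iv F61900)) (tt N7507 (iv D14875)) (tt N8766 (iv F60050)) (tt N9229 (iv F61918)) (tt N7738 F58647) (tt N7596 F58648) (tt N9227 (iv F61909)))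
theorem Q8419 : ∀ i, i < 8419 → P i := stepQ 8418 Q8418 (allL N8418 (tt N9229 (iv F61917)) (tt N7511 F58649) (tt N8932 (iv F60795)) (tt N7508 (iv D14876)) (tt N8931 F60793) (tt N7509 F58650) (tt N8795 (iv F60221)) (tt N7598 F58651) (tt N8935 (iv F60817)))
theorem Q8420 : ∀ i, i < 8420 → P i := stepQ 8419 Q8419 (allL N8419 (tt N9225 (iv F61899)) (tt N8931 (iv F60787)) (tt N7509 (iv D14877)) (tt N8936 (iv F60820)) (tt N7511 F58652) (tt N8932 (iv F60797)) (tt N7749 F58653) (tt N7599 F58654) (tt N9228 (iv F61916)))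
theorem Q8421 : ∀ i, i < 8421 → P i := stepQ 8420 Q8420 (allL N8420 (tt N8420 F58655) (tt N7876 F58656) (tt N8555 (iv F59254)) (tt N7670 F58657) (tt N8941 (iv F60848)) (tt N7513 (iv D14878)) (tt N8556 (iv F59261)) (tt N8106 F58658) (tt N9230 D15688))
theorem Q8422 : ∀ i, i < 8422 → P i := stepQ 8421 Q8421 (allL N8421 (tt N8421 F58659) (tt N7878 F58660) (tt N8484 (iv F58925)) (tt N7671 F58661) (tt N7514 F58662) (tt N9230 (iv F61924)) (tt N7516 F58663) (tt N9231 D15689) (tt N7513 (iv D14879)))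
theorem Q8423 : ∀ i, i < 8423 → P i := stepQ 8422 Q8422 (allL N8422 (tt N8422 F58664) (tt N8963 (iv F60953)) (tt N8938 (iv F60829)) (tt N7519 F58665) (tt N9231 (iv F61927)) (tt N8942 (iv F60855)) (tt N7517 F58666) (tt N7514 (iv D14880)) (tt N8108 F58667))
theorem Q8424 : ∀ i, i < 8424 → P i := stepQ 8423 Q8423 (allL N8423 (tt N8423 F58668) (tt N9111 (iv F61524)) (tt N7517 F58669) (tt N8942 (iv F60854)) (tt N8480 F58914) (tt N7519 F58670) (tt N8938 (iv F60832)) (tt N7515 (iv D14881)) (tt N8113 F58671))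
theorem Q8425 : ∀ i, i < 8425 → P i := stepQ 8424 Q8424 (allL N8424 (tt N8424 F58672) (tt N9084 (iv F61424)) (tt N8480 F58913) (tt N9232 D15690) (tt N7517 F58673) (tt N8482 (iv F58919)) (tt N9231 (iv F61928)) (tt N7516 (iv D14882)) (tt N8116 F58674))
theorem Q8426 : ∀ i, i < 8426 → P i := stepQ 8425 Q8425 (allL N8425 (tt N8425 F58675) (tt N9115 (iv F61540)) (tt N7812 F58676) (tt N9233 D15691) (tt N7519 F58677) (tt N8483 (iv F58922)) (tt N7528 F58678) (tt N7518 (iv D14883)) (tt N8433 (iv F58714)))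
theorem Q8427 : ∀ i, i < 8427 → P i := stepQ 8426 Q8426 (allL N8426 (tt N7521 F58679) (tt N8426 F58680) (tt N9116 (iv F61544)) (tt N8426 F58681) (tt N7520 (iv D14884)) (tt N9234 D15692) (tt N7697 F58682) (tt N8155 F58683) (tt N9235 D15693))
theorem Q8428 : ∀ i, i < 8428 → P i := stepQ 8427 Q8427 (allL N8427 (tt N7522 F58684) (tt N8427 F58685) (tt N9117 (iv F61548)) (tt N7529 F58686) (tt N9235 (iv F61947)) (tt N8946 (iv F60874)) (tt N7698 F58687) (tt N9236 D15694) (tt N7520 (iv D14885)))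
theorem Q8429 : ∀ i, i < 8429 → P i := stepQ 8428 Q8428 (allL N8428 (tt N9234 (iv F61938)) (tt N7523 F58688) (tt N9119 (iv F61556)) (tt N8428 F58689) (tt N7662 F58690) (tt N7521 (iv D14886)) (tt N9237 D15695) (tt N7666 F58691) (tt N9238 D15696))
theorem Q8430 : ∀ i, i < 8430 → P i := stepQ 8429 Q8429 (allL N8429 (tt N9235 (iv F61944)) (tt N7524 F58692) (tt N9120 (iv F61560)) (tt N8429 F58693) (tt N7522 F58694) (tt N9238 (iv F61963)) (tt N7754 F58695) (tt N9239 D15697) (tt N7521 (iv D14887)))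
theorem Q8431 : ∀ i, i < 8431 → P i := stepQ 8430 Q8430 (allL N8430 (tt N9236 (iv F61949)) (tt N7525 F58696) (tt N9121 (iv F61564)) (tt N8801 (iv F60249)) (tt N9239 (iv F61965)) (tt N8948 (iv F60881)) (tt N7755 F58697) (tt N7522 (iv D14888)) (tt N8308 F58698))
theorem Q8432 : ∀ i, i < 8432 → P i := stepQ 8431 Q8431 (allL N8431 (tt N8431 F58699) (tt N9237 (iv F61955)) (tt N7526 F58700) (tt N8431 F58701) (tt N7684 F58702) (tt N7810 F58703) (tt N7523 (iv D14889)) (tt N7688 F58704) (tt N9240 D15698))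
theorem Q8433 : ∀ i, i < 8433 → P i := stepQ 8432 Q8432 (allL N8432 (tt N8432 F58705) (tt N9238 (iv F61960)) (tt N7527 F58706) (tt N8432 F58707) (tt N7693 F58708) (tt N7524 F58709) (tt N9240 (iv F61973)) (tt N9241 D15699) (tt N7523 (iv D14890)))
theorem Q8434 : ∀ i, i < 8434 → P i := stepQ 8433 Q8433 (allL N8433 (tt N8433 F58710) (tt N9239 (iv F61964)) (tt N7528 F58711) (tt N9242 D15700) (tt N7525 F58712) (tt N9241 (iv F61977)) (tt N7812 F58713) (tt N7524 (iv D14891)) (tt N8425 F58714))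
theorem Q8435 : ∀ i, i < 8435 → P i := stepQ 8434 Q8434 (allL N8434 (tt N8434 F58715) (tt N9129 (iv F61584)) (tt N9240 (iv F61969)) (tt N7676 F58716) (tt N8950 (iv F60891)) (tt N8474 F58890) (tt N7527 F58717) (tt N9243 D15701) (tt N7526 (iv D14892)))
theorem Q8436 : ∀ i, i < 8436 → P i := stepQ 8435 Q8435 (allL N8435 (tt N8435 F58718) (tt N9130 (iv F61587)) (tt N9241 (iv F61975)) (tt N9244 D15702) (tt N8951 (iv F60895)) (tt N7528 F58719) (tt N9243 (iv F61984)) (tt N7527 (iv D14893)) (tt N8672 (iv F59628)))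
theorem Q8437 : ∀ i, i < 8437 → P i := stepQ 8436 Q8436 (allL N8436 (tt N8436 F58720) (tt N9131 (iv F61589)) (tt N9245 D15703) (tt N7528 (iv D14894)) (tt N9232 (iv F61931)) (tt N9244 (iv F61986)) (tt N9233 (iv F61936)) (tt N7678 F58721) (tt N8673 (iv F59631)))
theorem Q8438 : ∀ i, i < 8438 → P i := stepQ 8437 Q8437 (allL N8437 (tt N7534 F58722) (tt N8437 F58723) (tt N9166 (iv F61705)) (tt N7531 F58724) (tt N9246 D15704) (tt N7530 (iv D14895)) (tt N9247 D15705) (tt N9248 D15706) (tt N9249 D15707))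
theorem Q8439 : ∀ i, i < 8439 → P i := stepQ 8438 Q8438 (allL N8438 (tt N7535 F58725) (tt N8438 F58726) (tt N9167 (iv F61708)) (tt N8438 F58727) (tt N8206 F58728) (tt N9248 (iv F62003)) (tt N7713 F58729) (tt N7530 (iv D14896)) (tt N9250 D15708))
theorem Q8440 : ∀ i, i < 8440 → P i := stepQ 8439 Q8439 (allL N8439 (tt N7536 F58730) (tt N8439 F58731) (tt N9168 (iv F61712)) (tt N7532 F58732) (tt N8207 F58733) (tt N9249 (iv F62008)) (tt N7714 F58734) (tt N9251 D15709) (tt N7530 (iv D14897)))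
theorem Q8441 : ∀ i, i < 8441 → P i := stepQ 8440 Q8440 (allL N8440 (tt N7537 F58735) (tt N8440 F58736) (tt N7583 F58737) (tt N9247 (iv F61996)) (tt N8440 F58738) (tt N7715 F58739) (tt N7531 (iv D14898)) (tt N8440 F58740) (tt N9252 D15710))
theorem Q8442 : ∀ i, i < 8442 → P i := stepQ 8441 Q8441 (allL N8441 (tt N7538 F58741) (tt N8441 F58742) (tt N7584 F58743) (tt N9249 (iv F62007)) (tt N8441 F58744) (tt N7532 F58745) (tt N9252 (iv F62023)) (tt N9253 D15711) (tt N7531 (iv D14899)))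
theorem Q8443 : ∀ i, i < 8443 → P i := stepQ 8442 Q8442 (allL N8442 (tt N7539 F58746) (tt N8442 F58747) (tt N7585 F58748) (tt N9254 D15712) (tt N7533 F58749) (tt N9253 (iv F62028)) (tt N7717 F58750) (tt N7532 (iv D14900)) (tt N8442 F58751))
theorem Q8444 : ∀ i, i < 8444 → P i := stepQ 8443 Q8443 (allL N8443 (tt N9246 (iv F61990)) (tt N7541 F58752) (tt N9172 (iv F61727)) (tt N8443 F58753) (tt N7534 (iv D14901)) (tt N8370 F58754) (tt N8445 (iv F58763)) (tt N8444 F58758) (tt N9255 D15713))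
theorem Q8445 : ∀ i, i < 8445 → P i := stepQ 8444 Q8444 (allL N8444 (tt N9247 (iv F61994)) (tt N7542 F58755) (tt N9173 (iv F61730)) (tt N7537 F58756) (tt N8445 (iv F58761)) (tt N7773 F58757) (tt N7534 (iv D14902)) (tt N8443 (iv F58758)) (tt N9256 D15714))
theorem Q8446 : ∀ i, i < 8446 → P i := stepQ 8445 Q8445 (allL N8445 (tt N9248 (iv F61999)) (tt N7543 F58759) (tt N9174 (iv F61735)) (tt N8445 F58760) (tt N8444 F58761) (tt N7535 F58762) (tt N8443 F58763) (tt N7534 (iv D14903)) (tt N9257 D15715))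
theorem Q8447 : ∀ i, i < 8447 → P i := stepQ 8446 Q8446 (allL N8446 (tt N9249 (iv F62005)) (tt N7544 F58764) (tt N9175 (iv F61740)) (tt N7538 F58765) (tt N9255 (iv F62036)) (tt N7536 F58766) (tt N9256 (iv F62041)) (tt N9258 D15716) (tt N7534 (iv D14904)))
theorem Q8448 : ∀ i, i < 8448 → P i := stepQ 8447 Q8447 (allL N8447 (tt N9250 (iv F62009)) (tt N7545 F58767) (tt N9176 (iv F61744)) (tt N8447 F58768) (tt N8374 F58769) (tt N9257 (iv F62045)) (tt N7776 F58770) (tt N9259 D15717) (tt N7535 (iv D14905)))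
theorem Q8449 : ∀ i, i < 8449 → P i := stepQ 8448 Q8448 (allL N8448 (tt N9251 (iv F62014)) (tt N7546 F58771) (tt N9177 (iv F61748)) (tt N9260 D15718) (tt N8375 F58772) (tt N9258 (iv F62048)) (tt N7777 F58773) (tt N7536 (iv D14906)) (tt N9259 (iv F62052)))
theorem Q8450 : ∀ i, i < 8450 → P i := stepQ 8449 Q8449 (allL N8449 (tt N9252 (iv F62018)) (tt N7547 F58774) (tt N7586 F58775) (tt N9256 (iv F62039)) (tt N8449 F58776) (tt N7778 F58777) (tt N7538 F58778) (tt N9261 D15719) (tt N7537 (iv D14907)))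
theorem Q8451 : ∀ i, i < 8451 → P i := stepQ 8450 Q8450 (allL N8450 (tt N9253 (iv F62024)) (tt N7548 F58779) (tt N7587 F58780) (tt N9262 D15720) (tt N8450 F58781) (tt N7539 F58782) (tt N9261 (iv F62060)) (tt N7538 (iv D14908)) (tt N8450 F58783))
theorem Q8452 : ∀ i, i < 8452 → P i := stepQ 8451 Q8451 (allL N8451 (tt N9254 (iv F62030)) (tt N7549 F58784) (tt N9263 D15721) (tt N7539 (iv D14909)) (tt N9264 D15722) (tt N9262 (iv F62063)) (tt N7780 F58785) (tt N9260 (iv F62055)) (tt N8451 F58786))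
theorem Q8453 : ∀ i, i < 8453 → P i := stepQ 8452 Q8452 (allL N8452 (tt N8524 (iv F59127)) (tt N7550 F58787) (tt N8499 (iv F58989)) (tt N9264 (iv F62069)) (tt N7540 (iv D14910)) (tt N9265 D15723) (tt N7781 F58788) (tt N8379 F58789) (tt N8452 F58790))
theorem Q8454 : ∀ i, i < 8454 → P i := stepQ 8453 Q8453 (allL N8453 (tt N8453 F58791) (tt N9255 (iv F62034)) (tt N7567 F58792) (tt N8453 F58793) (tt N7544 F58794) (tt N8465 (iv F58848)) (tt N8455 (iv F58805)) (tt N9266 D15724) (tt N7541 (iv D14911)))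
theorem Q8455 : ∀ i, i < 8455 → P i := stepQ 8454 Q8454 (allL N8454 (tt N8454 F58795) (tt N9256 (iv F62038)) (tt N7568 F58796) (tt N7547 F58797) (tt N8455 (iv F58803)) (tt N7814 F58798) (tt N7544 F58799) (tt N9267 D15725) (tt N7542 (iv D14912)))
theorem Q8456 : ∀ i, i < 8456 → P i := stepQ 8455 Q8455 (allL N8455 (tt N8455 F58800) (tt N9257 (iv F62042)) (tt N7569 F58801) (tt N8455 F58802) (tt N8454 F58803) (tt N7545 F58804) (tt N8453 F58805) (tt N9268 D15726) (tt N7543 (iv D14913)))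
theorem Q8457 : ∀ i, i < 8457 → P i := stepQ 8456 Q8456 (allL N8456 (tt N8456 F58806) (tt N9258 (iv F62047)) (tt N7570 F58807) (tt N9269 D15727) (tt N9266 (iv F62079)) (tt N7546 F58808) (tt N9267 (iv F62083)) (tt N7544 (iv D14914)) (tt N9268 (iv F62090)))
theorem Q8458 : ∀ i, i < 8458 → P i := stepQ 8457 Q8457 (allL N8457 (tt N8457 F58809) (tt N9259 (iv F62049)) (tt N7571 F58810) (tt N9270 D15728) (tt N8469 (iv F58867)) (tt N9268 (iv F62088)) (tt N7817 F58811) (tt N7545 (iv D14915)) (tt N7546 F58812))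
theorem Q8459 : ∀ i, i < 8459 → P i := stepQ 8458 Q8458 (allL N8458 (tt N8458 F58813) (tt N9260 (iv F62053)) (tt N9271 D15729) (tt N7546 (iv D14916)) (tt N9272 D15730) (tt N9269 (iv F62093)) (tt N7818 F58814) (tt N7549 F58815) (tt N9270 (iv F62099)))
theorem Q8460 : ∀ i, i < 8460 → P i := stepQ 8459 Q8459 (allL N8459 (tt N8459 F58816) (tt N9261 (iv F62056)) (tt N7551 F58817) (tt N9273 D15731) (tt N8459 F58818) (tt N7819 F58819) (tt N7548 F58820) (tt N7547 (iv D14917)) (tt N8459 F58821))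
theorem Q8461 : ∀ i, i < 8461 → P i := stepQ 8460 Q8460 (allL N8460 (tt N8460 F58822) (tt N9262 (iv F62062)) (tt N8546 (iv F59211)) (tt N7548 (iv D14918)) (tt N8549 (iv F59224)) (tt N7549 F58823) (tt N9273 (iv F62110)) (tt N9269 (iv F62094)) (tt N8460 F58824))
theorem Q8462 : ∀ i, i < 8462 → P i := stepQ 8461 Q8461 (allL N8461 (tt N8461 F58825) (tt N9274 D15732) (tt N7549 (iv D14919)) (tt N7553 F58826) (tt N9275 D15733) (tt N8546 (iv F59213)) (tt N7821 F58827) (tt N9271 (iv F62104)) (tt N8461 F58828))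
theorem Q8463 : ∀ i, i < 8463 → P i := stepQ 8462 Q8462 (allL N8462 (tt N8462 F58829) (tt N9264 (iv F62068)) (tt N9275 (iv F62116)) (tt N7550 F58830) (tt N7549 (iv D14920)) (tt N9276 D15734) (tt N7822 F58831) (tt N9272 (iv F62107)) (tt N8462 F58832))
theorem Q8464 : ∀ i, i < 8464 → P i := stepQ 8463 Q8463 (allL N8463 (tt N8463 F58833) (tt N9265 (iv F62072)) (tt N8463 F58834) (tt N9276 (iv F62121)) (tt N8463 F58835) (tt N7550 (iv D14921)) (tt N7677 F58836) (tt N7676 F58837) (tt N8463 F58838))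
theorem Q8465 : ∀ i, i < 8465 → P i := stepQ 8464 Q8464 (allL N8464 (tt N8879 (iv F60537)) (tt N7553 (iv D14922)) (tt N7592 F58839) (tt N9274 (iv F62112)) (tt N8464 F58840) (tt N8517 (iv F59096)) (tt N7826 F58841) (tt N7577 F58842) (tt N8464 F58843))
theorem Q8466 : ∀ i, i < 8466 → P i := stepQ 8465 Q8465 (allL N8465 (tt N8465 F58844) (tt N9195 (iv F61786)) (tt N7813 F58845) (tt N8465 F58846) (tt N7557 F58847) (tt N8453 F58848) (tt N7815 F58849) (tt N9277 D15735) (tt N7554 (iv D14923)))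
theorem Q8467 : ∀ i, i < 8467 → P i := stepQ 8466 Q8466 (allL N8466 (tt N8466 F58850) (tt N9196 (iv F61790)) (tt N7814 F58851) (tt N7560 F58852) (tt N7815 F58853) (tt N7568 F58854) (tt N7557 F58855) (tt N9278 D15736) (tt N7555 (iv D14924)))
theorem Q8468 : ∀ i, i < 8468 → P i := stepQ 8467 Q8467 (allL N8467 (tt N8467 F58856) (tt N9197 (iv F61795)) (tt N7815 F58857) (tt N7681 F58858) (tt N7814 F58859) (tt N7558 F58860) (tt N7813 F58861) (tt N9279 D15737) (tt N7556 (iv D14925)))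
theorem Q8469 : ∀ i, i < 8469 → P i := stepQ 8468 Q8468 (allL N8468 (tt N8468 F58862) (tt N9198 (iv F61800)) (tt N7816 F58863) (tt N9280 D15738) (tt N9277 (iv F62126)) (tt N7559 F58864) (tt N9278 (iv F62134)) (tt N7557 (iv D14926)) (tt N9279 (iv F62141)))
theorem Q8470 : ∀ i, i < 8470 → P i := stepQ 8469 Q8469 (allL N8469 (tt N8469 F58865) (tt N9199 (iv F61802)) (tt N7817 F58866) (tt N9281 D15739) (tt N8457 F58867) (tt N9279 (iv F62139)) (tt N7571 F58868) (tt N7558 (iv D14927)) (tt N7559 F58869))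
theorem Q8471 : ∀ i, i < 8471 → P i := stepQ 8470 Q8470 (allL N8470 (tt N8470 F58870) (tt N9200 (iv F61806)) (tt N9282 D15740) (tt N7559 (iv D14928)) (tt N9283 D15741) (tt N9280 (iv F62143)) (tt N7572 F58871) (tt N7562 F58872) (tt N9281 (iv F62148)))
theorem Q8472 : ∀ i, i < 8472 → P i := stepQ 8471 Q8471 (allL N8471 (tt N8471 F58873) (tt N9201 (iv F61810)) (tt N7564 F58874) (tt N9284 D15742) (tt N8471 F58875) (tt N7573 F58876) (tt N7561 F58877) (tt N7560 (iv D14929)) (tt N7685 F58878))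
theorem Q8473 : ∀ i, i < 8473 → P i := stepQ 8472 Q8472 (allL N8472 (tt N8472 F58879) (tt N9202 (iv F61817)) (tt N9285 D15743) (tt N7561 (iv D14930)) (tt N9286 D15744) (tt N7562 F58880) (tt N9284 (iv F62161)) (tt N9280 (iv F62144)) (tt N7686 F58881))
theorem Q8474 : ∀ i, i < 8474 → P i := stepQ 8473 Q8473 (allL N8473 (tt N8473 F58882) (tt N9287 D15745) (tt N7562 (iv D14931)) (tt N7566 F58883) (tt N8671 (iv F59622)) (tt N9285 (iv F62166)) (tt N7575 F58884) (tt N9282 (iv F62152)) (tt N7687 F58885))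
theorem Q8475 : ∀ i, i < 8475 → P i := stepQ 8474 Q8474 (allL N8474 (tt N8474 F58886) (tt N9203 (iv F61821)) (tt N8671 (iv F59620)) (tt N7563 F58887) (tt N7562 (iv D14932)) (tt N8434 (iv F58890)) (tt N7576 F58888) (tt N9283 (iv F62156)) (tt N7688 F58889))
theorem Q8476 : ∀ i, i < 8476 → P i := stepQ 8475 Q8475 (allL N8475 (tt N8475 F58891) (tt N8745 (iv F59936)) (tt N7565 (iv D14933)) (tt N9285 (iv F62165)) (tt N8689 (iv F59688)) (tt N7566 F58892) (tt N8544 (iv F59201)) (tt N7824 F58893) (tt N7689 F58894))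
theorem Q8477 : ∀ i, i < 8477 → P i := stepQ 8476 Q8476 (allL N8476 (tt N8878 (iv F60530)) (tt N7566 (iv D14934)) (tt N7593 F58895) (tt N9287 (iv F62174)) (tt N8476 F58896) (tt N8745 (iv F59939)) (tt N7577 F58897) (tt N7826 F58898) (tt N7690 F58899))
theorem Q8478 : ∀ i, i < 8478 → P i := stepQ 8477 Q8477 (allL N8477 (tt N8477 F58900) (tt N9204 (iv F61826)) (tt N9266 (iv F62078)) (tt N9288 D15746) (tt N7570 F58901) (tt N8674 (iv F59634)) (tt N8479 (iv F58908)) (tt N7567 (iv D14935)) (tt N8478 (iv F58904)))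
theorem Q8479 : ∀ i, i < 8479 → P i := stepQ 8478 Q8478 (allL N8478 (tt N8478 F58902) (tt N9205 (iv F61828)) (tt N9267 (iv F62081)) (tt N9289 D15747) (tt N8479 (iv F58906)) (tt N9278 (iv F62133)) (tt N7570 F58903) (tt N7568 (iv D14936)) (tt N8477 F58904))
theorem Q8480 : ∀ i, i < 8480 → P i := stepQ 8479 Q8479 (allL N8479 (tt N8479 F58905) (tt N9206 (iv F61831)) (tt N9268 (iv F62086)) (tt N8949 (iv F60884)) (tt N8478 F58906) (tt N7571 F58907) (tt N8477 F58908) (tt N7569 (iv D14937)) (tt N7570 F58909))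
theorem Q8481 : ∀ i, i < 8481 → P i := stepQ 8480 Q8480 (allL N8480 (tt N8480 F58910) (tt N9207 (iv F61836)) (tt N8424 (iv F58913)) (tt N7570 (iv D14938)) (tt N8423 (iv F58914)) (tt N7572 F58911) (tt N9289 (iv F62184)) (tt N7574 F58912) (tt N8949 (iv F60887)))
theorem Q8482 : ∀ i, i < 8482 → P i := stepQ 8481 Q8481 (allL N8481 (tt N8481 F58915) (tt N9208 (iv F61840)) (tt N8951 (iv F60894)) (tt N7571 (iv D14939)) (tt N9241 (iv F61976)) (tt N8949 (iv F60886)) (tt N9281 (iv F62146)) (tt N7693 F58916) (tt N7572 F58917))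
theorem Q8483 : ∀ i, i < 8483 → P i := stepQ 8482 Q8482 (allL N8482 (tt N8482 F58918) (tt N9290 D15748) (tt N7572 (iv D14940)) (tt N9271 (iv F62101)) (tt N8672 (iv F59626)) (tt N8424 F58919) (tt N9282 (iv F62151)) (tt N7575 F58920) (tt N8951 (iv F60897)))
theorem Q8484 : ∀ i, i < 8484 → P i := stepQ 8483 Q8483 (allL N8483 (tt N8483 F58921) (tt N9210 (iv F61844)) (tt N8672 (iv F59625)) (tt N8680 (iv F59649)) (tt N7572 (iv D14941)) (tt N8425 F58922) (tt N9283 (iv F62155)) (tt N7576 F58923) (tt N9241 (iv F61978)))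
theorem Q8485 : ∀ i, i < 8485 → P i := stepQ 8484 Q8484 (allL N8484 (tt N8484 F58924) (tt N9211 (iv F61847)) (tt N8421 F58925) (tt N7573 (iv D14942)) (tt N8102 F58926) (tt N9284 (iv F62160)) (tt N7574 F58927) (tt N9289 (iv F62185)) (tt N7694 F58928))
theorem Q8486 : ∀ i, i < 8486 → P i := stepQ 8485 Q8485 (allL N8485 (tt N8876 (iv F60524)) (tt N7575 (iv D14943)) (tt N9213 (iv F61856)) (tt N7577 F58929) (tt N8620 (iv F59471)) (tt N8270 F58930) (tt N9287 (iv F62175)) (tt N9290 (iv F62189)) (tt N7695 F58931))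
theorem Q8487 : ∀ i, i < 8487 → P i := stepQ 8486 Q8486 (allL N8486 (tt N8486 F58932) (tt N9215 (iv F61864)) (tt N8107 (iv F58936)) (tt N7578 (iv D14944)) (tt N8105 F58933) (tt N8688 (iv F59680)) (tt N8112 F58934) (tt N9288 (iv F62180)) (tt N8104 F58935))
theorem Q8488 : ∀ i, i < 8488 → P i := stepQ 8487 Q8487 (allL N8487 (tt N7586 F58937) (tt N7594 F58938) (tt N9252 (iv F62020)) (tt N8898 (iv F60611)) (tt N8487 F58939) (tt N7719 F58940) (tt N7584 F58941) (tt N9291 D15749) (tt N7583 (iv D14945)))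
theorem Q8489 : ∀ i, i < 8489 → P i := stepQ 8488 Q8488 (allL N8488 (tt N7587 F58942) (tt N7595 F58943) (tt N9253 (iv F62026)) (tt N9292 D15750) (tt N8488 F58944) (tt N7585 F58945) (tt N9291 (iv F62194)) (tt N7584 (iv D14946)) (tt N8488 F58946))
theorem Q8490 : ∀ i, i < 8490 → P i := stepQ 8489 Q8489 (allL N8489 (tt N7588 F58947) (tt N7596 F58948) (tt N9293 D15751) (tt N7585 (iv D14947)) (tt N8738 (iv F59912)) (tt N9292 (iv F62198)) (tt N7721 F58949) (tt N9221 (iv F61890)) (tt N8489 F58950))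
theorem Q8491 : ∀ i, i < 8491 → P i := stepQ 8490 Q8490 (allL N8490 (tt N9291 (iv F62190)) (tt N7589 F58951) (tt N9261 (iv F62057)) (tt N8778 (iv F60113)) (tt N8490 F58952) (tt N7782 F58953) (tt N7587 F58954) (tt N7586 (iv D14948)) (tt N8490 F58955))
theorem Q8492 : ∀ i, i < 8492 → P i := stepQ 8491 Q8491 (allL N8491 (tt N9292 (iv F62196)) (tt N7590 F58956) (tt N9294 D15752) (tt N7587 (iv D14949)) (tt N9295 D15753) (tt N7588 F58957) (tt N8778 (iv F60116)) (tt N9223 (iv F61896)) (tt N8491 F58958))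
theorem Q8493 : ∀ i, i < 8493 → P i := stepQ 8492 Q8492 (allL N8492 (tt N9293 (iv F62200)) (tt N9296 D15754) (tt N7588 (iv D14950)) (tt N9263 (iv F62065)) (tt N8882 (iv F60552)) (tt N9294 (iv F62203)) (tt N7784 F58959) (tt N9224 (iv F61898)) (tt N8492 F58960))
theorem Q8494 : ∀ i, i < 8494 → P i := stepQ 8493 Q8493 (allL N8493 (tt N7599 F58961) (tt N9295 (iv F62205)) (tt N7596 F58962) (tt N8493 F58963) (tt N7590 (iv D14951)) (tt N8923 (iv F60741)) (tt N7741 F58964) (tt N9225 (iv F61902)) (tt N8493 F58965))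
theorem Q8495 : ∀ i, i < 8495 → P i := stepQ 8494 Q8494 (allL N8494 (tt N8881 (iv F60547)) (tt N7591 (iv D14952)) (tt N9296 (iv F62209)) (tt N7592 F58966) (tt N8924 (iv F60745)) (tt N8738 (iv F59913)) (tt N7802 F58967) (tt N9226 (iv F61905)) (tt N8494 F58968))
theorem Q8496 : ∀ i, i < 8496 → P i := stepQ 8495 Q8495 (allL N8495 (tt N7597 F58969) (tt N9291 (iv F62191)) (tt N8495 F58970) (tt N8796 (iv F60225)) (tt N8495 F58971) (tt N7739 F58972) (tt N7595 F58973) (tt N7594 (iv D14953)) (tt N8495 F58974))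
theorem Q8497 : ∀ i, i < 8497 → P i := stepQ 8496 Q8496 (allL N8496 (tt N7598 F58975) (tt N9292 (iv F62197)) (tt N8923 (iv F60739)) (tt N7595 (iv D14954)) (tt N8922 F60737) (tt N7596 F58976) (tt N8796 (iv F60228)) (tt N9229 (iv F61919)) (tt N8496 F58977))
theorem Q8498 : ∀ i, i < 8498 → P i := stepQ 8497 Q8497 (allL N8497 (tt N7636 F58978) (tt N7688 F58979) (tt N8983 (iv F61039)) (tt N7602 (iv D14955)) (tt N7606 F58980) (tt N8316 F58981) (tt N7666 F58982) (tt N9237 (iv F61959)) (tt N9203 (iv F61824)))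
theorem Q8499 : ∀ i, i < 8499 → P i := stepQ 8498 Q8498 (allL N8498 (tt N7641 F58983) (tt N8498 F58984) (tt N8525 (iv F59134)) (tt N8987 (iv F61051)) (tt N8498 F58985) (tt N7604 F58986) (tt N8523 (iv F59126)) (tt N9297 D15755) (tt N7603 (iv D14956)))
theorem Q8500 : ∀ i, i < 8500 → P i := stepQ 8499 Q8499 (allL N8499 (tt N7642 F58987) (tt N8499 F58988) (tt N8452 F58989) (tt N9298 D15756) (tt N7605 F58990) (tt N9297 (iv F62216)) (tt N8033 F58991) (tt N7604 (iv D14957)) (tt N8499 F58992))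
theorem Q8501 : ∀ i, i < 8501 → P i := stepQ 8500 Q8500 (allL N8500 (tt N7643 F58993) (tt N7686 F58994) (tt N8997 (iv F61089)) (tt N7607 F58995) (tt N9299 D15757) (tt N7606 (iv D14958)) (tt N9300 D15758) (tt N9301 D15759) (tt N9202 (iv F61819)))
theorem Q8502 : ∀ i, i < 8502 → P i := stepQ 8501 Q8501 (allL N8501 (tt N7644 F58996) (tt N7684 F58997) (tt N8998 (iv F61092)) (tt N7610 F58998) (tt N9237 (iv F61957)) (tt N9301 (iv F62239)) (tt N7662 F58999) (tt N7606 (iv D14959)) (tt N9302 D15760))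
theorem Q8503 : ∀ i, i < 8503 → P i := stepQ 8502 Q8502 (allL N8502 (tt N7646 F59000) (tt N7685 F59001) (tt N7608 F59002) (tt N9300 (iv F62231)) (tt N8502 F59003) (tt N7663 F59004) (tt N7607 (iv D14960)) (tt N7611 F59005) (tt N9201 (iv F61815)))
theorem Q8504 : ∀ i, i < 8504 → P i := stepQ 8503 Q8503 (allL N8503 (tt N7649 F59006) (tt N7679 F59007) (tt N7615 F59008) (tt N8503 F59009) (tt N7609 (iv D14961)) (tt N8503 F59010) (tt N7787 F59013) (tt N7886 (iv F59012)) (tt N7653 F59011))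
theorem Q8505 : ∀ i, i < 8505 → P i := stepQ 8504 Q8504 (allL N8504 (tt N7650 F59014) (tt N7680 F59015) (tt N7616 F59016) (tt N7611 F59017) (tt N7787 F59018) (tt N7658 F59019) (tt N7609 (iv D14962)) (tt N7885 (iv F59021)) (tt N7654 F59020))
theorem Q8506 : ∀ i, i < 8506 → P i := stepQ 8505 Q8505 (allL N8505 (tt N7651 F59022) (tt N7682 F59023) (tt N7617 F59024) (tt N9301 (iv F62237)) (tt N7886 F59025) (tt N7610 F59026) (tt N7885 F59027) (tt N7609 (iv D14963)) (tt N9303 D15761))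
theorem Q8507 : ∀ i, i < 8507 → P i := stepQ 8506 Q8506 (allL N8506 (tt N7652 F59028) (tt N7683 F59029) (tt N7619 F59030) (tt N9302 (iv F62243)) (tt N8506 F59031) (tt N9303 (iv F62249)) (tt N7661 F59032) (tt N7656 F59033) (tt N7610 (iv D14964)))
theorem Q8508 : ∀ i, i < 8508 → P i := stepQ 8507 Q8507 (allL N8507 (tt N7653 F59034) (tt N8507 F59035) (tt N7657 F59036) (tt N8507 F59037) (tt N7612 (iv D14965)) (tt N8507 F59038) (tt N7724 F59041) (tt N7723 (iv F59040)) (tt N7649 F59039))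
theorem Q8509 : ∀ i, i < 8509 → P i := stepQ 8508 Q8508 (allL N8508 (tt N7654 F59042) (tt N8508 F59043) (tt N7658 F59044) (tt N7614 F59045) (tt N7724 F59046) (tt N7616 F59047) (tt N7612 (iv D14966)) (tt N7722 (iv F59049)) (tt N7650 F59048))
theorem Q8510 : ∀ i, i < 8510 → P i := stepQ 8509 Q8509 (allL N8509 (tt N7655 F59050) (tt N8509 F59051) (tt N7660 F59052) (tt N9042 (iv F61248)) (tt N7723 F59053) (tt N7613 F59054) (tt N7722 F59055) (tt N7612 (iv D14967)) (tt N9304 D15762))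
theorem Q8511 : ∀ i, i < 8511 → P i := stepQ 8510 Q8510 (allL N8510 (tt N7656 F59056) (tt N8510 F59057) (tt N7661 F59058) (tt N9044 (iv F61258)) (tt N8510 F59059) (tt N9304 (iv F62256)) (tt N7619 F59060) (tt N7652 F59061) (tt N7613 (iv D14968)))
theorem Q8512 : ∀ i, i < 8512 → P i := stepQ 8511 Q8511 (allL N8511 (tt N7659 F59062) (tt N8511 F59063) (tt N9303 (iv F62247)) (tt N9049 (iv F61281)) (tt N8225 F59064) (tt N7619 F59065) (tt N8224 F59066) (tt N9107 (iv F61515)) (tt N7617 (iv D14969)))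
theorem Q8513 : ∀ i, i < 8513 → P i := stepQ 8512 Q8512 (allL N8512 (tt N7661 F59067) (tt N8512 F59068) (tt N7656 F59069) (tt N9305 D15763) (tt N8512 F59070) (tt N9107 (iv F61513)) (tt N7652 F59071) (tt N7619 (iv D14970)) (tt N7620 F59072))
theorem Q8514 : ∀ i, i < 8514 → P i := stepQ 8513 Q8513 (allL N8513 (tt N7662 F59073) (tt N8513 F59074) (tt N9133 (iv F61598)) (tt N7620 (iv D14971)) (tt N9234 (iv F61941)) (tt N8945 F60870) (tt N7644 F59075) (tt N7623 F59076) (tt N9305 (iv F62262)))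
theorem Q8515 : ∀ i, i < 8515 → P i := stepQ 8514 Q8514 (allL N8514 (tt N7663 F59077) (tt N8514 F59078) (tt N7625 F59079) (tt N9102 (iv F61489)) (tt N7628 F59080) (tt N7646 F59081) (tt N7622 F59082) (tt N7621 (iv D14972)) (tt N9053 (iv F61301)))
theorem Q8516 : ∀ i, i < 8516 → P i := stepQ 8515 Q8515 (allL N8515 (tt N7664 F59083) (tt N8515 F59084) (tt N9132 (iv F61593)) (tt N7622 (iv D14973)) (tt N8152 F59085) (tt N7623 F59086) (tt N9102 (iv F61492)) (tt N8945 (iv F60869)) (tt N9054 (iv F61306)))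
theorem Q8517 : ∀ i, i < 8517 → P i := stepQ 8516 Q8516 (allL N8516 (tt N7666 F59087) (tt N8516 F59088) (tt N9112 (iv F61529)) (tt N7624 F59089) (tt N7623 (iv D14974)) (tt N8155 F59090) (tt N7636 F59091) (tt N9234 (iv F61942)) (tt N9056 (iv F61317)))
theorem Q8518 : ∀ i, i < 8518 → P i := stepQ 8517 Q8517 (allL N8517 (tt N8020 F59092) (tt N7674 F59093) (tt N7875 F59094) (tt N9306 D15764) (tt N7630 F59095) (tt N8464 F59096) (tt N7881 F59097) (tt N7629 (iv D14975)) (tt N8517 F59098))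
theorem Q8519 : ∀ i, i < 8519 → P i := stepQ 8518 Q8518 (allL N8518 (tt N7959 F59099) (tt N8518 F59100) (tt N7847 F59101) (tt N9104 (iv F61499)) (tt N8297 F59102) (tt N7632 F59103) (tt N8153 F59104) (tt N8118 F59105) (tt N7631 (iv D14976)))
theorem Q8520 : ∀ i, i < 8520 → P i := stepQ 8519 Q8519 (allL N8519 (tt N8033 F59106) (tt N7675 F59107) (tt N8590 (iv F59376)) (tt N9307 D15765) (tt N7635 F59108) (tt N7781 F59109) (tt N7642 F59110) (tt N7634 (iv D14977)) (tt N8519 F59111))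
theorem Q8521 : ∀ i, i < 8521 → P i := stepQ 8520 Q8520 (allL N8520 (tt N8316 F59112) (tt N8520 F59113) (tt N9122 (iv F61567)) (tt N7637 F59114) (tt N9308 D15766) (tt N7636 (iv D14978)) (tt N8160 F59115) (tt N9309 D15767) (tt N9310 D15768))
theorem Q8522 : ∀ i, i < 8522 → P i := stepQ 8521 Q8521 (allL N8521 (tt N9237 (iv F61954)) (tt N8521 F59116) (tt N9123 (iv F61570)) (tt N8521 F59117) (tt N7644 F59118) (tt N9309 (iv F62285)) (tt N9234 F61943) (tt N7636 (iv D14979)) (tt N9311 D15769))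
theorem Q8523 : ∀ i, i < 8523 → P i := stepQ 8522 Q8522 (allL N8522 (tt N9203 (iv F61820)) (tt N8522 F59119) (tt N9124 (iv F61572)) (tt N7638 F59120) (tt N7645 F59121) (tt N9310 (iv F62290)) (tt N9056 (iv F61316)) (tt N9312 D15770) (tt N7636 (iv D14980)))
theorem Q8524 : ∀ i, i < 8524 → P i := stepQ 8523 Q8523 (allL N8523 (tt N8525 (iv F59132)) (tt N8523 F59122) (tt N7641 F59123) (tt N9310 (iv F62289)) (tt N8523 F59124) (tt N7638 F59125) (tt N8498 F59126) (tt N9313 D15771) (tt N7637 (iv D14981)))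
theorem Q8525 : ∀ i, i < 8525 → P i := stepQ 8524 Q8524 (allL N8524 (tt N8452 F59127) (tt N8524 F59128) (tt N7642 F59129) (tt N9314 D15772) (tt N7639 F59130) (tt N9313 (iv F62301)) (tt N8590 (iv F59378)) (tt N7638 (iv D14982)) (tt N8524 F59131))
theorem Q8526 : ∀ i, i < 8526 → P i := stepQ 8525 Q8525 (allL N8525 (tt N8523 F59132) (tt N7676 F59133) (tt N8498 F59134) (tt N9129 (iv F61585)) (tt N8525 F59135) (tt N8379 F59136) (tt N7641 F59137) (tt N9265 (iv F62075)) (tt N7640 (iv D14983)))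
theorem Q8527 : ∀ i, i < 8527 → P i := stepQ 8526 Q8526 (allL N8526 (tt N9297 (iv F62212)) (tt N7677 F59138) (tt N9313 (iv F62299)) (tt N9315 D15773) (tt N8526 F59139) (tt N7642 F59140) (tt N9265 (iv F62074)) (tt N7641 (iv D14984)) (tt N8526 F59141))
theorem Q8528 : ∀ i, i < 8528 → P i := stepQ 8527 Q8527 (allL N8527 (tt N9298 (iv F62218)) (tt N7678 F59142) (tt N9316 D15774) (tt N7642 (iv D14985)) (tt N9306 (iv F62265)) (tt N9315 (iv F62309)) (tt N9307 (iv F62273)) (tt N9131 (iv F61590)) (tt N8527 F59143))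
theorem Q8529 : ∀ i, i < 8529 → P i := stepQ 8528 Q8528 (allL N8528 (tt N9299 (iv F62223)) (tt N8528 F59144) (tt N9144 (iv F61637)) (tt N8528 F59145) (tt N7643 (iv D14986)) (tt N9308 (iv F62278)) (tt N8026 F59150) (tt N8025 (iv F59151)) (tt N9317 D15775))
theorem Q8530 : ∀ i, i < 8530 → P i := stepQ 8529 Q8529 (allL N8529 (tt N9300 (iv F62229)) (tt N8529 F59146) (tt N9145 (iv F61640)) (tt N7646 F59147) (tt N8026 (iv F59149)) (tt N9102 (iv F61491)) (tt N7643 (iv D14987)) (tt N8024 (iv F59148)) (tt N9318 D15776))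
theorem Q8531 : ∀ i, i < 8531 → P i := stepQ 8530 Q8530 (allL N8530 (tt N9301 (iv F62235)) (tt N8530 F59152) (tt N9146 (iv F61644)) (tt N7651 F59153) (tt N8025 F59154) (tt N7644 F59155) (tt N8024 F59156) (tt N7643 (iv D14988)) (tt N9319 D15777))
theorem Q8532 : ∀ i, i < 8532 → P i := stepQ 8531 Q8531 (allL N8531 (tt N9202 (iv F61816)) (tt N8531 F59157) (tt N9147 (iv F61649)) (tt N7647 F59158) (tt N9317 (iv F62314)) (tt N7645 F59159) (tt N9318 (iv F62319)) (tt N9320 D15778) (tt N7643 (iv D14989)))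
theorem Q8533 : ∀ i, i < 8533 → P i := stepQ 8532 Q8532 (allL N8532 (tt N9302 (iv F62241)) (tt N8532 F59160) (tt N9148 (iv F61652)) (tt N7652 F59161) (tt N9311 (iv F62294)) (tt N9319 (iv F62323)) (tt N9305 (iv F62261)) (tt N9321 D15779) (tt N7644 (iv D14990)))
theorem Q8534 : ∀ i, i < 8534 → P i := stepQ 8533 Q8533 (allL N8533 (tt N9200 (iv F61805)) (tt N8533 F59162) (tt N9149 (iv F61654)) (tt N9045 (iv F61262)) (tt N9312 (iv F62296)) (tt N9320 (iv F62326)) (tt N9052 (iv F61293)) (tt N7645 (iv D14991)) (tt N9321 (iv F62328)))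
theorem Q8535 : ∀ i, i < 8535 → P i := stepQ 8534 Q8534 (allL N8534 (tt N9201 (iv F61809)) (tt N8534 F59163) (tt N7648 F59164) (tt N9318 (iv F62317)) (tt N8534 F59165) (tt N9053 (iv F61299)) (tt N7647 F59166) (tt N9046 (iv F61270)) (tt N7646 (iv D14992)))
theorem Q8536 : ∀ i, i < 8536 → P i := stepQ 8535 Q8535 (allL N8535 (tt N9303 (iv F62245)) (tt N8535 F59167) (tt N7659 F59168) (tt N9319 (iv F62321)) (tt N8038 F59169) (tt N7652 F59170) (tt N8037 F59171) (tt N9304 (iv F62258)) (tt N7651 (iv D14993)))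
theorem Q8537 : ∀ i, i < 8537 → P i := stepQ 8536 Q8536 (allL N8536 (tt N9304 (iv F62252)) (tt N7681 F59172) (tt N9107 (iv F61511)) (tt N9197 (iv F61796)) (tt N7786 F59173) (tt N7656 F59174) (tt N7785 F59175) (tt N9303 (iv F62251)) (tt N7655 (iv D14994)))
theorem Q8538 : ∀ i, i < 8538 → P i := stepQ 8537 Q8537 (allL N8537 (tt N9107 (iv F61509)) (tt N7692 F59176) (tt N9304 (iv F62254)) (tt N8947 (iv F60877)) (tt N8394 F59177) (tt N7661 F59178) (tt N8393 F59179) (tt N7659 (iv D14995)) (tt N7660 F59180))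
theorem Q8539 : ∀ i, i < 8539 → P i := stepQ 8538 Q8538 (allL N8538 (tt N9305 (iv F62259)) (tt N7693 F59181) (tt N9322 D15780) (tt N7661 (iv D14996)) (tt N9238 (iv F61962)) (tt N8947 (iv F60879)) (tt N9302 (iv F62244)) (tt N9208 (iv F61841)) (tt N7662 F59182))
theorem Q8540 : ∀ i, i < 8540 → P i := stepQ 8539 Q8539 (allL N8539 (tt N9133 (iv F61596)) (tt N8806 (iv F60265)) (tt N7662 (iv D14997)) (tt N9012 (iv F61144)) (tt N9119 (iv F61557)) (tt N8803 F60258) (tt N8998 (iv F61094)) (tt N7665 F59183) (tt N9322 (iv F62329)))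
theorem Q8541 : ∀ i, i < 8541 → P i := stepQ 8540 Q8540 (allL N8540 (tt N9102 (iv F61487)) (tt N7694 F59184) (tt N8724 (iv F59855)) (tt N7663 (iv D14998)) (tt N7958 F59185) (tt N9300 (iv F62233)) (tt N7664 F59186) (tt N8939 (iv F60838)) (tt N9211 (iv F61850)))
theorem Q8542 : ∀ i, i < 8542 → P i := stepQ 8541 Q8541 (allL N8541 (tt N9132 (iv F61591)) (tt N8268 F59187) (tt N7664 (iv D14999)) (tt N7667 F59188) (tt N8267 F59189) (tt N7665 F59190) (tt N8724 (iv F59856)) (tt N8803 (iv F60257)) (tt N9212 (iv F61855)))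
theorem Q8543 : ∀ i, i < 8543 → P i := stepQ 8542 Q8542 (allL N8542 (tt N8842 (iv F60417)) (tt N7665 (iv D15000)) (tt N7695 F59191) (tt N7668 F59192) (tt N8616 (iv F59459)) (tt N8268 F59193) (tt N8994 (iv F61080)) (tt N8806 (iv F60268)) (tt N9213 (iv F61859)))
theorem Q8544 : ∀ i, i < 8544 → P i := stepQ 8543 Q8543 (allL N8543 (tt N9112 (iv F61527)) (tt N8616 (iv F59457)) (tt N7666 F59194) (tt N8976 (iv F61013)) (tt N7665 (iv D15001)) (tt N8305 F59195) (tt N8983 (iv F61041)) (tt N9119 (iv F61558)) (tt N9214 (iv F61862)))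
theorem Q8545 : ∀ i, i < 8545 → P i := stepQ 8544 Q8544 (allL N8544 (tt N8544 F59196) (tt N7880 F59197) (tt N7836 F59198) (tt N9230 (iv F61922)) (tt N7830 F59199) (tt N7671 F59200) (tt N8475 F59201) (tt N7833 (iv F59202)) (tt N7670 (iv D15002)))
theorem Q8546 : ∀ i, i < 8546 → P i := stepQ 8545 Q8545 (allL N8545 (tt N8545 F59203) (tt N7881 F59204) (tt N7837 F59205) (tt N9323 D15781) (tt N7672 F59206) (tt N7833 F59207) (tt N7674 F59208) (tt N7671 (iv D15003)) (tt N8545 F59209))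
theorem Q8547 : ∀ i, i < 8547 → P i := stepQ 8546 Q8546 (allL N8546 (tt N8546 F59210) (tt N9306 (iv F62264)) (tt N8460 F59211) (tt N7674 (iv D15004)) (tt N7678 F59212) (tt N8461 F59213) (tt N9323 (iv F62335)) (tt N9232 (iv F61932)) (tt N8546 F59214))
theorem Q8548 : ∀ i, i < 8548 → P i := stepQ 8547 Q8547 (allL N8547 (tt N8547 F59215) (tt N9307 (iv F62270)) (tt N9324 D15782) (tt N7675 (iv D15005)) (tt N9323 (iv F62333)) (tt N7822 F59216) (tt N7678 F59217) (tt N9233 (iv F61937)) (tt N8547 F59218))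
theorem Q8549 : ∀ i, i < 8549 → P i := stepQ 8548 Q8548 (allL N8548 (tt N8548 F59219) (tt N9315 (iv F62308)) (tt N9325 D15783) (tt N7677 (iv D15006)) (tt N9326 D15784) (tt N7678 F59220) (tt N9276 (iv F62122)) (tt N9244 (iv F61987)) (tt N8548 F59221))
theorem Q8550 : ∀ i, i < 8550 → P i := stepQ 8549 Q8549 (allL N8549 (tt N8549 F59222) (tt N9327 D15785) (tt N7678 (iv D15007)) (tt N8549 F59223) (tt N8460 F59224) (tt N9325 (iv F62345)) (tt N9324 (iv F62341)) (tt N9245 (iv F61989)) (tt N8549 F59225))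
theorem Q8551 : ∀ i, i < 8551 → P i := stepQ 8550 Q8550 (allL N8550 (tt N8550 F59226) (tt N7886 F59227) (tt N8550 F59228) (tt N7838 (iv F59233)) (tt N7682 F59229) (tt N8550 F59230) (tt N7829 F59231) (tt N7679 (iv D15008)) (tt N7828 F59232))
theorem Q8552 : ∀ i, i < 8552 → P i := stepQ 8551 Q8551 (allL N8551 (tt N8551 F59234) (tt N7885 F59235) (tt N8551 F59236) (tt N8941 (iv F60847)) (tt N7829 F59237) (tt N7691 F59238) (tt N7682 F59239) (tt N7680 (iv D15009)) (tt N7827 F59240))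
theorem Q8553 : ∀ i, i < 8553 → P i := stepQ 8552 Q8552 (allL N8552 (tt N8552 F59241) (tt N9303 (iv F62246)) (tt N8552 F59242) (tt N9328 D15786) (tt N7828 F59243) (tt N7683 F59244) (tt N7827 F59245) (tt N7681 (iv D15010)) (tt N7682 F59246))
theorem Q8554 : ∀ i, i < 8554 → P i := stepQ 8553 Q8553 (allL N8553 (tt N8553 F59247) (tt N9301 (iv F62236)) (tt N8557 (iv F59264)) (tt N7682 (iv D15011)) (tt N8556 F59262) (tt N7684 F59248) (tt N8941 (iv F60849)) (tt N7686 F59249) (tt N9328 (iv F62361)))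
theorem Q8555 : ∀ i, i < 8555 → P i := stepQ 8554 Q8554 (allL N8554 (tt N8554 F59250) (tt N9302 (iv F62242)) (tt N8950 (iv F60889)) (tt N7683 (iv D15012)) (tt N9240 (iv F61971)) (tt N9328 (iv F62359)) (tt N7693 F59251) (tt N9281 (iv F62147)) (tt N7684 F59252))
theorem Q8556 : ∀ i, i < 8556 → P i := stepQ 8555 Q8555 (allL N8555 (tt N8555 F59253) (tt N9300 (iv F62230)) (tt N8420 F59254) (tt N7685 (iv D15013)) (tt N8106 (iv F59257)) (tt N7694 F59255) (tt N7686 F59256) (tt N8941 (iv F60850)) (tt N9284 (iv F62162)))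
theorem Q8557 : ∀ i, i < 8557 → P i := stepQ 8556 Q8556 (allL N8556 (tt N8556 F59258) (tt N8740 (iv F59919)) (tt N7686 (iv D15014)) (tt N7689 F59259) (tt N8553 (iv F59262)) (tt N7687 F59260) (tt N8420 F59261) (tt N8557 (iv F59268)) (tt N9285 (iv F62168)))
theorem Q8558 : ∀ i, i < 8558 → P i := stepQ 8557 Q8557 (allL N8557 (tt N8557 F59263) (tt N9299 (iv F62224)) (tt N8553 F59264) (tt N8557 F59265) (tt N7686 (iv D15015)) (tt N8114 F59266) (tt N8106 F59267) (tt N8556 F59268) (tt N9286 (iv F62173)))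
theorem Q8559 : ∀ i, i < 8559 → P i := stepQ 8558 Q8558 (allL N8558 (tt N8875 (iv F60520)) (tt N7687 (iv D15016)) (tt N8994 (iv F61079)) (tt N7690 F59269) (tt N8619 (iv F59467)) (tt N8740 (iv F59921)) (tt N7695 F59270) (tt N8809 (iv F60276)) (tt N9287 (iv F62176)))
theorem Q8560 : ∀ i, i < 8560 → P i := stepQ 8559 Q8559 (allL N8559 (tt N8975 (iv F61007)) (tt N7696 (iv D15017)) (tt N8559 F59271) (tt N7699 F59272) (tt N9329 D15787) (tt N8834 (iv F60378)) (tt N8980 (iv F61031)) (tt N8157 F59273) (tt N9330 D15788))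
theorem Q8561 : ∀ i, i < 8561 → P i := stepQ 8560 Q8560 (allL N8560 (tt N7751 F59274) (tt N9329 (iv F62363)) (tt N7697 F59275) (tt N9331 D15789) (tt N7696 (iv D15018)) (tt N9332 D15790) (tt N9116 (iv F61545)) (tt N8158 F59276) (tt N9333 D15791))
theorem Q8562 : ∀ i, i < 8562 → P i := stepQ 8561 Q8561 (allL N8561 (tt N7752 F59277) (tt N9330 (iv F62366)) (tt N7698 F59278) (tt N7701 F59279) (tt N9333 (iv F62381)) (tt N8953 (iv F60905)) (tt N9117 (iv F61550)) (tt N9334 D15792) (tt N7696 (iv D15019)))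
theorem Q8563 : ∀ i, i < 8563 → P i := stepQ 8562 Q8562 (allL N8562 (tt N7753 F59280) (tt N8562 F59281) (tt N9332 (iv F62375)) (tt N8562 F59282) (tt N8016 F59283) (tt N7697 (iv D15020)) (tt N9309 (iv F62286)) (tt N8160 F59284) (tt N9335 D15793))
theorem Q8564 : ∀ i, i < 8564 → P i := stepQ 8563 Q8563 (allL N8563 (tt N7754 F59285) (tt N8563 F59286) (tt N9333 (iv F62380)) (tt N8563 F59287) (tt N7698 F59288) (tt N9335 (iv F62389)) (tt N9235 (iv F61948)) (tt N9336 D15794) (tt N7697 (iv D15021)))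
theorem Q8565 : ∀ i, i < 8565 → P i := stepQ 8564 Q8564 (allL N8564 (tt N7755 F59289) (tt N8564 F59290) (tt N9334 (iv F62383)) (tt N8695 (iv F59712)) (tt N9336 (iv F62392)) (tt N8954 (iv F60911)) (tt N9236 (iv F61952)) (tt N7698 (iv D15022)) (tt N8162 F59291))
theorem Q8566 : ∀ i, i < 8566 → P i := stepQ 8565 Q8565 (allL N8565 (tt N8991 (iv F61064)) (tt N7701 F59292) (tt N7730 F59293) (tt N9330 (iv F62368)) (tt N8845 (iv F60433)) (tt N8835 (iv F60384)) (tt N8993 (iv F61077)) (tt N9337 D15795) (tt N7699 (iv D15023)))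
theorem Q8567 : ∀ i, i < 8567 → P i := stepQ 8566 Q8566 (allL N8566 (tt N7756 F59294) (tt N8842 (iv F60418)) (tt N8566 F59295) (tt N7700 (iv D15024)) (tt N9331 (iv F62371)) (tt N8839 (iv F60405)) (tt N9135 (iv F61606)) (tt N9338 D15796) (tt N9339 D15797))
theorem Q8568 : ∀ i, i < 8568 → P i := stepQ 8567 Q8567 (allL N8567 (tt N7758 F59296) (tt N8845 (iv F60431)) (tt N7702 F59297) (tt N9339 (iv F62402)) (tt N7701 F59298) (tt N8840 (iv F60411)) (tt N9136 (iv F61610)) (tt N9340 D15798) (tt N7700 (iv D15025)))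
theorem Q8569 : ∀ i, i < 8569 → P i := stepQ 8568 Q8568 (allL N8568 (tt N7759 F59299) (tt N9337 (iv F62394)) (tt N7703 F59300) (tt N9341 D15799) (tt N9340 (iv F62405)) (tt N8955 (iv F60917)) (tt N9137 (iv F61613)) (tt N7701 (iv D15026)) (tt N7709 F59301))
theorem Q8570 : ∀ i, i < 8570 → P i := stepQ 8569 Q8569 (allL N8569 (tt N7761 F59302) (tt N7732 F59303) (tt N9340 (iv F62404)) (tt N9342 D15800) (tt N7703 F59304) (tt N8907 (iv F60664)) (tt N9216 (iv F61871)) (tt N7702 (iv D15027)) (tt N7711 F59305))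
theorem Q8571 : ∀ i, i < 8571 → P i := stepQ 8570 Q8570 (allL N8570 (tt N9008 (iv F61126)) (tt N7706 F59306) (tt N8570 F59307) (tt N7704 (iv D15028)) (tt N8191 F59308) (tt N8815 (iv F60302)) (tt N9018 (iv F61169)) (tt N9343 D15801) (tt N9344 D15802))
theorem Q8572 : ∀ i, i < 8572 → P i := stepQ 8571 Q8571 (allL N8571 (tt N9009 (iv F61130)) (tt N7708 F59309) (tt N7733 F59310) (tt N9344 (iv F62418)) (tt N7705 F59311) (tt N8816 (iv F60307)) (tt N9019 (iv F61174)) (tt N9345 D15803) (tt N7704 (iv D15029)))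
theorem Q8573 : ∀ i, i < 8573 → P i := stepQ 8572 Q8572 (allL N8572 (tt N9010 (iv F61135)) (tt N7709 F59312) (tt N7734 F59313) (tt N9346 D15804) (tt N9345 (iv F62422)) (tt N8959 (iv F60937)) (tt N9020 (iv F61178)) (tt N7705 (iv D15030)) (tt N9337 (iv F62396)))
theorem Q8574 : ∀ i, i < 8574 → P i := stepQ 8573 Q8573 (allL N8573 (tt N7762 F59314) (tt N8815 (iv F60300)) (tt N7712 F59315) (tt N7707 F59316) (tt N9347 D15805) (tt N7706 (iv D15031)) (tt N8820 (iv F60325)) (tt N9348 D15806) (tt N9349 D15807))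
theorem Q8575 : ∀ i, i < 8575 → P i := stepQ 8574 Q8574 (allL N8574 (tt N7763 F59317) (tt N9343 (iv F62413)) (tt N7713 F59318) (tt N9338 (iv F62399)) (tt N8196 F59319) (tt N9348 (iv F62430)) (tt N9167 (iv F61710)) (tt N7706 (iv D15032)) (tt N9350 D15808))
theorem Q8576 : ∀ i, i < 8576 → P i := stepQ 8575 Q8575 (allL N8575 (tt N7764 F59320) (tt N9344 (iv F62416)) (tt N7714 F59321) (tt N7708 F59322) (tt N8197 F59323) (tt N9349 (iv F62434)) (tt N9168 (iv F61715)) (tt N9351 D15809) (tt N7706 (iv D15033)))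
theorem Q8577 : ∀ i, i < 8577 → P i := stepQ 8576 Q8576 (allL N8576 (tt N7766 F59324) (tt N8816 (iv F60304)) (tt N7710 F59325) (tt N9349 (iv F62433)) (tt N8814 (iv F60297)) (tt N7708 F59326) (tt N8822 (iv F60336)) (tt N9352 D15810) (tt N7707 (iv D15034)))
theorem Q8578 : ∀ i, i < 8578 → P i := stepQ 8577 Q8577 (allL N8577 (tt N7767 F59327) (tt N9345 (iv F62420)) (tt N7711 F59328) (tt N9353 D15811) (tt N7709 F59329) (tt N9352 (iv F62443)) (tt N9170 (iv F61722)) (tt N7708 (iv D15035)) (tt N9340 (iv F62406)))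
theorem Q8579 : ∀ i, i < 8579 → P i := stepQ 8578 Q8578 (allL N8578 (tt N7768 F59330) (tt N9346 (iv F62423)) (tt N8734 (iv F59894)) (tt N7709 (iv D15036)) (tt N9354 D15812) (tt N8962 (iv F60950)) (tt N9171 (iv F61724)) (tt N8201 F59331) (tt N9341 (iv F62408)))
theorem Q8580 : ∀ i, i < 8580 → P i := stepQ 8579 Q8579 (allL N8579 (tt N7770 F59332) (tt N7737 F59333) (tt N9352 (iv F62442)) (tt N9355 D15813) (tt N8895 (iv F60593)) (tt N7711 F59334) (tt N8899 (iv F60618)) (tt N7710 (iv D15037)) (tt N8907 (iv F60666)))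
theorem Q8581 : ∀ i, i < 8581 → P i := stepQ 8580 Q8580 (allL N8580 (tt N7771 F59335) (tt N7738 F59336) (tt N9356 D15814) (tt N7711 (iv D15038)) (tt N8737 (iv F59908)) (tt N9355 (iv F62449)) (tt N9221 (iv F61889)) (tt N7721 F59337) (tt N9342 (iv F62412)))
theorem Q8582 : ∀ i, i < 8582 → P i := stepQ 8581 Q8581 (allL N8581 (tt N7772 F59338) (tt N8581 F59339) (tt N9347 (iv F62426)) (tt N7722 F59340) (tt N7712 (iv D15039)) (tt N8211 F59341) (tt N9042 (iv F61251)) (tt N9041 F61245) (tt N9357 D15815))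
theorem Q8583 : ∀ i, i < 8583 → P i := stepQ 8582 Q8582 (allL N8582 (tt N7773 F59342) (tt N8582 F59343) (tt N8820 (iv F60324)) (tt N7715 F59344) (tt N9042 (iv F61249)) (tt N9247 (iv F61997)) (tt N7712 (iv D15040)) (tt N9040 F61239) (tt N9358 D15816))
theorem Q8584 : ∀ i, i < 8584 → P i := stepQ 8583 Q8583 (allL N8583 (tt N7774 F59345) (tt N8583 F59346) (tt N9348 (iv F62429)) (tt N8583 F59347) (tt N9041 (iv F61243)) (tt N7713 F59348) (tt N9040 F61238) (tt N7712 (iv D15041)) (tt N9359 D15817))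
theorem Q8585 : ∀ i, i < 8585 → P i := stepQ 8584 Q8584 (allL N8584 (tt N7775 F59349) (tt N8584 F59350) (tt N9349 (iv F62432)) (tt N7716 F59351) (tt N9357 (iv F62456)) (tt N7714 F59352) (tt N9358 (iv F62461)) (tt N9360 D15818) (tt N7712 (iv D15042)))
theorem Q8586 : ∀ i, i < 8586 → P i := stepQ 8585 Q8585 (allL N8585 (tt N7776 F59353) (tt N8585 F59354) (tt N9350 (iv F62436)) (tt N8585 F59355) (tt N8215 F59356) (tt N9359 (iv F62465)) (tt N9250 (iv F62013)) (tt N9361 D15819) (tt N7713 (iv D15043)))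
theorem Q8587 : ∀ i, i < 8587 → P i := stepQ 8586 Q8586 (allL N8586 (tt N7777 F59357) (tt N8586 F59358) (tt N9351 (iv F62439)) (tt N9362 D15820) (tt N8216 F59359) (tt N9360 (iv F62468)) (tt N9251 (iv F62017)) (tt N7714 (iv D15044)) (tt N9361 (iv F62472)))
theorem Q8588 : ∀ i, i < 8588 → P i := stepQ 8587 Q8587 (allL N8587 (tt N7778 F59360) (tt N8587 F59361) (tt N7719 F59362) (tt N9358 (iv F62460)) (tt N7726 F59363) (tt N9252 (iv F62022)) (tt N7716 F59364) (tt N9363 D15821) (tt N7715 (iv D15045)))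
theorem Q8589 : ∀ i, i < 8589 → P i := stepQ 8588 Q8588 (allL N8588 (tt N7779 F59365) (tt N8588 F59366) (tt N7720 F59367) (tt N9364 D15822) (tt N7727 F59368) (tt N7717 F59369) (tt N9363 (iv F62480)) (tt N7716 (iv D15046)) (tt N8588 F59370))
theorem Q8590 : ∀ i, i < 8590 → P i := stepQ 8589 Q8589 (allL N8589 (tt N7780 F59371) (tt N8589 F59372) (tt N9365 D15823) (tt N7717 (iv D15047)) (tt N9366 D15824) (tt N9364 (iv F62485)) (tt N9254 (iv F62032)) (tt N9362 (iv F62475)) (tt N8589 F59373))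
theorem Q8591 : ∀ i, i < 8591 → P i := stepQ 8590 Q8590 (allL N8590 (tt N7781 F59374) (tt N8590 F59375) (tt N8519 F59376) (tt N9366 (iv F62492)) (tt N7718 (iv D15048)) (tt N8033 F59377) (tt N8524 F59378) (tt N8220 F59379) (tt N8590 F59380))
theorem Q8592 : ∀ i, i < 8592 → P i := stepQ 8591 Q8591 (allL N8591 (tt N7782 F59381) (tt N7739 F59382) (tt N9363 (iv F62478)) (tt N8971 (iv F60991)) (tt N7728 F59383) (tt N9291 (iv F62193)) (tt N7720 F59384) (tt N7719 (iv D15049)) (tt N8591 F59385))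
theorem Q8593 : ∀ i, i < 8593 → P i := stepQ 8592 Q8592 (allL N8592 (tt N7783 F59386) (tt N7740 F59387) (tt N9367 D15825) (tt N7720 (iv D15050)) (tt N8968 (iv F60976)) (tt N7721 F59388) (tt N8971 (iv F60992)) (tt N9355 (iv F62450)) (tt N8592 F59389))
theorem Q8594 : ∀ i, i < 8594 → P i := stepQ 8593 Q8593 (allL N8593 (tt N7784 F59390) (tt N9368 D15826) (tt N7721 (iv D15051)) (tt N9365 (iv F62488)) (tt N8748 (iv F59950)) (tt N9367 (iv F62497)) (tt N9293 (iv F62201)) (tt N9356 (iv F62452)) (tt N8593 F59391))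
theorem Q8595 : ∀ i, i < 8595 → P i := stepQ 8594 Q8594 (allL N8594 (tt N7785 F59392) (tt N8594 F59393) (tt N8393 F59394) (tt N9357 (iv F62455)) (tt N7725 F59395) (tt N8224 F59396) (tt N9304 (iv F62257)) (tt N8037 F59397) (tt N7722 (iv D15052)))
theorem Q8596 : ∀ i, i < 8596 → P i := stepQ 8595 Q8595 (allL N8595 (tt N7786 F59398) (tt N8595 F59399) (tt N8394 F59400) (tt N7726 F59401) (tt N9304 (iv F62255)) (tt N8595 F59402) (tt N7725 F59403) (tt N8038 F59404) (tt N7723 (iv D15053)))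
theorem Q8597 : ∀ i, i < 8597 → P i := stepQ 8596 Q8596 (allL N8596 (tt N7789 F59405) (tt N8596 F59406) (tt N7728 F59407) (tt N8039 F59408) (tt N9363 (iv F62479)) (tt N8596 F59409) (tt N7727 F59410) (tt N7726 (iv D15054)) (tt N8596 F59411))
theorem Q8598 : ∀ i, i < 8598 → P i := stepQ 8597 Q8597 (allL N8597 (tt N9058 (iv F61322)) (tt N7731 F59412) (tt N9337 (iv F62395)) (tt N9369 D15827) (tt N8849 (iv F60448)) (tt N8837 (iv F60392)) (tt N9060 (iv F61334)) (tt N7730 (iv D15055)) (tt N7734 F59413))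
theorem Q8599 : ∀ i, i < 8599 → P i := stepQ 8598 Q8598 (allL N8598 (tt N7744 F59414) (tt N9369 (iv F62501)) (tt N8757 (iv F60000)) (tt N7731 (iv D15056)) (tt N9370 D15828) (tt N8905 (iv F60650)) (tt N9079 (iv F61404)) (tt N8598 F59415) (tt N7736 F59416))
theorem Q8600 : ∀ i, i < 8600 → P i := stepQ 8599 Q8599 (allL N8599 (tt N7745 F59417) (tt N9342 (iv F62410)) (tt N9371 D15829) (tt N7732 (iv D15057)) (tt N8759 (iv F60011)) (tt N8908 (iv F60669)) (tt N9227 (iv F61907)) (tt N8599 F59418) (tt N7738 F59419))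
theorem Q8601 : ∀ i, i < 8601 → P i := stepQ 8600 Q8600 (allL N8600 (tt N9064 (iv F61348)) (tt N7735 F59420) (tt N9345 (iv F62421)) (tt N9372 D15830) (tt N7734 F59421) (tt N8818 (iv F60314)) (tt N9068 (iv F61370)) (tt N7733 (iv D15058)) (tt N8849 (iv F60450)))
theorem Q8602 : ∀ i, i < 8602 → P i := stepQ 8601 Q8601 (allL N8601 (tt N9065 (iv F61353)) (tt N7736 F59422) (tt N9373 D15831) (tt N7734 (iv D15059)) (tt N9374 D15832) (tt N8967 (iv F60972)) (tt N9069 (iv F61373)) (tt N7742 F59423) (tt N9369 (iv F62503)))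
theorem Q8603 : ∀ i, i < 8603 → P i := stepQ 8602 Q8602 (allL N8602 (tt N7746 F59424) (tt N9372 (iv F62510)) (tt N9375 D15833) (tt N7735 (iv D15060)) (tt N9376 D15834) (tt N8896 (iv F60599)) (tt N9080 (iv F61408)) (tt N8602 F59425) (tt N8910 (iv F60684)))
theorem Q8604 : ∀ i, i < 8604 → P i := stepQ 8603 Q8603 (allL N8603 (tt N7747 F59426) (tt N9374 (iv F62513)) (tt N8773 (iv F60084)) (tt N9376 (iv F62519)) (tt N7736 (iv D15061)) (tt N9377 D15835) (tt N8920 (iv F60728)) (tt N7743 F59427) (tt N9370 (iv F62506)))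
theorem Q8605 : ∀ i, i < 8605 → P i := stepQ 8604 Q8604 (allL N8604 (tt N7748 F59428) (tt N9355 (iv F62448)) (tt N9067 (iv F61363)) (tt N7737 (iv D15062)) (tt N8965 (iv F60964)) (tt N7738 F59429) (tt N8901 (iv F60628)) (tt N7740 F59430) (tt N8908 (iv F60672)))
theorem Q8606 : ∀ i, i < 8606 → P i := stepQ 8605 Q8605 (allL N8605 (tt N7749 F59431) (tt N9378 D15836) (tt N7738 (iv D15063)) (tt N9375 (iv F62516)) (tt N8776 (iv F60103)) (tt N9067 (iv F61364)) (tt N9225 (iv F61901)) (tt N7741 F59432) (tt N9371 (iv F62509)))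
theorem Q8607 : ∀ i, i < 8607 → P i := stepQ 8606 Q8606 (allL N8606 (tt N9379 D15837) (tt N7741 (iv D15064)) (tt N9368 (iv F62499)) (tt N8606 F59433) (tt N8778 (iv F60114)) (tt N9076 (iv F61394)) (tt N9295 (iv F62207)) (tt N9378 (iv F62524)) (tt N8606 F59434))
theorem Q8608 : ∀ i, i < 8608 → P i := stepQ 8607 Q8607 (allL N8607 (tt N9075 (iv F61388)) (tt N8781 (iv F60128)) (tt N7742 (iv D15065)) (tt N8255 F59435) (tt N9380 D15838) (tt N8970 (iv F60987)) (tt N9077 (iv F61399)) (tt N9373 (iv F62512)) (tt N8607 F59436))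
theorem Q8609 : ∀ i, i < 8609 → P i := stepQ 8608 Q8608 (allL N8608 (tt N9076 (iv F61391)) (tt N7743 F59437) (tt N9380 (iv F62529)) (tt N8608 F59438) (tt N7742 (iv D15066)) (tt N9379 (iv F62527)) (tt N8925 (iv F60752)) (tt N9374 (iv F62514)) (tt N8608 F59439))
theorem Q8610 : ∀ i, i < 8610 → P i := stepQ 8609 Q8609 (allL N8609 (tt N7750 F59440) (tt N9379 (iv F62525)) (tt N7809 F59441) (tt N8609 F59442) (tt N8796 (iv F60226)) (tt N7743 (iv D15067)) (tt N8922 (iv F60735)) (tt N9377 (iv F62523)) (tt N8609 F59443))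
theorem Q8611 : ∀ i, i < 8611 → P i := stepQ 8610 Q8610 (allL N8610 (tt N9370 (iv F62504)) (tt N8930 (iv F60780)) (tt N8787 (iv F60165)) (tt N8932 (iv F60796)) (tt N7744 (iv D15068)) (tt N8936 (iv F60821)) (tt N8928 (iv F60770)) (tt N8610 F59444) (tt N7747 F59445))
theorem Q8612 : ∀ i, i < 8612 → P i := stepQ 8611 Q8611 (allL N8611 (tt N9371 (iv F62507)) (tt N8936 (iv F60818)) (tt N7745 (iv D15069)) (tt N8931 (iv F60788)) (tt N8789 (iv F60179)) (tt N8930 (iv F60783)) (tt N9228 (iv F61914)) (tt N8611 F59446) (tt N7749 F59447))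
theorem Q8613 : ∀ i, i < 8613 → P i := stepQ 8612 Q8612 (allL N8612 (tt N9375 (iv F62515)) (tt N9228 (iv F61910)) (tt N7746 (iv D15070)) (tt N7749 F59448) (tt N8935 (iv F60813)) (tt N8927 (iv F60761)) (tt N8936 (iv F60822)) (tt N8612 F59449) (tt N8931 (iv F60792)))
theorem Q8614 : ∀ i, i < 8614 → P i := stepQ 8613 Q8613 (allL N8613 (tt N9376 (iv F62518)) (tt N8927 F60765) (tt N8935 (iv F60812)) (tt N7747 F59450) (tt N7746 (iv D15071)) (tt N9228 (iv F61913)) (tt N8929 (iv F60777)) (tt N8613 F59451) (tt N8932 (iv F60800)))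
theorem Q8615 : ∀ i, i < 8615 → P i := stepQ 8614 Q8614 (allL N8614 (tt N9377 (iv F62521)) (tt N7749 F59452) (tt N7808 F59453) (tt N9228 (iv F61911)) (tt N8795 (iv F60219)) (tt N7747 (iv D15072)) (tt N8931 (iv F60790)) (tt N7750 F59454) (tt N8936 (iv F60824)))
theorem Q8616 : ∀ i, i < 8616 → P i := stepQ 8615 Q8615 (allL N8615 (tt N9331 (iv F62369)) (tt N9112 (iv F61528)) (tt N8615 F59455) (tt N7751 (iv D15073)) (tt N7756 F59456) (tt N9381 D15839) (tt N9118 (iv F61554)) (tt N9382 D15840) (tt N9383 D15841))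
theorem Q8617 : ∀ i, i < 8617 → P i := stepQ 8616 Q8616 (allL N8616 (tt N9332 (iv F62373)) (tt N8543 F59457) (tt N7753 F59458) (tt N9381 (iv F62534)) (tt N8542 F59459) (tt N7751 (iv D15074)) (tt N9384 D15842) (tt N8313 F59460) (tt N9385 D15843))
theorem Q8618 : ∀ i, i < 8618 → P i := stepQ 8617 Q8617 (allL N8617 (tt N9333 (iv F62379)) (tt N9113 (iv F61533)) (tt N7754 F59461) (tt N9383 (iv F62541)) (tt N7752 F59462) (tt N9385 (iv F62551)) (tt N9120 (iv F61562)) (tt N9386 D15844) (tt N7751 (iv D15075)))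
theorem Q8619 : ∀ i, i < 8619 → P i := stepQ 8618 Q8618 (allL N8618 (tt N9334 (iv F62382)) (tt N9114 (iv F61537)) (tt N7755 F59463) (tt N9387 D15845) (tt N9386 (iv F62553)) (tt N9083 (iv F61421)) (tt N9121 (iv F61565)) (tt N7752 (iv D15076)) (tt N8315 F59464))
theorem Q8620 : ∀ i, i < 8620 → P i := stepQ 8619 Q8619 (allL N8619 (tt N9309 (iv F62281)) (tt N7810 F59465) (tt N9384 (iv F62544)) (tt N8619 F59466) (tt N8558 F59467) (tt N9237 (iv F61958)) (tt N7753 (iv D15077)) (tt N8316 F59468) (tt N9388 D15846))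
theorem Q8621 : ∀ i, i < 8621 → P i := stepQ 8620 Q8620 (allL N8620 (tt N9335 (iv F62385)) (tt N7811 F59469) (tt N9385 (iv F62549)) (tt N8620 F59470) (tt N8485 F59471) (tt N7754 F59472) (tt N9388 (iv F62560)) (tt N9389 D15847) (tt N7753 (iv D15078)))
theorem Q8622 : ∀ i, i < 8622 → P i := stepQ 8621 Q8621 (allL N8621 (tt N9336 (iv F62390)) (tt N7812 F59473) (tt N9386 (iv F62552)) (tt N9390 D15848) (tt N7755 F59474) (tt N9389 (iv F62563)) (tt N9239 (iv F61966)) (tt N7754 (iv D15079)) (tt N8318 F59475))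
theorem Q8623 : ∀ i, i < 8623 → P i := stepQ 8622 Q8622 (allL N8622 (tt N8839 (iv F60401)) (tt N9132 (iv F61592)) (tt N8622 F59476) (tt N7757 F59477) (tt N9391 D15849) (tt N7756 (iv D15080)) (tt N8851 (iv F60457)) (tt N9392 D15850) (tt N9393 D15851))
theorem Q8624 : ∀ i, i < 8624 → P i := stepQ 8623 Q8623 (allL N8623 (tt N9338 (iv F62397)) (tt N9133 (iv F61597)) (tt N8623 F59478) (tt N7763 F59479) (tt N9382 (iv F62539)) (tt N9392 (iv F62576)) (tt N9139 (iv F61621)) (tt N7756 (iv D15081)) (tt N9394 D15852))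
theorem Q8625 : ∀ i, i < 8625 → P i := stepQ 8624 Q8624 (allL N8624 (tt N9339 (iv F62400)) (tt N9055 F61311) (tt N8624 F59480) (tt N7758 F59481) (tt N9383 (iv F62542)) (tt N9393 (iv F62579)) (tt N9140 (iv F61625)) (tt N9395 D15853) (tt N7756 (iv D15082)))
theorem Q8626 : ∀ i, i < 8626 → P i := stepQ 8625 Q8625 (allL N8625 (tt N8840 (iv F60407)) (tt N9057 (iv F61319)) (tt N7760 F59482) (tt N9393 (iv F62578)) (tt N8838 (iv F60398)) (tt N7758 F59483) (tt N8853 (iv F60467)) (tt N9396 D15854) (tt N7757 (iv D15083)))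
theorem Q8627 : ∀ i, i < 8627 → P i := stepQ 8626 Q8626 (allL N8626 (tt N9340 (iv F62403)) (tt N9039 (iv F61230)) (tt N7761 F59484) (tt N9397 D15855) (tt N7759 F59485) (tt N9396 (iv F62584)) (tt N9142 (iv F61632)) (tt N7758 (iv D15084)) (tt N7767 F59486))
theorem Q8628 : ∀ i, i < 8628 → P i := stepQ 8627 Q8627 (allL N8627 (tt N9341 (iv F62407)) (tt N9134 (iv F61601)) (tt N8830 (iv F60359)) (tt N7759 (iv D15085)) (tt N9398 D15856) (tt N9086 (iv F61433)) (tt N9143 (iv F61635)) (tt N9387 (iv F62555)) (tt N7768 F59487))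
theorem Q8629 : ∀ i, i < 8629 → P i := stepQ 8628 Q8628 (allL N8628 (tt N8907 (iv F60661)) (tt N7794 F59488) (tt N9396 (iv F62583)) (tt N9399 D15857) (tt N8906 (iv F60657)) (tt N7761 F59489) (tt N8913 (iv F60698)) (tt N7760 (iv D15086)) (tt N7770 F59490))
theorem Q8630 : ∀ i, i < 8630 → P i := stepQ 8629 Q8629 (allL N8629 (tt N9342 (iv F62409)) (tt N7795 F59491) (tt N9400 D15858) (tt N7761 (iv D15087)) (tt N8833 (iv F60373)) (tt N9399 (iv F62589)) (tt N9218 (iv F61877)) (tt N8629 F59492) (tt N7771 F59493))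
theorem Q8631 : ∀ i, i < 8631 → P i := stepQ 8630 Q8630 (allL N8630 (tt N9347 (iv F62425)) (tt N9155 (iv F61665)) (tt N7772 F59494) (tt N9094 (iv F61464)) (tt N7762 (iv D15088)) (tt N8357 F59495) (tt N9157 (iv F61679)) (tt N9156 F61674) (tt N9401 D15859))
theorem Q8632 : ∀ i, i < 8632 → P i := stepQ 8631 Q8631 (allL N8631 (tt N8820 (iv F60322)) (tt N9156 (iv F61669)) (tt N7773 F59496) (tt N7765 F59497) (tt N9157 (iv F61677)) (tt N9173 (iv F61732)) (tt N7762 (iv D15089)) (tt N9155 F61668) (tt N9402 D15860))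
theorem Q8633 : ∀ i, i < 8633 → P i := stepQ 8632 Q8632 (allL N8632 (tt N9348 (iv F62428)) (tt N9157 (iv F61675)) (tt N7774 F59498) (tt N9392 (iv F62575)) (tt N9156 (iv F61672)) (tt N7763 F59499) (tt N9155 F61667) (tt N7762 (iv D15090)) (tt N9403 D15861))
theorem Q8634 : ∀ i, i < 8634 → P i := stepQ 8633 Q8633 (allL N8633 (tt N9349 (iv F62431)) (tt N9158 (iv F61680)) (tt N7775 F59500) (tt N7766 F59501) (tt N9401 (iv F62595)) (tt N7764 F59502) (tt N9402 (iv F62599)) (tt N9404 D15862) (tt N7762 (iv D15091)))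
theorem Q8635 : ∀ i, i < 8635 → P i := stepQ 8634 Q8634 (allL N8634 (tt N9350 (iv F62435)) (tt N9159 (iv F61684)) (tt N7776 F59503) (tt N9394 (iv F62581)) (tt N8361 F59504) (tt N9403 (iv F62601)) (tt N9176 (iv F61746)) (tt N9405 D15863) (tt N7763 (iv D15092)))
theorem Q8636 : ∀ i, i < 8636 → P i := stepQ 8635 Q8635 (allL N8635 (tt N9351 (iv F62438)) (tt N9160 (iv F61687)) (tt N7777 F59505) (tt N9406 D15864) (tt N8362 F59506) (tt N9404 (iv F62603)) (tt N9177 (iv F61750)) (tt N7764 (iv D15093)) (tt N9405 (iv F62606)))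
theorem Q8637 : ∀ i, i < 8637 → P i := stepQ 8636 Q8636 (allL N8636 (tt N8822 (iv F60332)) (tt N9161 (iv F61690)) (tt N7769 F59507) (tt N9402 (iv F62598)) (tt N8819 (iv F60319)) (tt N9178 (iv F61753)) (tt N7766 F59508) (tt N9407 D15865) (tt N7765 (iv D15094)))
theorem Q8638 : ∀ i, i < 8638 → P i := stepQ 8637 Q8637 (allL N8637 (tt N9352 (iv F62441)) (tt N9162 (iv F61694)) (tt N7770 F59509) (tt N9408 D15866) (tt N9099 (iv F61483)) (tt N7767 F59510) (tt N9407 (iv F62609)) (tt N7766 (iv D15095)) (tt N9396 (iv F62585)))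
theorem Q8639 : ∀ i, i < 8639 → P i := stepQ 8638 Q8638 (allL N8638 (tt N9353 (iv F62444)) (tt N9163 (iv F61697)) (tt N9409 D15867) (tt N7767 (iv D15096)) (tt N9410 D15868) (tt N9408 (iv F62610)) (tt N9180 (iv F61759)) (tt N9406 (iv F62607)) (tt N9397 (iv F62586)))
theorem Q8640 : ∀ i, i < 8640 → P i := stepQ 8639 Q8639 (allL N8639 (tt N9354 (iv F62445)) (tt N9164 (iv F61699)) (tt N8871 (iv F60511)) (tt N9410 (iv F62612)) (tt N7768 (iv D15097)) (tt N9411 D15869) (tt N9181 (iv F61761)) (tt N8366 F59511) (tt N9398 (iv F62587)))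
theorem Q8641 : ∀ i, i < 8641 → P i := stepQ 8640 Q8640 (allL N8640 (tt N8899 (iv F60615)) (tt N7796 F59512) (tt N9407 (iv F62608)) (tt N9412 D15870) (tt N8897 (iv F60605)) (tt N9222 (iv F61892)) (tt N7770 F59513) (tt N7769 (iv D15098)) (tt N8913 (iv F60699)))
theorem Q8642 : ∀ i, i < 8642 → P i := stepQ 8641 Q8641 (allL N8641 (tt N9355 (iv F62447)) (tt N7797 F59514) (tt N9413 D15871) (tt N7770 (iv D15099)) (tt N9414 D15872) (tt N7771 F59515) (tt N9412 (iv F62615)) (tt N7783 F59516) (tt N9399 (iv F62591)))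
theorem Q8643 : ∀ i, i < 8643 → P i := stepQ 8642 Q8642 (allL N8642 (tt N9356 (iv F62451)) (tt N9415 D15873) (tt N7771 (iv D15100)) (tt N9409 (iv F62611)) (tt N8874 (iv F60518)) (tt N9413 (iv F62617)) (tt N9224 (iv F61897)) (tt N7784 F59517) (tt N9400 (iv F62593)))
theorem Q8644 : ∀ i, i < 8644 → P i := stepQ 8643 Q8643 (allL N8643 (tt N9357 (iv F62453)) (tt N7813 F59518) (tt N9401 (iv F62594)) (tt N7785 F59519) (tt N7775 F59520) (tt N8381 F59521) (tt N9197 (iv F61799)) (tt N9416 D15874) (tt N7772 (iv D15101)))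
theorem Q8645 : ∀ i, i < 8645 → P i := stepQ 8644 Q8644 (allL N8644 (tt N9358 (iv F62458)) (tt N7814 F59522) (tt N9402 (iv F62597)) (tt N7778 F59523) (tt N9197 (iv F61797)) (tt N9256 (iv F62040)) (tt N7775 F59524) (tt N9417 D15875) (tt N7773 (iv D15102)))
theorem Q8646 : ∀ i, i < 8646 → P i := stepQ 8645 Q8645 (allL N8645 (tt N9359 (iv F62462)) (tt N7815 F59525) (tt N9403 (iv F62600)) (tt N8645 F59526) (tt N9196 (iv F61792)) (tt N7776 F59527) (tt N9195 (iv F61789)) (tt N9418 D15876) (tt N7774 (iv D15103)))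
theorem Q8647 : ∀ i, i < 8647 → P i := stepQ 8646 Q8646 (allL N8646 (tt N9360 (iv F62466)) (tt N7816 F59528) (tt N9404 (iv F62602)) (tt N9419 D15877) (tt N9416 (iv F62624)) (tt N7777 F59529) (tt N9417 (iv F62627)) (tt N7775 (iv D15104)) (tt N9418 (iv F62630)))
theorem Q8648 : ∀ i, i < 8648 → P i := stepQ 8647 Q8647 (allL N8647 (tt N9361 (iv F62469)) (tt N7817 F59530) (tt N9405 (iv F62604)) (tt N9420 D15878) (tt N8385 F59531) (tt N9418 (iv F62629)) (tt N9259 (iv F62051)) (tt N7776 (iv D15105)) (tt N7777 F59532))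
theorem Q8649 : ∀ i, i < 8649 → P i := stepQ 8648 Q8648 (allL N8648 (tt N9362 (iv F62473)) (tt N7818 F59533) (tt N9421 D15879) (tt N7777 (iv D15106)) (tt N9422 D15880) (tt N9419 (iv F62632)) (tt N9260 (iv F62054)) (tt N7780 F59534) (tt N9420 (iv F62636)))
theorem Q8650 : ∀ i, i < 8650 → P i := stepQ 8649 Q8649 (allL N8649 (tt N9363 (iv F62476)) (tt N7819 F59535) (tt N7782 F59536) (tt N9423 D15881) (tt N7789 F59537) (tt N9261 (iv F62059)) (tt N7779 F59538) (tt N7778 (iv D15107)) (tt N8649 F59539))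
theorem Q8651 : ∀ i, i < 8651 → P i := stepQ 8650 Q8650 (allL N8650 (tt N9364 (iv F62482)) (tt N7820 F59540) (tt N9424 D15882) (tt N7779 (iv D15108)) (tt N9425 D15883) (tt N7780 F59541) (tt N9423 (iv F62642)) (tt N9419 (iv F62633)) (tt N8650 F59542))
theorem Q8652 : ∀ i, i < 8652 → P i := stepQ 8651 Q8651 (allL N8651 (tt N9365 (iv F62487)) (tt N9426 D15884) (tt N7780 (iv D15109)) (tt N7784 F59543) (tt N9427 D15885) (tt N9424 (iv F62645)) (tt N9263 (iv F62066)) (tt N9421 (iv F62637)) (tt N8651 F59544))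
theorem Q8653 : ∀ i, i < 8653 → P i := stepQ 8652 Q8652 (allL N8652 (tt N9366 (iv F62490)) (tt N7822 F59545) (tt N9427 (iv F62655)) (tt N7781 F59546) (tt N7780 (iv D15110)) (tt N9307 (iv F62272)) (tt N9264 (iv F62070)) (tt N9422 (iv F62640)) (tt N8652 F59547))
theorem Q8654 : ∀ i, i < 8654 → P i := stepQ 8653 Q8653 (allL N8653 (tt N8971 (iv F60989)) (tt N7799 F59548) (tt N9428 D15886) (tt N7782 (iv D15111)) (tt N8969 (iv F60981)) (tt N8778 (iv F60115)) (tt N7783 F59549) (tt N9412 (iv F62616)) (tt N8653 F59550))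
theorem Q8655 : ∀ i, i < 8655 → P i := stepQ 8654 Q8654 (allL N8654 (tt N9367 (iv F62496)) (tt N9429 D15887) (tt N7783 (iv D15112)) (tt N9424 (iv F62644)) (tt N9430 D15888) (tt N7784 F59551) (tt N9428 (iv F62657)) (tt N9413 (iv F62618)) (tt N8654 F59552))
theorem Q8656 : ∀ i, i < 8656 → P i := stepQ 8655 Q8655 (allL N8655 (tt N8968 (iv F60974)) (tt N7801 F59553) (tt N9430 (iv F62662)) (tt N7793 F59554) (tt N7783 (iv D15113)) (tt N8779 (iv F60120)) (tt N8969 (iv F60983)) (tt N9414 (iv F62620)) (tt N8655 F59555))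
theorem Q8657 : ∀ i, i < 8657 → P i := stepQ 8656 Q8656 (allL N8656 (tt N9431 D15889) (tt N7784 (iv D15114)) (tt N7802 F59556) (tt N9426 (iv F62653)) (tt N8894 (iv F60588)) (tt N9429 (iv F62660)) (tt N9296 (iv F62210)) (tt N9415 (iv F62622)) (tt N8656 F59557))
theorem Q8658 : ∀ i, i < 8658 → P i := stepQ 8657 Q8657 (allL N8657 (tt N8037 F59558) (tt N7827 F59559) (tt N8224 F59560) (tt N9432 D15890) (tt N7788 F59561) (tt N8393 F59562) (tt N9303 (iv F62250)) (tt N7785 (iv D15115)) (tt N7885 F59563))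
theorem Q8659 : ∀ i, i < 8659 → P i := stepQ 8658 Q8658 (allL N8658 (tt N8038 F59564) (tt N7828 F59565) (tt N8225 F59566) (tt N7887 (iv F59570)) (tt N9303 (iv F62248)) (tt N8658 F59567) (tt N7788 F59568) (tt N7786 (iv D15116)) (tt N7886 F59569))
theorem Q8660 : ∀ i, i < 8660 → P i := stepQ 8659 Q8659 (allL N8659 (tt N8039 F59571) (tt N7831 F59572) (tt N7888 (iv F59577)) (tt N7789 (iv D15117)) (tt N8686 (iv F59671)) (tt N8659 F59573) (tt N7790 F59574) (tt N7887 F59575) (tt N8659 F59576))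
theorem Q8661 : ∀ i, i < 8661 → P i := stepQ 8660 Q8660 (allL N8660 (tt N8031 F59578) (tt N7833 F59579) (tt N7883 F59580) (tt N9425 (iv F62649)) (tt N7790 (iv D15118)) (tt N7881 F59581) (tt N8686 (iv F59673)) (tt N7880 F59582) (tt N8660 F59583))
theorem Q8662 : ∀ i, i < 8662 → P i := stepQ 8661 Q8661 (allL N8661 (tt N7841 F59584) (tt N7842 F59585) (tt N7791 (iv D15119)) (tt N7888 F59586) (tt N7928 F59587) (tt N8661 F59588) (tt N7792 F59589) (tt N7840 F59590) (tt N8661 F59591))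
theorem Q8663 : ∀ i, i < 8663 → P i := stepQ 8662 Q8662 (allL N8662 (tt N7926 F59592) (tt N7923 F59593) (tt N7793 F59594) (tt N9433 D15891) (tt N7792 (iv D15120)) (tt N8143 F59595) (tt N7928 F59596) (tt N7925 F59597) (tt N8662 F59598))
theorem Q8664 : ∀ i, i < 8664 → P i := stepQ 8663 Q8663 (allL N8663 (tt N7804 F59599) (tt N9399 (iv F62588)) (tt N9074 (iv F61384)) (tt N7794 (iv D15121)) (tt N9063 (iv F61345)) (tt N7795 F59600) (tt N8934 (iv F60808)) (tt N8663 F59601) (tt N7797 F59602))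
theorem Q8665 : ∀ i, i < 8665 → P i := stepQ 8664 Q8664 (allL N8664 (tt N7805 F59603) (tt N9412 (iv F62614)) (tt N8775 (iv F60097)) (tt N7796 (iv D15122)) (tt N8972 (iv F60995)) (tt N8776 (iv F60104)) (tt N7797 F59604) (tt N7799 F59605) (tt N8934 (iv F60810)))
theorem Q8666 : ∀ i, i < 8666 → P i := stepQ 8665 Q8665 (allL N8665 (tt N7806 F59606) (tt N9434 D15892) (tt N7797 (iv D15123)) (tt N8774 (iv F60091)) (tt N8794 (iv F60214)) (tt N7798 F59607) (tt N8775 (iv F60099)) (tt N7800 F59608) (tt N9074 (iv F61387)))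
theorem Q8667 : ∀ i, i < 8667 → P i := stepQ 8666 Q8666 (allL N8666 (tt N7807 F59609) (tt N9414 (iv F62619)) (tt N8794 (iv F60213)) (tt N8761 (iv F60022)) (tt N7797 (iv D15124)) (tt N8765 (iv F60045)) (tt N8972 (iv F60997)) (tt N7801 F59610) (tt N9063 (iv F61347)))
theorem Q8668 : ∀ i, i < 8668 → P i := stepQ 8667 Q8667 (allL N8667 (tt N9435 D15893) (tt N7798 (iv D15125)) (tt N9415 (iv F62621)) (tt N9061 (iv F61337)) (tt N8921 (iv F60730)) (tt N9434 (iv F62677)) (tt N9226 (iv F61904)) (tt N7802 F59611) (tt N9071 (iv F61379)))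
theorem Q8669 : ∀ i, i < 8669 → P i := stepQ 8668 Q8668 (allL N8668 (tt N8782 (iv F60131)) (tt N7800 (iv D15126)) (tt N9429 (iv F62659)) (tt N7834 F59612) (tt N8780 (iv F60125)) (tt N7802 F59613) (tt N8747 (iv F59947)) (tt N9434 (iv F62678)) (tt N8668 F59614))
theorem Q8670 : ∀ i, i < 8670 → P i := stepQ 8669 Q8669 (allL N8669 (tt N7802 (iv D15127)) (tt N7809 F59615) (tt N9431 (iv F62664)) (tt N7835 F59616) (tt N8926 (iv F60756)) (tt N8782 F60136) (tt N8881 (iv F60550)) (tt N9435 (iv F62680)) (tt N8669 F59617))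
theorem Q8671 : ∀ i, i < 8671 → P i := stepQ 8670 Q8670 (allL N8670 (tt N7808 (iv D15128)) (tt N9435 (iv F62679)) (tt N9377 (iv F62522)) (tt N8909 (iv F60675)) (tt N8937 (iv F60825)) (tt N8773 F60088) (tt N8910 (iv F60682)) (tt N7809 F59618) (tt N9080 (iv F61410)))
theorem Q8672 : ∀ i, i < 8672 → P i := stepQ 8671 Q8671 (allL N8671 (tt N8671 F59619) (tt N9388 (iv F62557)) (tt N8474 F59620) (tt N8671 F59621) (tt N8473 F59622) (tt N9240 (iv F61972)) (tt N7811 F59623) (tt N9436 D15894) (tt N7810 (iv D15129)))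
theorem Q8673 : ∀ i, i < 8673 → P i := stepQ 8672 Q8672 (allL N8672 (tt N8672 F59624) (tt N9389 (iv F62561)) (tt N8483 F59625) (tt N9437 D15895) (tt N8482 F59626) (tt N7812 F59627) (tt N9436 (iv F62684)) (tt N7811 (iv D15130)) (tt N8435 F59628))
theorem Q8674 : ∀ i, i < 8674 → P i := stepQ 8673 Q8673 (allL N8673 (tt N8673 F59629) (tt N9390 (iv F62565)) (tt N9438 D15896) (tt N7812 (iv D15131)) (tt N8952 (iv F60899)) (tt N9437 (iv F62687)) (tt N9242 (iv F61980)) (tt N8673 F59630) (tt N8436 F59631))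
theorem Q8675 : ∀ i, i < 8675 → P i := stepQ 8674 Q8674 (allL N8674 (tt N8674 F59632) (tt N9416 (iv F62623)) (tt N9277 (iv F62125)) (tt N9439 D15897) (tt N7816 F59633) (tt N8477 F59634) (tt N9279 (iv F62140)) (tt N7813 (iv D15132)) (tt N9278 (iv F62135)))
theorem Q8676 : ∀ i, i < 8676 → P i := stepQ 8675 Q8675 (allL N8675 (tt N8675 F59635) (tt N9417 (iv F62626)) (tt N9278 (iv F62131)) (tt N9440 D15898) (tt N9279 (iv F62138)) (tt N9267 (iv F62082)) (tt N7816 F59636) (tt N7814 (iv D15133)) (tt N9277 (iv F62129)))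
theorem Q8677 : ∀ i, i < 8677 → P i := stepQ 8676 Q8676 (allL N8676 (tt N8676 F59637) (tt N9418 (iv F62628)) (tt N9279 (iv F62137)) (tt N9441 D15899) (tt N9278 (iv F62132)) (tt N7817 F59638) (tt N9277 (iv F62128)) (tt N7815 (iv D15134)) (tt N7816 F59639))
theorem Q8678 : ∀ i, i < 8678 → P i := stepQ 8677 Q8677 (allL N8677 (tt N8677 F59640) (tt N9419 (iv F62631)) (tt N9442 D15900) (tt N7816 (iv D15135)) (tt N9443 D15901) (tt N7818 F59641) (tt N9440 (iv F62697)) (tt N7820 F59642) (tt N9441 (iv F62702)))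
theorem Q8679 : ∀ i, i < 8679 → P i := stepQ 8678 Q8678 (allL N8678 (tt N8678 F59643) (tt N9420 (iv F62634)) (tt N9444 D15902) (tt N7817 (iv D15136)) (tt N9445 D15903) (tt N9441 (iv F62700)) (tt N9270 (iv F62097)) (tt N8678 F59644) (tt N7818 F59645))
theorem Q8680 : ∀ i, i < 8680 → P i := stepQ 8679 Q8679 (allL N8679 (tt N8679 F59646) (tt N9446 D15904) (tt N7818 (iv D15137)) (tt N9282 (iv F62150)) (tt N9447 D15905) (tt N9442 (iv F62704)) (tt N9271 (iv F62103)) (tt N7821 F59647) (tt N9444 (iv F62713)))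
theorem Q8681 : ∀ i, i < 8681 → P i := stepQ 8680 Q8680 (allL N8680 (tt N8680 F59648) (tt N9422 (iv F62638)) (tt N9447 (iv F62721)) (tt N8483 F59649) (tt N7818 (iv D15138)) (tt N9233 (iv F61935)) (tt N9272 (iv F62106)) (tt N7822 F59650) (tt N9445 (iv F62717)))
theorem Q8682 : ∀ i, i < 8682 → P i := stepQ 8681 Q8681 (allL N8681 (tt N8681 F59651) (tt N9423 (iv F62641)) (tt N8683 (iv F59660)) (tt N7819 (iv D15139)) (tt N8682 F59658) (tt N9273 (iv F62109)) (tt N7820 F59652) (tt N9440 (iv F62698)) (tt N8681 F59653))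
theorem Q8683 : ∀ i, i < 8683 → P i := stepQ 8682 Q8682 (allL N8682 (tt N8682 F59654) (tt N9448 D15906) (tt N7820 (iv D15140)) (tt N7824 F59655) (tt N8681 (iv F59658)) (tt N7821 F59656) (tt N8683 (iv F59662)) (tt N9442 (iv F62705)) (tt N8682 F59657))
theorem Q8684 : ∀ i, i < 8684 → P i := stepQ 8683 Q8683 (allL N8683 (tt N8683 F59659) (tt N9425 (iv F62648)) (tt N8681 F59660) (tt N7833 F59661) (tt N7820 (iv D15141)) (tt N9323 (iv F62334)) (tt N8682 F59662) (tt N9443 (iv F62710)) (tt N8683 F59663))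
theorem Q8685 : ∀ i, i < 8685 → P i := stepQ 8684 Q8684 (allL N8684 (tt N9449 D15907) (tt N7821 (iv D15142)) (tt N9426 (iv F62652)) (tt N7826 F59664) (tt N9450 D15908) (tt N9448 (iv F62725)) (tt N9274 (iv F62113)) (tt N9446 (iv F62719)) (tt N8684 F59665))
theorem Q8686 : ∀ i, i < 8686 → P i := stepQ 8685 Q8685 (allL N8685 (tt N8685 F59666) (tt N9450 (iv F62731)) (tt N7822 F59667) (tt N8685 F59668) (tt N7821 (iv D15143)) (tt N9324 (iv F62340)) (tt N9275 (iv F62118)) (tt N9447 (iv F62722)) (tt N8685 F59669))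
theorem Q8687 : ∀ i, i < 8687 → P i := stepQ 8686 Q8686 (allL N8686 (tt N8889 (iv F60570)) (tt N7824 (iv D15144)) (tt N7834 F59670) (tt N9448 (iv F62723)) (tt N8659 F59671) (tt N7826 F59672) (tt N8660 F59673) (tt N8745 F59941) (tt N8686 F59674))
theorem Q8688 : ∀ i, i < 8688 → P i := stepQ 8687 Q8687 (allL N8687 (tt N7826 (iv D15145)) (tt N8687 F59675) (tt N7835 F59676) (tt N9449 (iv F62729)) (tt N8687 F59677) (tt N8889 (iv F60574)) (tt N8879 (iv F60542)) (tt N8878 F60536) (tt N8687 F59678))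
theorem Q8689 : ∀ i, i < 8689 → P i := stepQ 8688 Q8688 (allL N8688 (tt N8688 F59679) (tt N9432 (iv F62667)) (tt N8943 (iv F60859)) (tt N7827 (iv D15146)) (tt N9230 (iv F61923)) (tt N8486 F59680) (tt N9328 (iv F62360)) (tt N9439 (iv F62695)) (tt N8941 (iv F60851)))
theorem Q8690 : ∀ i, i < 8690 → P i := stepQ 8689 Q8689 (allL N8689 (tt N8689 F59681) (tt N7887 F59682) (tt N7839 (iv F59687)) (tt N7828 (iv D15147)) (tt N8475 F59688) (tt N8689 F59683) (tt N7830 F59684) (tt N7831 F59685) (tt N7838 F59686))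
theorem Q8691 : ∀ i, i < 8691 → P i := stepQ 8690 Q8690 (allL N8690 (tt N9451 D15909) (tt N7843 (iv D15148)) (tt N8690 F59689) (tt N7851 F59690) (tt N9452 D15910) (tt N8157 F59691) (tt N9089 (iv F61448)) (tt N8834 (iv F60380)) (tt N9453 D15911))
theorem Q8692 : ∀ i, i < 8692 → P i := stepQ 8691 Q8691 (allL N8691 (tt N7963 F59692) (tt N9452 (iv F62742)) (tt N7844 F59693) (tt N9454 D15912) (tt N7843 (iv D15149)) (tt N9455 D15913) (tt N8007 F59694) (tt N7993 F59695) (tt N9456 D15914))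
theorem Q8693 : ∀ i, i < 8693 → P i := stepQ 8692 Q8692 (allL N8692 (tt N7964 F59696) (tt N9453 (iv F62748)) (tt N7845 F59697) (tt N7853 F59698) (tt N9456 (iv F62767)) (tt N8159 F59699) (tt N9097 (iv F61479)) (tt N9457 D15915) (tt N7843 (iv D15150)))
theorem Q8694 : ∀ i, i < 8694 → P i := stepQ 8693 Q8693 (allL N8693 (tt N7965 F59700) (tt N8693 F59701) (tt N9455 (iv F62761)) (tt N8693 F59702) (tt N8160 F59703) (tt N7844 (iv D15151)) (tt N9308 (iv F62279)) (tt N8016 F59704) (tt N9458 D15916))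
theorem Q8695 : ∀ i, i < 8695 → P i := stepQ 8694 Q8694 (allL N8694 (tt N7966 F59705) (tt N8694 F59706) (tt N9456 (iv F62766)) (tt N8694 F59707) (tt N7845 F59708) (tt N9458 (iv F62776)) (tt N8028 F59709) (tt N9459 D15917) (tt N7844 (iv D15152)))
theorem Q8696 : ∀ i, i < 8696 → P i := stepQ 8695 Q8695 (allL N8695 (tt N7967 F59710) (tt N8695 F59711) (tt N9457 (iv F62770)) (tt N8564 F59712) (tt N9459 (iv F62779)) (tt N8162 F59713) (tt N9106 (iv F61507)) (tt N7845 (iv D15153)) (tt N8954 (iv F60913)))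
theorem Q8697 : ∀ i, i < 8697 → P i := stepQ 8696 Q8696 (allL N8696 (tt N7969 F59714) (tt N8177 F59715) (tt N7846 (iv D15154)) (tt N9095 (iv F61469)) (tt N8130 F59716) (tt N7848 F59717) (tt N8163 F59718) (tt N7857 F59719) (tt N9460 D15918))
theorem Q8698 : ∀ i, i < 8698 → P i := stepQ 8697 Q8697 (allL N8697 (tt N7970 F59720) (tt N7889 F59721) (tt N9460 (iv F62784)) (tt N7847 F59722) (tt N8140 F59723) (tt N7850 F59724) (tt N8164 F59725) (tt N9461 D15919) (tt N7846 (iv D15155)))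
theorem Q8699 : ∀ i, i < 8699 → P i := stepQ 8698 Q8698 (allL N8698 (tt N8276 F59726) (tt N7848 (iv D15156)) (tt N7890 F59727) (tt N9089 (iv F61445)) (tt N8184 (iv F59731)) (tt N8177 F59728) (tt N7851 F59729) (tt N7860 F59730) (tt N9462 D15920))
theorem Q8700 : ∀ i, i < 8700 → P i := stepQ 8699 Q8699 (allL N8699 (tt N7972 F59732) (tt N8184 F59733) (tt N7849 F59734) (tt N9463 D15921) (tt N7848 (iv D15157)) (tt N8181 F59735) (tt N7852 F59736) (tt N7861 F59737) (tt N9464 D15922))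
theorem Q8701 : ∀ i, i < 8701 → P i := stepQ 8700 Q8700 (allL N8700 (tt N7973 F59738) (tt N9462 (iv F62796)) (tt N7850 F59739) (tt N9097 (iv F61477)) (tt N9464 (iv F62811)) (tt N9460 (iv F62786)) (tt N7853 F59740) (tt N9465 D15923) (tt N7848 (iv D15158)))
theorem Q8702 : ∀ i, i < 8702 → P i := stepQ 8701 Q8701 (allL N8701 (tt N7974 F59741) (tt N7892 F59742) (tt N9464 (iv F62810)) (tt N8701 F59743) (tt N7850 F59744) (tt N8237 F59745) (tt N7855 F59746) (tt N9466 D15924) (tt N7849 (iv D15159)))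
theorem Q8703 : ∀ i, i < 8703 → P i := stepQ 8702 Q8702 (allL N8702 (tt N7975 F59747) (tt N7893 F59748) (tt N9465 (iv F62815)) (tt N8397 F59749) (tt N9466 (iv F62820)) (tt N9461 (iv F62792)) (tt N7856 F59750) (tt N7850 (iv D15160)) (tt N7864 F59751))
theorem Q8704 : ∀ i, i < 8704 → P i := stepQ 8703 Q8703 (allL N8703 (tt N7851 (iv D15161)) (tt N7976 F59752) (tt N7894 F59753) (tt N9451 (iv F62736)) (tt N8340 (iv F59757)) (tt N8168 F59754) (tt N8276 F59755) (tt N7865 F59756) (tt N9467 D15925))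
theorem Q8705 : ∀ i, i < 8705 → P i := stepQ 8704 Q8704 (allL N8704 (tt N8340 F59758) (tt N7852 F59759) (tt N7895 F59760) (tt N9468 D15926) (tt N7851 (iv D15162)) (tt N8198 (iv F59763)) (tt N8184 F59761) (tt N7866 F59762) (tt N9469 D15927))
theorem Q8706 : ∀ i, i < 8706 → P i := stepQ 8705 Q8705 (allL N8705 (tt N9467 (iv F62824)) (tt N7853 F59764) (tt N7896 F59765) (tt N9453 (iv F62750)) (tt N9469 (iv F62840)) (tt N8170 F59766) (tt N9462 (iv F62800)) (tt N9470 D15928) (tt N7851 (iv D15163)))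
theorem Q8707 : ∀ i, i < 8707 → P i := stepQ 8706 Q8706 (allL N8706 (tt N7979 F59767) (tt N9468 (iv F62831)) (tt N8706 F59768) (tt N7852 (iv D15164)) (tt N9454 (iv F62755)) (tt N9471 D15929) (tt N9463 (iv F62806)) (tt N9472 D15930) (tt N9473 D15931))
theorem Q8708 : ∀ i, i < 8708 → P i := stepQ 8707 Q8707 (allL N8707 (tt N7980 F59769) (tt N8198 F59770) (tt N7854 F59771) (tt N9471 (iv F62850)) (tt N8172 F59772) (tt N7852 (iv D15165)) (tt N8192 F59773) (tt N7869 F59774) (tt N9474 D15932))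
theorem Q8709 : ∀ i, i < 8709 → P i := stepQ 8708 Q8708 (allL N8708 (tt N7981 F59775) (tt N9469 (iv F62838)) (tt N7855 F59776) (tt N9473 (iv F62860)) (tt N7853 F59777) (tt N9474 (iv F62865)) (tt N9464 (iv F62813)) (tt N9475 D15933) (tt N7852 (iv D15166)))
theorem Q8710 : ∀ i, i < 8710 → P i := stepQ 8709 Q8709 (allL N8709 (tt N7982 F59778) (tt N9470 (iv F62843)) (tt N7856 F59779) (tt N9476 D15934) (tt N9475 (iv F62869)) (tt N8174 F59780) (tt N9465 (iv F62816)) (tt N7853 (iv D15167)) (tt N7871 F59781))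
theorem Q8711 : ∀ i, i < 8711 → P i := stepQ 8710 Q8710 (allL N8710 (tt N7984 F59782) (tt N7899 F59783) (tt N9474 (iv F62863)) (tt N8710 F59784) (tt N8175 F59785) (tt N7855 F59786) (tt N8244 F59787) (tt N9477 D15935) (tt N7854 (iv D15168)))
theorem Q8712 : ∀ i, i < 8712 → P i := stepQ 8711 Q8711 (allL N8711 (tt N7985 F59788) (tt N7900 F59789) (tt N9475 (iv F62868)) (tt N9478 D15936) (tt N7856 F59790) (tt N9477 (iv F62878)) (tt N9466 (iv F62822)) (tt N7855 (iv D15169)) (tt N7874 F59791))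
theorem Q8713 : ∀ i, i < 8713 → P i := stepQ 8712 Q8712 (allL N8712 (tt N8127 F59792) (tt N7857 (iv D15170)) (tt N7901 F59793) (tt N8717 (iv F59821)) (tt N8163 (iv F59797)) (tt N7860 F59794) (tt N8130 F59795) (tt N8177 F59796) (tt N9479 D15937))
theorem Q8714 : ∀ i, i < 8714 → P i := stepQ 8713 Q8713 (allL N8713 (tt N7986 F59798) (tt N8163 F59799) (tt N7858 F59800) (tt N9391 (iv F62571)) (tt N7857 (iv D15171)) (tt N8165 F59801) (tt N8177 F59802) (tt N8130 F59803) (tt N9480 D15938))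
theorem Q8715 : ∀ i, i < 8715 → P i := stepQ 8714 Q8714 (allL N8714 (tt N7987 F59804) (tt N9479 (iv F62887)) (tt N7859 F59805) (tt N8838 (iv F60397)) (tt N9480 (iv F62895)) (tt N7862 F59806) (tt N8178 F59807) (tt N9481 D15939) (tt N7857 (iv D15172)))
theorem Q8716 : ∀ i, i < 8716 → P i := stepQ 8715 Q8715 (allL N8715 (tt N7988 F59808) (tt N7903 F59809) (tt N9480 (iv F62894)) (tt N8715 F59810) (tt N7859 F59811) (tt N8228 F59812) (tt N8179 F59813) (tt N9482 D15940) (tt N7858 (iv D15173)))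
theorem Q8717 : ∀ i, i < 8717 → P i := stepQ 8716 Q8716 (allL N8716 (tt N7989 F59814) (tt N7904 F59815) (tt N9481 (iv F62899)) (tt N8063 F59816) (tt N9482 (iv F62904)) (tt N7864 F59817) (tt N8180 F59818) (tt N7859 (iv D15174)) (tt N9461 (iv F62794)))
theorem Q8718 : ∀ i, i < 8718 → P i := stepQ 8717 Q8717 (allL N8717 (tt N7860 (iv D15175)) (tt N7990 F59819) (tt N7905 F59820) (tt N8712 F59821) (tt N8320 F59822) (tt N8127 F59823) (tt N7865 F59824) (tt N8276 F59825) (tt N9483 D15941))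
theorem Q8719 : ∀ i, i < 8719 → P i := stepQ 8718 Q8718 (allL N8718 (tt N9483 (iv F62908)) (tt N7862 F59826) (tt N7906 F59827) (tt N8956 (iv F60922)) (tt N8391 F59828) (tt N9479 (iv F62890)) (tt N7867 F59829) (tt N9484 D15942) (tt N7860 (iv D15176)))
theorem Q8720 : ∀ i, i < 8720 → P i := stepQ 8719 Q8719 (allL N8719 (tt N7995 F59830) (tt N8391 F59831) (tt N7863 F59832) (tt N9082 (iv F61417)) (tt N7862 F59833) (tt N8392 F59834) (tt N7870 F59835) (tt N9485 D15943) (tt N7861 (iv D15177)))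
theorem Q8721 : ∀ i, i < 8721 → P i := stepQ 8720 Q8720 (allL N8720 (tt N7996 F59836) (tt N9484 (iv F62915)) (tt N7864 F59837) (tt N9486 D15944) (tt N9485 (iv F62922)) (tt N9481 (iv F62900)) (tt N7871 F59838) (tt N7862 (iv D15178)) (tt N9465 (iv F62817)))
theorem Q8722 : ∀ i, i < 8722 → P i := stepQ 8721 Q8721 (allL N8721 (tt N7999 F59839) (tt N7908 F59840) (tt N9485 (iv F62921)) (tt N9487 D15945) (tt N7864 F59841) (tt N8412 F59842) (tt N7874 F59843) (tt N7863 (iv D15179)) (tt N9466 (iv F62823)))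
theorem Q8723 : ∀ i, i < 8723 → P i := stepQ 8722 Q8722 (allL N8722 (tt N7866 F59844) (tt N8000 F59845) (tt N7909 F59846) (tt N9488 D15946) (tt N7865 (iv D15180)) (tt N8331 (iv F59849)) (tt N8320 F59847) (tt N8340 F59848) (tt N9489 D15947))
theorem Q8724 : ∀ i, i < 8724 → P i := stepQ 8723 Q8723 (allL N8723 (tt N7867 F59850) (tt N8001 F59851) (tt N7910 F59852) (tt N8958 (iv F60933)) (tt N9489 (iv F62944)) (tt N8190 F59853) (tt N9483 (iv F62914)) (tt N9490 D15948) (tt N7865 (iv D15181)))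
theorem Q8725 : ∀ i, i < 8725 → P i := stepQ 8724 Q8724 (allL N8724 (tt N9488 (iv F62934)) (tt N7868 F59854) (tt N8540 F59855) (tt N7866 (iv D15182)) (tt N8797 (iv F60232)) (tt N9491 D15949) (tt N8541 F59856) (tt N9492 D15950) (tt N9493 D15951))
theorem Q8726 : ∀ i, i < 8726 → P i := stepQ 8725 Q8725 (allL N8725 (tt N8331 F59857) (tt N7869 F59858) (tt N7911 F59859) (tt N9491 (iv F62954)) (tt N8192 F59860) (tt N7866 (iv D15183)) (tt N8172 F59861) (tt N8198 F59862) (tt N9494 D15952))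
theorem Q8727 : ∀ i, i < 8727 → P i := stepQ 8726 Q8726 (allL N8726 (tt N9489 (iv F62941)) (tt N7870 F59863) (tt N7912 F59864) (tt N9493 (iv F62964)) (tt N7867 F59865) (tt N9494 (iv F62970)) (tt N8391 F59866) (tt N9495 D15953) (tt N7866 (iv D15184)))
theorem Q8728 : ∀ i, i < 8728 → P i := stepQ 8727 Q8727 (allL N8727 (tt N9490 (iv F62947)) (tt N7871 F59867) (tt N7913 F59868) (tt N9496 D15954) (tt N9495 (iv F62974)) (tt N8194 F59869) (tt N9484 (iv F62918)) (tt N7867 (iv D15185)) (tt N9470 (iv F62846)))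
theorem Q8729 : ∀ i, i < 8729 → P i := stepQ 8728 Q8728 (allL N8728 (tt N8006 F59870) (tt N9491 (iv F62952)) (tt N7876 F59871) (tt N7869 F59872) (tt N9497 D15955) (tt N7868 (iv D15186)) (tt N9498 D15956) (tt N9499 D15957) (tt N9500 D15958))
theorem Q8730 : ∀ i, i < 8730 → P i := stepQ 8729 Q8729 (allL N8729 (tt N8007 F59873) (tt N9492 (iv F62957)) (tt N7877 F59874) (tt N9472 (iv F62855)) (tt N7960 F59875) (tt N9499 (iv F62992)) (tt N7963 F59876) (tt N7868 (iv D15187)) (tt N9501 D15959))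
theorem Q8731 : ∀ i, i < 8731 → P i := stepQ 8730 Q8730 (allL N8730 (tt N8008 F59877) (tt N9493 (iv F62962)) (tt N7878 F59878) (tt N7870 F59879) (tt N8960 (iv F60941)) (tt N9500 (iv F62996)) (tt N9082 (iv F61419)) (tt N9502 D15960) (tt N7868 (iv D15188)))
theorem Q8732 : ∀ i, i < 8732 → P i := stepQ 8731 Q8731 (allL N8731 (tt N8009 F59880) (tt N8172 F59881) (tt N7872 F59882) (tt N9498 (iv F62986)) (tt N8198 F59883) (tt N8169 F59884) (tt N7869 (iv D15189)) (tt N8192 F59885) (tt N9503 D15961))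
theorem Q8733 : ∀ i, i < 8733 → P i := stepQ 8732 Q8732 (allL N8732 (tt N8010 F59886) (tt N9494 (iv F62967)) (tt N7873 F59887) (tt N9500 (iv F62995)) (tt N8199 F59888) (tt N7870 F59889) (tt N9503 (iv F63008)) (tt N9504 D15962) (tt N7869 (iv D15190)))
theorem Q8734 : ∀ i, i < 8734 → P i := stepQ 8733 Q8733 (allL N8733 (tt N8011 F59890) (tt N9495 (iv F62972)) (tt N7874 F59891) (tt N9505 D15963) (tt N7871 F59892) (tt N9504 (iv F63012)) (tt N9485 (iv F62924)) (tt N7870 (iv D15191)) (tt N9475 (iv F62870)))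
theorem Q8735 : ∀ i, i < 8735 → P i := stepQ 8734 Q8734 (allL N8734 (tt N8012 F59893) (tt N9496 (iv F62976)) (tt N8578 F59894) (tt N7871 (iv D15192)) (tt N9506 D15964) (tt N8201 F59895) (tt N9486 (iv F62927)) (tt N8962 (iv F60951)) (tt N9476 (iv F62874)))
theorem Q8736 : ∀ i, i < 8736 → P i := stepQ 8735 Q8735 (allL N8735 (tt N8013 F59896) (tt N7917 F59897) (tt N9503 (iv F63005)) (tt N7882 F59898) (tt N8202 F59899) (tt N8231 F59900) (tt N7873 F59901) (tt N9507 D15965) (tt N7872 (iv D15193)))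
theorem Q8737 : ∀ i, i < 8737 → P i := stepQ 8736 Q8736 (allL N8736 (tt N8014 F59902) (tt N7918 F59903) (tt N9504 (iv F63010)) (tt N9508 D15966) (tt N8203 F59904) (tt N7874 F59905) (tt N9507 (iv F63021)) (tt N7873 (iv D15194)) (tt N9477 (iv F62880)))
theorem Q8738 : ∀ i, i < 8738 → P i := stepQ 8737 Q8737 (allL N8737 (tt N8015 F59906) (tt N7919 F59907) (tt N9509 D15967) (tt N7874 (iv D15195)) (tt N8580 F59908) (tt N9508 (iv F63025)) (tt N9487 (iv F62932)) (tt N7884 F59909) (tt N9478 (iv F62885)))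
theorem Q8739 : ∀ i, i < 8739 → P i := stepQ 8738 Q8738 (allL N8738 (tt N8023 F59910) (tt N7920 F59911) (tt N9510 D15968) (tt N7875 (iv D15196)) (tt N8489 F59912) (tt N8494 F59913) (tt N7884 F59914) (tt N9487 (iv F62933)) (tt N8738 F59915))
theorem Q8740 : ∀ i, i < 8740 → P i := stepQ 8739 Q8739 (allL N8739 (tt N8024 F59916) (tt N8941 (iv F60845)) (tt N9497 (iv F62979)) (tt N7885 F59917) (tt N7876 (iv D15197)) (tt N8939 (iv F60836)) (tt N9301 (iv F62240)) (tt N9300 F62234) (tt N9432 (iv F62670)))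
theorem Q8741 : ∀ i, i < 8741 → P i := stepQ 8740 Q8740 (allL N8740 (tt N8025 F59918) (tt N8556 F59919) (tt N9498 (iv F62985)) (tt N7879 F59920) (tt N9301 (iv F62238)) (tt N8558 F59921) (tt N7876 (iv D15198)) (tt N9299 F62228) (tt N9511 D15969))
theorem Q8742 : ∀ i, i < 8742 → P i := stepQ 8741 Q8741 (allL N8741 (tt N8026 F59922) (tt N8106 F59923) (tt N9499 (iv F62990)) (tt N8741 F59924) (tt N9300 (iv F62232)) (tt N7877 F59925) (tt N9299 F62227) (tt N7876 (iv D15199)) (tt N9512 D15970))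
theorem Q8743 : ∀ i, i < 8743 → P i := stepQ 8742 Q8742 (allL N8742 (tt N8027 F59926) (tt N9230 (iv F61921)) (tt N9500 (iv F62994)) (tt N7880 F59927) (tt N9432 (iv F62668)) (tt N7878 F59928) (tt N9511 (iv F63041)) (tt N9513 D15971) (tt N7876 (iv D15200)))
theorem Q8744 : ∀ i, i < 8744 → P i := stepQ 8743 Q8743 (allL N8743 (tt N8028 F59929) (tt N8107 F59930) (tt N9501 (iv F62998)) (tt N8743 F59931) (tt N7961 F59932) (tt N9512 (iv F63045)) (tt N7966 F59933) (tt N9514 D15972) (tt N7877 (iv D15201)))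
theorem Q8745 : ∀ i, i < 8745 → P i := stepQ 8744 Q8744 (allL N8744 (tt N8029 F59934) (tt N9231 (iv F61926)) (tt N9502 (iv F63002)) (tt N9515 D15973) (tt N8963 (iv F60955)) (tt N9513 (iv F63047)) (tt N9084 (iv F61426)) (tt N7878 (iv D15202)) (tt N9514 (iv F63052)))
theorem Q8746 : ∀ i, i < 8746 → P i := stepQ 8745 Q8745 (allL N8745 (tt N8030 F59935) (tt N8475 F59936) (tt N7882 F59937) (tt N9511 (iv F63039)) (tt N7887 F59938) (tt N8476 F59939) (tt N7880 F59940) (tt N8686 (iv F59941)) (tt N7879 (iv D15203)))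
theorem Q8747 : ∀ i, i < 8747 → P i := stepQ 8746 Q8746 (allL N8746 (tt N8032 F59942) (tt N9323 (iv F62331)) (tt N9516 D15974) (tt N7881 (iv D15204)) (tt N9307 (iv F62271)) (tt N9425 (iv F62650)) (tt N9306 (iv F62267)) (tt N9515 (iv F63054)) (tt N8746 F59943))
theorem Q8748 : ∀ i, i < 8748 → P i := stepQ 8747 Q8747 (allL N8747 (tt N8035 F59944) (tt N7921 F59945) (tt N9517 D15975) (tt N7883 (iv D15205)) (tt N9433 (iv F62673)) (tt N7884 F59946) (tt N8668 F59947) (tt N9508 (iv F63027)) (tt N8747 F59948))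
theorem Q8749 : ∀ i, i < 8749 → P i := stepQ 8748 Q8748 (allL N8748 (tt N8036 F59949) (tt N9518 D15976) (tt N7884 (iv D15206)) (tt N9516 (iv F63056)) (tt N8593 F59950) (tt N9517 (iv F63060)) (tt N9510 (iv F63035)) (tt N9509 (iv F63030)) (tt N8748 F59951))
theorem Q8750 : ∀ i, i < 8750 → P i := stepQ 8749 Q8749 (allL N8749 (tt N7931 F59952) (tt N9461 (iv F62789)) (tt N8236 F59953) (tt N8078 F59954) (tt N8149 F59955) (tt N7893 F59956) (tt N8227 F59957) (tt N7889 (iv D15207)) (tt N7904 F59958))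
theorem Q8751 : ∀ i, i < 8751 → P i := stepQ 8750 Q8750 (allL N8750 (tt N8299 F59959) (tt N7891 F59960) (tt N9462 (iv F62797)) (tt N8750 F59961) (tt N8187 F59962) (tt N8179 F59963) (tt N7896 F59964) (tt N9519 D15977) (tt N7890 (iv D15208)))
theorem Q8752 : ∀ i, i < 8752 → P i := stepQ 8751 Q8751 (allL N8751 (tt N7932 F59965) (tt N9519 (iv F63069)) (tt N7893 F59966) (tt N9520 D15978) (tt N8241 F59967) (tt N8236 F59968) (tt N7898 F59969) (tt N7891 (iv D15209)) (tt N7907 F59970))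
theorem Q8753 : ∀ i, i < 8753 → P i := stepQ 8752 Q8752 (allL N8752 (tt N7933 F59971) (tt N9466 (iv F62819)) (tt N8241 F59972) (tt N9521 D15979) (tt N7893 F59973) (tt N8239 F59974) (tt N7900 F59975) (tt N7892 (iv D15210)) (tt N7908 F59976))
theorem Q8754 : ∀ i, i < 8754 → P i := stepQ 8753 Q8753 (allL N8753 (tt N7896 F59977) (tt N7934 F59978) (tt N9467 (iv F62826)) (tt N8753 F59979) (tt N8344 F59980) (tt N8230 F59981) (tt N8299 F59982) (tt N9522 D15980) (tt N7894 (iv D15211)))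
theorem Q8755 : ∀ i, i < 8755 → P i := stepQ 8754 Q8754 (allL N8754 (tt N8344 F59983) (tt N7897 F59984) (tt N9469 (iv F62839)) (tt N8210 F59985) (tt N7896 F59986) (tt N8202 F59987) (tt N8187 F59988) (tt N9523 D15981) (tt N7895 (iv D15212)))
theorem Q8756 : ∀ i, i < 8756 → P i := stepQ 8755 Q8755 (allL N8755 (tt N9522 (iv F63088)) (tt N7898 F59989) (tt N9470 (iv F62844)) (tt N9524 D15982) (tt N9523 (iv F63097)) (tt N8232 F59990) (tt N9519 (iv F63072)) (tt N7896 (iv D15213)) (tt N7913 F59991))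
theorem Q8757 : ∀ i, i < 8757 → P i := stepQ 8756 Q8756 (allL N8756 (tt N7936 F59992) (tt N9523 (iv F63095)) (tt N7900 F59993) (tt N8402 F59994) (tt N7898 F59995) (tt N8250 F59996) (tt N8241 F59997) (tt N7897 (iv D15214)) (tt N7915 F59998))
theorem Q8758 : ∀ i, i < 8758 → P i := stepQ 8757 Q8757 (allL N8757 (tt N7937 F59999) (tt N9524 (iv F63101)) (tt N8598 F60000) (tt N7898 (iv D15215)) (tt N9525 D15983) (tt N8234 F60001) (tt N9520 (iv F63078)) (tt N8757 F60002) (tt N7916 F60003))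
theorem Q8759 : ∀ i, i < 8759 → P i := stepQ 8758 Q8758 (allL N8758 (tt N7938 F60004) (tt N9477 (iv F62876)) (tt N8250 F60005) (tt N9526 D15984) (tt N8235 F60006) (tt N7900 F60007) (tt N8247 F60008) (tt N7899 (iv D15216)) (tt N7918 F60009))
theorem Q8760 : ∀ i, i < 8760 → P i := stepQ 8759 Q8759 (allL N8759 (tt N7939 F60010) (tt N9478 (iv F62882)) (tt N9527 D15985) (tt N7900 (iv D15217)) (tt N8599 F60011) (tt N9526 (iv F63115)) (tt N9521 (iv F63085)) (tt N8759 F60012) (tt N7919 F60013))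
theorem Q8761 : ∀ i, i < 8761 → P i := stepQ 8760 Q8760 (allL N8760 (tt N8138 F60014) (tt N7902 F60015) (tt N9479 (iv F62888)) (tt N7924 F60016) (tt N8164 F60017) (tt N7906 F60018) (tt N8140 F60019) (tt N9528 D15986) (tt N7901 (iv D15218)))
theorem Q8762 : ∀ i, i < 8762 → P i := stepQ 8761 Q8761 (allL N8761 (tt N7940 F60020) (tt N9528 (iv F63127)) (tt N7904 F60021) (tt N8666 F60022) (tt N8227 F60023) (tt N7907 F60024) (tt N8149 F60025) (tt N7902 (iv D15219)) (tt N8236 F60026))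
theorem Q8763 : ∀ i, i < 8763 → P i := stepQ 8762 Q8762 (allL N8762 (tt N7941 F60027) (tt N9482 (iv F62903)) (tt N8227 F60028) (tt N9529 D15987) (tt N7904 F60029) (tt N8229 F60030) (tt N8236 F60031) (tt N7903 (iv D15220)) (tt N8149 F60032))
theorem Q8764 : ∀ i, i < 8764 → P i := stepQ 8763 Q8763 (allL N8763 (tt N7906 F60033) (tt N7942 F60034) (tt N9483 (iv F62910)) (tt N7925 F60035) (tt N8222 F60036) (tt N8138 F60037) (tt N7910 F60038) (tt N9530 D15988) (tt N7905 (iv D15221)))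
theorem Q8765 : ∀ i, i < 8765 → P i := stepQ 8764 Q8764 (allL N8764 (tt N9530 (iv F63140)) (tt N7907 F60039) (tt N9484 (iv F62916)) (tt N9531 D15989) (tt N8368 F60040) (tt N9528 (iv F63130)) (tt N7913 F60041) (tt N7906 (iv D15222)) (tt N9519 (iv F63073)))
theorem Q8766 : ∀ i, i < 8766 → P i := stepQ 8765 Q8765 (allL N8765 (tt N7944 F60042) (tt N9531 (iv F63146)) (tt N8264 F60043) (tt N7907 (iv D15223)) (tt N8071 F60044) (tt N8666 F60045) (tt N7916 F60046) (tt N7927 F60047) (tt N9520 (iv F63080)))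
theorem Q8767 : ∀ i, i < 8767 → P i := stepQ 8766 Q8766 (allL N8766 (tt N7945 F60048) (tt N9487 (iv F62929)) (tt N8410 F60049) (tt N7908 (iv D15224)) (tt N8417 F60050) (tt N8411 F60051) (tt N7919 F60052) (tt N7920 F60053) (tt N9521 (iv F63087)))
theorem Q8768 : ∀ i, i < 8768 → P i := stepQ 8767 Q8767 (allL N8767 (tt N7912 F60054) (tt N7946 F60055) (tt N9489 (iv F62943)) (tt N8221 F60056) (tt N7910 F60057) (tt N8335 F60058) (tt N8222 F60059) (tt N9532 D15990) (tt N7909 (iv D15225)))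
theorem Q8769 : ∀ i, i < 8769 → P i := stepQ 8768 Q8768 (allL N8768 (tt N7913 F60060) (tt N7947 F60061) (tt N9490 (iv F62949)) (tt N9533 D15991) (tt N9532 (iv F63154)) (tt N8243 F60062) (tt N9530 (iv F63144)) (tt N7910 (iv D15226)) (tt N9522 (iv F63093)))
theorem Q8770 : ∀ i, i < 8770 → P i := stepQ 8769 Q8769 (allL N8769 (tt N8335 F60063) (tt N7914 F60064) (tt N9494 (iv F62968)) (tt N8380 F60065) (tt N8244 F60066) (tt N7912 F60067) (tt N8175 F60068) (tt N9534 D15992) (tt N7911 (iv D15227)))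
theorem Q8771 : ∀ i, i < 8771 → P i := stepQ 8770 Q8770 (allL N8770 (tt N9532 (iv F63151)) (tt N7915 F60069) (tt N9495 (iv F62973)) (tt N8367 F60070) (tt N7913 F60071) (tt N9534 (iv F63167)) (tt N8368 F60072) (tt N7912 (iv D15228)) (tt N9523 (iv F63100)))
theorem Q8772 : ∀ i, i < 8772 → P i := stepQ 8771 Q8771 (allL N8771 (tt N9533 (iv F63158)) (tt N7916 F60073) (tt N9535 D15993) (tt N7913 (iv D15229)) (tt N9536 D15994) (tt N8246 F60074) (tt N9531 (iv F63149)) (tt N7929 F60075) (tt N9524 (iv F63104)))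
theorem Q8773 : ∀ i, i < 8773 → P i := stepQ 8772 Q8772 (allL N8772 (tt N7950 F60076) (tt N9534 (iv F63164)) (tt N7918 F60077) (tt N8403 F60078) (tt N8247 F60079) (tt N7915 F60080) (tt N8235 F60081) (tt N7914 (iv D15230)) (tt N8250 F60082))
theorem Q8774 : ∀ i, i < 8774 → P i := stepQ 8773 Q8773 (allL N8773 (tt N7951 F60083) (tt N9536 (iv F63174)) (tt N8603 F60084) (tt N8070 F60085) (tt N7916 (iv D15231)) (tt N8670 (iv F60088)) (tt N8071 F60086) (tt N7930 F60087) (tt N9525 (iv F63110)))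
theorem Q8775 : ∀ i, i < 8775 → P i := stepQ 8774 Q8774 (allL N8774 (tt N7952 F60089) (tt N9507 (iv F63017)) (tt N8235 F60090) (tt N8665 F60091) (tt N8250 F60092) (tt N8233 F60093) (tt N7918 F60094) (tt N7917 (iv D15232)) (tt N8247 F60095))
theorem Q8776 : ∀ i, i < 8776 → P i := stepQ 8775 Q8775 (allL N8775 (tt N7953 F60096) (tt N9508 (iv F63024)) (tt N8664 F60097) (tt N7918 (iv D15233)) (tt N9537 D15995) (tt N7919 F60098) (tt N8665 F60099) (tt N7921 F60100) (tt N9526 (iv F63118)))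
theorem Q8777 : ∀ i, i < 8777 → P i := stepQ 8776 Q8776 (allL N8776 (tt N7954 F60101) (tt N9538 D15996) (tt N7919 (iv D15234)) (tt N8409 F60102) (tt N8605 F60103) (tt N8664 F60104) (tt N8410 F60105) (tt N7922 F60106) (tt N9527 (iv F63125)))
theorem Q8778 : ∀ i, i < 8778 → P i := stepQ 8777 Q8777 (allL N8777 (tt N7955 F60107) (tt N9433 (iv F62672)) (tt N8151 F60108) (tt N7923 F60109) (tt N7921 (iv D15235)) (tt N8144 F60110) (tt N7957 F60111) (tt N9537 (iv F63184)) (tt N8777 F60112))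
theorem Q8779 : ∀ i, i < 8779 → P i := stepQ 8778 Q8778 (allL N8778 (tt N9539 D15997) (tt N7922 (iv D15236)) (tt N9518 (iv F63063)) (tt N8490 F60113) (tt N8606 F60114) (tt N8653 F60115) (tt N8491 F60116) (tt N9538 (iv F63190)) (tt N8778 F60117))
theorem Q8780 : ∀ i, i < 8780 → P i := stepQ 8779 Q8779 (allL N8779 (tt N9433 (iv F62671)) (tt N7927 F60118) (tt N9540 D15998) (tt N7926 (iv D15237)) (tt N8035 F60119) (tt N8655 F60120) (tt N7929 F60121) (tt N9531 (iv F63150)) (tt N8779 F60122))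
theorem Q8781 : ∀ i, i < 8781 → P i := stepQ 8780 Q8780 (allL N8780 (tt N7929 F60123) (tt N7957 F60124) (tt N9541 D15999) (tt N7928 (iv D15238)) (tt N8668 F60125) (tt N8254 F60126) (tt N9433 (iv F62675)) (tt N9533 (iv F63162)) (tt N8780 F60127))
theorem Q8782 : ∀ i, i < 8782 → P i := stepQ 8781 Q8781 (allL N8781 (tt N9541 (iv F63202)) (tt N8607 F60128) (tt N7929 (iv D15239)) (tt N8970 (iv F60986)) (tt N9542 D16000) (tt N8255 F60129) (tt N9540 (iv F63200)) (tt N9535 (iv F63172)) (tt N8781 F60130))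
theorem Q8783 : ∀ i, i < 8783 → P i := stepQ 8782 Q8782 (allL N8782 (tt N8668 F60131) (tt N7930 F60132) (tt N9542 (iv F63209)) (tt N8034 F60133) (tt N7929 (iv D15240)) (tt N8669 (iv F60136)) (tt N8035 F60134) (tt N9536 (iv F63177)) (tt N8782 F60135))
theorem Q8784 : ∀ i, i < 8784 → P i := stepQ 8783 Q8783 (allL N8783 (tt N9520 (iv F63074)) (tt N8303 F60137) (tt N8259 F60138) (tt N7932 (iv D15241)) (tt N8082 F60139) (tt N8260 F60140) (tt N7937 F60141) (tt N8783 F60142) (tt N7944 F60143))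
theorem Q8785 : ∀ i, i < 8785 → P i := stepQ 8784 Q8784 (allL N8784 (tt N9521 (iv F63081)) (tt N8077 F60144) (tt N8415 F60145) (tt N7933 (iv D15242)) (tt N8414 F60146) (tt N8261 F60147) (tt N7939 F60148) (tt N8784 F60149) (tt N7945 F60150))
theorem Q8786 : ∀ i, i < 8786 → P i := stepQ 8785 Q8785 (allL N8785 (tt N7935 F60151) (tt N9522 (iv F63089)) (tt N8078 F60152) (tt N9543 D16001) (tt N8403 F60153) (tt N8258 F60154) (tt N8301 F60155) (tt N7934 (iv D15243)) (tt N7947 F60156))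
theorem Q8787 : ∀ i, i < 8787 → P i := stepQ 8786 Q8786 (allL N8786 (tt N9543 (iv F63213)) (tt N7937 F60157) (tt N8260 F60158) (tt N7935 (iv D15244)) (tt N8266 F60159) (tt N8259 F60160) (tt N8303 F60161) (tt N8786 F60162) (tt N7949 F60163))
theorem Q8788 : ∀ i, i < 8788 → P i := stepQ 8787 Q8787 (allL N8787 (tt N9525 (iv F63105)) (tt N8266 F60164) (tt N8610 F60165) (tt N8081 F60166) (tt N7937 (iv D15245)) (tt N8265 (iv F60170)) (tt N8082 F60167) (tt N8787 F60168) (tt N7951 F60169))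
theorem Q8789 : ∀ i, i < 8789 → P i := stepQ 8788 Q8788 (allL N8788 (tt N9526 (iv F63112)) (tt N8082 F60171) (tt N8093 F60172) (tt N7938 (iv D15246)) (tt N8303 F60173) (tt N7939 F60174) (tt N8266 F60175) (tt N8788 F60176) (tt N7953 F60177))
theorem Q8790 : ∀ i, i < 8790 → P i := stepQ 8789 Q8789 (allL N8789 (tt N9527 (iv F63119)) (tt N8095 (iv F60184)) (tt N7939 (iv D15247)) (tt N8092 F60178) (tt N8611 F60179) (tt N8093 F60180) (tt N8415 F60181) (tt N8789 F60182) (tt N7954 F60183))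
theorem Q8791 : ∀ i, i < 8791 → P i := stepQ 8790 Q8790 (allL N8790 (tt N9529 (iv F63133)) (tt N8084 F60185) (tt N8303 F60186) (tt N7941 (iv D15248)) (tt N8093 F60187) (tt N8257 F60188) (tt N8260 F60189) (tt N8790 F60190) (tt N8150 F60191))
theorem Q8792 : ∀ i, i < 8792 → P i := stepQ 8791 Q8791 (allL N8791 (tt N7943 F60192) (tt N9530 (iv F63141)) (tt N8085 F60193) (tt N9537 (iv F63181)) (tt N8251 F60194) (tt N8139 F60195) (tt N7947 F60196) (tt N7942 (iv D15249)) (tt N8301 F60197))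
theorem Q8793 : ∀ i, i < 8793 → P i := stepQ 8792 Q8792 (allL N8792 (tt N9537 (iv F63179)) (tt N7944 F60198) (tt N8150 F60199) (tt N7943 (iv D15250)) (tt N7953 F60200) (tt N8148 F60201) (tt N7949 F60202) (tt N7955 F60203) (tt N8303 F60204))
theorem Q8794 : ∀ i, i < 8794 → P i := stepQ 8793 Q8793 (allL N8793 (tt N7948 F60205) (tt N9532 (iv F63152)) (tt N8091 F60206) (tt N8250 F60207) (tt N7947 F60208) (tt N8402 F60209) (tt N8251 F60210) (tt N7946 (iv D15251)) (tt N8403 F60211))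
theorem Q8795 : ∀ i, i < 8795 → P i := stepQ 8794 Q8794 (allL N8794 (tt N7949 F60212) (tt N9533 (iv F63159)) (tt N8666 F60213) (tt N7947 (iv D15252)) (tt N8665 F60214) (tt N8264 F60215) (tt N9537 (iv F63183)) (tt N7957 F60216) (tt N9543 (iv F63219)))
theorem Q8796 : ∀ i, i < 8796 → P i := stepQ 8795 Q8795 (allL N8795 (tt N9544 D16002) (tt N7954 (iv D15253)) (tt N8098 F60217) (tt N8079 F60218) (tt N8614 F60219) (tt N8080 F60220) (tt N8418 F60221) (tt N7956 F60222) (tt N8095 F60223))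
theorem Q8797 : ∀ i, i < 8797 → P i := stepQ 8796 Q8796 (allL N8796 (tt N7956 (iv D15254)) (tt N9539 (iv F63191)) (tt N8101 F60224) (tt N8495 F60225) (tt N8609 F60226) (tt N8147 F60227) (tt N8496 F60228) (tt N9544 (iv F63225)) (tt N8796 F60229))
theorem Q8798 : ∀ i, i < 8798 → P i := stepQ 8797 Q8797 (allL N8797 (tt N9095 (iv F61466)) (tt N8132 F60230) (tt N7958 (iv D15255)) (tt N7969 F60231) (tt N8724 F60232) (tt N7960 F60233) (tt N8267 F60234) (tt N8799 (iv F60243)) (tt N9545 D16003))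
theorem Q8799 : ∀ i, i < 8799 → P i := stepQ 8798 Q8798 (allL N8798 (tt N9104 (iv F61497)) (tt N8102 F60235) (tt N9545 (iv F63228)) (tt N7959 F60236) (tt N9211 (iv F61848)) (tt N7961 F60237) (tt N8304 F60238) (tt N9546 D16004) (tt N7958 (iv D15256)))
theorem Q8800 : ∀ i, i < 8800 → P i := stepQ 8799 Q8799 (allL N8799 (tt N8279 (iv F60244)) (tt N7960 (iv D15257)) (tt N8103 F60239) (tt N7971 F60240) (tt N9492 (iv F62960)) (tt N8132 F60241) (tt N7962 F60242) (tt N8797 F60243) (tt N9547 D16005))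
theorem Q8801 : ∀ i, i < 8801 → P i := stepQ 8800 Q8800 (allL N8800 (tt N9097 (iv F61475)) (tt N9547 (iv F63238)) (tt N7961 F60245) (tt N7973 F60246) (tt N9501 (iv F62999)) (tt N9545 (iv F63231)) (tt N7964 F60247) (tt N9548 D16006) (tt N7960 (iv D15258)))
theorem Q8802 : ∀ i, i < 8802 → P i := stepQ 8801 Q8801 (allL N8801 (tt N9106 (iv F61504)) (tt N8108 F60248) (tt N9548 (iv F63243)) (tt N8430 F60249) (tt N9514 (iv F63050)) (tt N9546 (iv F63235)) (tt N7967 F60250) (tt N7961 (iv D15259)) (tt N8963 (iv F60957)))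
theorem Q8803 : ∀ i, i < 8803 → P i := stepQ 8802 Q8802 (allL N8802 (tt N7962 (iv D15260)) (tt N9451 (iv F62734)) (tt N8109 F60251) (tt N7976 F60252) (tt N9549 D16007) (tt N8309 F60253) (tt N8279 F60254) (tt N8973 (iv F61002)) (tt N9550 D16008))
theorem Q8804 : ∀ i, i < 8804 → P i := stepQ 8803 Q8803 (allL N8803 (tt N9549 (iv F63245)) (tt N7963 F60255) (tt N8110 F60256) (tt N9551 D16009) (tt N7962 (iv D15261)) (tt N8539 (iv F60258)) (tt N9492 (iv F62961)) (tt N8541 F60257) (tt N9552 D16010))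
theorem Q8805 : ∀ i, i < 8805 → P i := stepQ 8804 Q8804 (allL N8804 (tt N9550 (iv F63252)) (tt N7964 F60259) (tt N8111 F60260) (tt N7978 F60261) (tt N9552 (iv F63266)) (tt N8311 F60262) (tt N9547 (iv F63242)) (tt N9553 D16011) (tt N7962 (iv D15262)))
theorem Q8806 : ∀ i, i < 8806 → P i := stepQ 8805 Q8805 (allL N8805 (tt N9454 (iv F62752)) (tt N9551 (iv F63258)) (tt N8805 F60263) (tt N7963 (iv D15263)) (tt N7979 F60264) (tt N9554 D16012) (tt N9472 (iv F62857)) (tt N9463 (iv F62807)) (tt N9555 D16013))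
theorem Q8807 : ∀ i, i < 8807 → P i := stepQ 8806 Q8806 (allL N8806 (tt N9455 (iv F62759)) (tt N8539 F60265) (tt N7965 F60266) (tt N9554 (iv F63274)) (tt N8313 F60267) (tt N7963 (iv D15264)) (tt N9556 D16014) (tt N8542 F60268) (tt N9557 D16015))
theorem Q8808 : ∀ i, i < 8808 → P i := stepQ 8807 Q8807 (allL N8807 (tt N9456 (iv F62765)) (tt N9552 (iv F63264)) (tt N7966 F60269) (tt N9555 (iv F63278)) (tt N7964 F60270) (tt N9557 (iv F63288)) (tt N9501 (iv F63000)) (tt N9558 D16016) (tt N7963 (iv D15265)))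
theorem Q8809 : ∀ i, i < 8809 → P i := stepQ 8808 Q8808 (allL N8808 (tt N9457 (iv F62769)) (tt N9553 (iv F63268)) (tt N7967 F60271) (tt N9559 D16017) (tt N9558 (iv F63290)) (tt N8315 F60272) (tt N9548 (iv F63244)) (tt N7964 (iv D15266)) (tt N9083 (iv F61422)))
theorem Q8810 : ∀ i, i < 8810 → P i := stepQ 8809 Q8809 (allL N8809 (tt N9308 (iv F62275)) (tt N8114 F60273) (tt N9556 (iv F63281)) (tt N8809 F60274) (tt N8316 F60275) (tt N9299 (iv F62226)) (tt N7965 (iv D15267)) (tt N8558 F60276) (tt N9560 D16018))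
theorem Q8811 : ∀ i, i < 8811 → P i := stepQ 8810 Q8810 (allL N8810 (tt N9458 (iv F62772)) (tt N8115 F60277) (tt N9557 (iv F63286)) (tt N8810 F60278) (tt N8317 F60279) (tt N7966 F60280) (tt N9560 (iv F63297)) (tt N9561 D16019) (tt N7965 (iv D15268)))
theorem Q8812 : ∀ i, i < 8812 → P i := stepQ 8811 Q8811 (allL N8811 (tt N9459 (iv F62777)) (tt N8116 F60281) (tt N9558 (iv F63289)) (tt N9562 D16020) (tt N7967 F60282) (tt N9561 (iv F63300)) (tt N9514 (iv F63051)) (tt N7966 (iv D15269)) (tt N9084 (iv F61427)))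
theorem Q8813 : ∀ i, i < 8813 → P i := stepQ 8812 Q8812 (allL N8812 (tt N9460 (iv F62782)) (tt N8133 F60283) (tt N7970 F60284) (tt N9545 (iv F63229)) (tt N8131 F60285) (tt N7973 F60286) (tt N8272 F60287) (tt N9563 D16021) (tt N7969 (iv D15270)))
theorem Q8814 : ∀ i, i < 8814 → P i := stepQ 8813 Q8813 (allL N8813 (tt N9461 (iv F62788)) (tt N8040 F60288) (tt N9563 (iv F63306)) (tt N8047 F60289) (tt N8141 F60290) (tt N7975 F60291) (tt N8298 F60292) (tt N7970 (iv D15271)) (tt N7989 F60293))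
theorem Q8815 : ∀ i, i < 8815 → P i := stepQ 8814 Q8814 (allL N8814 (tt N8282 F60294) (tt N7973 F60295) (tt N8041 F60296) (tt N9547 (iv F63240)) (tt N8576 F60297) (tt N8133 F60298) (tt N7978 F60299) (tt N9564 D16022) (tt N7971 (iv D15272)))
theorem Q8816 : ∀ i, i < 8816 → P i := stepQ 8815 Q8815 (allL N8815 (tt N9463 (iv F62801)) (tt N8573 F60300) (tt N8815 F60301) (tt N7972 (iv D15273)) (tt N9472 (iv F62856)) (tt N8570 F60302) (tt N7979 F60303) (tt N9454 (iv F62757)) (tt N9565 D16023))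
theorem Q8817 : ∀ i, i < 8817 → P i := stepQ 8816 Q8816 (allL N8816 (tt N9464 (iv F62808)) (tt N8576 F60304) (tt N7974 F60305) (tt N9565 (iv F63320)) (tt N7973 F60306) (tt N8571 F60307) (tt N7981 F60308) (tt N9566 D16024) (tt N7972 (iv D15274)))
theorem Q8818 : ∀ i, i < 8818 → P i := stepQ 8817 Q8817 (allL N8817 (tt N9465 (iv F62814)) (tt N9564 (iv F63312)) (tt N7975 F60309) (tt N9567 D16025) (tt N9566 (iv F63325)) (tt N9563 (iv F63308)) (tt N7982 F60310) (tt N7973 (iv D15275)) (tt N7996 F60311))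
theorem Q8819 : ∀ i, i < 8819 → P i := stepQ 8818 Q8818 (allL N8818 (tt N9466 (iv F62818)) (tt N8043 F60312) (tt N9566 (iv F63324)) (tt N9568 D16026) (tt N7975 F60313) (tt N8600 F60314) (tt N7985 F60315) (tt N7974 (iv D15276)) (tt N7999 F60316))
theorem Q8820 : ∀ i, i < 8820 → P i := stepQ 8819 Q8819 (allL N8819 (tt N7978 F60317) (tt N9467 (iv F62825)) (tt N8044 F60318) (tt N9550 (iv F63254)) (tt N8636 F60319) (tt N8323 F60320) (tt N8282 F60321) (tt N9569 D16027) (tt N7976 (iv D15277)))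
theorem Q8821 : ∀ i, i < 8821 → P i := stepQ 8820 Q8820 (allL N8820 (tt N8631 F60322) (tt N7979 F60323) (tt N8582 F60324) (tt N7977 (iv D15278)) (tt N9551 (iv F63260)) (tt N9570 D16028) (tt N8573 F60325) (tt N9571 D16029) (tt N9572 D16030))
theorem Q8822 : ∀ i, i < 8822 → P i := stepQ 8821 Q8821 (allL N8821 (tt N8353 F60326) (tt N7980 F60327) (tt N8045 F60328) (tt N9570 (iv F63347)) (tt N8325 F60329) (tt N7977 (iv D15279)) (tt N8347 F60330) (tt N8003 F60331) (tt N9573 D16031))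
theorem Q8823 : ∀ i, i < 8823 → P i := stepQ 8822 Q8822 (allL N8822 (tt N8636 F60332) (tt N7981 F60333) (tt N8046 F60334) (tt N9572 (iv F63358)) (tt N7978 F60335) (tt N9573 (iv F63364)) (tt N8576 F60336) (tt N9574 D16032) (tt N7977 (iv D15280)))
theorem Q8824 : ∀ i, i < 8824 → P i := stepQ 8823 Q8823 (allL N8823 (tt N9569 (iv F63338)) (tt N7982 F60337) (tt N8047 F60338) (tt N9575 D16033) (tt N9574 (iv F63369)) (tt N8327 F60339) (tt N9564 (iv F63316)) (tt N7978 (iv D15281)) (tt N8005 F60340))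
theorem Q8825 : ∀ i, i < 8825 → P i := stepQ 8824 Q8824 (allL N8824 (tt N9471 (iv F62847)) (tt N9570 (iv F63345)) (tt N8824 F60341) (tt N7980 F60342) (tt N9576 D16034) (tt N7979 (iv D15282)) (tt N9577 D16035) (tt N9578 D16036) (tt N9579 D16037))
theorem Q8826 : ∀ i, i < 8826 → P i := stepQ 8825 Q8825 (allL N8825 (tt N9472 (iv F62852)) (tt N9571 (iv F63350)) (tt N8825 F60343) (tt N8007 F60344) (tt N9463 (iv F62804)) (tt N9578 (iv F63386)) (tt N9454 (iv F62756)) (tt N7979 (iv D15283)) (tt N9580 D16038))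
theorem Q8827 : ∀ i, i < 8827 → P i := stepQ 8826 Q8826 (allL N8826 (tt N9473 (iv F62858)) (tt N9572 (iv F63356)) (tt N8826 F60345) (tt N7981 F60346) (tt N9555 (iv F63279)) (tt N9579 (iv F63390)) (tt N9565 (iv F63322)) (tt N9581 D16039) (tt N7979 (iv D15284)))
theorem Q8828 : ∀ i, i < 8828 → P i := stepQ 8827 Q8827 (allL N8827 (tt N8192 F60347) (tt N8347 F60348) (tt N7983 F60349) (tt N9577 (iv F63380)) (tt N8331 F60350) (tt N8189 F60351) (tt N7980 (iv D15285)) (tt N8009 F60352) (tt N9582 D16040))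
theorem Q8829 : ∀ i, i < 8829 → P i := stepQ 8828 Q8828 (allL N8828 (tt N9474 (iv F62861)) (tt N9573 (iv F63361)) (tt N7984 F60353) (tt N9579 (iv F63389)) (tt N8332 F60354) (tt N7981 F60355) (tt N9582 (iv F63399)) (tt N9583 D16041) (tt N7980 (iv D15286)))
theorem Q8830 : ∀ i, i < 8830 → P i := stepQ 8829 Q8829 (allL N8829 (tt N9475 (iv F62867)) (tt N9574 (iv F63367)) (tt N7985 F60356) (tt N9584 D16042) (tt N7982 F60357) (tt N9583 (iv F63402)) (tt N9566 (iv F63327)) (tt N7981 (iv D15287)) (tt N8011 F60358))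
theorem Q8831 : ∀ i, i < 8831 → P i := stepQ 8830 Q8830 (allL N8830 (tt N9476 (iv F62871)) (tt N9575 (iv F63372)) (tt N8627 F60359) (tt N7982 (iv D15288)) (tt N9585 D16043) (tt N8334 F60360) (tt N9567 (iv F63330)) (tt N9559 (iv F63293)) (tt N8012 F60361))
theorem Q8832 : ∀ i, i < 8832 → P i := stepQ 8831 Q8831 (allL N8831 (tt N8244 F60362) (tt N8050 F60363) (tt N9582 (iv F63396)) (tt N8831 F60364) (tt N8335 F60365) (tt N8242 F60366) (tt N7984 F60367) (tt N9586 D16044) (tt N7983 (iv D15289)))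
theorem Q8833 : ∀ i, i < 8833 → P i := stepQ 8832 Q8832 (allL N8832 (tt N9477 (iv F62875)) (tt N8051 F60368) (tt N9583 (iv F63400)) (tt N9587 D16045) (tt N8336 F60369) (tt N7985 F60370) (tt N9586 (iv F63411)) (tt N7984 (iv D15290)) (tt N8014 F60371))
theorem Q8834 : ∀ i, i < 8834 → P i := stepQ 8833 Q8833 (allL N8833 (tt N9478 (iv F62881)) (tt N8052 F60372) (tt N9588 D16046) (tt N7985 (iv D15291)) (tt N8629 F60373) (tt N9587 (iv F63414)) (tt N9568 (iv F63335)) (tt N8833 F60374) (tt N8015 F60375))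
theorem Q8835 : ∀ i, i < 8835 → P i := stepQ 8834 Q8834 (allL N8834 (tt N9391 (iv F62568)) (tt N8123 F60376) (tt N8834 F60377) (tt N7986 (iv D15292)) (tt N8839 (iv F60404)) (tt N8559 F60378) (tt N8275 F60379) (tt N8690 F60380) (tt N9589 D16047))
theorem Q8836 : ∀ i, i < 8836 → P i := stepQ 8835 Q8835 (allL N8835 (tt N9480 (iv F62892)) (tt N8125 F60381) (tt N7988 F60382) (tt N9589 (iv F63422)) (tt N7987 F60383) (tt N8565 F60384) (tt N8277 F60385) (tt N9590 D16048) (tt N7986 (iv D15293)))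
theorem Q8837 : ∀ i, i < 8837 → P i := stepQ 8836 Q8836 (allL N8836 (tt N9481 (iv F62898)) (tt N8274 F60386) (tt N7989 F60387) (tt N9591 D16049) (tt N9590 (iv F63427)) (tt N7996 F60388) (tt N8278 F60389) (tt N7987 (iv D15294)) (tt N9563 (iv F63310)))
theorem Q8838 : ∀ i, i < 8838 → P i := stepQ 8837 Q8837 (allL N8837 (tt N9482 (iv F62902)) (tt N8053 F60390) (tt N9590 (iv F63426)) (tt N9592 D16050) (tt N7989 F60391) (tt N8597 F60392) (tt N8300 F60393) (tt N7988 (iv D15295)) (tt N8141 F60394))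
theorem Q8839 : ∀ i, i < 8839 → P i := stepQ 8838 Q8838 (allL N8838 (tt N7992 F60395) (tt N9483 (iv F62909)) (tt N8054 F60396) (tt N8714 F60397) (tt N8625 F60398) (tt N8128 F60399) (tt N8001 F60400) (tt N9593 D16051) (tt N7990 (iv D15296)))
theorem Q8840 : ∀ i, i < 8840 → P i := stepQ 8839 Q8839 (allL N8839 (tt N8622 F60401) (tt N7993 F60402) (tt N8839 F60403) (tt N7991 (iv D15297)) (tt N8834 F60404) (tt N8566 F60405) (tt N8002 F60406) (tt N9452 (iv F62745)) (tt N9594 D16052))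
theorem Q8841 : ∀ i, i < 8841 → P i := stepQ 8840 Q8840 (allL N8840 (tt N8625 F60407) (tt N7995 F60408) (tt N8055 F60409) (tt N9594 (iv F63450)) (tt N7992 F60410) (tt N8567 F60411) (tt N8004 F60412) (tt N9595 D16053) (tt N7991 (iv D15298)))
theorem Q8842 : ∀ i, i < 8842 → P i := stepQ 8841 Q8841 (allL N8841 (tt N9593 (iv F63441)) (tt N7996 F60413) (tt N8056 F60414) (tt N9596 D16054) (tt N9595 (iv F63457)) (tt N8274 F60415) (tt N8005 F60416) (tt N7992 (iv D15299)) (tt N9564 (iv F63317)))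
theorem Q8843 : ∀ i, i < 8843 → P i := stepQ 8842 Q8842 (allL N8842 (tt N8542 F60417) (tt N8566 F60418) (tt N8016 F60419) (tt N7994 F60420) (tt N9332 (iv F62377)) (tt N7993 (iv D15300)) (tt N9597 D16055) (tt N9455 (iv F62764)) (tt N9598 D16056))
theorem Q8844 : ∀ i, i < 8844 → P i := stepQ 8843 Q8843 (allL N8843 (tt N9082 (iv F61415)) (tt N9594 (iv F63448)) (tt N8017 F60421) (tt N7995 F60422) (tt N8953 (iv F60904)) (tt N9598 (iv F63475)) (tt N8008 F60423) (tt N9599 D16057) (tt N7993 (iv D15301)))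
theorem Q8845 : ∀ i, i < 8845 → P i := stepQ 8844 Q8844 (allL N8844 (tt N8169 F60424) (tt N8322 F60425) (tt N7997 F60426) (tt N9597 (iv F63469)) (tt N8168 F60427) (tt N8009 F60428) (tt N7994 (iv D15302)) (tt N8189 F60429) (tt N9600 D16058))
theorem Q8846 : ∀ i, i < 8846 → P i := stepQ 8845 Q8845 (allL N8845 (tt N8392 F60430) (tt N8567 F60431) (tt N7998 F60432) (tt N9598 (iv F63474)) (tt N8565 F60433) (tt N7995 F60434) (tt N9600 (iv F63483)) (tt N9601 D16059) (tt N7994 (iv D15303)))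
theorem Q8847 : ∀ i, i < 8847 → P i := stepQ 8846 Q8846 (allL N8846 (tt N9485 (iv F62919)) (tt N9595 (iv F63455)) (tt N7999 F60435) (tt N9602 D16060) (tt N7996 F60436) (tt N9601 (iv F63488)) (tt N8011 F60437) (tt N7995 (iv D15304)) (tt N9566 (iv F63328)))
theorem Q8848 : ∀ i, i < 8848 → P i := stepQ 8847 Q8847 (allL N8847 (tt N9486 (iv F62925)) (tt N9596 (iv F63461)) (tt N8356 F60438) (tt N7996 (iv D15305)) (tt N9603 D16061) (tt N9591 (iv F63433)) (tt N8012 F60439) (tt N9087 (iv F61437)) (tt N9567 (iv F63331)))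
theorem Q8849 : ∀ i, i < 8849 → P i := stepQ 8848 Q8848 (allL N8848 (tt N8231 F60440) (tt N8058 F60441) (tt N9600 (iv F63480)) (tt N8021 F60442) (tt N8230 F60443) (tt N8013 F60444) (tt N7998 F60445) (tt N9604 D16062) (tt N7997 (iv D15306)))
theorem Q8850 : ∀ i, i < 8850 → P i := stepQ 8849 Q8849 (allL N8849 (tt N8412 F60446) (tt N8059 F60447) (tt N9601 (iv F63486)) (tt N9605 D16063) (tt N8597 F60448) (tt N7999 F60449) (tt N9604 (iv F63498)) (tt N7998 (iv D15307)) (tt N8600 F60450))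
theorem Q8851 : ∀ i, i < 8851 → P i := stepQ 8850 Q8850 (allL N8850 (tt N9487 (iv F62928)) (tt N8060 F60451) (tt N9606 D16064) (tt N7999 (iv D15308)) (tt N8408 F60452) (tt N9605 (iv F63502)) (tt N8015 F60453) (tt N8023 F60454) (tt N9568 (iv F63337)))
theorem Q8852 : ∀ i, i < 8852 → P i := stepQ 8851 Q8851 (allL N8851 (tt N8002 F60455) (tt N9488 (iv F62935)) (tt N8851 F60456) (tt N8000 (iv D15309)) (tt N9004 (iv F61116)) (tt N9607 D16065) (tt N8622 F60457) (tt N9608 D16066) (tt N9609 D16067))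
theorem Q8853 : ∀ i, i < 8853 → P i := stepQ 8852 Q8852 (allL N8852 (tt N8003 F60458) (tt N8331 F60459) (tt N8061 F60460) (tt N9607 (iv F63512)) (tt N8347 F60461) (tt N8000 (iv D15310)) (tt N8325 F60462) (tt N8353 F60463) (tt N9610 D16068))
theorem Q8854 : ∀ i, i < 8854 → P i := stepQ 8853 Q8853 (allL N8853 (tt N8004 F60464) (tt N9489 (iv F62942)) (tt N8062 F60465) (tt N9609 (iv F63522)) (tt N8001 F60466) (tt N9610 (iv F63528)) (tt N8625 F60467) (tt N9611 D16069) (tt N8000 (iv D15311)))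
theorem Q8855 : ∀ i, i < 8855 → P i := stepQ 8854 Q8854 (allL N8854 (tt N8005 F60468) (tt N9490 (iv F62948)) (tt N8063 F60469) (tt N9612 D16070) (tt N9611 (iv F63532)) (tt N8349 F60470) (tt N9593 (iv F63445)) (tt N8001 (iv D15312)) (tt N9569 (iv F63343)))
theorem Q8856 : ∀ i, i < 8856 → P i := stepQ 8855 Q8855 (allL N8855 (tt N9607 (iv F63509)) (tt N8006 F60471) (tt N8855 F60472) (tt N8003 F60473) (tt N9613 D16071) (tt N8002 (iv D15313)) (tt N9614 D16072) (tt N9615 D16073) (tt N9616 D16074))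
theorem Q8857 : ∀ i, i < 8857 → P i := stepQ 8856 Q8856 (allL N8856 (tt N9608 (iv F63514)) (tt N8007 F60474) (tt N8856 F60475) (tt N9571 (iv F63352)) (tt N9089 (iv F61446)) (tt N9615 (iv F63551)) (tt N9452 (iv F62744)) (tt N8002 (iv D15314)) (tt N9617 D16075))
theorem Q8858 : ∀ i, i < 8858 → P i := stepQ 8857 Q8857 (allL N8857 (tt N9609 (iv F63520)) (tt N8008 F60476) (tt N8857 F60477) (tt N8004 F60478) (tt N9090 (iv F61452)) (tt N9616 (iv F63555)) (tt N9594 (iv F63453)) (tt N9618 D16076) (tt N8002 (iv D15315)))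
theorem Q8859 : ∀ i, i < 8859 → P i := stepQ 8858 Q8858 (allL N8858 (tt N8325 F60479) (tt N8009 F60480) (tt N8064 F60481) (tt N9614 (iv F63545)) (tt N8353 F60482) (tt N8322 F60483) (tt N8003 (iv D15316)) (tt N8347 F60484) (tt N9619 D16077))
theorem Q8860 : ∀ i, i < 8860 → P i := stepQ 8859 Q8859 (allL N8859 (tt N9610 (iv F63524)) (tt N8010 F60485) (tt N8065 F60486) (tt N9616 (iv F63554)) (tt N8354 F60487) (tt N8004 F60488) (tt N9619 (iv F63565)) (tt N9620 D16078) (tt N8003 (iv D15317)))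
theorem Q8861 : ∀ i, i < 8861 → P i := stepQ 8860 Q8860 (allL N8860 (tt N9611 (iv F63530)) (tt N8011 F60489) (tt N8066 F60490) (tt N9621 D16079) (tt N8005 F60491) (tt N9620 (iv F63569)) (tt N9595 (iv F63459)) (tt N8004 (iv D15318)) (tt N9574 (iv F63371)))
theorem Q8862 : ∀ i, i < 8862 → P i := stepQ 8861 Q8861 (allL N8861 (tt N9612 (iv F63535)) (tt N8012 F60492) (tt N9591 (iv F63432)) (tt N8005 (iv D15319)) (tt N9622 D16080) (tt N8356 F60493) (tt N9596 (iv F63464)) (tt N9093 (iv F61462)) (tt N9575 (iv F63374)))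
theorem Q8863 : ∀ i, i < 8863 → P i := stepQ 8862 Q8862 (allL N8862 (tt N9497 (iv F62978)) (tt N9613 (iv F63537)) (tt N8024 F60494) (tt N8357 F60495) (tt N8006 (iv D15320)) (tt N9094 (iv F61465)) (tt N9146 (iv F61648)) (tt N9145 F61643) (tt N9623 D16081))
theorem Q8864 : ∀ i, i < 8864 → P i := stepQ 8863 Q8863 (allL N8863 (tt N9498 (iv F62983)) (tt N9614 (iv F63543)) (tt N8025 F60496) (tt N8009 F60497) (tt N9146 (iv F61646)) (tt N9597 (iv F63470)) (tt N8006 (iv D15321)) (tt N9144 F61639) (tt N9624 D16082))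
theorem Q8865 : ∀ i, i < 8865 → P i := stepQ 8864 Q8864 (allL N8864 (tt N9499 (iv F62988)) (tt N9615 (iv F63548)) (tt N8026 F60498) (tt N9578 (iv F63384)) (tt N9145 (iv F61642)) (tt N8007 F60499) (tt N9144 F61638) (tt N8006 (iv D15322)) (tt N9625 D16083))
theorem Q8866 : ∀ i, i < 8866 → P i := stepQ 8865 Q8865 (allL N8865 (tt N9500 (iv F62993)) (tt N9616 (iv F63552)) (tt N8027 F60500) (tt N8010 F60501) (tt N9623 (iv F63574)) (tt N8008 F60502) (tt N9624 (iv F63577)) (tt N9626 D16084) (tt N8006 (iv D15323)))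
theorem Q8867 : ∀ i, i < 8867 → P i := stepQ 8866 Q8866 (allL N8866 (tt N9501 (iv F62997)) (tt N9617 (iv F63556)) (tt N8028 F60503) (tt N9580 (iv F63392)) (tt N9097 (iv F61478)) (tt N9625 (iv F63579)) (tt N9456 (iv F62768)) (tt N9627 D16085) (tt N8007 (iv D15324)))
theorem Q8868 : ∀ i, i < 8868 → P i := stepQ 8867 Q8867 (allL N8867 (tt N9502 (iv F63001)) (tt N9618 (iv F63558)) (tt N8029 F60504) (tt N9628 D16086) (tt N9098 (iv F61481)) (tt N9626 (iv F63581)) (tt N9599 (iv F63477)) (tt N8008 (iv D15325)) (tt N9627 (iv F63583)))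
theorem Q8869 : ∀ i, i < 8869 → P i := stepQ 8868 Q8868 (allL N8868 (tt N9503 (iv F63003)) (tt N9619 (iv F63561)) (tt N8013 F60505) (tt N9624 (iv F63576)) (tt N8363 F60506) (tt N9600 (iv F63482)) (tt N8010 F60507) (tt N9629 D16087) (tt N8009 (iv D15326)))
theorem Q8870 : ∀ i, i < 8870 → P i := stepQ 8869 Q8869 (allL N8869 (tt N9504 (iv F63009)) (tt N9620 (iv F63566)) (tt N8014 F60508) (tt N9630 D16088) (tt N8364 F60509) (tt N8011 F60510) (tt N9629 (iv F63587)) (tt N8010 (iv D15327)) (tt N9583 (iv F63403)))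
theorem Q8871 : ∀ i, i < 8871 → P i := stepQ 8870 Q8870 (allL N8870 (tt N9505 (iv F63013)) (tt N9621 (iv F63570)) (tt N9631 D16089) (tt N8011 (iv D15328)) (tt N9632 D16090) (tt N9630 (iv F63588)) (tt N9602 (iv F63490)) (tt N9628 (iv F63584)) (tt N9584 (iv F63404)))
theorem Q8872 : ∀ i, i < 8872 → P i := stepQ 8871 Q8871 (allL N8871 (tt N9506 (iv F63014)) (tt N9622 (iv F63571)) (tt N8639 F60511) (tt N9632 (iv F63590)) (tt N8012 (iv D15329)) (tt N9633 D16091) (tt N9603 (iv F63492)) (tt N9101 (iv F61486)) (tt N9585 (iv F63406)))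
theorem Q8873 : ∀ i, i < 8873 → P i := stepQ 8872 Q8872 (allL N8872 (tt N9507 (iv F63016)) (tt N8070 F60512) (tt N9629 (iv F63585)) (tt N9536 (iv F63175)) (tt N8367 F60513) (tt N9604 (iv F63497)) (tt N8014 F60514) (tt N8013 (iv D15330)) (tt N9586 (iv F63412)))
theorem Q8874 : ∀ i, i < 8874 → P i := stepQ 8873 Q8873 (allL N8873 (tt N9508 (iv F63023)) (tt N8071 F60515) (tt N9634 D16092) (tt N8014 (iv D15331)) (tt N9531 (iv F63147)) (tt N8015 F60516) (tt N9536 (iv F63176)) (tt N8035 F60517) (tt N9587 (iv F63416)))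
theorem Q8875 : ∀ i, i < 8875 → P i := stepQ 8874 Q8874 (allL N8874 (tt N9509 (iv F63028)) (tt N9635 D16093) (tt N8015 (iv D15332)) (tt N9631 (iv F63589)) (tt N8642 F60518) (tt N9634 (iv F63593)) (tt N9606 (iv F63507)) (tt N8036 F60519) (tt N9588 (iv F63419)))
theorem Q8876 : ∀ i, i < 8876 → P i := stepQ 8875 Q8875 (allL N8875 (tt N8558 F60520) (tt N8875 F60521) (tt N9597 (iv F63468)) (tt N8018 F60522) (tt N9309 (iv F62284)) (tt N8025 F60523) (tt N8016 (iv D15333)) (tt N9308 F62280) (tt N9636 D16094))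
theorem Q8877 : ∀ i, i < 8877 → P i := stepQ 8876 Q8876 (allL N8876 (tt N8485 F60524) (tt N8876 F60525) (tt N9598 (iv F63473)) (tt N8019 F60526) (tt N9335 (iv F62388)) (tt N8017 F60527) (tt N9636 (iv F63602)) (tt N9637 D16095) (tt N8016 (iv D15334)))
theorem Q8878 : ∀ i, i < 8878 → P i := stepQ 8877 Q8877 (allL N8877 (tt N9084 (iv F61423)) (tt N8877 F60528) (tt N9599 (iv F63476)) (tt N9638 D16096) (tt N8954 (iv F60910)) (tt N9637 (iv F63605)) (tt N8029 F60529) (tt N8017 (iv D15335)) (tt N9459 (iv F62781)))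
theorem Q8879 : ∀ i, i < 8879 → P i := stepQ 8878 Q8878 (allL N8878 (tt N8476 F60530) (tt N8878 F60531) (tt N8021 F60532) (tt N9636 (iv F63600)) (tt N8878 F60533) (tt N8030 F60534) (tt N8019 F60535) (tt N8687 (iv F60536)) (tt N8018 (iv D15336)))
theorem Q8880 : ∀ i, i < 8880 → P i := stepQ 8879 Q8879 (allL N8879 (tt N8464 F60537) (tt N8879 F60538) (tt N8022 F60539) (tt N9639 D16097) (tt N8879 F60540) (tt N8020 F60541) (tt N8687 F60542) (tt N8019 (iv D15337)) (tt N8879 F60543))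
theorem Q8881 : ∀ i, i < 8881 → P i := stepQ 8880 Q8880 (allL N8880 (tt N9306 (iv F62263)) (tt N8880 F60544) (tt N9640 D16098) (tt N8020 (iv D15338)) (tt N9298 (iv F62220)) (tt N9639 (iv F63611)) (tt N8032 F60545) (tt N9638 (iv F63608)) (tt N8880 F60546))
theorem Q8882 : ∀ i, i < 8882 → P i := stepQ 8881 Q8881 (allL N8881 (tt N8494 F60547) (tt N8073 F60548) (tt N9641 D16099) (tt N8022 (iv D15339)) (tt N9642 D16100) (tt N8023 F60549) (tt N8669 F60550) (tt N9605 (iv F63504)) (tt N8881 F60551))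
theorem Q8883 : ∀ i, i < 8883 → P i := stepQ 8882 Q8882 (allL N8882 (tt N9510 (iv F63031)) (tt N9643 D16101) (tt N8023 (iv D15340)) (tt N9640 (iv F63614)) (tt N8492 F60552) (tt N9641 (iv F63618)) (tt N8036 F60553) (tt N9606 (iv F63508)) (tt N8882 F60554))
theorem Q8884 : ∀ i, i < 8884 → P i := stepQ 8883 Q8883 (allL N8883 (tt N9432 (iv F62666)) (tt N8883 F60555) (tt N9623 (iv F63572)) (tt N8037 F60556) (tt N8027 F60557) (tt N9103 (iv F61496)) (tt N9319 (iv F62324)) (tt N9644 D16102) (tt N8024 (iv D15341)))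
theorem Q8885 : ∀ i, i < 8885 → P i := stepQ 8884 Q8884 (allL N8884 (tt N9511 (iv F63037)) (tt N8884 F60558) (tt N9624 (iv F63575)) (tt N8030 F60559) (tt N9319 (iv F62322)) (tt N9636 (iv F63601)) (tt N8027 F60560) (tt N9645 D16103) (tt N8025 (iv D15342)))
theorem Q8886 : ∀ i, i < 8886 → P i := stepQ 8885 Q8885 (allL N8885 (tt N9512 (iv F63042)) (tt N8885 F60561) (tt N9625 (iv F63578)) (tt N8885 F60562) (tt N9318 (iv F62318)) (tt N8028 F60563) (tt N9317 (iv F62315)) (tt N9646 D16104) (tt N8026 (iv D15343)))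
theorem Q8887 : ∀ i, i < 8887 → P i := stepQ 8886 Q8886 (allL N8886 (tt N9513 (iv F63046)) (tt N8886 F60564) (tt N9626 (iv F63580)) (tt N9647 D16105) (tt N9644 (iv F63632)) (tt N8029 F60565) (tt N9645 (iv F63634)) (tt N8027 (iv D15344)) (tt N9646 (iv F63637)))
theorem Q8888 : ∀ i, i < 8888 → P i := stepQ 8887 Q8887 (allL N8887 (tt N9514 (iv F63048)) (tt N8887 F60566) (tt N9627 (iv F63582)) (tt N9648 D16106) (tt N9106 (iv F61506)) (tt N9646 (iv F63636)) (tt N9459 (iv F62780)) (tt N8028 (iv D15345)) (tt N8029 F60567))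
theorem Q8889 : ∀ i, i < 8889 → P i := stepQ 8888 Q8888 (allL N8888 (tt N9515 (iv F63053)) (tt N8888 F60568) (tt N9649 D16107) (tt N8029 (iv D15346)) (tt N9650 D16108) (tt N9647 (iv F63639)) (tt N9638 (iv F63607)) (tt N8032 F60569) (tt N9648 (iv F63643)))
theorem Q8890 : ∀ i, i < 8890 → P i := stepQ 8889 Q8889 (allL N8889 (tt N8686 F60570) (tt N8889 F60571) (tt N8034 F60572) (tt N9651 D16109) (tt N8039 F60573) (tt N8687 F60574) (tt N8031 F60575) (tt N8030 (iv D15347)) (tt N8889 F60576))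
theorem Q8891 : ∀ i, i < 8891 → P i := stepQ 8890 Q8890 (allL N8890 (tt N9425 (iv F62647)) (tt N8890 F60577) (tt N9652 D16110) (tt N8031 (iv D15348)) (tt N9364 (iv F62484)) (tt N8032 F60578) (tt N9651 (iv F63650)) (tt N9647 (iv F63640)) (tt N8890 F60579))
theorem Q8892 : ∀ i, i < 8892 → P i := stepQ 8891 Q8891 (allL N8891 (tt N9516 (iv F63055)) (tt N9653 D16111) (tt N8032 (iv D15349)) (tt N8036 F60580) (tt N9654 D16112) (tt N9652 (iv F63653)) (tt N9640 (iv F63615)) (tt N9649 (iv F63644)) (tt N8891 F60581))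
theorem Q8893 : ∀ i, i < 8893 → P i := stepQ 8892 Q8892 (allL N8892 (tt N9307 (iv F62269)) (tt N8892 F60582) (tt N9654 (iv F63658)) (tt N8033 F60583) (tt N8032 (iv D15350)) (tt N9366 (iv F62493)) (tt N9298 (iv F62221)) (tt N9650 (iv F63646)) (tt N8892 F60584))
theorem Q8894 : ∀ i, i < 8894 → P i := stepQ 8893 Q8893 (allL N8893 (tt N9517 (iv F63058)) (tt N9655 D16113) (tt N8035 (iv D15351)) (tt N9652 (iv F63652)) (tt N9540 (iv F63198)) (tt N8036 F60585) (tt N9542 (iv F63210)) (tt N9634 (iv F63594)) (tt N8893 F60586))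
theorem Q8895 : ∀ i, i < 8895 → P i := stepQ 8894 Q8894 (allL N8894 (tt N9656 D16114) (tt N8036 (iv D15352)) (tt N8076 F60587) (tt N9653 (iv F63656)) (tt N8656 F60588) (tt N9655 (iv F63663)) (tt N9643 (iv F63629)) (tt N9635 (iv F63597)) (tt N8894 F60589))
theorem Q8896 : ∀ i, i < 8896 → P i := stepQ 8895 Q8895 (allL N8895 (tt N8285 F60590) (tt N8042 F60591) (tt N9564 (iv F63313)) (tt N8298 F60592) (tt N8579 F60593) (tt N8135 F60594) (tt N8047 F60595) (tt N8041 (iv D15353)) (tt N8056 F60596))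
theorem Q8897 : ∀ i, i < 8897 → P i := stepQ 8896 Q8896 (allL N8896 (tt N8077 F60597) (tt N9568 (iv F63332)) (tt N9657 D16115) (tt N8043 (iv D15354)) (tt N8401 F60598) (tt N8602 F60599) (tt N8052 F60600) (tt N8896 F60601) (tt N8060 F60602))
theorem Q8898 : ∀ i, i < 8898 → P i := stepQ 8897 Q8897 (allL N8897 (tt N8047 F60603) (tt N8078 F60604) (tt N9569 (iv F63339)) (tt N9461 (iv F62790)) (tt N8640 F60605) (tt N8397 F60606) (tt N8285 F60607) (tt N8044 (iv D15355)) (tt N8063 F60608))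
theorem Q8899 : ∀ i, i < 8899 → P i := stepQ 8898 Q8898 (allL N8898 (tt N8406 F60609) (tt N8048 F60610) (tt N9573 (iv F63362)) (tt N8487 F60611) (tt N8398 F60612) (tt N8046 F60613) (tt N8404 F60614) (tt N9658 D16116) (tt N8045 (iv D15356)))
theorem Q8900 : ∀ i, i < 8900 → P i := stepQ 8899 Q8899 (allL N8899 (tt N8640 F60615) (tt N8049 F60616) (tt N9574 (iv F63368)) (tt N9659 D16117) (tt N8047 F60617) (tt N9658 (iv F63681)) (tt N8579 F60618) (tt N8046 (iv D15357)) (tt N8066 F60619))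
theorem Q8901 : ∀ i, i < 8901 → P i := stepQ 8900 Q8900 (allL N8900 (tt N8079 F60620) (tt N9658 (iv F63679)) (tt N8051 F60621) (tt N9544 (iv F63221)) (tt N8400 F60622) (tt N8049 F60623) (tt N8416 F60624) (tt N8048 (iv D15358)) (tt N8068 F60625))
theorem Q8902 : ∀ i, i < 8902 → P i := stepQ 8901 Q8901 (allL N8901 (tt N8080 F60626) (tt N9659 (iv F63685)) (tt N8249 (iv F60631)) (tt N8049 (iv D15359)) (tt N8142 F60627) (tt N9544 (iv F63223)) (tt N8604 F60628) (tt N8147 F60629) (tt N8069 F60630))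
theorem Q8903 : ∀ i, i < 8903 → P i := stepQ 8902 Q8902 (allL N8902 (tt N8081 F60632) (tt N9586 (iv F63408)) (tt N8416 F60633) (tt N9525 (iv F63107)) (tt N8402 F60634) (tt N8263 F60635) (tt N8051 F60636) (tt N8050 (iv D15360)) (tt N8070 F60637))
theorem Q8904 : ∀ i, i < 8904 → P i := stepQ 8903 Q8903 (allL N8903 (tt N8082 F60638) (tt N9587 (iv F63413)) (tt N9660 D16118) (tt N8051 (iv D15361)) (tt N9520 (iv F63076)) (tt N8052 F60639) (tt N9525 (iv F63108)) (tt N8903 F60640) (tt N8071 F60641))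
theorem Q8905 : ∀ i, i < 8905 → P i := stepQ 8904 Q8904 (allL N8904 (tt N8083 F60642) (tt N9661 D16119) (tt N8052 (iv D15362)) (tt N8249 F60643) (tt N8248 F60644) (tt N9660 (iv F63693)) (tt N9657 (iv F63675)) (tt N8904 F60645) (tt N8072 F60646))
theorem Q8906 : ∀ i, i < 8906 → P i := stepQ 8905 Q8905 (allL N8905 (tt N8084 F60647) (tt N9592 (iv F63435)) (tt N8234 F60648) (tt N8053 (iv D15363)) (tt N8069 F60649) (tt N8598 F60650) (tt N8302 F60651) (tt N8905 F60652) (tt N8142 F60653))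
theorem Q8907 : ∀ i, i < 8907 → P i := stepQ 8906 Q8906 (allL N8906 (tt N8056 F60654) (tt N8085 F60655) (tt N9593 (iv F63442)) (tt N8180 F60656) (tt N8628 F60657) (tt N8129 F60658) (tt N8063 F60659) (tt N8054 (iv D15364)) (tt N8285 F60660))
theorem Q8908 : ∀ i, i < 8908 → P i := stepQ 8907 Q8907 (allL N8907 (tt N8628 F60661) (tt N8057 F60662) (tt N9595 (iv F63456)) (tt N9662 D16120) (tt N8056 F60663) (tt N8569 F60664) (tt N8066 F60665) (tt N8055 (iv D15365)) (tt N8579 F60666))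
theorem Q8909 : ∀ i, i < 8909 → P i := stepQ 8908 Q8908 (allL N8908 (tt N8086 F60667) (tt N9662 (iv F63702)) (tt N9663 D16121) (tt N8057 (iv D15366)) (tt N8302 F60668) (tt N8599 F60669) (tt N8069 F60670) (tt N8908 F60671) (tt N8604 F60672))
theorem Q8910 : ∀ i, i < 8910 → P i := stepQ 8909 Q8909 (allL N8909 (tt N8087 F60673) (tt N9604 (iv F63494)) (tt N8413 F60674) (tt N8670 F60675) (tt N8258 F60676) (tt N8070 F60677) (tt N8059 F60678) (tt N8058 (iv D15367)) (tt N8263 F60679))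
theorem Q8911 : ∀ i, i < 8911 → P i := stepQ 8910 Q8910 (allL N8910 (tt N8088 F60680) (tt N9605 (iv F63501)) (tt N9664 D16122) (tt N8059 (iv D15368)) (tt N9665 D16123) (tt N8060 F60681) (tt N8670 F60682) (tt N8073 F60683) (tt N8602 F60684))
theorem Q8912 : ∀ i, i < 8912 → P i := stepQ 8911 Q8911 (allL N8911 (tt N8089 F60685) (tt N9666 D16124) (tt N8060 (iv D15369)) (tt N9663 (iv F63709)) (tt N8411 F60686) (tt N9664 (iv F63717)) (tt N8072 F60687) (tt N8074 F60688) (tt N9657 (iv F63677)))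
theorem Q8913 : ∀ i, i < 8913 → P i := stepQ 8912 Q8912 (allL N8912 (tt N8065 F60689) (tt N8090 F60690) (tt N9610 (iv F63526)) (tt N8912 F60691) (tt N8404 F60692) (tt N8062 F60693) (tt N8398 F60694) (tt N9667 D16125) (tt N8061 (iv D15370)))
theorem Q8914 : ∀ i, i < 8914 → P i := stepQ 8913 Q8913 (allL N8913 (tt N8066 F60695) (tt N8091 F60696) (tt N9611 (iv F63531)) (tt N9668 D16126) (tt N8063 F60697) (tt N9667 (iv F63735)) (tt N8628 F60698) (tt N8062 (iv D15371)) (tt N8640 F60699))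
theorem Q8915 : ∀ i, i < 8915 → P i := stepQ 8914 Q8914 (allL N8914 (tt N8398 F60700) (tt N8067 F60701) (tt N9619 (iv F63562)) (tt N8914 F60702) (tt N8406 F60703) (tt N8396 F60704) (tt N8065 F60705) (tt N9669 D16127) (tt N8064 (iv D15372)))
theorem Q8916 : ∀ i, i < 8916 → P i := stepQ 8915 Q8915 (allL N8915 (tt N9667 (iv F63732)) (tt N8068 F60706) (tt N9620 (iv F63567)) (tt N9670 D16128) (tt N8407 F60707) (tt N8066 F60708) (tt N9669 (iv F63747)) (tt N8065 (iv D15373)) (tt N9658 (iv F63683)))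
theorem Q8917 : ∀ i, i < 8917 → P i := stepQ 8916 Q8916 (allL N8916 (tt N9668 (iv F63738)) (tt N8069 F60709) (tt N9671 D16129) (tt N8066 (iv D15374)) (tt N9592 (iv F63436)) (tt N9670 (iv F63750)) (tt N9662 (iv F63705)) (tt N8916 F60710) (tt N9659 (iv F63689)))
theorem Q8918 : ∀ i, i < 8918 → P i := stepQ 8917 Q8917 (allL N8917 (tt N8094 F60711) (tt N9669 (iv F63744)) (tt N8070 F60712) (tt N9672 D16130) (tt N8409 F60713) (tt N8413 F60714) (tt N8068 F60715) (tt N8067 (iv D15375)) (tt N8416 F60716))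
theorem Q8919 : ∀ i, i < 8919 → P i := stepQ 8918 Q8918 (allL N8918 (tt N8095 F60717) (tt N9670 (iv F63749)) (tt N9673 D16131) (tt N8068 (iv D15376)) (tt N9674 D16132) (tt N8069 F60718) (tt N9672 (iv F63757)) (tt N8918 F60719) (tt N9544 (iv F63226)))
theorem Q8920 : ∀ i, i < 8920 → P i := stepQ 8919 Q8919 (allL N8919 (tt N8096 F60720) (tt N9675 D16133) (tt N8069 (iv D15377)) (tt N8072 F60721) (tt N8234 F60722) (tt N9673 (iv F63762)) (tt N9663 (iv F63712)) (tt N8919 F60723) (tt N8249 F60724))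
theorem Q8921 : ∀ i, i < 8921 → P i := stepQ 8920 Q8920 (allL N8920 (tt N8097 F60725) (tt N9676 D16134) (tt N8071 (iv D15378)) (tt N9673 (iv F63761)) (tt N8264 F60726) (tt N8072 F60727) (tt N8603 F60728) (tt N8075 F60729) (tt N9660 (iv F63696)))
theorem Q8922 : ∀ i, i < 8922 → P i := stepQ 8921 Q8921 (allL N8921 (tt N9677 D16135) (tt N8072 (iv D15379)) (tt N9635 (iv F63595)) (tt N9675 (iv F63774)) (tt N8667 F60730) (tt N9676 (iv F63780)) (tt N9666 (iv F63730)) (tt N8076 F60731) (tt N9661 (iv F63700)))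
theorem Q8923 : ∀ i, i < 8923 → P i := stepQ 8922 Q8922 (allL N8922 (tt N8099 F60732) (tt N9678 D16136) (tt N8073 (iv D15380)) (tt N8922 F60733) (tt N8496 (iv F60737)) (tt N8074 F60734) (tt N8609 F60735) (tt N9664 (iv F63719)) (tt N8922 F60736))
theorem Q8924 : ∀ i, i < 8924 → P i := stepQ 8923 Q8923 (allL N8923 (tt N8100 F60738) (tt N9642 (iv F63622)) (tt N8496 F60739) (tt N8923 F60740) (tt N8073 (iv D15381)) (tt N8493 F60741) (tt N8101 F60742) (tt N9665 (iv F63727)) (tt N8923 F60743))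
theorem Q8925 : ∀ i, i < 8925 → P i := stepQ 8924 Q8924 (allL N8924 (tt N9642 (iv F63621)) (tt N8074 (iv D15382)) (tt N9643 (iv F63627)) (tt N8924 F60744) (tt N8494 F60745) (tt N9678 (iv F63790)) (tt N8076 F60746) (tt N9666 (iv F63731)) (tt N8924 F60747))
theorem Q8926 : ∀ i, i < 8926 → P i := stepQ 8925 Q8925 (allL N8925 (tt N8256 F60748) (tt N8075 (iv D15383)) (tt N9655 (iv F63661)) (tt N8925 F60749) (tt N8254 F60750) (tt N8076 F60751) (tt N8608 F60752) (tt N9676 (iv F63782)) (tt N8925 F60753))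
theorem Q8927 : ∀ i, i < 8927 → P i := stepQ 8926 Q8926 (allL N8926 (tt N8076 (iv D15384)) (tt N8101 F60754) (tt N9656 (iv F63667)) (tt N8926 F60755) (tt N8669 F60756) (tt N8256 F60757) (tt N9642 (iv F63625)) (tt N9677 (iv F63786)) (tt N8926 F60758))
theorem Q8928 : ∀ i, i < 8928 → P i := stepQ 8927 Q8927 (allL N8927 (tt N9657 (iv F63671)) (tt N8613 (iv F60765)) (tt N8077 (iv D15385)) (tt N8262 F60759) (tt N8261 F60760) (tt N8612 F60761) (tt N8083 F60762) (tt N8927 F60763) (tt N8089 F60764))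
theorem Q8929 : ∀ i, i < 8929 → P i := stepQ 8928 Q8928 (allL N8928 (tt N9660 (iv F63690)) (tt N8096 F60766) (tt N8082 (iv D15386)) (tt N8098 F60767) (tt N8259 F60768) (tt N8083 F60769) (tt N8610 F60770) (tt N8928 F60771) (tt N8097 F60772))
theorem Q8930 : ∀ i, i < 8930 → P i := stepQ 8929 Q8929 (allL N8929 (tt N9673 (iv F63760)) (tt N8083 (iv D15387)) (tt N8095 F60773) (tt N8097 F60774) (tt N8265 F60775) (tt N8096 F60776) (tt N8613 F60777) (tt N8929 F60778) (tt N8098 F60779))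
theorem Q8931 : ∀ i, i < 8931 → P i := stepQ 8930 Q8930 (allL N8930 (tt N9663 (iv F63708)) (tt N8610 F60780) (tt N8086 (iv D15388)) (tt N8089 F60781) (tt N8257 F60782) (tt N8611 F60783) (tt N8096 F60784) (tt N8930 F60785) (tt N8262 F60786))
theorem Q8932 : ∀ i, i < 8932 → P i := stepQ 8931 Q8931 (allL N8931 (tt N9664 (iv F63715)) (tt N8419 F60787) (tt N8088 (iv D15389)) (tt N8611 F60788) (tt N8418 (iv F60793)) (tt N8089 F60789) (tt N8614 F60790) (tt N8099 F60791) (tt N8612 F60792))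
theorem Q8933 : ∀ i, i < 8933 → P i := stepQ 8932 Q8932 (allL N8932 (tt N9665 (iv F63722)) (tt N8089 F60794) (tt N8418 F60795) (tt N8610 F60796) (tt N8088 (iv D15390)) (tt N8419 F60797) (tt N8098 F60798) (tt N8100 F60799) (tt N8613 F60800))
theorem Q8934 : ∀ i, i < 8934 → P i := stepQ 8933 Q8933 (allL N8933 (tt N8092 F60801) (tt N9667 (iv F63733)) (tt N8402 F60802) (tt N9527 (iv F63120)) (tt N8416 F60803) (tt N8091 F60804) (tt N8400 F60805) (tt N8090 (iv D15391)) (tt N8409 F60806))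
theorem Q8935 : ∀ i, i < 8935 → P i := stepQ 8934 Q8934 (allL N8934 (tt N8093 F60807) (tt N9668 (iv F63739)) (tt N9526 (iv F63113)) (tt N8091 (iv D15392)) (tt N9529 (iv F63135)) (tt N9527 (iv F63122)) (tt N8663 F60808) (tt N8934 F60809) (tt N8664 F60810))
theorem Q8936 : ∀ i, i < 8936 → P i := stepQ 8935 Q8935 (allL N8935 (tt N9672 (iv F63753)) (tt N8415 F60811) (tt N8613 F60812) (tt N8094 (iv D15393)) (tt N8612 F60813) (tt N8414 F60814) (tt N8095 F60815) (tt N8935 F60816) (tt N8418 F60817))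
theorem Q8937 : ∀ i, i < 8937 → P i := stepQ 8936 Q8936 (allL N8936 (tt N9674 (iv F63767)) (tt N8611 F60818) (tt N8265 F60819) (tt N8419 F60820) (tt N8095 (iv D15394)) (tt N8610 F60821) (tt N8612 F60822) (tt N8936 F60823) (tt N8614 F60824))
theorem Q8938 : ∀ i, i < 8938 → P i := stepQ 8937 Q8937 (allL N8937 (tt N8098 (iv D15395)) (tt N9677 (iv F63783)) (tt N9544 (iv F63220)) (tt N9660 (iv F63691)) (tt N8670 F60825) (tt N8249 F60826) (tt N9665 (iv F63726)) (tt N8101 F60827) (tt N9673 (iv F63765)))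
theorem Q8939 : ∀ i, i < 8939 → P i := stepQ 8938 Q8938 (allL N8938 (tt N8938 F60828) (tt N9546 (iv F63233)) (tt N8422 F60829) (tt N8113 F60830) (tt N9289 (iv F62183)) (tt N8108 F60831) (tt N8423 F60832) (tt N8102 (iv D15396)) (tt N8942 (iv F60857)))
theorem Q8940 : ∀ i, i < 8940 → P i := stepQ 8939 Q8939 (allL N8939 (tt N8286 F60833) (tt N8104 F60834) (tt N9492 (iv F62958)) (tt N8137 F60835) (tt N8103 (iv D15397)) (tt N8739 F60836) (tt N8110 F60837) (tt N8540 F60838) (tt N9215 (iv F61867)))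
theorem Q8941 : ∀ i, i < 8941 → P i := stepQ 8940 Q8940 (allL N8940 (tt N8288 F60839) (tt N8105 F60840) (tt N9547 (iv F63239)) (tt N8117 F60841) (tt N9215 (iv F61865)) (tt N8136 F60842) (tt N8111 F60843) (tt N9679 D16137) (tt N8103 (iv D15398)))
theorem Q8942 : ∀ i, i < 8942 → P i := stepQ 8941 Q8941 (allL N8941 (tt N8941 F60844) (tt N8739 F60845) (tt N8106 F60846) (tt N8551 F60847) (tt N8420 F60848) (tt N8104 (iv D15399)) (tt N8553 F60849) (tt N8555 F60850) (tt N8688 F60851))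
theorem Q8943 : ∀ i, i < 8943 → P i := stepQ 8942 Q8942 (allL N8942 (tt N8942 F60852) (tt N9679 (iv F63794)) (tt N8108 F60853) (tt N8423 F60854) (tt N9288 (iv F62178)) (tt N8422 F60855) (tt N8113 F60856) (tt N8105 (iv D15400)) (tt N8938 F60857))
theorem Q8944 : ∀ i, i < 8944 → P i := stepQ 8943 Q8943 (allL N8943 (tt N8943 F60858) (tt N9512 (iv F63043)) (tt N8688 F60859) (tt N8943 F60860) (tt N9284 F62163) (tt N8107 F60861) (tt N9286 (iv F62172)) (tt N9680 D16138) (tt N8106 (iv D15401)))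
theorem Q8945 : ∀ i, i < 8945 → P i := stepQ 8944 Q8944 (allL N8944 (tt N8944 F60862) (tt N9514 (iv F63049)) (tt N9288 F62181) (tt N9681 D16139) (tt N8108 F60863) (tt N9680 (iv F63801)) (tt N8116 F60864) (tt N8107 (iv D15402)) (tt N9231 (iv F61929)))
theorem Q8946 : ∀ i, i < 8946 → P i := stepQ 8945 Q8945 (allL N8945 (tt N8110 F60865) (tt N8945 F60866) (tt N9549 (iv F63247)) (tt N8292 F60867) (tt N8109 (iv D15403)) (tt N8513 (iv F60870)) (tt N8286 F60868) (tt N8515 F60869) (tt N9682 D16140))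
theorem Q8947 : ∀ i, i < 8947 → P i := stepQ 8946 Q8946 (allL N8946 (tt N8111 F60871) (tt N8946 F60872) (tt N9550 (iv F63253)) (tt N8118 F60873) (tt N9682 (iv F63809)) (tt N8427 F60874) (tt N8288 F60875) (tt N9683 D16141) (tt N8109 (iv D15404)))
theorem Q8948 : ∀ i, i < 8948 → P i := stepQ 8947 Q8947 (allL N8947 (tt N9682 (iv F63806)) (tt N8112 F60876) (tt N9552 (iv F63265)) (tt N8537 F60877) (tt N8111 F60878) (tt N8538 F60879) (tt N9215 (iv F61866)) (tt N9684 D16142) (tt N8110 (iv D15405)))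
theorem Q8949 : ∀ i, i < 8949 → P i := stepQ 8948 Q8948 (allL N8948 (tt N9683 (iv F63812)) (tt N8113 F60880) (tt N9553 (iv F63269)) (tt N9546 (iv F63234)) (tt N9684 (iv F63818)) (tt N8430 F60881) (tt N9679 (iv F63797)) (tt N8111 (iv D15406)) (tt N9111 (iv F61526)))
theorem Q8950 : ∀ i, i < 8950 → P i := stepQ 8949 Q8949 (allL N8949 (tt N8949 F60882) (tt N9684 (iv F63816)) (tt N8116 F60883) (tt N8479 F60884) (tt N8113 F60885) (tt N8481 F60886) (tt N9288 (iv F62179)) (tt N8112 (iv D15407)) (tt N8480 F60887))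
theorem Q8951 : ∀ i, i < 8951 → P i := stepQ 8950 Q8950 (allL N8950 (tt N8950 F60888) (tt N9560 (iv F63294)) (tt N8554 F60889) (tt N8950 F60890) (tt N8434 F60891) (tt N9286 (iv F62171)) (tt N8115 F60892) (tt N9685 D16143) (tt N8114 (iv D15408)))
theorem Q8952 : ∀ i, i < 8952 → P i := stepQ 8951 Q8951 (allL N8951 (tt N8951 F60893) (tt N9561 (iv F63298)) (tt N8481 F60894) (tt N9686 D16144) (tt N8435 F60895) (tt N8116 F60896) (tt N9685 (iv F63824)) (tt N8115 (iv D15409)) (tt N8482 F60897))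
theorem Q8953 : ∀ i, i < 8953 → P i := stepQ 8952 Q8952 (allL N8952 (tt N8952 F60898) (tt N9562 (iv F63302)) (tt N9687 D16145) (tt N8116 (iv D15410)) (tt N8673 F60899) (tt N9686 (iv F63829)) (tt N9681 (iv F63804)) (tt N8952 F60900) (tt N9232 (iv F61933)))
theorem Q8954 : ∀ i, i < 8954 → P i := stepQ 8953 Q8953 (allL N8953 (tt N8269 F60901) (tt N9589 (iv F63420)) (tt N8124 F60902) (tt N8125 F60903) (tt N8843 F60904) (tt N8561 F60905) (tt N8281 F60906) (tt N9688 D16146) (tt N8123 (iv D15411)))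
theorem Q8955 : ∀ i, i < 8955 → P i := stepQ 8954 Q8954 (allL N8954 (tt N8271 F60907) (tt N8954 F60908) (tt N9688 (iv F63840)) (tt N8162 F60909) (tt N8877 F60910) (tt N8564 F60911) (tt N8290 F60912) (tt N8124 (iv D15412)) (tt N8695 F60913))
theorem Q8956 : ∀ i, i < 8956 → P i := stepQ 8955 Q8955 (allL N8955 (tt N8273 F60914) (tt N9590 (iv F63425)) (tt N8126 F60915) (tt N9689 D16147) (tt N8274 F60916) (tt N8568 F60917) (tt N8283 F60918) (tt N8125 (iv D15413)) (tt N8134 F60919))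
theorem Q8957 : ∀ i, i < 8957 → P i := stepQ 8956 Q8956 (allL N8956 (tt N9479 (iv F62886)) (tt N8128 F60920) (tt N8138 F60921) (tt N8718 F60922) (tt N8272 F60923) (tt N9483 (iv F62913)) (tt N8131 F60924) (tt N9690 D16148) (tt N8127 (iv D15414)))
theorem Q8958 : ∀ i, i < 8958 → P i := stepQ 8957 Q8957 (allL N8957 (tt N8274 F60925) (tt N9690 (iv F63850)) (tt N8129 F60926) (tt N9691 D16149) (tt N8273 F60927) (tt N9593 (iv F63444)) (tt N8134 F60928) (tt N8128 (iv D15415)) (tt N8283 F60929))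
theorem Q8959 : ∀ i, i < 8959 → P i := stepQ 8958 Q8958 (allL N8958 (tt N8131 F60930) (tt N8178 F60931) (tt N8140 F60932) (tt N8723 F60933) (tt N9460 (iv F62785)) (tt N8182 F60934) (tt N9479 (iv F62891)) (tt N9692 D16150) (tt N8130 (iv D15416)))
theorem Q8960 : ∀ i, i < 8960 → P i := stepQ 8959 Q8959 (allL N8959 (tt N9692 (iv F63860)) (tt N8134 F60935) (tt N8141 F60936) (tt N9693 D16151) (tt N9563 (iv F63307)) (tt N8572 F60937) (tt N9690 (iv F63853)) (tt N8131 (iv D15417)) (tt N9590 (iv F63430)))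
theorem Q8961 : ∀ i, i < 8961 → P i := stepQ 8960 Q8960 (allL N8960 (tt N8281 F60938) (tt N9545 (iv F63227)) (tt N8136 F60939) (tt N8133 F60940) (tt N8730 F60941) (tt N9547 (iv F63241)) (tt N8269 F60942) (tt N9694 D16152) (tt N8132 (iv D15418)))
theorem Q8962 : ∀ i, i < 8962 → P i := stepQ 8961 Q8961 (allL N8961 (tt N8283 F60943) (tt N9563 (iv F63305)) (tt N8135 F60944) (tt N9695 D16153) (tt N8134 F60945) (tt N9564 (iv F63315)) (tt N8273 F60946) (tt N8133 (iv D15419)) (tt N8274 F60947))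
theorem Q8963 : ∀ i, i < 8963 → P i := stepQ 8962 Q8962 (allL N8962 (tt N8284 F60948) (tt N9693 (iv F63864)) (tt N8201 F60949) (tt N8134 (iv D15420)) (tt N9696 D16154) (tt N8578 F60950) (tt N9691 (iv F63857)) (tt N8734 F60951) (tt N9689 (iv F63849)))
theorem Q8964 : ∀ i, i < 8964 → P i := stepQ 8963 Q8963 (allL N8963 (tt N8290 F60952) (tt N8422 F60953) (tt N9694 (iv F63868)) (tt N8308 F60954) (tt N8744 F60955) (tt N9679 (iv F63796)) (tt N8271 F60956) (tt N8136 (iv D15421)) (tt N8801 F60957))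
theorem Q8965 : ∀ i, i < 8965 → P i := stepQ 8964 Q8964 (allL N8964 (tt N9528 (iv F63126)) (tt N8139 F60958) (tt N9690 (iv F63851)) (tt N9697 D16155) (tt N8298 F60959) (tt N9530 (iv F63143)) (tt N8141 F60960) (tt N8138 (iv D15422)) (tt N8300 F60961))
theorem Q8966 : ∀ i, i < 8966 → P i := stepQ 8965 Q8965 (allL N8965 (tt N8148 F60962) (tt N9697 (iv F63880)) (tt N8240 F60963) (tt N8139 (iv D15423)) (tt N8604 F60964) (tt N9537 (iv F63182)) (tt N8142 F60965) (tt N8144 F60966) (tt N8302 F60967))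
theorem Q8967 : ∀ i, i < 8967 → P i := stepQ 8966 Q8966 (allL N8966 (tt N8141 F60968) (tt N8149 F60969) (tt N9692 (iv F63862)) (tt N9698 D16156) (tt N9461 (iv F62791)) (tt N8238 F60970) (tt N9528 (iv F63131)) (tt N8140 (iv D15424)) (tt N9482 (iv F62907)))
theorem Q8968 : ∀ i, i < 8968 → P i := stepQ 8967 Q8967 (allL N8967 (tt N9698 (iv F63885)) (tt N8142 F60971) (tt N9699 D16157) (tt N8141 (iv D15425)) (tt N9659 (iv F63686)) (tt N8601 F60972) (tt N9697 (iv F63882)) (tt N8146 F60973) (tt N9592 (iv F63440)))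
theorem Q8969 : ∀ i, i < 8969 → P i := stepQ 8968 Q8968 (allL N8968 (tt N8655 F60974) (tt N8144 F60975) (tt N9700 D16158) (tt N8143 (iv D15426)) (tt N8592 F60976) (tt N9433 (iv F62674)) (tt N8146 F60977) (tt N9697 (iv F63883)) (tt N8968 F60978))
theorem Q8970 : ∀ i, i < 8970 → P i := stepQ 8969 Q8969 (allL N8969 (tt N8146 F60979) (tt N8151 F60980) (tt N9701 D16159) (tt N8145 (iv D15427)) (tt N8653 F60981) (tt N8252 F60982) (tt N8655 F60983) (tt N9698 (iv F63890)) (tt N8969 F60984))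
theorem Q8971 : ∀ i, i < 8971 → P i := stepQ 8970 Q8970 (allL N8970 (tt N9701 (iv F63900)) (tt N8255 F60985) (tt N8146 (iv D15428)) (tt N8781 F60986) (tt N9702 D16160) (tt N8607 F60987) (tt N9700 (iv F63898)) (tt N9699 (iv F63893)) (tt N8970 F60988))
theorem Q8972 : ∀ i, i < 8972 → P i := stepQ 8971 Q8971 (allL N8971 (tt N8653 F60989) (tt N8147 F60990) (tt N9702 (iv F63908)) (tt N8591 F60991) (tt N8146 (iv D15429)) (tt N9539 (iv F63194)) (tt N8592 F60992) (tt N9659 (iv F63688)) (tt N8971 F60993))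
theorem Q8973 : ∀ i, i < 8973 → P i := stepQ 8972 Q8972 (allL N8972 (tt N8150 F60994) (tt N9698 (iv F63886)) (tt N9537 (iv F63180)) (tt N8149 (iv D15430)) (tt N8664 F60995) (tt N8240 F60996) (tt N8666 F60997) (tt N8151 F60998) (tt N9529 (iv F63139)))
theorem Q8974 : ∀ i, i < 8974 → P i := stepQ 8973 Q8973 (allL N8973 (tt N8267 F60999) (tt N9391 (iv F62569)) (tt N8152 (iv D15431)) (tt N8163 F61000) (tt N9132 (iv F61595)) (tt N8154 F61001) (tt N9095 (iv F61471)) (tt N8802 F61002) (tt N9703 D16161))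
theorem Q8975 : ∀ i, i < 8975 → P i := stepQ 8974 Q8974 (allL N8974 (tt N8304 F61003) (tt N8974 F61004) (tt N9703 (iv F63912)) (tt N8153 F61005) (tt N9054 (iv F61304)) (tt N8156 F61006) (tt N9104 (iv F61501)) (tt N9704 D16162) (tt N8152 (iv D15432)))
theorem Q8976 : ∀ i, i < 8976 → P i := stepQ 8975 Q8975 (allL N8975 (tt N8559 F61007) (tt N8154 (iv D15433)) (tt N8975 F61008) (tt N8165 F61009) (tt N9381 F62535) (tt N9391 (iv F62572)) (tt N8157 F61010) (tt N8980 (iv F61032)) (tt N9705 D16163))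
theorem Q8977 : ∀ i, i < 8977 → P i := stepQ 8976 Q8976 (allL N8976 (tt N8305 F61011) (tt N9381 (iv F62532)) (tt N8155 F61012) (tt N8543 F61013) (tt N8154 (iv D15434)) (tt N9112 (iv F61531)) (tt N8158 F61014) (tt N9116 (iv F61546)) (tt N9706 D16164))
theorem Q8978 : ∀ i, i < 8978 → P i := stepQ 8977 Q8977 (allL N8977 (tt N8306 F61015) (tt N9705 (iv F63921)) (tt N8156 F61016) (tt N8166 F61017) (tt N9706 (iv F63928)) (tt N9703 (iv F63914)) (tt N8159 F61018) (tt N9707 D16165) (tt N8154 (iv D15435)))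
theorem Q8979 : ∀ i, i < 8979 → P i := stepQ 8978 Q8978 (allL N8978 (tt N8307 F61019) (tt N8978 F61020) (tt N9706 (iv F63926)) (tt N8291 F61021) (tt N8156 F61022) (tt N9056 (iv F61315)) (tt N8161 F61023) (tt N9708 D16166) (tt N8155 (iv D15436)))
theorem Q8980 : ∀ i, i < 8980 → P i := stepQ 8979 Q8979 (allL N8979 (tt N8308 F61024) (tt N8979 F61025) (tt N9707 (iv F63931)) (tt N8290 F61026) (tt N9708 (iv F63936)) (tt N9704 (iv F63918)) (tt N8162 F61027) (tt N8156 (iv D15437)) (tt N9236 (iv F61953)))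
theorem Q8981 : ∀ i, i < 8981 → P i := stepQ 8980 Q8980 (allL N8980 (tt N8157 (iv D15438)) (tt N8309 F61028) (tt N8980 F61029) (tt N8168 F61030) (tt N9709 D16167) (tt N9451 (iv F62737)) (tt N8559 F61031) (tt N8975 F61032) (tt N9710 D16168))
theorem Q8982 : ∀ i, i < 8982 → P i := stepQ 8981 Q8981 (allL N8981 (tt N9709 (iv F63938)) (tt N8158 F61033) (tt N8981 F61034) (tt N9384 (iv F62545)) (tt N8157 (iv D15439)) (tt N9711 D16169) (tt N9381 (iv F62536)) (tt N9329 (iv F62365)) (tt N9712 D16170))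
theorem Q8983 : ∀ i, i < 8983 → P i := stepQ 8982 Q8982 (allL N8982 (tt N9710 (iv F63944)) (tt N8159 F61035) (tt N8982 F61036) (tt N8170 F61037) (tt N9712 (iv F63956)) (tt N9453 (iv F62751)) (tt N9705 (iv F63924)) (tt N9713 D16171) (tt N8157 (iv D15440)))
theorem Q8984 : ∀ i, i < 8984 → P i := stepQ 8983 Q8983 (allL N8983 (tt N8312 F61038) (tt N9384 (iv F62543)) (tt N8497 F61039) (tt N8158 (iv D15441)) (tt N8171 F61040) (tt N9125 (iv F61578)) (tt N8543 F61041) (tt N9714 D16172) (tt N9715 D16173))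
theorem Q8985 : ∀ i, i < 8985 → P i := stepQ 8984 Q8984 (allL N8984 (tt N8313 F61042) (tt N9711 (iv F63950)) (tt N8160 F61043) (tt N9125 (iv F61577)) (tt N9455 (iv F62763)) (tt N8158 (iv D15442)) (tt N9122 (iv F61569)) (tt N9332 (iv F62378)) (tt N9716 D16174))
theorem Q8986 : ∀ i, i < 8986 → P i := stepQ 8985 Q8985 (allL N8985 (tt N8314 F61044) (tt N9712 (iv F63954)) (tt N8161 F61045) (tt N9715 (iv F63968)) (tt N8159 F61046) (tt N9716 (iv F63973)) (tt N9706 (iv F63929)) (tt N9717 D16175) (tt N8158 (iv D15443)))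
theorem Q8987 : ∀ i, i < 8987 → P i := stepQ 8986 Q8986 (allL N8986 (tt N8315 F61047) (tt N9713 (iv F63957)) (tt N8162 F61048) (tt N9718 D16176) (tt N9717 (iv F63976)) (tt N9457 (iv F62771)) (tt N9707 (iv F63932)) (tt N8159 (iv D15444)) (tt N9334 (iv F62384)))
theorem Q8988 : ∀ i, i < 8988 → P i := stepQ 8987 Q8987 (allL N8987 (tt N8317 F61049) (tt N8987 F61050) (tt N9716 (iv F63972)) (tt N8498 F61051) (tt N9458 (iv F62775)) (tt N8161 F61052) (tt N9310 (iv F62291)) (tt N9719 D16177) (tt N8160 (iv D15445)))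
theorem Q8989 : ∀ i, i < 8989 → P i := stepQ 8988 Q8988 (allL N8988 (tt N8318 F61053) (tt N8988 F61054) (tt N9717 (iv F63975)) (tt N9720 D16178) (tt N8162 F61055) (tt N9719 (iv F63981)) (tt N9708 (iv F63937)) (tt N8161 (iv D15446)) (tt N9336 (iv F62393)))
theorem Q8990 : ∀ i, i < 8990 → P i := stepQ 8989 Q8989 (allL N8989 (tt N8272 F61056) (tt N9480 (iv F62893)) (tt N8164 F61057) (tt N9703 (iv F63913)) (tt N9479 (iv F62889)) (tt N8166 F61058) (tt N9460 (iv F62787)) (tt N9721 D16179) (tt N8163 (iv D15447)))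
theorem Q8991 : ∀ i, i < 8991 → P i := stepQ 8990 Q8990 (allL N8990 (tt N8298 F61059) (tt N8227 F61060) (tt N9721 (iv F63988)) (tt N8285 F61061) (tt N9528 (iv F63129)) (tt N8167 F61062) (tt N9461 (iv F62793)) (tt N8164 (iv D15448)) (tt N8180 F61063))
theorem Q8992 : ∀ i, i < 8992 → P i := stepQ 8991 Q8991 (allL N8991 (tt N8565 F61064) (tt N8166 F61065) (tt N8228 F61066) (tt N9705 (iv F63923)) (tt N8392 F61067) (tt N9480 (iv F62896)) (tt N8170 F61068) (tt N9722 D16180) (tt N8165 (iv D15449)))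
theorem Q8993 : ∀ i, i < 8993 → P i := stepQ 8992 Q8992 (allL N8992 (tt N8321 F61069) (tt N9722 (iv F63992)) (tt N8167 F61070) (tt N9723 D16181) (tt N8369 F61071) (tt N9721 (iv F63989)) (tt N8174 F61072) (tt N8166 (iv D15450)) (tt N8186 F61073))
theorem Q8994 : ∀ i, i < 8994 → P i := stepQ 8993 Q8993 (allL N8993 (tt N8170 F61074) (tt N8323 F61075) (tt N8230 F61076) (tt N9710 (iv F63947)) (tt N9600 (iv F63481)) (tt N9467 (iv F62828)) (tt N8565 F61077) (tt N9724 D16182) (tt N8168 (iv D15451)))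
theorem Q8995 : ∀ i, i < 8995 → P i := stepQ 8994 Q8994 (allL N8994 (tt N9597 (iv F63466)) (tt N8171 F61078) (tt N8558 F61079) (tt N8169 (iv D15452)) (tt N9384 (iv F62546)) (tt N9498 (iv F62987)) (tt N8542 F61080) (tt N9556 (iv F63284)) (tt N9725 D16183))
theorem Q8996 : ∀ i, i < 8996 → P i := stepQ 8995 Q8995 (allL N8995 (tt N9600 (iv F63478)) (tt N8173 F61081) (tt N8231 F61082) (tt N9725 (iv F64008)) (tt N8170 F61083) (tt N9503 (iv F63007)) (tt N8392 F61084) (tt N9726 D16184) (tt N8169 (iv D15453)))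
theorem Q8997 : ∀ i, i < 8997 → P i := stepQ 8996 Q8996 (allL N8996 (tt N9724 (iv F64001)) (tt N8174 F61085) (tt N8232 F61086) (tt N9727 D16185) (tt N9726 (iv F64012)) (tt N9470 (iv F62845)) (tt N9722 (iv F63995)) (tt N8170 (iv D15454)) (tt N8194 F61087))
theorem Q8998 : ∀ i, i < 8998 → P i := stepQ 8997 Q8997 (allL N8997 (tt N8328 F61088) (tt N9498 (iv F62984)) (tt N8500 F61089) (tt N8172 F61090) (tt N9728 D16186) (tt N8171 (iv D15455)) (tt N9491 (iv F62955)) (tt N9729 D16187) (tt N9730 D16188))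
theorem Q8999 : ∀ i, i < 8999 → P i := stepQ 8998 Q8998 (allL N8998 (tt N8329 F61091) (tt N9556 (iv F63280)) (tt N8501 F61092) (tt N8196 F61093) (tt N9714 (iv F63963)) (tt N9729 (iv F64027)) (tt N8539 F61094) (tt N8171 (iv D15456)) (tt N9731 D16189))
theorem Q9000 : ∀ i, i < 9000 → P i := stepQ 8999 Q8999 (allL N8999 (tt N8330 F61095) (tt N9725 (iv F64006)) (tt N8378 F61096) (tt N8173 F61097) (tt N9715 (iv F63969)) (tt N9730 (iv F64032)) (tt N8389 F61098) (tt N9732 D16190) (tt N8171 (iv D15457)))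
theorem Q9001 : ∀ i, i < 9001 → P i := stepQ 9000 Q9000 (allL N9000 (tt N8332 F61099) (tt N9503 (iv F63004)) (tt N8175 F61100) (tt N9730 (iv F64031)) (tt N9474 (iv F62864)) (tt N8173 F61101) (tt N9494 (iv F62971)) (tt N9733 D16191) (tt N8172 (iv D15458)))
theorem Q9002 : ∀ i, i < 9002 → P i := stepQ 9001 Q9001 (allL N9001 (tt N8333 F61102) (tt N9726 (iv F64010)) (tt N8176 F61103) (tt N9734 D16192) (tt N8174 F61104) (tt N9733 (iv F64042)) (tt N8369 F61105) (tt N8173 (iv D15459)) (tt N8200 F61106))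
theorem Q9003 : ∀ i, i < 9003 → P i := stepQ 9002 Q9002 (allL N9002 (tt N8334 F61107) (tt N9727 (iv F64015)) (tt N9689 (iv F63846)) (tt N8174 (iv D15460)) (tt N9735 D16193) (tt N9476 (iv F62873)) (tt N9723 (iv F63999)) (tt N9718 (iv F63978)) (tt N8201 F61108))
theorem Q9004 : ∀ i, i < 9004 → P i := stepQ 9003 Q9003 (allL N9003 (tt N8336 F61109) (tt N8235 F61110) (tt N9733 (iv F64041)) (tt N8345 F61111) (tt N9477 (iv F62877)) (tt N8176 F61112) (tt N9534 (iv F63168)) (tt N8175 (iv D15461)) (tt N8203 F61113))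
theorem Q9005 : ∀ i, i < 9005 → P i := stepQ 9004 Q9004 (allL N9004 (tt N8275 F61114) (tt N9095 (iv F61467)) (tt N9004 F61115) (tt N8177 (iv D15462)) (tt N8851 F61116) (tt N9089 (iv F61447)) (tt N9391 (iv F62573)) (tt N9088 F61441) (tt N9736 D16194))
theorem Q9006 : ∀ i, i < 9006 → P i := stepQ 9005 Q9005 (allL N9005 (tt N8277 F61117) (tt N9460 (iv F62783)) (tt N8179 F61118) (tt N9736 (iv F64052)) (tt N8178 F61119) (tt N9462 (iv F62799)) (tt N9480 (iv F62897)) (tt N9737 D16195) (tt N8177 (iv D15463)))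
theorem Q9007 : ∀ i, i < 9007 → P i := stepQ 9006 Q9006 (allL N9006 (tt N8278 F61120) (tt N9692 (iv F63861)) (tt N8180 F61121) (tt N9738 D16196) (tt N9737 (iv F64056)) (tt N8186 F61122) (tt N9481 (iv F62901)) (tt N8178 (iv D15464)) (tt N9721 (iv F63990)))
theorem Q9008 : ∀ i, i < 9008 → P i := stepQ 9007 Q9007 (allL N9007 (tt N8300 F61123) (tt N8236 F61124) (tt N9737 (iv F64055)) (tt N9739 D16197) (tt N8180 F61125) (tt N9519 (iv F63071)) (tt N9482 (iv F62906)) (tt N8179 (iv D15465)) (tt N9528 (iv F63132)))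
theorem Q9009 : ∀ i, i < 9009 → P i := stepQ 9008 Q9008 (allL N9008 (tt N8570 F61126) (tt N8183 F61127) (tt N9008 F61128) (tt N8181 (iv D15466)) (tt N9018 (iv F61168)) (tt N9463 (iv F62805)) (tt N8191 F61129) (tt N9554 (iv F63275)) (tt N9740 D16198))
theorem Q9010 : ∀ i, i < 9010 → P i := stepQ 9009 Q9009 (allL N9009 (tt N8571 F61130) (tt N8185 F61131) (tt N8237 F61132) (tt N9740 (iv F64068)) (tt N8182 F61133) (tt N9464 (iv F62812)) (tt N8193 F61134) (tt N9741 D16199) (tt N8181 (iv D15467)))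
theorem Q9011 : ∀ i, i < 9011 → P i := stepQ 9010 Q9010 (allL N9010 (tt N8572 F61135) (tt N8186 F61136) (tt N8238 F61137) (tt N9742 D16200) (tt N9741 (iv F64073)) (tt N9692 (iv F63863)) (tt N8194 F61138) (tt N8182 (iv D15468)) (tt N9722 (iv F63996)))
theorem Q9012 : ∀ i, i < 9012 → P i := stepQ 9011 Q9011 (allL N9011 (tt N8337 F61139) (tt N9463 (iv F62802)) (tt N8205 F61140) (tt N8184 F61141) (tt N9571 (iv F63353)) (tt N8183 (iv D15469)) (tt N9468 (iv F62835)) (tt N9551 (iv F63263)) (tt N9743 D16201))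
theorem Q9013 : ∀ i, i < 9013 → P i := stepQ 9012 Q9012 (allL N9012 (tt N8338 F61142) (tt N9554 (iv F63272)) (tt N8206 F61143) (tt N8539 F61144) (tt N9167 (iv F61709)) (tt N9551 (iv F63261)) (tt N8196 F61145) (tt N8183 (iv D15470)) (tt N9744 D16202))
theorem Q9014 : ∀ i, i < 9014 → P i := stepQ 9013 Q9013 (allL N9013 (tt N8339 F61146) (tt N9740 (iv F64066)) (tt N8207 F61147) (tt N8185 F61148) (tt N9168 (iv F61714)) (tt N9743 (iv F64082)) (tt N8197 F61149) (tt N9745 D16203) (tt N8183 (iv D15471)))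
theorem Q9015 : ∀ i, i < 9015 → P i := stepQ 9014 Q9014 (allL N9014 (tt N8341 F61150) (tt N9464 (iv F62809)) (tt N8187 F61151) (tt N9743 (iv F64081)) (tt N9462 (iv F62798)) (tt N8185 F61152) (tt N9469 (iv F62842)) (tt N9746 D16204) (tt N8184 (iv D15472)))
theorem Q9016 : ∀ i, i < 9016 → P i := stepQ 9015 Q9015 (allL N9015 (tt N8342 F61153) (tt N9741 (iv F64071)) (tt N8188 F61154) (tt N9747 D16205) (tt N8186 F61155) (tt N9746 (iv F64092)) (tt N8200 F61156) (tt N8185 (iv D15473)) (tt N8369 F61157))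
theorem Q9017 : ∀ i, i < 9017 → P i := stepQ 9016 Q9016 (allL N9016 (tt N8343 F61158) (tt N9742 (iv F64077)) (tt N9691 (iv F63856)) (tt N8186 (iv D15474)) (tt N9748 D16206) (tt N9738 (iv F64058)) (tt N8201 F61159) (tt N9171 (iv F61725)) (tt N9723 (iv F64000)))
theorem Q9018 : ∀ i, i < 9018 → P i := stepQ 9017 Q9017 (allL N9017 (tt N8345 F61160) (tt N8241 F61161) (tt N9746 (iv F64091)) (tt N8336 F61162) (tt N9519 (iv F63070)) (tt N8188 F61163) (tt N9523 (iv F63099)) (tt N8187 (iv D15475)) (tt N8368 F61164))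
theorem Q9019 : ∀ i, i < 9019 → P i := stepQ 9018 Q9018 (allL N9018 (tt N8191 F61165) (tt N8346 F61166) (tt N9018 F61167) (tt N8189 (iv D15476)) (tt N9008 F61168) (tt N9577 (iv F63381)) (tt N8570 F61169) (tt N9749 D16207) (tt N9750 D16208))
theorem Q9020 : ∀ i, i < 9020 → P i := stepQ 9019 Q9019 (allL N9019 (tt N8193 F61170) (tt N8348 F61171) (tt N8242 F61172) (tt N9750 (iv F64109)) (tt N8190 F61173) (tt N9582 (iv F63398)) (tt N8571 F61174) (tt N9751 D16209) (tt N8189 (iv D15477)))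
theorem Q9021 : ∀ i, i < 9021 → P i := stepQ 9020 Q9020 (allL N9020 (tt N8194 F61175) (tt N8349 F61176) (tt N8243 F61177) (tt N9752 D16210) (tt N9751 (iv F64115)) (tt N9490 (iv F62950)) (tt N8572 F61178) (tt N8190 (iv D15478)) (tt N9724 (iv F64005)))
theorem Q9022 : ∀ i, i < 9022 → P i := stepQ 9021 Q9021 (allL N9021 (tt N9577 (iv F63377)) (tt N8195 F61179) (tt N9021 F61180) (tt N8192 F61181) (tt N9753 D16211) (tt N8191 (iv D15479)) (tt N9471 (iv F62851)) (tt N9754 D16212) (tt N9755 D16213))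
theorem Q9023 : ∀ i, i < 9023 → P i := stepQ 9022 Q9022 (allL N9022 (tt N9749 (iv F64100)) (tt N8196 F61182) (tt N9022 F61183) (tt N9556 (iv F63282)) (tt N9343 (iv F62415)) (tt N9754 (iv F64132)) (tt N9554 F63276) (tt N8191 (iv D15480)) (tt N9756 D16214))
theorem Q9024 : ∀ i, i < 9024 → P i := stepQ 9023 Q9023 (allL N9023 (tt N9750 (iv F64106)) (tt N8197 F61184) (tt N9023 F61185) (tt N8193 F61186) (tt N9344 (iv F62419)) (tt N9755 (iv F64137)) (tt N9740 (iv F64069)) (tt N9757 D16215) (tt N8191 (iv D15481)))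
theorem Q9025 : ∀ i, i < 9025 → P i := stepQ 9024 Q9024 (allL N9024 (tt N9582 (iv F63394)) (tt N8199 F61187) (tt N8244 F61188) (tt N9755 (iv F64136)) (tt N9494 (iv F62969)) (tt N8193 F61189) (tt N9474 (iv F62866)) (tt N9758 D16216) (tt N8192 (iv D15482)))
theorem Q9026 : ∀ i, i < 9026 → P i := stepQ 9025 Q9025 (allL N9025 (tt N9751 (iv F64112)) (tt N8200 F61190) (tt N8245 F61191) (tt N9759 D16217) (tt N8194 F61192) (tt N9758 (iv F64144)) (tt N9741 (iv F64074)) (tt N8193 (iv D15483)) (tt N9726 (iv F64014)))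
theorem Q9027 : ∀ i, i < 9027 → P i := stepQ 9026 Q9026 (allL N9026 (tt N9752 (iv F64117)) (tt N8201 F61193) (tt N9760 D16218) (tt N8194 (iv D15484)) (tt N9761 D16219) (tt N9496 (iv F62977)) (tt N9742 (iv F64078)) (tt N9346 (iv F62424)) (tt N9727 (iv F64016)))
theorem Q9028 : ∀ i, i < 9028 → P i := stepQ 9027 Q9027 (allL N9027 (tt N8357 F61194) (tt N9753 (iv F64122)) (tt N8211 F61195) (tt N9497 (iv F62980)) (tt N8195 (iv D15485)) (tt N9347 (iv F62427)) (tt N9029 (iv F61204)) (tt N9028 F61199) (tt N9762 D16220))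
theorem Q9029 : ∀ i, i < 9029 → P i := stepQ 9028 Q9028 (allL N9028 (tt N8358 F61196) (tt N9471 (iv F62848)) (tt N8212 F61197) (tt N8198 F61198) (tt N9029 (iv F61202)) (tt N9468 (iv F62834)) (tt N8195 (iv D15486)) (tt N9027 (iv F61199)) (tt N9763 D16221))
theorem Q9030 : ∀ i, i < 9030 → P i := stepQ 9029 Q9029 (allL N9029 (tt N8359 F61200) (tt N9754 (iv F64128)) (tt N8213 F61201) (tt N9729 (iv F64025)) (tt N9028 F61202) (tt N8196 F61203) (tt N9027 F61204) (tt N8195 (iv D15487)) (tt N9764 D16222))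
theorem Q9031 : ∀ i, i < 9031 → P i := stepQ 9030 Q9030 (allL N9030 (tt N8360 F61205) (tt N9755 (iv F64134)) (tt N8214 F61206) (tt N8199 F61207) (tt N9762 (iv F64150)) (tt N8197 F61208) (tt N9763 (iv F64154)) (tt N9765 D16223) (tt N8195 (iv D15488)))
theorem Q9032 : ∀ i, i < 9032 → P i := stepQ 9031 Q9031 (allL N9031 (tt N8361 F61209) (tt N9756 (iv F64138)) (tt N8215 F61210) (tt N9731 (iv F64035)) (tt N9350 (iv F62437)) (tt N9764 (iv F64158)) (tt N9744 (iv F64086)) (tt N9766 D16224) (tt N8196 (iv D15489)))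
theorem Q9033 : ∀ i, i < 9033 → P i := stepQ 9032 Q9032 (allL N9032 (tt N8362 F61211) (tt N9757 (iv F64140)) (tt N8216 F61212) (tt N9767 D16225) (tt N9351 (iv F62440)) (tt N9765 (iv F64162)) (tt N9745 (iv F64089)) (tt N8197 (iv D15490)) (tt N9766 (iv F64165)))
theorem Q9034 : ∀ i, i < 9034 → P i := stepQ 9033 Q9033 (allL N9033 (tt N8363 F61213) (tt N9474 (iv F62862)) (tt N8202 F61214) (tt N9763 (iv F64153)) (tt N9503 (iv F63006)) (tt N9469 (iv F62841)) (tt N8199 F61215) (tt N9768 D16226) (tt N8198 (iv D15491)))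
theorem Q9035 : ∀ i, i < 9035 → P i := stepQ 9034 Q9034 (allL N9034 (tt N8364 F61216) (tt N9758 (iv F64142)) (tt N8203 F61217) (tt N9769 D16227) (tt N9504 (iv F63011)) (tt N8200 F61218) (tt N9768 (iv F64170)) (tt N8199 (iv D15492)) (tt N9733 (iv F64043)))
theorem Q9036 : ∀ i, i < 9036 → P i := stepQ 9035 Q9035 (allL N9035 (tt N8365 F61219) (tt N9759 (iv F64145)) (tt N9770 D16228) (tt N8200 (iv D15493)) (tt N9771 D16229) (tt N9769 (iv F64172)) (tt N9747 (iv F64096)) (tt N9767 (iv F64167)) (tt N9734 (iv F64047)))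
theorem Q9037 : ∀ i, i < 9037 → P i := stepQ 9036 Q9036 (allL N9036 (tt N8366 F61220) (tt N9761 (iv F64147)) (tt N9696 (iv F63877)) (tt N9771 (iv F64179)) (tt N8201 (iv D15494)) (tt N9772 D16230) (tt N9748 (iv F64099)) (tt N9354 (iv F62446)) (tt N9735 (iv F64049)))
theorem Q9038 : ∀ i, i < 9038 → P i := stepQ 9037 Q9037 (allL N9037 (tt N8367 F61221) (tt N8250 F61222) (tt N9768 (iv F64169)) (tt N9532 (iv F63153)) (tt N9507 (iv F63019)) (tt N9523 (iv F63098)) (tt N8203 F61223) (tt N8202 (iv D15495)) (tt N9534 (iv F63169)))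
theorem Q9039 : ∀ i, i < 9039 → P i := stepQ 9038 Q9038 (allL N9038 (tt N8368 F61224) (tt N8251 F61225) (tt N9773 D16231) (tt N8203 (iv D15496)) (tt N9530 (iv F63142)) (tt N8204 F61226) (tt N9532 (iv F63156)) (tt N8222 F61227) (tt N8345 F61228))
theorem Q9040 : ∀ i, i < 9040 → P i := stepQ 9039 Q9039 (allL N9039 (tt N8369 F61229) (tt N8626 F61230) (tt N8204 (iv D15497)) (tt N9770 (iv F64174)) (tt N8321 F61231) (tt N9773 (iv F64183)) (tt N8333 F61232) (tt N8223 F61233) (tt N8342 F61234))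
theorem Q9041 : ∀ i, i < 9041 → P i := stepQ 9040 Q9040 (allL N9040 (tt N8370 F61235) (tt N9040 F61236) (tt N9571 (iv F63351)) (tt N9040 F61237) (tt N8205 (iv D15498)) (tt N9246 (iv F61993)) (tt N8583 (iv F61238)) (tt N8582 (iv F61239)) (tt N9774 D16232))
theorem Q9042 : ∀ i, i < 9042 → P i := stepQ 9041 Q9041 (allL N9041 (tt N8371 F61240) (tt N9041 F61241) (tt N9468 (iv F62832)) (tt N8208 F61242) (tt N8583 F61243) (tt N8212 F61244) (tt N8205 (iv D15499)) (tt N8581 (iv F61245)) (tt N9775 D16233))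
theorem Q9043 : ∀ i, i < 9043 → P i := stepQ 9042 Q9042 (allL N9042 (tt N8372 F61246) (tt N9042 F61247) (tt N9551 (iv F63259)) (tt N8509 F61248) (tt N8582 F61249) (tt N8206 F61250) (tt N8581 F61251) (tt N8205 (iv D15500)) (tt N9776 D16234))
theorem Q9044 : ∀ i, i < 9044 → P i := stepQ 9043 Q9043 (allL N9043 (tt N8373 F61252) (tt N9043 F61253) (tt N9743 (iv F64080)) (tt N8209 F61254) (tt N9774 (iv F64189)) (tt N8207 F61255) (tt N9775 (iv F64196)) (tt N9777 D16235) (tt N8205 (iv D15501)))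
theorem Q9045 : ∀ i, i < 9045 → P i := stepQ 9044 Q9044 (allL N9044 (tt N8374 F61256) (tt N9044 F61257) (tt N9744 (iv F64084)) (tt N8510 F61258) (tt N9250 (iv F62012)) (tt N9776 (iv F64201)) (tt N8215 F61259) (tt N9778 D16236) (tt N8206 (iv D15502)))
theorem Q9046 : ∀ i, i < 9046 → P i := stepQ 9045 Q9045 (allL N9045 (tt N8375 F61260) (tt N9045 F61261) (tt N9745 (iv F64088)) (tt N8533 F61262) (tt N9251 (iv F62016)) (tt N9777 (iv F64206)) (tt N8216 F61263) (tt N8207 (iv D15503)) (tt N9778 (iv F64211)))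
theorem Q9047 : ∀ i, i < 9047 → P i := stepQ 9046 Q9046 (allL N9046 (tt N8376 F61264) (tt N9046 F61265) (tt N8210 F61266) (tt N9775 (iv F64193)) (tt N9046 F61267) (tt N8217 F61268) (tt N8209 F61269) (tt N8534 F61270) (tt N8208 (iv D15504)))
theorem Q9048 : ∀ i, i < 9048 → P i := stepQ 9047 Q9047 (allL N9047 (tt N8381 F61271) (tt N9047 F61272) (tt N9762 (iv F64149)) (tt N8224 F61273) (tt N8214 F61274) (tt N9357 (iv F62457)) (tt N9049 (iv F61284)) (tt N9779 D16237) (tt N8211 (iv D15505)))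
theorem Q9049 : ∀ i, i < 9049 → P i := stepQ 9048 Q9048 (allL N9048 (tt N8382 F61275) (tt N9048 F61276) (tt N9763 (iv F64152)) (tt N8217 F61277) (tt N9049 (iv F61282)) (tt N9775 (iv F64195)) (tt N8214 F61278) (tt N9780 D16238) (tt N8212 (iv D15506)))
theorem Q9050 : ∀ i, i < 9050 → P i := stepQ 9049 Q9049 (allL N9049 (tt N8383 F61279) (tt N9049 F61280) (tt N9764 (iv F64156)) (tt N8511 F61281) (tt N9048 F61282) (tt N8215 F61283) (tt N9047 F61284) (tt N9781 D16239) (tt N8213 (iv D15507)))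
theorem Q9051 : ∀ i, i < 9051 → P i := stepQ 9050 Q9050 (allL N9050 (tt N8384 F61285) (tt N9050 F61286) (tt N9765 (iv F64161)) (tt N9782 D16240) (tt N9779 (iv F64214)) (tt N8216 F61287) (tt N9780 (iv F64217)) (tt N8214 (iv D15508)) (tt N9781 (iv F64224)))
theorem Q9052 : ∀ i, i < 9052 → P i := stepQ 9051 Q9051 (allL N9051 (tt N8385 F61288) (tt N9051 F61289) (tt N9766 (iv F64164)) (tt N9783 D16241) (tt N9361 (iv F62471)) (tt N9781 (iv F64222)) (tt N9778 (iv F64210)) (tt N8215 (iv D15509)) (tt N8216 F61290))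
theorem Q9053 : ∀ i, i < 9053 → P i := stepQ 9052 Q9052 (allL N9052 (tt N8386 F61291) (tt N9052 F61292) (tt N9784 D16242) (tt N8216 (iv D15510)) (tt N9785 D16243) (tt N9782 (iv F64227)) (tt N8533 F61293) (tt N8219 F61294) (tt N9783 (iv F64234)))
theorem Q9054 : ∀ i, i < 9054 → P i := stepQ 9053 Q9053 (allL N9053 (tt N8387 F61295) (tt N9053 F61296) (tt N8221 F61297) (tt N9786 D16244) (tt N8226 F61298) (tt N8534 F61299) (tt N8218 F61300) (tt N8217 (iv D15511)) (tt N8514 F61301))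
theorem Q9055 : ∀ i, i < 9055 → P i := stepQ 9054 Q9054 (allL N9054 (tt N8388 F61302) (tt N9054 F61303) (tt N9787 D16245) (tt N8218 (iv D15512)) (tt N8974 F61304) (tt N8219 F61305) (tt N9786 (iv F64248)) (tt N9782 (iv F64228)) (tt N8515 F61306))
theorem Q9056 : ∀ i, i < 9056 → P i := stepQ 9055 Q9055 (allL N9055 (tt N8389 F61307) (tt N8624 (iv F61311)) (tt N8219 (iv D15513)) (tt N8223 F61308) (tt N9788 D16246) (tt N9787 (iv F64253)) (tt N8330 F61309) (tt N9784 (iv F64237)) (tt N8319 F61310))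
theorem Q9057 : ∀ i, i < 9057 → P i := stepQ 9056 Q9056 (allL N9056 (tt N8390 F61312) (tt N9056 F61313) (tt N9788 (iv F64258)) (tt N8220 F61314) (tt N8219 (iv D15514)) (tt N8978 F61315) (tt N8522 F61316) (tt N9785 (iv F64243)) (tt N8516 F61317))
theorem Q9058 : ∀ i, i < 9058 → P i := stepQ 9057 Q9057 (allL N9057 (tt N8391 F61318) (tt N8625 F61319) (tt N8222 (iv D15515)) (tt N9787 (iv F64251)) (tt N9483 (iv F62912)) (tt N8223 F61320) (tt N9489 (iv F62946)) (tt N9773 (iv F64184)) (tt N8320 F61321))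
theorem Q9059 : ∀ i, i < 9059 → P i := stepQ 9058 Q9058 (allL N9058 (tt N8597 F61322) (tt N8229 F61323) (tt N9722 (iv F63993)) (tt N9789 D16247) (tt N8412 F61324) (tt N9482 (iv F62905)) (tt N8232 F61325) (tt N8228 (iv D15516)) (tt N8238 F61326))
theorem Q9060 : ∀ i, i < 9060 → P i := stepQ 9059 Q9059 (allL N9059 (tt N8257 F61327) (tt N9789 (iv F64264)) (tt N8302 F61328) (tt N8229 (iv D15517)) (tt N9663 (iv F63710)) (tt N9529 (iv F63136)) (tt N8234 F61329) (tt N9059 F61330) (tt N8240 F61331))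
theorem Q9061 : ∀ i, i < 9061 → P i := stepQ 9060 Q9060 (allL N9060 (tt N8232 F61332) (tt N8258 F61333) (tt N9724 (iv F64003)) (tt N9790 D16248) (tt N9604 (iv F63496)) (tt N9522 (iv F63091)) (tt N8597 F61334) (tt N8230 (iv D15518)) (tt N8243 F61335))
theorem Q9062 : ∀ i, i < 9062 → P i := stepQ 9061 Q9061 (allL N9061 (tt N9604 (iv F63493)) (tt N8233 F61336) (tt N9726 (iv F64011)) (tt N8667 F61337) (tt N8232 F61338) (tt N9507 (iv F63020)) (tt N8412 F61339) (tt N8231 (iv D15519)) (tt N8245 F61340))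
theorem Q9063 : ∀ i, i < 9063 → P i := stepQ 9062 Q9062 (allL N9062 (tt N9790 (iv F64268)) (tt N8234 F61341) (tt N9791 D16249) (tt N8232 (iv D15520)) (tt N9675 (iv F63775)) (tt N9524 (iv F63102)) (tt N9789 (iv F64265)) (tt N9062 F61342) (tt N8246 F61343))
theorem Q9064 : ∀ i, i < 9064 → P i := stepQ 9063 Q9063 (allL N9063 (tt N8260 F61344) (tt N9739 (iv F64061)) (tt N9543 (iv F63214)) (tt N8236 (iv D15521)) (tt N8663 F61345) (tt N9520 (iv F63077)) (tt N9529 (iv F63137)) (tt N9063 F61346) (tt N8666 F61347))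
theorem Q9065 : ∀ i, i < 9065 → P i := stepQ 9064 Q9064 (allL N9064 (tt N8600 F61348) (tt N8239 F61349) (tt N9741 (iv F64072)) (tt N9792 D16250) (tt N8238 F61350) (tt N9466 (iv F62821)) (tt N8245 F61351) (tt N8237 (iv D15522)) (tt N8412 F61352))
theorem Q9066 : ∀ i, i < 9066 → P i := stepQ 9065 Q9065 (allL N9065 (tt N8601 F61353) (tt N8240 F61354) (tt N9793 D16251) (tt N8238 (iv D15523)) (tt N9794 D16252) (tt N9698 (iv F63888)) (tt N8246 F61355) (tt N8252 F61356) (tt N9789 (iv F64267)))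
theorem Q9067 : ∀ i, i < 9067 → P i := stepQ 9066 Q9066 (allL N9066 (tt N8261 F61357) (tt N9792 (iv F64276)) (tt N8401 F61358) (tt N8239 (iv D15524)) (tt N9657 (iv F63673)) (tt N9521 (iv F63084)) (tt N8248 F61359) (tt N9066 F61360) (tt N8411 F61361))
theorem Q9068 : ∀ i, i < 9068 → P i := stepQ 9067 Q9067 (allL N9067 (tt N8262 F61362) (tt N9794 (iv F64284)) (tt N8604 F61363) (tt N9657 (iv F63672)) (tt N8240 (iv D15525)) (tt N8605 F61364) (tt N8249 F61365) (tt N8253 F61366) (tt N9663 (iv F63714)))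
theorem Q9069 : ∀ i, i < 9069 → P i := stepQ 9068 Q9068 (allL N9068 (tt N8245 F61367) (tt N8263 F61368) (tt N9751 (iv F64114)) (tt N9795 D16253) (tt N8243 F61369) (tt N9586 (iv F63410)) (tt N8600 F61370) (tt N8242 (iv D15526)) (tt N9604 (iv F63499)))
theorem Q9070 : ∀ i, i < 9070 → P i := stepQ 9069 Q9069 (allL N9069 (tt N8246 F61371) (tt N8264 F61372) (tt N9796 D16254) (tt N8243 (iv D15527)) (tt N9676 (iv F63779)) (tt N9533 (iv F63161)) (tt N8601 F61373) (tt N8254 F61374) (tt N9790 (iv F64272)))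
theorem Q9071 : ∀ i, i < 9071 → P i := stepQ 9070 Q9070 (allL N9070 (tt N9586 (iv F63407)) (tt N8247 F61375) (tt N9758 (iv F64143)) (tt N9797 D16255) (tt N9534 (iv F63166)) (tt N8245 F61376) (tt N9477 (iv F62879)) (tt N8244 (iv D15528)) (tt N9507 (iv F63022)))
theorem Q9072 : ∀ i, i < 9072 → P i := stepQ 9071 Q9071 (allL N9071 (tt N9795 (iv F64288)) (tt N8248 F61377) (tt N9798 D16256) (tt N8245 (iv D15529)) (tt N9661 (iv F63698)) (tt N9797 (iv F64297)) (tt N9792 (iv F64277)) (tt N9071 F61378) (tt N8667 F61379))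
theorem Q9073 : ∀ i, i < 9073 → P i := stepQ 9072 Q9072 (allL N9072 (tt N9796 (iv F64293)) (tt N9699 (iv F63891)) (tt N8246 (iv D15530)) (tt N9760 (iv F64146)) (tt N9799 D16257) (tt N9535 (iv F63171)) (tt N9793 (iv F64281)) (tt N8255 F61380) (tt N9791 (iv F64274)))
theorem Q9074 : ∀ i, i < 9074 → P i := stepQ 9073 Q9073 (allL N9073 (tt N9676 (iv F63778)) (tt N8249 F61381) (tt N9799 (iv F64303)) (tt N9661 (iv F63697)) (tt N8246 (iv D15531)) (tt N9677 (iv F63785)) (tt N9794 (iv F64286)) (tt N8256 F61382) (tt N9675 (iv F63777)))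
theorem Q9075 : ∀ i, i < 9075 → P i := stepQ 9074 Q9074 (allL N9074 (tt N8266 F61383) (tt N9797 (iv F64296)) (tt N8663 F61384) (tt N8247 (iv D15532)) (tt N9543 (iv F63215)) (tt N8248 F61385) (tt N9526 (iv F63116)) (tt N9074 F61386) (tt N8665 F61387))
theorem Q9076 : ∀ i, i < 9076 → P i := stepQ 9075 Q9075 (allL N9075 (tt N8607 F61388) (tt N9700 (iv F63895)) (tt N8252 (iv D15533)) (tt N9077 (iv F61398)) (tt N9800 D16258) (tt N9701 (iv F63903)) (tt N8255 F61389) (tt N9793 (iv F64282)) (tt N9075 F61390))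
theorem Q9077 : ∀ i, i < 9077 → P i := stepQ 9076 Q9076 (allL N9076 (tt N8608 F61391) (tt N8253 F61392) (tt N9800 (iv F64307)) (tt N9076 F61393) (tt N8252 (iv D15534)) (tt N8606 F61394) (tt N8256 F61395) (tt N9794 (iv F64287)) (tt N9076 F61396))
theorem Q9078 : ∀ i, i < 9078 → P i := stepQ 9077 Q9077 (allL N9077 (tt N8255 F61397) (tt N9540 (iv F63197)) (tt N8254 (iv D15535)) (tt N9075 F61398) (tt N9655 (iv F63662)) (tt N9541 (iv F63205)) (tt N8607 F61399) (tt N9796 (iv F64295)) (tt N9077 F61400))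
theorem Q9079 : ∀ i, i < 9079 → P i := stepQ 9078 Q9078 (allL N9078 (tt N9655 F63666) (tt N9702 (iv F63907)) (tt N8256 F61401) (tt N9801 D16259) (tt N8255 (iv D15536)) (tt N9656 (iv F63669)) (tt N9800 (iv F64309)) (tt N9799 (iv F64304)) (tt N9078 F61402))
theorem Q9080 : ∀ i, i < 9080 → P i := stepQ 9079 Q9079 (allL N9079 (tt N8259 F61403) (tt N9790 (iv F64269)) (tt N9520 (iv F63075)) (tt N8258 (iv D15537)) (tt N9660 (iv F63692)) (tt N9543 (iv F63216)) (tt N8598 F61404) (tt N9079 F61405) (tt N8264 F61406))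
theorem Q9081 : ∀ i, i < 9081 → P i := stepQ 9080 Q9080 (allL N9080 (tt N8265 F61407) (tt N9795 (iv F64289)) (tt N9674 (iv F63768)) (tt N8263 (iv D15538)) (tt N9673 F63766) (tt N9525 F63111) (tt N8602 F61408) (tt N9080 F61409) (tt N8670 F61410))
theorem Q9082 : ∀ i, i < 9082 → P i := stepQ 9081 Q9081 (allL N9081 (tt N9703 (iv F63911)) (tt N8269 F61411) (tt N8304 F61412) (tt N8272 F61413) (tt N9212 (iv F61853)) (tt N8306 F61414) (tt N9545 (iv F63232)) (tt N9802 D16260) (tt N8267 (iv D15539)))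
theorem Q9083 : ∀ i, i < 9083 → P i := stepQ 9082 Q9082 (allL N9082 (tt N8843 F61415) (tt N9212 (iv F61851)) (tt N8270 F61416) (tt N8719 F61417) (tt N8269 F61418) (tt N9213 (iv F61858)) (tt N8730 F61419) (tt N9803 D16261) (tt N8268 (iv D15540)))
theorem Q9084 : ∀ i, i < 9084 → P i := stepQ 9083 Q9083 (allL N9083 (tt N9688 (iv F63839)) (tt N9802 (iv F64313)) (tt N8271 F61420) (tt N9804 D16262) (tt N9803 (iv F64319)) (tt N8618 F61421) (tt N9694 (iv F63870)) (tt N8269 (iv D15541)) (tt N8808 F61422))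
theorem Q9085 : ∀ i, i < 9085 → P i := stepQ 9084 Q9084 (allL N9084 (tt N8877 F61423) (tt N8424 F61424) (tt N9803 (iv F64318)) (tt N9805 D16263) (tt N8271 F61425) (tt N9290 (iv F62188)) (tt N8744 F61426) (tt N8270 (iv D15542)) (tt N8811 F61427))
theorem Q9086 : ∀ i, i < 9086 → P i := stepQ 9085 Q9085 (allL N9085 (tt N9721 (iv F63987)) (tt N8273 F61428) (tt N8298 F61429) (tt N9806 D16264) (tt N9690 (iv F63852)) (tt N8321 F61430) (tt N9563 (iv F63309)) (tt N8272 (iv D15543)) (tt N8278 F61431))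
theorem Q9087 : ∀ i, i < 9087 → P i := stepQ 9086 Q9086 (allL N9086 (tt N9689 (iv F63845)) (tt N9806 (iv F64332)) (tt N8334 F61432) (tt N8273 (iv D15544)) (tt N9807 D16265) (tt N8627 F61433) (tt N9695 (iv F63874)) (tt N9804 (iv F64324)) (tt N8284 F61434))
theorem Q9088 : ∀ i, i < 9088 → P i := stepQ 9087 Q9087 (allL N9087 (tt N9691 (iv F63855)) (tt N9591 (iv F63431)) (tt N8343 F61435) (tt N8274 (iv D15545)) (tt N9808 D16266) (tt N9596 (iv F63463)) (tt N8284 F61436) (tt N8847 F61437) (tt N9695 (iv F63875)))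
theorem Q9089 : ∀ i, i < 9089 → P i := stepQ 9088 Q9088 (allL N9088 (tt N9089 (iv F61442)) (tt N8279 F61438) (tt N9088 F61439) (tt N8276 F61440) (tt N9608 (iv F63518)) (tt N8275 (iv D15546)) (tt N9451 (iv F62738)) (tt N9004 (iv F61441)) (tt N9809 D16267))
theorem Q9090 : ∀ i, i < 9090 → P i := stepQ 9089 Q9089 (allL N9089 (tt N9088 F61442) (tt N8280 F61443) (tt N9089 F61444) (tt N8698 F61445) (tt N8856 F61446) (tt N9004 F61447) (tt N8690 F61448) (tt N8275 (iv D15547)) (tt N9810 D16268))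
theorem Q9091 : ∀ i, i < 9091 → P i := stepQ 9090 Q9090 (allL N9090 (tt N9736 (iv F64050)) (tt N8281 F61449) (tt N9090 F61450) (tt N8277 F61451) (tt N8857 F61452) (tt N9809 (iv F64343)) (tt N9589 (iv F63424)) (tt N9811 D16269) (tt N8275 (iv D15548)))
theorem Q9092 : ∀ i, i < 9092 → P i := stepQ 9091 Q9091 (allL N9091 (tt N9462 (iv F62795)) (tt N8282 F61453) (tt N8299 F61454) (tt N9809 (iv F64342)) (tt N8341 F61455) (tt N8277 F61456) (tt N9467 (iv F62829)) (tt N9812 D16270) (tt N8276 (iv D15549)))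
theorem Q9093 : ∀ i, i < 9093 → P i := stepQ 9092 Q9092 (allL N9092 (tt N9737 (iv F64054)) (tt N8283 F61457) (tt N8300 F61458) (tt N9813 D16271) (tt N8278 F61459) (tt N9812 (iv F64357)) (tt N9590 (iv F63429)) (tt N8277 (iv D15550)) (tt N9690 (iv F63854)))
theorem Q9094 : ∀ i, i < 9094 → P i := stepQ 9093 Q9093 (allL N9093 (tt N9738 (iv F64057)) (tt N8284 F61460) (tt N9596 (iv F63462)) (tt N8278 (iv D15551)) (tt N9814 D16272) (tt N8343 F61461) (tt N9591 (iv F63434)) (tt N8861 F61462) (tt N9806 (iv F64334)))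
theorem Q9095 : ∀ i, i < 9095 → P i := stepQ 9094 Q9094 (allL N9094 (tt N9492 (iv F62956)) (tt N9608 (iv F63515)) (tt N8286 F61463) (tt N8630 F61464) (tt N8279 (iv D15552)) (tt N8862 F61465) (tt N9549 (iv F63249)) (tt N9488 (iv F62940)) (tt N9815 D16273))
theorem Q9096 : ∀ i, i < 9096 → P i := stepQ 9095 Q9095 (allL N9095 (tt N8797 F61466) (tt N9004 F61467) (tt N8287 F61468) (tt N8696 F61469) (tt N9488 (iv F62937)) (tt N8280 F61470) (tt N8973 F61471) (tt N8279 (iv D15553)) (tt N9816 D16274))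
theorem Q9097 : ∀ i, i < 9097 → P i := stepQ 9096 Q9096 (allL N9096 (tt N9547 (iv F63237)) (tt N9809 (iv F64340)) (tt N8288 F61472) (tt N8282 F61473) (tt N9815 (iv F64363)) (tt N8281 F61474) (tt N9550 (iv F63256)) (tt N9817 D16275) (tt N8279 (iv D15554)))
theorem Q9098 : ∀ i, i < 9098 → P i := stepQ 9097 Q9097 (allL N9097 (tt N8800 F61475) (tt N9810 (iv F64345)) (tt N8289 F61476) (tt N8700 F61477) (tt N8866 F61478) (tt N9816 (iv F64369)) (tt N8692 F61479) (tt N9818 D16276) (tt N8280 (iv D15555)))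
theorem Q9099 : ∀ i, i < 9099 → P i := stepQ 9098 Q9098 (allL N9098 (tt N9694 (iv F63867)) (tt N9811 (iv F64351)) (tt N8290 F61480) (tt N9819 D16277) (tt N8867 F61481) (tt N9817 (iv F64372)) (tt N9688 (iv F63843)) (tt N8281 (iv D15556)) (tt N9818 (iv F64377)))
theorem Q9100 : ∀ i, i < 9100 → P i := stepQ 9099 Q9099 (allL N9099 (tt N9564 (iv F63311)) (tt N9812 (iv F64354)) (tt N8285 F61482) (tt N9820 D16278) (tt N8637 F61483) (tt N8283 F61484) (tt N9569 (iv F63342)) (tt N8282 (iv D15557)) (tt N9593 (iv F63446)))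
theorem Q9101 : ∀ i, i < 9101 → P i := stepQ 9100 Q9100 (allL N9100 (tt N9695 (iv F63872)) (tt N9813 (iv F64358)) (tt N9723 (iv F63998)) (tt N8283 (iv D15558)) (tt N9821 D16279) (tt N9820 (iv F64379)) (tt N9689 (iv F63848)) (tt N9819 (iv F64378)) (tt N9691 (iv F63859)))
theorem Q9102 : ∀ i, i < 9102 → P i := stepQ 9101 Q9101 (allL N9101 (tt N9696 (iv F63876)) (tt N9814 (iv F64359)) (tt N8366 F61485) (tt N9821 (iv F64380)) (tt N8284 (iv D15559)) (tt N9822 D16280) (tt N9808 (iv F64338)) (tt N8871 F61486) (tt N9807 (iv F64336)))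
theorem Q9103 : ∀ i, i < 9103 → P i := stepQ 9102 Q9102 (allL N9102 (tt N8540 F61487) (tt N9102 F61488) (tt N9488 (iv F62936)) (tt N8514 F61489) (tt N8287 F61490) (tt N8529 F61491) (tt N8515 F61492) (tt N8286 (iv D15560)) (tt N9786 (iv F64249)))
theorem Q9104 : ∀ i, i < 9104 → P i := stepQ 9103 Q9103 (allL N9103 (tt N9215 (iv F61863)) (tt N9103 F61493) (tt N9815 (iv F64361)) (tt N8294 F61494) (tt N8288 F61495) (tt N8883 F61496) (tt N9682 (iv F63811)) (tt N9823 D16281) (tt N8286 (iv D15561)))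
theorem Q9105 : ∀ i, i < 9105 → P i := stepQ 9104 Q9104 (allL N9104 (tt N8798 F61497) (tt N9104 F61498) (tt N9816 (iv F64367)) (tt N8518 F61499) (tt N9786 (iv F64246)) (tt N8289 F61500) (tt N8974 F61501) (tt N9824 D16282) (tt N8287 (iv D15562)))
theorem Q9106 : ∀ i, i < 9106 → P i := stepQ 9105 Q9105 (allL N9105 (tt N9679 (iv F63793)) (tt N9105 F61502) (tt N9817 (iv F64371)) (tt N9704 (iv F63917)) (tt N9823 (iv F64386)) (tt N8290 F61503) (tt N9683 (iv F63815)) (tt N8288 (iv D15563)) (tt N9824 (iv F64393)))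
theorem Q9107 : ∀ i, i < 9107 → P i := stepQ 9106 Q9106 (allL N9106 (tt N8801 F61504) (tt N9106 F61505) (tt N9818 (iv F64374)) (tt N9236 (iv F61951)) (tt N8887 F61506) (tt N9824 (iv F64391)) (tt N8695 F61507) (tt N8289 (iv D15564)) (tt N8290 F61508))
theorem Q9108 : ∀ i, i < 9108 → P i := stepQ 9107 Q9107 (allL N9107 (tt N8537 F61509) (tt N9107 F61510) (tt N8536 F61511) (tt N9682 (iv F63808)) (tt N8296 F61512) (tt N8512 F61513) (tt N8294 F61514) (tt N8511 F61515) (tt N8292 (iv D15565)))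
theorem Q9109 : ∀ i, i < 9109 → P i := stepQ 9108 Q9108 (allL N9108 (tt N9519 (iv F63068)) (tt N8301 F61516) (tt N9812 (iv F64355)) (tt N9825 D16283) (tt N8345 F61517) (tt N8300 F61518) (tt N9522 (iv F63092)) (tt N8299 (iv D15566)) (tt N9530 (iv F63145)))
theorem Q9110 : ∀ i, i < 9110 → P i := stepQ 9109 Q9109 (allL N9109 (tt N9739 (iv F64060)) (tt N8302 F61519) (tt N9826 D16284) (tt N8300 (iv D15567)) (tt N9662 (iv F63703)) (tt N9825 (iv F64395)) (tt N9592 (iv F63438)) (tt N9109 F61520) (tt N9697 (iv F63884)))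
theorem Q9111 : ∀ i, i < 9111 → P i := stepQ 9110 Q9110 (allL N9110 (tt N8303 F61521) (tt N9825 (iv F64394)) (tt N9529 (iv F63134)) (tt N8301 (iv D15568)) (tt N9526 (iv F63114)) (tt N8302 F61522) (tt N9543 (iv F63217)) (tt N9110 F61523) (tt N9537 (iv F63185)))
theorem Q9112 : ∀ i, i < 9112 → P i := stepQ 9111 Q9111 (allL N9111 (tt N9704 (iv F63915)) (tt N8423 F61524) (tt N9802 (iv F64314)) (tt N9679 (iv F63795)) (tt N9207 F61839) (tt N8308 F61525) (tt N9546 (iv F63236)) (tt N8304 (iv D15569)) (tt N8948 F61526))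
theorem Q9113 : ∀ i, i < 9113 → P i := stepQ 9112 Q9112 (allL N9112 (tt N8543 F61527) (tt N8615 F61528) (tt N8516 F61529) (tt N8305 (iv D15570)) (tt N8319 F61530) (tt N8976 F61531) (tt N8312 F61532) (tt N9827 D16285) (tt N9788 (iv F64262)))
theorem Q9114 : ∀ i, i < 9114 → P i := stepQ 9113 Q9113 (allL N9113 (tt N9706 (iv F63925)) (tt N8617 F61533) (tt N8307 F61534) (tt N9788 (iv F64259)) (tt N8306 F61535) (tt N9214 (iv F61861)) (tt N8314 F61536) (tt N9828 D16286) (tt N8305 (iv D15571)))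
theorem Q9115 : ∀ i, i < 9115 → P i := stepQ 9114 Q9114 (allL N9114 (tt N9707 (iv F63930)) (tt N8618 F61537) (tt N8308 F61538) (tt N9829 D16287) (tt N9828 (iv F64406)) (tt N9802 (iv F64315)) (tt N8315 F61539) (tt N8306 (iv D15572)) (tt N9121 (iv F61566)))
theorem Q9116 : ∀ i, i < 9116 → P i := stepQ 9115 Q9115 (allL N9115 (tt N9708 (iv F63933)) (tt N8425 F61540) (tt N9828 (iv F64405)) (tt N9830 D16288) (tt N8308 F61541) (tt N9210 (iv F61845)) (tt N8318 F61542) (tt N8307 (iv D15573)) (tt N9239 (iv F61967)))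
theorem Q9117 : ∀ i, i < 9117 → P i := stepQ 9116 Q9116 (allL N9116 (tt N8310 F61543) (tt N9709 (iv F63939)) (tt N8426 F61544) (tt N9831 D16289) (tt N8309 (iv D15574)) (tt N9827 (iv F64402)) (tt N8560 F61545) (tt N8976 F61546) (tt N9832 D16290))
theorem Q9118 : ∀ i, i < 9118 → P i := stepQ 9117 Q9117 (allL N9117 (tt N8311 F61547) (tt N9710 (iv F63945)) (tt N8427 F61548) (tt N8323 F61549) (tt N9832 (iv F64423)) (tt N9550 (iv F63255)) (tt N8561 F61550) (tt N9833 D16291) (tt N8309 (iv D15575)))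
theorem Q9119 : ∀ i, i < 9119 → P i := stepQ 9118 Q9118 (allL N9118 (tt N9831 (iv F64417)) (tt N8312 F61551) (tt N9118 F61552) (tt N8310 (iv D15576)) (tt N8324 F61553) (tt N9834 D16292) (tt N8615 F61554) (tt N9835 D16293) (tt N9836 D16294))
theorem Q9120 : ∀ i, i < 9120 → P i := stepQ 9119 Q9119 (allL N9119 (tt N9827 (iv F64398)) (tt N8313 F61555) (tt N8428 F61556) (tt N9834 (iv F64431)) (tt N8539 F61557) (tt N8310 (iv D15577)) (tt N9714 (iv F63965)) (tt N8543 F61558) (tt N9837 D16295))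
theorem Q9121 : ∀ i, i < 9121 → P i := stepQ 9120 Q9120 (allL N9120 (tt N9832 (iv F64421)) (tt N8314 F61559) (tt N8429 F61560) (tt N9836 (iv F64443)) (tt N8311 F61561) (tt N9837 (iv F64449)) (tt N8617 F61562) (tt N9838 D16296) (tt N8310 (iv D15578)))
theorem Q9122 : ∀ i, i < 9122 → P i := stepQ 9121 Q9121 (allL N9121 (tt N9833 (iv F64425)) (tt N8315 F61563) (tt N8430 F61564) (tt N9839 D16297) (tt N9838 (iv F64452)) (tt N9553 (iv F63270)) (tt N8618 F61565) (tt N8311 (iv D15579)) (tt N9114 F61566))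
theorem Q9123 : ∀ i, i < 9123 → P i := stepQ 9122 Q9122 (allL N9122 (tt N9125 (iv F61575)) (tt N9834 (iv F64429)) (tt N8520 F61567) (tt N8313 F61568) (tt N9840 D16298) (tt N8312 (iv D15580)) (tt N8984 F61569) (tt N9841 D16299) (tt N9842 D16300))
theorem Q9124 : ∀ i, i < 9124 → P i := stepQ 9123 Q9123 (allL N9123 (tt N9714 (iv F63959)) (tt N9835 (iv F64435)) (tt N8521 F61570) (tt N9382 (iv F62538)) (tt N8329 F61571) (tt N9841 (iv F64470)) (tt N9827 (iv F64403)) (tt N8312 (iv D15581)) (tt N9843 D16301))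
theorem Q9125 : ∀ i, i < 9125 → P i := stepQ 9124 Q9124 (allL N9124 (tt N9715 (iv F63966)) (tt N9836 (iv F64441)) (tt N8522 F61572) (tt N8314 F61573) (tt N8330 F61574) (tt N9842 (iv F64474)) (tt N9788 (iv F64261)) (tt N9844 D16302) (tt N8312 (iv D15582)))
theorem Q9126 : ∀ i, i < 9126 → P i := stepQ 9125 Q9125 (allL N9125 (tt N9122 F61575) (tt N9714 (iv F63960)) (tt N8316 F61576) (tt N8984 F61577) (tt N9556 (iv F63283)) (tt N8983 F61578) (tt N8313 (iv D15583)) (tt N9384 (iv F62547)) (tt N9845 D16303))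
theorem Q9127 : ∀ i, i < 9127 → P i := stepQ 9126 Q9126 (allL N9126 (tt N9716 (iv F63971)) (tt N9837 (iv F64446)) (tt N8317 F61579) (tt N9842 (iv F64473)) (tt N9557 (iv F63287)) (tt N8314 F61580) (tt N9845 (iv F64484)) (tt N9846 D16304) (tt N8313 (iv D15584)))
theorem Q9128 : ∀ i, i < 9128 → P i := stepQ 9127 Q9127 (allL N9127 (tt N9717 (iv F63974)) (tt N9838 (iv F64450)) (tt N8318 F61581) (tt N9847 D16305) (tt N8315 F61582) (tt N9846 (iv F64486)) (tt N9828 (iv F64407)) (tt N8314 (iv D15585)) (tt N9386 (iv F62554)))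
theorem Q9129 : ∀ i, i < 9129 → P i := stepQ 9128 Q9128 (allL N9128 (tt N9718 (iv F63977)) (tt N9839 (iv F64455)) (tt N9804 (iv F64322)) (tt N8315 (iv D15586)) (tt N9848 D16306) (tt N9559 (iv F63292)) (tt N9829 (iv F64409)) (tt N8334 F61583) (tt N9387 (iv F62556)))
theorem Q9130 : ∀ i, i < 9130 → P i := stepQ 9129 Q9129 (allL N9129 (tt N9310 (iv F62287)) (tt N8434 F61584) (tt N9845 (iv F64481)) (tt N8525 F61585) (tt N9560 (iv F63296)) (tt N9203 F61825) (tt N8317 F61586) (tt N9849 D16307) (tt N8316 (iv D15587)))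
theorem Q9131 : ∀ i, i < 9131 → P i := stepQ 9130 Q9130 (allL N9130 (tt N9719 (iv F63979)) (tt N8435 F61587) (tt N9846 (iv F64485)) (tt N9850 D16308) (tt N9561 (iv F63299)) (tt N8318 F61588) (tt N9849 (iv F64489)) (tt N8317 (iv D15588)) (tt N9389 (iv F62564)))
theorem Q9132 : ∀ i, i < 9132 → P i := stepQ 9131 Q9131 (allL N9131 (tt N9720 (iv F63982)) (tt N8436 F61589) (tt N9851 D16309) (tt N8318 (iv D15589)) (tt N9805 (iv F64328)) (tt N9850 (iv F64491)) (tt N9830 (iv F64415)) (tt N8527 F61590) (tt N9390 (iv F62567)))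
theorem Q9133 : ∀ i, i < 9133 → P i := stepQ 9132 Q9132 (allL N9132 (tt N8541 F61591) (tt N8622 F61592) (tt N8515 F61593) (tt N8320 F61594) (tt N8973 F61595) (tt N8319 (iv D15590)) (tt N9488 (iv F62939)) (tt N9549 (iv F63250)) (tt N9787 (iv F64254)))
theorem Q9134 : ∀ i, i < 9134 → P i := stepQ 9133 Q9133 (allL N9133 (tt N8539 F61596) (tt N8623 F61597) (tt N8513 F61598) (tt N8338 F61599) (tt N9827 (iv F64401)) (tt N9549 F63251) (tt N8329 F61600) (tt N8319 (iv D15591)) (tt N9852 D16310))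
theorem Q9135 : ∀ i, i < 9135 → P i := stepQ 9134 Q9134 (allL N9134 (tt N9723 (iv F63997)) (tt N8627 F61601) (tt N9695 (iv F63873)) (tt N8321 (iv D15592)) (tt N9853 D16311) (tt N9806 (iv F64333)) (tt N8334 F61602) (tt N9829 (iv F64410)) (tt N8343 F61603))
theorem Q9136 : ∀ i, i < 9136 → P i := stepQ 9135 Q9135 (allL N9135 (tt N8324 F61604) (tt N9597 (iv F63467)) (tt N9135 F61605) (tt N8322 (iv D15593)) (tt N9831 (iv F64419)) (tt N9614 (iv F63546)) (tt N8566 F61606) (tt N9854 D16312) (tt N9855 D16313))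
theorem Q9137 : ∀ i, i < 9137 → P i := stepQ 9136 Q9136 (allL N9136 (tt N8326 F61607) (tt N9600 (iv F63479)) (tt N8396 F61608) (tt N9855 (iv F64510)) (tt N8323 F61609) (tt N9619 (iv F63564)) (tt N8567 F61610) (tt N9856 D16314) (tt N8322 (iv D15594)))
theorem Q9138 : ∀ i, i < 9138 → P i := stepQ 9137 Q9137 (allL N9137 (tt N8327 F61611) (tt N9724 (iv F64002)) (tt N8397 F61612) (tt N9857 D16315) (tt N9856 (iv F64514)) (tt N9569 (iv F63341)) (tt N8568 F61613) (tt N8323 (iv D15595)) (tt N8349 F61614))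
theorem Q9139 : ∀ i, i < 9139 → P i := stepQ 9138 Q9138 (allL N9138 (tt N9614 (iv F63542)) (tt N8328 F61615) (tt N9138 F61616) (tt N8325 F61617) (tt N9858 D16316) (tt N8324 (iv D15596)) (tt N9607 (iv F63513)) (tt N9859 D16317) (tt N9860 D16318))
theorem Q9140 : ∀ i, i < 9140 → P i := stepQ 9139 Q9139 (allL N9139 (tt N9854 (iv F64502)) (tt N8329 F61618) (tt N9139 F61619) (tt N8351 F61620) (tt N9835 (iv F64438)) (tt N9859 (iv F64530)) (tt N8623 F61621) (tt N8324 (iv D15597)) (tt N9861 D16319))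
theorem Q9141 : ∀ i, i < 9141 → P i := stepQ 9140 Q9140 (allL N9140 (tt N9855 (iv F64508)) (tt N8330 F61622) (tt N9140 F61623) (tt N8326 F61624) (tt N9836 (iv F64444)) (tt N9860 (iv F64535)) (tt N8624 F61625) (tt N9862 D16320) (tt N8324 (iv D15598)))
theorem Q9142 : ∀ i, i < 9142 → P i := stepQ 9141 Q9141 (allL N9141 (tt N9619 (iv F63560)) (tt N8332 F61626) (tt N8398 F61627) (tt N9860 (iv F64534)) (tt N9573 (iv F63363)) (tt N8326 F61628) (tt N9610 (iv F63529)) (tt N9863 D16321) (tt N8325 (iv D15599)))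
theorem Q9143 : ∀ i, i < 9143 → P i := stepQ 9142 Q9142 (allL N9142 (tt N9856 (iv F64512)) (tt N8333 F61629) (tt N8399 F61630) (tt N9864 D16322) (tt N8327 F61631) (tt N9863 (iv F64545)) (tt N8626 F61632) (tt N8326 (iv D15600)) (tt N8355 F61633))
theorem Q9144 : ∀ i, i < 9144 → P i := stepQ 9143 Q9143 (allL N9143 (tt N9857 (iv F64517)) (tt N8334 F61634) (tt N9567 (iv F63329)) (tt N8327 (iv D15601)) (tt N9865 D16323) (tt N9575 (iv F63373)) (tt N8627 F61635) (tt N9839 (iv F64457)) (tt N8356 F61636))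
theorem Q9145 : ∀ i, i < 9145 → P i := stepQ 9144 Q9144 (allL N9144 (tt N9728 (iv F64017)) (tt N9858 (iv F64520)) (tt N8528 F61637) (tt N9576 (iv F63376)) (tt N8328 (iv D15602)) (tt N9840 (iv F64462)) (tt N8864 (iv F61638)) (tt N8863 (iv F61639)) (tt N9866 D16324))
theorem Q9146 : ∀ i, i < 9146 → P i := stepQ 9145 Q9145 (allL N9145 (tt N9491 (iv F62951)) (tt N9607 (iv F63510)) (tt N8529 F61640) (tt N8331 F61641) (tt N8864 F61642) (tt N9488 (iv F62938)) (tt N8328 (iv D15603)) (tt N8862 (iv F61643)) (tt N9867 D16325))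
theorem Q9147 : ∀ i, i < 9147 → P i := stepQ 9146 Q9146 (allL N9146 (tt N9729 (iv F64022)) (tt N9859 (iv F64526)) (tt N8530 F61644) (tt N8359 F61645) (tt N8863 F61646) (tt N8329 F61647) (tt N8862 F61648) (tt N8328 (iv D15604)) (tt N9868 D16326))
theorem Q9148 : ∀ i, i < 9148 → P i := stepQ 9147 Q9147 (allL N9147 (tt N9730 (iv F64029)) (tt N9860 (iv F64532)) (tt N8531 F61649) (tt N8332 F61650) (tt N9866 (iv F64554)) (tt N8330 F61651) (tt N9867 (iv F64559)) (tt N9869 D16327) (tt N8328 (iv D15605)))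
theorem Q9149 : ∀ i, i < 9149 → P i := stepQ 9148 Q9148 (allL N9148 (tt N9731 (iv F64033)) (tt N9861 (iv F64536)) (tt N8532 F61652) (tt N8361 F61653) (tt N9843 (iv F64477)) (tt N9868 (iv F64563)) (tt N9852 (iv F64498)) (tt N9870 D16328) (tt N8329 (iv D15606)))
theorem Q9150 : ∀ i, i < 9150 → P i := stepQ 9149 Q9149 (allL N9149 (tt N9732 (iv F64037)) (tt N9862 (iv F64540)) (tt N8533 F61654) (tt N9871 D16329) (tt N9844 (iv F64479)) (tt N9869 (iv F64566)) (tt N9784 (iv F64236)) (tt N8330 (iv D15607)) (tt N9870 (iv F64568)))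
theorem Q9151 : ∀ i, i < 9151 → P i := stepQ 9150 Q9150 (allL N9150 (tt N9494 (iv F62966)) (tt N9610 (iv F63525)) (tt N8335 F61655) (tt N9867 (iv F64557)) (tt N9582 (iv F63397)) (tt N9489 (iv F62945)) (tt N8332 F61656) (tt N9872 D16330) (tt N8331 (iv D15608)))
theorem Q9152 : ∀ i, i < 9152 → P i := stepQ 9151 Q9151 (allL N9151 (tt N9733 (iv F64040)) (tt N9863 (iv F64543)) (tt N8336 F61657) (tt N9873 D16331) (tt N9583 (iv F63401)) (tt N8333 F61658) (tt N9872 (iv F64571)) (tt N8332 (iv D15609)) (tt N8364 F61659))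
theorem Q9153 : ∀ i, i < 9153 → P i := stepQ 9152 Q9152 (allL N9152 (tt N9734 (iv F64044)) (tt N9864 (iv F64547)) (tt N9747 (iv F64095)) (tt N8333 (iv D15610)) (tt N9874 D16332) (tt N9873 (iv F64573)) (tt N9770 (iv F64175)) (tt N9871 (iv F64569)) (tt N8365 F61660))
theorem Q9154 : ∀ i, i < 9154 → P i := stepQ 9153 Q9153 (allL N9153 (tt N9735 (iv F64048)) (tt N9865 (iv F64550)) (tt N9807 (iv F64335)) (tt N9874 (iv F64575)) (tt N8334 (iv D15611)) (tt N9875 D16333) (tt N9853 (iv F64500)) (tt N9848 (iv F64487)) (tt N8366 F61661))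
theorem Q9155 : ∀ i, i < 9155 → P i := stepQ 9154 Q9154 (allL N9154 (tt N9534 (iv F63163)) (tt N8402 F61662) (tt N9872 (iv F64570)) (tt N9523 (iv F63096)) (tt N9586 (iv F63409)) (tt N9532 (iv F63155)) (tt N8336 F61663) (tt N8335 (iv D15612)) (tt N8367 F61664))
theorem Q9156 : ∀ i, i < 9156 → P i := stepQ 9155 Q9155 (allL N9155 (tt N9571 (iv F63349)) (tt N8630 F61665) (tt N8370 F61666) (tt N9608 (iv F63517)) (tt N8337 (iv D15613)) (tt N9172 (iv F61728)) (tt N8632 (iv F61667)) (tt N8631 (iv F61668)) (tt N9876 D16334))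
theorem Q9157 : ∀ i, i < 9157 → P i := stepQ 9156 Q9156 (allL N9156 (tt N9468 (iv F62830)) (tt N8631 F61669) (tt N8371 F61670) (tt N8340 F61671) (tt N8632 F61672) (tt N8358 F61673) (tt N8337 (iv D15614)) (tt N8630 (iv F61674)) (tt N9877 D16335))
theorem Q9158 : ∀ i, i < 9158 → P i := stepQ 9157 Q9157 (allL N9157 (tt N9551 (iv F63257)) (tt N8632 F61675) (tt N8372 F61676) (tt N9549 (iv F63248)) (tt N8631 F61677) (tt N8338 F61678) (tt N8630 F61679) (tt N8337 (iv D15615)) (tt N9878 D16336))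
theorem Q9159 : ∀ i, i < 9159 → P i := stepQ 9158 Q9158 (allL N9158 (tt N9743 (iv F64079)) (tt N8633 F61680) (tt N8373 F61681) (tt N8341 F61682) (tt N9876 (iv F64580)) (tt N8339 F61683) (tt N9877 (iv F64587)) (tt N9879 D16337) (tt N8337 (iv D15616)))
theorem Q9160 : ∀ i, i < 9160 → P i := stepQ 9159 Q9159 (allL N9159 (tt N9744 (iv F64083)) (tt N8634 F61684) (tt N8374 F61685) (tt N9852 (iv F64497)) (tt N9176 (iv F61745)) (tt N9878 (iv F64591)) (tt N8361 F61686) (tt N9880 D16338) (tt N8338 (iv D15617)))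
theorem Q9161 : ∀ i, i < 9161 → P i := stepQ 9160 Q9160 (allL N9160 (tt N9745 (iv F64087)) (tt N8635 F61687) (tt N8375 F61688) (tt N9881 D16339) (tt N9177 (iv F61749)) (tt N9879 (iv F64595)) (tt N8362 F61689) (tt N8339 (iv D15618)) (tt N9880 (iv F64599)))
theorem Q9162 : ∀ i, i < 9162 → P i := stepQ 9161 Q9161 (allL N9161 (tt N9469 (iv F62837)) (tt N8636 F61690) (tt N8344 F61691) (tt N9877 (iv F64584)) (tt N9467 (iv F62827)) (tt N8363 F61692) (tt N8341 F61693) (tt N9882 D16340) (tt N8340 (iv D15619)))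
theorem Q9163 : ∀ i, i < 9163 → P i := stepQ 9162 Q9162 (allL N9162 (tt N9746 (iv F64090)) (tt N8637 F61694) (tt N8345 F61695) (tt N9883 D16341) (tt N9812 (iv F64356)) (tt N8342 F61696) (tt N9882 (iv F64606)) (tt N8341 (iv D15620)) (tt N9773 (iv F64185)))
theorem Q9164 : ∀ i, i < 9164 → P i := stepQ 9163 Q9163 (allL N9163 (tt N9747 (iv F64094)) (tt N8638 F61697) (tt N9734 (iv F64045)) (tt N8342 (iv D15621)) (tt N9884 D16342) (tt N9883 (iv F64608)) (tt N8365 F61698) (tt N9881 (iv F64602)) (tt N9770 (iv F64176)))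
theorem Q9165 : ∀ i, i < 9165 → P i := stepQ 9164 Q9164 (allL N9164 (tt N9748 (iv F64098)) (tt N8639 F61699) (tt N9808 (iv F64337)) (tt N9884 (iv F64610)) (tt N8343 (iv D15622)) (tt N9885 D16343) (tt N8366 F61700) (tt N9181 (iv F61762)) (tt N9853 (iv F64501)))
theorem Q9166 : ∀ i, i < 9166 → P i := stepQ 9165 Q9165 (allL N9165 (tt N9523 (iv F63094)) (tt N8403 F61701) (tt N9882 (iv F64604)) (tt N9534 (iv F63165)) (tt N9522 (iv F63090)) (tt N8367 F61702) (tt N8345 F61703) (tt N8344 (iv D15623)) (tt N9532 (iv F63157)))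
theorem Q9167 : ∀ i, i < 9167 → P i := stepQ 9166 Q9166 (allL N9166 (tt N8350 F61704) (tt N9577 (iv F63378)) (tt N8437 F61705) (tt N8347 F61706) (tt N9886 D16344) (tt N8346 (iv D15624)) (tt N9570 (iv F63348)) (tt N9887 D16345) (tt N9888 D16346))
theorem Q9168 : ∀ i, i < 9168 → P i := stepQ 9167 Q9167 (allL N9167 (tt N8351 F61707) (tt N9749 (iv F64101)) (tt N8438 F61708) (tt N9854 (iv F64505)) (tt N9012 F61709) (tt N9887 (iv F64624)) (tt N8574 F61710) (tt N8346 (iv D15625)) (tt N9889 D16347))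
theorem Q9169 : ∀ i, i < 9169 → P i := stepQ 9168 Q9168 (allL N9168 (tt N8352 F61711) (tt N9750 (iv F64107)) (tt N8439 F61712) (tt N8348 F61713) (tt N9013 F61714) (tt N9888 (iv F64629)) (tt N8575 F61715) (tt N9890 D16348) (tt N8346 (iv D15626)))
theorem Q9170 : ∀ i, i < 9170 → P i := stepQ 9169 Q9169 (allL N9169 (tt N8354 F61716) (tt N9582 (iv F63395)) (tt N8404 F61717) (tt N9888 (iv F64628)) (tt N9610 (iv F63527)) (tt N8348 F61718) (tt N9573 (iv F63365)) (tt N9891 D16349) (tt N8347 (iv D15627)))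
theorem Q9171 : ∀ i, i < 9171 → P i := stepQ 9170 Q9170 (allL N9170 (tt N8355 F61719) (tt N9751 (iv F64113)) (tt N8405 F61720) (tt N9892 D16350) (tt N8349 F61721) (tt N9891 (iv F64640)) (tt N8577 F61722) (tt N8348 (iv D15628)) (tt N9856 (iv F64516)))
theorem Q9172 : ∀ i, i < 9172 → P i := stepQ 9171 Q9171 (allL N9171 (tt N8356 F61723) (tt N9752 (iv F64118)) (tt N9486 (iv F62926)) (tt N8349 (iv D15629)) (tt N9893 D16351) (tt N9612 (iv F63536)) (tt N8578 F61724) (tt N9016 F61725) (tt N9857 (iv F64519)))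
theorem Q9173 : ∀ i, i < 9173 → P i := stepQ 9172 Q9172 (allL N9172 (tt N9886 (iv F64613)) (tt N8357 F61726) (tt N8443 F61727) (tt N9613 (iv F63539)) (tt N8350 (iv D15630)) (tt N9155 F61728) (tt N9174 (iv F61738)) (tt N9173 F61733) (tt N9894 D16352))
theorem Q9174 : ∀ i, i < 9174 → P i := stepQ 9173 Q9173 (allL N9173 (tt N9570 (iv F63344)) (tt N8358 F61729) (tt N8444 F61730) (tt N8353 F61731) (tt N9174 (iv F61736)) (tt N8631 F61732) (tt N8350 (iv D15631)) (tt N9172 (iv F61733)) (tt N9895 D16353))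
theorem Q9175 : ∀ i, i < 9175 → P i := stepQ 9174 Q9174 (allL N9174 (tt N9887 (iv F64619)) (tt N8359 F61734) (tt N8445 F61735) (tt N9859 (iv F64528)) (tt N9173 F61736) (tt N8351 F61737) (tt N9172 F61738) (tt N8350 (iv D15632)) (tt N9896 D16354))
theorem Q9176 : ∀ i, i < 9176 → P i := stepQ 9175 Q9175 (allL N9175 (tt N9888 (iv F64626)) (tt N8360 F61739) (tt N8446 F61740) (tt N8354 F61741) (tt N9894 (iv F64648)) (tt N8352 F61742) (tt N9895 (iv F64654)) (tt N9897 D16355) (tt N8350 (iv D15633)))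
theorem Q9177 : ∀ i, i < 9177 → P i := stepQ 9176 Q9176 (allL N9176 (tt N9889 (iv F64630)) (tt N8361 F61743) (tt N8447 F61744) (tt N9861 (iv F64538)) (tt N9159 F61745) (tt N9896 (iv F64658)) (tt N8634 F61746) (tt N9898 D16356) (tt N8351 (iv D15634)))
theorem Q9178 : ∀ i, i < 9178 → P i := stepQ 9177 Q9177 (allL N9177 (tt N9890 (iv F64634)) (tt N8362 F61747) (tt N8448 F61748) (tt N9899 D16357) (tt N9160 F61749) (tt N9897 (iv F64662)) (tt N8635 F61750) (tt N8352 (iv D15635)) (tt N9898 (iv F64667)))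
theorem Q9179 : ∀ i, i < 9179 → P i := stepQ 9178 Q9178 (allL N9178 (tt N9573 (iv F63360)) (tt N8363 F61751) (tt N8406 F61752) (tt N9895 (iv F64652)) (tt N9619 (iv F63563)) (tt N8636 F61753) (tt N8354 F61754) (tt N9900 D16358) (tt N8353 (iv D15636)))
theorem Q9180 : ∀ i, i < 9180 → P i := stepQ 9179 Q9179 (allL N9179 (tt N9891 (iv F64638)) (tt N8364 F61755) (tt N8407 F61756) (tt N9901 D16359) (tt N9620 (iv F63568)) (tt N8355 F61757) (tt N9900 (iv F64674)) (tt N8354 (iv D15637)) (tt N9863 (iv F64546)))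
theorem Q9181 : ∀ i, i < 9181 → P i := stepQ 9180 Q9180 (allL N9180 (tt N9892 (iv F64641)) (tt N8365 F61758) (tt N9902 D16360) (tt N8355 (iv D15638)) (tt N9903 D16361) (tt N9901 (iv F64676)) (tt N8638 F61759) (tt N9899 (iv F64670)) (tt N9864 (iv F64549)))
theorem Q9182 : ∀ i, i < 9182 → P i := stepQ 9181 Q9181 (allL N9181 (tt N9893 (iv F64643)) (tt N8366 F61760) (tt N9603 (iv F63491)) (tt N9903 (iv F64680)) (tt N8356 (iv D15639)) (tt N9904 D16362) (tt N8639 F61761) (tt N9164 F61762) (tt N9865 (iv F64552)))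
theorem Q9183 : ∀ i, i < 9183 → P i := stepQ 9182 Q9182 (allL N9182 (tt N9762 (iv F64148)) (tt N9894 (iv F64646)) (tt N8381 F61763) (tt N9623 (iv F63573)) (tt N8360 F61764) (tt N9401 (iv F62596)) (tt N9184 (iv F61771)) (tt N9905 D16363) (tt N8357 (iv D15640)))
theorem Q9184 : ∀ i, i < 9184 → P i := stepQ 9183 Q9183 (allL N9183 (tt N9763 (iv F64151)) (tt N9895 (iv F64650)) (tt N8382 F61765) (tt N8363 F61766) (tt N9184 (iv F61769)) (tt N9877 (iv F64586)) (tt N8360 F61767) (tt N9906 D16364) (tt N8358 (iv D15641)))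
theorem Q9185 : ∀ i, i < 9185 → P i := stepQ 9184 Q9184 (allL N9184 (tt N9764 (iv F64155)) (tt N9896 (iv F64655)) (tt N8383 F61768) (tt N9868 (iv F64561)) (tt N9183 F61769) (tt N8361 F61770) (tt N9182 F61771) (tt N9907 D16365) (tt N8359 (iv D15642)))
theorem Q9186 : ∀ i, i < 9186 → P i := stepQ 9185 Q9185 (allL N9185 (tt N9765 (iv F64160)) (tt N9897 (iv F64660)) (tt N8384 F61772) (tt N9908 D16366) (tt N9905 (iv F64685)) (tt N8362 F61773) (tt N9906 (iv F64687)) (tt N8360 (iv D15643)) (tt N9907 (iv F64693)))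
theorem Q9187 : ∀ i, i < 9187 → P i := stepQ 9186 Q9186 (allL N9186 (tt N9766 (iv F64163)) (tt N9898 (iv F64663)) (tt N8385 F61774) (tt N9909 D16367) (tt N9405 (iv F62605)) (tt N9907 (iv F64691)) (tt N9880 (iv F64598)) (tt N8361 (iv D15644)) (tt N8362 F61775))
theorem Q9188 : ∀ i, i < 9188 → P i := stepQ 9187 Q9187 (allL N9187 (tt N9767 (iv F64166)) (tt N9899 (iv F64668)) (tt N9910 D16368) (tt N8362 (iv D15645)) (tt N9911 D16369) (tt N9908 (iv F64694)) (tt N9881 (iv F64601)) (tt N8365 F61776) (tt N9909 (iv F64696)))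
theorem Q9189 : ∀ i, i < 9189 → P i := stepQ 9188 Q9188 (allL N9188 (tt N9768 (iv F64168)) (tt N9900 (iv F64671)) (tt N8367 F61777) (tt N9912 D16370) (tt N9629 (iv F63586)) (tt N9882 (iv F64605)) (tt N8364 F61778) (tt N8363 (iv D15646)) (tt N9872 (iv F64572)))
theorem Q9190 : ∀ i, i < 9190 → P i := stepQ 9189 Q9189 (allL N9189 (tt N9769 (iv F64171)) (tt N9901 (iv F64675)) (tt N9913 D16371) (tt N8364 (iv D15647)) (tt N9914 D16372) (tt N8365 F61779) (tt N9912 (iv F64700)) (tt N9908 (iv F64695)) (tt N9873 (iv F64574)))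
theorem Q9191 : ∀ i, i < 9191 → P i := stepQ 9190 Q9190 (allL N9190 (tt N9770 (iv F64173)) (tt N9915 D16373) (tt N8365 (iv D15648)) (tt N8369 F61780) (tt N9916 D16374) (tt N9913 (iv F64702)) (tt N9734 (iv F64046)) (tt N9910 (iv F64698)) (tt N9747 (iv F64097)))
theorem Q9192 : ∀ i, i < 9192 → P i := stepQ 9191 Q9191 (allL N9191 (tt N9771 (iv F64178)) (tt N9903 (iv F64679)) (tt N9916 (iv F64704)) (tt N8366 F61781) (tt N8365 (iv D15649)) (tt N9917 D16375) (tt N9884 (iv F64611)) (tt N9911 (iv F64699)) (tt N9874 (iv F64576)))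
theorem Q9193 : ∀ i, i < 9193 → P i := stepQ 9192 Q9192 (allL N9192 (tt N9772 (iv F64180)) (tt N9904 (iv F64682)) (tt N9822 (iv F64381)) (tt N9917 (iv F64705)) (tt N9633 (iv F63592)) (tt N8366 (iv D15650)) (tt N9918 D16376) (tt N9411 (iv F62613)) (tt N9875 (iv F64577)))
theorem Q9194 : ∀ i, i < 9194 → P i := stepQ 9193 Q9193 (allL N9193 (tt N9773 (iv F64181)) (tt N9485 (iv F62920)) (tt N8368 (iv D15651)) (tt N9913 (iv F64701)) (tt N9484 (iv F62917)) (tt N8369 F61782) (tt N9495 (iv F62975)) (tt N8391 F61783) (tt N9746 (iv F64093)))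
theorem Q9195 : ∀ i, i < 9195 → P i := stepQ 9194 Q9194 (allL N9194 (tt N9601 (iv F63484)) (tt N8369 (iv D15652)) (tt N8412 F61784) (tt N9915 (iv F64703)) (tt N9722 (iv F63994)) (tt N9485 (iv F62923)) (tt N9726 (iv F64013)) (tt N8392 F61785) (tt N9741 (iv F64075)))
theorem Q9196 : ∀ i, i < 9196 → P i := stepQ 9195 Q9195 (allL N9195 (tt N9774 (iv F64186)) (tt N8465 F61786) (tt N9876 (iv F64579)) (tt N9195 F61787) (tt N8373 F61788) (tt N9255 (iv F62037)) (tt N8645 F61789) (tt N9919 D16377) (tt N8370 (iv D15653)))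
theorem Q9197 : ∀ i, i < 9197 → P i := stepQ 9196 Q9196 (allL N9196 (tt N9775 (iv F64191)) (tt N8466 F61790) (tt N9877 (iv F64583)) (tt N8376 F61791) (tt N8645 F61792) (tt N8382 F61793) (tt N8373 F61794) (tt N9920 D16378) (tt N8371 (iv D15654)))
theorem Q9198 : ∀ i, i < 9198 → P i := stepQ 9197 Q9197 (allL N9197 (tt N9776 (iv F64197)) (tt N8467 F61795) (tt N9878 (iv F64589)) (tt N8536 F61796) (tt N8644 F61797) (tt N8374 F61798) (tt N8643 F61799) (tt N9921 D16379) (tt N8372 (iv D15655)))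
theorem Q9199 : ∀ i, i < 9199 → P i := stepQ 9198 Q9198 (allL N9198 (tt N9777 (iv F64203)) (tt N8468 F61800) (tt N9879 (iv F64594)) (tt N9922 D16380) (tt N9919 (iv F64707)) (tt N8375 F61801) (tt N9920 (iv F64713)) (tt N8373 (iv D15656)) (tt N9921 (iv F64719)))
theorem Q9200 : ∀ i, i < 9200 → P i := stepQ 9199 Q9199 (allL N9199 (tt N9778 (iv F64207)) (tt N8469 F61802) (tt N9880 (iv F64597)) (tt N9923 D16381) (tt N9259 (iv F62050)) (tt N9921 (iv F64717)) (tt N8385 F61803) (tt N8374 (iv D15657)) (tt N8375 F61804))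
theorem Q9201 : ∀ i, i < 9201 → P i := stepQ 9200 Q9200 (allL N9200 (tt N8533 F61805) (tt N8470 F61806) (tt N9732 (iv F64038)) (tt N8375 (iv D15658)) (tt N9924 D16382) (tt N9922 (iv F64722)) (tt N8386 F61807) (tt N8378 F61808) (tt N9923 (iv F64728)))
theorem Q9202 : ∀ i, i < 9202 → P i := stepQ 9201 Q9201 (allL N9201 (tt N8534 F61809) (tt N8471 F61810) (tt N8380 F61811) (tt N9925 D16383) (tt N9201 F61812) (tt N8387 F61813) (tt N8377 F61814) (tt N8376 (iv D15659)) (tt N8502 F61815))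
theorem Q9203 : ∀ i, i < 9203 → P i := stepQ 9202 Q9202 (allL N9202 (tt N8531 F61816) (tt N8472 F61817) (tt N9730 (iv F64030)) (tt N8377 (iv D15660)) (tt N9926 D16384) (tt N8378 F61818) (tt N9925 (iv F64737)) (tt N9922 (iv F64723)) (tt N8500 F61819))
theorem Q9204 : ∀ i, i < 9204 → P i := stepQ 9203 Q9203 (allL N9203 (tt N8522 F61820) (tt N8474 F61821) (tt N9715 (iv F63967)) (tt N8379 F61822) (tt N8378 (iv D15661)) (tt N9129 (iv F61825)) (tt N8390 F61823) (tt N9924 (iv F64732)) (tt N8497 F61824))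
theorem Q9205 : ∀ i, i < 9205 → P i := stepQ 9204 Q9204 (allL N9204 (tt N9779 (iv F64212)) (tt N8477 F61826) (tt N9905 (iv F64684)) (tt N9927 D16385) (tt N8384 F61827) (tt N9416 (iv F62625)) (tt N9206 (iv F61834)) (tt N8381 (iv D15662)) (tt N9205 (iv F61830)))
theorem Q9206 : ∀ i, i < 9206 → P i := stepQ 9205 Q9205 (allL N9205 (tt N9780 (iv F64215)) (tt N8478 F61828) (tt N9906 (iv F64686)) (tt N9928 D16386) (tt N9206 (iv F61832)) (tt N9920 (iv F64712)) (tt N8384 F61829) (tt N8382 (iv D15663)) (tt N9204 F61830))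
theorem Q9207 : ∀ i, i < 9207 → P i := stepQ 9206 Q9206 (allL N9206 (tt N9781 (iv F64219)) (tt N8479 F61831) (tt N9907 (iv F64689)) (tt N9684 (iv F63817)) (tt N9205 F61832) (tt N8385 F61833) (tt N9204 F61834) (tt N8383 (iv D15664)) (tt N8384 F61835))
theorem Q9208 : ∀ i, i < 9208 → P i := stepQ 9207 Q9207 (allL N9207 (tt N9782 (iv F64225)) (tt N8480 F61836) (tt N9929 D16387) (tt N8384 (iv D15665)) (tt N9111 (iv F61839)) (tt N8386 F61837) (tt N9928 (iv F64753)) (tt N8388 F61838) (tt N9684 (iv F63820)))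
theorem Q9209 : ∀ i, i < 9209 → P i := stepQ 9208 Q9208 (allL N9208 (tt N9783 (iv F64230)) (tt N8481 F61840) (tt N9930 D16388) (tt N8385 (iv D15666)) (tt N9931 D16389) (tt N9684 (iv F63819)) (tt N9923 (iv F64726)) (tt N8538 F61841) (tt N8386 F61842))
theorem Q9210 : ∀ i, i < 9210 → P i := stepQ 9209 Q9209 (allL N9209 (tt N9784 (iv F64235)) (tt N9932 D16390) (tt N8386 (iv D15667)) (tt N9910 (iv F64697)) (tt N9933 D16391) (tt N9929 (iv F64758)) (tt N9732 (iv F64039)) (tt N8389 F61843) (tt N9930 (iv F64761)))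
theorem Q9211 : ∀ i, i < 9211 → P i := stepQ 9210 Q9210 (allL N9210 (tt N9785 (iv F64239)) (tt N8483 F61844) (tt N9933 (iv F64769)) (tt N9422 (iv F62639)) (tt N8386 (iv D15668)) (tt N9115 F61845) (tt N9924 (iv F64731)) (tt N8390 F61846) (tt N9931 (iv F64765)))
theorem Q9212 : ∀ i, i < 9212 → P i := stepQ 9211 Q9211 (allL N9211 (tt N9786 (iv F64244)) (tt N8484 F61847) (tt N9493 (iv F62963)) (tt N8387 (iv D15669)) (tt N8798 F61848) (tt N9925 (iv F64736)) (tt N8388 F61849) (tt N9928 (iv F64754)) (tt N8540 F61850))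
theorem Q9213 : ∀ i, i < 9213 → P i := stepQ 9212 Q9212 (allL N9212 (tt N9787 (iv F64250)) (tt N9082 F61851) (tt N8388 (iv D15670)) (tt N8391 F61852) (tt N9081 F61853) (tt N8389 F61854) (tt N9493 (iv F62965)) (tt N9929 (iv F64759)) (tt N8541 F61855))
theorem Q9214 : ∀ i, i < 9214 → P i := stepQ 9213 Q9213 (allL N9213 (tt N9598 (iv F63471)) (tt N8389 (iv D15671)) (tt N8485 F61856) (tt N8392 F61857) (tt N9385 (iv F62550)) (tt N9082 F61858) (tt N9725 (iv F64009)) (tt N9932 (iv F64768)) (tt N8542 F61859))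
theorem Q9215 : ∀ i, i < 9215 → P i := stepQ 9214 Q9214 (allL N9214 (tt N9788 (iv F64256)) (tt N9385 (iv F62548)) (tt N8390 F61860) (tt N9706 (iv F63927)) (tt N8389 (iv D15672)) (tt N9113 F61861) (tt N9715 (iv F63970)) (tt N9933 (iv F64771)) (tt N8543 F61862))
theorem Q9216 : ∀ i, i < 9216 → P i := stepQ 9215 Q9215 (allL N9215 (tt N9103 F61863) (tt N8486 F61864) (tt N9934 D16392) (tt N8393 (iv D15673)) (tt N8940 F61865) (tt N9432 (iv F62669)) (tt N8947 F61866) (tt N9927 (iv F64750)) (tt N8939 F61867))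
theorem Q9217 : ∀ i, i < 9217 → P i := stepQ 9216 Q9216 (allL N9216 (tt N8399 F61868) (tt N8413 F61869) (tt N9856 (iv F64513)) (tt N9935 D16393) (tt N8397 F61870) (tt N9669 (iv F63746)) (tt N8569 F61871) (tt N8396 (iv D15674)) (tt N8405 F61872))
theorem Q9218 : ∀ i, i < 9218 → P i := stepQ 9217 Q9217 (allL N9217 (tt N9669 (iv F63743)) (tt N8400 F61873) (tt N9863 (iv F64544)) (tt N9936 D16394) (tt N9658 (iv F63680)) (tt N8399 F61874) (tt N9667 (iv F63736)) (tt N8398 (iv D15675)) (tt N8407 F61875))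
theorem Q9219 : ∀ i, i < 9219 → P i := stepQ 9218 Q9218 (allL N9218 (tt N9935 (iv F64777)) (tt N8401 F61876) (tt N9937 D16395) (tt N8399 (iv D15676)) (tt N9568 (iv F63333)) (tt N9936 (iv F64783)) (tt N8629 F61877) (tt N9218 F61878) (tt N8408 F61879))
theorem Q9220 : ∀ i, i < 9220 → P i := stepQ 9219 Q9219 (allL N9219 (tt N8415 F61880) (tt N9936 (iv F64782)) (tt N9521 (iv F63082)) (tt N8400 (iv D15677)) (tt N9938 D16396) (tt N8401 F61881) (tt N9527 (iv F63123)) (tt N9219 F61882) (tt N8410 F61883))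
theorem Q9221 : ∀ i, i < 9221 → P i := stepQ 9220 Q9220 (allL N9220 (tt N8407 F61884) (tt N8416 F61885) (tt N9891 (iv F64639)) (tt N9939 D16397) (tt N9667 (iv F63734)) (tt N8405 F61886) (tt N9658 (iv F63682)) (tt N8404 (iv D15678)) (tt N9669 (iv F63748)))
theorem Q9222 : ∀ i, i < 9222 → P i := stepQ 9221 Q9221 (allL N9221 (tt N8408 F61887) (tt N8417 F61888) (tt N9940 D16398) (tt N8405 (iv D15679)) (tt N9487 (iv F62930)) (tt N9939 (iv F64798)) (tt N8580 F61889) (tt N8489 F61890) (tt N9935 (iv F64781)))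
theorem Q9223 : ∀ i, i < 9223 → P i := stepQ 9222 Q9222 (allL N9222 (tt N9658 (iv F63678)) (tt N8409 F61891) (tt N9900 (iv F64672)) (tt N9538 (iv F63186)) (tt N9669 (iv F63745)) (tt N8640 F61892) (tt N8407 F61893) (tt N8406 (iv D15680)) (tt N9667 (iv F63737)))
theorem Q9224 : ∀ i, i < 9224 → P i := stepQ 9223 Q9223 (allL N9223 (tt N9939 (iv F64796)) (tt N8410 F61894) (tt N9941 D16399) (tt N8407 (iv D15681)) (tt N9942 D16400) (tt N8408 F61895) (tt N9538 (iv F63189)) (tt N8491 F61896) (tt N9936 (iv F64785)))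
theorem Q9225 : ∀ i, i < 9225 → P i := stepQ 9224 Q9224 (allL N9224 (tt N9940 (iv F64800)) (tt N9943 D16401) (tt N8408 (iv D15682)) (tt N9902 (iv F64677)) (tt N9606 (iv F63506)) (tt N9941 (iv F64803)) (tt N8642 F61897) (tt N8492 F61898) (tt N9937 (iv F64788)))
theorem Q9226 : ∀ i, i < 9226 → P i := stepQ 9225 Q9225 (allL N9225 (tt N8419 F61899) (tt N9942 (iv F64805)) (tt N8417 F61900) (tt N9674 (iv F63769)) (tt N8410 (iv D15683)) (tt N9665 (iv F63725)) (tt N8605 F61901) (tt N8493 F61902) (tt N9938 (iv F64795)))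
theorem Q9227 : ∀ i, i < 9227 → P i := stepQ 9226 Q9226 (allL N9226 (tt N9605 (iv F63500)) (tt N8411 (iv D15684)) (tt N9943 (iv F64808)) (tt N8412 F61903) (tt N9666 (iv F63729)) (tt N9487 (iv F62931)) (tt N8667 F61904) (tt N8494 F61905) (tt N9792 (iv F64279)))
theorem Q9228 : ∀ i, i < 9228 → P i := stepQ 9227 Q9227 (allL N9227 (tt N8414 F61906) (tt N9935 (iv F64778)) (tt N9938 (iv F64790)) (tt N8413 (iv D15685)) (tt N9521 (iv F63083)) (tt N9672 (iv F63756)) (tt N8599 F61907) (tt N9227 F61908) (tt N8417 F61909))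
theorem Q9229 : ∀ i, i < 9229 → P i := stepQ 9228 Q9228 (allL N9228 (tt N9938 (iv F64789)) (tt N8612 F61910) (tt N8414 (iv D15686)) (tt N8614 F61911) (tt N8415 F61912) (tt N8613 F61913) (tt N8611 F61914) (tt N9228 F61915) (tt N8419 F61916))
theorem Q9230 : ∀ i, i < 9230 → P i := stepQ 9229 Q9229 (allL N9229 (tt N8418 F61917) (tt N9939 (iv F64797)) (tt N9665 (iv F63723)) (tt N8416 (iv D15687)) (tt N9664 F63721) (tt N8417 F61918) (tt N9544 (iv F63224)) (tt N8496 F61919) (tt N9672 (iv F63759)))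
theorem Q9231 : ∀ i, i < 9231 → P i := stepQ 9230 Q9230 (allL N9230 (tt N9230 F61920) (tt N8742 F61921) (tt N9284 (iv F62159)) (tt N8544 F61922) (tt N8688 F61923) (tt N8421 F61924) (tt N9285 (iv F62167)) (tt N9944 D16402) (tt N8420 (iv D15688)))
theorem Q9232 : ∀ i, i < 9232 → P i := stepQ 9231 Q9231 (allL N9231 (tt N9231 F61925) (tt N8744 F61926) (tt N9289 F62187) (tt N9945 D16403) (tt N8422 F61927) (tt N9944 (iv F64815)) (tt N8424 F61928) (tt N8421 (iv D15689)) (tt N8944 F61929))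
theorem Q9233 : ∀ i, i < 9233 → P i := stepQ 9232 Q9232 (allL N9232 (tt N9232 F61930) (tt N9805 (iv F64327)) (tt N9269 (iv F62092)) (tt N8424 (iv D15690)) (tt N8436 F61931) (tt N9271 (iv F62102)) (tt N9945 (iv F64821)) (tt N8546 F61932) (tt N8952 F61933))
theorem Q9234 : ∀ i, i < 9234 → P i := stepQ 9233 Q9233 (allL N9233 (tt N9233 F61934) (tt N9830 (iv F64412)) (tt N9946 D16404) (tt N8425 (iv D15691)) (tt N9945 (iv F64819)) (tt N8680 F61935) (tt N8436 F61936) (tt N8547 F61937) (tt N9242 (iv F61982)))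
theorem Q9235 : ∀ i, i < 9235 → P i := stepQ 9234 Q9234 (allL N9234 (tt N8428 F61938) (tt N9234 F61939) (tt N9827 (iv F64400)) (tt N9234 F61940) (tt N8513 F61941) (tt N8426 (iv D15692)) (tt N8521 (iv F61943)) (tt N8516 F61942) (tt N9947 D16405))
theorem Q9236 : ∀ i, i < 9236 → P i := stepQ 9235 Q9235 (allL N9235 (tt N8429 F61944) (tt N9235 F61945) (tt N9832 (iv F64422)) (tt N9235 F61946) (tt N8427 F61947) (tt N9947 (iv F64833)) (tt N8563 F61948) (tt N9948 D16406) (tt N8426 (iv D15693)))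
theorem Q9237 : ∀ i, i < 9237 → P i := stepQ 9236 Q9236 (allL N9236 (tt N8430 F61949) (tt N9236 F61950) (tt N9833 (iv F64426)) (tt N9106 F61951) (tt N9948 (iv F64837)) (tt N9683 (iv F63814)) (tt N8564 F61952) (tt N8427 (iv D15694)) (tt N8979 F61953))
theorem Q9238 : ∀ i, i < 9238 → P i := stepQ 9237 Q9237 (allL N9237 (tt N8521 F61954) (tt N8431 F61955) (tt N9714 (iv F63961)) (tt N9237 F61956) (tt N8501 F61957) (tt N8619 F61958) (tt N8428 (iv D15695)) (tt N8497 F61959) (tt N9949 D16407))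
theorem Q9239 : ∀ i, i < 9239 → P i := stepQ 9238 Q9238 (allL N9238 (tt N9947 (iv F64829)) (tt N8432 F61960) (tt N9837 (iv F64447)) (tt N9238 F61961) (tt N8538 F61962) (tt N8429 F61963) (tt N9949 (iv F64845)) (tt N9931 (iv F64764)) (tt N8428 (iv D15696)))
theorem Q9240 : ∀ i, i < 9240 → P i := stepQ 9239 Q9239 (allL N9239 (tt N9948 (iv F64835)) (tt N8433 F61964) (tt N9838 (iv F64451)) (tt N9950 D16408) (tt N8430 F61965) (tt N9931 (iv F64763)) (tt N8621 F61966) (tt N8429 (iv D15697)) (tt N9115 F61967))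
theorem Q9241 : ∀ i, i < 9241 → P i := stepQ 9240 Q9240 (allL N9240 (tt N9240 F61968) (tt N9949 (iv F64841)) (tt N8434 F61969) (tt N9240 F61970) (tt N8554 F61971) (tt N8671 F61972) (tt N8432 F61973) (tt N9951 D16409) (tt N8431 (iv D15698)))
theorem Q9242 : ∀ i, i < 9242 → P i := stepQ 9241 Q9241 (allL N9241 (tt N9241 F61974) (tt N9931 (iv F64762)) (tt N8435 F61975) (tt N9445 (iv F62715)) (tt N8481 F61976) (tt N8433 F61977) (tt N9951 (iv F64854)) (tt N8432 (iv D15699)) (tt N8483 F61978))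
theorem Q9243 : ∀ i, i < 9243 → P i := stepQ 9242 Q9242 (allL N9242 (tt N9242 F61979) (tt N9950 (iv F64846)) (tt N9952 D16410) (tt N8433 (iv D15700)) (tt N9681 (iv F63803)) (tt N9445 F62718) (tt N8673 F61980) (tt N9242 F61981) (tt N9233 F61982))
theorem Q9244 : ∀ i, i < 9244 → P i := stepQ 9243 Q9243 (allL N9243 (tt N9243 F61983) (tt N9849 (iv F64488)) (tt N9951 (iv F64851)) (tt N9953 D16411) (tt N9685 (iv F63823)) (tt N9283 F62157) (tt N8435 F61984) (tt N8434 (iv D15701)) (tt N9436 (iv F62685)))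
theorem Q9245 : ∀ i, i < 9245 → P i := stepQ 9244 Q9244 (allL N9244 (tt N9244 F61985) (tt N9850 (iv F64490)) (tt N9954 D16412) (tt N8435 (iv D15702)) (tt N9955 D16413) (tt N8436 F61986) (tt N9953 (iv F64863)) (tt N8548 F61987) (tt N9437 (iv F62689)))
theorem Q9246 : ∀ i, i < 9246 → P i := stepQ 9245 Q9245 (allL N9245 (tt N9245 F61988) (tt N9956 D16414) (tt N8436 (iv D15703)) (tt N9952 (iv F64857)) (tt N9269 F62095) (tt N9954 (iv F64866)) (tt N9946 (iv F64827)) (tt N8549 F61989) (tt N9438 (iv F62692)))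
theorem Q9247 : ∀ i, i < 9247 → P i := stepQ 9246 Q9246 (allL N9246 (tt N8443 F61990) (tt N9246 F61991) (tt N9886 (iv F64615)) (tt N9246 F61992) (tt N8437 (iv D15704)) (tt N9040 F61993) (tt N9248 (iv F62004)) (tt N9247 F61998) (tt N9957 D16415))
theorem Q9248 : ∀ i, i < 9248 → P i := stepQ 9247 Q9247 (allL N9247 (tt N8444 F61994) (tt N9247 F61995) (tt N9570 (iv F63346)) (tt N8440 F61996) (tt N9248 (iv F62002)) (tt N8582 F61997) (tt N8437 (iv D15705)) (tt N9246 (iv F61998)) (tt N9958 D16416))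
theorem Q9249 : ∀ i, i < 9249 → P i := stepQ 9248 Q9248 (allL N9248 (tt N8445 F61999) (tt N9248 F62000) (tt N9887 (iv F64621)) (tt N9248 F62001) (tt N9247 F62002) (tt N8438 F62003) (tt N9246 F62004) (tt N8437 (iv D15706)) (tt N9959 D16417))
theorem Q9250 : ∀ i, i < 9250 → P i := stepQ 9249 Q9249 (allL N9249 (tt N8446 F62005) (tt N9249 F62006) (tt N9888 (iv F64627)) (tt N8441 F62007) (tt N9957 (iv F64877)) (tt N8439 F62008) (tt N9958 (iv F64883)) (tt N9960 D16418) (tt N8437 (iv D15707)))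
theorem Q9251 : ∀ i, i < 9251 → P i := stepQ 9250 Q9250 (allL N9250 (tt N8447 F62009) (tt N9250 F62010) (tt N9889 (iv F64631)) (tt N9250 F62011) (tt N9044 F62012) (tt N9959 (iv F64888)) (tt N8585 F62013) (tt N9961 D16419) (tt N8438 (iv D15708)))
theorem Q9252 : ∀ i, i < 9252 → P i := stepQ 9251 Q9251 (allL N9251 (tt N8448 F62014) (tt N9251 F62015) (tt N9890 (iv F64635)) (tt N9962 D16420) (tt N9045 F62016) (tt N9960 (iv F64892)) (tt N8586 F62017) (tt N8439 (iv D15709)) (tt N9961 (iv F64897)))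
theorem Q9253 : ∀ i, i < 9253 → P i := stepQ 9252 Q9252 (allL N9252 (tt N8449 F62018) (tt N9252 F62019) (tt N8487 F62020) (tt N9958 (iv F64881)) (tt N9252 F62021) (tt N8587 F62022) (tt N8441 F62023) (tt N9963 D16421) (tt N8440 (iv D15710)))
theorem Q9254 : ∀ i, i < 9254 → P i := stepQ 9253 Q9253 (allL N9253 (tt N8450 F62024) (tt N9253 F62025) (tt N8488 F62026) (tt N9964 D16422) (tt N9253 F62027) (tt N8442 F62028) (tt N9963 (iv F64907)) (tt N8441 (iv D15711)) (tt N9253 F62029))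
theorem Q9255 : ∀ i, i < 9255 → P i := stepQ 9254 Q9254 (allL N9254 (tt N8451 F62030) (tt N9254 F62031) (tt N9965 D16423) (tt N8442 (iv D15712)) (tt N9314 (iv F62306)) (tt N9964 (iv F64911)) (tt N8589 F62032) (tt N9962 (iv F64901)) (tt N9254 F62033))
theorem Q9256 : ∀ i, i < 9256 → P i := stepQ 9255 Q9255 (allL N9255 (tt N9957 (iv F64874)) (tt N8453 F62034) (tt N9894 (iv F64647)) (tt N9255 F62035) (tt N8446 F62036) (tt N9195 F62037) (tt N9257 (iv F62046)) (tt N9966 D16424) (tt N8443 (iv D15713)))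
theorem Q9257 : ∀ i, i < 9257 → P i := stepQ 9256 Q9256 (allL N9256 (tt N9958 (iv F64879)) (tt N8454 F62038) (tt N9895 (iv F64651)) (tt N8449 F62039) (tt N9257 (iv F62044)) (tt N8644 F62040) (tt N8446 F62041) (tt N9967 D16425) (tt N8444 (iv D15714)))
theorem Q9258 : ∀ i, i < 9258 → P i := stepQ 9257 Q9257 (allL N9257 (tt N9959 (iv F64884)) (tt N8455 F62042) (tt N9896 (iv F64656)) (tt N9257 F62043) (tt N9256 F62044) (tt N8447 F62045) (tt N9255 F62046) (tt N9968 D16426) (tt N8445 (iv D15715)))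
theorem Q9259 : ∀ i, i < 9259 → P i := stepQ 9258 Q9258 (allL N9258 (tt N9960 (iv F64890)) (tt N8456 F62047) (tt N9897 (iv F64661)) (tt N9969 D16427) (tt N9966 (iv F64918)) (tt N8448 F62048) (tt N9967 (iv F64922)) (tt N8446 (iv D15716)) (tt N9968 (iv F64928)))
theorem Q9260 : ∀ i, i < 9260 → P i := stepQ 9259 Q9259 (allL N9259 (tt N9961 (iv F64893)) (tt N8457 F62049) (tt N9898 (iv F64664)) (tt N9970 D16428) (tt N9199 F62050) (tt N9968 (iv F64926)) (tt N8647 F62051) (tt N8447 (iv D15717)) (tt N8448 F62052))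
theorem Q9261 : ∀ i, i < 9261 → P i := stepQ 9260 Q9260 (allL N9260 (tt N9962 (iv F64898)) (tt N8458 F62053) (tt N9971 D16429) (tt N8448 (iv D15718)) (tt N9972 D16430) (tt N9969 (iv F64930)) (tt N8648 F62054) (tt N8451 F62055) (tt N9970 (iv F64936)))
theorem Q9262 : ∀ i, i < 9262 → P i := stepQ 9261 Q9261 (allL N9261 (tt N9963 (iv F64902)) (tt N8459 F62056) (tt N8490 F62057) (tt N9973 D16431) (tt N9261 F62058) (tt N8649 F62059) (tt N8450 F62060) (tt N8449 (iv D15719)) (tt N9261 F62061))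
theorem Q9263 : ∀ i, i < 9263 → P i := stepQ 9262 Q9262 (allL N9262 (tt N9964 (iv F64909)) (tt N8460 F62062) (tt N9974 D16432) (tt N8450 (iv D15720)) (tt N9327 (iv F62355)) (tt N8451 F62063) (tt N9973 (iv F64945)) (tt N9969 (iv F64931)) (tt N9262 F62064))
theorem Q9264 : ∀ i, i < 9264 → P i := stepQ 9263 Q9263 (allL N9263 (tt N9965 (iv F64913)) (tt N9975 D16433) (tt N8451 (iv D15721)) (tt N8492 F62065) (tt N9976 D16434) (tt N9974 (iv F64948)) (tt N8651 F62066) (tt N9971 (iv F64938)) (tt N9263 F62067))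
theorem Q9265 : ∀ i, i < 9265 → P i := stepQ 9264 Q9264 (allL N9264 (tt N9314 (iv F62304)) (tt N8462 F62068) (tt N9976 (iv F64954)) (tt N8452 F62069) (tt N8451 (iv D15722)) (tt N9977 D16435) (tt N8652 F62070) (tt N9972 (iv F64942)) (tt N9264 F62071))
theorem Q9266 : ∀ i, i < 9266 → P i := stepQ 9265 Q9265 (allL N9265 (tt N9313 (iv F62297)) (tt N8463 F62072) (tt N9297 (iv F62214)) (tt N9977 (iv F64958)) (tt N9265 F62073) (tt N8452 (iv D15723)) (tt N8526 F62074) (tt N8525 F62075) (tt N9265 F62076))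
theorem Q9267 : ∀ i, i < 9267 → P i := stepQ 9266 Q9266 (allL N9266 (tt N9266 F62077) (tt N9966 (iv F64917)) (tt N8477 F62078) (tt N9978 D16436) (tt N8456 F62079) (tt N9277 (iv F62127)) (tt N9268 (iv F62089)) (tt N8453 (iv D15724)) (tt N9267 (iv F62084)))
theorem Q9268 : ∀ i, i < 9268 → P i := stepQ 9267 Q9267 (allL N9267 (tt N9267 F62080) (tt N9967 (iv F64920)) (tt N8478 F62081) (tt N9979 D16437) (tt N9268 (iv F62087)) (tt N8675 F62082) (tt N8456 F62083) (tt N8454 (iv D15725)) (tt N9266 F62084))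
theorem Q9269 : ∀ i, i < 9269 → P i := stepQ 9268 Q9268 (allL N9268 (tt N9268 F62085) (tt N9968 (iv F64924)) (tt N8479 F62086) (tt N9687 (iv F63834)) (tt N9267 F62087) (tt N8457 F62088) (tt N9266 F62089) (tt N8455 (iv D15726)) (tt N8456 F62090))
theorem Q9270 : ∀ i, i < 9270 → P i := stepQ 9269 Q9269 (allL N9269 (tt N9269 F62091) (tt N9969 (iv F64929)) (tt N9232 F62092) (tt N8456 (iv D15727)) (tt N9245 (iv F62095)) (tt N8458 F62093) (tt N9979 (iv F64970)) (tt N8460 F62094) (tt N9687 (iv F63838)))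
theorem Q9271 : ∀ i, i < 9271 → P i := stepQ 9270 Q9270 (allL N9270 (tt N9270 F62096) (tt N9970 (iv F64933)) (tt N9686 (iv F63828)) (tt N8457 (iv D15728)) (tt N9980 D16438) (tt N9687 (iv F63836)) (tt N8678 F62097) (tt N9270 F62098) (tt N8458 F62099))
theorem Q9272 : ∀ i, i < 9272 → P i := stepQ 9271 Q9271 (allL N9271 (tt N9271 F62100) (tt N9981 D16439) (tt N8458 (iv D15729)) (tt N8482 F62101) (tt N9982 D16440) (tt N9232 F62102) (tt N8679 F62103) (tt N8461 F62104) (tt N9686 (iv F63832)))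
theorem Q9273 : ∀ i, i < 9273 → P i := stepQ 9272 Q9272 (allL N9272 (tt N9272 F62105) (tt N9972 (iv F64939)) (tt N9982 (iv F64983)) (tt N9283 (iv F62154)) (tt N8458 (iv D15730)) (tt N9953 (iv F64862)) (tt N8680 F62106) (tt N8462 F62107) (tt N9980 (iv F64977)))
theorem Q9274 : ∀ i, i < 9274 → P i := stepQ 9273 Q9273 (allL N9273 (tt N9273 F62108) (tt N9973 (iv F64943)) (tt N9323 (iv F62332)) (tt N8459 (iv D15731)) (tt N9324 (iv F62339)) (tt N8681 F62109) (tt N8460 F62110) (tt N9979 (iv F64971)) (tt N9273 F62111))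
theorem Q9275 : ∀ i, i < 9275 → P i := stepQ 9274 Q9274 (allL N9274 (tt N9639 (iv F63609)) (tt N8461 (iv D15732)) (tt N9975 (iv F64950)) (tt N8464 F62112) (tt N9983 D16441) (tt N9306 (iv F62266)) (tt N8684 F62113) (tt N9981 (iv F64981)) (tt N9274 F62114))
theorem Q9276 : ∀ i, i < 9276 → P i := stepQ 9275 Q9275 (allL N9275 (tt N9275 F62115) (tt N9983 (iv F64987)) (tt N8462 F62116) (tt N9275 F62117) (tt N8461 (iv D15733)) (tt N9326 (iv F62351)) (tt N8685 F62118) (tt N9982 (iv F64986)) (tt N9275 F62119))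
theorem Q9277 : ∀ i, i < 9277 → P i := stepQ 9276 Q9276 (allL N9276 (tt N9276 F62120) (tt N9977 (iv F64957)) (tt N9326 (iv F62349)) (tt N8463 F62121) (tt N9325 F62347) (tt N8462 (iv D15734)) (tt N8548 F62122) (tt N9953 (iv F64864)) (tt N9276 F62123))
theorem Q9278 : ∀ i, i < 9278 → P i := stepQ 9277 Q9277 (allL N9277 (tt N9277 F62124) (tt N9919 (iv F64706)) (tt N8674 F62125) (tt N9984 D16442) (tt N8468 F62126) (tt N9266 F62127) (tt N8676 F62128) (tt N8465 (iv D15735)) (tt N8675 F62129))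
theorem Q9279 : ∀ i, i < 9279 → P i := stepQ 9278 Q9278 (allL N9278 (tt N9278 F62130) (tt N9920 (iv F64710)) (tt N8675 F62131) (tt N9985 D16443) (tt N8676 F62132) (tt N8478 F62133) (tt N8468 F62134) (tt N8466 (iv D15736)) (tt N8674 F62135))
theorem Q9280 : ∀ i, i < 9280 → P i := stepQ 9279 Q9279 (allL N9279 (tt N9279 F62136) (tt N9921 (iv F64715)) (tt N8676 F62137) (tt N9986 D16444) (tt N8675 F62138) (tt N8469 F62139) (tt N8674 F62140) (tt N8467 (iv D15737)) (tt N8468 F62141))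
theorem Q9281 : ∀ i, i < 9281 → P i := stepQ 9280 Q9280 (allL N9280 (tt N9280 F62142) (tt N9922 (iv F64721)) (tt N9987 D16445) (tt N8468 (iv D15738)) (tt N9988 D16446) (tt N8470 F62143) (tt N9985 (iv F64999)) (tt N8472 F62144) (tt N9986 (iv F65007)))
theorem Q9282 : ∀ i, i < 9282 → P i := stepQ 9281 Q9281 (allL N9281 (tt N9281 F62145) (tt N9923 (iv F64725)) (tt N9685 (iv F63822)) (tt N8469 (iv D15739)) (tt N9951 (iv F64852)) (tt N9986 (iv F65004)) (tt N8481 F62146) (tt N8554 F62147) (tt N8470 F62148))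
theorem Q9283 : ∀ i, i < 9283 → P i := stepQ 9282 Q9282 (allL N9282 (tt N9282 F62149) (tt N9989 D16447) (tt N8470 (iv D15740)) (tt N8679 F62150) (tt N9436 (iv F62683)) (tt N9987 (iv F65010)) (tt N8482 F62151) (tt N8473 F62152) (tt N9685 (iv F63825)))
theorem Q9284 : ∀ i, i < 9284 → P i := stepQ 9283 Q9283 (allL N9283 (tt N9283 F62153) (tt N9924 (iv F64730)) (tt N9436 (iv F62682)) (tt N9272 F62154) (tt N8470 (iv D15741)) (tt N9243 (iv F62157)) (tt N8483 F62155) (tt N8474 F62156) (tt N9951 (iv F64855)))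
theorem Q9285 : ∀ i, i < 9285 → P i := stepQ 9284 Q9284 (allL N9284 (tt N9284 F62158) (tt N9925 (iv F64735)) (tt N9230 F62159) (tt N8471 (iv D15742)) (tt N8943 (iv F62163)) (tt N8484 F62160) (tt N8472 F62161) (tt N9985 (iv F65000)) (tt N8555 F62162))
theorem Q9286 : ∀ i, i < 9286 → P i := stepQ 9285 Q9285 (allL N9285 (tt N9285 F62164) (tt N9511 (iv F63038)) (tt N8472 (iv D15743)) (tt N8475 F62165) (tt N9328 (iv F62358)) (tt N8473 F62166) (tt N9230 F62167) (tt N9987 (iv F65012)) (tt N8556 F62168))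
theorem Q9287 : ∀ i, i < 9287 → P i := stepQ 9286 Q9286 (allL N9286 (tt N9286 F62169) (tt N9926 (iv F64741)) (tt N9328 F62362) (tt N9286 F62170) (tt N8472 (iv D15744)) (tt N8950 F62171) (tt N8943 F62172) (tt N9988 (iv F65018)) (tt N8557 F62173))
theorem Q9288 : ∀ i, i < 9288 → P i := stepQ 9287 Q9287 (allL N9287 (tt N9636 (iv F63598)) (tt N8473 (iv D15745)) (tt N9725 (iv F64007)) (tt N8476 F62174) (tt N9388 (iv F62559)) (tt N9511 (iv F63040)) (tt N8485 F62175) (tt N9989 (iv F65022)) (tt N8558 F62176))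
theorem Q9289 : ∀ i, i < 9289 → P i := stepQ 9288 Q9288 (allL N9288 (tt N9288 F62177) (tt N9927 (iv F64747)) (tt N8944 (iv F62181)) (tt N8477 (iv D15746)) (tt N8942 F62178) (tt N9439 (iv F62694)) (tt N8949 F62179) (tt N8486 F62180) (tt N9289 (iv F62186)))
theorem Q9290 : ∀ i, i < 9290 → P i := stepQ 9289 Q9289 (allL N9289 (tt N9289 F62182) (tt N9928 (iv F64751)) (tt N9231 (iv F62187)) (tt N8478 (iv D15747)) (tt N8938 F62183) (tt N9985 (iv F64998)) (tt N8480 F62184) (tt N8484 F62185) (tt N9288 F62186))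
theorem Q9291 : ∀ i, i < 9291 → P i := stepQ 9290 Q9290 (allL N9290 (tt N9637 (iv F63603)) (tt N8482 (iv D15748)) (tt N9932 (iv F64766)) (tt N9981 (iv F64978)) (tt N9389 (iv F62562)) (tt N9084 F62188) (tt N9989 (iv F65021)) (tt N8485 F62189) (tt N9561 (iv F63301)))
theorem Q9292 : ∀ i, i < 9292 → P i := stepQ 9291 Q9291 (allL N9291 (tt N8490 F62190) (tt N8495 F62191) (tt N9963 (iv F64904)) (tt N9539 (iv F63192)) (tt N9291 F62192) (tt N8591 F62193) (tt N8488 F62194) (tt N8487 (iv D15749)) (tt N9291 F62195))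
theorem Q9293 : ∀ i, i < 9293 → P i := stepQ 9292 Q9292 (allL N9292 (tt N8491 F62196) (tt N8496 F62197) (tt N9990 D16448) (tt N8488 (iv D15750)) (tt N9678 (iv F63789)) (tt N8489 F62198) (tt N9539 (iv F63195)) (tt N9939 (iv F64799)) (tt N9292 F62199))
theorem Q9294 : ∀ i, i < 9294 → P i := stepQ 9293 Q9293 (allL N9293 (tt N8492 F62200) (tt N9991 D16449) (tt N8489 (iv D15751)) (tt N9965 (iv F64914)) (tt N9510 (iv F63033)) (tt N9990 (iv F65024)) (tt N8593 F62201) (tt N9940 (iv F64802)) (tt N9293 F62202))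
theorem Q9295 : ∀ i, i < 9295 → P i := stepQ 9294 Q9294 (allL N9294 (tt N9990 (iv F65023)) (tt N9510 (iv F63032)) (tt N8491 (iv D15752)) (tt N9974 (iv F64947)) (tt N9991 (iv F65027)) (tt N8492 F62203) (tt N9518 (iv F63066)) (tt N9941 (iv F64804)) (tt N9294 F62204))
theorem Q9296 : ∀ i, i < 9296 → P i := stepQ 9295 Q9295 (allL N9295 (tt N9678 (iv F63787)) (tt N8493 F62205) (tt N9991 (iv F65026)) (tt N9295 F62206) (tt N8491 (iv D15753)) (tt N9642 (iv F63624)) (tt N8606 F62207) (tt N9942 (iv F64807)) (tt N9295 F62208))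
theorem Q9297 : ∀ i, i < 9297 → P i := stepQ 9296 Q9296 (allL N9296 (tt N9641 (iv F63617)) (tt N8492 (iv D15754)) (tt N8494 F62209) (tt N9975 (iv F64951)) (tt N9643 (iv F63628)) (tt N9510 (iv F63034)) (tt N8656 F62210) (tt N9943 (iv F64810)) (tt N9296 F62211))
theorem Q9298 : ∀ i, i < 9298 → P i := stepQ 9297 Q9297 (allL N9297 (tt N8526 F62212) (tt N9297 F62213) (tt N9265 F62214) (tt N9992 D16450) (tt N9297 F62215) (tt N8499 F62216) (tt N9313 (iv F62302)) (tt N8498 (iv D15755)) (tt N9297 F62217))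
theorem Q9299 : ∀ i, i < 9299 → P i := stepQ 9298 Q9298 (allL N9298 (tt N8527 F62218) (tt N9298 F62219) (tt N9993 D16451) (tt N8499 (iv D15756)) (tt N8880 F62220) (tt N9992 (iv F65032)) (tt N8892 F62221) (tt N9720 (iv F63986)) (tt N9298 F62222))
theorem Q9300 : ∀ i, i < 9300 → P i := stepQ 9299 Q9299 (allL N9299 (tt N8528 F62223) (tt N8557 F62224) (tt N9728 (iv F64018)) (tt N9299 F62225) (tt N8500 (iv D15757)) (tt N8809 F62226) (tt N8741 (iv F62227)) (tt N8740 (iv F62228)) (tt N9926 (iv F64745)))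
theorem Q9301 : ∀ i, i < 9301 → P i := stepQ 9300 Q9300 (allL N9300 (tt N8529 F62229) (tt N8555 F62230) (tt N9491 (iv F62953)) (tt N8502 F62231) (tt N8741 F62232) (tt N8540 F62233) (tt N8500 (iv D15758)) (tt N8739 (iv F62234)) (tt N9925 (iv F64738)))
theorem Q9302 : ∀ i, i < 9302 → P i := stepQ 9301 Q9301 (allL N9301 (tt N8530 F62235) (tt N8553 F62236) (tt N9729 (iv F64024)) (tt N8505 F62237) (tt N8740 F62238) (tt N8501 F62239) (tt N8739 F62240) (tt N8500 (iv D15759)) (tt N9994 D16452))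
theorem Q9303 : ∀ i, i < 9303 → P i := stepQ 9302 Q9302 (allL N9302 (tt N8532 F62241) (tt N8554 F62242) (tt N9731 (iv F64034)) (tt N8506 F62243) (tt N9949 (iv F64843)) (tt N9994 (iv F65043)) (tt N8538 F62244) (tt N9923 (iv F64727)) (tt N8501 (iv D15760)))
theorem Q9304 : ∀ i, i < 9304 → P i := stepQ 9303 Q9303 (allL N9303 (tt N8535 F62245) (tt N8552 F62246) (tt N8511 F62247) (tt N9994 (iv F65041)) (tt N8658 F62248) (tt N8506 F62249) (tt N8657 F62250) (tt N8536 F62251) (tt N8505 (iv D15761)))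
theorem Q9305 : ∀ i, i < 9305 → P i := stepQ 9304 Q9304 (allL N9304 (tt N8536 F62252) (tt N9304 F62253) (tt N8537 F62254) (tt N9776 (iv F64199)) (tt N8595 F62255) (tt N8510 F62256) (tt N8594 F62257) (tt N8535 F62258) (tt N8509 (iv D15762)))
theorem Q9306 : ∀ i, i < 9306 → P i := stepQ 9305 Q9305 (allL N9305 (tt N8538 F62259) (tt N9305 F62260) (tt N9852 (iv F64496)) (tt N8512 (iv D15763)) (tt N9947 (iv F64832)) (tt N9682 (iv F63810)) (tt N8532 F62261) (tt N9783 (iv F64233)) (tt N8513 F62262))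
theorem Q9307 : ∀ i, i < 9307 → P i := stepQ 9306 Q9306 (allL N9306 (tt N8880 F62263) (tt N8546 F62264) (tt N9995 D16453) (tt N8517 (iv D15764)) (tt N8527 F62265) (tt N9274 F62266) (tt N8746 F62267) (tt N9805 (iv F64330)) (tt N9306 F62268))
theorem Q9308 : ∀ i, i < 9308 → P i := stepQ 9307 Q9307 (allL N9307 (tt N8892 F62269) (tt N8547 F62270) (tt N9996 D16454) (tt N8519 (iv D15765)) (tt N8746 F62271) (tt N8652 F62272) (tt N8527 F62273) (tt N9830 (iv F64416)) (tt N9307 F62274))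
theorem Q9309 : ∀ i, i < 9309 → P i := stepQ 9308 Q9308 (allL N9308 (tt N8809 F62275) (tt N9308 F62276) (tt N9840 (iv F64460)) (tt N9308 F62277) (tt N8520 (iv D15766)) (tt N8528 F62278) (tt N8693 F62279) (tt N8875 (iv F62280)) (tt N9997 D16455))
theorem Q9310 : ∀ i, i < 9310 → P i := stepQ 9309 Q9309 (allL N9309 (tt N8619 F62281) (tt N9309 F62282) (tt N9841 (iv F64467)) (tt N9309 F62283) (tt N8875 F62284) (tt N8521 F62285) (tt N8562 F62286) (tt N8520 (iv D15767)) (tt N9998 D16456))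
theorem Q9311 : ∀ i, i < 9311 → P i := stepQ 9310 Q9310 (allL N9310 (tt N9129 F62287) (tt N9310 F62288) (tt N9842 (iv F64472)) (tt N8523 F62289) (tt N9997 (iv F65060)) (tt N8522 F62290) (tt N8987 F62291) (tt N9999 D16457) (tt N8520 (iv D15768)))
theorem Q9312 : ∀ i, i < 9312 → P i := stepQ 9311 Q9311 (allL N9311 (tt N9949 (iv F64840)) (tt N9311 F62292) (tt N9843 (iv F64476)) (tt N9311 F62293) (tt N8532 F62294) (tt N9998 (iv F65067)) (tt N9947 (iv F64834)) (tt N10000 D16458) (tt N8521 (iv D15769)))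
theorem Q9313 : ∀ i, i < 9313 → P i := stepQ 9312 Q9312 (allL N9312 (tt N9924 (iv F64729)) (tt N9312 F62295) (tt N9844 (iv F64478)) (tt N10001 D16459) (tt N8533 F62296) (tt N9999 (iv F65071)) (tt N9785 (iv F64242)) (tt N8522 (iv D15770)) (tt N10000 (iv F65075)))
theorem Q9314 : ∀ i, i < 9314 → P i := stepQ 9313 Q9313 (allL N9313 (tt N9265 F62297) (tt N9313 F62298) (tt N8526 F62299) (tt N10002 D16460) (tt N9313 F62300) (tt N8524 F62301) (tt N9297 F62302) (tt N8523 (iv D15771)) (tt N9313 F62303))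
theorem Q9315 : ∀ i, i < 9315 → P i := stepQ 9314 Q9314 (allL N9314 (tt N9264 F62304) (tt N9314 F62305) (tt N10003 D16461) (tt N8524 (iv D15772)) (tt N9254 F62306) (tt N10002 (iv F65082)) (tt N9366 (iv F62494)) (tt N10001 (iv F65079)) (tt N9314 F62307))
theorem Q9316 : ∀ i, i < 9316 → P i := stepQ 9315 Q9315 (allL N9315 (tt N9992 (iv F65030)) (tt N8548 F62308) (tt N10004 D16462) (tt N8526 (iv D15773)) (tt N10005 D16463) (tt N8527 F62309) (tt N9977 (iv F64959)) (tt N9850 (iv F64492)) (tt N9315 F62310))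
theorem Q9317 : ∀ i, i < 9317 → P i := stepQ 9316 Q9316 (allL N9316 (tt N9993 (iv F65034)) (tt N10006 D16464) (tt N8527 (iv D15774)) (tt N10003 (iv F65086)) (tt N9995 (iv F65048)) (tt N10004 (iv F65089)) (tt N9996 (iv F65055)) (tt N9851 (iv F64493)) (tt N9316 F62311))
theorem Q9318 : ∀ i, i < 9318 → P i := stepQ 9317 Q9317 (allL N9317 (tt N9926 (iv F64740)) (tt N9317 F62312) (tt N9866 (iv F64553)) (tt N9317 F62313) (tt N8531 F62314) (tt N9997 (iv F65061)) (tt N8885 F62315) (tt N10007 D16465) (tt N8528 (iv D15775)))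
theorem Q9319 : ∀ i, i < 9319 → P i := stepQ 9318 Q9318 (allL N9318 (tt N9925 (iv F64734)) (tt N9318 F62316) (tt N9867 (iv F64556)) (tt N8534 F62317) (tt N8885 F62318) (tt N9786 (iv F64247)) (tt N8531 F62319) (tt N10008 D16466) (tt N8529 (iv D15776)))
theorem Q9320 : ∀ i, i < 9320 → P i := stepQ 9319 Q9319 (allL N9319 (tt N9994 (iv F65039)) (tt N9319 F62320) (tt N9868 (iv F64560)) (tt N8535 F62321) (tt N8884 F62322) (tt N8532 F62323) (tt N8883 F62324) (tt N10009 D16467) (tt N8530 (iv D15777)))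
theorem Q9321 : ∀ i, i < 9321 → P i := stepQ 9320 Q9320 (allL N9320 (tt N9922 (iv F64720)) (tt N9320 F62325) (tt N9869 (iv F64565)) (tt N9777 (iv F64205)) (tt N10007 (iv F65099)) (tt N8533 F62326) (tt N10008 (iv F65104)) (tt N8531 (iv D15778)) (tt N10009 (iv F65110)))
theorem Q9322 : ∀ i, i < 9322 → P i := stepQ 9321 Q9321 (allL N9321 (tt N9923 (iv F64724)) (tt N9321 F62327) (tt N9870 (iv F64567)) (tt N9778 (iv F64209)) (tt N10000 (iv F65074)) (tt N10009 (iv F65108)) (tt N9783 (iv F64232)) (tt N8532 (iv D15779)) (tt N8533 F62328))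
theorem Q9323 : ∀ i, i < 9323 → P i := stepQ 9322 Q9322 (allL N9322 (tt N9852 (iv F64494)) (tt N9557 (iv F63285)) (tt N8538 (iv D15780)) (tt N9744 (iv F64085)) (tt N9837 (iv F64448)) (tt N9552 (iv F63267)) (tt N9731 (iv F64036)) (tt N9930 (iv F64760)) (tt N8539 F62329))
theorem Q9324 : ∀ i, i < 9324 → P i := stepQ 9323 Q9323 (allL N9323 (tt N9323 F62330) (tt N8746 F62331) (tt N9273 F62332) (tt N8545 (iv D15781)) (tt N8547 F62333) (tt N8683 F62334) (tt N8546 F62335) (tt N9945 (iv F64822)) (tt N9323 F62336))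
theorem Q9325 : ∀ i, i < 9325 → P i := stepQ 9324 Q9324 (allL N9324 (tt N9324 F62337) (tt N10010 D16468) (tt N8547 (iv D15782)) (tt N9324 F62338) (tt N9273 F62339) (tt N8685 F62340) (tt N8549 F62341) (tt N9946 (iv F64828)) (tt N9324 F62342))
theorem Q9326 : ∀ i, i < 9326 → P i := stepQ 9325 Q9325 (allL N9325 (tt N9325 F62343) (tt N10011 D16469) (tt N8548 (iv D15783)) (tt N9325 F62344) (tt N9276 (iv F62347)) (tt N8549 F62345) (tt N9326 (iv F62352)) (tt N9954 (iv F64867)) (tt N9325 F62346))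
theorem Q9327 : ∀ i, i < 9327 → P i := stepQ 9326 Q9326 (allL N9326 (tt N9326 F62348) (tt N10005 (iv F65091)) (tt N9276 F62349) (tt N9326 F62350) (tt N8548 (iv D15784)) (tt N9275 F62351) (tt N9325 F62352) (tt N9955 (iv F64872)) (tt N9326 F62353))
theorem Q9328 : ∀ i, i < 9328 → P i := stepQ 9327 Q9327 (allL N9327 (tt N10012 D16470) (tt N8549 (iv D15785)) (tt N10006 (iv F65095)) (tt N9327 F62354) (tt N9262 F62355) (tt N10011 (iv F65118)) (tt N10010 (iv F65114)) (tt N9956 (iv F64873)) (tt N9327 F62356))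
theorem Q9329 : ∀ i, i < 9329 → P i := stepQ 9328 Q9328 (allL N9328 (tt N9328 F62357) (tt N9994 (iv F65040)) (tt N9286 (iv F62362)) (tt N8552 (iv D15786)) (tt N9285 F62358) (tt N8554 F62359) (tt N8688 F62360) (tt N9986 (iv F65006)) (tt N8553 F62361))
theorem Q9330 : ∀ i, i < 9330 → P i := stepQ 9329 Q9329 (allL N9329 (tt N9381 (iv F62531)) (tt N8560 F62363) (tt N9329 F62364) (tt N9332 (iv F62376)) (tt N8559 (iv D15787)) (tt N9331 F62372) (tt N9709 (iv F63942)) (tt N8981 F62365) (tt N10013 D16471))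
theorem Q9331 : ∀ i, i < 9331 → P i := stepQ 9330 Q9330 (allL N9330 (tt N9705 (iv F63920)) (tt N8561 F62366) (tt N9330 F62367) (tt N8565 F62368) (tt N10013 (iv F65127)) (tt N9589 (iv F63423)) (tt N9710 (iv F63948)) (tt N10014 D16472) (tt N8559 (iv D15788)))
theorem Q9332 : ∀ i, i < 9332 → P i := stepQ 9331 Q9331 (allL N9331 (tt N8615 F62369) (tt N9332 (iv F62374)) (tt N9331 F62370) (tt N8560 (iv D15789)) (tt N8566 F62371) (tt N9329 (iv F62372)) (tt N9831 (iv F64420)) (tt N9711 (iv F63953)) (tt N10015 D16473))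
theorem Q9333 : ∀ i, i < 9333 → P i := stepQ 9332 Q9332 (allL N9332 (tt N8616 F62373) (tt N9331 F62374) (tt N8562 F62375) (tt N9329 F62376) (tt N8842 F62377) (tt N8560 (iv D15790)) (tt N9841 (iv F64471)) (tt N8984 F62378) (tt N10016 D16474))
theorem Q9334 : ∀ i, i < 9334 → P i := stepQ 9333 Q9333 (allL N9333 (tt N8617 F62379) (tt N10013 (iv F65125)) (tt N8563 F62380) (tt N10015 (iv F65133)) (tt N8561 F62381) (tt N10016 (iv F65141)) (tt N9832 (iv F64424)) (tt N10017 D16475) (tt N8560 (iv D15791)))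
theorem Q9335 : ∀ i, i < 9335 → P i := stepQ 9334 Q9334 (allL N9334 (tt N8618 F62382) (tt N10014 (iv F65128)) (tt N8564 F62383) (tt N10018 D16476) (tt N10017 (iv F65144)) (tt N9688 (iv F63842)) (tt N9833 (iv F64427)) (tt N8561 (iv D15792)) (tt N8986 F62384))
theorem Q9336 : ∀ i, i < 9336 → P i := stepQ 9335 Q9335 (allL N9335 (tt N8620 F62385) (tt N9335 F62386) (tt N10016 (iv F65138)) (tt N9335 F62387) (tt N8876 F62388) (tt N8563 F62389) (tt N9998 (iv F65068)) (tt N10019 D16477) (tt N8562 (iv D15793)))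
theorem Q9337 : ∀ i, i < 9337 → P i := stepQ 9336 Q9336 (allL N9336 (tt N8621 F62390) (tt N9336 F62391) (tt N10017 (iv F65143)) (tt N10020 D16478) (tt N8564 F62392) (tt N10019 (iv F65152)) (tt N9948 (iv F64838)) (tt N8563 (iv D15794)) (tt N8988 F62393))
theorem Q9338 : ∀ i, i < 9338 → P i := stepQ 9337 Q9337 (allL N9337 (tt N9722 (iv F63991)) (tt N8568 F62394) (tt N8597 F62395) (tt N10021 D16479) (tt N9601 (iv F63487)) (tt N9590 (iv F63428)) (tt N9724 (iv F64004)) (tt N8565 (iv D15795)) (tt N8572 F62396))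
theorem Q9339 : ∀ i, i < 9339 → P i := stepQ 9338 Q9338 (allL N9338 (tt N8623 F62397) (tt N9455 (iv F62760)) (tt N9338 F62398) (tt N8574 F62399) (tt N9711 (iv F63952)) (tt N9452 F62747) (tt N9854 (iv F64507)) (tt N8566 (iv D15796)) (tt N10022 D16480))
theorem Q9340 : ∀ i, i < 9340 → P i := stepQ 9339 Q9339 (allL N9339 (tt N8624 F62400) (tt N9598 (iv F63472)) (tt N9339 F62401) (tt N8567 F62402) (tt N10015 (iv F65134)) (tt N9594 (iv F63452)) (tt N9855 (iv F64511)) (tt N10023 D16481) (tt N8566 (iv D15797)))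
theorem Q9341 : ∀ i, i < 9341 → P i := stepQ 9340 Q9340 (allL N9340 (tt N8626 F62403) (tt N9601 (iv F63485)) (tt N8569 F62404) (tt N10024 D16482) (tt N8568 F62405) (tt N9595 (iv F63458)) (tt N9856 (iv F64515)) (tt N8567 (iv D15798)) (tt N8577 F62406))
theorem Q9342 : ∀ i, i < 9342 → P i := stepQ 9341 Q9341 (allL N9341 (tt N8627 F62407) (tt N10021 (iv F65158)) (tt N9476 (iv F62872)) (tt N8568 (iv D15799)) (tt N10025 D16483) (tt N9689 (iv F63847)) (tt N9857 (iv F64518)) (tt N10018 (iv F65147)) (tt N8578 F62408))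
theorem Q9343 : ∀ i, i < 9343 → P i := stepQ 9342 Q9342 (allL N9342 (tt N8629 F62409) (tt N8599 F62410) (tt N10026 D16484) (tt N8569 (iv D15800)) (tt N9478 (iv F62883)) (tt N9662 (iv F63704)) (tt N9935 (iv F64779)) (tt N9342 F62411) (tt N8580 F62412))
theorem Q9344 : ∀ i, i < 9344 → P i := stepQ 9343 Q9343 (allL N9343 (tt N9554 (iv F63271)) (tt N8574 F62413) (tt N9343 F62414) (tt N9455 (iv F62762)) (tt N9022 F62415) (tt N9454 F62758) (tt N9749 (iv F64105)) (tt N8570 (iv D15801)) (tt N10027 D16485))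
theorem Q9345 : ∀ i, i < 9345 → P i := stepQ 9344 Q9344 (allL N9344 (tt N9740 (iv F64065)) (tt N8575 F62416) (tt N9344 F62417) (tt N8571 F62418) (tt N9023 F62419) (tt N9565 (iv F63321)) (tt N9750 (iv F64111)) (tt N10028 D16486) (tt N8570 (iv D15802)))
theorem Q9346 : ∀ i, i < 9346 → P i := stepQ 9345 Q9345 (allL N9345 (tt N9741 (iv F64070)) (tt N8577 F62420) (tt N8600 F62421) (tt N10029 D16487) (tt N8572 F62422) (tt N9566 (iv F63326)) (tt N9751 (iv F64116)) (tt N8571 (iv D15803)) (tt N9601 (iv F63489)))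
theorem Q9347 : ∀ i, i < 9347 → P i := stepQ 9346 Q9346 (allL N9346 (tt N9742 (iv F64076)) (tt N8578 F62423) (tt N10030 D16488) (tt N8572 (iv D15804)) (tt N10031 D16489) (tt N9693 (iv F63865)) (tt N9752 (iv F64119)) (tt N9026 F62424) (tt N10021 (iv F65159)))
theorem Q9348 : ∀ i, i < 9348 → P i := stepQ 9347 Q9347 (allL N9347 (tt N8630 F62425) (tt N9472 (iv F62853)) (tt N8581 F62426) (tt N9492 (iv F62959)) (tt N8573 (iv D15805)) (tt N9027 F62427) (tt N9551 (iv F63262)) (tt N9468 F62836) (tt N10032 D16490))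
theorem Q9349 : ∀ i, i < 9349 → P i := stepQ 9348 Q9348 (allL N9348 (tt N8632 F62428) (tt N9454 (iv F62753)) (tt N8583 F62429) (tt N9452 (iv F62746)) (tt N9468 (iv F62833)) (tt N8574 F62430) (tt N9571 (iv F63354)) (tt N8573 (iv D15806)) (tt N10033 D16491))
theorem Q9350 : ∀ i, i < 9350 → P i := stepQ 9349 Q9349 (allL N9349 (tt N8633 F62431) (tt N9565 (iv F63318)) (tt N8584 F62432) (tt N8576 F62433) (tt N10032 (iv F65186)) (tt N8575 F62434) (tt N9572 (iv F63359)) (tt N10034 D16492) (tt N8573 (iv D15807)))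
theorem Q9351 : ∀ i, i < 9351 → P i := stepQ 9350 Q9350 (allL N9350 (tt N8634 F62435) (tt N10027 (iv F65172)) (tt N8585 F62436) (tt N10022 (iv F65162)) (tt N9031 F62437) (tt N10033 (iv F65190)) (tt N9889 (iv F64633)) (tt N10035 D16493) (tt N8574 (iv D15808)))
theorem Q9352 : ∀ i, i < 9352 → P i := stepQ 9351 Q9351 (allL N9351 (tt N8635 F62438) (tt N10028 (iv F65175)) (tt N8586 F62439) (tt N10036 D16494) (tt N9032 F62440) (tt N10034 (iv F65193)) (tt N9890 (iv F64637)) (tt N8575 (iv D15809)) (tt N10035 (iv F65197)))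
theorem Q9353 : ∀ i, i < 9353 → P i := stepQ 9352 Q9352 (allL N9352 (tt N8637 F62441) (tt N9566 (iv F63323)) (tt N8579 F62442) (tt N10037 D16495) (tt N9564 (iv F63314)) (tt N8577 F62443) (tt N9574 (iv F63370)) (tt N8576 (iv D15810)) (tt N9595 (iv F63460)))
theorem Q9354 : ∀ i, i < 9354 → P i := stepQ 9353 Q9353 (allL N9353 (tt N8638 F62444) (tt N10029 (iv F65178)) (tt N10038 D16496) (tt N8577 (iv D15811)) (tt N10039 D16497) (tt N10037 (iv F65201)) (tt N9892 (iv F64642)) (tt N10036 (iv F65199)) (tt N10024 (iv F65166)))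
theorem Q9355 : ∀ i, i < 9355 → P i := stepQ 9354 Q9354 (allL N9354 (tt N8639 F62445) (tt N10031 (iv F65181)) (tt N9506 (iv F63015)) (tt N10039 (iv F65205)) (tt N8578 (iv D15812)) (tt N10040 D16498) (tt N9893 (iv F64644)) (tt N9036 F62446) (tt N10025 (iv F65168)))
theorem Q9356 : ∀ i, i < 9356 → P i := stepQ 9355 Q9355 (allL N9355 (tt N8641 F62447) (tt N8604 F62448) (tt N10041 D16499) (tt N8579 (iv D15813)) (tt N9697 (iv F63881)) (tt N8580 F62449) (tt N9659 (iv F63687)) (tt N8592 F62450) (tt N9662 (iv F63707)))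
theorem Q9357 : ∀ i, i < 9357 → P i := stepQ 9356 Q9356 (allL N9356 (tt N8642 F62451) (tt N10042 D16500) (tt N8580 (iv D15814)) (tt N10038 (iv F65203)) (tt N9509 (iv F63029)) (tt N10041 (iv F65209)) (tt N9940 (iv F64801)) (tt N8593 F62452) (tt N10026 (iv F65171)))
theorem Q9358 : ∀ i, i < 9358 → P i := stepQ 9357 Q9357 (allL N9357 (tt N8643 F62453) (tt N9357 F62454) (tt N10032 (iv F65184)) (tt N8594 F62455) (tt N8584 F62456) (tt N9047 F62457) (tt N9776 (iv F64202)) (tt N10043 D16501) (tt N8581 (iv D15815)))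
theorem Q9359 : ∀ i, i < 9359 → P i := stepQ 9358 Q9358 (allL N9358 (tt N8644 F62458) (tt N9358 F62459) (tt N9572 (iv F63357)) (tt N8587 F62460) (tt N9776 (iv F64200)) (tt N9958 (iv F64882)) (tt N8584 F62461) (tt N10044 D16502) (tt N8582 (iv D15816)))
theorem Q9360 : ∀ i, i < 9360 → P i := stepQ 9359 Q9359 (allL N9359 (tt N8645 F62462) (tt N9359 F62463) (tt N10033 (iv F65189)) (tt N9359 F62464) (tt N9775 (iv F64194)) (tt N8585 F62465) (tt N9774 (iv F64190)) (tt N10045 D16503) (tt N8583 (iv D15817)))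
theorem Q9361 : ∀ i, i < 9361 → P i := stepQ 9360 Q9360 (allL N9360 (tt N8646 F62466) (tt N9360 F62467) (tt N10034 (iv F65192)) (tt N10046 D16504) (tt N10043 (iv F65216)) (tt N8586 F62468) (tt N10044 (iv F65220)) (tt N8584 (iv D15818)) (tt N10045 (iv F65224)))
theorem Q9362 : ∀ i, i < 9362 → P i := stepQ 9361 Q9361 (allL N9361 (tt N8647 F62469) (tt N9361 F62470) (tt N10035 (iv F65195)) (tt N10047 D16505) (tt N9051 F62471) (tt N10045 (iv F65223)) (tt N9961 (iv F64896)) (tt N8585 (iv D15819)) (tt N8586 F62472))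
theorem Q9363 : ∀ i, i < 9363 → P i := stepQ 9362 Q9362 (allL N9362 (tt N8648 F62473) (tt N9362 F62474) (tt N10048 D16506) (tt N8586 (iv D15820)) (tt N10049 D16507) (tt N10046 (iv F65228)) (tt N9962 (iv F64900)) (tt N8589 F62475) (tt N10047 (iv F65233)))
theorem Q9364 : ∀ i, i < 9364 → P i := stepQ 9363 Q9363 (allL N9363 (tt N8649 F62476) (tt N9363 F62477) (tt N8591 F62478) (tt N10050 D16508) (tt N8596 F62479) (tt N9963 (iv F64906)) (tt N8588 F62480) (tt N8587 (iv D15821)) (tt N9363 F62481))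
theorem Q9365 : ∀ i, i < 9365 → P i := stepQ 9364 Q9364 (allL N9364 (tt N8650 F62482) (tt N9364 F62483) (tt N10051 D16509) (tt N8588 (iv D15822)) (tt N8890 F62484) (tt N8589 F62485) (tt N10050 (iv F65245)) (tt N10046 (iv F65229)) (tt N9364 F62486))
theorem Q9366 : ∀ i, i < 9366 → P i := stepQ 9365 Q9365 (allL N9365 (tt N8651 F62487) (tt N10052 D16510) (tt N8589 (iv D15823)) (tt N8593 F62488) (tt N10053 D16511) (tt N10051 (iv F65250)) (tt N9965 (iv F64915)) (tt N10048 (iv F65235)) (tt N9365 F62489))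
theorem Q9367 : ∀ i, i < 9367 → P i := stepQ 9366 Q9366 (allL N9366 (tt N8652 F62490) (tt N9366 F62491) (tt N10053 (iv F65256)) (tt N8590 F62492) (tt N8589 (iv D15824)) (tt N8892 F62493) (tt N9314 F62494) (tt N10049 (iv F65241)) (tt N9366 F62495))
theorem Q9368 : ∀ i, i < 9368 → P i := stepQ 9367 Q9367 (allL N9367 (tt N8654 F62496) (tt N9800 (iv F64306)) (tt N8592 (iv D15825)) (tt N10051 (iv F65248)) (tt N9700 (iv F63897)) (tt N8593 F62497) (tt N9702 (iv F63909)) (tt N10041 (iv F65210)) (tt N9367 F62498))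
theorem Q9369 : ∀ i, i < 9369 → P i := stepQ 9368 Q9368 (allL N9368 (tt N10054 D16512) (tt N8593 (iv D15826)) (tt N8606 F62499) (tt N10052 (iv F65253)) (tt N9518 (iv F63064)) (tt N9800 (iv F64308)) (tt N9991 (iv F65028)) (tt N10042 (iv F65212)) (tt N9368 F62500))
theorem Q9370 : ∀ i, i < 9370 → P i := stepQ 9369 Q9369 (allL N9369 (tt N9789 (iv F64263)) (tt N8598 F62501) (tt N10055 D16513) (tt N8597 (iv D15827)) (tt N10056 D16514) (tt N9592 (iv F63437)) (tt N9790 (iv F64270)) (tt N9369 F62502) (tt N8601 F62503))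
theorem Q9371 : ∀ i, i < 9371 → P i := stepQ 9370 Q9370 (allL N9370 (tt N8610 F62504) (tt N10056 (iv F65267)) (tt N9525 (iv F63106)) (tt N9665 (iv F63724)) (tt N8598 (iv D15828)) (tt N9674 (iv F63770)) (tt N9660 (iv F63694)) (tt N9370 F62505) (tt N8603 F62506))
theorem Q9372 : ∀ i, i < 9372 → P i := stepQ 9371 Q9371 (allL N9371 (tt N8611 F62507) (tt N10057 D16515) (tt N8599 (iv D15829)) (tt N9664 (iv F63716)) (tt N9527 (iv F63121)) (tt N9663 (iv F63711)) (tt N9938 (iv F64793)) (tt N9371 F62508) (tt N8605 F62509))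
theorem Q9373 : ∀ i, i < 9373 → P i := stepQ 9372 Q9372 (allL N9372 (tt N9792 (iv F64275)) (tt N8602 F62510) (tt N10058 D16516) (tt N8600 (iv D15830)) (tt N10059 D16517) (tt N9568 (iv F63334)) (tt N9795 (iv F64290)) (tt N9372 F62511) (tt N9605 (iv F63505)))
theorem Q9374 : ∀ i, i < 9374 → P i := stepQ 9373 Q9373 (allL N9373 (tt N9793 (iv F64280)) (tt N9535 (iv F63170)) (tt N8601 (iv D15831)) (tt N10030 (iv F65179)) (tt N10060 D16518) (tt N9699 (iv F63892)) (tt N9796 (iv F64294)) (tt N8607 F62512) (tt N10055 (iv F65266)))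
theorem Q9375 : ∀ i, i < 9375 → P i := stepQ 9374 Q9374 (allL N9374 (tt N9794 (iv F64283)) (tt N8603 F62513) (tt N10060 (iv F65276)) (tt N10059 (iv F65274)) (tt N8601 (iv D15832)) (tt N10061 D16519) (tt N9676 (iv F63781)) (tt N8608 F62514) (tt N10056 (iv F65269)))
theorem Q9376 : ∀ i, i < 9376 → P i := stepQ 9375 Q9375 (allL N9375 (tt N8612 F62515) (tt N10062 D16520) (tt N8602 (iv D15833)) (tt N8605 F62516) (tt N9672 (iv F63755)) (tt N9657 (iv F63674)) (tt N9674 (iv F63771)) (tt N9375 F62517) (tt N9664 (iv F63720)))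
theorem Q9377 : ∀ i, i < 9377 → P i := stepQ 9376 Q9376 (allL N9376 (tt N8613 F62518) (tt N10059 (iv F65273)) (tt N9672 (iv F63754)) (tt N8603 F62519) (tt N8602 (iv D15834)) (tt N9938 (iv F64792)) (tt N9673 (iv F63763)) (tt N9376 F62520) (tt N9665 (iv F63728)))
theorem Q9378 : ∀ i, i < 9378 → P i := stepQ 9377 Q9377 (allL N9377 (tt N8614 F62521) (tt N10061 (iv F65279)) (tt N8670 F62522) (tt N9938 (iv F64791)) (tt N9544 (iv F63222)) (tt N8603 (iv D15835)) (tt N9664 (iv F63718)) (tt N8609 F62523) (tt N9674 (iv F63773)))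
theorem Q9379 : ∀ i, i < 9379 → P i := stepQ 9378 Q9378 (allL N9378 (tt N10061 (iv F65278)) (tt N8605 (iv D15836)) (tt N10042 (iv F65211)) (tt N10062 (iv F65281)) (tt N9538 (iv F63187)) (tt N9794 (iv F64285)) (tt N9942 (iv F64806)) (tt N8606 F62524) (tt N10057 (iv F65271)))
theorem Q9380 : ∀ i, i < 9380 → P i := stepQ 9379 Q9379 (allL N9379 (tt N8606 (iv D15837)) (tt N8609 F62525) (tt N10054 (iv F65262)) (tt N9379 F62526) (tt N9539 (iv F63193)) (tt N8608 F62527) (tt N9678 (iv F63791)) (tt N10061 (iv F65280)) (tt N9379 F62528))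
theorem Q9381 : ∀ i, i < 9381 → P i := stepQ 9380 Q9380 (allL N9380 (tt N9800 (iv F64305)) (tt N9542 (iv F63208)) (tt N8608 F62529) (tt N10063 D16521) (tt N8607 (iv D15838)) (tt N10054 (iv F65263)) (tt N9655 (iv F63664)) (tt N10060 (iv F65277)) (tt N9380 F62530))
theorem Q9382 : ∀ i, i < 9382 → P i := stepQ 9381 Q9381 (allL N9381 (tt N9329 F62531) (tt N8976 F62532) (tt N9381 F62533) (tt N8616 F62534) (tt N8975 (iv F62535)) (tt N8615 (iv D15839)) (tt N8981 F62536) (tt N9709 (iv F63943)) (tt N10064 D16522))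
theorem Q9383 : ∀ i, i < 9383 → P i := stepQ 9382 Q9382 (allL N9382 (tt N9711 (iv F63949)) (tt N9827 (iv F64399)) (tt N9382 F62537) (tt N9123 F62538) (tt N8623 F62539) (tt N9709 (iv F63941)) (tt N9835 (iv F64440)) (tt N8615 (iv D15840)) (tt N10065 D16523))
theorem Q9384 : ∀ i, i < 9384 → P i := stepQ 9383 Q9383 (allL N9383 (tt N10015 (iv F65131)) (tt N9788 (iv F64257)) (tt N9383 F62540) (tt N8617 F62541) (tt N8624 F62542) (tt N10064 (iv F65291)) (tt N9836 (iv F64445)) (tt N10066 D16524) (tt N8615 (iv D15841)))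
theorem Q9385 : ∀ i, i < 9385 → P i := stepQ 9384 Q9384 (allL N9384 (tt N9841 (iv F64465)) (tt N8983 F62543) (tt N8619 F62544) (tt N8981 F62545) (tt N8994 F62546) (tt N9714 (iv F63964)) (tt N8616 (iv D15842)) (tt N9125 F62547) (tt N10067 D16525))
theorem Q9386 : ∀ i, i < 9386 → P i := stepQ 9385 Q9385 (allL N9385 (tt N10016 (iv F65136)) (tt N9214 F62548) (tt N8620 F62549) (tt N10064 (iv F65289)) (tt N9213 F62550) (tt N8617 F62551) (tt N10067 (iv F65302)) (tt N10068 D16526) (tt N8616 (iv D15843)))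
theorem Q9387 : ∀ i, i < 9387 → P i := stepQ 9386 Q9386 (allL N9386 (tt N10017 (iv F65142)) (tt N9828 (iv F64404)) (tt N8621 F62552) (tt N10069 D16527) (tt N8618 F62553) (tt N10068 (iv F65306)) (tt N9838 (iv F64453)) (tt N8617 (iv D15844)) (tt N9127 F62554))
theorem Q9388 : ∀ i, i < 9388 → P i := stepQ 9387 Q9387 (allL N9387 (tt N10018 (iv F65146)) (tt N9829 (iv F64408)) (tt N9559 (iv F63291)) (tt N8618 (iv D15845)) (tt N10070 D16528) (tt N9804 (iv F64323)) (tt N9839 (iv F64456)) (tt N8627 F62555) (tt N9128 F62556))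
theorem Q9389 : ∀ i, i < 9389 → P i := stepQ 9388 Q9388 (allL N9388 (tt N9998 (iv F65063)) (tt N8671 F62557) (tt N10067 (iv F65299)) (tt N9388 F62558) (tt N9287 F62559) (tt N9949 (iv F64844)) (tt N8620 F62560) (tt N10071 D16529) (tt N8619 (iv D15846)))
theorem Q9390 : ∀ i, i < 9390 → P i := stepQ 9389 Q9389 (allL N9389 (tt N10019 (iv F65149)) (tt N8672 F62561) (tt N10068 (iv F65304)) (tt N10072 D16530) (tt N9290 F62562) (tt N8621 F62563) (tt N10071 (iv F65313)) (tt N8620 (iv D15847)) (tt N9130 F62564))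
theorem Q9391 : ∀ i, i < 9391 → P i := stepQ 9390 Q9390 (allL N9390 (tt N10020 (iv F65154)) (tt N8673 F62565) (tt N10073 D16531) (tt N8621 (iv D15848)) (tt N9562 (iv F63303)) (tt N10072 (iv F65316)) (tt N9950 (iv F64847)) (tt N9390 F62566) (tt N9131 F62567))
theorem Q9392 : ∀ i, i < 9392 → P i := stepQ 9391 Q9391 (allL N9391 (tt N8834 F62568) (tt N8973 F62569) (tt N9391 F62570) (tt N8713 F62571) (tt N8622 (iv D15849)) (tt N8975 F62572) (tt N9004 F62573) (tt N9451 (iv F62739)) (tt N10074 D16532))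
theorem Q9393 : ∀ i, i < 9393 → P i := stepQ 9392 Q9392 (allL N9392 (tt N9452 (iv F62741)) (tt N9549 (iv F63246)) (tt N9392 F62574) (tt N8632 F62575) (tt N9451 F62740) (tt N8623 F62576) (tt N9608 (iv F63519)) (tt N8622 (iv D15850)) (tt N10075 D16533))
theorem Q9394 : ∀ i, i < 9394 → P i := stepQ 9393 Q9393 (allL N9393 (tt N9594 (iv F63447)) (tt N9787 F64255) (tt N9393 F62577) (tt N8625 F62578) (tt N10074 (iv F65325)) (tt N8624 F62579) (tt N9609 (iv F63523)) (tt N10076 D16534) (tt N8622 (iv D15851)))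
theorem Q9395 : ∀ i, i < 9395 → P i := stepQ 9394 Q9394 (allL N9394 (tt N10022 (iv F65160)) (tt N9852 (iv F64495)) (tt N9394 F62580) (tt N8634 F62581) (tt N10065 (iv F65295)) (tt N10075 (iv F65330)) (tt N9861 (iv F64539)) (tt N10077 D16535) (tt N8623 (iv D15852)))
theorem Q9396 : ∀ i, i < 9396 → P i := stepQ 9395 Q9395 (allL N9395 (tt N10023 (iv F65163)) (tt N9784 F64238) (tt N9395 F62582) (tt N10078 D16536) (tt N10066 (iv F65297)) (tt N10076 (iv F65332)) (tt N9862 (iv F64542)) (tt N8624 (iv D15853)) (tt N10077 (iv F65334)))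
theorem Q9397 : ∀ i, i < 9397 → P i := stepQ 9396 Q9396 (allL N9396 (tt N9595 (iv F63454)) (tt N9773 (iv F64182)) (tt N8628 F62583) (tt N10079 D16537) (tt N9593 (iv F63443)) (tt N8626 F62584) (tt N9611 (iv F63533)) (tt N8625 (iv D15854)) (tt N8637 F62585))
theorem Q9398 : ∀ i, i < 9398 → P i := stepQ 9397 Q9397 (allL N9397 (tt N10024 (iv F65165)) (tt N9770 F64177) (tt N10080 D16538) (tt N8626 (iv D15855)) (tt N10081 D16539) (tt N10079 (iv F65336)) (tt N9864 (iv F64548)) (tt N10078 (iv F65335)) (tt N8638 F62586))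
theorem Q9399 : ∀ i, i < 9399 → P i := stepQ 9398 Q9398 (allL N9398 (tt N10025 (iv F65167)) (tt N9853 (iv F64499)) (tt N9585 (iv F63405)) (tt N10081 (iv F65340)) (tt N8627 (iv D15856)) (tt N10082 D16540) (tt N9865 (iv F64551)) (tt N10070 (iv F65309)) (tt N8639 F62587))
theorem Q9400 : ∀ i, i < 9400 → P i := stepQ 9399 Q9399 (allL N9399 (tt N9662 (iv F63701)) (tt N8663 F62588) (tt N10083 D16541) (tt N8628 (iv D15857)) (tt N9739 (iv F64062)) (tt N8629 F62589) (tt N9668 (iv F63740)) (tt N9399 F62590) (tt N8641 F62591))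
theorem Q9401 : ∀ i, i < 9401 → P i := stepQ 9400 Q9400 (allL N9400 (tt N10026 (iv F65169)) (tt N9798 (iv F64300)) (tt N8629 (iv D15858)) (tt N10080 (iv F65338)) (tt N9588 (iv F63417)) (tt N10083 (iv F65343)) (tt N9937 (iv F64786)) (tt N9400 F62592) (tt N8642 F62593))
theorem Q9402 : ∀ i, i < 9402 → P i := stepQ 9401 Q9401 (allL N9401 (tt N10032 (iv F65183)) (tt N9876 (iv F64578)) (tt N8643 F62594) (tt N9815 (iv F64362)) (tt N8633 F62595) (tt N9182 F62596) (tt N9878 (iv F64592)) (tt N10084 D16542) (tt N8630 (iv D15859)))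
theorem Q9403 : ∀ i, i < 9403 → P i := stepQ 9402 Q9402 (allL N9402 (tt N9572 (iv F63355)) (tt N9877 (iv F64582)) (tt N8644 F62597) (tt N8636 F62598) (tt N9878 (iv F64590)) (tt N9895 (iv F64653)) (tt N8633 F62599) (tt N10085 D16543) (tt N8631 (iv D15860)))
theorem Q9404 : ∀ i, i < 9404 → P i := stepQ 9403 Q9403 (allL N9403 (tt N10033 (iv F65188)) (tt N9878 (iv F64588)) (tt N8645 F62600) (tt N10075 (iv F65329)) (tt N9877 (iv F64585)) (tt N8634 F62601) (tt N9876 (iv F64581)) (tt N10086 D16544) (tt N8632 (iv D15861)))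
theorem Q9405 : ∀ i, i < 9405 → P i := stepQ 9404 Q9404 (allL N9404 (tt N10034 (iv F65191)) (tt N9879 (iv F64593)) (tt N8646 F62602) (tt N10087 D16545) (tt N10084 (iv F65347)) (tt N8635 F62603) (tt N10085 (iv F65350)) (tt N8633 (iv D15862)) (tt N10086 (iv F65353)))
theorem Q9406 : ∀ i, i < 9406 → P i := stepQ 9405 Q9405 (allL N9405 (tt N10035 (iv F65194)) (tt N9880 (iv F64596)) (tt N8647 F62604) (tt N10088 D16546) (tt N9186 F62605) (tt N10086 (iv F65352)) (tt N9898 (iv F64666)) (tt N8634 (iv D15863)) (tt N8635 F62606))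
theorem Q9407 : ∀ i, i < 9407 → P i := stepQ 9406 Q9406 (allL N9406 (tt N10036 (iv F65198)) (tt N9881 (iv F64600)) (tt N10089 D16547) (tt N8635 (iv D15864)) (tt N10090 D16548) (tt N10087 (iv F65354)) (tt N9899 (iv F64669)) (tt N8638 F62607) (tt N10088 (iv F65356)))
theorem Q9408 : ∀ i, i < 9408 → P i := stepQ 9407 Q9407 (allL N9407 (tt N9574 (iv F63366)) (tt N9882 (iv F64603)) (tt N8640 F62608) (tt N10091 D16549) (tt N9569 (iv F63340)) (tt N9900 (iv F64673)) (tt N8637 F62609) (tt N8636 (iv D15865)) (tt N9611 (iv F63534)))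
theorem Q9409 : ∀ i, i < 9409 → P i := stepQ 9408 Q9408 (allL N9408 (tt N10037 (iv F65200)) (tt N9883 (iv F64607)) (tt N10092 D16550) (tt N8637 (iv D15866)) (tt N10093 D16551) (tt N8638 F62610) (tt N10091 (iv F65361)) (tt N10087 (iv F65355)) (tt N10079 (iv F65337)))
theorem Q9410 : ∀ i, i < 9410 → P i := stepQ 9409 Q9409 (allL N9409 (tt N10038 (iv F65202)) (tt N10094 D16552) (tt N8638 (iv D15867)) (tt N8642 F62611) (tt N10095 D16553) (tt N10092 (iv F65363)) (tt N9902 (iv F64678)) (tt N10089 (iv F65358)) (tt N10080 (iv F65339)))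
theorem Q9411 : ∀ i, i < 9411 → P i := stepQ 9410 Q9410 (allL N9410 (tt N10039 (iv F65204)) (tt N9884 (iv F64609)) (tt N10095 (iv F65365)) (tt N8639 F62612) (tt N8638 (iv D15868)) (tt N10096 D16554) (tt N9903 (iv F64681)) (tt N10090 (iv F65360)) (tt N10081 (iv F65341)))
theorem Q9412 : ∀ i, i < 9412 → P i := stepQ 9411 Q9411 (allL N9411 (tt N10040 (iv F65206)) (tt N9885 (iv F64612)) (tt N9633 (iv F63591)) (tt N10096 (iv F65366)) (tt N9822 (iv F64382)) (tt N8639 (iv D15869)) (tt N10097 D16555) (tt N9192 F62613) (tt N10082 (iv F65342)))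
theorem Q9413 : ∀ i, i < 9413 → P i := stepQ 9412 Q9412 (allL N9412 (tt N9659 (iv F63684)) (tt N8664 F62614) (tt N10098 D16556) (tt N8640 (iv D15870)) (tt N9698 (iv F63887)) (tt N9538 (iv F63188)) (tt N8641 F62615) (tt N8653 F62616) (tt N9668 (iv F63742)))
theorem Q9414 : ∀ i, i < 9414 → P i := stepQ 9413 Q9413 (allL N9413 (tt N10041 (iv F65208)) (tt N10099 D16557) (tt N8641 (iv D15871)) (tt N10092 (iv F65362)) (tt N10100 D16558) (tt N8642 F62617) (tt N10098 (iv F65368)) (tt N8654 F62618) (tt N10083 (iv F65345)))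
theorem Q9415 : ∀ i, i < 9415 → P i := stepQ 9414 Q9414 (allL N9414 (tt N9697 (iv F63879)) (tt N8666 F62619) (tt N10100 (iv F65373)) (tt N9528 (iv F63128)) (tt N8641 (iv D15872)) (tt N9531 (iv F63148)) (tt N9698 (iv F63889)) (tt N8655 F62620) (tt N9739 (iv F64064)))
theorem Q9416 : ∀ i, i < 9416 → P i := stepQ 9415 Q9415 (allL N9415 (tt N10101 D16559) (tt N8642 (iv D15873)) (tt N8667 F62621) (tt N10094 (iv F65364)) (tt N9635 (iv F63596)) (tt N10099 (iv F65371)) (tt N9943 (iv F64809)) (tt N8656 F62622) (tt N9798 (iv F64302)))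
theorem Q9417 : ∀ i, i < 9417 → P i := stepQ 9416 Q9416 (allL N9416 (tt N10043 (iv F65213)) (tt N8674 F62623) (tt N10084 (iv F65346)) (tt N10102 D16560) (tt N8646 F62624) (tt N9204 F62625) (tt N9921 (iv F64718)) (tt N8643 (iv D15874)) (tt N9920 (iv F64714)))
theorem Q9418 : ∀ i, i < 9418 → P i := stepQ 9417 Q9417 (allL N9417 (tt N10044 (iv F65218)) (tt N8675 F62626) (tt N10085 (iv F65349)) (tt N10103 D16561) (tt N9921 (iv F64716)) (tt N9967 (iv F64921)) (tt N8646 F62627) (tt N8644 (iv D15875)) (tt N9919 (iv F64709)))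
theorem Q9419 : ∀ i, i < 9419 → P i := stepQ 9418 Q9418 (allL N9418 (tt N10045 (iv F65221)) (tt N8676 F62628) (tt N10086 (iv F65351)) (tt N10104 D16562) (tt N9920 (iv F64711)) (tt N8647 F62629) (tt N9919 (iv F64708)) (tt N8645 (iv D15876)) (tt N8646 F62630))
theorem Q9420 : ∀ i, i < 9420 → P i := stepQ 9419 Q9419 (allL N9419 (tt N10046 (iv F65225)) (tt N8677 F62631) (tt N10105 D16563) (tt N8646 (iv D15877)) (tt N10106 D16564) (tt N8648 F62632) (tt N10103 (iv F65383)) (tt N8650 F62633) (tt N10104 (iv F65388)))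
theorem Q9421 : ∀ i, i < 9421 → P i := stepQ 9420 Q9420 (allL N9420 (tt N10047 (iv F65230)) (tt N8678 F62634) (tt N10107 D16565) (tt N8647 (iv D15878)) (tt N10108 D16566) (tt N10104 (iv F65386)) (tt N9970 (iv F64934)) (tt N9420 F62635) (tt N8648 F62636))
theorem Q9422 : ∀ i, i < 9422 → P i := stepQ 9421 Q9421 (allL N9421 (tt N10048 (iv F65234)) (tt N10109 D16567) (tt N8648 (iv D15879)) (tt N10089 (iv F65357)) (tt N10110 D16568) (tt N10105 (iv F65389)) (tt N9971 (iv F64937)) (tt N8651 F62637) (tt N10107 (iv F65397)))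
theorem Q9423 : ∀ i, i < 9423 → P i := stepQ 9422 Q9422 (allL N9422 (tt N10049 (iv F65236)) (tt N8680 F62638) (tt N10110 (iv F65405)) (tt N9210 F62639) (tt N8648 (iv D15880)) (tt N9830 (iv F64414)) (tt N9972 (iv F64941)) (tt N8652 F62640) (tt N10108 (iv F65401)))
theorem Q9424 : ∀ i, i < 9424 → P i := stepQ 9423 Q9423 (allL N9423 (tt N10050 (iv F65242)) (tt N8681 F62641) (tt N10111 D16569) (tt N8649 (iv D15881)) (tt N9448 (iv F62724)) (tt N9973 (iv F64944)) (tt N8650 F62642) (tt N10103 (iv F65384)) (tt N9423 F62643))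
theorem Q9425 : ∀ i, i < 9425 → P i := stepQ 9424 Q9424 (allL N9424 (tt N10051 (iv F65247)) (tt N10112 D16570) (tt N8650 (iv D15882)) (tt N8654 F62644) (tt N10113 D16571) (tt N8651 F62645) (tt N10111 (iv F65408)) (tt N10105 (iv F65390)) (tt N9424 F62646))
theorem Q9426 : ∀ i, i < 9426 → P i := stepQ 9425 Q9425 (allL N9425 (tt N8890 F62647) (tt N8683 F62648) (tt N10113 (iv F65417)) (tt N8660 F62649) (tt N8650 (iv D15883)) (tt N8746 F62650) (tt N9448 (iv F62726)) (tt N10106 (iv F65395)) (tt N9425 F62651))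
theorem Q9427 : ∀ i, i < 9427 → P i := stepQ 9426 Q9426 (allL N9426 (tt N10114 D16572) (tt N8651 (iv D15884)) (tt N8684 F62652) (tt N8656 F62653) (tt N10115 D16573) (tt N10112 (iv F65412)) (tt N9975 (iv F64952)) (tt N10109 (iv F65404)) (tt N9426 F62654))
theorem Q9428 : ∀ i, i < 9428 → P i := stepQ 9427 Q9427 (allL N9427 (tt N10053 (iv F65255)) (tt N10115 (iv F65425)) (tt N8652 F62655) (tt N9654 (iv F63659)) (tt N8651 (iv D15885)) (tt N9996 (iv F65054)) (tt N9976 (iv F64955)) (tt N10110 (iv F65406)) (tt N9427 F62656))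
theorem Q9429 : ∀ i, i < 9429 → P i := stepQ 9428 Q9428 (allL N9428 (tt N9702 (iv F63906)) (tt N9517 (iv F63059)) (tt N8653 (iv D15886)) (tt N10111 (iv F65407)) (tt N9701 (iv F63902)) (tt N9518 (iv F63065)) (tt N8654 F62657) (tt N10098 (iv F65369)) (tt N9428 F62658))
theorem Q9430 : ∀ i, i < 9430 → P i := stepQ 9429 Q9429 (allL N9429 (tt N9542 (iv F63207)) (tt N8654 (iv D15887)) (tt N8668 F62659) (tt N10112 (iv F65411)) (tt N9541 (iv F63204)) (tt N8656 F62660) (tt N9517 (iv F63061)) (tt N10099 (iv F65372)) (tt N9429 F62661))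
theorem Q9431 : ∀ i, i < 9431 → P i := stepQ 9430 Q9430 (allL N9430 (tt N9700 (iv F63894)) (tt N9541 (iv F63203)) (tt N8655 F62662) (tt N10116 D16574) (tt N8654 (iv D15888)) (tt N9540 (iv F63199)) (tt N9701 (iv F63904)) (tt N10100 (iv F65374)) (tt N9430 F62663))
theorem Q9432 : ∀ i, i < 9432 → P i := stepQ 9431 Q9431 (allL N9431 (tt N8656 (iv D15889)) (tt N10054 (iv F65261)) (tt N8669 F62664) (tt N10114 (iv F65423)) (tt N9656 (iv F63668)) (tt N9542 F63212) (tt N9641 (iv F63619)) (tt N10101 (iv F65376)) (tt N9431 F62665))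
theorem Q9433 : ∀ i, i < 9433 → P i := stepQ 9432 Q9432 (allL N9432 (tt N8883 F62666) (tt N8688 F62667) (tt N10117 D16575) (tt N8657 (iv D15890)) (tt N8742 F62668) (tt N9215 F62669) (tt N9994 (iv F65044)) (tt N10102 (iv F65380)) (tt N8739 F62670))
theorem Q9434 : ∀ i, i < 9434 → P i := stepQ 9433 Q9433 (allL N9433 (tt N8779 F62671) (tt N8777 F62672) (tt N10116 (iv F65430)) (tt N8662 (iv D15891)) (tt N8747 F62673) (tt N8968 F62674) (tt N8780 F62675) (tt N10118 D16576) (tt N9433 F62676))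
theorem Q9435 : ∀ i, i < 9435 → P i := stepQ 9434 Q9434 (allL N9434 (tt N9536 (iv F63173)) (tt N8665 (iv D15892)) (tt N10099 (iv F65370)) (tt N9507 (iv F63018)) (tt N9533 (iv F63160)) (tt N8667 F62677) (tt N9508 (iv F63026)) (tt N8668 F62678) (tt N9797 (iv F64299)))
theorem Q9436 : ∀ i, i < 9436 → P i := stepQ 9435 Q9435 (allL N9435 (tt N8667 (iv D15893)) (tt N8670 F62679) (tt N10101 (iv F65375)) (tt N9604 (iv F63495)) (tt N9677 (iv F63784)) (tt N9536 F63178) (tt N9605 (iv F63503)) (tt N8669 F62680) (tt N9795 (iv F64292)))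
theorem Q9437 : ∀ i, i < 9437 → P i := stepQ 9436 Q9436 (allL N9436 (tt N9436 F62681) (tt N10071 (iv F65311)) (tt N9283 F62682) (tt N10119 D16577) (tt N9282 F62683) (tt N9951 (iv F64853)) (tt N8672 F62684) (tt N8671 (iv D15894)) (tt N9243 F62685))
theorem Q9438 : ∀ i, i < 9438 → P i := stepQ 9437 Q9437 (allL N9437 (tt N9437 F62686) (tt N10072 (iv F65315)) (tt N10120 D16578) (tt N8672 (iv D15895)) (tt N10121 D16579) (tt N8673 F62687) (tt N10119 (iv F65449)) (tt N9437 F62688) (tt N9244 F62689))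
theorem Q9439 : ∀ i, i < 9439 → P i := stepQ 9438 Q9438 (allL N9438 (tt N9438 F62690) (tt N10122 D16580) (tt N8673 (iv D15896)) (tt N9946 (iv F64825)) (tt N9687 (iv F63835)) (tt N10120 (iv F65454)) (tt N9952 (iv F64858)) (tt N9438 F62691) (tt N9245 F62692))
theorem Q9440 : ∀ i, i < 9440 → P i := stepQ 9439 Q9439 (allL N9439 (tt N9439 F62693) (tt N10102 (iv F65378)) (tt N9680 (iv F63800)) (tt N8674 (iv D15897)) (tt N9944 (iv F64814)) (tt N9288 F62694) (tt N9986 (iv F65005)) (tt N8688 F62695) (tt N9985 (iv F65001)))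
theorem Q9441 : ∀ i, i < 9441 → P i := stepQ 9440 Q9440 (allL N9440 (tt N9440 F62696) (tt N10103 (iv F65382)) (tt N9443 (iv F62708)) (tt N8675 (iv D15898)) (tt N9442 F62706) (tt N9979 (iv F64969)) (tt N8677 F62697) (tt N8681 F62698) (tt N9984 (iv F64995)))
theorem Q9442 : ∀ i, i < 9442 → P i := stepQ 9441 Q9441 (allL N9441 (tt N9441 F62699) (tt N10104 (iv F65385)) (tt N10123 D16581) (tt N8676 (iv D15899)) (tt N10124 D16582) (tt N8678 F62700) (tt N9984 (iv F64993)) (tt N9441 F62701) (tt N8677 F62702))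
theorem Q9443 : ∀ i, i < 9443 → P i := stepQ 9442 Q9442 (allL N9442 (tt N9442 F62703) (tt N10125 D16583) (tt N8677 (iv D15900)) (tt N9987 (iv F65009)) (tt N9440 (iv F62706)) (tt N8679 F62704) (tt N9443 (iv F62709)) (tt N8682 F62705) (tt N10123 (iv F65470)))
theorem Q9444 : ∀ i, i < 9444 → P i := stepQ 9443 Q9443 (allL N9443 (tt N9443 F62707) (tt N10106 (iv F65392)) (tt N9440 F62708) (tt N9944 (iv F64813)) (tt N8677 (iv D15901)) (tt N9945 (iv F64820)) (tt N9442 F62709) (tt N8683 F62710) (tt N10124 (iv F65478)))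
theorem Q9445 : ∀ i, i < 9445 → P i := stepQ 9444 Q9444 (allL N9444 (tt N9444 F62711) (tt N10126 D16584) (tt N8678 (iv D15902)) (tt N9685 F63826) (tt N10127 D16585) (tt N10123 (iv F65468)) (tt N9686 (iv F63830)) (tt N9444 F62712) (tt N8679 F62713))
theorem Q9446 : ∀ i, i < 9446 → P i := stepQ 9445 Q9445 (allL N9445 (tt N9445 F62714) (tt N10108 (iv F65398)) (tt N10127 (iv F65486)) (tt N9241 F62715) (tt N8678 (iv D15903)) (tt N9242 (iv F62718)) (tt N9980 (iv F64975)) (tt N9445 F62716) (tt N8680 F62717))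
theorem Q9447 : ∀ i, i < 9447 → P i := stepQ 9446 Q9446 (allL N9446 (tt N10128 D16586) (tt N8679 (iv D15904)) (tt N10109 (iv F65403)) (tt N9989 (iv F65020)) (tt N10129 D16587) (tt N10125 (iv F65480)) (tt N9981 (iv F64980)) (tt N8684 F62719) (tt N10126 (iv F65484)))
theorem Q9448 : ∀ i, i < 9448 → P i := stepQ 9447 Q9447 (allL N9447 (tt N9447 F62720) (tt N10129 (iv F65493)) (tt N8680 F62721) (tt N10120 (iv F65453)) (tt N8679 (iv D15905)) (tt N9946 (iv F64826)) (tt N9982 (iv F64985)) (tt N8685 F62722) (tt N10127 (iv F65490)))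
theorem Q9449 : ∀ i, i < 9449 → P i := stepQ 9448 Q9448 (allL N9448 (tt N9651 (iv F63647)) (tt N8682 (iv D15906)) (tt N10112 (iv F65410)) (tt N8686 F62723) (tt N9423 F62724) (tt N8684 F62725) (tt N9425 F62726) (tt N10125 (iv F65482)) (tt N9448 F62727))
theorem Q9450 : ∀ i, i < 9450 → P i := stepQ 9449 Q9449 (allL N9449 (tt N8684 (iv D15907)) (tt N9449 F62728) (tt N10114 (iv F65422)) (tt N8687 F62729) (tt N10130 D16588) (tt N9651 (iv F63649)) (tt N9639 (iv F63612)) (tt N10128 (iv F65492)) (tt N9449 F62730))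
theorem Q9451 : ∀ i, i < 9451 → P i := stepQ 9450 Q9450 (allL N9450 (tt N10130 (iv F65495)) (tt N8685 F62731) (tt N10115 (iv F65426)) (tt N9450 F62732) (tt N8684 (iv D15908)) (tt N10010 (iv F65113)) (tt N9983 (iv F64989)) (tt N10129 (iv F65494)) (tt N9450 F62733))
theorem Q9452 : ∀ i, i < 9452 → P i := stepQ 9451 Q9451 (allL N9451 (tt N8690 (iv D15909)) (tt N8802 F62734) (tt N9451 F62735) (tt N8703 F62736) (tt N9392 (iv F62740)) (tt N8980 F62737) (tt N9088 F62738) (tt N9391 F62739) (tt N10131 D16589))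
theorem Q9453 : ∀ i, i < 9453 → P i := stepQ 9452 Q9452 (allL N9452 (tt N9392 F62741) (tt N8691 F62742) (tt N9452 F62743) (tt N9348 F62746) (tt N8690 (iv D15910)) (tt N9338 (iv F62747)) (tt N8856 F62744) (tt N8839 F62745) (tt N10132 D16590))
theorem Q9454 : ∀ i, i < 9454 → P i := stepQ 9453 Q9453 (allL N9453 (tt N10131 (iv F65499)) (tt N8692 F62748) (tt N9453 F62749) (tt N8705 F62750) (tt N10132 (iv F65510)) (tt N8982 F62751) (tt N9810 (iv F64350)) (tt N10133 D16591) (tt N8690 (iv D15911)))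
theorem Q9455 : ∀ i, i < 9455 → P i := stepQ 9454 Q9454 (allL N9454 (tt N8805 F62752) (tt N9348 F62753) (tt N9454 F62754) (tt N8691 (iv D15912)) (tt N8706 F62755) (tt N9343 (iv F62758)) (tt N8825 F62756) (tt N8815 F62757) (tt N10134 D16592))
theorem Q9456 : ∀ i, i < 9456 → P i := stepQ 9455 Q9455 (allL N9455 (tt N8806 F62759) (tt N9338 F62760) (tt N8693 F62761) (tt N9343 F62762) (tt N8984 F62763) (tt N8691 (iv D15913)) (tt N9840 (iv F64463)) (tt N8842 F62764) (tt N10135 D16593))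
theorem Q9457 : ∀ i, i < 9457 → P i := stepQ 9456 Q9456 (allL N9456 (tt N8807 F62765) (tt N10132 (iv F65507)) (tt N8694 F62766) (tt N10134 (iv F65519)) (tt N8692 F62767) (tt N10135 (iv F65528)) (tt N8866 F62768) (tt N10136 D16594) (tt N8691 (iv D15914)))
theorem Q9458 : ∀ i, i < 9458 → P i := stepQ 9457 Q9457 (allL N9457 (tt N8808 F62769) (tt N10133 (iv F65513)) (tt N8695 F62770) (tt N10137 D16595) (tt N10136 (iv F65531)) (tt N8986 F62771) (tt N9818 (iv F64376)) (tt N8692 (iv D15915)) (tt N9688 (iv F63844)))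
theorem Q9459 : ∀ i, i < 9459 → P i := stepQ 9458 Q9458 (allL N9458 (tt N8810 F62772) (tt N9458 F62773) (tt N10135 (iv F65525)) (tt N9458 F62774) (tt N8987 F62775) (tt N8694 F62776) (tt N9997 (iv F65062)) (tt N10138 D16596) (tt N8693 (iv D15916)))
theorem Q9460 : ∀ i, i < 9460 → P i := stepQ 9459 Q9459 (allL N9459 (tt N8811 F62777) (tt N9459 F62778) (tt N10136 (iv F65530)) (tt N10139 D16597) (tt N8695 F62779) (tt N10138 (iv F65541)) (tt N8887 F62780) (tt N8694 (iv D15917)) (tt N8877 F62781))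
theorem Q9461 : ∀ i, i < 9461 → P i := stepQ 9460 Q9460 (allL N9460 (tt N8812 F62782) (tt N9005 F62783) (tt N8697 F62784) (tt N9816 (iv F64368)) (tt N8958 F62785) (tt N8700 F62786) (tt N8989 F62787) (tt N10140 D16598) (tt N8696 (iv D15918)))
theorem Q9462 : ∀ i, i < 9462 → P i := stepQ 9461 Q9461 (allL N9461 (tt N8813 F62788) (tt N8749 F62789) (tt N10140 (iv F65551)) (tt N8897 F62790) (tt N8966 F62791) (tt N8702 F62792) (tt N8990 F62793) (tt N8697 (iv D15919)) (tt N8716 F62794))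
theorem Q9463 : ∀ i, i < 9463 → P i := stepQ 9462 Q9462 (allL N9462 (tt N9091 F62795) (tt N8700 F62796) (tt N8750 F62797) (tt N9810 (iv F64347)) (tt N9014 F62798) (tt N9005 F62799) (tt N8705 F62800) (tt N10141 D16599) (tt N8698 (iv D15920)))
theorem Q9464 : ∀ i, i < 9464 → P i := stepQ 9463 Q9463 (allL N9463 (tt N8815 F62801) (tt N9011 F62802) (tt N9463 F62803) (tt N8699 (iv D15921)) (tt N8825 F62804) (tt N9008 F62805) (tt N8706 F62806) (tt N8805 F62807) (tt N10142 D16600))
theorem Q9465 : ∀ i, i < 9465 → P i := stepQ 9464 Q9464 (allL N9464 (tt N8816 F62808) (tt N9014 F62809) (tt N8701 F62810) (tt N10142 (iv F65566)) (tt N8700 F62811) (tt N9009 F62812) (tt N8708 F62813) (tt N10143 D16601) (tt N8699 (iv D15922)))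
theorem Q9466 : ∀ i, i < 9466 → P i := stepQ 9465 Q9465 (allL N9465 (tt N8817 F62814) (tt N10141 (iv F65557)) (tt N8702 F62815) (tt N10144 D16602) (tt N10143 (iv F65573)) (tt N10140 (iv F65553)) (tt N8709 F62816) (tt N8700 (iv D15923)) (tt N8720 F62817))
theorem Q9467 : ∀ i, i < 9467 → P i := stepQ 9466 Q9466 (allL N9466 (tt N8818 F62818) (tt N8752 F62819) (tt N10143 (iv F65572)) (tt N10145 D16603) (tt N8702 F62820) (tt N9064 F62821) (tt N8711 F62822) (tt N8701 (iv D15924)) (tt N8721 F62823))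
theorem Q9468 : ∀ i, i < 9468 → P i := stepQ 9467 Q9467 (allL N9467 (tt N8705 F62824) (tt N8819 F62825) (tt N8753 F62826) (tt N10131 (iv F65502)) (tt N9161 F62827) (tt N8993 F62828) (tt N9091 F62829) (tt N10146 D16604) (tt N8703 (iv D15925)))
theorem Q9469 : ∀ i, i < 9469 → P i := stepQ 9468 Q9468 (allL N9468 (tt N9156 F62830) (tt N8706 F62831) (tt N9041 F62832) (tt N8704 (iv D15926)) (tt N9348 F62833) (tt N9028 F62834) (tt N9011 F62835) (tt N9347 (iv F62836)) (tt N10147 D16605))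
theorem Q9470 : ∀ i, i < 9470 → P i := stepQ 9469 Q9469 (allL N9469 (tt N9161 F62837) (tt N8708 F62838) (tt N8754 F62839) (tt N10147 (iv F65598)) (tt N8705 F62840) (tt N9033 F62841) (tt N9014 F62842) (tt N10148 D16606) (tt N8704 (iv D15927)))
theorem Q9471 : ∀ i, i < 9471 → P i := stepQ 9470 Q9470 (allL N9470 (tt N10146 (iv F65588)) (tt N8709 F62843) (tt N8755 F62844) (tt N10149 D16607) (tt N10148 (iv F65605)) (tt N8996 F62845) (tt N10141 (iv F65561)) (tt N8705 (iv D15928)) (tt N8727 F62846))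
theorem Q9472 : ∀ i, i < 9472 → P i := stepQ 9471 Q9471 (allL N9471 (tt N8824 F62847) (tt N9028 F62848) (tt N9471 F62849) (tt N8707 F62850) (tt N9754 (iv F64131)) (tt N8706 (iv D15929)) (tt N9021 F62851) (tt N9753 F64126) (tt N10150 D16608))
theorem Q9473 : ∀ i, i < 9473 → P i := stepQ 9472 Q9472 (allL N9472 (tt N8825 F62852) (tt N9347 F62853) (tt N9472 F62854) (tt N8729 F62855) (tt N8815 F62856) (tt N9753 (iv F64125)) (tt N8805 F62857) (tt N8706 (iv D15930)) (tt N10151 D16609))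
theorem Q9474 : ∀ i, i < 9474 → P i := stepQ 9473 Q9473 (allL N9473 (tt N8826 F62858) (tt N10147 (iv F65596)) (tt N9473 F62859) (tt N8708 F62860) (tt N10134 (iv F65520)) (tt N10150 (iv F65616)) (tt N10142 (iv F65569)) (tt N10152 D16610) (tt N8706 (iv D15931)))
theorem Q9475 : ∀ i, i < 9475 → P i := stepQ 9474 Q9474 (allL N9474 (tt N8828 F62861) (tt N9033 F62862) (tt N8710 F62863) (tt N10150 (iv F65615)) (tt N9000 F62864) (tt N8708 F62865) (tt N9024 F62866) (tt N10153 D16611) (tt N8707 (iv D15932)))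
theorem Q9476 : ∀ i, i < 9476 → P i := stepQ 9475 Q9475 (allL N9475 (tt N8829 F62867) (tt N10148 (iv F65603)) (tt N8711 F62868) (tt N10154 D16612) (tt N8709 F62869) (tt N10153 (iv F65630)) (tt N10143 (iv F65575)) (tt N8708 (iv D15933)) (tt N8733 F62870))
theorem Q9477 : ∀ i, i < 9477 → P i := stepQ 9476 Q9476 (allL N9476 (tt N8830 F62871) (tt N10149 (iv F65609)) (tt N9341 F62872) (tt N8709 (iv D15934)) (tt N10155 D16613) (tt N9002 F62873) (tt N10144 (iv F65579)) (tt N10137 (iv F65537)) (tt N8734 F62874))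
theorem Q9478 : ∀ i, i < 9478 → P i := stepQ 9477 Q9477 (allL N9477 (tt N8832 F62875) (tt N8758 F62876) (tt N10153 (iv F65628)) (tt N10156 D16614) (tt N9003 F62877) (tt N8711 F62878) (tt N9070 F62879) (tt N8710 (iv D15935)) (tt N8736 F62880))
theorem Q9479 : ∀ i, i < 9479 → P i := stepQ 9478 Q9478 (allL N9478 (tt N8833 F62881) (tt N8759 F62882) (tt N10157 D16615) (tt N8711 (iv D15936)) (tt N9342 F62883) (tt N10156 (iv F65641)) (tt N10145 (iv F65585)) (tt N9478 F62884) (tt N8737 F62885))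
theorem Q9480 : ∀ i, i < 9480 → P i := stepQ 9479 Q9479 (allL N9479 (tt N8956 F62886) (tt N8714 F62887) (tt N8760 F62888) (tt N9483 (iv F62911)) (tt N8989 F62889) (tt N8718 F62890) (tt N8958 F62891) (tt N10158 D16616) (tt N8712 (iv D15937)))
theorem Q9481 : ∀ i, i < 9481 → P i := stepQ 9480 Q9480 (allL N9480 (tt N8835 F62892) (tt N8989 F62893) (tt N8715 F62894) (tt N10074 (iv F65324)) (tt N8714 F62895) (tt N8991 F62896) (tt N9005 F62897) (tt N10159 D16617) (tt N8713 (iv D15938)))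
theorem Q9482 : ∀ i, i < 9482 → P i := stepQ 9481 Q9481 (allL N9481 (tt N8836 F62898) (tt N10158 (iv F65650)) (tt N8716 F62899) (tt N10160 D16618) (tt N10159 (iv F65659)) (tt N8720 F62900) (tt N9006 F62901) (tt N8714 (iv D15939)) (tt N10140 (iv F65555)))
theorem Q9483 : ∀ i, i < 9483 → P i := stepQ 9482 Q9482 (allL N9482 (tt N8837 F62902) (tt N8762 F62903) (tt N10159 (iv F65658)) (tt N10161 D16619) (tt N8716 F62904) (tt N9058 F62905) (tt N9007 F62906) (tt N8715 (iv D15940)) (tt N8966 F62907))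
theorem Q9484 : ∀ i, i < 9484 → P i := stepQ 9483 Q9483 (allL N9483 (tt N8718 F62908) (tt N8838 F62909) (tt N8763 F62910) (tt N9479 F62911) (tt N9057 F62912) (tt N8956 F62913) (tt N8723 F62914) (tt N10162 D16620) (tt N8717 (iv D15941)))
theorem Q9485 : ∀ i, i < 9485 → P i := stepQ 9484 Q9484 (allL N9484 (tt N10162 (iv F65674)) (tt N8720 F62915) (tt N8764 F62916) (tt N10163 D16621) (tt N9193 F62917) (tt N10158 (iv F65653)) (tt N8727 F62918) (tt N8718 (iv D15942)) (tt N10141 (iv F65562)))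
theorem Q9486 : ∀ i, i < 9486 → P i := stepQ 9485 Q9485 (allL N9485 (tt N8846 F62919) (tt N9193 F62920) (tt N8721 F62921) (tt N10164 D16622) (tt N8720 F62922) (tt N9194 F62923) (tt N8733 F62924) (tt N8719 (iv D15943)) (tt N10143 (iv F65576)))
theorem Q9487 : ∀ i, i < 9487 → P i := stepQ 9486 Q9486 (allL N9486 (tt N8847 F62925) (tt N10163 (iv F65681)) (tt N9171 F62926) (tt N8720 (iv D15944)) (tt N10165 D16623) (tt N10160 (iv F65665)) (tt N8734 F62927) (tt N9691 (iv F63858)) (tt N10144 (iv F65580)))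
theorem Q9488 : ∀ i, i < 9488 → P i := stepQ 9487 Q9487 (allL N9487 (tt N8850 F62928) (tt N8766 F62929) (tt N10166 D16624) (tt N8721 (iv D15945)) (tt N9221 F62930) (tt N9226 F62931) (tt N8737 F62932) (tt N8738 F62933) (tt N10145 (iv F65587)))
theorem Q9489 : ∀ i, i < 9489 → P i := stepQ 9488 Q9488 (allL N9488 (tt N8724 F62934) (tt N8851 F62935) (tt N9102 F62936) (tt N8722 (iv D15946)) (tt N9095 F62937) (tt N9145 F62938) (tt N9132 F62939) (tt N9094 F62940) (tt N10167 D16625))
theorem Q9490 : ∀ i, i < 9490 → P i := stepQ 9489 Q9489 (allL N9489 (tt N8726 F62941) (tt N8853 F62942) (tt N8767 F62943) (tt N10167 (iv F65699)) (tt N8723 F62944) (tt N9150 F62945) (tt N9057 F62946) (tt N10168 D16626) (tt N8722 (iv D15947)))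
theorem Q9491 : ∀ i, i < 9491 → P i := stepQ 9490 Q9490 (allL N9490 (tt N8727 F62947) (tt N8854 F62948) (tt N8768 F62949) (tt N10169 D16627) (tt N10168 (iv F65706)) (tt N9020 F62950) (tt N10162 (iv F65679)) (tt N8723 (iv D15948)) (tt N10146 (iv F65594)))
theorem Q9492 : ∀ i, i < 9492 → P i := stepQ 9491 Q9491 (allL N9491 (tt N9145 F62951) (tt N8728 F62952) (tt N9300 F62953) (tt N8725 F62954) (tt N9499 (iv F62991)) (tt N8724 (iv D15949)) (tt N8997 F62955) (tt N9497 F62982) (tt N10170 D16628))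
theorem Q9493 : ∀ i, i < 9493 → P i := stepQ 9492 Q9492 (allL N9492 (tt N9094 F62956) (tt N8729 F62957) (tt N8939 F62958) (tt N9347 F62959) (tt N8799 F62960) (tt N9497 (iv F62981)) (tt N8803 F62961) (tt N8724 (iv D15950)) (tt N9934 (iv F64776)))
theorem Q9494 : ∀ i, i < 9494 → P i := stepQ 9493 Q9493 (allL N9493 (tt N10167 (iv F65696)) (tt N8730 F62962) (tt N9211 F62963) (tt N8726 F62964) (tt N9545 (iv F63230)) (tt N10170 (iv F65717)) (tt N9212 F62965) (tt N10171 D16629) (tt N8724 (iv D15951)))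
theorem Q9495 : ∀ i, i < 9495 → P i := stepQ 9494 Q9494 (allL N9494 (tt N9150 F62966) (tt N8732 F62967) (tt N8769 F62968) (tt N10170 (iv F65716)) (tt N9024 F62969) (tt N8726 F62970) (tt N9000 F62971) (tt N10172 D16630) (tt N8725 (iv D15952)))
theorem Q9496 : ∀ i, i < 9496 → P i := stepQ 9495 Q9495 (allL N9495 (tt N10168 (iv F65703)) (tt N8733 F62972) (tt N8770 F62973) (tt N10173 D16631) (tt N8727 F62974) (tt N10172 (iv F65726)) (tt N9193 F62975) (tt N8726 (iv D15953)) (tt N10148 (iv F65608)))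
theorem Q9497 : ∀ i, i < 9497 → P i := stepQ 9496 Q9496 (allL N9496 (tt N10169 (iv F65710)) (tt N8734 F62976) (tt N10174 D16632) (tt N8727 (iv D15954)) (tt N10175 D16633) (tt N9026 F62977) (tt N10163 (iv F65682)) (tt N9693 (iv F63866)) (tt N10149 (iv F65611)))
theorem Q9498 : ∀ i, i < 9498 → P i := stepQ 9497 Q9497 (allL N9497 (tt N8862 F62978) (tt N9499 (iv F62989)) (tt N8739 F62979) (tt N9027 F62980) (tt N8728 (iv D15955)) (tt N9492 F62981) (tt N9729 (iv F64028)) (tt N9491 (iv F62982)) (tt N10117 (iv F65439)))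
theorem Q9499 : ∀ i, i < 9499 → P i := stepQ 9498 Q9498 (allL N9498 (tt N8863 F62983) (tt N8997 F62984) (tt N8740 F62985) (tt N8731 F62986) (tt N9729 (iv F64026)) (tt N8994 F62987) (tt N8728 (iv D15956)) (tt N9728 F64021) (tt N10176 D16634))
theorem Q9500 : ∀ i, i < 9500 → P i := stepQ 9499 Q9499 (allL N9499 (tt N8864 F62988) (tt N9497 F62989) (tt N8741 F62990) (tt N9753 (iv F64124)) (tt N9491 F62991) (tt N8729 F62992) (tt N9728 (iv F64020)) (tt N8728 (iv D15957)) (tt N10177 D16635))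
theorem Q9501 : ∀ i, i < 9501 → P i := stepQ 9500 Q9500 (allL N9500 (tt N8865 F62993) (tt N10170 (iv F65714)) (tt N8742 F62994) (tt N8732 F62995) (tt N10117 (iv F65437)) (tt N8730 F62996) (tt N10176 (iv F65741)) (tt N10178 D16636) (tt N8728 (iv D15958)))
theorem Q9502 : ∀ i, i < 9502 → P i := stepQ 9501 Q9501 (allL N9501 (tt N8866 F62997) (tt N9934 (iv F64773)) (tt N8743 F62998) (tt N10151 (iv F65621)) (tt N8800 F62999) (tt N10177 (iv F65746)) (tt N8807 F63000) (tt N10179 D16637) (tt N8729 (iv D15959)))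
theorem Q9503 : ∀ i, i < 9503 → P i := stepQ 9502 Q9502 (allL N9502 (tt N8867 F63001) (tt N10171 (iv F65719)) (tt N8744 F63002) (tt N10180 D16638) (tt N9694 (iv F63869)) (tt N10178 (iv F65749)) (tt N9803 (iv F64320)) (tt N8730 (iv D15960)) (tt N10179 (iv F65754)))
theorem Q9504 : ∀ i, i < 9504 → P i := stepQ 9503 Q9503 (allL N9503 (tt N8868 F63003) (tt N9000 F63004) (tt N8735 F63005) (tt N10176 (iv F65739)) (tt N9033 F63006) (tt N8995 F63007) (tt N8732 F63008) (tt N10181 D16639) (tt N8731 (iv D15961)))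
theorem Q9505 : ∀ i, i < 9505 → P i := stepQ 9504 Q9504 (allL N9504 (tt N8869 F63009) (tt N10172 (iv F65723)) (tt N8736 F63010) (tt N10182 D16640) (tt N9034 F63011) (tt N8733 F63012) (tt N10181 (iv F65762)) (tt N8732 (iv D15962)) (tt N10153 (iv F65632)))
theorem Q9506 : ∀ i, i < 9506 → P i := stepQ 9505 Q9505 (allL N9505 (tt N8870 F63013) (tt N10173 (iv F65729)) (tt N10183 D16641) (tt N8733 (iv D15963)) (tt N10184 D16642) (tt N10182 (iv F65765)) (tt N10164 (iv F65686)) (tt N10180 (iv F65756)) (tt N10154 (iv F65634)))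
theorem Q9507 : ∀ i, i < 9507 → P i := stepQ 9506 Q9506 (allL N9506 (tt N8871 F63014) (tt N10175 (iv F65735)) (tt N9354 F63015) (tt N10184 (iv F65769)) (tt N8734 (iv D15964)) (tt N10185 D16643) (tt N10165 (iv F65689)) (tt N9696 (iv F63878)) (tt N10155 (iv F65637)))
theorem Q9508 : ∀ i, i < 9508 → P i := stepQ 9507 Q9507 (allL N9507 (tt N8872 F63016) (tt N8774 F63017) (tt N10181 (iv F65759)) (tt N9434 F63018) (tt N9037 F63019) (tt N9061 F63020) (tt N8736 F63021) (tt N8735 (iv D15965)) (tt N9070 F63022))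
theorem Q9509 : ∀ i, i < 9509 → P i := stepQ 9508 Q9508 (allL N9508 (tt N8873 F63023) (tt N8775 F63024) (tt N10186 D16644) (tt N8736 (iv D15966)) (tt N10118 (iv F65443)) (tt N8737 F63025) (tt N9434 F63026) (tt N8747 F63027) (tt N10156 (iv F65644)))
theorem Q9510 : ∀ i, i < 9510 → P i := stepQ 9509 Q9509 (allL N9509 (tt N8874 F63028) (tt N10187 D16645) (tt N8737 (iv D15967)) (tt N10183 (iv F65767)) (tt N9356 F63029) (tt N10186 (iv F65775)) (tt N10166 (iv F65694)) (tt N8748 F63030) (tt N10157 (iv F65648)))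
theorem Q9511 : ∀ i, i < 9511 → P i := stepQ 9510 Q9510 (allL N9510 (tt N8882 F63031) (tt N9294 F63032) (tt N8738 (iv D15968)) (tt N9995 (iv F65047)) (tt N9293 F63033) (tt N9296 F63034) (tt N8748 F63035) (tt N10166 (iv F65695)) (tt N9510 F63036))
theorem Q9512 : ∀ i, i < 9512 → P i := stepQ 9511 Q9511 (allL N9511 (tt N8884 F63037) (tt N9285 F63038) (tt N10176 (iv F65738)) (tt N8745 F63039) (tt N9994 (iv F65042)) (tt N9287 F63040) (tt N8742 F63041) (tt N10188 D16646) (tt N8740 (iv D15969)))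
theorem Q9513 : ∀ i, i < 9513 → P i := stepQ 9512 Q9512 (allL N9512 (tt N8885 F63042) (tt N8943 F63043) (tt N10177 (iv F65744)) (tt N9512 F63044) (tt N9925 F64739) (tt N8743 F63045) (tt N9926 (iv F64744)) (tt N10189 D16647) (tt N8741 (iv D15970)))
theorem Q9514 : ∀ i, i < 9514 → P i := stepQ 9513 Q9513 (allL N9513 (tt N8886 F63046) (tt N9944 (iv F64812)) (tt N10178 (iv F65748)) (tt N10106 (iv F65393)) (tt N10102 F65381) (tt N8744 F63047) (tt N10188 (iv F65787)) (tt N8742 (iv D15971)) (tt N10189 (iv F65791)))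
theorem Q9515 : ∀ i, i < 9515 → P i := stepQ 9514 Q9514 (allL N9514 (tt N8887 F63048) (tt N8944 F63049) (tt N10179 (iv F65751)) (tt N10190 D16648) (tt N8801 F63050) (tt N10189 (iv F65790)) (tt N8811 F63051) (tt N8743 (iv D15972)) (tt N8744 F63052))
theorem Q9516 : ∀ i, i < 9516 → P i := stepQ 9515 Q9515 (allL N9515 (tt N8888 F63053) (tt N9945 (iv F64818)) (tt N10191 D16649) (tt N8744 (iv D15973)) (tt N9830 (iv F64413)) (tt N10106 (iv F65394)) (tt N9805 (iv F64329)) (tt N8746 F63054) (tt N10190 (iv F65797)))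
theorem Q9517 : ∀ i, i < 9517 → P i := stepQ 9516 Q9516 (allL N9516 (tt N8891 F63055) (tt N10192 D16650) (tt N8746 (iv D15974)) (tt N8748 F63056) (tt N9996 (iv F65053)) (tt N10113 (iv F65418)) (tt N9995 (iv F65050)) (tt N10191 (iv F65799)) (tt N9516 F63057))
theorem Q9518 : ∀ i, i < 9518 → P i := stepQ 9517 Q9517 (allL N9517 (tt N8893 F63058) (tt N9428 F63059) (tt N8747 (iv D15975)) (tt N10113 F65421) (tt N10116 (iv F65431)) (tt N8748 F63060) (tt N9429 F63061) (tt N10186 (iv F65777)) (tt N9517 F63062))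
theorem Q9519 : ∀ i, i < 9519 → P i := stepQ 9518 Q9518 (allL N9518 (tt N10193 D16651) (tt N8748 (iv D15976)) (tt N8778 F63063) (tt N10192 (iv F65801)) (tt N9368 F63064) (tt N9428 F63065) (tt N9294 F63066) (tt N10187 (iv F65782)) (tt N9518 F63067))
theorem Q9520 : ∀ i, i < 9520 → P i := stepQ 9519 Q9519 (allL N9519 (tt N9108 F63068) (tt N8751 F63069) (tt N10141 (iv F65558)) (tt N10194 D16652) (tt N9017 F63070) (tt N9007 F63071) (tt N8755 F63072) (tt N8750 (iv D15977)) (tt N8764 F63073))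
theorem Q9521 : ∀ i, i < 9521 → P i := stepQ 9520 Q9520 (allL N9520 (tt N8783 F63074) (tt N10194 (iv F65812)) (tt N9079 F63075) (tt N8751 (iv D15978)) (tt N8903 F63076) (tt N9063 F63077) (tt N8757 F63078) (tt N9520 F63079) (tt N8765 F63080))
theorem Q9522 : ∀ i, i < 9522 → P i := stepQ 9521 Q9521 (allL N9521 (tt N8784 F63081) (tt N10145 (iv F65582)) (tt N9219 F63082) (tt N8752 (iv D15979)) (tt N9227 F63083) (tt N9066 F63084) (tt N8759 F63085) (tt N9521 F63086) (tt N8766 F63087))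
theorem Q9523 : ∀ i, i < 9523 → P i := stepQ 9522 Q9522 (allL N9522 (tt N8755 F63088) (tt N8785 F63089) (tt N10146 (iv F65590)) (tt N10195 D16653) (tt N9165 F63090) (tt N9060 F63091) (tt N9108 F63092) (tt N8753 (iv D15980)) (tt N8768 F63093))
theorem Q9524 : ∀ i, i < 9524 → P i := stepQ 9523 Q9523 (allL N9523 (tt N9165 F63094) (tt N8756 F63095) (tt N10148 (iv F65604)) (tt N9154 F63096) (tt N8755 F63097) (tt N9037 F63098) (tt N9017 F63099) (tt N8754 (iv D15981)) (tt N8770 F63100))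
theorem Q9525 : ∀ i, i < 9525 → P i := stepQ 9524 Q9524 (allL N9524 (tt N10195 (iv F65818)) (tt N8757 F63101) (tt N10196 D16654) (tt N8755 (iv D15982)) (tt N10197 D16655) (tt N9062 F63102) (tt N10194 (iv F65815)) (tt N9524 F63103) (tt N8771 F63104))
theorem Q9526 : ∀ i, i < 9526 → P i := stepQ 9525 Q9525 (allL N9525 (tt N8787 F63105) (tt N10197 (iv F65830)) (tt N9370 F63106) (tt N8902 F63107) (tt N8757 (iv D15983)) (tt N9080 (iv F63111)) (tt N8903 F63108) (tt N9525 F63109) (tt N8773 F63110))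
theorem Q9527 : ∀ i, i < 9527 → P i := stepQ 9526 Q9526 (allL N9526 (tt N8788 F63112) (tt N10156 (iv F65639)) (tt N8934 F63113) (tt N8758 (iv D15984)) (tt N9110 F63114) (tt N8759 F63115) (tt N9074 F63116) (tt N9526 F63117) (tt N8775 F63118))
theorem Q9528 : ∀ i, i < 9528 → P i := stepQ 9527 Q9527 (allL N9527 (tt N8789 F63119) (tt N10198 D16656) (tt N8759 (iv D15985)) (tt N8933 F63120) (tt N9371 F63121) (tt N8934 F63122) (tt N9219 F63123) (tt N9527 F63124) (tt N8776 F63125))
theorem Q9529 : ∀ i, i < 9529 → P i := stepQ 9528 Q9528 (allL N9528 (tt N8964 F63126) (tt N8761 F63127) (tt N10158 (iv F65651)) (tt N9414 F63128) (tt N8990 F63129) (tt N8764 F63130) (tt N8966 F63131) (tt N8760 (iv D15986)) (tt N9007 F63132))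
theorem Q9530 : ∀ i, i < 9530 → P i := stepQ 9529 Q9529 (allL N9529 (tt N8790 F63133) (tt N10161 (iv F65668)) (tt N9110 F63134) (tt N8762 (iv D15987)) (tt N8934 F63135) (tt N9059 F63136) (tt N9063 F63137) (tt N9529 F63138) (tt N8972 F63139))
theorem Q9531 : ∀ i, i < 9531 → P i := stepQ 9530 Q9530 (allL N9530 (tt N8764 F63140) (tt N8791 F63141) (tt N10162 (iv F65676)) (tt N10118 (iv F65442)) (tt N9038 F63142) (tt N8964 F63143) (tt N8768 F63144) (tt N8763 (iv D15988)) (tt N9108 F63145))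
theorem Q9532 : ∀ i, i < 9532 → P i := stepQ 9531 Q9531 (allL N9531 (tt N10118 (iv F65440)) (tt N8765 F63146) (tt N10199 D16657) (tt N8764 (iv D15989)) (tt N8873 F63147) (tt N9414 F63148) (tt N8771 F63149) (tt N8779 F63150) (tt N10194 (iv F65817)))
theorem Q9533 : ∀ i, i < 9533 → P i := stepQ 9532 Q9532 (allL N9532 (tt N8770 F63151) (tt N8793 F63152) (tt N10168 (iv F65705)) (tt N9037 F63153) (tt N8768 F63154) (tt N9154 F63155) (tt N9038 F63156) (tt N8767 (iv D15990)) (tt N9165 F63157))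
theorem Q9534 : ∀ i, i < 9534 → P i := stepQ 9533 Q9533 (allL N9533 (tt N8771 F63158) (tt N8794 F63159) (tt N10200 D16658) (tt N8768 (iv D15991)) (tt N9434 F63160) (tt N9069 F63161) (tt N10118 (iv F65445)) (tt N8780 F63162) (tt N10195 (iv F65824)))
theorem Q9535 : ∀ i, i < 9535 → P i := stepQ 9534 Q9534 (allL N9534 (tt N9154 F63163) (tt N8772 F63164) (tt N10172 (iv F65724)) (tt N9165 F63165) (tt N9070 F63166) (tt N8770 F63167) (tt N9003 F63168) (tt N8769 (iv D15992)) (tt N9037 F63169))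
theorem Q9536 : ∀ i, i < 9536 → P i := stepQ 9535 Q9535 (allL N9535 (tt N10200 (iv F65848)) (tt N9373 F63170) (tt N8771 (iv D15993)) (tt N10174 (iv F65733)) (tt N10201 D16659) (tt N9072 F63171) (tt N10199 (iv F65846)) (tt N8781 F63172) (tt N10196 (iv F65828)))
theorem Q9537 : ∀ i, i < 9537 → P i := stepQ 9536 Q9536 (allL N9536 (tt N9434 F63173) (tt N8773 F63174) (tt N10201 (iv F65855)) (tt N8872 F63175) (tt N8771 (iv D15994)) (tt N9435 (iv F63178)) (tt N8873 F63176) (tt N8782 F63177) (tt N10197 (iv F65834)))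
theorem Q9538 : ∀ i, i < 9538 → P i := stepQ 9537 Q9537 (allL N9537 (tt N8792 F63179) (tt N10118 (iv F65441)) (tt N8972 F63180) (tt N8791 F63181) (tt N8775 (iv D15995)) (tt N8965 F63182) (tt N8794 F63183) (tt N8777 F63184) (tt N9110 F63185))
theorem Q9539 : ∀ i, i < 9539 → P i := stepQ 9538 Q9538 (allL N9538 (tt N10202 D16660) (tt N8776 (iv D15996)) (tt N10187 (iv F65778)) (tt N9222 F63186) (tt N9378 F63187) (tt N9412 F63188) (tt N9223 F63189) (tt N8778 F63190) (tt N10198 (iv F65842)))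
theorem Q9540 : ∀ i, i < 9540 → P i := stepQ 9539 Q9539 (allL N9539 (tt N8778 (iv D15997)) (tt N8796 F63191) (tt N10193 (iv F65806)) (tt N9291 F63192) (tt N9379 F63193) (tt N8971 F63194) (tt N9292 F63195) (tt N10202 (iv F65864)) (tt N9539 F63196))
theorem Q9541 : ∀ i, i < 9541 → P i := stepQ 9540 Q9540 (allL N9540 (tt N10116 (iv F65428)) (tt N9077 F63197) (tt N8779 (iv D15998)) (tt N9700 (iv F63896)) (tt N8893 F63198) (tt N9430 F63199) (tt N8781 F63200) (tt N10199 (iv F65847)) (tt N9540 F63201))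
theorem Q9542 : ∀ i, i < 9542 → P i := stepQ 9541 Q9541 (allL N9541 (tt N8781 F63202) (tt N9430 F63203) (tt N8780 (iv D15999)) (tt N9701 (iv F63901)) (tt N9429 F63204) (tt N9077 F63205) (tt N10116 (iv F65433)) (tt N10200 (iv F65852)) (tt N9541 F63206))
theorem Q9543 : ∀ i, i < 9543 → P i := stepQ 9542 Q9542 (allL N9542 (tt N9429 F63207) (tt N9380 F63208) (tt N8782 F63209) (tt N10203 D16661) (tt N8781 (iv D16000)) (tt N9431 (iv F63212)) (tt N8893 F63210) (tt N10201 (iv F65857)) (tt N9542 F63211))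
theorem Q9544 : ∀ i, i < 9544 → P i := stepQ 9543 Q9543 (allL N9543 (tt N8786 F63213) (tt N10195 (iv F65819)) (tt N9063 F63214) (tt N8785 (iv D16001)) (tt N9074 F63215) (tt N9079 F63216) (tt N9110 F63217) (tt N9543 F63218) (tt N8794 F63219))
theorem Q9545 : ∀ i, i < 9545 → P i := stepQ 9544 Q9544 (allL N9544 (tt N8795 (iv D16002)) (tt N10202 (iv F65859)) (tt N8937 F63220) (tt N8900 F63221) (tt N9377 F63222) (tt N8901 F63223) (tt N9229 F63224) (tt N8796 F63225) (tt N8918 F63226))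
theorem Q9546 : ∀ i, i < 9546 → P i := stepQ 9545 Q9545 (allL N9545 (tt N9816 (iv F64365)) (tt N8960 F63227) (tt N8798 F63228) (tt N8812 F63229) (tt N9493 F63230) (tt N8800 F63231) (tt N9081 F63232) (tt N10204 D16662) (tt N8797 (iv D16003)))
theorem Q9547 : ∀ i, i < 9547 → P i := stepQ 9546 Q9546 (allL N9546 (tt N9824 (iv F64388)) (tt N8938 F63233) (tt N10204 (iv F65873)) (tt N8948 F63234) (tt N9928 (iv F64752)) (tt N8801 F63235) (tt N9111 F63236) (tt N8798 (iv D16004)) (tt N9679 (iv F63798)))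
theorem Q9548 : ∀ i, i < 9548 → P i := stepQ 9547 Q9547 (allL N9547 (tt N9096 F63237) (tt N8800 F63238) (tt N8940 F63239) (tt N8814 F63240) (tt N9934 (iv F64774)) (tt N8960 F63241) (tt N8804 F63242) (tt N10205 D16663) (tt N8799 (iv D16005)))
theorem Q9549 : ∀ i, i < 9549 → P i := stepQ 9548 Q9548 (allL N9548 (tt N9818 (iv F64373)) (tt N10205 (iv F65878)) (tt N8801 F63243) (tt N10206 D16664) (tt N10179 (iv F65752)) (tt N10204 (iv F65875)) (tt N8808 F63244) (tt N8800 (iv D16006)) (tt N9694 (iv F63871)))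
theorem Q9550 : ∀ i, i < 9550 → P i := stepQ 9549 Q9549 (allL N9549 (tt N8803 F63245) (tt N9392 F63246) (tt N8945 F63247) (tt N9157 F63248) (tt N8802 (iv D16007)) (tt N9133 (iv F63251)) (tt N9094 F63249) (tt N9132 F63250) (tt N10207 D16665))
theorem Q9551 : ∀ i, i < 9551 → P i := stepQ 9550 Q9550 (allL N9550 (tt N8804 F63252) (tt N10131 (iv F65500)) (tt N8946 F63253) (tt N8819 F63254) (tt N10207 (iv F65890)) (tt N9117 F63255) (tt N9096 F63256) (tt N10208 D16666) (tt N8802 (iv D16008)))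
theorem Q9552 : ∀ i, i < 9552 → P i := stepQ 9551 Q9551 (allL N9551 (tt N9157 F63257) (tt N8805 F63258) (tt N9042 F63259) (tt N8803 (iv D16009)) (tt N8820 F63260) (tt N9012 F63261) (tt N9347 F63262) (tt N9011 F63263) (tt N10209 D16667))
theorem Q9553 : ∀ i, i < 9553 → P i := stepQ 9552 Q9552 (allL N9552 (tt N10207 (iv F65886)) (tt N8807 F63264) (tt N8947 F63265) (tt N10209 (iv F65900)) (tt N8804 F63266) (tt N9322 F63267) (tt N9934 (iv F64775)) (tt N10210 D16668) (tt N8803 (iv D16010)))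
theorem Q9554 : ∀ i, i < 9554 → P i := stepQ 9553 Q9553 (allL N9553 (tt N10208 (iv F65893)) (tt N8808 F63268) (tt N8948 F63269) (tt N10211 D16669) (tt N10210 (iv F65906)) (tt N9121 F63270) (tt N10205 (iv F65881)) (tt N8804 (iv D16011)) (tt N9802 (iv F64316)))
theorem Q9555 : ∀ i, i < 9555 → P i := stepQ 9554 Q9554 (allL N9554 (tt N9343 F63271) (tt N9012 F63272) (tt N9554 F63273) (tt N8806 F63274) (tt N9749 (iv F64103)) (tt N8805 (iv D16012)) (tt N9022 (iv F63276)) (tt N9008 F63275) (tt N10212 D16670))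
theorem Q9556 : ∀ i, i < 9556 → P i := stepQ 9555 Q9555 (allL N9555 (tt N10134 (iv F65516)) (tt N10209 (iv F65898)) (tt N9555 F63277) (tt N8807 F63278) (tt N8826 F63279) (tt N10212 (iv F65916)) (tt N10151 (iv F65623)) (tt N10213 D16671) (tt N8805 (iv D16013)))
theorem Q9557 : ∀ i, i < 9557 → P i := stepQ 9556 Q9556 (allL N9556 (tt N9840 (iv F64459)) (tt N8998 F63280) (tt N8809 F63281) (tt N9022 F63282) (tt N9125 F63283) (tt N9728 (iv F64019)) (tt N8806 (iv D16014)) (tt N8994 F63284) (tt N10214 D16672))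
theorem Q9558 : ∀ i, i < 9558 → P i := stepQ 9557 Q9557 (allL N9557 (tt N10135 (iv F65523)) (tt N9322 F63285) (tt N8810 F63286) (tt N10212 (iv F65915)) (tt N9126 F63287) (tt N8807 F63288) (tt N10214 (iv F65924)) (tt N10215 D16673) (tt N8806 (iv D16015)))
theorem Q9559 : ∀ i, i < 9559 → P i := stepQ 9558 Q9558 (allL N9558 (tt N10136 (iv F65529)) (tt N10210 (iv F65904)) (tt N8811 F63289) (tt N10216 D16674) (tt N8808 F63290) (tt N10215 (iv F65928)) (tt N10179 (iv F65753)) (tt N8807 (iv D16016)) (tt N9803 (iv F64321)))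
theorem Q9560 : ∀ i, i < 9560 → P i := stepQ 9559 Q9559 (allL N9559 (tt N10137 (iv F65534)) (tt N10211 (iv F65909)) (tt N9387 F63291) (tt N8808 (iv D16017)) (tt N10217 D16675) (tt N9128 F63292) (tt N10206 (iv F65884)) (tt N8830 F63293) (tt N9804 (iv F64325)))
theorem Q9561 : ∀ i, i < 9561 → P i := stepQ 9560 Q9560 (allL N9560 (tt N9997 (iv F65057)) (tt N8950 F63294) (tt N10214 (iv F65921)) (tt N9560 F63295) (tt N9129 F63296) (tt N9926 (iv F64743)) (tt N8810 F63297) (tt N10218 D16676) (tt N8809 (iv D16018)))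
theorem Q9562 : ∀ i, i < 9562 → P i := stepQ 9561 Q9561 (allL N9561 (tt N10138 (iv F65538)) (tt N8951 F63298) (tt N10215 (iv F65926)) (tt N10219 D16677) (tt N9130 F63299) (tt N8811 F63300) (tt N10218 (iv F65934)) (tt N8810 (iv D16019)) (tt N9290 F63301))
theorem Q9563 : ∀ i, i < 9563 → P i := stepQ 9562 Q9562 (allL N9562 (tt N10139 (iv F65543)) (tt N8952 F63302) (tt N10220 D16678) (tt N8811 (iv D16020)) (tt N9390 F63303) (tt N10219 (iv F65938)) (tt N10190 (iv F65795)) (tt N9562 F63304) (tt N9805 (iv F64331)))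
theorem Q9564 : ∀ i, i < 9564 → P i := stepQ 9563 Q9563 (allL N9563 (tt N10140 (iv F65549)) (tt N8961 F63305) (tt N8813 F63306) (tt N10221 D16679) (tt N8959 F63307) (tt N8817 F63308) (tt N9085 F63309) (tt N8812 (iv D16021)) (tt N8836 F63310))
theorem Q9565 : ∀ i, i < 9565 → P i := stepQ 9564 Q9564 (allL N9564 (tt N9099 F63311) (tt N8817 F63312) (tt N8895 F63313) (tt N10222 D16680) (tt N9352 F63314) (tt N8961 F63315) (tt N8823 F63316) (tt N8814 (iv D16022)) (tt N8841 F63317))
theorem Q9566 : ∀ i, i < 9566 → P i := stepQ 9565 Q9565 (allL N9565 (tt N10142 (iv F65563)) (tt N9349 F63318) (tt N9565 F63319) (tt N8816 F63320) (tt N10151 (iv F65622)) (tt N9344 F63321) (tt N8826 F63322) (tt N10223 D16681) (tt N8815 (iv D16023)))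
theorem Q9567 : ∀ i, i < 9567 → P i := stepQ 9566 Q9566 (allL N9566 (tt N10143 (iv F65570)) (tt N9352 F63323) (tt N8818 F63324) (tt N10224 D16682) (tt N8817 F63325) (tt N9345 F63326) (tt N8829 F63327) (tt N8816 (iv D16024)) (tt N8846 F63328))
theorem Q9568 : ∀ i, i < 9568 → P i := stepQ 9567 Q9567 (allL N9567 (tt N10144 (iv F65577)) (tt N10222 (iv F65950)) (tt N9143 F63329) (tt N8817 (iv D16025)) (tt N10225 D16683) (tt N10221 (iv F65946)) (tt N8830 F63330) (tt N10206 (iv F65885)) (tt N8847 F63331))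
theorem Q9569 : ∀ i, i < 9569 → P i := stepQ 9568 Q9568 (allL N9568 (tt N10145 (iv F65581)) (tt N8896 F63332) (tt N10226 D16684) (tt N8818 (iv D16026)) (tt N9218 F63333) (tt N9372 F63334) (tt N8833 F63335) (tt N9568 F63336) (tt N8850 F63337))
theorem Q9570 : ∀ i, i < 9570 → P i := stepQ 9569 Q9569 (allL N9569 (tt N8823 F63338) (tt N10146 (iv F65589)) (tt N8897 F63339) (tt N10227 D16685) (tt N9407 F63340) (tt N9137 F63341) (tt N9099 F63342) (tt N8819 (iv D16027)) (tt N8854 F63343))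
theorem Q9571 : ∀ i, i < 9571 → P i := stepQ 9570 Q9570 (allL N9570 (tt N9173 F63344) (tt N8824 F63345) (tt N9247 F63346) (tt N8821 F63347) (tt N9887 (iv F64623)) (tt N8820 (iv D16028)) (tt N9166 F63348) (tt N9886 F64618) (tt N10228 D16686))
theorem Q9572 : ∀ i, i < 9572 → P i := stepQ 9571 Q9571 (allL N9571 (tt N9155 F63349) (tt N8825 F63350) (tt N9040 F63351) (tt N8856 F63352) (tt N9011 F63353) (tt N9886 (iv F64617)) (tt N9348 F63354) (tt N8820 (iv D16029)) (tt N10229 D16687))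
theorem Q9573 : ∀ i, i < 9573 → P i := stepQ 9572 Q9572 (allL N9572 (tt N9402 F63355) (tt N8826 F63356) (tt N9358 F63357) (tt N8822 F63358) (tt N10209 (iv F65901)) (tt N10228 (iv F65979)) (tt N9349 F63359) (tt N10230 D16688) (tt N8820 (iv D16030)))
theorem Q9574 : ∀ i, i < 9574 → P i := stepQ 9573 Q9573 (allL N9573 (tt N9178 F63360) (tt N8828 F63361) (tt N8898 F63362) (tt N10228 (iv F65978)) (tt N9141 F63363) (tt N8822 F63364) (tt N9169 F63365) (tt N10231 D16689) (tt N8821 (iv D16031)))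
theorem Q9575 : ∀ i, i < 9575 → P i := stepQ 9574 Q9574 (allL N9574 (tt N9407 F63366) (tt N8829 F63367) (tt N8899 F63368) (tt N10232 D16690) (tt N8823 F63369) (tt N10231 (iv F65995)) (tt N9352 F63370) (tt N8822 (iv D16032)) (tt N8860 F63371))
theorem Q9576 : ∀ i, i < 9576 → P i := stepQ 9575 Q9575 (allL N9575 (tt N10227 (iv F65971)) (tt N8830 F63372) (tt N10221 (iv F65945)) (tt N8823 (iv D16033)) (tt N10233 D16691) (tt N9143 F63373) (tt N10222 (iv F65953)) (tt N10211 (iv F65911)) (tt N8861 F63374))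
theorem Q9577 : ∀ i, i < 9577 → P i := stepQ 9576 Q9576 (allL N9576 (tt N9754 (iv F64127)) (tt N9887 (iv F64620)) (tt N9576 F63375) (tt N9144 F63376) (tt N8824 (iv D16034)) (tt N9749 (iv F64104)) (tt N9578 (iv F63387)) (tt N9577 F63382) (tt N10234 D16692))
theorem Q9578 : ∀ i, i < 9578 → P i := stepQ 9577 Q9577 (allL N9577 (tt N9021 F63377) (tt N9166 F63378) (tt N9577 F63379) (tt N8827 F63380) (tt N9578 (iv F63385)) (tt N9018 F63381) (tt N8824 (iv D16035)) (tt N9576 (iv F63382)) (tt N10235 D16693))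
theorem Q9579 : ∀ i, i < 9579 → P i := stepQ 9578 Q9578 (allL N9578 (tt N9753 (iv F64121)) (tt N9886 (iv F64614)) (tt N9578 F63383) (tt N8864 F63384) (tt N9577 F63385) (tt N8825 F63386) (tt N9576 F63387) (tt N8824 (iv D16036)) (tt N10236 D16694))
theorem Q9580 : ∀ i, i < 9580 → P i := stepQ 9579 Q9579 (allL N9579 (tt N10150 (iv F65612)) (tt N10228 (iv F65976)) (tt N9579 F63388) (tt N8828 F63389) (tt N10234 (iv F66006)) (tt N8826 F63390) (tt N10235 (iv F66012)) (tt N10237 D16695) (tt N8824 (iv D16037)))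
theorem Q9581 : ∀ i, i < 9581 → P i := stepQ 9580 Q9580 (allL N9580 (tt N10151 (iv F65618)) (tt N10229 (iv F65982)) (tt N9580 F63391) (tt N8866 F63392) (tt N10142 (iv F65567)) (tt N10236 (iv F66016)) (tt N10134 (iv F65522)) (tt N10238 D16696) (tt N8825 (iv D16038)))
theorem Q9582 : ∀ i, i < 9582 → P i := stepQ 9581 Q9581 (allL N9581 (tt N10152 (iv F65624)) (tt N10230 (iv F65988)) (tt N9581 F63393) (tt N10239 D16697) (tt N10213 (iv F65919)) (tt N10237 (iv F66019)) (tt N10223 (iv F65958)) (tt N8826 (iv D16039)) (tt N10238 (iv F66021)))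
theorem Q9583 : ∀ i, i < 9583 → P i := stepQ 9582 Q9582 (allL N9582 (tt N9024 F63394) (tt N9169 F63395) (tt N8831 F63396) (tt N10235 (iv F66010)) (tt N9150 F63397) (tt N9019 F63398) (tt N8828 F63399) (tt N10240 D16698) (tt N8827 (iv D16040)))
theorem Q9584 : ∀ i, i < 9584 → P i := stepQ 9583 Q9583 (allL N9583 (tt N10153 (iv F65626)) (tt N10231 (iv F65992)) (tt N8832 F63400) (tt N10241 D16699) (tt N9151 F63401) (tt N8829 F63402) (tt N10240 (iv F66028)) (tt N8828 (iv D16041)) (tt N8869 F63403))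
theorem Q9585 : ∀ i, i < 9585 → P i := stepQ 9584 Q9584 (allL N9584 (tt N10154 (iv F65633)) (tt N10232 (iv F65999)) (tt N10242 D16700) (tt N8829 (iv D16042)) (tt N10243 D16701) (tt N10241 (iv F66030)) (tt N10224 (iv F65961)) (tt N10239 (iv F66022)) (tt N8870 F63404))
theorem Q9586 : ∀ i, i < 9586 → P i := stepQ 9585 Q9585 (allL N9585 (tt N10155 (iv F65635)) (tt N10233 (iv F66002)) (tt N9398 F63405) (tt N10243 (iv F66034)) (tt N8830 (iv D16043)) (tt N10244 D16702) (tt N10225 (iv F65964)) (tt N10217 (iv F65931)) (tt N8871 F63406))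
theorem Q9587 : ∀ i, i < 9587 → P i := stepQ 9586 Q9586 (allL N9586 (tt N9070 F63407) (tt N8902 F63408) (tt N10240 (iv F66025)) (tt N10197 (iv F65831)) (tt N9154 F63409) (tt N9068 F63410) (tt N8832 F63411) (tt N8831 (iv D16044)) (tt N8872 F63412))
theorem Q9588 : ∀ i, i < 9588 → P i := stepQ 9587 Q9587 (allL N9587 (tt N10156 (iv F65638)) (tt N8903 F63413) (tt N10245 D16703) (tt N8832 (iv D16045)) (tt N10194 (iv F65813)) (tt N8833 F63414) (tt N10197 (iv F65832)) (tt N9587 F63415) (tt N8873 F63416))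
theorem Q9589 : ∀ i, i < 9589 → P i := stepQ 9588 Q9588 (allL N9588 (tt N10157 (iv F65645)) (tt N10246 D16704) (tt N8833 (iv D16046)) (tt N10242 (iv F66032)) (tt N9400 F63417) (tt N10245 (iv F66039)) (tt N10226 (iv F65968)) (tt N9588 F63418) (tt N8874 F63419))
theorem Q9590 : ∀ i, i < 9590 → P i := stepQ 9589 Q9589 (allL N9589 (tt N10074 (iv F65321)) (tt N8953 F63420) (tt N9589 F63421) (tt N8835 F63422) (tt N9594 (iv F63451)) (tt N9330 F63423) (tt N9090 F63424) (tt N10247 D16705) (tt N8834 (iv D16047)))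
theorem Q9591 : ∀ i, i < 9591 → P i := stepQ 9590 Q9590 (allL N9590 (tt N10159 (iv F65656)) (tt N8955 F63425) (tt N8837 F63426) (tt N10248 D16706) (tt N8836 F63427) (tt N9337 F63428) (tt N9092 F63429) (tt N8835 (iv D16048)) (tt N8959 F63430))
theorem Q9592 : ∀ i, i < 9592 → P i := stepQ 9591 Q9591 (allL N9591 (tt N10160 (iv F65663)) (tt N9087 F63431) (tt N8861 F63432) (tt N8836 (iv D16049)) (tt N10249 D16707) (tt N8847 F63433) (tt N9093 F63434) (tt N9596 (iv F63465)) (tt N10221 (iv F65948)))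
theorem Q9593 : ∀ i, i < 9593 → P i := stepQ 9592 Q9592 (allL N9592 (tt N10161 (iv F65667)) (tt N8905 F63435) (tt N10250 D16708) (tt N8837 (iv D16050)) (tt N8916 F63436) (tt N9369 F63437) (tt N9109 F63438) (tt N9592 F63439) (tt N8967 F63440))
theorem Q9594 : ∀ i, i < 9594 → P i := stepQ 9593 Q9593 (allL N9593 (tt N8841 F63441) (tt N10162 (iv F65675)) (tt N8906 F63442) (tt N10251 D16709) (tt N9396 F63443) (tt N8957 F63444) (tt N8854 F63445) (tt N8838 (iv D16051)) (tt N9099 F63446))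
theorem Q9595 : ∀ i, i < 9595 → P i := stepQ 9594 Q9594 (allL N9594 (tt N9393 F63447) (tt N8843 F63448) (tt N9594 F63449) (tt N8840 F63450) (tt N9589 F63451) (tt N9339 F63452) (tt N8857 F63453) (tt N10252 D16710) (tt N8839 (iv D16052)))
theorem Q9596 : ∀ i, i < 9596 → P i := stepQ 9595 Q9595 (allL N9595 (tt N9396 F63454) (tt N8846 F63455) (tt N8907 F63456) (tt N10253 D16711) (tt N8841 F63457) (tt N9340 F63458) (tt N8860 F63459) (tt N8840 (iv D16053)) (tt N9352 F63460))
theorem Q9597 : ∀ i, i < 9597 → P i := stepQ 9596 Q9596 (allL N9596 (tt N10251 (iv F66064)) (tt N8847 F63461) (tt N9093 F63462) (tt N8841 (iv D16054)) (tt N10254 D16712) (tt N9087 F63463) (tt N8861 F63464) (tt N9591 F63465) (tt N10222 (iv F65954)))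
theorem Q9598 : ∀ i, i < 9598 → P i := stepQ 9597 Q9597 (allL N9597 (tt N8994 F63466) (tt N9135 F63467) (tt N8875 F63468) (tt N8844 F63469) (tt N9841 (iv F64469)) (tt N8863 F63470) (tt N8842 (iv D16055)) (tt N9840 F64464) (tt N10255 D16713))
theorem Q9599 : ∀ i, i < 9599 → P i := stepQ 9598 Q9598 (allL N9598 (tt N9213 F63471) (tt N9339 F63472) (tt N8876 F63473) (tt N8845 F63474) (tt N10016 (iv F65140)) (tt N8843 F63475) (tt N10255 (iv F66090)) (tt N10256 D16714) (tt N8842 (iv D16056)))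
theorem Q9600 : ∀ i, i < 9600 → P i := stepQ 9599 Q9599 (allL N9599 (tt N9803 (iv F64317)) (tt N10252 (iv F66071)) (tt N8877 F63476) (tt N10257 D16715) (tt N9688 (iv F63841)) (tt N10256 (iv F66094)) (tt N8867 F63477) (tt N8843 (iv D16057)) (tt N10136 (iv F65533)))
theorem Q9601 : ∀ i, i < 9601 → P i := stepQ 9600 Q9600 (allL N9600 (tt N8995 F63478) (tt N9136 F63479) (tt N8848 F63480) (tt N10255 (iv F66088)) (tt N8993 F63481) (tt N8868 F63482) (tt N8845 F63483) (tt N10258 D16716) (tt N8844 (iv D16058)))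
theorem Q9602 : ∀ i, i < 9602 → P i := stepQ 9601 Q9601 (allL N9601 (tt N9194 F63484) (tt N9340 F63485) (tt N8849 F63486) (tt N10259 D16717) (tt N9337 F63487) (tt N8846 F63488) (tt N10258 (iv F66102)) (tt N8845 (iv D16059)) (tt N9345 F63489))
theorem Q9603 : ∀ i, i < 9603 → P i := stepQ 9602 Q9602 (allL N9602 (tt N10164 (iv F65683)) (tt N10253 (iv F66077)) (tt N10260 D16718) (tt N8846 (iv D16060)) (tt N10261 D16719) (tt N10259 (iv F66106)) (tt N8870 F63490) (tt N10257 (iv F66096)) (tt N10224 (iv F65962)))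
theorem Q9604 : ∀ i, i < 9604 → P i := stepQ 9603 Q9603 (allL N9603 (tt N10165 (iv F65687)) (tt N10254 (iv F66081)) (tt N9181 F63491) (tt N10261 (iv F66110)) (tt N8847 (iv D16061)) (tt N10262 D16720) (tt N8871 F63492) (tt N9808 (iv F64339)) (tt N10225 (iv F65965)))
theorem Q9605 : ∀ i, i < 9605 → P i := stepQ 9604 Q9604 (allL N9604 (tt N9061 F63493) (tt N8909 F63494) (tt N10258 (iv F66099)) (tt N9435 F63495) (tt N9060 F63496) (tt N8872 F63497) (tt N8849 F63498) (tt N8848 (iv D16062)) (tt N9068 F63499))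
theorem Q9606 : ∀ i, i < 9606 → P i := stepQ 9605 Q9605 (allL N9605 (tt N9226 F63500) (tt N8910 F63501) (tt N10263 D16721) (tt N8849 (iv D16063)) (tt N10264 D16722) (tt N8850 F63502) (tt N9435 F63503) (tt N8881 F63504) (tt N9372 F63505))
theorem Q9607 : ∀ i, i < 9607 → P i := stepQ 9606 Q9606 (allL N9606 (tt N10166 (iv F65690)) (tt N10265 D16723) (tt N8850 (iv D16064)) (tt N10260 (iv F66108)) (tt N9224 F63506) (tt N10263 (iv F66114)) (tt N8874 F63507) (tt N8882 F63508) (tt N10226 (iv F65970)))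
theorem Q9608 : ∀ i, i < 9608 → P i := stepQ 9607 Q9607 (allL N9607 (tt N8855 F63509) (tt N9145 F63510) (tt N9607 F63511) (tt N8852 F63512) (tt N9615 (iv F63550)) (tt N8851 (iv D16065)) (tt N9138 F63513) (tt N9613 F63541) (tt N10266 D16724))
theorem Q9609 : ∀ i, i < 9609 → P i := stepQ 9608 Q9608 (allL N9608 (tt N8856 F63514) (tt N9094 F63515) (tt N9608 F63516) (tt N9155 F63517) (tt N9088 F63518) (tt N9613 (iv F63540)) (tt N9392 F63519) (tt N8851 (iv D16066)) (tt N10267 D16725))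
theorem Q9610 : ∀ i, i < 9610 → P i := stepQ 9609 Q9609 (allL N9609 (tt N8857 F63520) (tt N10167 (iv F65697)) (tt N9609 F63521) (tt N8853 F63522) (tt N9736 (iv F64053)) (tt N10266 (iv F66133)) (tt N9393 F63523) (tt N10268 D16726) (tt N8851 (iv D16067)))
theorem Q9611 : ∀ i, i < 9611 → P i := stepQ 9610 Q9610 (allL N9610 (tt N8859 F63524) (tt N9150 F63525) (tt N8912 F63526) (tt N10266 (iv F66132)) (tt N9169 F63527) (tt N8853 F63528) (tt N9141 F63529) (tt N10269 D16727) (tt N8852 (iv D16068)))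
theorem Q9612 : ∀ i, i < 9612 → P i := stepQ 9611 Q9611 (allL N9611 (tt N8860 F63530) (tt N10168 (iv F65704)) (tt N8913 F63531) (tt N10270 D16728) (tt N8854 F63532) (tt N10269 (iv F66148)) (tt N9396 F63533) (tt N8853 (iv D16069)) (tt N9407 F63534))
theorem Q9613 : ∀ i, i < 9613 → P i := stepQ 9612 Q9612 (allL N9612 (tt N8861 F63535) (tt N10169 (iv F65711)) (tt N10160 (iv F65664)) (tt N8854 (iv D16070)) (tt N10271 D16729) (tt N9171 F63536) (tt N10251 (iv F66067)) (tt N9738 (iv F64059)) (tt N10227 (iv F65974)))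
theorem Q9614 : ∀ i, i < 9614 → P i := stepQ 9613 Q9613 (allL N9613 (tt N9615 (iv F63547)) (tt N8862 F63537) (tt N9613 F63538) (tt N9172 F63539) (tt N8855 (iv D16071)) (tt N9608 F63540) (tt N9859 (iv F64531)) (tt N9607 (iv F63541)) (tt N10272 D16730))
theorem Q9615 : ∀ i, i < 9615 → P i := stepQ 9614 Q9614 (allL N9614 (tt N9138 F63542) (tt N8863 F63543) (tt N9614 F63544) (tt N8858 F63545) (tt N9859 (iv F64529)) (tt N9135 F63546) (tt N8855 (iv D16072)) (tt N9858 F64524) (tt N10273 D16731))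
theorem Q9616 : ∀ i, i < 9616 → P i := stepQ 9615 Q9615 (allL N9615 (tt N9613 F63547) (tt N8864 F63548) (tt N9615 F63549) (tt N9886 (iv F64616)) (tt N9607 F63550) (tt N8856 F63551) (tt N9858 (iv F64523)) (tt N8855 (iv D16073)) (tt N10274 D16732))
theorem Q9617 : ∀ i, i < 9617 → P i := stepQ 9616 Q9616 (allL N9616 (tt N10266 (iv F66129)) (tt N8865 F63552) (tt N9616 F63553) (tt N8859 F63554) (tt N10272 (iv F66158)) (tt N8857 F63555) (tt N10273 (iv F66165)) (tt N10275 D16733) (tt N8855 (iv D16074)))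
theorem Q9618 : ∀ i, i < 9618 → P i := stepQ 9617 Q9617 (allL N9617 (tt N10267 (iv F66135)) (tt N8866 F63556) (tt N9617 F63557) (tt N10229 (iv F65984)) (tt N9810 (iv F64348)) (tt N10274 (iv F66170)) (tt N10132 (iv F65512)) (tt N10276 D16734) (tt N8856 (iv D16075)))
theorem Q9619 : ∀ i, i < 9619 → P i := stepQ 9618 Q9618 (allL N9618 (tt N10268 (iv F66141)) (tt N8867 F63558) (tt N9618 F63559) (tt N10277 D16735) (tt N9811 (iv F64353)) (tt N10275 (iv F66173)) (tt N10252 (iv F66075)) (tt N8857 (iv D16076)) (tt N10276 (iv F66176)))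
theorem Q9620 : ∀ i, i < 9620 → P i := stepQ 9619 Q9619 (allL N9619 (tt N9141 F63560) (tt N8868 F63561) (tt N8914 F63562) (tt N10273 (iv F66163)) (tt N9178 F63563) (tt N9136 F63564) (tt N8859 F63565) (tt N10278 D16736) (tt N8858 (iv D16077)))
theorem Q9621 : ∀ i, i < 9621 → P i := stepQ 9620 Q9620 (allL N9620 (tt N10269 (iv F66144)) (tt N8869 F63566) (tt N8915 F63567) (tt N10279 D16737) (tt N9179 F63568) (tt N8860 F63569) (tt N10278 (iv F66184)) (tt N8859 (iv D16078)) (tt N10231 (iv F65997)))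
theorem Q9622 : ∀ i, i < 9622 → P i := stepQ 9621 Q9621 (allL N9621 (tt N10270 (iv F66151)) (tt N8870 F63570) (tt N10280 D16738) (tt N8860 (iv D16079)) (tt N10281 D16739) (tt N10279 (iv F66187)) (tt N10253 (iv F66079)) (tt N10277 (iv F66178)) (tt N10232 (iv F66001)))
theorem Q9623 : ∀ i, i < 9623 → P i := stepQ 9622 Q9622 (allL N9622 (tt N10271 (iv F66154)) (tt N8871 F63571) (tt N10249 (iv F66056)) (tt N10281 (iv F66190)) (tt N8861 (iv D16080)) (tt N10282 D16740) (tt N10254 (iv F66083)) (tt N9814 (iv F64360)) (tt N10233 (iv F66003)))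
theorem Q9624 : ∀ i, i < 9624 → P i := stepQ 9623 Q9623 (allL N9623 (tt N10117 (iv F65435)) (tt N10272 (iv F66155)) (tt N8883 F63572) (tt N9182 F63573) (tt N8865 F63574) (tt N9815 (iv F64364)) (tt N9868 (iv F64564)) (tt N10283 D16741) (tt N8862 (iv D16081)))
theorem Q9625 : ∀ i, i < 9625 → P i := stepQ 9624 Q9624 (allL N9624 (tt N10176 (iv F65736)) (tt N10273 (iv F66161)) (tt N8884 F63575) (tt N8868 F63576) (tt N9868 (iv F64562)) (tt N10255 (iv F66089)) (tt N8865 F63577) (tt N10284 D16742) (tt N8863 (iv D16082)))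
theorem Q9626 : ∀ i, i < 9626 → P i := stepQ 9625 Q9625 (allL N9625 (tt N10177 (iv F65742)) (tt N10274 (iv F66167)) (tt N8885 F63578) (tt N10236 (iv F66014)) (tt N9867 (iv F64558)) (tt N8866 F63579) (tt N9866 (iv F64555)) (tt N10285 D16743) (tt N8864 (iv D16083)))
theorem Q9627 : ∀ i, i < 9627 → P i := stepQ 9626 Q9626 (allL N9626 (tt N10178 (iv F65747)) (tt N10275 (iv F66171)) (tt N8886 F63580) (tt N10286 D16744) (tt N10283 (iv F66194)) (tt N8867 F63581) (tt N10284 (iv F66196)) (tt N8865 (iv D16084)) (tt N10285 (iv F66199)))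
theorem Q9628 : ∀ i, i < 9628 → P i := stepQ 9627 Q9627 (allL N9627 (tt N10179 (iv F65750)) (tt N10276 (iv F66174)) (tt N8887 F63582) (tt N10287 D16745) (tt N9818 (iv F64375)) (tt N10285 (iv F66198)) (tt N10136 (iv F65532)) (tt N8866 (iv D16085)) (tt N8867 F63583))
theorem Q9629 : ∀ i, i < 9629 → P i := stepQ 9628 Q9628 (allL N9628 (tt N10180 (iv F65755)) (tt N10277 (iv F66177)) (tt N10288 D16746) (tt N8867 (iv D16086)) (tt N10289 D16747) (tt N10286 (iv F66200)) (tt N10257 (iv F66095)) (tt N8870 F63584) (tt N10287 (iv F66202)))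
theorem Q9630 : ∀ i, i < 9630 → P i := stepQ 9629 Q9629 (allL N9629 (tt N10181 (iv F65757)) (tt N10278 (iv F66180)) (tt N8872 F63585) (tt N10290 D16748) (tt N9188 F63586) (tt N10258 (iv F66101)) (tt N8869 F63587) (tt N8868 (iv D16087)) (tt N10240 (iv F66029)))
theorem Q9631 : ∀ i, i < 9631 → P i := stepQ 9630 Q9630 (allL N9630 (tt N10182 (iv F65764)) (tt N10279 (iv F66186)) (tt N10291 D16749) (tt N8869 (iv D16088)) (tt N10292 D16750) (tt N8870 F63588) (tt N10290 (iv F66206)) (tt N10286 (iv F66201)) (tt N10241 (iv F66031)))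
theorem Q9632 : ∀ i, i < 9632 → P i := stepQ 9631 Q9631 (allL N9631 (tt N10183 (iv F65766)) (tt N10293 D16751) (tt N8870 (iv D16089)) (tt N8874 F63589) (tt N10294 D16752) (tt N10291 (iv F66208)) (tt N10260 (iv F66109)) (tt N10288 (iv F66204)) (tt N10242 (iv F66033)))
theorem Q9633 : ∀ i, i < 9633 → P i := stepQ 9632 Q9632 (allL N9632 (tt N10184 (iv F65768)) (tt N10281 (iv F66189)) (tt N10294 (iv F66211)) (tt N8871 F63590) (tt N8870 (iv D16090)) (tt N10295 D16753) (tt N10261 (iv F66111)) (tt N10289 (iv F66205)) (tt N10243 (iv F66035)))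
theorem Q9634 : ∀ i, i < 9634 → P i := stepQ 9633 Q9633 (allL N9633 (tt N10185 (iv F65770)) (tt N10282 (iv F66191)) (tt N9411 F63591) (tt N10295 (iv F66213)) (tt N9192 F63592) (tt N8871 (iv D16091)) (tt N10296 D16754) (tt N9822 (iv F64383)) (tt N10244 (iv F66038)))
theorem Q9635 : ∀ i, i < 9635 → P i := stepQ 9634 Q9634 (allL N9634 (tt N10186 (iv F65773)) (tt N10297 D16755) (tt N8873 (iv D16092)) (tt N10291 (iv F66207)) (tt N10199 (iv F65844)) (tt N8874 F63593) (tt N10201 (iv F65856)) (tt N8893 F63594) (tt N10245 (iv F66041)))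
theorem Q9636 : ∀ i, i < 9636 → P i := stepQ 9635 Q9635 (allL N9635 (tt N10298 D16756) (tt N8874 (iv D16093)) (tt N8921 F63595) (tt N10293 (iv F66210)) (tt N9415 F63596) (tt N10297 (iv F66218)) (tt N10265 (iv F66127)) (tt N8894 F63597) (tt N10246 (iv F66045)))
theorem Q9637 : ∀ i, i < 9637 → P i := stepQ 9636 Q9636 (allL N9636 (tt N9287 F63598) (tt N9636 F63599) (tt N10255 (iv F66087)) (tt N8878 F63600) (tt N9998 (iv F65066)) (tt N8884 F63601) (tt N8876 F63602) (tt N10299 D16757) (tt N8875 (iv D16094)))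
theorem Q9638 : ∀ i, i < 9638 → P i := stepQ 9637 Q9637 (allL N9637 (tt N9290 F63603) (tt N9637 F63604) (tt N10256 (iv F66093)) (tt N10300 D16758) (tt N10019 (iv F65151)) (tt N8877 F63605) (tt N10299 (iv F66230)) (tt N8876 (iv D16095)) (tt N10138 (iv F65542)))
theorem Q9639 : ∀ i, i < 9639 → P i := stepQ 9638 Q9638 (allL N9638 (tt N9805 (iv F64326)) (tt N9638 F63606) (tt N10301 D16759) (tt N8877 (iv D16096)) (tt N9720 (iv F63984)) (tt N10300 (iv F66233)) (tt N8888 F63607) (tt N8880 F63608) (tt N10139 (iv F65548)))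
theorem Q9640 : ∀ i, i < 9640 → P i := stepQ 9639 Q9639 (allL N9639 (tt N9274 F63609) (tt N9639 F63610) (tt N10302 D16760) (tt N8879 (iv D16097)) (tt N10303 D16761) (tt N8880 F63611) (tt N9449 F63612) (tt N10300 (iv F66235)) (tt N9639 F63613))
theorem Q9641 : ∀ i, i < 9641 → P i := stepQ 9640 Q9640 (allL N9640 (tt N9995 (iv F65045)) (tt N10304 D16762) (tt N8880 (iv D16098)) (tt N8882 F63614) (tt N9993 (iv F65036)) (tt N10302 (iv F66240)) (tt N8891 F63615) (tt N10301 (iv F66237)) (tt N9640 F63616))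
theorem Q9642 : ∀ i, i < 9642 → P i := stepQ 9641 Q9641 (allL N9641 (tt N9296 F63617) (tt N10305 D16763) (tt N8881 (iv D16099)) (tt N10302 (iv F66239)) (tt N10306 D16764) (tt N8882 F63618) (tt N9431 F63619) (tt N10263 (iv F66116)) (tt N9641 F63620))
theorem Q9643 : ∀ i, i < 9643 → P i := stepQ 9642 Q9642 (allL N9642 (tt N8924 F63621) (tt N8923 F63622) (tt N10306 (iv F66260)) (tt N9642 F63623) (tt N8881 (iv D16100)) (tt N9295 F63624) (tt N8926 F63625) (tt N10264 (iv F66123)) (tt N9642 F63626))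
theorem Q9644 : ∀ i, i < 9644 → P i := stepQ 9643 Q9643 (allL N9643 (tt N10306 (iv F66258)) (tt N8882 (iv D16101)) (tt N8924 F63627) (tt N10304 (iv F66249)) (tt N9296 F63628) (tt N10305 (iv F66254)) (tt N8894 F63629) (tt N10265 (iv F66128)) (tt N9643 F63630))
theorem Q9645 : ∀ i, i < 9645 → P i := stepQ 9644 Q9644 (allL N9644 (tt N10102 (iv F65377)) (tt N9644 F63631) (tt N10283 (iv F66193)) (tt N10043 (iv F65215)) (tt N8886 F63632) (tt N9823 (iv F64387)) (tt N10009 (iv F65109)) (tt N8883 (iv D16102)) (tt N10008 (iv F65105)))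
theorem Q9646 : ∀ i, i < 9646 → P i := stepQ 9645 Q9645 (allL N9645 (tt N10188 (iv F65783)) (tt N9645 F63633) (tt N10284 (iv F66195)) (tt N10307 D16765) (tt N10009 (iv F65107)) (tt N10299 (iv F66229)) (tt N8886 F63634) (tt N8884 (iv D16103)) (tt N10007 (iv F65101)))
theorem Q9647 : ∀ i, i < 9647 → P i := stepQ 9646 Q9646 (allL N9646 (tt N10189 (iv F65788)) (tt N9646 F63635) (tt N10285 (iv F66197)) (tt N10308 D16766) (tt N10008 (iv F65103)) (tt N8887 F63636) (tt N10007 (iv F65100)) (tt N8885 (iv D16104)) (tt N8886 F63637))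
theorem Q9648 : ∀ i, i < 9648 → P i := stepQ 9647 Q9647 (allL N9647 (tt N10106 (iv F65391)) (tt N9647 F63638) (tt N10309 D16767) (tt N8886 (iv D16105)) (tt N10046 (iv F65227)) (tt N8888 F63639) (tt N10307 (iv F66267)) (tt N8890 F63640) (tt N10308 (iv F66272)))
theorem Q9649 : ∀ i, i < 9649 → P i := stepQ 9648 Q9648 (allL N9648 (tt N10190 (iv F65792)) (tt N9648 F63641) (tt N10310 D16768) (tt N8887 (iv D16106)) (tt N10311 D16769) (tt N10308 (iv F66270)) (tt N10139 (iv F65546)) (tt N9648 F63642) (tt N8888 F63643))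
theorem Q9650 : ∀ i, i < 9650 → P i := stepQ 9649 Q9649 (allL N9649 (tt N10191 (iv F65798)) (tt N10312 D16770) (tt N8888 (iv D16107)) (tt N10288 (iv F66203)) (tt N10313 D16771) (tt N10309 (iv F66273)) (tt N10301 (iv F66236)) (tt N8891 F63644) (tt N10310 (iv F66276)))
theorem Q9651 : ∀ i, i < 9651 → P i := stepQ 9650 Q9650 (allL N9650 (tt N9830 (iv F64411)) (tt N9650 F63645) (tt N10313 (iv F66285)) (tt N9708 (iv F63935)) (tt N8888 (iv D16108)) (tt N10049 (iv F65239)) (tt N9720 (iv F63985)) (tt N8892 F63646) (tt N10311 (iv F66282)))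
theorem Q9652 : ∀ i, i < 9652 → P i := stepQ 9651 Q9651 (allL N9651 (tt N9448 F63647) (tt N9651 F63648) (tt N10203 (iv F65868)) (tt N8889 (iv D16109)) (tt N10050 (iv F65244)) (tt N9449 F63649) (tt N8890 F63650) (tt N10307 (iv F66268)) (tt N9651 F63651))
theorem Q9653 : ∀ i, i < 9653 → P i := stepQ 9652 Q9652 (allL N9652 (tt N10113 (iv F65415)) (tt N10314 D16772) (tt N8890 (iv D16110)) (tt N8893 F63652) (tt N10051 (iv F65249)) (tt N8891 F63653) (tt N10203 (iv F65870)) (tt N10309 (iv F66274)) (tt N9652 F63654))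
theorem Q9654 : ∀ i, i < 9654 → P i := stepQ 9653 Q9653 (allL N9653 (tt N10315 D16773) (tt N8891 (iv D16111)) (tt N9653 F63655) (tt N8894 F63656) (tt N10316 D16774) (tt N10314 (iv F66289)) (tt N10304 (iv F66250)) (tt N10312 (iv F66284)) (tt N9653 F63657))
theorem Q9655 : ∀ i, i < 9655 → P i := stepQ 9654 Q9654 (allL N9654 (tt N9996 (iv F65052)) (tt N10316 (iv F66297)) (tt N8892 F63658) (tt N9427 F63659) (tt N8891 (iv D16112)) (tt N10053 (iv F65258)) (tt N9993 (iv F65037)) (tt N10313 (iv F66286)) (tt N9654 F63660))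
theorem Q9656 : ∀ i, i < 9656 → P i := stepQ 9655 Q9655 (allL N9655 (tt N9078 (iv F63666)) (tt N8893 (iv D16113)) (tt N8925 F63661) (tt N10314 (iv F66288)) (tt N9077 F63662) (tt N8894 F63663) (tt N9380 F63664) (tt N10297 (iv F66220)) (tt N9655 F63665))
theorem Q9657 : ∀ i, i < 9657 → P i := stepQ 9656 Q9656 (allL N9656 (tt N8894 (iv D16114)) (tt N10193 (iv F65805)) (tt N8926 F63667) (tt N10315 (iv F66294)) (tt N9431 F63668) (tt N9078 F63669) (tt N10306 (iv F66262)) (tt N10298 (iv F66225)) (tt N9656 F63670))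
theorem Q9658 : ∀ i, i < 9658 → P i := stepQ 9657 Q9657 (allL N9657 (tt N8927 F63671) (tt N10317 D16775) (tt N8896 (iv D16115)) (tt N9067 F63672) (tt N9066 F63673) (tt N9375 F63674) (tt N8904 F63675) (tt N9657 F63676) (tt N8911 F63677))
theorem Q9659 : ∀ i, i < 9659 → P i := stepQ 9658 Q9658 (allL N9658 (tt N9222 F63678) (tt N8900 F63679) (tt N10231 (iv F65993)) (tt N10202 (iv F65860)) (tt N9217 F63680) (tt N8899 F63681) (tt N9220 F63682) (tt N8898 (iv D16116)) (tt N8915 F63683))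
theorem Q9660 : ∀ i, i < 9660 → P i := stepQ 9659 Q9659 (allL N9659 (tt N9412 F63684) (tt N8901 F63685) (tt N10318 D16776) (tt N8899 (iv D16117)) (tt N8967 F63686) (tt N10202 (iv F65862)) (tt N9355 F63687) (tt N8971 F63688) (tt N8916 F63689))
theorem Q9661 : ∀ i, i < 9661 → P i := stepQ 9660 Q9660 (allL N9660 (tt N8928 F63690) (tt N10319 D16777) (tt N8903 (iv D16118)) (tt N8937 F63691) (tt N9079 F63692) (tt N8904 F63693) (tt N9370 F63694) (tt N9660 F63695) (tt N8920 F63696))
theorem Q9662 : ∀ i, i < 9662 → P i := stepQ 9661 Q9661 (allL N9661 (tt N10320 D16778) (tt N8904 (iv D16119)) (tt N10246 (iv F66042)) (tt N9073 F63697) (tt N9071 F63698) (tt N10319 (iv F66317)) (tt N10317 (iv F66305)) (tt N9661 F63699) (tt N8921 F63700))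
theorem Q9663 : ∀ i, i < 9663 → P i := stepQ 9662 Q9662 (allL N9662 (tt N9399 F63701) (tt N8908 F63702) (tt N10321 D16779) (tt N8907 (iv D16120)) (tt N9109 F63703) (tt N9342 F63704) (tt N8916 F63705) (tt N9662 F63706) (tt N9355 F63707))
theorem Q9664 : ∀ i, i < 9664 → P i := stepQ 9663 Q9663 (allL N9663 (tt N8930 F63708) (tt N10322 D16780) (tt N8908 (iv D16121)) (tt N8911 F63709) (tt N9059 F63710) (tt N9371 F63711) (tt N8919 F63712) (tt N9663 F63713) (tt N9067 F63714))
theorem Q9665 : ∀ i, i < 9665 → P i := stepQ 9664 Q9664 (allL N9664 (tt N8931 F63715) (tt N10323 D16781) (tt N8910 (iv D16122)) (tt N9371 F63716) (tt N9229 (iv F63721)) (tt N8911 F63717) (tt N9377 F63718) (tt N8922 F63719) (tt N9375 F63720))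
theorem Q9666 : ∀ i, i < 9666 → P i := stepQ 9665 Q9665 (allL N9665 (tt N8932 F63722) (tt N10264 (iv F66119)) (tt N9229 F63723) (tt N9370 F63724) (tt N8910 (iv D16123)) (tt N9225 F63725) (tt N8937 F63726) (tt N8923 F63727) (tt N9376 F63728))
theorem Q9667 : ∀ i, i < 9667 → P i := stepQ 9666 Q9666 (allL N9666 (tt N10264 (iv F66118)) (tt N8911 (iv D16124)) (tt N10265 (iv F66125)) (tt N10322 (iv F66335)) (tt N9226 F63729) (tt N10323 (iv F66344)) (tt N8921 F63730) (tt N8924 F63731) (tt N10317 (iv F66307)))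
theorem Q9668 : ∀ i, i < 9668 → P i := stepQ 9667 Q9667 (allL N9667 (tt N8915 F63732) (tt N8933 F63733) (tt N10269 (iv F66146)) (tt N10198 (iv F65837)) (tt N9220 F63734) (tt N8913 F63735) (tt N9217 F63736) (tt N8912 (iv D16125)) (tt N9222 F63737))
theorem Q9669 : ∀ i, i < 9669 → P i := stepQ 9668 Q9668 (allL N9668 (tt N8916 F63738) (tt N8934 F63739) (tt N10324 D16782) (tt N8913 (iv D16126)) (tt N10161 (iv F65669)) (tt N10198 (iv F65839)) (tt N9399 F63740) (tt N9668 F63741) (tt N9412 F63742))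
theorem Q9670 : ∀ i, i < 9670 → P i := stepQ 9669 Q9669 (allL N9669 (tt N9217 F63743) (tt N8917 F63744) (tt N10278 (iv F66181)) (tt N10325 D16783) (tt N9222 F63745) (tt N9216 F63746) (tt N8915 F63747) (tt N8914 (iv D16127)) (tt N9220 F63748))
theorem Q9671 : ∀ i, i < 9671 → P i := stepQ 9670 Q9670 (allL N9670 (tt N10198 (iv F65836)) (tt N8918 F63749) (tt N10326 D16784) (tt N8915 (iv D16128)) (tt N10327 D16785) (tt N8916 F63750) (tt N10325 (iv F66356)) (tt N9670 F63751) (tt N10202 (iv F65865)))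
theorem Q9672 : ∀ i, i < 9672 → P i := stepQ 9671 Q9671 (allL N9671 (tt N10324 (iv F66348)) (tt N10328 D16786) (tt N8916 (iv D16129)) (tt N10280 (iv F66188)) (tt N10250 (iv F66059)) (tt N10326 (iv F66359)) (tt N10321 (iv F66331)) (tt N9671 F63752) (tt N10318 (iv F66313)))
theorem Q9673 : ∀ i, i < 9673 → P i := stepQ 9672 Q9672 (allL N9672 (tt N8935 F63753) (tt N10325 (iv F66353)) (tt N9376 F63754) (tt N8917 (iv D16130)) (tt N9375 F63755) (tt N9227 F63756) (tt N8918 F63757) (tt N9672 F63758) (tt N9229 F63759))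
theorem Q9674 : ∀ i, i < 9674 → P i := stepQ 9673 Q9673 (allL N9673 (tt N8929 F63760) (tt N10320 (iv F66321)) (tt N8918 (iv D16131)) (tt N8920 F63761) (tt N9080 (iv F63766)) (tt N8919 F63762) (tt N9376 F63763) (tt N9673 F63764) (tt N8937 F63765))
theorem Q9675 : ∀ i, i < 9675 → P i := stepQ 9674 Q9674 (allL N9674 (tt N8936 F63767) (tt N10327 (iv F66362)) (tt N9080 F63768) (tt N9225 F63769) (tt N8918 (iv D16132)) (tt N9370 F63770) (tt N9375 F63771) (tt N9674 F63772) (tt N9377 F63773))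
theorem Q9676 : ∀ i, i < 9676 → P i := stepQ 9675 Q9675 (allL N9675 (tt N10319 (iv F66314)) (tt N8919 (iv D16133)) (tt N10328 (iv F66368)) (tt N8921 F63774) (tt N9062 F63775) (tt N10320 (iv F66324)) (tt N10322 (iv F66338)) (tt N9675 F63776) (tt N9073 F63777))
theorem Q9677 : ∀ i, i < 9677 → P i := stepQ 9676 Q9676 (allL N9676 (tt N9073 F63778) (tt N8920 (iv D16134)) (tt N10297 (iv F66216)) (tt N10320 (iv F66322)) (tt N9069 F63779) (tt N8921 F63780) (tt N9374 F63781) (tt N8925 F63782) (tt N10319 (iv F66320)))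
theorem Q9678 : ∀ i, i < 9678 → P i := stepQ 9677 Q9677 (allL N9677 (tt N8921 (iv D16135)) (tt N8937 F63783) (tt N10298 (iv F66222)) (tt N10319 (iv F66315)) (tt N9435 F63784) (tt N9073 F63785) (tt N10264 (iv F66122)) (tt N8926 F63786) (tt N10320 (iv F66327)))
theorem Q9679 : ∀ i, i < 9679 → P i := stepQ 9678 Q9678 (allL N9678 (tt N9295 F63787) (tt N8922 (iv D16136)) (tt N10305 (iv F66253)) (tt N9678 F63788) (tt N9292 F63789) (tt N8924 F63790) (tt N9379 F63791) (tt N10323 (iv F66346)) (tt N9678 F63792))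
theorem Q9680 : ∀ i, i < 9680 → P i := stepQ 9679 Q9679 (allL N9679 (tt N9105 F63793) (tt N8942 F63794) (tt N10205 (iv F65879)) (tt N9111 F63795) (tt N9927 (iv F64748)) (tt N8963 F63796) (tt N8948 F63797) (tt N8940 (iv D16137)) (tt N9546 F63798))
theorem Q9681 : ∀ i, i < 9681 → P i := stepQ 9680 Q9680 (allL N9680 (tt N9680 F63799) (tt N10189 (iv F65789)) (tt N9439 F63800) (tt N10124 (iv F65474)) (tt N9985 F65002) (tt N8944 F63801) (tt N9988 (iv F65017)) (tt N8943 (iv D16138)) (tt N9944 (iv F64816)))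
theorem Q9682 : ∀ i, i < 9682 → P i := stepQ 9681 Q9681 (allL N9681 (tt N9681 F63802) (tt N10190 (iv F65793)) (tt N9978 (iv F64962)) (tt N8944 (iv D16139)) (tt N9242 F63803) (tt N10124 (iv F65475)) (tt N8952 F63804) (tt N9681 F63805) (tt N9945 (iv F64823)))
theorem Q9683 : ∀ i, i < 9683 → P i := stepQ 9682 Q9682 (allL N9682 (tt N8947 F63806) (tt N9682 F63807) (tt N10207 (iv F65888)) (tt N9107 F63808) (tt N8946 F63809) (tt N9305 F63810) (tt N9103 F63811) (tt N10329 D16787) (tt N8945 (iv D16140)))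
theorem Q9684 : ∀ i, i < 9684 → P i := stepQ 9683 Q9683 (allL N9683 (tt N8948 F63812) (tt N9683 F63813) (tt N10208 (iv F65894)) (tt N9824 (iv F64390)) (tt N10329 (iv F66375)) (tt N9236 F63814) (tt N9105 F63815) (tt N8946 (iv D16141)) (tt N9704 (iv F63919)))
theorem Q9685 : ∀ i, i < 9685 → P i := stepQ 9684 Q9684 (allL N9684 (tt N10329 (iv F66372)) (tt N8949 F63816) (tt N10210 (iv F65905)) (tt N9206 F63817) (tt N8948 F63818) (tt N9208 F63819) (tt N9927 (iv F64749)) (tt N8947 (iv D16142)) (tt N9207 F63820))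
theorem Q9686 : ∀ i, i < 9686 → P i := stepQ 9685 Q9685 (allL N9685 (tt N9685 F63821) (tt N10218 (iv F65932)) (tt N9281 F63822) (tt N9444 (iv F63826)) (tt N9243 F63823) (tt N9988 (iv F65016)) (tt N8951 F63824) (tt N8950 (iv D16143)) (tt N9282 F63825))
theorem Q9687 : ∀ i, i < 9687 → P i := stepQ 9686 Q9686 (allL N9686 (tt N9686 F63827) (tt N10219 (iv F65937)) (tt N9270 F63828) (tt N8951 (iv D16144)) (tt N10330 D16788) (tt N8952 F63829) (tt N9444 F63830) (tt N9686 F63831) (tt N9271 F63832))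
theorem Q9688 : ∀ i, i < 9688 → P i := stepQ 9687 Q9687 (allL N9687 (tt N9687 F63833) (tt N10331 D16789) (tt N8952 (iv D16145)) (tt N9268 F63834) (tt N9438 F63835) (tt N9270 F63836) (tt N9978 (iv F64964)) (tt N9687 F63837) (tt N9269 F63838))
theorem Q9689 : ∀ i, i < 9689 → P i := stepQ 9688 Q9688 (allL N9688 (tt N9083 F63839) (tt N10247 (iv F66046)) (tt N8954 F63840) (tt N10332 D16790) (tt N9599 F63841) (tt N9334 F63842) (tt N9098 F63843) (tt N8953 (iv D16146)) (tt N9457 F63844))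
theorem Q9690 : ∀ i, i < 9690 → P i := stepQ 9689 Q9689 (allL N9689 (tt N9086 F63845) (tt N10248 (iv F66051)) (tt N9002 F63846) (tt N8955 (iv D16147)) (tt N10333 D16791) (tt N9341 F63847) (tt N9100 F63848) (tt N10332 (iv F66395)) (tt N8962 F63849))
theorem Q9691 : ∀ i, i < 9691 → P i := stepQ 9690 Q9690 (allL N9690 (tt N10158 (iv F65649)) (tt N8957 F63850) (tt N8964 F63851) (tt N10334 D16792) (tt N9085 F63852) (tt N10162 (iv F65678)) (tt N8959 F63853) (tt N8956 (iv D16148)) (tt N9092 F63854))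
theorem Q9692 : ∀ i, i < 9692 → P i := stepQ 9691 Q9691 (allL N9691 (tt N9087 F63855) (tt N10334 (iv F66402)) (tt N9016 F63856) (tt N8957 (iv D16149)) (tt N10335 D16793) (tt N10251 (iv F66066)) (tt N8962 F63857) (tt N9486 F63858) (tt N9100 F63859))
theorem Q9693 : ∀ i, i < 9693 → P i := stepQ 9692 Q9692 (allL N9692 (tt N8959 F63860) (tt N9006 F63861) (tt N8966 F63862) (tt N10336 D16794) (tt N10140 (iv F65552)) (tt N9010 F63863) (tt N10158 (iv F65654)) (tt N8958 (iv D16150)) (tt N10159 (iv F65662)))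
theorem Q9694 : ∀ i, i < 9694 → P i := stepQ 9693 Q9693 (allL N9693 (tt N10336 (iv F66412)) (tt N8962 F63864) (tt N10337 D16795) (tt N8959 (iv D16151)) (tt N10338 D16796) (tt N9346 F63865) (tt N10334 (iv F66403)) (tt N9496 F63866) (tt N10248 (iv F66054)))
theorem Q9695 : ∀ i, i < 9695 → P i := stepQ 9694 Q9694 (allL N9694 (tt N9098 F63867) (tt N10204 (iv F65872)) (tt N8963 F63868) (tt N10339 D16797) (tt N9502 F63869) (tt N10205 (iv F65880)) (tt N9083 F63870) (tt N8960 (iv D16152)) (tt N9548 F63871))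
theorem Q9696 : ∀ i, i < 9696 → P i := stepQ 9695 Q9695 (allL N9695 (tt N9100 F63872) (tt N10221 (iv F65944)) (tt N9134 F63873) (tt N8961 (iv D16153)) (tt N10340 D16798) (tt N10222 (iv F65952)) (tt N9086 F63874) (tt N10339 (iv F66425)) (tt N9087 F63875))
theorem Q9697 : ∀ i, i < 9697 → P i := stepQ 9696 Q9696 (allL N9696 (tt N9101 F63876) (tt N10338 (iv F66420)) (tt N9036 F63877) (tt N10340 (iv F66429)) (tt N8962 (iv D16154)) (tt N10341 D16799) (tt N10335 (iv F66409)) (tt N9506 F63878) (tt N10333 (iv F66401)))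
theorem Q9698 : ∀ i, i < 9698 → P i := stepQ 9697 Q9697 (allL N9697 (tt N9414 F63879) (tt N8965 F63880) (tt N10342 D16800) (tt N8964 (iv D16155)) (tt N9355 F63881) (tt N10118 (iv F65444)) (tt N8967 F63882) (tt N8968 F63883) (tt N9109 F63884))
theorem Q9699 : ∀ i, i < 9699 → P i := stepQ 9698 Q9698 (allL N9698 (tt N8967 F63885) (tt N8972 F63886) (tt N10343 D16801) (tt N8966 (iv D16156)) (tt N9412 F63887) (tt N9065 F63888) (tt N9414 F63889) (tt N8969 F63890) (tt N10161 (iv F65673)))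
theorem Q9700 : ∀ i, i < 9700 → P i := stepQ 9699 Q9699 (allL N9699 (tt N10343 (iv F66442)) (tt N9072 F63891) (tt N8967 (iv D16157)) (tt N10337 (iv F66417)) (tt N10318 (iv F66310)) (tt N9373 F63892) (tt N10342 (iv F66439)) (tt N8970 F63893) (tt N10250 (iv F66063)))
theorem Q9701 : ∀ i, i < 9701 → P i := stepQ 9700 Q9700 (allL N9700 (tt N9430 F63894) (tt N9075 F63895) (tt N8968 (iv D16158)) (tt N9540 F63896) (tt N9367 F63897) (tt N10116 (iv F65432)) (tt N8970 F63898) (tt N10342 (iv F66440)) (tt N9700 F63899))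
theorem Q9702 : ∀ i, i < 9702 → P i := stepQ 9701 Q9701 (allL N9701 (tt N8970 F63900) (tt N10116 (iv F65429)) (tt N8969 (iv D16159)) (tt N9541 F63901) (tt N9428 F63902) (tt N9075 F63903) (tt N9430 F63904) (tt N10343 (iv F66446)) (tt N9701 F63905))
theorem Q9703 : ∀ i, i < 9703 → P i := stepQ 9702 Q9702 (allL N9702 (tt N9428 F63906) (tt N9078 F63907) (tt N8971 F63908) (tt N10344 D16802) (tt N8970 (iv D16160)) (tt N10193 (iv F65808)) (tt N9367 F63909) (tt N10318 (iv F66312)) (tt N9702 F63910))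
theorem Q9704 : ∀ i, i < 9704 → P i := stepQ 9703 Q9703 (allL N9703 (tt N9081 F63911) (tt N10074 (iv F65322)) (tt N8974 F63912) (tt N8989 F63913) (tt N9787 (iv F64252)) (tt N8977 F63914) (tt N9816 (iv F64370)) (tt N10345 D16803) (tt N8973 (iv D16161)))
theorem Q9705 : ∀ i, i < 9705 → P i := stepQ 9704 Q9704 (allL N9704 (tt N9111 F63915) (tt N9704 F63916) (tt N10345 (iv F66454)) (tt N9105 F63917) (tt N9782 F64229) (tt N8979 F63918) (tt N9824 (iv F64392)) (tt N8974 (iv D16162)) (tt N9683 F63919))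
theorem Q9706 : ∀ i, i < 9706 → P i := stepQ 9705 Q9705 (allL N9705 (tt N9330 F63920) (tt N8977 F63921) (tt N9705 F63922) (tt N8991 F63923) (tt N10064 (iv F65290)) (tt N10074 (iv F65326)) (tt N8982 F63924) (tt N10346 D16804) (tt N8975 (iv D16163)))
theorem Q9707 : ∀ i, i < 9707 → P i := stepQ 9706 Q9706 (allL N9706 (tt N9113 F63925) (tt N10064 (iv F65287)) (tt N8978 F63926) (tt N9214 F63927) (tt N8977 F63928) (tt N9788 (iv F64260)) (tt N8985 F63929) (tt N10347 D16805) (tt N8976 (iv D16164)))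
theorem Q9708 : ∀ i, i < 9708 → P i := stepQ 9707 Q9707 (allL N9707 (tt N9114 F63930) (tt N10346 (iv F66458)) (tt N8979 F63931) (tt N10348 D16806) (tt N10347 (iv F66463)) (tt N10345 (iv F66455)) (tt N8986 F63932) (tt N8977 (iv D16165)) (tt N9833 (iv F64428)))
theorem Q9709 : ∀ i, i < 9709 → P i := stepQ 9708 Q9708 (allL N9708 (tt N9115 F63933) (tt N9708 F63934) (tt N10347 (iv F66462)) (tt N9650 F63935) (tt N8979 F63936) (tt N9785 (iv F64241)) (tt N8988 F63937) (tt N8978 (iv D16166)) (tt N9948 (iv F64839)))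
theorem Q9710 : ∀ i, i < 9710 → P i := stepQ 9709 Q9709 (allL N9709 (tt N8981 F63938) (tt N9116 F63939) (tt N9709 F63940) (tt N9841 (iv F64468)) (tt N8980 (iv D16167)) (tt N9382 F63941) (tt N9329 F63942) (tt N9381 F63943) (tt N10349 D16807))
theorem Q9711 : ∀ i, i < 9711 → P i := stepQ 9710 Q9710 (allL N9710 (tt N8982 F63944) (tt N9117 F63945) (tt N9710 F63946) (tt N8993 F63947) (tt N10349 (iv F66472)) (tt N10131 (iv F65504)) (tt N9330 F63948) (tt N10350 D16808) (tt N8980 (iv D16168)))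
theorem Q9712 : ∀ i, i < 9712 → P i := stepQ 9711 Q9711 (allL N9711 (tt N9382 F63949) (tt N8984 F63950) (tt N9711 F63951) (tt N9714 (iv F63962)) (tt N9338 F63952) (tt N8981 (iv D16169)) (tt N9834 (iv F64432)) (tt N9331 F63953) (tt N10351 D16809))
theorem Q9713 : ∀ i, i < 9713 → P i := stepQ 9712 Q9712 (allL N9712 (tt N10349 (iv F66469)) (tt N8985 F63954) (tt N9712 F63955) (tt N10067 (iv F65300)) (tt N8982 F63956) (tt N10351 (iv F66484)) (tt N10064 (iv F65292)) (tt N10352 D16810) (tt N8981 (iv D16170)))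
theorem Q9714 : ∀ i, i < 9714 → P i := stepQ 9713 Q9713 (allL N9713 (tt N10350 (iv F66475)) (tt N8986 F63957) (tt N9713 F63958) (tt N10353 D16811) (tt N10352 (iv F66487)) (tt N10133 (iv F65515)) (tt N10346 (iv F66460)) (tt N8982 (iv D16171)) (tt N10014 (iv F65130)))
theorem Q9715 : ∀ i, i < 9715 → P i := stepQ 9714 Q9714 (allL N9714 (tt N9123 F63959) (tt N9125 F63960) (tt N9237 F63961) (tt N9711 F63962) (tt N8998 F63963) (tt N9384 F63964) (tt N9119 F63965) (tt N8983 (iv D16172)) (tt N10354 D16812))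
theorem Q9716 : ∀ i, i < 9716 → P i := stepQ 9715 Q9715 (allL N9715 (tt N9124 F63966) (tt N10067 (iv F65298)) (tt N9203 F63967) (tt N8985 F63968) (tt N8999 F63969) (tt N9845 (iv F64483)) (tt N9214 F63970) (tt N10355 D16813) (tt N8983 (iv D16173)))
theorem Q9717 : ∀ i, i < 9717 → P i := stepQ 9716 Q9716 (allL N9716 (tt N9126 F63971) (tt N10351 (iv F66481)) (tt N8987 F63972) (tt N9845 (iv F64482)) (tt N10135 (iv F65527)) (tt N8985 F63973) (tt N9842 (iv F64475)) (tt N10356 D16814) (tt N8984 (iv D16174)))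
theorem Q9718 : ∀ i, i < 9718 → P i := stepQ 9717 Q9717 (allL N9717 (tt N9127 F63974) (tt N10352 (iv F66485)) (tt N8988 F63975) (tt N10357 D16815) (tt N8986 F63976) (tt N10356 (iv F66503)) (tt N10347 (iv F66464)) (tt N8985 (iv D16175)) (tt N10017 (iv F65145)))
theorem Q9719 : ∀ i, i < 9719 → P i := stepQ 9718 Q9718 (allL N9718 (tt N9128 F63977) (tt N10353 (iv F66488)) (tt N10332 (iv F66392)) (tt N8986 (iv D16176)) (tt N10358 D16816) (tt N10137 (iv F65536)) (tt N10348 (iv F66467)) (tt N9002 F63978) (tt N10018 (iv F65148)))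
theorem Q9720 : ∀ i, i < 9720 → P i := stepQ 9719 Q9719 (allL N9719 (tt N9130 F63979) (tt N9719 F63980) (tt N10356 (iv F66502)) (tt N10359 D16817) (tt N10138 (iv F65540)) (tt N8988 F63981) (tt N9999 (iv F65072)) (tt N8987 (iv D16177)) (tt N10019 (iv F65153)))
theorem Q9721 : ∀ i, i < 9721 → P i := stepQ 9720 Q9720 (allL N9720 (tt N9131 F63982) (tt N9720 F63983) (tt N10360 D16818) (tt N8988 (iv D16178)) (tt N9638 F63984) (tt N10359 (iv F66509)) (tt N9650 F63985) (tt N9298 F63986) (tt N10020 (iv F65157)))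
theorem Q9722 : ∀ i, i < 9722 → P i := stepQ 9721 Q9721 (allL N9721 (tt N9085 F63987) (tt N10159 (iv F65657)) (tt N8990 F63988) (tt N10361 D16819) (tt N10158 (iv F65652)) (tt N8992 F63989) (tt N10140 (iv F65554)) (tt N8989 (iv D16179)) (tt N9006 F63990))
theorem Q9723 : ∀ i, i < 9723 → P i := stepQ 9722 Q9722 (allL N9722 (tt N9337 F63991) (tt N8992 F63992) (tt N9058 F63993) (tt N10362 D16820) (tt N9194 F63994) (tt N10159 (iv F65660)) (tt N8996 F63995) (tt N8991 (iv D16180)) (tt N9010 F63996))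
theorem Q9724 : ∀ i, i < 9724 → P i := stepQ 9723 Q9723 (allL N9723 (tt N9134 F63997) (tt N10362 (iv F66520)) (tt N9100 F63998) (tt N8992 (iv D16181)) (tt N10363 D16821) (tt N10361 (iv F66517)) (tt N9002 F63999) (tt N10348 (iv F66468)) (tt N9016 F64000))
theorem Q9725 : ∀ i, i < 9725 → P i := stepQ 9724 Q9724 (allL N9724 (tt N8996 F64001) (tt N9137 F64002) (tt N9060 F64003) (tt N10364 D16822) (tt N10258 (iv F66100)) (tt N10146 (iv F65592)) (tt N9337 F64004) (tt N8993 (iv D16182)) (tt N9020 F64005))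
theorem Q9726 : ∀ i, i < 9726 → P i := stepQ 9725 Q9725 (allL N9725 (tt N10255 (iv F66085)) (tt N8999 F64006) (tt N9287 F64007) (tt N8995 F64008) (tt N10067 (iv F65301)) (tt N10176 (iv F65740)) (tt N9213 F64009) (tt N10365 D16823) (tt N8994 (iv D16183)))
theorem Q9727 : ∀ i, i < 9727 → P i := stepQ 9726 Q9726 (allL N9726 (tt N10258 (iv F66097)) (tt N9001 F64010) (tt N9061 F64011) (tt N10366 D16824) (tt N8996 F64012) (tt N10181 (iv F65761)) (tt N9194 F64013) (tt N8995 (iv D16184)) (tt N9025 F64014))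
theorem Q9728 : ∀ i, i < 9728 → P i := stepQ 9727 Q9727 (allL N9727 (tt N10364 (iv F66528)) (tt N9002 F64015) (tt N10367 D16825) (tt N8996 (iv D16185)) (tt N10368 D16826) (tt N10149 (iv F65610)) (tt N10362 (iv F66521)) (tt N10353 (iv F66489)) (tt N9026 F64016))
theorem Q9729 : ∀ i, i < 9729 → P i := stepQ 9728 Q9728 (allL N9728 (tt N9144 F64017) (tt N9729 (iv F64023)) (tt N9299 F64018) (tt N9754 (iv F64130)) (tt N8997 (iv D16186)) (tt N9556 F64019) (tt N9499 F64020) (tt N9498 (iv F64021)) (tt N10369 D16827))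
theorem Q9730 : ∀ i, i < 9730 → P i := stepQ 9729 Q9729 (allL N9729 (tt N9146 F64022) (tt N9728 F64023) (tt N9301 F64024) (tt N9029 F64025) (tt N9498 F64026) (tt N8998 F64027) (tt N9497 F64028) (tt N8997 (iv D16187)) (tt N10370 D16828))
theorem Q9731 : ∀ i, i < 9731 → P i := stepQ 9730 Q9730 (allL N9730 (tt N9147 F64029) (tt N10176 (iv F65737)) (tt N9202 F64030) (tt N9000 F64031) (tt N10369 (iv F66545)) (tt N8999 F64032) (tt N10170 (iv F65718)) (tt N10371 D16829) (tt N8997 (iv D16188)))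
theorem Q9732 : ∀ i, i < 9732 → P i := stepQ 9731 Q9731 (allL N9731 (tt N9148 F64033) (tt N10214 (iv F65920)) (tt N9302 F64034) (tt N9031 F64035) (tt N10354 (iv F66494)) (tt N10370 (iv F66553)) (tt N9322 F64036) (tt N10372 D16830) (tt N8998 (iv D16189)))
theorem Q9733 : ∀ i, i < 9733 → P i := stepQ 9732 Q9732 (allL N9732 (tt N9149 F64037) (tt N10365 (iv F66532)) (tt N9200 F64038) (tt N10373 D16831) (tt N10355 (iv F66499)) (tt N10371 (iv F66557)) (tt N9209 F64039) (tt N8999 (iv D16190)) (tt N10372 (iv F66561)))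
theorem Q9734 : ∀ i, i < 9734 → P i := stepQ 9733 Q9733 (allL N9733 (tt N9151 F64040) (tt N10181 (iv F65758)) (tt N9003 F64041) (tt N10374 D16832) (tt N10153 (iv F65629)) (tt N9001 F64042) (tt N10172 (iv F65727)) (tt N9000 (iv D16191)) (tt N9034 F64043))
theorem Q9735 : ∀ i, i < 9735 → P i := stepQ 9734 Q9734 (allL N9734 (tt N9152 F64044) (tt N10366 (iv F66535)) (tt N9163 F64045) (tt N9001 (iv D16192)) (tt N10375 D16833) (tt N10374 (iv F66568)) (tt N9190 F64046) (tt N10373 (iv F66565)) (tt N9035 F64047))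
theorem Q9736 : ∀ i, i < 9736 → P i := stepQ 9735 Q9735 (allL N9735 (tt N9153 F64048) (tt N10368 (iv F66541)) (tt N10333 (iv F66398)) (tt N10375 (iv F66572)) (tt N9002 (iv D16193)) (tt N10376 D16834) (tt N10363 (iv F66526)) (tt N10358 (iv F66506)) (tt N9036 F64049))
theorem Q9737 : ∀ i, i < 9737 → P i := stepQ 9736 Q9736 (allL N9736 (tt N9090 F64050) (tt N9816 (iv F64366)) (tt N9736 F64051) (tt N9005 F64052) (tt N9609 F64053) (tt N9810 (iv F64349)) (tt N10074 (iv F65327)) (tt N10377 D16835) (tt N9004 (iv D16194)))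
theorem Q9738 : ∀ i, i < 9738 → P i := stepQ 9737 Q9737 (allL N9737 (tt N9092 F64054) (tt N10140 (iv F65550)) (tt N9007 F64055) (tt N10378 D16836) (tt N9006 F64056) (tt N10141 (iv F65560)) (tt N10159 (iv F65661)) (tt N9005 (iv D16195)) (tt N10158 (iv F65655)))
theorem Q9739 : ∀ i, i < 9739 → P i := stepQ 9738 Q9738 (allL N9738 (tt N9093 F64057) (tt N10336 (iv F66413)) (tt N10251 (iv F66065)) (tt N9006 (iv D16196)) (tt N10379 D16837) (tt N9016 F64058) (tt N10160 (iv F65666)) (tt N9612 F64059) (tt N10361 (iv F66518)))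
theorem Q9740 : ∀ i, i < 9740 → P i := stepQ 9739 Q9739 (allL N9739 (tt N9109 F64060) (tt N9063 F64061) (tt N10380 D16838) (tt N9007 (iv D16197)) (tt N9399 F64062) (tt N10194 (iv F65814)) (tt N10161 (iv F65671)) (tt N9739 F64063) (tt N9414 F64064))
theorem Q9741 : ∀ i, i < 9741 → P i := stepQ 9740 Q9740 (allL N9740 (tt N9344 F64065) (tt N9013 F64066) (tt N9740 F64067) (tt N9009 F64068) (tt N9750 (iv F64110)) (tt N10142 (iv F65568)) (tt N9023 F64069) (tt N10381 D16839) (tt N9008 (iv D16198)))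
theorem Q9742 : ∀ i, i < 9742 → P i := stepQ 9741 Q9741 (allL N9741 (tt N9345 F64070) (tt N9015 F64071) (tt N9064 F64072) (tt N10382 D16840) (tt N9010 F64073) (tt N10143 (iv F65574)) (tt N9025 F64074) (tt N9009 (iv D16199)) (tt N9194 F64075))
theorem Q9743 : ∀ i, i < 9743 → P i := stepQ 9742 Q9742 (allL N9742 (tt N9346 F64076) (tt N9016 F64077) (tt N10383 D16841) (tt N9010 (iv D16200)) (tt N10384 D16842) (tt N10336 (iv F66414)) (tt N9026 F64078) (tt N9752 (iv F64120)) (tt N10362 (iv F66522)))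
theorem Q9744 : ∀ i, i < 9744 → P i := stepQ 9743 Q9743 (allL N9743 (tt N9158 F64079) (tt N10142 (iv F65564)) (tt N9043 F64080) (tt N9014 F64081) (tt N10229 (iv F65985)) (tt N9013 F64082) (tt N10147 (iv F65601)) (tt N10385 D16843) (tt N9011 (iv D16201)))
theorem Q9745 : ∀ i, i < 9745 → P i := stepQ 9744 Q9744 (allL N9744 (tt N9159 F64083) (tt N10212 (iv F65913)) (tt N9044 F64084) (tt N9322 F64085) (tt N9889 (iv F64632)) (tt N10209 (iv F65902)) (tt N9031 F64086) (tt N10386 D16844) (tt N9012 (iv D16202)))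
theorem Q9746 : ∀ i, i < 9746 → P i := stepQ 9745 Q9745 (allL N9745 (tt N9160 F64087) (tt N10381 (iv F66588)) (tt N9045 F64088) (tt N10387 D16845) (tt N9890 (iv F64636)) (tt N10385 (iv F66603)) (tt N9032 F64089) (tt N9013 (iv D16203)) (tt N10386 (iv F66607)))
theorem Q9747 : ∀ i, i < 9747 → P i := stepQ 9746 Q9746 (allL N9746 (tt N9162 F64090) (tt N10143 (iv F65571)) (tt N9017 F64091) (tt N10388 D16846) (tt N10141 (iv F65559)) (tt N9015 F64092) (tt N10148 (iv F65607)) (tt N9014 (iv D16204)) (tt N9193 F64093))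
theorem Q9748 : ∀ i, i < 9748 → P i := stepQ 9747 Q9747 (allL N9747 (tt N9163 F64094) (tt N10382 (iv F66592)) (tt N9152 F64095) (tt N9015 (iv D16205)) (tt N10389 D16847) (tt N10388 (iv F66614)) (tt N9035 F64096) (tt N10387 (iv F66611)) (tt N9190 F64097))
theorem Q9749 : ∀ i, i < 9749 → P i := stepQ 9748 Q9748 (allL N9748 (tt N9164 F64098) (tt N10384 (iv F66599)) (tt N10335 (iv F66407)) (tt N10389 (iv F66618)) (tt N9016 (iv D16206)) (tt N10390 D16848) (tt N9036 F64099) (tt N9893 (iv F64645)) (tt N10363 (iv F66527)))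
theorem Q9750 : ∀ i, i < 9750 → P i := stepQ 9749 Q9749 (allL N9749 (tt N9022 F64100) (tt N9167 F64101) (tt N9749 F64102) (tt N9840 (iv F64461)) (tt N9554 F64103) (tt N9576 F64104) (tt N9343 F64105) (tt N9018 (iv D16207)) (tt N10391 D16849))
theorem Q9751 : ∀ i, i < 9751 → P i := stepQ 9750 Q9750 (allL N9750 (tt N9023 F64106) (tt N9168 F64107) (tt N9750 F64108) (tt N9019 F64109) (tt N9740 F64110) (tt N10235 (iv F66011)) (tt N9344 F64111) (tt N10392 D16850) (tt N9018 (iv D16208)))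
theorem Q9752 : ∀ i, i < 9752 → P i := stepQ 9751 Q9751 (allL N9751 (tt N9025 F64112) (tt N9170 F64113) (tt N9068 F64114) (tt N10393 D16851) (tt N9020 F64115) (tt N10240 (iv F66027)) (tt N9345 F64116) (tt N9019 (iv D16209)) (tt N10258 (iv F66103)))
theorem Q9753 : ∀ i, i < 9753 → P i := stepQ 9752 Q9752 (allL N9752 (tt N9026 F64117) (tt N9171 F64118) (tt N10394 D16852) (tt N9020 (iv D16210)) (tt N10395 D16853) (tt N10169 (iv F65712)) (tt N9346 F64119) (tt N9742 F64120) (tt N10364 (iv F66531)))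
theorem Q9754 : ∀ i, i < 9754 → P i := stepQ 9753 Q9753 (allL N9753 (tt N9578 F64121) (tt N9027 F64122) (tt N9753 F64123) (tt N9499 F64124) (tt N9021 (iv D16211)) (tt N9472 F64125) (tt N9754 (iv F64133)) (tt N9471 (iv F64126)) (tt N10396 D16854))
theorem Q9755 : ∀ i, i < 9755 → P i := stepQ 9754 Q9754 (allL N9754 (tt N9576 F64127) (tt N9029 F64128) (tt N9754 F64129) (tt N9728 F64130) (tt N9471 F64131) (tt N9022 F64132) (tt N9753 F64133) (tt N9021 (iv D16212)) (tt N10397 D16855))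
theorem Q9756 : ∀ i, i < 9756 → P i := stepQ 9755 Q9755 (allL N9755 (tt N10235 (iv F66007)) (tt N9030 F64134) (tt N9755 F64135) (tt N9024 F64136) (tt N10396 (iv F66648)) (tt N9023 F64137) (tt N10150 (iv F65617)) (tt N10398 D16856) (tt N9021 (iv D16213)))
theorem Q9757 : ∀ i, i < 9757 → P i := stepQ 9756 Q9756 (allL N9756 (tt N10391 (iv F66622)) (tt N9031 F64138) (tt N9756 F64139) (tt N10214 (iv F65922)) (tt N10027 (iv F65174)) (tt N10397 (iv F66655)) (tt N10212 (iv F65917)) (tt N10399 D16857) (tt N9022 (iv D16214)))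
theorem Q9758 : ∀ i, i < 9758 → P i := stepQ 9757 Q9757 (allL N9757 (tt N10392 (iv F66628)) (tt N9032 F64140) (tt N9757 F64141) (tt N10400 D16858) (tt N10028 (iv F65177)) (tt N10398 (iv F66659)) (tt N10381 (iv F66590)) (tt N9023 (iv D16215)) (tt N10399 (iv F66662)))
theorem Q9759 : ∀ i, i < 9759 → P i := stepQ 9758 Q9758 (allL N9758 (tt N10240 (iv F66023)) (tt N9034 F64142) (tt N9070 F64143) (tt N10401 D16859) (tt N10172 (iv F65725)) (tt N9025 F64144) (tt N10153 (iv F65631)) (tt N9024 (iv D16216)) (tt N10181 (iv F65763)))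
theorem Q9760 : ∀ i, i < 9760 → P i := stepQ 9759 Q9759 (allL N9759 (tt N10393 (iv F66633)) (tt N9035 F64145) (tt N10402 D16860) (tt N9025 (iv D16217)) (tt N10403 D16861) (tt N10401 (iv F66666)) (tt N10382 (iv F66593)) (tt N10400 (iv F66664)) (tt N10366 (iv F66538)))
theorem Q9761 : ∀ i, i < 9761 → P i := stepQ 9760 Q9760 (allL N9760 (tt N10394 (iv F66636)) (tt N10337 (iv F66416)) (tt N9026 (iv D16218)) (tt N9072 F64146) (tt N10404 D16862) (tt N10174 (iv F65734)) (tt N10383 (iv F66597)) (tt N10030 (iv F65180)) (tt N10367 (iv F66540)))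
theorem Q9762 : ∀ i, i < 9762 → P i := stepQ 9761 Q9761 (allL N9761 (tt N10395 (iv F66640)) (tt N9036 F64147) (tt N10404 (iv F66672)) (tt N10403 (iv F66671)) (tt N9026 (iv D16219)) (tt N10405 D16863) (tt N10384 (iv F66600)) (tt N10031 (iv F65182)) (tt N10368 (iv F66542)))
theorem Q9763 : ∀ i, i < 9763 → P i := stepQ 9762 Q9762 (allL N9762 (tt N9182 F64148) (tt N10396 (iv F66645)) (tt N9047 F64149) (tt N10117 (iv F65436)) (tt N9030 F64150) (tt N10032 (iv F65187)) (tt N9764 (iv F64159)) (tt N10406 D16864) (tt N9027 (iv D16220)))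
theorem Q9764 : ∀ i, i < 9764 → P i := stepQ 9763 Q9763 (allL N9763 (tt N9183 F64151) (tt N10150 (iv F65613)) (tt N9048 F64152) (tt N9033 F64153) (tt N9764 (iv F64157)) (tt N10147 (iv F65600)) (tt N9030 F64154) (tt N10407 D16865) (tt N9028 (iv D16221)))
theorem Q9765 : ∀ i, i < 9765 → P i := stepQ 9764 Q9764 (allL N9764 (tt N9184 F64155) (tt N10397 (iv F66651)) (tt N9049 F64156) (tt N10370 (iv F66551)) (tt N9763 F64157) (tt N9031 F64158) (tt N9762 F64159) (tt N10408 D16866) (tt N9029 (iv D16222)))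
theorem Q9766 : ∀ i, i < 9766 → P i := stepQ 9765 Q9765 (allL N9765 (tt N9185 F64160) (tt N10398 (iv F66657)) (tt N9050 F64161) (tt N10409 D16867) (tt N10406 (iv F66676)) (tt N9032 F64162) (tt N10407 (iv F66679)) (tt N9030 (iv D16223)) (tt N10408 (iv F66686)))
theorem Q9767 : ∀ i, i < 9767 → P i := stepQ 9766 Q9766 (allL N9766 (tt N9186 F64163) (tt N10399 (iv F66660)) (tt N9051 F64164) (tt N10410 D16868) (tt N10035 (iv F65196)) (tt N10408 (iv F66684)) (tt N10386 (iv F66606)) (tt N9031 (iv D16224)) (tt N9032 F64165))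
theorem Q9768 : ∀ i, i < 9768 → P i := stepQ 9767 Q9767 (allL N9767 (tt N9187 F64166) (tt N10400 (iv F66663)) (tt N10411 D16869) (tt N9032 (iv D16225)) (tt N10412 D16870) (tt N10409 (iv F66688)) (tt N10387 (iv F66610)) (tt N9035 F64167) (tt N10410 (iv F66691)))
theorem Q9769 : ∀ i, i < 9769 → P i := stepQ 9768 Q9768 (allL N9768 (tt N9188 F64168) (tt N10153 (iv F65627)) (tt N9037 F64169) (tt N10413 D16871) (tt N10181 (iv F65760)) (tt N10148 (iv F65606)) (tt N9034 F64170) (tt N9033 (iv D16226)) (tt N10172 (iv F65728)))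
theorem Q9770 : ∀ i, i < 9770 → P i := stepQ 9769 Q9769 (allL N9769 (tt N9189 F64171) (tt N10401 (iv F66665)) (tt N10414 D16872) (tt N9034 (iv D16227)) (tt N10415 D16873) (tt N9035 F64172) (tt N10413 (iv F66700)) (tt N10409 (iv F66689)) (tt N10374 (iv F66569)))
theorem Q9771 : ∀ i, i < 9771 → P i := stepQ 9770 Q9770 (allL N9770 (tt N9190 F64173) (tt N9397 (iv F64177)) (tt N9035 (iv D16228)) (tt N9039 F64174) (tt N10416 D16874) (tt N10414 (iv F66703)) (tt N9152 F64175) (tt N10411 (iv F66695)) (tt N9163 F64176))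
theorem Q9772 : ∀ i, i < 9772 → P i := stepQ 9771 Q9771 (allL N9771 (tt N9191 F64178) (tt N10403 (iv F66670)) (tt N10416 (iv F66709)) (tt N9036 F64179) (tt N9035 (iv D16229)) (tt N10417 D16875) (tt N10389 (iv F66619)) (tt N10412 (iv F66698)) (tt N10375 (iv F66574)))
theorem Q9773 : ∀ i, i < 9773 → P i := stepQ 9772 Q9772 (allL N9772 (tt N9192 F64180) (tt N10405 (iv F66673)) (tt N10341 (iv F66433)) (tt N10417 (iv F66714)) (tt N10185 (iv F65772)) (tt N9036 (iv D16230)) (tt N10418 D16876) (tt N10040 (iv F65207)) (tt N10376 (iv F66576)))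
theorem Q9774 : ∀ i, i < 9774 → P i := stepQ 9773 Q9773 (allL N9773 (tt N9193 F64181) (tt N9396 F64182) (tt N9038 (iv D16231)) (tt N10414 (iv F66702)) (tt N10162 (iv F65677)) (tt N9039 F64183) (tt N10168 (iv F65708)) (tt N9057 F64184) (tt N9162 F64185))
theorem Q9775 : ∀ i, i < 9775 → P i := stepQ 9774 Q9774 (allL N9774 (tt N9195 F64186) (tt N9774 F64187) (tt N10229 (iv F65983)) (tt N9774 F64188) (tt N9043 F64189) (tt N9957 (iv F64878)) (tt N9359 F64190) (tt N10419 D16877) (tt N9040 (iv D16232)))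
theorem Q9776 : ∀ i, i < 9776 → P i := stepQ 9775 Q9775 (allL N9775 (tt N9196 F64191) (tt N9775 F64192) (tt N10147 (iv F65597)) (tt N9046 F64193) (tt N9359 F64194) (tt N9048 F64195) (tt N9043 F64196) (tt N10420 D16878) (tt N9041 (iv D16233)))
theorem Q9777 : ∀ i, i < 9777 → P i := stepQ 9776 Q9776 (allL N9776 (tt N9197 F64197) (tt N9776 F64198) (tt N10209 (iv F65899)) (tt N9304 F64199) (tt N9358 F64200) (tt N9044 F64201) (tt N9357 F64202) (tt N10421 D16879) (tt N9042 (iv D16234)))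
theorem Q9778 : ∀ i, i < 9778 → P i := stepQ 9777 Q9777 (allL N9777 (tt N9198 F64203) (tt N9777 F64204) (tt N10385 (iv F66602)) (tt N9320 F64205) (tt N10419 (iv F66718)) (tt N9045 F64206) (tt N10420 (iv F66726)) (tt N9043 (iv D16235)) (tt N10421 (iv F66734)))
theorem Q9779 : ∀ i, i < 9779 → P i := stepQ 9778 Q9778 (allL N9778 (tt N9199 F64207) (tt N9778 F64208) (tt N10386 (iv F66605)) (tt N9321 F64209) (tt N9961 (iv F64895)) (tt N10421 (iv F66732)) (tt N9051 F64210) (tt N9044 (iv D16236)) (tt N9045 F64211))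
theorem Q9780 : ∀ i, i < 9780 → P i := stepQ 9779 Q9779 (allL N9779 (tt N9204 F64212) (tt N9779 F64213) (tt N10406 (iv F66675)) (tt N9823 (iv F64385)) (tt N9050 F64214) (tt N10043 (iv F65217)) (tt N9781 (iv F64223)) (tt N9047 (iv D16237)) (tt N9780 (iv F64218)))
theorem Q9781 : ∀ i, i < 9781 → P i := stepQ 9780 Q9780 (allL N9780 (tt N9205 F64215) (tt N9780 F64216) (tt N10407 (iv F66678)) (tt N10422 D16880) (tt N9781 (iv F64221)) (tt N10420 (iv F66725)) (tt N9050 F64217) (tt N9048 (iv D16238)) (tt N9779 F64218))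
theorem Q9782 : ∀ i, i < 9782 → P i := stepQ 9781 Q9781 (allL N9781 (tt N9206 F64219) (tt N9781 F64220) (tt N10408 (iv F66682)) (tt N10329 (iv F66374)) (tt N9780 F64221) (tt N9051 F64222) (tt N9779 F64223) (tt N9049 (iv D16239)) (tt N9050 F64224))
theorem Q9783 : ∀ i, i < 9783 → P i := stepQ 9782 Q9782 (allL N9782 (tt N9207 F64225) (tt N9782 F64226) (tt N10423 D16881) (tt N9050 (iv D16240)) (tt N9704 (iv F64229)) (tt N9052 F64227) (tt N10422 (iv F66739)) (tt N9054 F64228) (tt N10329 (iv F66378)))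
theorem Q9784 : ∀ i, i < 9784 → P i := stepQ 9783 Q9783 (allL N9783 (tt N9208 F64230) (tt N9783 F64231) (tt N10424 D16882) (tt N9051 (iv D16241)) (tt N10425 D16883) (tt N10329 (iv F66376)) (tt N9321 F64232) (tt N9305 F64233) (tt N9052 F64234))
theorem Q9785 : ∀ i, i < 9785 → P i := stepQ 9784 Q9784 (allL N9784 (tt N9209 F64235) (tt N9395 (iv F64238)) (tt N9052 (iv D16242)) (tt N10411 (iv F66693)) (tt N10426 D16884) (tt N10423 (iv F66744)) (tt N9149 F64236) (tt N9055 F64237) (tt N10424 (iv F66750)))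
theorem Q9786 : ∀ i, i < 9786 → P i := stepQ 9785 Q9785 (allL N9785 (tt N9210 F64239) (tt N9785 F64240) (tt N10426 (iv F66760)) (tt N10049 (iv F65238)) (tt N9052 (iv D16243)) (tt N9708 F64241) (tt N9312 F64242) (tt N9056 F64243) (tt N10425 (iv F66757)))
theorem Q9787 : ∀ i, i < 9787 → P i := stepQ 9786 Q9786 (allL N9786 (tt N9211 F64244) (tt N9786 F64245) (tt N10167 (iv F65698)) (tt N9053 (iv D16244)) (tt N9104 F64246) (tt N9318 F64247) (tt N9054 F64248) (tt N10422 (iv F66740)) (tt N9102 F64249))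
theorem Q9788 : ∀ i, i < 9788 → P i := stepQ 9787 Q9787 (allL N9787 (tt N9212 F64250) (tt N9393 (iv F64255)) (tt N9054 (iv D16245)) (tt N9057 F64251) (tt N9703 F64252) (tt N9055 F64253) (tt N10167 (iv F65702)) (tt N10423 (iv F66745)) (tt N9132 F64254))
theorem Q9789 : ∀ i, i < 9789 → P i := stepQ 9788 Q9788 (allL N9788 (tt N9214 F64256) (tt N9383 F64257) (tt N9056 F64258) (tt N9113 F64259) (tt N9055 (iv D16246)) (tt N9706 F64260) (tt N9124 F64261) (tt N10426 (iv F66763)) (tt N9112 F64262))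
theorem Q9790 : ∀ i, i < 9790 → P i := stepQ 9789 Q9789 (allL N9789 (tt N9369 F64263) (tt N9059 F64264) (tt N10427 D16885) (tt N9058 (iv D16247)) (tt N10322 (iv F66336)) (tt N10161 (iv F65670)) (tt N9062 F64265) (tt N9789 F64266) (tt N9065 F64267))
theorem Q9791 : ∀ i, i < 9791 → P i := stepQ 9790 Q9790 (allL N9790 (tt N9062 F64268) (tt N9079 F64269) (tt N10428 D16886) (tt N9060 (iv D16248)) (tt N10319 (iv F66316)) (tt N10195 (iv F65821)) (tt N9369 F64270) (tt N9790 F64271) (tt N9069 F64272))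
theorem Q9792 : ∀ i, i < 9792 → P i := stepQ 9791 Q9791 (allL N9791 (tt N10428 (iv F66769)) (tt N10250 (iv F66058)) (tt N9062 (iv D16249)) (tt N10367 (iv F66539)) (tt N10328 (iv F66369)) (tt N10196 (iv F65826)) (tt N10427 (iv F66766)) (tt N9791 F64273) (tt N9072 F64274))
theorem Q9793 : ∀ i, i < 9793 → P i := stepQ 9792 Q9792 (allL N9792 (tt N9372 F64275) (tt N9066 F64276) (tt N10429 D16887) (tt N9064 (iv D16250)) (tt N10317 (iv F66303)) (tt N10145 (iv F65584)) (tt N9071 F64277) (tt N9792 F64278) (tt N9226 F64279))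
theorem Q9794 : ∀ i, i < 9794 → P i := stepQ 9793 Q9793 (allL N9793 (tt N9373 F64280) (tt N10342 (iv F66437)) (tt N9065 (iv D16251)) (tt N10383 (iv F66596)) (tt N10430 D16888) (tt N10343 (iv F66444)) (tt N9072 F64281) (tt N9075 F64282) (tt N10427 (iv F66768)))
theorem Q9795 : ∀ i, i < 9795 → P i := stepQ 9794 Q9794 (allL N9794 (tt N9374 F64283) (tt N9067 F64284) (tt N10430 (iv F66780)) (tt N10317 (iv F66302)) (tt N9065 (iv D16252)) (tt N9378 F64285) (tt N9073 F64286) (tt N9076 F64287) (tt N10322 (iv F66340)))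
theorem Q9796 : ∀ i, i < 9796 → P i := stepQ 9795 Q9795 (allL N9795 (tt N9071 F64288) (tt N9080 F64289) (tt N10431 D16889) (tt N9068 (iv D16253)) (tt N10320 (iv F66323)) (tt N10197 F65835) (tt N9372 F64290) (tt N9795 F64291) (tt N9435 F64292))
theorem Q9797 : ∀ i, i < 9797 → P i := stepQ 9796 Q9796 (allL N9796 (tt N9072 F64293) (tt N10199 (iv F65843)) (tt N9069 (iv D16254)) (tt N10394 (iv F66637)) (tt N10297 (iv F66217)) (tt N10200 (iv F65851)) (tt N9373 F64294) (tt N9077 F64295) (tt N10428 (iv F66772)))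
theorem Q9798 : ∀ i, i < 9798 → P i := stepQ 9797 Q9797 (allL N9797 (tt N10197 (iv F65829)) (tt N9074 F64296) (tt N10432 D16890) (tt N9070 (iv D16255)) (tt N10195 (iv F65820)) (tt N9071 F64297) (tt N10156 (iv F65642)) (tt N9797 F64298) (tt N9434 F64299))
theorem Q9799 : ∀ i, i < 9799 → P i := stepQ 9798 Q9798 (allL N9798 (tt N10431 (iv F66784)) (tt N9400 F64300) (tt N9071 (iv D16256)) (tt N10402 (iv F66668)) (tt N10246 (iv F66043)) (tt N10432 (iv F66789)) (tt N10429 (iv F66775)) (tt N9798 F64301) (tt N9415 F64302))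
theorem Q9800 : ∀ i, i < 9800 → P i := stepQ 9799 Q9799 (allL N9799 (tt N10297 F66221) (tt N10318 (iv F66309)) (tt N9073 F64303) (tt N10433 D16891) (tt N9072 (iv D16257)) (tt N10298 (iv F66224)) (tt N10430 (iv F66782)) (tt N9078 F64304) (tt N10328 (iv F66371)))
theorem Q9801 : ∀ i, i < 9801 → P i := stepQ 9800 Q9800 (allL N9800 (tt N9380 F64305) (tt N9367 F64306) (tt N9076 F64307) (tt N10434 D16892) (tt N9075 (iv D16258)) (tt N9368 F64308) (tt N9078 F64309) (tt N10430 (iv F66783)) (tt N9800 F64310))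
theorem Q9802 : ∀ i, i < 9802 → P i := stepQ 9801 Q9801 (allL N9801 (tt N10314 F66292) (tt N10344 (iv F66448)) (tt N9801 F64311) (tt N9078 (iv D16259)) (tt N10063 (iv F65284)) (tt N10315 (iv F66295)) (tt N10434 (iv F66797)) (tt N10435 D16893) (tt N9801 F64312))
theorem Q9803 : ∀ i, i < 9803 → P i := stepQ 9802 Q9802 (allL N9802 (tt N10345 (iv F66453)) (tt N9083 F64313) (tt N9111 F64314) (tt N10436 D16894) (tt N9929 (iv F64757)) (tt N9114 F64315) (tt N10204 (iv F65876)) (tt N9081 (iv D16260)) (tt N9553 F64316))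
theorem Q9804 : ∀ i, i < 9804 → P i := stepQ 9803 Q9803 (allL N9803 (tt N9599 F64317) (tt N9929 (iv F64756)) (tt N9084 F64318) (tt N10437 D16895) (tt N9083 F64319) (tt N9932 (iv F64767)) (tt N9502 F64320) (tt N9082 (iv D16261)) (tt N9558 F64321))
theorem Q9805 : ∀ i, i < 9805 → P i := stepQ 9804 Q9804 (allL N9804 (tt N10332 (iv F66391)) (tt N10436 (iv F66800)) (tt N9128 F64322) (tt N9083 (iv D16262)) (tt N10438 D16896) (tt N9387 F64323) (tt N10339 (iv F66424)) (tt N9086 F64324) (tt N9559 F64325))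
theorem Q9806 : ∀ i, i < 9806 → P i := stepQ 9805 Q9805 (allL N9805 (tt N9638 F64326) (tt N9232 F64327) (tt N10439 D16897) (tt N9084 (iv D16263)) (tt N9131 F64328) (tt N9981 (iv F64979)) (tt N9515 F64329) (tt N9306 F64330) (tt N9562 F64331))
theorem Q9807 : ∀ i, i < 9807 → P i := stepQ 9806 Q9806 (allL N9806 (tt N10361 (iv F66515)) (tt N9086 F64332) (tt N10222 (iv F65951)) (tt N9085 (iv D16264)) (tt N10440 D16898) (tt N9134 F64333) (tt N10221 (iv F65947)) (tt N10436 (iv F66802)) (tt N9093 F64334))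
theorem Q9808 : ∀ i, i < 9808 → P i := stepQ 9807 Q9807 (allL N9807 (tt N10333 (iv F66397)) (tt N10440 (iv F66816)) (tt N9153 F64335) (tt N10335 (iv F66408)) (tt N9086 (iv D16265)) (tt N10441 D16899) (tt N10340 (iv F66430)) (tt N10438 (iv F66809)) (tt N9101 F64336))
theorem Q9809 : ∀ i, i < 9809 → P i := stepQ 9808 Q9808 (allL N9808 (tt N10335 (iv F66406)) (tt N10249 (iv F66055)) (tt N9164 F64337) (tt N10333 (iv F66399)) (tt N9087 (iv D16266)) (tt N10442 D16900) (tt N9101 F64338) (tt N9603 F64339) (tt N10340 (iv F66431)))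
theorem Q9810 : ∀ i, i < 9810 → P i := stepQ 9809 Q9809 (allL N9809 (tt N9810 (iv F64344)) (tt N9096 F64340) (tt N9809 F64341) (tt N9091 F64342) (tt N10267 (iv F66139)) (tt N9090 F64343) (tt N10131 (iv F65505)) (tt N10443 D16901) (tt N9088 (iv D16267)))
theorem Q9811 : ∀ i, i < 9811 → P i := stepQ 9810 Q9810 (allL N9810 (tt N9809 F64344) (tt N9097 F64345) (tt N9810 F64346) (tt N9462 F64347) (tt N9617 F64348) (tt N9736 F64349) (tt N9453 F64350) (tt N10444 D16902) (tt N9089 (iv D16268)))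
theorem Q9812 : ∀ i, i < 9812 → P i := stepQ 9811 Q9811 (allL N9811 (tt N10377 (iv F66577)) (tt N9098 F64351) (tt N9811 F64352) (tt N10445 D16903) (tt N9618 F64353) (tt N10443 (iv F66825)) (tt N10247 (iv F66049)) (tt N9090 (iv D16269)) (tt N10444 (iv F66833)))
theorem Q9813 : ∀ i, i < 9813 → P i := stepQ 9812 Q9812 (allL N9812 (tt N10141 (iv F65556)) (tt N9099 F64354) (tt N9108 F64355) (tt N10446 D16904) (tt N9162 F64356) (tt N9092 F64357) (tt N10146 (iv F65593)) (tt N9091 (iv D16270)) (tt N10162 (iv F65680)))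
theorem Q9814 : ∀ i, i < 9814 → P i := stepQ 9813 Q9813 (allL N9813 (tt N10378 (iv F66580)) (tt N9100 F64358) (tt N10447 D16905) (tt N9092 (iv D16271)) (tt N10448 D16906) (tt N10446 (iv F66837)) (tt N10248 (iv F66053)) (tt N10445 (iv F66835)) (tt N10334 (iv F66405)))
theorem Q9815 : ∀ i, i < 9815 → P i := stepQ 9814 Q9814 (allL N9814 (tt N10379 (iv F66581)) (tt N9101 F64359) (tt N10254 (iv F66082)) (tt N10448 (iv F66840)) (tt N9093 (iv D16272)) (tt N10449 D16907) (tt N10249 (iv F66057)) (tt N9622 F64360) (tt N10440 (iv F66817)))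
theorem Q9816 : ∀ i, i < 9816 → P i := stepQ 9815 Q9815 (allL N9815 (tt N9934 (iv F64772)) (tt N10267 (iv F66136)) (tt N9103 F64361) (tt N9401 F64362) (tt N9096 F64363) (tt N9623 F64364) (tt N10207 (iv F65892)) (tt N10450 D16908) (tt N9094 (iv D16273)))
theorem Q9817 : ∀ i, i < 9817 → P i := stepQ 9816 Q9816 (allL N9816 (tt N9545 F64365) (tt N9736 F64366) (tt N9104 F64367) (tt N9460 F64368) (tt N10167 (iv F65700)) (tt N9097 F64369) (tt N9703 F64370) (tt N10451 D16909) (tt N9095 (iv D16274)))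
theorem Q9818 : ∀ i, i < 9818 → P i := stepQ 9817 Q9817 (allL N9817 (tt N10205 (iv F65877)) (tt N10443 (iv F66823)) (tt N9105 F64371) (tt N10452 D16910) (tt N10450 (iv F66845)) (tt N9098 F64372) (tt N10208 (iv F65896)) (tt N9096 (iv D16275)) (tt N10451 (iv F66852)))
theorem Q9819 : ∀ i, i < 9819 → P i := stepQ 9818 Q9818 (allL N9818 (tt N9548 F64373) (tt N10444 (iv F66828)) (tt N9106 F64374) (tt N10453 D16911) (tt N9627 F64375) (tt N10451 (iv F66850)) (tt N9457 F64376) (tt N9097 (iv D16276)) (tt N9098 F64377))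
theorem Q9820 : ∀ i, i < 9820 → P i := stepQ 9819 Q9819 (allL N9819 (tt N10339 (iv F66422)) (tt N10445 (iv F66834)) (tt N10348 (iv F66466)) (tt N9098 (iv D16277)) (tt N10454 D16912) (tt N10452 (iv F66853)) (tt N10332 (iv F66394)) (tt N9100 F64378) (tt N10453 (iv F66858)))
theorem Q9821 : ∀ i, i < 9821 → P i := stepQ 9820 Q9820 (allL N9820 (tt N10222 (iv F65949)) (tt N10446 (iv F66836)) (tt N10361 (iv F66516)) (tt N9099 (iv D16278)) (tt N10455 D16913) (tt N9100 F64379) (tt N10227 (iv F65973)) (tt N10452 (iv F66854)) (tt N10251 (iv F66069)))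
theorem Q9822 : ∀ i, i < 9822 → P i := stepQ 9821 Q9821 (allL N9821 (tt N10340 (iv F66427)) (tt N10448 (iv F66839)) (tt N10363 (iv F66524)) (tt N9101 F64380) (tt N9100 (iv D16279)) (tt N10456 D16914) (tt N10333 (iv F66400)) (tt N10454 (iv F66860)) (tt N10335 (iv F66411)))
theorem Q9823 : ∀ i, i < 9823 → P i := stepQ 9822 Q9822 (allL N9822 (tt N10341 (iv F66432)) (tt N10449 (iv F66841)) (tt N9192 F64381) (tt N10456 (iv F66862)) (tt N9411 F64382) (tt N9101 (iv D16280)) (tt N10457 D16915) (tt N9633 F64383) (tt N10441 (iv F66820)))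
theorem Q9824 : ∀ i, i < 9824 → P i := stepQ 9823 Q9823 (allL N9823 (tt N9927 (iv F64746)) (tt N9823 F64384) (tt N10450 (iv F66844)) (tt N9779 F64385) (tt N9105 F64386) (tt N9644 F64387) (tt N10329 (iv F66377)) (tt N9103 (iv D16281)) (tt N10422 (iv F66741)))
theorem Q9825 : ∀ i, i < 9825 → P i := stepQ 9824 Q9824 (allL N9824 (tt N9546 F64388) (tt N9824 F64389) (tt N10451 (iv F66849)) (tt N9683 F64390) (tt N10422 (iv F66737)) (tt N9106 F64391) (tt N9704 F64392) (tt N9104 (iv D16282)) (tt N9105 F64393))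
theorem Q9826 : ∀ i, i < 9826 → P i := stepQ 9825 Q9825 (allL N9825 (tt N10194 (iv F65811)) (tt N9110 F64394) (tt N10458 D16916) (tt N9108 (iv D16283)) (tt N10156 (iv F65640)) (tt N9109 F64395) (tt N10195 (iv F65822)) (tt N9825 F64396) (tt N10118 F65446))
theorem Q9827 : ∀ i, i < 9827 → P i := stepQ 9826 Q9826 (allL N9826 (tt N10380 (iv F66583)) (tt N10427 (iv F66765)) (tt N9109 (iv D16284)) (tt N10447 (iv F66838)) (tt N10321 (iv F66329)) (tt N10458 (iv F66866)) (tt N10250 (iv F66061)) (tt N9826 F64397) (tt N10342 (iv F66441)))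
theorem Q9828 : ∀ i, i < 9828 → P i := stepQ 9827 Q9827 (allL N9827 (tt N9119 F64398) (tt N9382 F64399) (tt N9234 F64400) (tt N9835 (iv F64437)) (tt N9133 F64401) (tt N9116 F64402) (tt N9123 F64403) (tt N9112 (iv D16285)) (tt N10459 D16917))
theorem Q9829 : ∀ i, i < 9829 → P i := stepQ 9828 Q9828 (allL N9828 (tt N10347 (iv F66461)) (tt N9386 F64404) (tt N9115 F64405) (tt N10460 D16918) (tt N9114 F64406) (tt N9933 (iv F64770)) (tt N9127 F64407) (tt N9113 (iv D16286)) (tt N9838 (iv F64454)))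
theorem Q9830 : ∀ i, i < 9830 → P i := stepQ 9829 Q9829 (allL N9829 (tt N10348 (iv F66465)) (tt N9387 F64408) (tt N10339 (iv F66423)) (tt N9114 (iv D16287)) (tt N10461 D16919) (tt N10436 (iv F66801)) (tt N9128 F64409) (tt N9134 F64410) (tt N9839 (iv F64458)))
theorem Q9831 : ∀ i, i < 9831 → P i := stepQ 9830 Q9830 (allL N9830 (tt N9650 F64411) (tt N9233 F64412) (tt N10462 D16920) (tt N9115 (iv D16288)) (tt N9515 F64413) (tt N9422 F64414) (tt N9131 F64415) (tt N9307 F64416) (tt N9950 (iv F64849)))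
theorem Q9832 : ∀ i, i < 9832 → P i := stepQ 9831 Q9831 (allL N9831 (tt N9118 F64417) (tt N9841 (iv F64466)) (tt N9831 F64418) (tt N9116 (iv D16289)) (tt N9135 F64419) (tt N9835 (iv F64439)) (tt N9331 F64420) (tt N9834 F64433) (tt N10463 D16921))
theorem Q9833 : ∀ i, i < 9833 → P i := stepQ 9832 Q9832 (allL N9832 (tt N9120 F64421) (tt N10349 (iv F66470)) (tt N9235 F64422) (tt N10463 (iv F66886)) (tt N9117 F64423) (tt N10459 (iv F66872)) (tt N9333 F64424) (tt N10464 D16922) (tt N9116 (iv D16290)))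
theorem Q9834 : ∀ i, i < 9834 → P i := stepQ 9833 Q9833 (allL N9833 (tt N9121 F64425) (tt N10350 (iv F66476)) (tt N9236 F64426) (tt N10465 D16923) (tt N10464 (iv F66891)) (tt N10208 (iv F65895)) (tt N9334 F64427) (tt N9117 (iv D16291)) (tt N9707 F64428))
theorem Q9835 : ∀ i, i < 9835 → P i := stepQ 9834 Q9834 (allL N9834 (tt N9835 (iv F64434)) (tt N9122 F64429) (tt N9834 F64430) (tt N9119 F64431) (tt N9854 (iv F64506)) (tt N9118 (iv D16292)) (tt N9711 F64432) (tt N9831 (iv F64433)) (tt N10466 D16924))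
theorem Q9836 : ∀ i, i < 9836 → P i := stepQ 9835 Q9835 (allL N9835 (tt N9834 F64434) (tt N9123 F64435) (tt N9835 F64436) (tt N9827 F64437) (tt N9139 F64438) (tt N9831 F64439) (tt N9382 F64440) (tt N9118 (iv D16293)) (tt N10467 D16925))
theorem Q9837 : ∀ i, i < 9837 → P i := stepQ 9836 Q9836 (allL N9836 (tt N10463 (iv F66884)) (tt N9124 F64441) (tt N9836 F64442) (tt N9120 F64443) (tt N9140 F64444) (tt N10466 (iv F66902)) (tt N9383 F64445) (tt N10468 D16926) (tt N9118 (iv D16294)))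
theorem Q9838 : ∀ i, i < 9838 → P i := stepQ 9837 Q9837 (allL N9837 (tt N10459 (iv F66868)) (tt N9126 F64446) (tt N9238 F64447) (tt N10466 (iv F66901)) (tt N9322 F64448) (tt N9120 F64449) (tt N10354 (iv F66496)) (tt N10469 D16927) (tt N9119 (iv D16295)))
theorem Q9839 : ∀ i, i < 9839 → P i := stepQ 9838 Q9838 (allL N9838 (tt N10464 (iv F66889)) (tt N9127 F64450) (tt N9239 F64451) (tt N10470 D16928) (tt N9121 F64452) (tt N10469 (iv F66918)) (tt N9386 F64453) (tt N9120 (iv D16296)) (tt N9828 F64454))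
theorem Q9840 : ∀ i, i < 9840 → P i := stepQ 9839 Q9839 (allL N9839 (tt N10465 (iv F66894)) (tt N9128 F64455) (tt N10206 (iv F65883)) (tt N9121 (iv D16297)) (tt N10471 D16929) (tt N10211 (iv F65910)) (tt N9387 F64456) (tt N9143 F64457) (tt N9829 F64458))
theorem Q9841 : ∀ i, i < 9841 → P i := stepQ 9840 Q9840 (allL N9840 (tt N9556 F64459) (tt N9854 (iv F64503)) (tt N9308 F64460) (tt N9749 F64461) (tt N9122 (iv D16298)) (tt N9144 F64462) (tt N9455 F64463) (tt N9597 (iv F64464)) (tt N10472 D16930))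
theorem Q9842 : ∀ i, i < 9842 → P i := stepQ 9841 Q9841 (allL N9841 (tt N9384 F64465) (tt N9831 F64466) (tt N9309 F64467) (tt N9709 F64468) (tt N9597 F64469) (tt N9123 F64470) (tt N9332 F64471) (tt N9122 (iv D16299)) (tt N10473 D16931))
theorem Q9843 : ∀ i, i < 9843 → P i := stepQ 9842 Q9842 (allL N9842 (tt N9845 (iv F64480)) (tt N10466 (iv F66899)) (tt N9310 F64472) (tt N9126 F64473) (tt N10472 (iv F66930)) (tt N9124 F64474) (tt N9716 F64475) (tt N10474 D16932) (tt N9122 (iv D16300)))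
theorem Q9844 : ∀ i, i < 9844 → P i := stepQ 9843 Q9843 (allL N9843 (tt N10354 (iv F66490)) (tt N10467 (iv F66905)) (tt N9311 F64476) (tt N10065 (iv F65294)) (tt N9148 F64477) (tt N10473 (iv F66938)) (tt N10459 (iv F66873)) (tt N10475 D16933) (tt N9123 (iv D16301)))
theorem Q9845 : ∀ i, i < 9845 → P i := stepQ 9844 Q9844 (allL N9844 (tt N10355 (iv F66497)) (tt N10468 (iv F66911)) (tt N9312 F64478) (tt N10476 D16934) (tt N9149 F64479) (tt N10474 (iv F66941)) (tt N10426 (iv F66762)) (tt N9124 (iv D16302)) (tt N10475 (iv F66945)))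
theorem Q9846 : ∀ i, i < 9846 → P i := stepQ 9845 Q9845 (allL N9845 (tt N9842 F64480) (tt N10354 (iv F66491)) (tt N9129 F64481) (tt N9716 F64482) (tt N10214 (iv F65923)) (tt N9715 F64483) (tt N9126 F64484) (tt N10477 D16935) (tt N9125 (iv D16303)))
theorem Q9847 : ∀ i, i < 9847 → P i := stepQ 9846 Q9846 (allL N9846 (tt N10356 (iv F66501)) (tt N10469 (iv F66915)) (tt N9130 F64485) (tt N10478 D16936) (tt N10215 (iv F65927)) (tt N9127 F64486) (tt N10477 (iv F66950)) (tt N9126 (iv D16304)) (tt N10068 (iv F65307)))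
theorem Q9848 : ∀ i, i < 9848 → P i := stepQ 9847 Q9847 (allL N9847 (tt N10357 (iv F66504)) (tt N10470 (iv F66920)) (tt N10479 D16937) (tt N9127 (iv D16305)) (tt N10480 D16938) (tt N10478 (iv F66951)) (tt N10460 (iv F66875)) (tt N10476 (iv F66946)) (tt N10069 (iv F65308)))
theorem Q9849 : ∀ i, i < 9849 → P i := stepQ 9848 Q9848 (allL N9848 (tt N10358 (iv F66505)) (tt N10471 (iv F66923)) (tt N10438 (iv F66808)) (tt N10480 (iv F66953)) (tt N9128 (iv D16306)) (tt N10481 D16939) (tt N10461 (iv F66877)) (tt N9153 F64487) (tt N10070 (iv F65310)))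
theorem Q9850 : ∀ i, i < 9850 → P i := stepQ 9849 Q9849 (allL N9849 (tt N9999 (iv F65069)) (tt N9243 F64488) (tt N10477 (iv F66948)) (tt N10482 D16940) (tt N10218 (iv F65933)) (tt N9924 F64733) (tt N9130 F64489) (tt N9129 (iv D16307)) (tt N10071 (iv F65314)))
theorem Q9851 : ∀ i, i < 9851 → P i := stepQ 9850 Q9850 (allL N9850 (tt N10359 (iv F66507)) (tt N9244 F64490) (tt N10483 D16941) (tt N9130 (iv D16308)) (tt N10484 D16942) (tt N9131 F64491) (tt N10482 (iv F66957)) (tt N9315 F64492) (tt N10072 (iv F65318)))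
theorem Q9852 : ∀ i, i < 9852 → P i := stepQ 9851 Q9851 (allL N9851 (tt N10360 (iv F66511)) (tt N10485 D16943) (tt N9131 (iv D16309)) (tt N10479 (iv F66952)) (tt N10439 (iv F66812)) (tt N10483 (iv F66959)) (tt N10462 (iv F66882)) (tt N9316 F64493) (tt N10073 (iv F65320)))
theorem Q9853 : ∀ i, i < 9853 → P i := stepQ 9852 Q9852 (allL N9852 (tt N9322 F64494) (tt N9394 F64495) (tt N9305 F64496) (tt N9159 F64497) (tt N10459 (iv F66871)) (tt N10207 (iv F65891)) (tt N9148 F64498) (tt N10424 (iv F66749)) (tt N9133 (iv D16310)))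
theorem Q9854 : ∀ i, i < 9854 → P i := stepQ 9853 Q9853 (allL N9853 (tt N10363 (iv F66523)) (tt N9398 F64499) (tt N10340 (iv F66428)) (tt N10416 (iv F66710)) (tt N9134 (iv D16311)) (tt N10486 D16944) (tt N9153 F64500) (tt N10461 (iv F66878)) (tt N9164 F64501))
theorem Q9855 : ∀ i, i < 9855 → P i := stepQ 9854 Q9854 (allL N9854 (tt N9139 F64502) (tt N9840 F64503) (tt N9854 F64504) (tt N9167 F64505) (tt N9834 F64506) (tt N9858 (iv F64522)) (tt N9338 F64507) (tt N9135 (iv D16312)) (tt N10487 D16945))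
theorem Q9856 : ∀ i, i < 9856 → P i := stepQ 9855 Q9855 (allL N9855 (tt N9140 F64508) (tt N10255 (iv F66086)) (tt N9855 F64509) (tt N9136 F64510) (tt N10463 (iv F66887)) (tt N10273 (iv F66164)) (tt N9339 F64511) (tt N10488 D16946) (tt N9135 (iv D16313)))
theorem Q9857 : ∀ i, i < 9857 → P i := stepQ 9856 Q9856 (allL N9856 (tt N9142 F64512) (tt N10258 (iv F66098)) (tt N9216 F64513) (tt N10489 D16947) (tt N9137 F64514) (tt N10278 (iv F66183)) (tt N9340 F64515) (tt N9136 (iv D16314)) (tt N9170 F64516))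
theorem Q9858 : ∀ i, i < 9858 → P i := stepQ 9857 Q9857 (allL N9857 (tt N9143 F64517) (tt N10364 (iv F66529)) (tt N10144 (iv F65578)) (tt N9137 (iv D16315)) (tt N10490 D16948) (tt N10227 (iv F65972)) (tt N9341 F64518) (tt N10465 (iv F66897)) (tt N9171 F64519))
theorem Q9859 : ∀ i, i < 9859 → P i := stepQ 9858 Q9858 (allL N9858 (tt N9859 (iv F64525)) (tt N9144 F64520) (tt N9858 F64521) (tt N9887 (iv F64622)) (tt N9138 (iv D16316)) (tt N9854 F64522) (tt N9615 F64523) (tt N9614 (iv F64524)) (tt N10491 D16949))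
theorem Q9860 : ∀ i, i < 9860 → P i := stepQ 9859 Q9859 (allL N9859 (tt N9858 F64525) (tt N9146 F64526) (tt N9859 F64527) (tt N9174 F64528) (tt N9614 F64529) (tt N9139 F64530) (tt N9613 F64531) (tt N9138 (iv D16317)) (tt N10492 D16950))
theorem Q9861 : ∀ i, i < 9861 → P i := stepQ 9860 Q9860 (allL N9860 (tt N10273 (iv F66160)) (tt N9147 F64532) (tt N9860 F64533) (tt N9141 F64534) (tt N10491 (iv F66984)) (tt N9140 F64535) (tt N10266 (iv F66134)) (tt N10493 D16951) (tt N9138 (iv D16318)))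
theorem Q9862 : ∀ i, i < 9862 → P i := stepQ 9861 Q9861 (allL N9861 (tt N10487 (iv F66967)) (tt N9148 F64536) (tt N9861 F64537) (tt N9176 F64538) (tt N10467 (iv F66908)) (tt N10492 (iv F66992)) (tt N9394 F64539) (tt N10494 D16952) (tt N9139 (iv D16319)))
theorem Q9863 : ∀ i, i < 9863 → P i := stepQ 9862 Q9862 (allL N9862 (tt N10488 (iv F66973)) (tt N9149 F64540) (tt N9862 F64541) (tt N10495 D16953) (tt N10468 (iv F66913)) (tt N10493 (iv F66996)) (tt N9395 F64542) (tt N9140 (iv D16320)) (tt N10494 (iv F67000)))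
theorem Q9864 : ∀ i, i < 9864 → P i := stepQ 9863 Q9863 (allL N9863 (tt N10278 (iv F66179)) (tt N9151 F64543) (tt N9217 F64544) (tt N10496 D16954) (tt N10231 (iv F65994)) (tt N9142 F64545) (tt N10269 (iv F66149)) (tt N9141 (iv D16321)) (tt N9179 F64546))
theorem Q9865 : ∀ i, i < 9865 → P i := stepQ 9864 Q9864 (allL N9864 (tt N10489 (iv F66976)) (tt N9152 F64547) (tt N10497 D16955) (tt N9142 (iv D16322)) (tt N10498 D16956) (tt N10496 (iv F67005)) (tt N9397 F64548) (tt N10495 (iv F67003)) (tt N9180 F64549))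
theorem Q9866 : ∀ i, i < 9866 → P i := stepQ 9865 Q9865 (allL N9865 (tt N10490 (iv F66979)) (tt N9153 F64550) (tt N10225 (iv F65963)) (tt N10498 (iv F67011)) (tt N9143 (iv D16323)) (tt N10499 D16957) (tt N9398 F64551) (tt N10471 (iv F66925)) (tt N9181 F64552))
theorem Q9867 : ∀ i, i < 9867 → P i := stepQ 9866 Q9866 (allL N9866 (tt N10369 (iv F66543)) (tt N10491 (iv F66982)) (tt N9317 F64553) (tt N10234 (iv F66005)) (tt N9147 F64554) (tt N10472 (iv F66931)) (tt N9625 F64555) (tt N10500 D16958) (tt N9144 (iv D16324)))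
theorem Q9868 : ∀ i, i < 9868 → P i := stepQ 9867 Q9867 (allL N9867 (tt N10170 (iv F65713)) (tt N10266 (iv F66130)) (tt N9318 F64556) (tt N9150 F64557) (tt N9625 F64558) (tt N10167 (iv F65701)) (tt N9147 F64559) (tt N10501 D16959) (tt N9145 (iv D16325)))
theorem Q9869 : ∀ i, i < 9869 → P i := stepQ 9868 Q9868 (allL N9868 (tt N10370 (iv F66548)) (tt N10492 (iv F66988)) (tt N9319 F64560) (tt N9184 F64561) (tt N9624 F64562) (tt N9148 F64563) (tt N9623 F64564) (tt N10502 D16960) (tt N9146 (iv D16326)))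
theorem Q9870 : ∀ i, i < 9870 → P i := stepQ 9869 Q9869 (allL N9869 (tt N10371 (iv F66555)) (tt N10493 (iv F66994)) (tt N9320 F64565) (tt N10503 D16961) (tt N10500 (iv F67017)) (tt N9149 F64566) (tt N10501 (iv F67022)) (tt N9147 (iv D16327)) (tt N10502 (iv F67028)))
theorem Q9871 : ∀ i, i < 9871 → P i := stepQ 9870 Q9870 (allL N9870 (tt N10372 (iv F66558)) (tt N10494 (iv F66997)) (tt N9321 F64567) (tt N10504 D16962) (tt N10475 (iv F66944)) (tt N10502 (iv F67026)) (tt N10424 (iv F66748)) (tt N9148 (iv D16328)) (tt N9149 F64568))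
theorem Q9872 : ∀ i, i < 9872 → P i := stepQ 9871 Q9871 (allL N9871 (tt N10373 (iv F66562)) (tt N10495 (iv F67001)) (tt N10387 (iv F66609)) (tt N9149 (iv D16329)) (tt N10505 D16963) (tt N10503 (iv F67029)) (tt N10411 (iv F66694)) (tt N9152 F64569) (tt N10504 (iv F67032)))
theorem Q9873 : ∀ i, i < 9873 → P i := stepQ 9872 Q9872 (allL N9872 (tt N10172 (iv F65722)) (tt N10269 (iv F66145)) (tt N9154 F64570) (tt N10506 D16964) (tt N10240 (iv F66026)) (tt N10168 (iv F65707)) (tt N9151 F64571) (tt N9150 (iv D16330)) (tt N9188 F64572))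
theorem Q9874 : ∀ i, i < 9874 → P i := stepQ 9873 Q9873 (allL N9873 (tt N10374 (iv F66566)) (tt N10496 (iv F67004)) (tt N10388 (iv F66613)) (tt N9151 (iv D16331)) (tt N10507 D16965) (tt N9152 F64573) (tt N10506 (iv F67034)) (tt N10503 (iv F67030)) (tt N9189 F64574))
theorem Q9875 : ∀ i, i < 9875 → P i := stepQ 9874 Q9874 (allL N9874 (tt N10375 (iv F66570)) (tt N10498 (iv F67010)) (tt N10389 (iv F66617)) (tt N9153 F64575) (tt N9152 (iv D16332)) (tt N10508 D16966) (tt N10416 (iv F66711)) (tt N10505 (iv F67033)) (tt N9191 F64576))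
theorem Q9876 : ∀ i, i < 9876 → P i := stepQ 9875 Q9875 (allL N9875 (tt N10376 (iv F66575)) (tt N10499 (iv F67014)) (tt N10441 (iv F66818)) (tt N10508 (iv F67037)) (tt N10244 (iv F66037)) (tt N9153 (iv D16333)) (tt N10509 D16967) (tt N10481 (iv F66954)) (tt N9192 F64577))
theorem Q9877 : ∀ i, i < 9877 → P i := stepQ 9876 Q9876 (allL N9876 (tt N10229 (iv F65981)) (tt N9401 F64578) (tt N9195 F64579) (tt N10267 (iv F66138)) (tt N9158 F64580) (tt N9894 (iv F64649)) (tt N9403 F64581) (tt N10510 D16968) (tt N9155 (iv D16334)))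
theorem Q9878 : ∀ i, i < 9878 → P i := stepQ 9877 Q9877 (allL N9877 (tt N10147 (iv F65595)) (tt N9402 F64582) (tt N9196 F64583) (tt N9161 F64584) (tt N9403 F64585) (tt N9183 F64586) (tt N9158 F64587) (tt N10511 D16969) (tt N9156 (iv D16335)))
theorem Q9879 : ∀ i, i < 9879 → P i := stepQ 9878 Q9878 (allL N9878 (tt N10209 (iv F65897)) (tt N9403 F64588) (tt N9197 F64589) (tt N10207 (iv F65889)) (tt N9402 F64590) (tt N9159 F64591) (tt N9401 F64592) (tt N10512 D16970) (tt N9157 (iv D16336)))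
theorem Q9880 : ∀ i, i < 9880 → P i := stepQ 9879 Q9879 (allL N9879 (tt N10385 (iv F66601)) (tt N9404 F64593) (tt N9198 F64594) (tt N10513 D16971) (tt N10510 (iv F67042)) (tt N9160 F64595) (tt N10511 (iv F67049)) (tt N9158 (iv D16337)) (tt N10512 (iv F67056)))
theorem Q9881 : ∀ i, i < 9881 → P i := stepQ 9880 Q9880 (allL N9880 (tt N10386 (iv F66604)) (tt N9405 F64596) (tt N9199 F64597) (tt N10514 D16972) (tt N9898 (iv F64665)) (tt N10512 (iv F67054)) (tt N9186 F64598) (tt N9159 (iv D16338)) (tt N9160 F64599))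
theorem Q9882 : ∀ i, i < 9882 → P i := stepQ 9881 Q9881 (allL N9881 (tt N10387 (iv F66608)) (tt N9406 F64600) (tt N10373 (iv F66563)) (tt N9160 (iv D16339)) (tt N10515 D16973) (tt N10513 (iv F67058)) (tt N9187 F64601) (tt N9163 F64602) (tt N10514 (iv F67062)))
theorem Q9883 : ∀ i, i < 9883 → P i := stepQ 9882 Q9882 (allL N9882 (tt N10148 (iv F65602)) (tt N9407 F64603) (tt N9165 F64604) (tt N10516 D16974) (tt N10146 (iv F65591)) (tt N9188 F64605) (tt N9162 F64606) (tt N9161 (iv D16340)) (tt N10168 (iv F65709)))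
theorem Q9884 : ∀ i, i < 9884 → P i := stepQ 9883 Q9883 (allL N9883 (tt N10388 (iv F66612)) (tt N9408 F64607) (tt N10374 (iv F66567)) (tt N9162 (iv D16341)) (tt N10517 D16975) (tt N9163 F64608) (tt N10516 (iv F67068)) (tt N10513 (iv F67059)) (tt N10414 (iv F66704)))
theorem Q9885 : ∀ i, i < 9885 → P i := stepQ 9884 Q9884 (allL N9884 (tt N10389 (iv F66616)) (tt N9410 F64609) (tt N10375 (iv F66571)) (tt N9164 F64610) (tt N9163 (iv D16342)) (tt N10518 D16976) (tt N9191 F64611) (tt N10515 (iv F67065)) (tt N10416 (iv F66712)))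
theorem Q9886 : ∀ i, i < 9886 → P i := stepQ 9885 Q9885 (allL N9885 (tt N10390 (iv F66621)) (tt N9411 F64612) (tt N10442 (iv F66821)) (tt N10518 (iv F67071)) (tt N10449 (iv F66842)) (tt N9164 (iv D16343)) (tt N10519 D16977) (tt N9904 (iv F64683)) (tt N10486 (iv F66966)))
theorem Q9887 : ∀ i, i < 9887 → P i := stepQ 9886 Q9886 (allL N9886 (tt N9172 F64613) (tt N9578 F64614) (tt N9246 F64615) (tt N9615 F64616) (tt N9166 (iv D16344)) (tt N9571 F64617) (tt N9887 (iv F64625)) (tt N9570 (iv F64618)) (tt N10520 D16978))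
theorem Q9888 : ∀ i, i < 9888 → P i := stepQ 9887 Q9887 (allL N9887 (tt N9174 F64619) (tt N9576 F64620) (tt N9248 F64621) (tt N9858 F64622) (tt N9570 F64623) (tt N9167 F64624) (tt N9886 F64625) (tt N9166 (iv D16345)) (tt N10521 D16979))
theorem Q9889 : ∀ i, i < 9889 → P i := stepQ 9888 Q9888 (allL N9888 (tt N9175 F64626) (tt N10235 (iv F66008)) (tt N9249 F64627) (tt N9169 F64628) (tt N10520 (iv F67078)) (tt N9168 F64629) (tt N10228 (iv F65980)) (tt N10522 D16980) (tt N9166 (iv D16346)))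
theorem Q9890 : ∀ i, i < 9890 → P i := stepQ 9889 Q9889 (allL N9889 (tt N9176 F64630) (tt N10391 (iv F66623)) (tt N9250 F64631) (tt N10487 (iv F66970)) (tt N9744 F64632) (tt N10521 (iv F67085)) (tt N9350 F64633) (tt N10523 D16981) (tt N9167 (iv D16347)))
theorem Q9891 : ∀ i, i < 9891 → P i := stepQ 9890 Q9890 (allL N9890 (tt N9177 F64634) (tt N10392 (iv F66629)) (tt N9251 F64635) (tt N10524 D16982) (tt N9745 F64636) (tt N10522 (iv F67089)) (tt N9351 F64637) (tt N9168 (iv D16348)) (tt N10523 (iv F67094)))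
theorem Q9892 : ∀ i, i < 9892 → P i := stepQ 9891 Q9891 (allL N9891 (tt N9179 F64638) (tt N10240 (iv F66024)) (tt N9220 F64639) (tt N10525 D16983) (tt N10269 (iv F66147)) (tt N9170 F64640) (tt N10231 (iv F65996)) (tt N9169 (iv D16349)) (tt N10278 (iv F66185)))
theorem Q9893 : ∀ i, i < 9893 → P i := stepQ 9892 Q9892 (allL N9892 (tt N9180 F64641) (tt N10393 (iv F66634)) (tt N10526 D16984) (tt N9170 (iv D16350)) (tt N10527 D16985) (tt N10525 (iv F67099)) (tt N9353 F64642) (tt N10524 (iv F67097)) (tt N10489 (iv F66978)))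
theorem Q9894 : ∀ i, i < 9894 → P i := stepQ 9893 Q9893 (allL N9893 (tt N9181 F64643) (tt N10395 (iv F66641)) (tt N10165 (iv F65688)) (tt N10527 (iv F67104)) (tt N9171 (iv D16351)) (tt N10528 D16986) (tt N9354 F64644) (tt N9748 F64645) (tt N10490 (iv F66981)))
theorem Q9895 : ∀ i, i < 9895 → P i := stepQ 9894 Q9894 (allL N9894 (tt N10520 (iv F67074)) (tt N9182 F64646) (tt N9255 F64647) (tt N10272 (iv F66157)) (tt N9175 F64648) (tt N9876 F64649) (tt N9896 (iv F64659)) (tt N10529 D16987) (tt N9172 (iv D16352)))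
theorem Q9896 : ∀ i, i < 9896 → P i := stepQ 9895 Q9895 (allL N9895 (tt N10228 (iv F65975)) (tt N9183 F64650) (tt N9256 F64651) (tt N9178 F64652) (tt N9896 (iv F64657)) (tt N9402 F64653) (tt N9175 F64654) (tt N10530 D16988) (tt N9173 (iv D16353)))
theorem Q9897 : ∀ i, i < 9897 → P i := stepQ 9896 Q9896 (allL N9896 (tt N10521 (iv F67080)) (tt N9184 F64655) (tt N9257 F64656) (tt N10492 (iv F66990)) (tt N9895 F64657) (tt N9176 F64658) (tt N9894 F64659) (tt N10531 D16989) (tt N9174 (iv D16354)))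
theorem Q9898 : ∀ i, i < 9898 → P i := stepQ 9897 Q9897 (allL N9897 (tt N10522 (iv F67087)) (tt N9185 F64660) (tt N9258 F64661) (tt N10532 D16990) (tt N10529 (iv F67110)) (tt N9177 F64662) (tt N10530 (iv F67115)) (tt N9175 (iv D16355)) (tt N10531 (iv F67122)))
theorem Q9899 : ∀ i, i < 9899 → P i := stepQ 9898 Q9898 (allL N9898 (tt N10523 (iv F67090)) (tt N9186 F64663) (tt N9259 F64664) (tt N10533 D16991) (tt N9880 F64665) (tt N10531 (iv F67120)) (tt N9405 F64666) (tt N9176 (iv D16356)) (tt N9177 F64667))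
theorem Q9900 : ∀ i, i < 9900 → P i := stepQ 9899 Q9899 (allL N9899 (tt N10524 (iv F67095)) (tt N9187 F64668) (tt N10534 D16992) (tt N9177 (iv D16357)) (tt N10535 D16993) (tt N10532 (iv F67124)) (tt N9406 F64669) (tt N9180 F64670) (tt N10533 (iv F67128)))
theorem Q9901 : ∀ i, i < 9901 → P i := stepQ 9900 Q9900 (allL N9900 (tt N10231 (iv F65991)) (tt N9188 F64671) (tt N9222 F64672) (tt N10536 D16994) (tt N10278 (iv F66182)) (tt N9407 F64673) (tt N9179 F64674) (tt N9178 (iv D16358)) (tt N10269 (iv F66150)))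
theorem Q9902 : ∀ i, i < 9902 → P i := stepQ 9901 Q9901 (allL N9901 (tt N10525 (iv F67098)) (tt N9189 F64675) (tt N10537 D16995) (tt N9179 (iv D16359)) (tt N10538 D16996) (tt N9180 F64676) (tt N10536 (iv F67138)) (tt N10532 (iv F67125)) (tt N10496 (iv F67006)))
theorem Q9903 : ∀ i, i < 9903 → P i := stepQ 9902 Q9902 (allL N9902 (tt N10526 (iv F67100)) (tt N10539 D16997) (tt N9180 (iv D16360)) (tt N9224 F64677) (tt N10540 D16998) (tt N10537 (iv F67140)) (tt N9409 F64678) (tt N10534 (iv F67131)) (tt N10497 (iv F67009)))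
theorem Q9904 : ∀ i, i < 9904 → P i := stepQ 9903 Q9903 (allL N9903 (tt N10527 (iv F67103)) (tt N9191 F64679) (tt N10540 (iv F67145)) (tt N9181 F64680) (tt N9180 (iv D16361)) (tt N10541 D16999) (tt N9410 F64681) (tt N10535 (iv F67135)) (tt N10498 (iv F67013)))
theorem Q9905 : ∀ i, i < 9905 → P i := stepQ 9904 Q9904 (allL N9904 (tt N10528 (iv F67106)) (tt N9192 F64682) (tt N10262 (iv F66112)) (tt N10541 (iv F67148)) (tt N10282 (iv F66192)) (tt N9181 (iv D16362)) (tt N10542 D17000) (tt N9885 F64683) (tt N10499 (iv F67015)))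
theorem Q9906 : ∀ i, i < 9906 → P i := stepQ 9905 Q9905 (allL N9905 (tt N10406 (iv F66674)) (tt N10529 (iv F67108)) (tt N9204 F64684) (tt N10543 D17001) (tt N9185 F64685) (tt N10084 (iv F65348)) (tt N9907 (iv F64692)) (tt N9182 (iv D16363)) (tt N9906 (iv F64688)))
theorem Q9907 : ∀ i, i < 9907 → P i := stepQ 9906 Q9906 (allL N9906 (tt N10407 (iv F66677)) (tt N10530 (iv F67112)) (tt N9205 F64686) (tt N10544 D17002) (tt N9907 (iv F64690)) (tt N10511 (iv F67048)) (tt N9185 F64687) (tt N9183 (iv D16364)) (tt N9905 F64688))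
theorem Q9908 : ∀ i, i < 9908 → P i := stepQ 9907 Q9907 (allL N9907 (tt N10408 (iv F66681)) (tt N10531 (iv F67117)) (tt N9206 F64689) (tt N10545 D17003) (tt N9906 F64690) (tt N9186 F64691) (tt N9905 F64692) (tt N9184 (iv D16365)) (tt N9185 F64693))
theorem Q9909 : ∀ i, i < 9909 → P i := stepQ 9908 Q9908 (allL N9908 (tt N10409 (iv F66687)) (tt N10532 (iv F67123)) (tt N10546 D17004) (tt N9185 (iv D16366)) (tt N10547 D17005) (tt N9187 F64694) (tt N10544 (iv F67152)) (tt N9189 F64695) (tt N10545 (iv F67157)))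
theorem Q9910 : ∀ i, i < 9910 → P i := stepQ 9909 Q9909 (allL N9909 (tt N10410 (iv F66690)) (tt N10533 (iv F67126)) (tt N10548 D17006) (tt N9186 (iv D16367)) (tt N10549 D17007) (tt N10545 (iv F67155)) (tt N10514 (iv F67061)) (tt N10504 (iv F67031)) (tt N9187 F64696))
theorem Q9911 : ∀ i, i < 9911 → P i := stepQ 9910 Q9910 (allL N9910 (tt N10411 (iv F66692)) (tt N10550 D17008) (tt N9187 (iv D16368)) (tt N9209 F64697) (tt N10551 D17009) (tt N10546 (iv F67159)) (tt N10373 (iv F66564)) (tt N9190 F64698) (tt N10548 (iv F67164)))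
theorem Q9912 : ∀ i, i < 9912 → P i := stepQ 9911 Q9911 (allL N9911 (tt N10412 (iv F66697)) (tt N10535 (iv F67132)) (tt N10551 (iv F67169)) (tt N10090 (iv F65359)) (tt N9187 (iv D16369)) (tt N10552 D17010) (tt N10515 (iv F67064)) (tt N9191 F64699) (tt N10549 (iv F67165)))
theorem Q9913 : ∀ i, i < 9913 → P i := stepQ 9912 Q9912 (allL N9912 (tt N10413 (iv F66699)) (tt N10536 (iv F67136)) (tt N10173 (iv F65730)) (tt N9188 (iv D16370)) (tt N10553 D17011) (tt N10516 (iv F67067)) (tt N9189 F64700) (tt N10544 (iv F67153)) (tt N10506 (iv F67035)))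
theorem Q9914 : ∀ i, i < 9914 → P i := stepQ 9913 Q9913 (allL N9913 (tt N10414 (iv F66701)) (tt N10164 (iv F65684)) (tt N9189 (iv D16371)) (tt N9193 F64701) (tt N10554 D17012) (tt N9190 F64702) (tt N10173 (iv F65731)) (tt N10546 (iv F67160)) (tt N10388 (iv F66615)))
theorem Q9915 : ∀ i, i < 9915 → P i := stepQ 9914 Q9914 (allL N9914 (tt N10415 (iv F66706)) (tt N10538 (iv F67141)) (tt N10554 (iv F67173)) (tt N10292 (iv F66209)) (tt N9189 (iv D16372)) (tt N10555 D17013) (tt N10553 (iv F67172)) (tt N10547 (iv F67162)) (tt N10507 (iv F67036)))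
theorem Q9916 : ∀ i, i < 9916 → P i := stepQ 9915 Q9915 (allL N9915 (tt N10259 (iv F66104)) (tt N9190 (iv D16373)) (tt N10539 (iv F67142)) (tt N9194 F64703) (tt N10556 D17014) (tt N10164 (iv F65685)) (tt N10366 (iv F66537)) (tt N10550 (iv F67168)) (tt N10382 (iv F66594)))
theorem Q9917 : ∀ i, i < 9917 → P i := stepQ 9916 Q9916 (allL N9916 (tt N10416 (iv F66707)) (tt N10556 (iv F67175)) (tt N9191 F64704) (tt N10363 (iv F66525)) (tt N9190 (iv D16374)) (tt N10557 D17015) (tt N10375 (iv F66573)) (tt N10551 (iv F67170)) (tt N10389 (iv F66620)))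
theorem Q9918 : ∀ i, i < 9918 → P i := stepQ 9917 Q9917 (allL N9917 (tt N10417 (iv F66713)) (tt N10541 (iv F67147)) (tt N10557 (iv F67176)) (tt N9192 F64705) (tt N10555 (iv F67174)) (tt N9191 (iv D16375)) (tt N10558 D17016) (tt N10552 (iv F67171)) (tt N10508 (iv F67038)))
theorem Q9919 : ∀ i, i < 9919 → P i := stepQ 9918 Q9918 (allL N9918 (tt N10418 (iv F66715)) (tt N10542 (iv F67149)) (tt N10457 (iv F66863)) (tt N10558 (iv F67177)) (tt N10296 (iv F66215)) (tt N10519 (iv F67073)) (tt N9192 (iv D16376)) (tt N10097 (iv F65367)) (tt N10509 (iv F67039)))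
theorem Q9920 : ∀ i, i < 9920 → P i := stepQ 9919 Q9919 (allL N9919 (tt N10419 (iv F66716)) (tt N9277 F64706) (tt N10510 (iv F67041)) (tt N10559 D17017) (tt N9198 F64707) (tt N9966 (iv F64919)) (tt N9418 F64708) (tt N9195 (iv D16377)) (tt N9417 F64709))
theorem Q9921 : ∀ i, i < 9921 → P i := stepQ 9920 Q9920 (allL N9920 (tt N10420 (iv F66721)) (tt N9278 F64710) (tt N10511 (iv F67046)) (tt N10560 D17018) (tt N9418 F64711) (tt N9205 F64712) (tt N9198 F64713) (tt N9196 (iv D16378)) (tt N9416 F64714))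
theorem Q9922 : ∀ i, i < 9922 → P i := stepQ 9921 Q9921 (allL N9921 (tt N10421 (iv F66728)) (tt N9279 F64715) (tt N10512 (iv F67052)) (tt N10561 D17019) (tt N9417 F64716) (tt N9199 F64717) (tt N9416 F64718) (tt N9197 (iv D16379)) (tt N9198 F64719))
theorem Q9923 : ∀ i, i < 9923 → P i := stepQ 9922 Q9922 (allL N9922 (tt N9320 F64720) (tt N9280 F64721) (tt N10371 (iv F66556)) (tt N9198 (iv D16380)) (tt N10562 D17020) (tt N9200 F64722) (tt N10560 (iv F67185)) (tt N9202 F64723) (tt N10561 (iv F67195)))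
theorem Q9924 : ∀ i, i < 9924 → P i := stepQ 9923 Q9923 (allL N9923 (tt N9321 F64724) (tt N9281 F64725) (tt N10372 (iv F66559)) (tt N9199 (iv D16381)) (tt N10563 D17021) (tt N10561 (iv F67192)) (tt N9208 F64726) (tt N9302 F64727) (tt N9200 F64728))
theorem Q9925 : ∀ i, i < 9925 → P i := stepQ 9924 Q9924 (allL N9924 (tt N9312 F64729) (tt N9283 F64730) (tt N10355 (iv F66498)) (tt N9972 (iv F64940)) (tt N9200 (iv D16382)) (tt N9849 (iv F64733)) (tt N9210 F64731) (tt N9203 F64732) (tt N10563 (iv F67207)))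
theorem Q9926 : ∀ i, i < 9926 → P i := stepQ 9925 Q9925 (allL N9925 (tt N9318 F64734) (tt N9284 F64735) (tt N10170 (iv F65715)) (tt N9201 (iv D16383)) (tt N9512 (iv F64739)) (tt N9211 F64736) (tt N9202 F64737) (tt N10560 (iv F67186)) (tt N9300 F64738))
theorem Q9927 : ∀ i, i < 9927 → P i := stepQ 9926 Q9926 (allL N9926 (tt N9317 F64740) (tt N9286 F64741) (tt N10369 (iv F66544)) (tt N9926 F64742) (tt N9202 (iv D16384)) (tt N9560 F64743) (tt N9512 F64744) (tt N10562 (iv F67200)) (tt N9299 F64745))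
theorem Q9928 : ∀ i, i < 9928 → P i := stepQ 9927 Q9927 (allL N9927 (tt N9823 F64746) (tt N9288 F64747) (tt N10564 D17022) (tt N9204 (iv D16385)) (tt N9679 F64748) (tt N10102 (iv F65379)) (tt N9684 F64749) (tt N9215 F64750) (tt N9928 (iv F64755)))
theorem Q9929 : ∀ i, i < 9929 → P i := stepQ 9928 Q9928 (allL N9928 (tt N10422 (iv F66735)) (tt N9289 F64751) (tt N10171 (iv F65720)) (tt N9205 (iv D16386)) (tt N9546 F64752) (tt N10560 (iv F67184)) (tt N9207 F64753) (tt N9211 F64754) (tt N9927 F64755))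
theorem Q9930 : ∀ i, i < 9930 → P i := stepQ 9929 Q9929 (allL N9929 (tt N10423 (iv F66742)) (tt N9803 F64756) (tt N9207 (iv D16387)) (tt N10546 (iv F67158)) (tt N9802 F64757) (tt N9209 F64758) (tt N10171 (iv F65721)) (tt N9212 F64759) (tt N10210 (iv F65908)))
theorem Q9931 : ∀ i, i < 9931 → P i := stepQ 9930 Q9930 (allL N9930 (tt N10424 (iv F66747)) (tt N10215 (iv F65925)) (tt N9208 (iv D16388)) (tt N10548 (iv F67163)) (tt N10469 (iv F66917)) (tt N10210 (iv F65907)) (tt N10372 (iv F66560)) (tt N9322 F64760) (tt N9209 F64761))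
theorem Q9932 : ∀ i, i < 9932 → P i := stepQ 9931 Q9931 (allL N9931 (tt N10425 (iv F66752)) (tt N9241 F64762) (tt N10469 (iv F66916)) (tt N10108 (iv F65399)) (tt N9208 (iv D16389)) (tt N9239 F64763) (tt N10563 (iv F67205)) (tt N9238 F64764) (tt N9210 F64765))
theorem Q9933 : ∀ i, i < 9933 → P i := stepQ 9932 Q9932 (allL N9932 (tt N10256 (iv F66091)) (tt N9209 (iv D16390)) (tt N9290 F64766) (tt N10550 (iv F67166)) (tt N10068 (iv F65305)) (tt N9803 F64767) (tt N10365 (iv F66534)) (tt N9213 F64768) (tt N10215 (iv F65929)))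
theorem Q9934 : ∀ i, i < 9934 → P i := stepQ 9933 Q9933 (allL N9933 (tt N10426 (iv F66758)) (tt N10068 (iv F65303)) (tt N9210 F64769) (tt N10565 D17023) (tt N9209 (iv D16391)) (tt N9828 F64770) (tt N10355 (iv F66500)) (tt N9214 F64771) (tt N10469 (iv F66919)))
theorem Q9935 : ∀ i, i < 9935 → P i := stepQ 9934 Q9934 (allL N9934 (tt N9815 F64772) (tt N9501 F64773) (tt N9215 (iv D16392)) (tt N10032 (iv F65185)) (tt N9547 F64774) (tt N10117 (iv F65438)) (tt N9552 F64775) (tt N10564 (iv F67212)) (tt N9492 F64776))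
theorem Q9936 : ∀ i, i < 9936 → P i := stepQ 9935 Q9935 (allL N9935 (tt N9218 F64777) (tt N9227 F64778) (tt N10566 D17024) (tt N9216 (iv D16393)) (tt N10145 (iv F65583)) (tt N10325 (iv F66355)) (tt N9342 F64779) (tt N9935 F64780) (tt N9221 F64781))
theorem Q9937 : ∀ i, i < 9937 → P i := stepQ 9936 Q9936 (allL N9936 (tt N10325 (iv F66352)) (tt N9219 F64782) (tt N10567 D17025) (tt N9217 (iv D16394)) (tt N10568 D17026) (tt N9218 F64783) (tt N10198 (iv F65840)) (tt N9936 F64784) (tt N9223 F64785))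
theorem Q9938 : ∀ i, i < 9938 → P i := stepQ 9937 Q9937 (allL N9937 (tt N10566 (iv F67215)) (tt N10429 (iv F66774)) (tt N9218 (iv D16395)) (tt N10497 (iv F67007)) (tt N10226 (iv F65966)) (tt N10567 (iv F67219)) (tt N9400 F64786) (tt N9937 F64787) (tt N9224 F64788))
theorem Q9939 : ∀ i, i < 9939 → P i := stepQ 9938 Q9938 (allL N9938 (tt N9228 F64789) (tt N10568 (iv F67223)) (tt N9227 F64790) (tt N9377 F64791) (tt N9219 (iv D16396)) (tt N9376 F64792) (tt N9371 F64793) (tt N9938 F64794) (tt N9225 F64795))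
theorem Q9940 : ∀ i, i < 9940 → P i := stepQ 9939 Q9939 (allL N9939 (tt N9223 F64796) (tt N9229 F64797) (tt N10569 D17027) (tt N9220 (iv D16397)) (tt N10323 (iv F66343)) (tt N9221 F64798) (tt N10202 (iv F65863)) (tt N9292 F64799) (tt N10325 (iv F66358)))
theorem Q9941 : ∀ i, i < 9941 → P i := stepQ 9940 Q9940 (allL N9940 (tt N9224 F64800) (tt N10570 D17028) (tt N9221 (iv D16398)) (tt N10526 (iv F67101)) (tt N10166 (iv F65692)) (tt N10569 (iv F67230)) (tt N9356 F64801) (tt N9293 F64802) (tt N10566 (iv F67218)))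
theorem Q9942 : ∀ i, i < 9942 → P i := stepQ 9941 Q9941 (allL N9941 (tt N10569 (iv F67229)) (tt N10166 (iv F65691)) (tt N9223 (iv D16399)) (tt N10537 (iv F67139)) (tt N10570 (iv F67233)) (tt N9224 F64803) (tt N10187 (iv F65781)) (tt N9294 F64804) (tt N10567 (iv F67221)))
theorem Q9943 : ∀ i, i < 9943 → P i := stepQ 9942 Q9942 (allL N9942 (tt N10323 (iv F66341)) (tt N9225 F64805) (tt N10570 (iv F67232)) (tt N10327 (iv F66363)) (tt N9223 (iv D16400)) (tt N10264 (iv F66121)) (tt N9378 F64806) (tt N9295 F64807) (tt N10568 (iv F67228)))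
theorem Q9944 : ∀ i, i < 9944 → P i := stepQ 9943 Q9943 (allL N9943 (tt N10263 (iv F66113)) (tt N9224 (iv D16401)) (tt N9226 F64808) (tt N10539 (iv F67143)) (tt N10265 (iv F66126)) (tt N10166 (iv F65693)) (tt N9415 F64809) (tt N9296 F64810) (tt N10429 (iv F66777)))
theorem Q9945 : ∀ i, i < 9945 → P i := stepQ 9944 Q9944 (allL N9944 (tt N9944 F64811) (tt N9513 F64812) (tt N9985 (iv F64997)) (tt N9443 F64813) (tt N9439 F64814) (tt N9231 F64815) (tt N9987 (iv F65011)) (tt N9230 (iv D16402)) (tt N9680 F64816))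
theorem Q9946 : ∀ i, i < 9946 → P i := stepQ 9945 Q9945 (allL N9945 (tt N9945 F64817) (tt N9515 F64818) (tt N9979 (iv F64967)) (tt N9231 (iv D16403)) (tt N9233 F64819) (tt N9443 F64820) (tt N9232 F64821) (tt N9323 F64822) (tt N9681 F64823))
theorem Q9947 : ∀ i, i < 9947 → P i := stepQ 9946 Q9946 (allL N9946 (tt N9946 F64824) (tt N10571 D17029) (tt N9233 (iv D16404)) (tt N9438 F64825) (tt N9979 (iv F64968)) (tt N9447 F64826) (tt N9245 F64827) (tt N9324 F64828) (tt N9952 (iv F64860)))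
theorem Q9948 : ∀ i, i < 9948 → P i := stepQ 9947 Q9947 (allL N9947 (tt N9238 F64829) (tt N9947 F64830) (tt N10459 (iv F66870)) (tt N9947 F64831) (tt N9305 F64832) (tt N9235 F64833) (tt N9311 F64834) (tt N10425 (iv F66756)) (tt N9234 (iv D16405)))
theorem Q9949 : ∀ i, i < 9949 → P i := stepQ 9948 Q9948 (allL N9948 (tt N9239 F64835) (tt N9948 F64836) (tt N10464 (iv F66890)) (tt N10311 (iv F66279)) (tt N9236 F64837) (tt N10425 (iv F66754)) (tt N9336 F64838) (tt N9235 (iv D16406)) (tt N9708 F64839))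
theorem Q9950 : ∀ i, i < 9950 → P i := stepQ 9949 Q9949 (allL N9949 (tt N9311 F64840) (tt N9240 F64841) (tt N10354 (iv F66492)) (tt N9949 F64842) (tt N9302 F64843) (tt N9388 F64844) (tt N9238 F64845) (tt N10563 (iv F67206)) (tt N9237 (iv D16407)))
theorem Q9951 : ∀ i, i < 9951 → P i := stepQ 9950 Q9950 (allL N9950 (tt N10311 (iv F66277)) (tt N9242 F64846) (tt N10572 D17030) (tt N9239 (iv D16408)) (tt N10190 (iv F65794)) (tt N10108 F65402) (tt N9390 F64847) (tt N9950 F64848) (tt N9830 F64849))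
theorem Q9952 : ∀ i, i < 9952 → P i := stepQ 9951 Q9951 (allL N9951 (tt N9951 F64850) (tt N10563 (iv F67203)) (tt N9243 F64851) (tt N9980 (iv F64974)) (tt N9281 F64852) (tt N9436 F64853) (tt N9241 F64854) (tt N9240 (iv D16409)) (tt N9283 F64855))
theorem Q9953 : ∀ i, i < 9953 → P i := stepQ 9952 Q9952 (allL N9952 (tt N9952 F64856) (tt N10573 D17031) (tt N9242 (iv D16410)) (tt N9245 F64857) (tt N9978 (iv F64963)) (tt N10127 (iv F65488)) (tt N9438 F64858) (tt N9952 F64859) (tt N9946 F64860))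
theorem Q9954 : ∀ i, i < 9954 → P i := stepQ 9953 Q9953 (allL N9953 (tt N9953 F64861) (tt N10482 (iv F66955)) (tt N9955 (iv F64870)) (tt N9243 (iv D16411)) (tt N9954 F64868) (tt N9272 F64862) (tt N9244 F64863) (tt N9276 F64864) (tt N10119 (iv F65451)))
theorem Q9955 : ∀ i, i < 9955 → P i := stepQ 9954 Q9954 (allL N9954 (tt N9954 F64865) (tt N10574 D17032) (tt N9244 (iv D16412)) (tt N10127 (iv F65487)) (tt N9953 (iv F64868)) (tt N9245 F64866) (tt N9955 (iv F64871)) (tt N9325 F64867) (tt N10120 (iv F65456)))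
theorem Q9956 : ∀ i, i < 9956 → P i := stepQ 9955 Q9955 (allL N9955 (tt N9955 F64869) (tt N10484 (iv F66961)) (tt N9953 F64870) (tt N10330 (iv F66381)) (tt N9244 (iv D16413)) (tt N9982 (iv F64984)) (tt N9954 F64871) (tt N9326 F64872) (tt N10121 (iv F65463)))
theorem Q9957 : ∀ i, i < 9957 → P i := stepQ 9956 Q9956 (allL N9956 (tt N10575 D17033) (tt N9245 (iv D16414)) (tt N10485 (iv F66963)) (tt N10573 (iv F67243)) (tt N9969 F64932) (tt N10574 (iv F67248)) (tt N10571 (iv F67238)) (tt N9327 F64873) (tt N10122 (iv F65465)))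
theorem Q9958 : ∀ i, i < 9958 → P i := stepQ 9957 Q9957 (allL N9957 (tt N9255 F64874) (tt N9957 F64875) (tt N10520 (iv F67076)) (tt N9957 F64876) (tt N9249 F64877) (tt N9774 F64878) (tt N9959 (iv F64889)) (tt N10576 D17034) (tt N9246 (iv D16415)))
theorem Q9959 : ∀ i, i < 9959 → P i := stepQ 9958 Q9958 (allL N9958 (tt N9256 F64879) (tt N9958 F64880) (tt N10228 (iv F65977)) (tt N9252 F64881) (tt N9959 (iv F64887)) (tt N9358 F64882) (tt N9249 F64883) (tt N10577 D17035) (tt N9247 (iv D16416)))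
theorem Q9960 : ∀ i, i < 9960 → P i := stepQ 9959 Q9959 (allL N9959 (tt N9257 F64884) (tt N9959 F64885) (tt N10521 (iv F67082)) (tt N9959 F64886) (tt N9958 F64887) (tt N9250 F64888) (tt N9957 F64889) (tt N10578 D17036) (tt N9248 (iv D16417)))
theorem Q9961 : ∀ i, i < 9961 → P i := stepQ 9960 Q9960 (allL N9960 (tt N9258 F64890) (tt N9960 F64891) (tt N10522 (iv F67088)) (tt N10579 D17037) (tt N10576 (iv F67255)) (tt N9251 F64892) (tt N10577 (iv F67260)) (tt N9249 (iv D16418)) (tt N10578 (iv F67267)))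
theorem Q9962 : ∀ i, i < 9962 → P i := stepQ 9961 Q9961 (allL N9961 (tt N9259 F64893) (tt N9961 F64894) (tt N10523 (iv F67091)) (tt N10580 D17038) (tt N9778 F64895) (tt N10578 (iv F67265)) (tt N9361 F64896) (tt N9250 (iv D16419)) (tt N9251 F64897))
theorem Q9963 : ∀ i, i < 9963 → P i := stepQ 9962 Q9962 (allL N9962 (tt N9260 F64898) (tt N9962 F64899) (tt N10581 D17039) (tt N9251 (iv D16420)) (tt N10001 (iv F65078)) (tt N10579 (iv F67270)) (tt N9362 F64900) (tt N9254 F64901) (tt N10580 (iv F67277)))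
theorem Q9964 : ∀ i, i < 9964 → P i := stepQ 9963 Q9963 (allL N9963 (tt N9261 F64902) (tt N9963 F64903) (tt N9291 F64904) (tt N10582 D17040) (tt N9963 F64905) (tt N9363 F64906) (tt N9253 F64907) (tt N9252 (iv D16421)) (tt N9963 F64908))
theorem Q9965 : ∀ i, i < 9965 → P i := stepQ 9964 Q9964 (allL N9964 (tt N9262 F64909) (tt N9964 F64910) (tt N10583 D17041) (tt N9253 (iv D16422)) (tt N10012 (iv F65123)) (tt N9254 F64911) (tt N10582 (iv F67284)) (tt N10579 (iv F67271)) (tt N9964 F64912))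
theorem Q9966 : ∀ i, i < 9966 → P i := stepQ 9965 Q9965 (allL N9965 (tt N9263 F64913) (tt N10584 D17042) (tt N9254 (iv D16423)) (tt N9293 F64914) (tt N10003 (iv F65087)) (tt N10583 (iv F67288)) (tt N9365 F64915) (tt N10581 (iv F67280)) (tt N9965 F64916))
theorem Q9967 : ∀ i, i < 9967 → P i := stepQ 9966 Q9966 (allL N9966 (tt N10576 (iv F67253)) (tt N9266 F64917) (tt N10529 (iv F67109)) (tt N10585 D17043) (tt N9258 F64918) (tt N9919 F64919) (tt N9968 (iv F64927)) (tt N9255 (iv D16424)) (tt N9967 (iv F64923)))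
theorem Q9968 : ∀ i, i < 9968 → P i := stepQ 9967 Q9967 (allL N9967 (tt N10577 (iv F67257)) (tt N9267 F64920) (tt N10530 (iv F67113)) (tt N10586 D17044) (tt N9968 (iv F64925)) (tt N9417 F64921) (tt N9258 F64922) (tt N9256 (iv D16425)) (tt N9966 F64923))
theorem Q9969 : ∀ i, i < 9969 → P i := stepQ 9968 Q9968 (allL N9968 (tt N10578 (iv F67262)) (tt N9268 F64924) (tt N10531 (iv F67118)) (tt N10331 (iv F66386)) (tt N9967 F64925) (tt N9259 F64926) (tt N9966 F64927) (tt N9257 (iv D16426)) (tt N9258 F64928))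
theorem Q9970 : ∀ i, i < 9970 → P i := stepQ 9969 Q9969 (allL N9969 (tt N10579 (iv F67268)) (tt N9269 F64929) (tt N10587 D17045) (tt N9258 (iv D16427)) (tt N9956 (iv F64932)) (tt N9260 F64930) (tt N10586 (iv F67302)) (tt N9262 F64931) (tt N10331 (iv F66390)))
theorem Q9971 : ∀ i, i < 9971 → P i := stepQ 9970 Q9970 (allL N9970 (tt N10580 (iv F67273)) (tt N9270 F64933) (tt N10588 D17046) (tt N9259 (iv D16428)) (tt N10589 D17047) (tt N10331 (iv F66388)) (tt N9420 F64934) (tt N9970 F64935) (tt N9260 F64936))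
theorem Q9972 : ∀ i, i < 9972 → P i := stepQ 9971 Q9971 (allL N9971 (tt N10581 (iv F67278)) (tt N10590 D17048) (tt N9260 (iv D16429)) (tt N10534 (iv F67129)) (tt N10591 D17049) (tt N10587 (iv F67307)) (tt N9421 F64937) (tt N9263 F64938) (tt N10588 (iv F67311)))
theorem Q9973 : ∀ i, i < 9973 → P i := stepQ 9972 Q9972 (allL N9972 (tt N10001 (iv F65076)) (tt N9272 F64939) (tt N10591 (iv F67321)) (tt N9924 F64940) (tt N9260 (iv D16430)) (tt N10482 (iv F66956)) (tt N9422 F64941) (tt N9264 F64942) (tt N10589 (iv F67316)))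
theorem Q9974 : ∀ i, i < 9974 → P i := stepQ 9973 Q9973 (allL N9973 (tt N10582 (iv F67281)) (tt N9273 F64943) (tt N10192 (iv F65800)) (tt N9261 (iv D16431)) (tt N10010 (iv F65112)) (tt N9423 F64944) (tt N9262 F64945) (tt N10586 (iv F67303)) (tt N9973 F64946))
theorem Q9975 : ∀ i, i < 9975 → P i := stepQ 9974 Q9974 (allL N9974 (tt N10583 (iv F67286)) (tt N9995 (iv F65046)) (tt N9262 (iv D16432)) (tt N9294 F64947) (tt N10006 (iv F65096)) (tt N9263 F64948) (tt N10192 (iv F65803)) (tt N10587 (iv F67308)) (tt N9974 F64949))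
theorem Q9976 : ∀ i, i < 9976 → P i := stepQ 9975 Q9975 (allL N9975 (tt N10302 (iv F66238)) (tt N9263 (iv D16433)) (tt N9274 F64950) (tt N9296 F64951) (tt N10592 D17050) (tt N9995 (iv F65049)) (tt N9426 F64952) (tt N10590 (iv F67320)) (tt N9975 F64953))
theorem Q9977 : ∀ i, i < 9977 → P i := stepQ 9976 Q9976 (allL N9976 (tt N10003 (iv F65085)) (tt N10592 (iv F67324)) (tt N9264 F64954) (tt N9993 (iv F65035)) (tt N9263 (iv D16434)) (tt N10593 D17051) (tt N9427 F64955) (tt N10591 (iv F67323)) (tt N9976 F64956))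
theorem Q9978 : ∀ i, i < 9978 → P i := stepQ 9977 Q9977 (allL N9977 (tt N10002 (iv F65080)) (tt N9276 F64957) (tt N10593 (iv F67328)) (tt N9265 F64958) (tt N10011 (iv F65117)) (tt N9264 (iv D16435)) (tt N9315 F64959) (tt N10482 (iv F66958)) (tt N9977 F64960))
theorem Q9979 : ∀ i, i < 9979 → P i := stepQ 9978 Q9978 (allL N9978 (tt N9978 F64961) (tt N10585 (iv F67294)) (tt N9681 F64962) (tt N9266 (iv D16436)) (tt N9952 F64963) (tt N9984 (iv F64992)) (tt N9687 F64964) (tt N9978 F64965) (tt N9979 (iv F64972)))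
theorem Q9980 : ∀ i, i < 9980 → P i := stepQ 9979 Q9979 (allL N9979 (tt N9979 F64966) (tt N10586 (iv F67299)) (tt N9945 F64967) (tt N9267 (iv D16437)) (tt N9946 F64968) (tt N9440 F64969) (tt N9269 F64970) (tt N9273 F64971) (tt N9978 F64972))
theorem Q9981 : ∀ i, i < 9981 → P i := stepQ 9980 Q9980 (allL N9980 (tt N9980 F64973) (tt N10589 (iv F67312)) (tt N10330 (iv F66380)) (tt N9951 F64974) (tt N9270 (iv D16438)) (tt N10119 (iv F65448)) (tt N9445 F64975) (tt N9980 F64976) (tt N9272 F64977))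
theorem Q9982 : ∀ i, i < 9982 → P i := stepQ 9981 Q9981 (allL N9981 (tt N10300 (iv F66231)) (tt N9271 (iv D16439)) (tt N10590 (iv F67317)) (tt N9290 F64978) (tt N10594 D17052) (tt N9805 F64979) (tt N9446 F64980) (tt N9274 F64981) (tt N10219 (iv F65941)))
theorem Q9983 : ∀ i, i < 9983 → P i := stepQ 9982 Q9982 (allL N9982 (tt N9982 F64982) (tt N10594 (iv F67331)) (tt N9272 F64983) (tt N10121 (iv F65460)) (tt N9271 (iv D16440)) (tt N9955 F64984) (tt N9447 F64985) (tt N9275 F64986) (tt N10330 (iv F66385)))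
theorem Q9984 : ∀ i, i < 9984 → P i := stepQ 9983 Q9983 (allL N9983 (tt N10303 (iv F66243)) (tt N9275 F64987) (tt N10592 (iv F67325)) (tt N9983 F64988) (tt N9274 (iv D16441)) (tt N10005 (iv F65093)) (tt N9450 F64989) (tt N10594 (iv F67334)) (tt N9983 F64990))
theorem Q9985 : ∀ i, i < 9985 → P i := stepQ 9984 Q9984 (allL N9984 (tt N9984 F64991) (tt N10559 (iv F67178)) (tt N10124 (iv F65473)) (tt N9277 (iv D16442)) (tt N10123 F65471) (tt N9978 F64992) (tt N9441 F64993) (tt N9984 F64994) (tt N9440 F64995))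
theorem Q9986 : ∀ i, i < 9986 → P i := stepQ 9985 Q9985 (allL N9985 (tt N9985 F64996) (tt N10560 (iv F67183)) (tt N9944 F64997) (tt N9278 (iv D16443)) (tt N9680 (iv F65002)) (tt N9289 F64998) (tt N9280 F64999) (tt N9284 F65000) (tt N9439 F65001))
theorem Q9987 : ∀ i, i < 9987 → P i := stepQ 9986 Q9986 (allL N9986 (tt N9986 F65003) (tt N10561 (iv F67190)) (tt N9988 (iv F65015)) (tt N9279 (iv D16444)) (tt N9987 F65013) (tt N9281 F65004) (tt N9439 F65005) (tt N9328 F65006) (tt N9280 F65007))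
theorem Q9988 : ∀ i, i < 9988 → P i := stepQ 9987 Q9987 (allL N9987 (tt N9987 F65008) (tt N10188 (iv F65784)) (tt N9280 (iv D16445)) (tt N9442 F65009) (tt N9986 (iv F65013)) (tt N9282 F65010) (tt N9944 F65011) (tt N9285 F65012) (tt N9988 (iv F65019)))
theorem Q9989 : ∀ i, i < 9989 → P i := stepQ 9988 Q9988 (allL N9988 (tt N9988 F65014) (tt N10562 (iv F67197)) (tt N9986 F65015) (tt N10123 (iv F65467)) (tt N9280 (iv D16446)) (tt N9685 F65016) (tt N9680 F65017) (tt N9286 F65018) (tt N9987 F65019))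
theorem Q9990 : ∀ i, i < 9990 → P i := stepQ 9989 Q9989 (allL N9989 (tt N10299 (iv F66226)) (tt N9282 (iv D16447)) (tt N10365 (iv F66533)) (tt N9446 F65020) (tt N10071 (iv F65312)) (tt N10188 (iv F65786)) (tt N9290 F65021) (tt N9287 F65022) (tt N10218 (iv F65935)))
theorem Q9991 : ∀ i, i < 9991 → P i := stepQ 9990 Q9990 (allL N9990 (tt N9294 F65023) (tt N10306 (iv F66259)) (tt N9292 (iv D16448)) (tt N10583 (iv F67287)) (tt N10305 F66257) (tt N9293 F65024) (tt N10193 (iv F65809)) (tt N10569 (iv F67231)) (tt N9990 F65025))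
theorem Q9992 : ∀ i, i < 9992 → P i := stepQ 9991 Q9991 (allL N9991 (tt N10305 (iv F66252)) (tt N9293 (iv D16449)) (tt N9295 F65026) (tt N10584 (iv F67291)) (tt N9294 F65027) (tt N10306 (iv F66261)) (tt N9368 F65028) (tt N10570 (iv F67235)) (tt N9991 F65029))
theorem Q9993 : ∀ i, i < 9993 → P i := stepQ 9992 Q9992 (allL N9992 (tt N9315 F65030) (tt N9992 F65031) (tt N10595 D17053) (tt N9297 (iv D16450)) (tt N10596 D17054) (tt N9298 F65032) (tt N10002 (iv F65083)) (tt N10359 (iv F66510)) (tt N9992 F65033))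
theorem Q9994 : ∀ i, i < 9994 → P i := stepQ 9993 Q9993 (allL N9993 (tt N9316 F65034) (tt N10597 D17055) (tt N9298 (iv D16451)) (tt N9976 F65035) (tt N9640 F65036) (tt N10595 (iv F67337)) (tt N9654 F65037) (tt N10360 (iv F66514)) (tt N9993 F65038))
theorem Q9995 : ∀ i, i < 9995 → P i := stepQ 9994 Q9994 (allL N9994 (tt N9319 F65039) (tt N9328 F65040) (tt N10370 (iv F66550)) (tt N9303 F65041) (tt N9511 F65042) (tt N9302 F65043) (tt N9432 F65044) (tt N10561 (iv F67194)) (tt N9301 (iv D16452)))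
theorem Q9996 : ∀ i, i < 9996 → P i := stepQ 9995 Q9995 (allL N9995 (tt N9640 F65045) (tt N9974 F65046) (tt N9306 (iv D16453)) (tt N9510 F65047) (tt N9316 F65048) (tt N9975 F65049) (tt N9516 F65050) (tt N10439 (iv F66814)) (tt N9995 F65051))
theorem Q9997 : ∀ i, i < 9997 → P i := stepQ 9996 Q9996 (allL N9996 (tt N9654 F65052) (tt N10598 D17056) (tt N9307 (iv D16454)) (tt N10053 (iv F65257)) (tt N9516 F65053) (tt N9427 F65054) (tt N9316 F65055) (tt N10462 (iv F66883)) (tt N9996 F65056))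
theorem Q9998 : ∀ i, i < 9998 → P i := stepQ 9997 Q9997 (allL N9997 (tt N9560 F65057) (tt N9997 F65058) (tt N10472 (iv F66928)) (tt N9997 F65059) (tt N9310 F65060) (tt N9317 F65061) (tt N9458 F65062) (tt N10599 D17057) (tt N9308 (iv D16455)))
theorem Q9999 : ∀ i, i < 9999 → P i := stepQ 9998 Q9998 (allL N9998 (tt N9388 F65063) (tt N9998 F65064) (tt N10473 (iv F66935)) (tt N9998 F65065) (tt N9636 F65066) (tt N9311 F65067) (tt N9335 F65068) (tt N10600 D17058) (tt N9309 (iv D16456)))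
theorem Q10000 : ∀ i, i < 10000 → P i := stepQ 9999 Q9999 (allL N9999 (tt N9849 F65069) (tt N9999 F65070) (tt N10474 (iv F66940)) (tt N10601 D17059) (tt N10599 (iv F67356)) (tt N9312 F65071) (tt N9719 F65072) (tt N9310 (iv D16457)) (tt N10600 (iv F67365)))
theorem Q10001 : ∀ i, i < 10001 → P i := stepQ 10000 Q10000 (allL N10000 (tt N10563 (iv F67202)) (tt N10000 F65073) (tt N10475 (iv F66943)) (tt N10602 D17060) (tt N9321 F65074) (tt N10600 (iv F67363)) (tt N10425 (iv F66755)) (tt N9311 (iv D16458)) (tt N9312 F65075))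
theorem Q10002 : ∀ i, i < 10002 → P i := stepQ 10001 Q10001 (allL N10001 (tt N9972 F65076) (tt N10001 F65077) (tt N10603 D17061) (tt N9312 (iv D16459)) (tt N9962 F65078) (tt N10601 (iv F67368)) (tt N10049 (iv F65240)) (tt N9314 F65079) (tt N10602 (iv F67375)))
theorem Q10003 : ∀ i, i < 10003 → P i := stepQ 10002 Q10002 (allL N10002 (tt N9977 F65080) (tt N10002 F65081) (tt N10604 D17062) (tt N9313 (iv D16460)) (tt N10605 D17063) (tt N9314 F65082) (tt N9992 F65083) (tt N10601 (iv F67370)) (tt N10002 F65084))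
theorem Q10004 : ∀ i, i < 10004 → P i := stepQ 10003 Q10003 (allL N10003 (tt N9976 F65085) (tt N10606 D17064) (tt N9314 (iv D16461)) (tt N9316 F65086) (tt N9965 F65087) (tt N10604 (iv F67381)) (tt N10053 (iv F65259)) (tt N10603 (iv F67378)) (tt N10003 F65088))
theorem Q10005 : ∀ i, i < 10005 → P i := stepQ 10004 Q10004 (allL N10004 (tt N10595 (iv F67335)) (tt N10607 D17065) (tt N9315 (iv D16462)) (tt N10604 (iv F67380)) (tt N10608 D17066) (tt N9316 F65089) (tt N10593 (iv F67329)) (tt N10483 (iv F66960)) (tt N10004 F65090))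
theorem Q10006 : ∀ i, i < 10006 → P i := stepQ 10005 Q10005 (allL N10005 (tt N10596 (iv F67339)) (tt N9326 F65091) (tt N10608 (iv F67399)) (tt N10005 F65092) (tt N9315 (iv D16463)) (tt N9983 F65093) (tt N10011 (iv F65119)) (tt N10484 (iv F66962)) (tt N10005 F65094))
theorem Q10007 : ∀ i, i < 10007 → P i := stepQ 10006 Q10006 (allL N10006 (tt N10609 D17067) (tt N9316 (iv D16464)) (tt N9327 F65095) (tt N10606 (iv F67391)) (tt N9974 F65096) (tt N10607 (iv F67395)) (tt N10598 (iv F67352)) (tt N10485 (iv F66964)) (tt N10006 F65097))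
theorem Q10008 : ∀ i, i < 10008 → P i := stepQ 10007 Q10007 (allL N10007 (tt N10562 (iv F67196)) (tt N10007 F65098) (tt N10500 (iv F67016)) (tt N10610 D17068) (tt N9320 F65099) (tt N10599 (iv F67357)) (tt N9646 F65100) (tt N9317 (iv D16465)) (tt N9645 F65101))
theorem Q10009 : ∀ i, i < 10009 → P i := stepQ 10008 Q10008 (allL N10008 (tt N10560 (iv F67182)) (tt N10008 F65102) (tt N10501 (iv F67020)) (tt N10420 (iv F66723)) (tt N9646 F65103) (tt N10422 (iv F66738)) (tt N9320 F65104) (tt N9318 (iv D16466)) (tt N9644 F65105))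
theorem Q10010 : ∀ i, i < 10010 → P i := stepQ 10009 Q10009 (allL N10009 (tt N10561 (iv F67189)) (tt N10009 F65106) (tt N10502 (iv F67024)) (tt N10421 (iv F66730)) (tt N9645 F65107) (tt N9321 F65108) (tt N9644 F65109) (tt N9319 (iv D16467)) (tt N9320 F65110))
theorem Q10011 : ∀ i, i < 10011 → P i := stepQ 10010 Q10010 (allL N10010 (tt N10611 D17069) (tt N9324 (iv D16468)) (tt N10598 (iv F67349)) (tt N10010 F65111) (tt N9973 F65112) (tt N9450 F65113) (tt N9327 F65114) (tt N10571 (iv F67239)) (tt N10010 F65115))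
theorem Q10012 : ∀ i, i < 10012 → P i := stepQ 10011 Q10011 (allL N10011 (tt N10605 (iv F67384)) (tt N9325 (iv D16469)) (tt N10607 (iv F67394)) (tt N10011 F65116) (tt N9977 F65117) (tt N9327 F65118) (tt N10005 F65119) (tt N10574 (iv F67250)) (tt N10011 F65120))
theorem Q10013 : ∀ i, i < 10013 → P i := stepQ 10012 Q10012 (allL N10012 (tt N9327 (iv D16470)) (tt N10012 F65121) (tt N10609 (iv F67403)) (tt N10012 F65122) (tt N9964 F65123) (tt N10605 (iv F67387)) (tt N10611 (iv F67414)) (tt N10575 (iv F67252)) (tt N10012 F65124))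
theorem Q10014 : ∀ i, i < 10014 → P i := stepQ 10013 Q10013 (allL N10013 (tt N10064 (iv F65286)) (tt N9333 F65125) (tt N10013 F65126) (tt N10016 (iv F65139)) (tt N9330 F65127) (tt N10015 (iv F65135)) (tt N10349 (iv F66474)) (tt N10612 D17070) (tt N9329 (iv D16471)))
theorem Q10015 : ∀ i, i < 10015 → P i := stepQ 10014 Q10014 (allL N10014 (tt N10346 (iv F66457)) (tt N9334 F65128) (tt N10014 F65129) (tt N10613 D17071) (tt N10612 (iv F67418)) (tt N10247 (iv F66048)) (tt N10350 (iv F66478)) (tt N9330 (iv D16472)) (tt N9713 F65130))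
theorem Q10016 : ∀ i, i < 10016 → P i := stepQ 10015 Q10015 (allL N10015 (tt N9383 F65131) (tt N10016 (iv F65137)) (tt N10015 F65132) (tt N9333 F65133) (tt N9339 F65134) (tt N10013 F65135) (tt N10463 (iv F66888)) (tt N10614 D17072) (tt N9331 (iv D16473)))
theorem Q10017 : ∀ i, i < 10017 → P i := stepQ 10016 Q10016 (allL N10016 (tt N9385 F65136) (tt N10015 F65137) (tt N9335 F65138) (tt N10013 F65139) (tt N9598 F65140) (tt N9333 F65141) (tt N10473 (iv F66939)) (tt N10615 D17073) (tt N9332 (iv D16474)))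
theorem Q10018 : ∀ i, i < 10018 → P i := stepQ 10017 Q10017 (allL N10017 (tt N9386 F65142) (tt N10612 (iv F67416)) (tt N9336 F65143) (tt N10616 D17074) (tt N9334 F65144) (tt N10615 (iv F67431)) (tt N10464 (iv F66892)) (tt N9333 (iv D16475)) (tt N9717 F65145))
theorem Q10019 : ∀ i, i < 10019 → P i := stepQ 10018 Q10018 (allL N10018 (tt N9387 F65146) (tt N10613 (iv F67420)) (tt N10137 (iv F65535)) (tt N9334 (iv D16476)) (tt N10617 D17075) (tt N10332 (iv F66393)) (tt N10465 (iv F66896)) (tt N9341 F65147) (tt N9718 F65148))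
theorem Q10020 : ∀ i, i < 10020 → P i := stepQ 10019 Q10019 (allL N10019 (tt N9389 F65149) (tt N10019 F65150) (tt N10615 (iv F67429)) (tt N10618 D17076) (tt N9637 F65151) (tt N9336 F65152) (tt N10600 (iv F67364)) (tt N9335 (iv D16477)) (tt N9719 F65153))
theorem Q10021 : ∀ i, i < 10021 → P i := stepQ 10020 Q10020 (allL N10020 (tt N9390 F65154) (tt N10020 F65155) (tt N10619 D17077) (tt N9336 (iv D16478)) (tt N10139 (iv F65545)) (tt N10618 (iv F67440)) (tt N10311 (iv F66280)) (tt N10020 F65156) (tt N9720 F65157))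
theorem Q10022 : ∀ i, i < 10022 → P i := stepQ 10021 Q10021 (allL N10021 (tt N10362 (iv F66519)) (tt N9341 F65158) (tt N10620 D17078) (tt N9337 (iv D16479)) (tt N10621 D17079) (tt N10248 (iv F66052)) (tt N10364 (iv F66530)) (tt N10613 (iv F67421)) (tt N9346 F65159))
theorem Q10023 : ∀ i, i < 10023 → P i := stepQ 10022 Q10022 (allL N10022 (tt N9394 F65160) (tt N10135 (iv F65524)) (tt N10022 F65161) (tt N9350 F65162) (tt N10351 (iv F66483)) (tt N10132 (iv F65511)) (tt N10487 (iv F66972)) (tt N10622 D17080) (tt N9338 (iv D16480)))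
theorem Q10024 : ∀ i, i < 10024 → P i := stepQ 10023 Q10023 (allL N10023 (tt N9395 F65163) (tt N10256 (iv F66092)) (tt N10023 F65164) (tt N10623 D17081) (tt N10614 (iv F67425)) (tt N10252 (iv F66074)) (tt N10488 (iv F66975)) (tt N9339 (iv D16481)) (tt N10622 (iv F67452)))
theorem Q10025 : ∀ i, i < 10025 → P i := stepQ 10024 Q10024 (allL N10024 (tt N9397 F65165) (tt N10259 (iv F66105)) (tt N10624 D17082) (tt N9340 (iv D16482)) (tt N10625 D17083) (tt N10253 (iv F66078)) (tt N10489 (iv F66977)) (tt N10623 (iv F67454)) (tt N9353 F65166))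
theorem Q10026 : ∀ i, i < 10026 → P i := stepQ 10025 Q10025 (allL N10025 (tt N9398 F65167) (tt N10621 (iv F67448)) (tt N10155 (iv F65636)) (tt N10625 (iv F67459)) (tt N9341 (iv D16483)) (tt N10626 D17084) (tt N10490 (iv F66980)) (tt N10617 (iv F67436)) (tt N9354 F65168))
theorem Q10027 : ∀ i, i < 10027 → P i := stepQ 10026 Q10026 (allL N10026 (tt N9400 F65169) (tt N10627 D17085) (tt N9342 (iv D16484)) (tt N10624 (iv F67456)) (tt N10157 (iv F65646)) (tt N10321 (iv F66330)) (tt N10566 (iv F67216)) (tt N10026 F65170) (tt N9356 F65171))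
theorem Q10028 : ∀ i, i < 10028 → P i := stepQ 10027 Q10027 (allL N10027 (tt N10212 (iv F65912)) (tt N9350 F65172) (tt N10027 F65173) (tt N10135 (iv F65526)) (tt N9756 F65174) (tt N10134 (iv F65521)) (tt N10391 (iv F66627)) (tt N10628 D17086) (tt N9343 (iv D16485)))
theorem Q10029 : ∀ i, i < 10029 → P i := stepQ 10028 Q10028 (allL N10028 (tt N10381 (iv F66587)) (tt N9351 F65175) (tt N10028 F65176) (tt N10629 D17087) (tt N9757 F65177) (tt N10223 (iv F65957)) (tt N10392 (iv F66632)) (tt N9344 (iv D16486)) (tt N10628 (iv F67469)))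
theorem Q10030 : ∀ i, i < 10030 → P i := stepQ 10029 Q10029 (allL N10029 (tt N10382 (iv F66591)) (tt N9353 F65178) (tt N10630 D17088) (tt N9345 (iv D16487)) (tt N10631 D17089) (tt N10224 (iv F65960)) (tt N10393 (iv F66635)) (tt N10629 (iv F67471)) (tt N10259 (iv F66107)))
theorem Q10031 : ∀ i, i < 10031 → P i := stepQ 10030 Q10030 (allL N10030 (tt N10383 (iv F66595)) (tt N10174 (iv F65732)) (tt N9346 (iv D16488)) (tt N9373 F65179) (tt N10632 D17090) (tt N10337 (iv F66418)) (tt N10394 (iv F66638)) (tt N9760 F65180) (tt N10620 (iv F67447)))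
theorem Q10032 : ∀ i, i < 10032 → P i := stepQ 10031 Q10031 (allL N10031 (tt N10384 (iv F66598)) (tt N9354 F65181) (tt N10632 (iv F67475)) (tt N10631 (iv F67474)) (tt N9346 (iv D16489)) (tt N10633 D17091) (tt N10395 (iv F66642)) (tt N9761 F65182) (tt N10621 (iv F67449)))
theorem Q10033 : ∀ i, i < 10033 → P i := stepQ 10032 Q10032 (allL N10032 (tt N9401 F65183) (tt N10151 (iv F65619)) (tt N9357 F65184) (tt N9934 F65185) (tt N9349 F65186) (tt N9762 F65187) (tt N10209 (iv F65903)) (tt N10634 D17092) (tt N9347 (iv D16490)))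
theorem Q10034 : ∀ i, i < 10034 → P i := stepQ 10033 Q10033 (allL N10033 (tt N9403 F65188) (tt N10134 (iv F65517)) (tt N9359 F65189) (tt N10132 (iv F65509)) (tt N10147 (iv F65599)) (tt N9350 F65190) (tt N10229 (iv F65986)) (tt N10635 D17093) (tt N9348 (iv D16491)))
theorem Q10035 : ∀ i, i < 10035 → P i := stepQ 10034 Q10034 (allL N10034 (tt N9404 F65191) (tt N10223 (iv F65955)) (tt N9360 F65192) (tt N10636 D17094) (tt N10634 (iv F67481)) (tt N9351 F65193) (tt N10230 (iv F65990)) (tt N9349 (iv D16492)) (tt N10635 (iv F67486)))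
theorem Q10036 : ∀ i, i < 10036 → P i := stepQ 10035 Q10035 (allL N10035 (tt N9405 F65194) (tt N10628 (iv F67466)) (tt N9361 F65195) (tt N10637 D17095) (tt N9766 F65196) (tt N10635 (iv F67485)) (tt N10523 (iv F67093)) (tt N9350 (iv D16493)) (tt N9351 F65197))
theorem Q10037 : ∀ i, i < 10037 → P i := stepQ 10036 Q10036 (allL N10036 (tt N9406 F65198) (tt N10629 (iv F67470)) (tt N10638 D17096) (tt N9351 (iv D16494)) (tt N10639 D17097) (tt N10636 (iv F67488)) (tt N10524 (iv F67096)) (tt N9353 F65199) (tt N10637 (iv F67491)))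
theorem Q10038 : ∀ i, i < 10038 → P i := stepQ 10037 Q10037 (allL N10037 (tt N9408 F65200) (tt N10224 (iv F65959)) (tt N10640 D17098) (tt N9352 (iv D16495)) (tt N10641 D17099) (tt N9353 F65201) (tt N10232 (iv F66000)) (tt N10636 (iv F67489)) (tt N10253 (iv F66080)))
theorem Q10039 : ∀ i, i < 10039 → P i := stepQ 10038 Q10038 (allL N10038 (tt N9409 F65202) (tt N10642 D17100) (tt N9353 (iv D16496)) (tt N9356 F65203) (tt N10643 D17101) (tt N10640 (iv F67500)) (tt N10526 (iv F67102)) (tt N10638 (iv F67494)) (tt N10624 (iv F67457)))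
theorem Q10040 : ∀ i, i < 10040 → P i := stepQ 10039 Q10039 (allL N10039 (tt N9410 F65204) (tt N10631 (iv F67473)) (tt N10643 (iv F67504)) (tt N9354 F65205) (tt N9353 (iv D16497)) (tt N10644 D17102) (tt N10527 (iv F67105)) (tt N10639 (iv F67497)) (tt N10625 (iv F67460)))
theorem Q10041 : ∀ i, i < 10041 → P i := stepQ 10040 Q10040 (allL N10040 (tt N9411 F65206) (tt N10633 (iv F67477)) (tt N10185 (iv F65771)) (tt N10644 (iv F67506)) (tt N10341 (iv F66434)) (tt N9354 (iv D16498)) (tt N10645 D17103) (tt N9772 F65207) (tt N10626 (iv F67462)))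
theorem Q10042 : ∀ i, i < 10042 → P i := stepQ 10041 Q10041 (allL N10041 (tt N9413 F65208) (tt N10430 (iv F66779)) (tt N9355 (iv D16499)) (tt N10640 (iv F67499)) (tt N10342 (iv F66438)) (tt N9356 F65209) (tt N10318 (iv F66311)) (tt N9367 F65210) (tt N10321 (iv F66333)))
theorem Q10043 : ∀ i, i < 10043 → P i := stepQ 10042 Q10042 (allL N10042 (tt N10646 D17104) (tt N9356 (iv D16500)) (tt N9378 F65211) (tt N10642 (iv F67502)) (tt N10187 (iv F65779)) (tt N10430 (iv F66781)) (tt N10570 (iv F67234)) (tt N9368 F65212) (tt N10627 (iv F67465)))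
theorem Q10044 : ∀ i, i < 10044 → P i := stepQ 10043 Q10043 (allL N10043 (tt N9416 F65213) (tt N10043 F65214) (tt N10634 (iv F67480)) (tt N9644 F65215) (tt N9360 F65216) (tt N9779 F65217) (tt N10421 (iv F66733)) (tt N9357 (iv D16501)) (tt N10420 (iv F66727)))
theorem Q10045 : ∀ i, i < 10045 → P i := stepQ 10044 Q10044 (allL N10044 (tt N9417 F65218) (tt N10044 F65219) (tt N10230 (iv F65989)) (tt N10647 D17105) (tt N10421 (iv F66731)) (tt N10577 (iv F67259)) (tt N9360 F65220) (tt N9358 (iv D16502)) (tt N10419 (iv F66720)))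
theorem Q10046 : ∀ i, i < 10046 → P i := stepQ 10045 Q10045 (allL N10045 (tt N9418 F65221) (tt N10045 F65222) (tt N10635 (iv F67484)) (tt N10648 D17106) (tt N10420 (iv F66724)) (tt N9361 F65223) (tt N10419 (iv F66719)) (tt N9359 (iv D16503)) (tt N9360 F65224))
theorem Q10047 : ∀ i, i < 10047 → P i := stepQ 10046 Q10046 (allL N10046 (tt N9419 F65225) (tt N10046 F65226) (tt N10649 D17107) (tt N9360 (iv D16504)) (tt N9647 F65227) (tt N9362 F65228) (tt N10647 (iv F67516)) (tt N9364 F65229) (tt N10648 (iv F67523)))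
theorem Q10048 : ∀ i, i < 10048 → P i := stepQ 10047 Q10047 (allL N10047 (tt N9420 F65230) (tt N10047 F65231) (tt N10650 D17108) (tt N9361 (iv D16505)) (tt N10651 D17109) (tt N10648 (iv F67521)) (tt N10580 (iv F67275)) (tt N10047 F65232) (tt N9362 F65233))
theorem Q10049 : ∀ i, i < 10049 → P i := stepQ 10048 Q10048 (allL N10048 (tt N9421 F65234) (tt N10652 D17110) (tt N9362 (iv D16506)) (tt N10638 (iv F67493)) (tt N10653 D17111) (tt N10649 (iv F67526)) (tt N10581 (iv F67279)) (tt N9365 F65235) (tt N10650 (iv F67530)))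
theorem Q10050 : ∀ i, i < 10050 → P i := stepQ 10049 Q10049 (allL N10049 (tt N9422 F65236) (tt N10049 F65237) (tt N10653 (iv F67541)) (tt N9785 F65238) (tt N9362 (iv D16507)) (tt N9650 F65239) (tt N10001 F65240) (tt N9366 F65241) (tt N10651 (iv F67537)))
theorem Q10051 : ∀ i, i < 10051 → P i := stepQ 10050 Q10050 (allL N10050 (tt N9423 F65242) (tt N10050 F65243) (tt N10344 (iv F66449)) (tt N9363 (iv D16508)) (tt N9651 F65244) (tt N10582 (iv F67283)) (tt N9364 F65245) (tt N10647 (iv F67517)) (tt N10050 F65246))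
theorem Q10052 : ∀ i, i < 10052 → P i := stepQ 10051 Q10051 (allL N10051 (tt N9424 F65247) (tt N10434 (iv F66793)) (tt N9364 (iv D16509)) (tt N9367 F65248) (tt N9652 F65249) (tt N9365 F65250) (tt N10344 (iv F66451)) (tt N10649 (iv F67527)) (tt N10051 F65251))
theorem Q10053 : ∀ i, i < 10053 → P i := stepQ 10052 Q10052 (allL N10052 (tt N10654 D17112) (tt N9365 (iv D16510)) (tt N10052 F65252) (tt N9368 F65253) (tt N10655 D17113) (tt N10434 (iv F66796)) (tt N10584 (iv F67292)) (tt N10652 (iv F67539)) (tt N10052 F65254))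
theorem Q10054 : ∀ i, i < 10054 → P i := stepQ 10053 Q10053 (allL N10053 (tt N9427 F65255) (tt N10655 (iv F67550)) (tt N9366 F65256) (tt N9996 F65257) (tt N9365 (iv D16511)) (tt N9654 F65258) (tt N10003 F65259) (tt N10653 (iv F67544)) (tt N10053 F65260))
theorem Q10055 : ∀ i, i < 10055 → P i := stepQ 10054 Q10054 (allL N10054 (tt N9368 (iv D16512)) (tt N9431 F65261) (tt N9379 F65262) (tt N10654 (iv F67547)) (tt N10193 (iv F65807)) (tt N9380 F65263) (tt N10305 (iv F66255)) (tt N10646 (iv F67512)) (tt N10054 F65264))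
theorem Q10056 : ∀ i, i < 10056 → P i := stepQ 10055 Q10055 (allL N10055 (tt N10427 (iv F66764)) (tt N10196 (iv F65825)) (tt N9369 (iv D16513)) (tt N10620 (iv F67446)) (tt N10656 D17114) (tt N10250 (iv F66060)) (tt N10428 (iv F66770)) (tt N10055 F65265) (tt N9373 F65266))
theorem Q10057 : ∀ i, i < 10057 → P i := stepQ 10056 Q10056 (allL N10056 (tt N10322 (iv F66334)) (tt N9370 F65267) (tt N10656 (iv F67556)) (tt N10264 (iv F66120)) (tt N9369 (iv D16514)) (tt N10327 (iv F66364)) (tt N10319 (iv F66318)) (tt N10056 F65268) (tt N9374 F65269))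
theorem Q10058 : ∀ i, i < 10058 → P i := stepQ 10057 Q10057 (allL N10057 (tt N10327 (iv F66361)) (tt N9371 (iv D16515)) (tt N10627 (iv F67463)) (tt N10323 (iv F66342)) (tt N10198 (iv F65838)) (tt N10322 (iv F66337)) (tt N10568 (iv F67226)) (tt N10057 F65270) (tt N9378 F65271))
theorem Q10059 : ∀ i, i < 10059 → P i := stepQ 10058 Q10058 (allL N10058 (tt N10429 (iv F66773)) (tt N10657 D17115) (tt N9372 (iv D16516)) (tt N10630 (iv F67472)) (tt N10658 D17116) (tt N10226 (iv F65967)) (tt N10431 (iv F66785)) (tt N10058 F65272) (tt N10263 (iv F66117)))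
theorem Q10060 : ∀ i, i < 10060 → P i := stepQ 10059 Q10059 (allL N10059 (tt N10317 (iv F66301)) (tt N9376 F65273) (tt N10658 (iv F67561)) (tt N9374 F65274) (tt N9372 (iv D16517)) (tt N10568 (iv F67225)) (tt N10320 (iv F66325)) (tt N10059 F65275) (tt N10264 (iv F66124)))
theorem Q10061 : ∀ i, i < 10061 → P i := stepQ 10060 Q10060 (allL N10060 (tt N10430 (iv F66778)) (tt N10201 (iv F65854)) (tt N9374 F65276) (tt N10659 D17117) (tt N9373 (iv D16518)) (tt N10646 (iv F67511)) (tt N10297 (iv F66219)) (tt N9380 F65277) (tt N10656 (iv F67558)))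
theorem Q10062 : ∀ i, i < 10062 → P i := stepQ 10061 Q10061 (allL N10061 (tt N9378 F65278) (tt N9377 F65279) (tt N10646 (iv F67510)) (tt N10568 (iv F67224)) (tt N10202 (iv F65861)) (tt N9374 (iv D16519)) (tt N10323 (iv F66345)) (tt N9379 F65280) (tt N10327 (iv F66367)))
theorem Q10063 : ∀ i, i < 10063 → P i := stepQ 10062 Q10062 (allL N10062 (tt N10568 (iv F67222)) (tt N9375 (iv D16520)) (tt N10657 (iv F67559)) (tt N9378 F65281) (tt N10325 (iv F66354)) (tt N10317 (iv F66304)) (tt N10327 (iv F66365)) (tt N10062 F65282) (tt N10323 (iv F66347)))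
theorem Q10064 : ∀ i, i < 10064 → P i := stepQ 10063 Q10063 (allL N10063 (tt N10434 (iv F66792)) (tt N10203 (iv F65867)) (tt N10063 F65283) (tt N9380 (iv D16521)) (tt N9801 F65284) (tt N10654 (iv F67548)) (tt N10314 (iv F66290)) (tt N10660 D17118) (tt N10063 F65285))
theorem Q10065 : ∀ i, i < 10065 → P i := stepQ 10064 Q10064 (allL N10064 (tt N10013 F65286) (tt N9706 F65287) (tt N10064 F65288) (tt N9385 F65289) (tt N9705 F65290) (tt N9383 F65291) (tt N9712 F65292) (tt N10661 D17119) (tt N9381 (iv D16522)))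
theorem Q10066 : ∀ i, i < 10066 → P i := stepQ 10065 Q10065 (allL N10065 (tt N10351 (iv F66480)) (tt N10459 (iv F66869)) (tt N10065 F65293) (tt N9843 F65294) (tt N9394 F65295) (tt N10349 (iv F66473)) (tt N10467 (iv F66910)) (tt N10662 D17120) (tt N9382 (iv D16523)))
theorem Q10067 : ∀ i, i < 10067 → P i := stepQ 10066 Q10066 (allL N10066 (tt N10614 (iv F67423)) (tt N10426 (iv F66759)) (tt N10066 F65296) (tt N10663 D17121) (tt N9395 F65297) (tt N10661 (iv F67569)) (tt N10468 (iv F66914)) (tt N9383 (iv D16524)) (tt N10662 (iv F67573)))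
theorem Q10068 : ∀ i, i < 10068 → P i := stepQ 10067 Q10067 (allL N10067 (tt N10473 (iv F66933)) (tt N9715 F65298) (tt N9388 F65299) (tt N9712 F65300) (tt N9725 F65301) (tt N10354 (iv F66495)) (tt N9385 F65302) (tt N10664 D17122) (tt N9384 (iv D16525)))
theorem Q10069 : ∀ i, i < 10069 → P i := stepQ 10068 Q10068 (allL N10068 (tt N10615 (iv F67427)) (tt N9933 F65303) (tt N9389 F65304) (tt N10665 D17123) (tt N9932 F65305) (tt N9386 F65306) (tt N10664 (iv F67578)) (tt N9385 (iv D16526)) (tt N9846 F65307))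
theorem Q10070 : ∀ i, i < 10070 → P i := stepQ 10069 Q10069 (allL N10069 (tt N10616 (iv F67433)) (tt N10460 (iv F66874)) (tt N10666 D17124) (tt N9386 (iv D16527)) (tt N10667 D17125) (tt N10665 (iv F67581)) (tt N10470 (iv F66921)) (tt N10663 (iv F67574)) (tt N9847 F65308))
theorem Q10071 : ∀ i, i < 10071 → P i := stepQ 10070 Q10070 (allL N10070 (tt N10617 (iv F67435)) (tt N10461 (iv F66876)) (tt N10217 (iv F65930)) (tt N10667 (iv F67585)) (tt N9387 (iv D16528)) (tt N10668 D17126) (tt N10471 (iv F66924)) (tt N9398 F65309) (tt N9848 F65310))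
theorem Q10072 : ∀ i, i < 10072 → P i := stepQ 10071 Q10071 (allL N10071 (tt N10600 (iv F67360)) (tt N9436 F65311) (tt N10664 (iv F67576)) (tt N10669 D17127) (tt N9989 F65312) (tt N10563 (iv F67204)) (tt N9389 F65313) (tt N9388 (iv D16529)) (tt N9849 F65314))
theorem Q10073 : ∀ i, i < 10073 → P i := stepQ 10072 Q10072 (allL N10072 (tt N10618 (iv F67438)) (tt N9437 F65315) (tt N10670 D17128) (tt N9389 (iv D16530)) (tt N10671 D17129) (tt N9390 F65316) (tt N10669 (iv F67591)) (tt N10072 F65317) (tt N9850 F65318))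
theorem Q10074 : ∀ i, i < 10074 → P i := stepQ 10073 Q10073 (allL N10073 (tt N10619 (iv F67443)) (tt N10672 D17130) (tt N9390 (iv D16531)) (tt N10666 (iv F67583)) (tt N10220 (iv F65942)) (tt N10670 (iv F67594)) (tt N10572 (iv F67240)) (tt N10073 F65319) (tt N9851 F65320))
theorem Q10075 : ∀ i, i < 10075 → P i := stepQ 10074 Q10074 (allL N10074 (tt N9589 F65321) (tt N9703 F65322) (tt N10074 F65323) (tt N9480 F65324) (tt N9393 F65325) (tt N9705 F65326) (tt N9736 F65327) (tt N10673 D17131) (tt N9391 (iv D16532)))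
theorem Q10076 : ∀ i, i < 10076 → P i := stepQ 10075 Q10075 (allL N10075 (tt N10132 (iv F65506)) (tt N10207 (iv F65887)) (tt N10075 F65328) (tt N9403 F65329) (tt N10131 (iv F65503)) (tt N9394 F65330) (tt N10267 (iv F66140)) (tt N10674 D17132) (tt N9392 (iv D16533)))
theorem Q10077 : ∀ i, i < 10077 → P i := stepQ 10076 Q10076 (allL N10076 (tt N10252 (iv F66070)) (tt N10423 F66746) (tt N10076 F65331) (tt N10675 D17133) (tt N10673 (iv F67607)) (tt N9395 F65332) (tt N10268 (iv F66143)) (tt N9393 (iv D16534)) (tt N10674 (iv F67612)))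
theorem Q10078 : ∀ i, i < 10078 → P i := stepQ 10077 Q10077 (allL N10077 (tt N10622 (iv F67450)) (tt N10424 F66751) (tt N10077 F65333) (tt N10676 D17134) (tt N10662 (iv F67572)) (tt N10674 (iv F67611)) (tt N10494 (iv F66999)) (tt N9394 (iv D16535)) (tt N9395 F65334))
theorem Q10079 : ∀ i, i < 10079 → P i := stepQ 10078 Q10078 (allL N10078 (tt N10623 (iv F67453)) (tt N10411 F66696) (tt N10677 D17135) (tt N9395 (iv D16536)) (tt N10678 D17136) (tt N10675 (iv F67613)) (tt N10495 (iv F67002)) (tt N9397 F65335) (tt N10676 (iv F67616)))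
theorem Q10080 : ∀ i, i < 10080 → P i := stepQ 10079 Q10079 (allL N10079 (tt N10253 (iv F66076)) (tt N10414 F66705) (tt N10679 D17137) (tt N9396 (iv D16537)) (tt N10680 D17138) (tt N9397 F65336) (tt N10270 (iv F66152)) (tt N10675 (iv F67614)) (tt N9408 F65337))
theorem Q10081 : ∀ i, i < 10081 → P i := stepQ 10080 Q10080 (allL N10080 (tt N10624 (iv F67455)) (tt N10402 (iv F66667)) (tt N9397 (iv D16538)) (tt N9400 F65338) (tt N10681 D17139) (tt N10679 (iv F67621)) (tt N10497 (iv F67008)) (tt N10677 (iv F67618)) (tt N9409 F65339))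
theorem Q10082 : ∀ i, i < 10082 → P i := stepQ 10081 Q10081 (allL N10081 (tt N10625 (iv F67458)) (tt N10416 (iv F66708)) (tt N10681 (iv F67624)) (tt N9398 F65340) (tt N9397 (iv D16539)) (tt N10682 D17140) (tt N10498 (iv F67012)) (tt N10678 (iv F67619)) (tt N9410 F65341))
theorem Q10083 : ∀ i, i < 10083 → P i := stepQ 10082 Q10082 (allL N10082 (tt N10626 (iv F67461)) (tt N10486 (iv F66965)) (tt N10244 (iv F66036)) (tt N10682 (iv F67626)) (tt N10441 (iv F66819)) (tt N9398 (iv D16540)) (tt N10683 D17141) (tt N10668 (iv F67587)) (tt N9411 F65342))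
theorem Q10084 : ∀ i, i < 10084 → P i := stepQ 10083 Q10083 (allL N10083 (tt N10321 (iv F66328)) (tt N10432 (iv F66788)) (tt N9399 (iv D16541)) (tt N10679 (iv F67620)) (tt N10380 (iv F66584)) (tt N9400 F65343) (tt N10324 (iv F66349)) (tt N10083 F65344) (tt N9413 F65345))
theorem Q10085 : ∀ i, i < 10085 → P i := stepQ 10084 Q10084 (allL N10084 (tt N10634 (iv F67479)) (tt N10510 (iv F67040)) (tt N9416 F65346) (tt N10684 D17142) (tt N9404 F65347) (tt N9905 F65348) (tt N10512 (iv F67055)) (tt N9401 (iv D16542)) (tt N10511 (iv F67050)))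
theorem Q10086 : ∀ i, i < 10086 → P i := stepQ 10085 Q10085 (allL N10085 (tt N10230 (iv F65987)) (tt N10511 (iv F67045)) (tt N9417 F65349) (tt N10685 D17143) (tt N10512 (iv F67053)) (tt N10530 (iv F67114)) (tt N9404 F65350) (tt N9402 (iv D16543)) (tt N10510 (iv F67044)))
theorem Q10087 : ∀ i, i < 10087 → P i := stepQ 10086 Q10086 (allL N10086 (tt N10635 (iv F67483)) (tt N10512 (iv F67051)) (tt N9418 F65351) (tt N10686 D17144) (tt N10511 (iv F67047)) (tt N9405 F65352) (tt N10510 (iv F67043)) (tt N9403 (iv D16544)) (tt N9404 F65353))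
theorem Q10088 : ∀ i, i < 10088 → P i := stepQ 10087 Q10087 (allL N10087 (tt N10636 (iv F67487)) (tt N10513 (iv F67057)) (tt N10687 D17145) (tt N9404 (iv D16545)) (tt N10688 D17146) (tt N9406 F65354) (tt N10685 (iv F67630)) (tt N9408 F65355) (tt N10686 (iv F67633)))
theorem Q10089 : ∀ i, i < 10089 → P i := stepQ 10088 Q10088 (allL N10088 (tt N10637 (iv F67490)) (tt N10514 (iv F67060)) (tt N10689 D17147) (tt N9405 (iv D16546)) (tt N10690 D17148) (tt N10686 (iv F67632)) (tt N10533 (iv F67127)) (tt N10676 (iv F67615)) (tt N9406 F65356))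
theorem Q10090 : ∀ i, i < 10090 → P i := stepQ 10089 Q10089 (allL N10089 (tt N10638 (iv F67492)) (tt N10691 D17149) (tt N9406 (iv D16547)) (tt N9421 F65357) (tt N10692 D17150) (tt N10687 (iv F67635)) (tt N10534 (iv F67130)) (tt N9409 F65358) (tt N10689 (iv F67639)))
theorem Q10091 : ∀ i, i < 10091 → P i := stepQ 10090 Q10090 (allL N10090 (tt N10639 (iv F67495)) (tt N10515 (iv F67063)) (tt N10692 (iv F67644)) (tt N9911 F65359) (tt N9406 (iv D16548)) (tt N10693 D17151) (tt N10535 (iv F67134)) (tt N9410 F65360) (tt N10690 (iv F67641)))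
theorem Q10092 : ∀ i, i < 10092 → P i := stepQ 10091 Q10091 (allL N10091 (tt N10232 (iv F65998)) (tt N10516 (iv F67066)) (tt N10694 D17152) (tt N9407 (iv D16549)) (tt N10695 D17153) (tt N10536 (iv F67137)) (tt N9408 F65361) (tt N10685 (iv F67631)) (tt N10270 (iv F66153)))
theorem Q10093 : ∀ i, i < 10093 → P i := stepQ 10092 Q10092 (allL N10092 (tt N10640 (iv F67498)) (tt N10696 D17154) (tt N9408 (iv D16550)) (tt N9413 F65362) (tt N10697 D17155) (tt N9409 F65363) (tt N10694 (iv F67649)) (tt N10687 (iv F67636)) (tt N10679 (iv F67622)))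
theorem Q10094 : ∀ i, i < 10094 → P i := stepQ 10093 Q10093 (allL N10093 (tt N10641 (iv F67501)) (tt N10517 (iv F67069)) (tt N10697 (iv F67653)) (tt N10455 (iv F66861)) (tt N9408 (iv D16551)) (tt N10698 D17156) (tt N10695 (iv F67650)) (tt N10688 (iv F67637)) (tt N10680 (iv F67623)))
theorem Q10095 : ∀ i, i < 10095 → P i := stepQ 10094 Q10094 (allL N10094 (tt N10699 D17157) (tt N9409 (iv D16552)) (tt N10366 (iv F66536)) (tt N9415 F65364) (tt N10700 D17158) (tt N10696 (iv F67652)) (tt N10539 (iv F67144)) (tt N10691 (iv F67643)) (tt N10402 (iv F66669)))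
theorem Q10096 : ∀ i, i < 10096 → P i := stepQ 10095 Q10095 (allL N10095 (tt N10643 (iv F67503)) (tt N10700 (iv F67656)) (tt N9410 F65365) (tt N10294 (iv F66212)) (tt N9409 (iv D16553)) (tt N10701 D17159) (tt N10540 (iv F67146)) (tt N10692 (iv F67645)) (tt N10681 (iv F67625)))
theorem Q10097 : ∀ i, i < 10097 → P i := stepQ 10096 Q10096 (allL N10096 (tt N10644 (iv F67505)) (tt N10518 (iv F67070)) (tt N10701 (iv F67657)) (tt N9411 F65366) (tt N10698 (iv F67654)) (tt N9410 (iv D16554)) (tt N10702 D17160) (tt N10693 (iv F67647)) (tt N10682 (iv F67627)))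
theorem Q10098 : ∀ i, i < 10098 → P i := stepQ 10097 Q10097 (allL N10097 (tt N10645 (iv F67507)) (tt N10519 (iv F67072)) (tt N10296 (iv F66214)) (tt N10702 (iv F67658)) (tt N10457 (iv F66864)) (tt N10542 (iv F67150)) (tt N9411 (iv D16555)) (tt N9918 F65367) (tt N10683 (iv F67628)))
theorem Q10099 : ∀ i, i < 10099 → P i := stepQ 10098 Q10098 (allL N10098 (tt N10318 (iv F66308)) (tt N10186 (iv F65774)) (tt N9412 (iv D16556)) (tt N10694 (iv F67648)) (tt N10343 (iv F66443)) (tt N10187 (iv F65780)) (tt N9413 F65368) (tt N9428 F65369) (tt N10324 (iv F66351)))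
theorem Q10100 : ∀ i, i < 10100 → P i := stepQ 10099 Q10099 (allL N10099 (tt N10201 (iv F65853)) (tt N9413 (iv D16557)) (tt N9434 F65370) (tt N10696 (iv F67651)) (tt N10200 (iv F65850)) (tt N9415 F65371) (tt N10186 (iv F65776)) (tt N9429 F65372) (tt N10432 (iv F66791)))
theorem Q10101 : ∀ i, i < 10101 → P i := stepQ 10100 Q10100 (allL N10100 (tt N10342 (iv F66436)) (tt N10200 (iv F65849)) (tt N9414 F65373) (tt N10703 D17161) (tt N9413 (iv D16558)) (tt N10199 (iv F65845)) (tt N10343 (iv F66445)) (tt N9430 F65374) (tt N10380 (iv F66586)))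
theorem Q10102 : ∀ i, i < 10102 → P i := stepQ 10101 Q10101 (allL N10101 (tt N9415 (iv D16559)) (tt N10646 (iv F67509)) (tt N9435 F65375) (tt N10699 (iv F67655)) (tt N10298 (iv F66223)) (tt N10201 F65858) (tt N10263 (iv F66115)) (tt N9431 F65376) (tt N10431 (iv F66787)))
theorem Q10103 : ∀ i, i < 10103 → P i := stepQ 10102 Q10102 (allL N10102 (tt N9644 F65377) (tt N9439 F65378) (tt N10704 D17162) (tt N9416 (iv D16560)) (tt N9513 (iv F65381)) (tt N9927 F65379) (tt N10561 (iv F67193)) (tt N9432 F65380) (tt N10560 (iv F67187)))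
theorem Q10104 : ∀ i, i < 10104 → P i := stepQ 10103 Q10103 (allL N10103 (tt N10647 (iv F67513)) (tt N9440 F65382) (tt N10705 D17163) (tt N9417 (iv D16561)) (tt N10125 (iv F65479)) (tt N10586 (iv F67301)) (tt N9419 F65383) (tt N9423 F65384) (tt N10559 (iv F67181)))
theorem Q10105 : ∀ i, i < 10105 → P i := stepQ 10104 Q10104 (allL N10104 (tt N10648 (iv F67518)) (tt N9441 F65385) (tt N10706 D17164) (tt N9418 (iv D16562)) (tt N10707 D17165) (tt N9420 F65386) (tt N10559 (iv F67179)) (tt N10104 F65387) (tt N9419 F65388))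
theorem Q10106 : ∀ i, i < 10106 → P i := stepQ 10105 Q10105 (allL N10105 (tt N10649 (iv F67524)) (tt N10708 D17166) (tt N9419 (iv D16563)) (tt N10687 (iv F67634)) (tt N10709 D17167) (tt N9421 F65389) (tt N10705 (iv F67663)) (tt N9424 F65390) (tt N10706 (iv F67667)))
theorem Q10107 : ∀ i, i < 10107 → P i := stepQ 10106 Q10106 (allL N10106 (tt N9647 F65391) (tt N9443 F65392) (tt N10709 (iv F67680)) (tt N9513 F65393) (tt N9419 (iv D16564)) (tt N9515 F65394) (tt N10125 (iv F65481)) (tt N9425 F65395) (tt N10707 (iv F67673)))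
theorem Q10108 : ∀ i, i < 10108 → P i := stepQ 10107 Q10107 (allL N10107 (tt N10650 (iv F67528)) (tt N10710 D17168) (tt N9420 (iv D16565)) (tt N10689 (iv F67638)) (tt N10711 D17169) (tt N10706 (iv F67665)) (tt N10588 (iv F67309)) (tt N10107 F65396) (tt N9421 F65397))
theorem Q10109 : ∀ i, i < 10109 → P i := stepQ 10108 Q10108 (allL N10108 (tt N10651 (iv F67531)) (tt N9445 F65398) (tt N10711 (iv F67687)) (tt N9931 F65399) (tt N9420 (iv D16566)) (tt N9950 (iv F65402)) (tt N10589 (iv F67314)) (tt N10108 F65400) (tt N9422 F65401))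
theorem Q10110 : ∀ i, i < 10110 → P i := stepQ 10109 Q10109 (allL N10109 (tt N10712 D17170) (tt N9421 (iv D16567)) (tt N9446 F65403) (tt N10691 (iv F67642)) (tt N10713 D17171) (tt N10708 (iv F67675)) (tt N10590 (iv F67319)) (tt N9426 F65404) (tt N10710 (iv F67686)))
theorem Q10111 : ∀ i, i < 10111 → P i := stepQ 10110 Q10110 (allL N10110 (tt N10653 (iv F67540)) (tt N10713 (iv F67693)) (tt N9422 F65405) (tt N10714 D17172) (tt N9421 (iv D16568)) (tt N10462 (iv F66881)) (tt N10591 (iv F67322)) (tt N9427 F65406) (tt N10711 (iv F67689)))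
theorem Q10112 : ∀ i, i < 10112 → P i := stepQ 10111 Q10111 (allL N10111 (tt N10344 (iv F66447)) (tt N10113 (iv F65416)) (tt N9423 (iv D16569)) (tt N9428 F65407) (tt N10112 F65414) (tt N10192 (iv F65802)) (tt N9424 F65408) (tt N10705 (iv F67664)) (tt N10111 F65409))
theorem Q10113 : ∀ i, i < 10113 → P i := stepQ 10112 Q10112 (allL N10112 (tt N10203 (iv F65866)) (tt N9424 (iv D16570)) (tt N9448 F65410) (tt N9429 F65411) (tt N10111 (iv F65414)) (tt N9426 F65412) (tt N10113 (iv F65419)) (tt N10708 (iv F67676)) (tt N10112 F65413))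
theorem Q10114 : ∀ i, i < 10114 → P i := stepQ 10113 Q10113 (allL N10113 (tt N9652 F65415) (tt N10111 F65416) (tt N9425 F65417) (tt N9517 (iv F65421)) (tt N9424 (iv D16571)) (tt N9516 F65418) (tt N10112 F65419) (tt N10709 (iv F67683)) (tt N10113 F65420))
theorem Q10115 : ∀ i, i < 10115 → P i := stepQ 10114 Q10114 (allL N10114 (tt N9426 (iv D16572)) (tt N10654 (iv F67545)) (tt N9449 F65422) (tt N9431 F65423) (tt N10715 D17173) (tt N10203 (iv F65869)) (tt N10302 (iv F66241)) (tt N10712 (iv F67692)) (tt N10114 F65424))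
theorem Q10116 : ∀ i, i < 10116 → P i := stepQ 10115 Q10115 (allL N10115 (tt N10715 (iv F67697)) (tt N9427 F65425) (tt N9450 F65426) (tt N10316 (iv F66299)) (tt N9426 (iv D16573)) (tt N10598 (iv F67351)) (tt N10592 (iv F67326)) (tt N10713 (iv F67695)) (tt N10115 F65427))
theorem Q10117 : ∀ i, i < 10117 → P i := stepQ 10116 Q10116 (allL N10116 (tt N9540 F65428) (tt N9701 F65429) (tt N9433 F65430) (tt N9430 (iv D16574)) (tt N9517 F65431) (tt N9700 F65432) (tt N9541 F65433) (tt N10716 D17174) (tt N10116 F65434))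
theorem Q10118 : ∀ i, i < 10118 → P i := stepQ 10117 Q10117 (allL N10117 (tt N9623 F65435) (tt N10177 (iv F65743)) (tt N9432 (iv D16575)) (tt N9762 F65436) (tt N9500 F65437) (tt N9934 F65438) (tt N10370 (iv F66554)) (tt N10704 (iv F67662)) (tt N9497 F65439))
theorem Q10119 : ∀ i, i < 10119 → P i := stepQ 10118 Q10118 (allL N10118 (tt N9531 F65440) (tt N9537 F65441) (tt N10716 (iv F67702)) (tt N9530 F65442) (tt N9508 F65443) (tt N9697 F65444) (tt N9533 F65445) (tt N9433 (iv D16576)) (tt N9825 (iv F65446)))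
theorem Q10120 : ∀ i, i < 10120 → P i := stepQ 10119 Q10119 (allL N10119 (tt N10119 F65447) (tt N10669 (iv F67589)) (tt N10121 (iv F65459)) (tt N9436 (iv D16577)) (tt N10120 F65457) (tt N9980 F65448) (tt N9437 F65449) (tt N10119 F65450) (tt N9953 F65451))
theorem Q10121 : ∀ i, i < 10121 → P i := stepQ 10120 Q10120 (allL N10120 (tt N10120 F65452) (tt N10717 D17175) (tt N9437 (iv D16578)) (tt N9447 F65453) (tt N10119 (iv F65457)) (tt N9438 F65454) (tt N10121 (iv F65461)) (tt N10120 F65455) (tt N9954 F65456))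
theorem Q10122 : ∀ i, i < 10122 → P i := stepQ 10121 Q10121 (allL N10121 (tt N10121 F65458) (tt N10671 (iv F67597)) (tt N10119 F65459) (tt N9982 F65460) (tt N9437 (iv D16579)) (tt N10330 (iv F66382)) (tt N10120 F65461) (tt N10121 F65462) (tt N9955 F65463))
theorem Q10123 : ∀ i, i < 10123 → P i := stepQ 10122 Q10122 (allL N10122 (tt N10718 D17176) (tt N9438 (iv D16580)) (tt N10672 (iv F67601)) (tt N10571 (iv F67236)) (tt N10331 (iv F66387)) (tt N10717 (iv F67709)) (tt N10573 (iv F67244)) (tt N10122 F65464) (tt N9956 F65465))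
theorem Q10124 : ∀ i, i < 10124 → P i := stepQ 10123 Q10123 (allL N10123 (tt N10123 F65466) (tt N10719 D17177) (tt N9441 (iv D16581)) (tt N9988 F65467) (tt N9984 (iv F65471)) (tt N9444 F65468) (tt N10124 (iv F65476)) (tt N10123 F65469) (tt N9442 F65470))
theorem Q10125 : ∀ i, i < 10125 → P i := stepQ 10124 Q10124 (allL N10124 (tt N10124 F65472) (tt N10707 (iv F67669)) (tt N9984 F65473) (tt N9680 F65474) (tt N9441 (iv D16582)) (tt N9681 F65475) (tt N10123 F65476) (tt N10124 F65477) (tt N9443 F65478))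
theorem Q10126 : ∀ i, i < 10126 → P i := stepQ 10125 Q10125 (allL N10125 (tt N10307 (iv F66264)) (tt N9442 (iv D16583)) (tt N10708 (iv F67674)) (tt N10188 (iv F65785)) (tt N10103 F65479) (tt N9446 F65480) (tt N10106 F65481) (tt N9448 F65482) (tt N10719 (iv F67721)))
theorem Q10127 : ∀ i, i < 10127 → P i := stepQ 10126 Q10126 (allL N10126 (tt N10720 D17178) (tt N9444 (iv D16584)) (tt N10710 (iv F67684)) (tt N10218 F65936) (tt N10721 D17179) (tt N10719 (iv F67718)) (tt N10219 (iv F65939)) (tt N10126 F65483) (tt N9446 F65484))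
theorem Q10128 : ∀ i, i < 10128 → P i := stepQ 10127 Q10127 (allL N10127 (tt N10127 F65485) (tt N10721 (iv F67728)) (tt N9445 F65486) (tt N9954 F65487) (tt N9444 (iv D16585)) (tt N9952 F65488) (tt N10330 (iv F66383)) (tt N10127 F65489) (tt N9447 F65490))
theorem Q10129 : ∀ i, i < 10129 → P i := stepQ 10128 Q10128 (allL N10128 (tt N9446 (iv D16586)) (tt N10128 F65491) (tt N10712 (iv F67691)) (tt N10299 (iv F66228)) (tt N10722 D17180) (tt N10307 (iv F66266)) (tt N10300 (iv F66234)) (tt N9449 F65492) (tt N10720 (iv F67727)))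
theorem Q10130 : ∀ i, i < 10130 → P i := stepQ 10129 Q10129 (allL N10129 (tt N10722 (iv F67733)) (tt N9447 F65493) (tt N10713 (iv F67694)) (tt N10717 (iv F67707)) (tt N9446 (iv D16587)) (tt N10571 (iv F67237)) (tt N10594 (iv F67333)) (tt N9450 F65494) (tt N10721 (iv F67732)))
theorem Q10131 : ∀ i, i < 10131 → P i := stepQ 10130 Q10130 (allL N10130 (tt N9450 F65495) (tt N10130 F65496) (tt N10715 (iv F67698)) (tt N10130 F65497) (tt N9449 (iv D16588)) (tt N10611 (iv F67413)) (tt N10303 (iv F66246)) (tt N10722 (iv F67735)) (tt N10130 F65498))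
theorem Q10132 : ∀ i, i < 10132 → P i := stepQ 10131 Q10131 (allL N10131 (tt N9453 F65499) (tt N9550 F65500) (tt N10131 F65501) (tt N9467 F65502) (tt N10075 F65503) (tt N9710 F65504) (tt N9809 F65505) (tt N10723 D17181) (tt N9451 (iv D16589)))
theorem Q10133 : ∀ i, i < 10133 → P i := stepQ 10132 Q10132 (allL N10132 (tt N10075 F65506) (tt N9456 F65507) (tt N10132 F65508) (tt N10033 F65509) (tt N9453 F65510) (tt N10022 F65511) (tt N9617 F65512) (tt N10724 D17182) (tt N9452 (iv D16590)))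
theorem Q10134 : ∀ i, i < 10134 → P i := stepQ 10133 Q10133 (allL N10133 (tt N10723 (iv F67736)) (tt N9457 F65513) (tt N10133 F65514) (tt N10725 D17183) (tt N10724 (iv F67746)) (tt N9713 F65515) (tt N10444 (iv F66832)) (tt N9453 (iv D16591)) (tt N10247 (iv F66050)))
theorem Q10135 : ∀ i, i < 10135 → P i := stepQ 10134 Q10134 (allL N10134 (tt N9555 F65516) (tt N10033 F65517) (tt N10134 F65518) (tt N9456 F65519) (tt N9473 F65520) (tt N10027 F65521) (tt N9580 F65522) (tt N10726 D17184) (tt N9454 (iv D16592)))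
theorem Q10136 : ∀ i, i < 10136 → P i := stepQ 10135 Q10135 (allL N10135 (tt N9557 F65523) (tt N10022 F65524) (tt N9458 F65525) (tt N10027 F65526) (tt N9716 F65527) (tt N9456 F65528) (tt N10472 (iv F66932)) (tt N10727 D17185) (tt N9455 (iv D16593)))
theorem Q10137 : ∀ i, i < 10137 → P i := stepQ 10136 Q10136 (allL N10136 (tt N9558 F65529) (tt N10724 (iv F67744)) (tt N9459 F65530) (tt N10728 D17186) (tt N9457 F65531) (tt N10727 (iv F67764)) (tt N9627 F65532) (tt N9456 (iv D16594)) (tt N9599 F65533))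
theorem Q10138 : ∀ i, i < 10138 → P i := stepQ 10137 Q10137 (allL N10137 (tt N9559 F65534) (tt N10725 (iv F67750)) (tt N10018 F65535) (tt N9457 (iv D16595)) (tt N10729 D17187) (tt N9718 F65536) (tt N10453 (iv F66856)) (tt N9476 F65537) (tt N10332 (iv F66396)))
theorem Q10139 : ∀ i, i < 10139 → P i := stepQ 10138 Q10138 (allL N10138 (tt N9561 F65538) (tt N10138 F65539) (tt N10727 (iv F67762)) (tt N10730 D17188) (tt N9719 F65540) (tt N9459 F65541) (tt N10599 (iv F67358)) (tt N9458 (iv D16596)) (tt N9637 F65542))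
theorem Q10140 : ∀ i, i < 10140 → P i := stepQ 10139 Q10139 (allL N10139 (tt N9562 F65543) (tt N10139 F65544) (tt N10731 D17189) (tt N9459 (iv D16597)) (tt N10020 F65545) (tt N10730 (iv F67774)) (tt N9648 F65546) (tt N10139 F65547) (tt N9638 F65548))
theorem Q10141 : ∀ i, i < 10141 → P i := stepQ 10140 Q10140 (allL N10140 (tt N9563 F65549) (tt N9737 F65550) (tt N9461 F65551) (tt N10732 D17190) (tt N9692 F65552) (tt N9465 F65553) (tt N9721 F65554) (tt N9460 (iv D16598)) (tt N9481 F65555))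
theorem Q10142 : ∀ i, i < 10142 → P i := stepQ 10141 Q10141 (allL N10141 (tt N9812 F65556) (tt N9465 F65557) (tt N9519 F65558) (tt N10733 D17191) (tt N9746 F65559) (tt N9737 F65560) (tt N9470 F65561) (tt N9462 (iv D16599)) (tt N9484 F65562))
theorem Q10143 : ∀ i, i < 10143 → P i := stepQ 10142 Q10142 (allL N10142 (tt N9565 F65563) (tt N9743 F65564) (tt N10142 F65565) (tt N9464 F65566) (tt N9580 F65567) (tt N9740 F65568) (tt N9473 F65569) (tt N10734 D17192) (tt N9463 (iv D16600)))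
theorem Q10144 : ∀ i, i < 10144 → P i := stepQ 10143 Q10143 (allL N10143 (tt N9566 F65570) (tt N9746 F65571) (tt N9466 F65572) (tt N10735 D17193) (tt N9465 F65573) (tt N9741 F65574) (tt N9475 F65575) (tt N9464 (iv D16601)) (tt N9485 F65576))
theorem Q10145 : ∀ i, i < 10145 → P i := stepQ 10144 Q10144 (allL N10144 (tt N9567 F65577) (tt N10733 (iv F67790)) (tt N9857 F65578) (tt N9465 (iv D16602)) (tt N10736 D17194) (tt N10732 (iv F67786)) (tt N9476 F65579) (tt N10453 (iv F66857)) (tt N9486 F65580))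
theorem Q10146 : ∀ i, i < 10146 → P i := stepQ 10145 Q10145 (allL N10145 (tt N9568 F65581) (tt N9521 F65582) (tt N10737 D17195) (tt N9466 (iv D16603)) (tt N9935 F65583) (tt N9792 F65584) (tt N9478 F65585) (tt N10145 F65586) (tt N9487 F65587))
theorem Q10147 : ∀ i, i < 10147 → P i := stepQ 10146 Q10146 (allL N10146 (tt N9470 F65588) (tt N9569 F65589) (tt N9522 F65590) (tt N10738 D17196) (tt N9882 F65591) (tt N9724 F65592) (tt N9812 F65593) (tt N9467 (iv D16604)) (tt N9490 F65594))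
theorem Q10148 : ∀ i, i < 10148 → P i := stepQ 10147 Q10147 (allL N10147 (tt N9877 F65595) (tt N9473 F65596) (tt N9775 F65597) (tt N9469 F65598) (tt N10033 F65599) (tt N9763 F65600) (tt N9743 F65601) (tt N10739 D17197) (tt N9468 (iv D16605)))
theorem Q10149 : ∀ i, i < 10149 → P i := stepQ 10148 Q10148 (allL N10148 (tt N9882 F65602) (tt N9475 F65603) (tt N9523 F65604) (tt N10740 D17198) (tt N9470 F65605) (tt N9768 F65606) (tt N9746 F65607) (tt N9469 (iv D16606)) (tt N9495 F65608))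
theorem Q10150 : ∀ i, i < 10150 → P i := stepQ 10149 Q10149 (allL N10149 (tt N10738 (iv F67817)) (tt N9476 F65609) (tt N10741 D17199) (tt N9470 (iv D16607)) (tt N10742 D17200) (tt N9727 F65610) (tt N10733 (iv F67792)) (tt N10725 (iv F67752)) (tt N9496 F65611))
theorem Q10151 : ∀ i, i < 10151 → P i := stepQ 10150 Q10150 (allL N10150 (tt N9579 F65612) (tt N9763 F65613) (tt N10150 F65614) (tt N9474 F65615) (tt N10397 (iv F66654)) (tt N9473 F65616) (tt N9755 F65617) (tt N10743 D17201) (tt N9471 (iv D16608)))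
theorem Q10152 : ∀ i, i < 10152 → P i := stepQ 10151 Q10151 (allL N10151 (tt N9580 F65618) (tt N10032 F65619) (tt N10151 F65620) (tt N9501 F65621) (tt N9565 F65622) (tt N10396 (iv F66649)) (tt N9555 F65623) (tt N10744 D17202) (tt N9472 (iv D16609)))
theorem Q10153 : ∀ i, i < 10153 → P i := stepQ 10152 Q10152 (allL N10152 (tt N9581 F65624) (tt N10739 (iv F67823)) (tt N10152 F65625) (tt N10745 D17203) (tt N10726 (iv F67756)) (tt N10743 (iv F67844)) (tt N10734 (iv F67799)) (tt N9473 (iv D16610)) (tt N10744 (iv F67851)))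
theorem Q10154 : ∀ i, i < 10154 → P i := stepQ 10153 Q10153 (allL N10153 (tt N9583 F65626) (tt N9768 F65627) (tt N9477 F65628) (tt N10746 D17204) (tt N9733 F65629) (tt N9475 F65630) (tt N9758 F65631) (tt N9474 (iv D16611)) (tt N9504 F65632))
theorem Q10155 : ∀ i, i < 10155 → P i := stepQ 10154 Q10154 (allL N10154 (tt N9584 F65633) (tt N10740 (iv F67830)) (tt N10747 D17205) (tt N9475 (iv D16612)) (tt N10748 D17206) (tt N10746 (iv F67856)) (tt N10735 (iv F67804)) (tt N10745 (iv F67853)) (tt N9505 F65634))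
theorem Q10156 : ∀ i, i < 10156 → P i := stepQ 10155 Q10155 (allL N10155 (tt N9585 F65635) (tt N10742 (iv F67839)) (tt N10025 F65636) (tt N10748 (iv F67863)) (tt N9476 (iv D16613)) (tt N10749 D17207) (tt N10736 (iv F67808)) (tt N10729 (iv F67771)) (tt N9506 F65637))
theorem Q10157 : ∀ i, i < 10157 → P i := stepQ 10156 Q10156 (allL N10156 (tt N9587 F65638) (tt N9526 F65639) (tt N10750 D17208) (tt N9477 (iv D16614)) (tt N9825 F65640) (tt N9478 F65641) (tt N9797 F65642) (tt N10156 F65643) (tt N9508 F65644))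
theorem Q10158 : ∀ i, i < 10158 → P i := stepQ 10157 Q10157 (allL N10157 (tt N9588 F65645) (tt N10751 D17209) (tt N9478 (iv D16615)) (tt N10747 (iv F67860)) (tt N10026 F65646) (tt N10750 (iv F67872)) (tt N10737 (iv F67814)) (tt N10157 F65647) (tt N9509 F65648))
theorem Q10159 : ∀ i, i < 10159 → P i := stepQ 10158 Q10158 (allL N10158 (tt N9690 F65649) (tt N9481 F65650) (tt N9528 F65651) (tt N10752 D17210) (tt N9721 F65652) (tt N9484 F65653) (tt N9692 F65654) (tt N9479 (iv D16616)) (tt N9737 F65655))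
theorem Q10160 : ∀ i, i < 10160 → P i := stepQ 10159 Q10159 (allL N10159 (tt N9590 F65656) (tt N9721 F65657) (tt N9482 F65658) (tt N10753 D17211) (tt N9481 F65659) (tt N9722 F65660) (tt N9737 F65661) (tt N9480 (iv D16617)) (tt N9692 F65662))
theorem Q10161 : ∀ i, i < 10161 → P i := stepQ 10160 Q10160 (allL N10160 (tt N9591 F65663) (tt N10752 (iv F67884)) (tt N9612 F65664) (tt N9481 (iv D16618)) (tt N10754 D17212) (tt N9486 F65665) (tt N9738 F65666) (tt N10251 (iv F66068)) (tt N10732 (iv F67788)))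
theorem Q10162 : ∀ i, i < 10162 → P i := stepQ 10161 Q10161 (allL N10161 (tt N9592 F65667) (tt N9529 F65668) (tt N10755 D17213) (tt N9482 (iv D16619)) (tt N9668 F65669) (tt N9789 F65670) (tt N9739 F65671) (tt N10161 F65672) (tt N9698 F65673))
theorem Q10163 : ∀ i, i < 10163 → P i := stepQ 10162 Q10162 (allL N10162 (tt N9484 F65674) (tt N9593 F65675) (tt N9530 F65676) (tt N10756 D17214) (tt N9773 F65677) (tt N9690 F65678) (tt N9490 F65679) (tt N9483 (iv D16620)) (tt N9812 F65680))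
theorem Q10164 : ∀ i, i < 10164 → P i := stepQ 10163 Q10163 (allL N10163 (tt N10756 (iv F67904)) (tt N9486 F65681) (tt N10757 D17215) (tt N9484 (iv D16621)) (tt N10758 D17216) (tt N10752 (iv F67886)) (tt N9496 F65682) (tt N10334 (iv F66404)) (tt N10733 (iv F67793)))
theorem Q10165 : ∀ i, i < 10165 → P i := stepQ 10164 Q10164 (allL N10164 (tt N9602 F65683) (tt N9913 F65684) (tt N10759 D17217) (tt N9485 (iv D16622)) (tt N10760 D17218) (tt N9915 F65685) (tt N9505 F65686) (tt N10437 (iv F66806)) (tt N10735 (iv F67805)))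
theorem Q10166 : ∀ i, i < 10166 → P i := stepQ 10165 Q10165 (allL N10165 (tt N9603 F65687) (tt N10758 (iv F67914)) (tt N9893 F65688) (tt N10760 (iv F67924)) (tt N9486 (iv D16623)) (tt N10761 D17219) (tt N9506 F65689) (tt N10335 (iv F66410)) (tt N10736 (iv F67809)))
theorem Q10167 : ∀ i, i < 10167 → P i := stepQ 10166 Q10166 (allL N10166 (tt N9606 F65690) (tt N9941 F65691) (tt N9487 (iv D16624)) (tt N10759 (iv F67919)) (tt N9940 F65692) (tt N9943 F65693) (tt N9509 F65694) (tt N9510 F65695) (tt N10737 (iv F67816)))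
theorem Q10168 : ∀ i, i < 10168 → P i := stepQ 10167 Q10167 (allL N10167 (tt N9493 F65696) (tt N9609 F65697) (tt N9786 F65698) (tt N9489 F65699) (tt N9816 F65700) (tt N9867 F65701) (tt N9787 F65702) (tt N10762 D17220) (tt N9488 (iv D16625)))
theorem Q10169 : ∀ i, i < 10169 → P i := stepQ 10168 Q10168 (allL N10168 (tt N9495 F65703) (tt N9611 F65704) (tt N9532 F65705) (tt N10763 D17221) (tt N9490 F65706) (tt N9872 F65707) (tt N9773 F65708) (tt N9489 (iv D16626)) (tt N9882 F65709))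
theorem Q10170 : ∀ i, i < 10170 → P i := stepQ 10169 Q10169 (allL N10169 (tt N9496 F65710) (tt N9612 F65711) (tt N10764 D17222) (tt N9490 (iv D16627)) (tt N10765 D17223) (tt N9752 F65712) (tt N10756 (iv F67907)) (tt N10336 (iv F66415)) (tt N10738 (iv F67821)))
theorem Q10171 : ∀ i, i < 10171 → P i := stepQ 10170 Q10170 (allL N10170 (tt N9867 F65713) (tt N9500 F65714) (tt N9925 F65715) (tt N9494 F65716) (tt N10177 (iv F65745)) (tt N9493 F65717) (tt N9730 F65718) (tt N10766 D17224) (tt N9491 (iv D16628)))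
theorem Q10172 : ∀ i, i < 10172 → P i := stepQ 10171 Q10171 (allL N10171 (tt N10762 (iv F67928)) (tt N9502 F65719) (tt N9928 F65720) (tt N10767 D17225) (tt N10204 (iv F65874)) (tt N10766 (iv F67950)) (tt N9929 F65721) (tt N9493 (iv D16629)) (tt N10564 (iv F67213)))
theorem Q10173 : ∀ i, i < 10173 → P i := stepQ 10172 Q10172 (allL N10172 (tt N9872 F65722) (tt N9504 F65723) (tt N9534 F65724) (tt N10768 D17226) (tt N9758 F65725) (tt N9495 F65726) (tt N9733 F65727) (tt N9494 (iv D16630)) (tt N9768 F65728))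
theorem Q10174 : ∀ i, i < 10174 → P i := stepQ 10173 Q10173 (allL N10173 (tt N10763 (iv F67935)) (tt N9505 F65729) (tt N9912 F65730) (tt N9495 (iv D16631)) (tt N10769 D17227) (tt N10768 (iv F67960)) (tt N9913 F65731) (tt N10767 (iv F67956)) (tt N10740 (iv F67834)))
theorem Q10175 : ∀ i, i < 10175 → P i := stepQ 10174 Q10174 (allL N10174 (tt N10764 (iv F67941)) (tt N10030 F65732) (tt N9496 (iv D16632)) (tt N9535 F65733) (tt N10770 D17228) (tt N9760 F65734) (tt N10757 (iv F67913)) (tt N10337 (iv F66419)) (tt N10741 (iv F67838)))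
theorem Q10176 : ∀ i, i < 10176 → P i := stepQ 10175 Q10175 (allL N10175 (tt N10765 (iv F67945)) (tt N9506 F65735) (tt N10770 (iv F67968)) (tt N10769 (iv F67965)) (tt N9496 (iv D16633)) (tt N10771 D17229) (tt N10758 (iv F67916)) (tt N10338 (iv F66421)) (tt N10742 (iv F67840)))
theorem Q10177 : ∀ i, i < 10177 → P i := stepQ 10176 Q10176 (allL N10176 (tt N9624 F65736) (tt N9730 F65737) (tt N9511 F65738) (tt N9503 F65739) (tt N10370 (iv F66552)) (tt N9725 F65740) (tt N9500 F65741) (tt N10772 D17230) (tt N9498 (iv D16634)))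
theorem Q10178 : ∀ i, i < 10178 → P i := stepQ 10177 Q10177 (allL N10177 (tt N9625 F65742) (tt N10117 F65743) (tt N9512 F65744) (tt N10396 (iv F66647)) (tt N10170 F65745) (tt N9501 F65746) (tt N10369 (iv F66547)) (tt N10773 D17231) (tt N9499 (iv D16635)))
theorem Q10179 : ∀ i, i < 10179 → P i := stepQ 10178 Q10178 (allL N10178 (tt N9626 F65747) (tt N10766 (iv F67948)) (tt N9513 F65748) (tt N10774 D17232) (tt N10704 (iv F67660)) (tt N9502 F65749) (tt N10772 (iv F67975)) (tt N9500 (iv D16636)) (tt N10773 (iv F67981)))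
theorem Q10180 : ∀ i, i < 10180 → P i := stepQ 10179 Q10179 (allL N10179 (tt N9627 F65750) (tt N10564 (iv F67209)) (tt N9514 F65751) (tt N10775 D17233) (tt N9548 F65752) (tt N10773 (iv F67980)) (tt N9558 F65753) (tt N9501 (iv D16637)) (tt N9502 F65754))
theorem Q10181 : ∀ i, i < 10181 → P i := stepQ 10180 Q10180 (allL N10180 (tt N9628 F65755) (tt N10767 (iv F67953)) (tt N10776 D17234) (tt N9502 (iv D16638)) (tt N10777 D17235) (tt N10774 (iv F67983)) (tt N10437 (iv F66805)) (tt N9505 F65756) (tt N10775 (iv F67987)))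
theorem Q10182 : ∀ i, i < 10182 → P i := stepQ 10181 Q10181 (allL N10181 (tt N9629 F65757) (tt N9733 F65758) (tt N9507 F65759) (tt N10778 D17236) (tt N9768 F65760) (tt N9726 F65761) (tt N9504 F65762) (tt N9503 (iv D16639)) (tt N9758 F65763))
theorem Q10183 : ∀ i, i < 10183 → P i := stepQ 10182 Q10182 (allL N10182 (tt N9630 F65764) (tt N10768 (iv F67958)) (tt N10779 D17237) (tt N9504 (iv D16640)) (tt N10780 D17238) (tt N9505 F65765) (tt N10778 (iv F67997)) (tt N10774 (iv F67984)) (tt N10746 (iv F67858)))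
theorem Q10184 : ∀ i, i < 10184 → P i := stepQ 10183 Q10183 (allL N10183 (tt N9631 F65766) (tt N10781 D17239) (tt N9505 (iv D16641)) (tt N9509 F65767) (tt N10782 D17240) (tt N10779 (iv F68002)) (tt N10759 (iv F67921)) (tt N10776 (iv F67990)) (tt N10747 (iv F67861)))
theorem Q10185 : ∀ i, i < 10185 → P i := stepQ 10184 Q10184 (allL N10184 (tt N9632 F65768) (tt N10769 (iv F67963)) (tt N10782 (iv F68011)) (tt N9506 F65769) (tt N9505 (iv D16642)) (tt N10783 D17241) (tt N10760 (iv F67925)) (tt N10777 (iv F67992)) (tt N10748 (iv F67864)))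
theorem Q10186 : ∀ i, i < 10186 → P i := stepQ 10185 Q10185 (allL N10185 (tt N9633 F65770) (tt N10771 (iv F67969)) (tt N10040 F65771) (tt N10783 (iv F68014)) (tt N9772 F65772) (tt N9506 (iv D16643)) (tt N10784 D17242) (tt N10341 (iv F66435)) (tt N10749 (iv F67868)))
theorem Q10187 : ∀ i, i < 10187 → P i := stepQ 10186 Q10186 (allL N10186 (tt N9634 F65773) (tt N10098 F65774) (tt N9508 (iv D16644)) (tt N10779 (iv F68001)) (tt N10716 (iv F67703)) (tt N9509 F65775) (tt N10099 F65776) (tt N9517 F65777) (tt N10750 (iv F67875)))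
theorem Q10188 : ∀ i, i < 10188 → P i := stepQ 10187 Q10187 (allL N10187 (tt N10785 D17243) (tt N9509 (iv D16645)) (tt N9538 F65778) (tt N10781 (iv F68007)) (tt N10042 F65779) (tt N10098 F65780) (tt N9941 F65781) (tt N9518 F65782) (tt N10751 (iv F67881)))
theorem Q10189 : ∀ i, i < 10189 → P i := stepQ 10188 Q10188 (allL N10188 (tt N9645 F65783) (tt N9987 F65784) (tt N10772 (iv F67973)) (tt N10125 F65785) (tt N10561 (iv F67191)) (tt N9989 F65786) (tt N9513 F65787) (tt N9511 (iv D16646)) (tt N10562 (iv F67201)))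
theorem Q10190 : ∀ i, i < 10190 → P i := stepQ 10189 Q10189 (allL N10189 (tt N9646 F65788) (tt N9680 F65789) (tt N10773 (iv F67978)) (tt N10707 (iv F67670)) (tt N10560 F67188) (tt N9514 F65790) (tt N10562 (iv F67199)) (tt N9512 (iv D16647)) (tt N9513 F65791))
theorem Q10191 : ∀ i, i < 10191 → P i := stepQ 10190 Q10190 (allL N10190 (tt N9648 F65792) (tt N9681 F65793) (tt N10786 D17244) (tt N9514 (iv D16648)) (tt N9950 F65794) (tt N10707 (iv F67671)) (tt N9562 F65795) (tt N10190 F65796) (tt N9515 F65797))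
theorem Q10192 : ∀ i, i < 10192 → P i := stepQ 10191 Q10191 (allL N10191 (tt N9649 F65798) (tt N10787 D17245) (tt N9515 (iv D16649)) (tt N10776 (iv F67989)) (tt N10462 (iv F66880)) (tt N10709 (iv F67681)) (tt N10439 (iv F66813)) (tt N9516 F65799) (tt N10786 (iv F68029)))
theorem Q10193 : ∀ i, i < 10193 → P i := stepQ 10192 Q10192 (allL N10192 (tt N10788 D17246) (tt N9516 (iv D16650)) (tt N9973 F65800) (tt N9518 F65801) (tt N10598 (iv F67350)) (tt N10111 F65802) (tt N9974 F65803) (tt N10787 (iv F68033)) (tt N10192 F65804))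
theorem Q10194 : ∀ i, i < 10194 → P i := stepQ 10193 Q10193 (allL N10193 (tt N9518 (iv D16651)) (tt N9656 F65805) (tt N9539 F65806) (tt N10788 (iv F68036)) (tt N10054 F65807) (tt N9702 F65808) (tt N9990 F65809) (tt N10785 (iv F68023)) (tt N10193 F65810))
theorem Q10195 : ∀ i, i < 10195 → P i := stepQ 10194 Q10194 (allL N10194 (tt N9825 F65811) (tt N9520 F65812) (tt N10789 D17247) (tt N9519 (iv D16652)) (tt N9587 F65813) (tt N9739 F65814) (tt N9524 F65815) (tt N10194 F65816) (tt N9531 F65817))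
theorem Q10196 : ∀ i, i < 10196 → P i := stepQ 10195 Q10195 (allL N10195 (tt N9524 F65818) (tt N9543 F65819) (tt N10790 D17248) (tt N9522 (iv D16653)) (tt N9797 F65820) (tt N9790 F65821) (tt N9825 F65822) (tt N10195 F65823) (tt N9533 F65824))
theorem Q10197 : ∀ i, i < 10197 → P i := stepQ 10196 Q10196 (allL N10196 (tt N10790 (iv F68047)) (tt N10055 F65825) (tt N9524 (iv D16654)) (tt N10741 (iv F67836)) (tt N10791 D17249) (tt N9791 F65826) (tt N10789 (iv F68044)) (tt N10196 F65827) (tt N9535 F65828))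
theorem Q10198 : ∀ i, i < 10198 → P i := stepQ 10197 Q10197 (allL N10197 (tt N9797 F65829) (tt N9525 F65830) (tt N10791 (iv F68056)) (tt N9586 F65831) (tt N9524 (iv D16655)) (tt N9795 (iv F65835)) (tt N9587 F65832) (tt N10197 F65833) (tt N9536 F65834))
theorem Q10199 : ∀ i, i < 10199 → P i := stepQ 10198 Q10198 (allL N10198 (tt N9670 F65836) (tt N9527 (iv D16656)) (tt N10751 (iv F67876)) (tt N9667 F65837) (tt N10057 F65838) (tt N9668 F65839) (tt N9936 F65840) (tt N10198 F65841) (tt N9538 F65842))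
theorem Q10200 : ∀ i, i < 10200 → P i := stepQ 10199 Q10199 (allL N10199 (tt N10716 (iv F67700)) (tt N9796 F65843) (tt N9531 (iv D16657)) (tt N10757 (iv F67911)) (tt N9634 F65844) (tt N10100 F65845) (tt N9535 F65846) (tt N9540 F65847) (tt N10789 (iv F68046)))
theorem Q10201 : ∀ i, i < 10201 → P i := stepQ 10200 Q10200 (allL N10200 (tt N9535 F65848) (tt N10100 F65849) (tt N9533 (iv D16658)) (tt N10764 (iv F67943)) (tt N10099 F65850) (tt N9796 F65851) (tt N10716 (iv F67705)) (tt N9541 F65852) (tt N10790 (iv F68053)))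
theorem Q10202 : ∀ i, i < 10202 → P i := stepQ 10201 Q10201 (allL N10201 (tt N10099 F65853) (tt N10060 F65854) (tt N9536 F65855) (tt N10792 D17250) (tt N9535 (iv D16659)) (tt N10101 (iv F65858)) (tt N9634 F65856) (tt N9542 F65857) (tt N10791 (iv F68059)))
theorem Q10203 : ∀ i, i < 10203 → P i := stepQ 10202 Q10202 (allL N10202 (tt N9538 (iv D16660)) (tt N9544 F65859) (tt N10785 (iv F68019)) (tt N9658 F65860) (tt N10061 F65861) (tt N9659 F65862) (tt N9939 F65863) (tt N9539 F65864) (tt N9670 F65865))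
theorem Q10204 : ∀ i, i < 10204 → P i := stepQ 10203 Q10203 (allL N10203 (tt N10112 F65866) (tt N10063 F65867) (tt N9651 F65868) (tt N9542 (iv D16661)) (tt N10344 (iv F66450)) (tt N10114 F65869) (tt N9652 F65870) (tt N10793 D17251) (tt N10203 F65871))
theorem Q10205 : ∀ i, i < 10205 → P i := stepQ 10204 Q10204 (allL N10204 (tt N10451 (iv F66847)) (tt N9694 F65872) (tt N9546 F65873) (tt N10794 D17252) (tt N10171 F65874) (tt N9548 F65875) (tt N9802 F65876) (tt N9545 (iv D16662)) (tt N10205 (iv F65882)))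
theorem Q10206 : ∀ i, i < 10206 → P i := stepQ 10205 Q10205 (allL N10205 (tt N9817 F65877) (tt N9548 F65878) (tt N9679 F65879) (tt N10795 D17253) (tt N10564 (iv F67210)) (tt N9694 F65880) (tt N9553 F65881) (tt N9547 (iv D16663)) (tt N10204 F65882))
theorem Q10207 : ∀ i, i < 10207 → P i := stepQ 10206 Q10206 (allL N10206 (tt N10453 (iv F66855)) (tt N10795 (iv F68077)) (tt N9839 F65883) (tt N9548 (iv D16664)) (tt N10796 D17254) (tt N10794 (iv F68073)) (tt N9559 F65884) (tt N9567 F65885) (tt N10339 (iv F66426)))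
theorem Q10208 : ∀ i, i < 10208 → P i := stepQ 10207 Q10207 (allL N10207 (tt N9552 F65886) (tt N10075 F65887) (tt N9682 F65888) (tt N9878 F65889) (tt N9550 F65890) (tt N9852 F65891) (tt N9815 F65892) (tt N10797 D17255) (tt N9549 (iv D16665)))
theorem Q10209 : ∀ i, i < 10209 → P i := stepQ 10208 Q10208 (allL N10208 (tt N9553 F65893) (tt N10723 (iv F67737)) (tt N9683 F65894) (tt N10798 D17256) (tt N10797 (iv F68089)) (tt N9833 F65895) (tt N9817 F65896) (tt N9550 (iv D16666)) (tt N10345 (iv F66456)))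
theorem Q10210 : ∀ i, i < 10210 → P i := stepQ 10209 Q10209 (allL N10209 (tt N9878 F65897) (tt N9555 F65898) (tt N9776 F65899) (tt N9552 F65900) (tt N9572 F65901) (tt N9744 F65902) (tt N10032 F65903) (tt N10799 D17257) (tt N9551 (iv D16667)))
theorem Q10211 : ∀ i, i < 10211 → P i := stepQ 10210 Q10210 (allL N10210 (tt N10797 (iv F68086)) (tt N9558 F65904) (tt N9684 F65905) (tt N10800 D17258) (tt N9553 F65906) (tt N9930 F65907) (tt N10564 (iv F67211)) (tt N9552 (iv D16668)) (tt N9929 F65908))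
theorem Q10212 : ∀ i, i < 10212 → P i := stepQ 10211 Q10211 (allL N10211 (tt N10798 (iv F68093)) (tt N9559 F65909) (tt N10794 (iv F68072)) (tt N9553 (iv D16669)) (tt N10801 D17259) (tt N9839 F65910) (tt N10795 (iv F68080)) (tt N9575 F65911) (tt N10436 (iv F66803)))
theorem Q10213 : ∀ i, i < 10213 → P i := stepQ 10212 Q10212 (allL N10212 (tt N10027 F65912) (tt N9744 F65913) (tt N10212 F65914) (tt N9557 F65915) (tt N10391 (iv F66625)) (tt N9555 F65916) (tt N9756 F65917) (tt N10802 D17260) (tt N9554 (iv D16670)))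
theorem Q10214 : ∀ i, i < 10214 → P i := stepQ 10213 Q10213 (allL N10213 (tt N10726 (iv F67753)) (tt N10799 (iv F68098)) (tt N10213 F65918) (tt N10803 D17261) (tt N9581 F65919) (tt N10802 (iv F68113)) (tt N10744 (iv F67850)) (tt N9555 (iv D16671)) (tt N10734 (iv F67800)))
theorem Q10215 : ∀ i, i < 10215 → P i := stepQ 10214 Q10214 (allL N10214 (tt N10472 (iv F66927)) (tt N9731 F65920) (tt N9560 F65921) (tt N9756 F65922) (tt N9845 F65923) (tt N10369 (iv F66546)) (tt N9557 F65924) (tt N10804 D17262) (tt N9556 (iv D16672)))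
theorem Q10216 : ∀ i, i < 10216 → P i := stepQ 10215 Q10215 (allL N10215 (tt N10727 (iv F67760)) (tt N9930 F65925) (tt N9561 F65926) (tt N10805 D17263) (tt N9846 F65927) (tt N9558 F65928) (tt N10804 (iv F68120)) (tt N9557 (iv D16673)) (tt N9932 F65929))
theorem Q10217 : ∀ i, i < 10217 → P i := stepQ 10216 Q10216 (allL N10216 (tt N10728 (iv F67766)) (tt N10800 (iv F68104)) (tt N10806 D17264) (tt N9558 (iv D16674)) (tt N10807 D17265) (tt N10805 (iv F68123)) (tt N10775 (iv F67986)) (tt N10803 (iv F68116)) (tt N10437 (iv F66807)))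
theorem Q10218 : ∀ i, i < 10218 → P i := stepQ 10217 Q10217 (allL N10217 (tt N10729 (iv F67769)) (tt N10801 (iv F68108)) (tt N10070 F65930) (tt N10807 (iv F68126)) (tt N9559 (iv D16675)) (tt N10808 D17266) (tt N10796 (iv F68084)) (tt N9585 F65931) (tt N10438 (iv F66810)))
theorem Q10219 : ∀ i, i < 10219 → P i := stepQ 10218 Q10218 (allL N10218 (tt N10599 (iv F67354)) (tt N9685 F65932) (tt N10804 (iv F68118)) (tt N10126 (iv F65936)) (tt N9849 F65933) (tt N10562 (iv F67198)) (tt N9561 F65934) (tt N9560 (iv D16676)) (tt N9989 F65935))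
theorem Q10220 : ∀ i, i < 10220 → P i := stepQ 10219 Q10219 (allL N10219 (tt N10730 (iv F67772)) (tt N9686 F65937) (tt N10809 D17267) (tt N9561 (iv D16677)) (tt N10810 D17268) (tt N9562 F65938) (tt N10126 F65939) (tt N10219 F65940) (tt N9981 F65941))
theorem Q10221 : ∀ i, i < 10221 → P i := stepQ 10220 Q10220 (allL N10220 (tt N10731 (iv F67778)) (tt N10811 D17269) (tt N9562 (iv D16678)) (tt N10806 (iv F68125)) (tt N10073 F65942) (tt N10809 (iv F68131)) (tt N10786 (iv F68027)) (tt N10220 F65943) (tt N10439 (iv F66815)))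
theorem Q10222 : ∀ i, i < 10222 → P i := stepQ 10221 Q10221 (allL N10221 (tt N10732 (iv F67783)) (tt N9695 F65944) (tt N9575 F65945) (tt N9563 (iv D16679)) (tt N10812 D17270) (tt N9567 F65946) (tt N9806 F65947) (tt N10794 (iv F68075)) (tt N9591 F65948))
theorem Q10223 : ∀ i, i < 10223 → P i := stepQ 10222 Q10222 (allL N10222 (tt N9820 F65949) (tt N9567 F65950) (tt N9806 F65951) (tt N9564 (iv D16680)) (tt N10813 D17271) (tt N9695 F65952) (tt N9575 F65953) (tt N10795 (iv F68081)) (tt N9596 F65954))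
theorem Q10224 : ∀ i, i < 10224 → P i := stepQ 10223 Q10223 (allL N10223 (tt N10734 (iv F67794)) (tt N10034 F65955) (tt N10223 F65956) (tt N10814 D17272) (tt N10744 (iv F67849)) (tt N10028 F65957) (tt N9581 F65958) (tt N9565 (iv D16681)) (tt N10726 (iv F67759)))
theorem Q10225 : ∀ i, i < 10225 → P i := stepQ 10224 Q10224 (allL N10224 (tt N10735 (iv F67801)) (tt N10037 F65959) (tt N10815 D17273) (tt N9566 (iv D16682)) (tt N10816 D17274) (tt N10029 F65960) (tt N9584 F65961) (tt N10814 (iv F68160)) (tt N9602 F65962))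
theorem Q10226 : ∀ i, i < 10226 → P i := stepQ 10225 Q10225 (allL N10225 (tt N10736 (iv F67806)) (tt N10813 (iv F68152)) (tt N9865 F65963) (tt N10816 (iv F68166)) (tt N9567 (iv D16683)) (tt N10817 D17275) (tt N9585 F65964) (tt N10796 (iv F68085)) (tt N9603 F65965))
theorem Q10227 : ∀ i, i < 10227 → P i := stepQ 10226 Q10226 (allL N10226 (tt N10737 (iv F67810)) (tt N10818 D17276) (tt N9568 (iv D16684)) (tt N10815 (iv F68161)) (tt N9937 F65966) (tt N10058 F65967) (tt N9588 F65968) (tt N10226 F65969) (tt N9606 F65970))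
theorem Q10228 : ∀ i, i < 10228 → P i := stepQ 10227 Q10227 (allL N10227 (tt N9575 F65971) (tt N10738 (iv F67818)) (tt N10732 (iv F67785)) (tt N9569 (iv D16685)) (tt N10819 D17277) (tt N9857 F65972) (tt N9820 F65973) (tt N10798 (iv F68096)) (tt N9612 F65974))
theorem Q10229 : ∀ i, i < 10229 → P i := stepQ 10228 Q10228 (allL N10228 (tt N9895 F65975) (tt N9579 F65976) (tt N9958 F65977) (tt N9573 F65978) (tt N10521 (iv F67084)) (tt N9572 F65979) (tt N9888 F65980) (tt N10820 D17278) (tt N9570 (iv D16686)))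
theorem Q10230 : ∀ i, i < 10230 → P i := stepQ 10229 Q10229 (allL N10229 (tt N9876 F65981) (tt N9580 F65982) (tt N9774 F65983) (tt N9617 F65984) (tt N9743 F65985) (tt N10520 (iv F67079)) (tt N10033 F65986) (tt N10821 D17279) (tt N9571 (iv D16687)))
theorem Q10231 : ∀ i, i < 10231 → P i := stepQ 10230 Q10230 (allL N10230 (tt N10085 F65987) (tt N9581 F65988) (tt N10044 F65989) (tt N10822 D17280) (tt N10799 (iv F68100)) (tt N10820 (iv F68185)) (tt N10034 F65990) (tt N9572 (iv D16688)) (tt N10821 (iv F68192)))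
theorem Q10232 : ∀ i, i < 10232 → P i := stepQ 10231 Q10231 (allL N10231 (tt N9900 F65991) (tt N9583 F65992) (tt N9658 F65993) (tt N10823 D17281) (tt N9863 F65994) (tt N9574 F65995) (tt N9891 F65996) (tt N9573 (iv D16689)) (tt N9620 F65997))
theorem Q10233 : ∀ i, i < 10233 → P i := stepQ 10232 Q10232 (allL N10232 (tt N10091 F65998) (tt N9584 F65999) (tt N10824 D17282) (tt N9574 (iv D16690)) (tt N10825 D17283) (tt N10823 (iv F68199)) (tt N10037 F66000) (tt N10822 (iv F68196)) (tt N9621 F66001))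
theorem Q10234 : ∀ i, i < 10234 → P i := stepQ 10233 Q10233 (allL N10233 (tt N10819 (iv F68178)) (tt N9585 F66002) (tt N10812 (iv F68147)) (tt N10825 (iv F68209)) (tt N9575 (iv D16691)) (tt N10826 D17284) (tt N10813 (iv F68155)) (tt N10801 (iv F68109)) (tt N9622 F66003))
theorem Q10235 : ∀ i, i < 10235 → P i := stepQ 10234 Q10234 (allL N10234 (tt N10397 (iv F66650)) (tt N10521 (iv F67081)) (tt N10234 F66004) (tt N9866 F66005) (tt N9579 F66006) (tt N10391 (iv F66626)) (tt N10236 (iv F66017)) (tt N10827 D17285) (tt N9576 (iv D16692)))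
theorem Q10236 : ∀ i, i < 10236 → P i := stepQ 10235 Q10235 (allL N10235 (tt N9755 F66007) (tt N9888 F66008) (tt N10235 F66009) (tt N9582 F66010) (tt N10236 (iv F66015)) (tt N9750 F66011) (tt N9579 F66012) (tt N10828 D17286) (tt N9577 (iv D16693)))
theorem Q10237 : ∀ i, i < 10237 → P i := stepQ 10236 Q10236 (allL N10236 (tt N10396 (iv F66644)) (tt N10520 (iv F67075)) (tt N10236 F66013) (tt N9625 F66014) (tt N10235 F66015) (tt N9580 F66016) (tt N10234 F66017) (tt N10829 D17287) (tt N9578 (iv D16694)))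
theorem Q10238 : ∀ i, i < 10238 → P i := stepQ 10237 Q10237 (allL N10237 (tt N10743 (iv F67841)) (tt N10820 (iv F68183)) (tt N10237 F66018) (tt N10830 D17288) (tt N10827 (iv F68216)) (tt N9581 F66019) (tt N10828 (iv F68221)) (tt N9579 (iv D16695)) (tt N10829 (iv F68227)))
theorem Q10239 : ∀ i, i < 10239 → P i := stepQ 10238 Q10238 (allL N10238 (tt N10744 (iv F67846)) (tt N10821 (iv F68188)) (tt N10238 F66020) (tt N10831 D17289) (tt N10734 (iv F67797)) (tt N10829 (iv F68225)) (tt N10726 (iv F67758)) (tt N9580 (iv D16696)) (tt N9581 F66021))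
theorem Q10240 : ∀ i, i < 10240 → P i := stepQ 10239 Q10239 (allL N10239 (tt N10745 (iv F67852)) (tt N10822 (iv F68194)) (tt N10832 D17290) (tt N9581 (iv D16697)) (tt N10833 D17291) (tt N10830 (iv F68228)) (tt N10814 (iv F68159)) (tt N9584 F66022) (tt N10831 (iv F68231)))
theorem Q10241 : ∀ i, i < 10241 → P i := stepQ 10240 Q10240 (allL N10240 (tt N9758 F66023) (tt N9891 F66024) (tt N9586 F66025) (tt N10834 D17292) (tt N9872 F66026) (tt N9751 F66027) (tt N9583 F66028) (tt N9582 (iv D16698)) (tt N9629 F66029))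
theorem Q10242 : ∀ i, i < 10242 → P i := stepQ 10241 Q10241 (allL N10241 (tt N10746 (iv F67854)) (tt N10823 (iv F68198)) (tt N10835 D17293) (tt N9583 (iv D16699)) (tt N10836 D17294) (tt N9584 F66030) (tt N10834 (iv F68238)) (tt N10830 (iv F68229)) (tt N9630 F66031))
theorem Q10243 : ∀ i, i < 10243 → P i := stepQ 10242 Q10242 (allL N10242 (tt N10747 (iv F67859)) (tt N10837 D17295) (tt N9584 (iv D16700)) (tt N9588 F66032) (tt N10838 D17296) (tt N10835 (iv F68241)) (tt N10815 (iv F68163)) (tt N10832 (iv F68233)) (tt N9631 F66033))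
theorem Q10244 : ∀ i, i < 10244 → P i := stepQ 10243 Q10243 (allL N10243 (tt N10748 (iv F67862)) (tt N10825 (iv F68208)) (tt N10838 (iv F68248)) (tt N9585 F66034) (tt N9584 (iv D16701)) (tt N10839 D17297) (tt N10816 (iv F68167)) (tt N10833 (iv F68234)) (tt N9632 F66035))
theorem Q10245 : ∀ i, i < 10245 → P i := stepQ 10244 Q10244 (allL N10244 (tt N10749 (iv F67865)) (tt N10826 (iv F68212)) (tt N10082 F66036) (tt N10839 (iv F68251)) (tt N9875 F66037) (tt N9585 (iv D16702)) (tt N10840 D17298) (tt N10808 (iv F68129)) (tt N9633 F66038))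
theorem Q10246 : ∀ i, i < 10246 → P i := stepQ 10245 Q10245 (allL N10245 (tt N10750 (iv F67869)) (tt N10841 D17299) (tt N9587 (iv D16703)) (tt N10835 (iv F68240)) (tt N10789 (iv F68042)) (tt N9588 F66039) (tt N10791 (iv F68057)) (tt N10245 F66040) (tt N9634 F66041))
theorem Q10247 : ∀ i, i < 10247 → P i := stepQ 10246 Q10246 (allL N10246 (tt N10842 D17300) (tt N9588 (iv D16704)) (tt N9661 F66042) (tt N10837 (iv F68246)) (tt N9798 F66043) (tt N10841 (iv F68259)) (tt N10818 (iv F68174)) (tt N10246 F66044) (tt N9635 F66045))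
theorem Q10248 : ∀ i, i < 10248 → P i := stepQ 10247 Q10247 (allL N10247 (tt N10673 (iv F67604)) (tt N9688 F66046) (tt N10247 F66047) (tt N10843 D17301) (tt N10252 (iv F66073)) (tt N10014 F66048) (tt N9811 F66049) (tt N9589 (iv D16705)) (tt N10133 F66050))
theorem Q10249 : ∀ i, i < 10249 → P i := stepQ 10248 Q10248 (allL N10248 (tt N10753 (iv F67889)) (tt N9689 F66051) (tt N10844 D17302) (tt N9590 (iv D16706)) (tt N10845 D17303) (tt N10021 F66052) (tt N9813 F66053) (tt N10843 (iv F68273)) (tt N9693 F66054))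
theorem Q10250 : ∀ i, i < 10250 → P i := stepQ 10249 Q10249 (allL N10249 (tt N10754 (iv F67894)) (tt N9808 F66055) (tt N9622 F66056) (tt N10845 (iv F68281)) (tt N9591 (iv D16707)) (tt N10846 D17304) (tt N9814 F66057) (tt N10254 (iv F66084)) (tt N10812 (iv F68150)))
theorem Q10251 : ∀ i, i < 10251 → P i := stepQ 10250 Q10250 (allL N10250 (tt N10755 (iv F67897)) (tt N9791 F66058) (tt N9592 (iv D16708)) (tt N10844 (iv F68276)) (tt N9671 F66059) (tt N10055 F66060) (tt N9826 F66061) (tt N10250 F66062) (tt N9699 F66063))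
theorem Q10252 : ∀ i, i < 10252 → P i := stepQ 10251 Q10251 (allL N10251 (tt N9596 F66064) (tt N10756 (iv F67905)) (tt N9738 F66065) (tt N9593 (iv D16709)) (tt N10847 D17305) (tt N9691 F66066) (tt N9612 F66067) (tt N10160 F66068) (tt N9820 F66069))
theorem Q10253 : ∀ i, i < 10253 → P i := stepQ 10252 Q10252 (allL N10252 (tt N10076 F66070) (tt N9599 F66071) (tt N10252 F66072) (tt N10848 D17306) (tt N10247 F66073) (tt N10023 F66074) (tt N9618 F66075) (tt N9594 (iv D16710)) (tt N10724 (iv F67749)))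
theorem Q10254 : ∀ i, i < 10254 → P i := stepQ 10253 Q10253 (allL N10253 (tt N10079 F66076) (tt N9602 F66077) (tt N10849 D17307) (tt N9595 (iv D16711)) (tt N10850 D17308) (tt N10024 F66078) (tt N9621 F66079) (tt N10848 (iv F68297)) (tt N10037 F66080))
theorem Q10255 : ∀ i, i < 10255 → P i := stepQ 10254 Q10254 (allL N10254 (tt N10847 (iv F68287)) (tt N9603 F66081) (tt N9814 F66082) (tt N10850 (iv F68305)) (tt N9596 (iv D16712)) (tt N10851 D17309) (tt N9622 F66083) (tt N10249 F66084) (tt N10813 (iv F68156)))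
theorem Q10256 : ∀ i, i < 10256 → P i := stepQ 10255 Q10255 (allL N10255 (tt N9725 F66085) (tt N9855 F66086) (tt N9636 F66087) (tt N9600 F66088) (tt N10473 (iv F66937)) (tt N9624 F66089) (tt N9598 F66090) (tt N10852 D17310) (tt N9597 (iv D16713)))
theorem Q10257 : ∀ i, i < 10257 → P i := stepQ 10256 Q10256 (allL N10256 (tt N9932 F66091) (tt N10023 F66092) (tt N9637 F66093) (tt N10853 D17311) (tt N10615 (iv F67430)) (tt N9599 F66094) (tt N10852 (iv F68316)) (tt N9598 (iv D16714)) (tt N10727 (iv F67765)))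
theorem Q10258 : ∀ i, i < 10258 → P i := stepQ 10257 Q10257 (allL N10257 (tt N10437 (iv F66804)) (tt N10848 (iv F68294)) (tt N10854 D17312) (tt N9599 (iv D16715)) (tt N10855 D17313) (tt N10853 (iv F68319)) (tt N9628 F66095) (tt N9602 F66096) (tt N10728 (iv F67768)))
theorem Q10259 : ∀ i, i < 10259 → P i := stepQ 10258 Q10258 (allL N10258 (tt N9726 F66097) (tt N9856 F66098) (tt N9604 F66099) (tt N10856 D17314) (tt N9724 F66100) (tt N9629 F66101) (tt N9601 F66102) (tt N9600 (iv D16716)) (tt N9751 F66103))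
theorem Q10260 : ∀ i, i < 10260 → P i := stepQ 10259 Q10259 (allL N10259 (tt N9915 F66104) (tt N10024 F66105) (tt N10857 D17315) (tt N9601 (iv D16717)) (tt N10858 D17316) (tt N9602 F66106) (tt N10856 (iv F68330)) (tt N10853 (iv F68320)) (tt N10029 F66107))
theorem Q10261 : ∀ i, i < 10261 → P i := stepQ 10260 Q10260 (allL N10260 (tt N10759 (iv F67917)) (tt N10859 D17317) (tt N9602 (iv D16718)) (tt N9606 F66108) (tt N10860 D17318) (tt N10857 (iv F68334)) (tt N9631 F66109) (tt N10854 (iv F68323)) (tt N10815 (iv F68164)))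
theorem Q10262 : ∀ i, i < 10262 → P i := stepQ 10261 Q10261 (allL N10261 (tt N10760 (iv F67922)) (tt N10850 (iv F68304)) (tt N10860 (iv F68343)) (tt N9603 F66110) (tt N9602 (iv D16719)) (tt N10861 D17319) (tt N9632 F66111) (tt N10855 (iv F68325)) (tt N10816 (iv F68168)))
theorem Q10263 : ∀ i, i < 10263 → P i := stepQ 10262 Q10262 (allL N10262 (tt N10761 (iv F67926)) (tt N10851 (iv F68308)) (tt N9904 F66112) (tt N10861 (iv F68346)) (tt N10846 (iv F68286)) (tt N9603 (iv D16720)) (tt N10862 D17320) (tt N10442 (iv F66822)) (tt N10817 (iv F68170)))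
theorem Q10264 : ∀ i, i < 10264 → P i := stepQ 10263 Q10263 (allL N10263 (tt N9943 F66113) (tt N10863 D17321) (tt N9605 (iv D16721)) (tt N10857 (iv F68333)) (tt N10864 D17322) (tt N9606 F66114) (tt N10101 F66115) (tt N9641 F66116) (tt N10058 F66117))
theorem Q10265 : ∀ i, i < 10265 → P i := stepQ 10264 Q10264 (allL N10264 (tt N9666 F66118) (tt N9665 F66119) (tt N10864 (iv F68358)) (tt N10056 F66120) (tt N9605 (iv D16722)) (tt N9942 F66121) (tt N9677 F66122) (tt N9642 F66123) (tt N10059 F66124))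
theorem Q10266 : ∀ i, i < 10266 → P i := stepQ 10265 Q10265 (allL N10265 (tt N10864 (iv F68356)) (tt N9606 (iv D16723)) (tt N9666 F66125) (tt N10859 (iv F68341)) (tt N9943 F66126) (tt N10863 (iv F68351)) (tt N9635 F66127) (tt N9643 F66128) (tt N10818 (iv F68176)))
theorem Q10267 : ∀ i, i < 10267 → P i := stepQ 10266 Q10266 (allL N10266 (tt N9616 F66129) (tt N9867 F66130) (tt N10266 F66131) (tt N9610 F66132) (tt N10274 (iv F66169)) (tt N9609 F66133) (tt N9860 F66134) (tt N10865 D17323) (tt N9607 (iv D16724)))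
theorem Q10268 : ∀ i, i < 10268 → P i := stepQ 10267 Q10267 (allL N10267 (tt N9617 F66135) (tt N9815 F66136) (tt N10267 F66137) (tt N9876 F66138) (tt N9809 F66139) (tt N10272 (iv F66159)) (tt N10075 F66140) (tt N10866 D17324) (tt N9608 (iv D16725)))
theorem Q10269 : ∀ i, i < 10269 → P i := stepQ 10268 Q10268 (allL N10268 (tt N9618 F66141) (tt N10762 (iv F67929)) (tt N10268 F66142) (tt N10867 D17325) (tt N10377 (iv F66579)) (tt N10865 (iv F68366)) (tt N10076 F66143) (tt N9609 (iv D16726)) (tt N10866 (iv F68373)))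
theorem Q10270 : ∀ i, i < 10270 → P i := stepQ 10269 Q10269 (allL N10269 (tt N9620 F66144) (tt N9872 F66145) (tt N9667 F66146) (tt N10868 D17326) (tt N9891 F66147) (tt N9611 F66148) (tt N9863 F66149) (tt N9610 (iv D16727)) (tt N9900 F66150))
theorem Q10271 : ∀ i, i < 10271 → P i := stepQ 10270 Q10270 (allL N10270 (tt N9621 F66151) (tt N10763 (iv F67936)) (tt N10869 D17327) (tt N9611 (iv D16728)) (tt N10870 D17328) (tt N10868 (iv F68379)) (tt N10079 F66152) (tt N10867 (iv F68376)) (tt N10091 F66153))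
theorem Q10272 : ∀ i, i < 10272 → P i := stepQ 10271 Q10271 (allL N10271 (tt N9622 F66154) (tt N10765 (iv F67946)) (tt N10754 (iv F67895)) (tt N10870 (iv F68387)) (tt N9612 (iv D16729)) (tt N10871 D17329) (tt N10847 (iv F68290)) (tt N10379 (iv F66582)) (tt N10819 (iv F68181)))
theorem Q10273 : ∀ i, i < 10273 → P i := stepQ 10272 Q10272 (allL N10272 (tt N10274 (iv F66166)) (tt N9623 F66155) (tt N10272 F66156) (tt N9894 F66157) (tt N9616 F66158) (tt N10267 F66159) (tt N10492 (iv F66993)) (tt N10872 D17330) (tt N9613 (iv D16730)))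
theorem Q10274 : ∀ i, i < 10274 → P i := stepQ 10273 Q10273 (allL N10273 (tt N9860 F66160) (tt N9624 F66161) (tt N10273 F66162) (tt N9619 F66163) (tt N10492 (iv F66991)) (tt N9855 F66164) (tt N9616 F66165) (tt N10873 D17331) (tt N9614 (iv D16731)))
theorem Q10275 : ∀ i, i < 10275 → P i := stepQ 10274 Q10274 (allL N10274 (tt N10272 F66166) (tt N9625 F66167) (tt N10274 F66168) (tt N10520 (iv F67077)) (tt N10266 F66169) (tt N9617 F66170) (tt N10491 (iv F66986)) (tt N10874 D17332) (tt N9615 (iv D16732)))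
theorem Q10276 : ∀ i, i < 10276 → P i := stepQ 10275 Q10275 (allL N10275 (tt N10865 (iv F68363)) (tt N9626 F66171) (tt N10275 F66172) (tt N10875 D17333) (tt N10872 (iv F68394)) (tt N9618 F66173) (tt N10873 (iv F68401)) (tt N9616 (iv D16733)) (tt N10874 (iv F68407)))
theorem Q10277 : ∀ i, i < 10277 → P i := stepQ 10276 Q10276 (allL N10276 (tt N10866 (iv F68368)) (tt N9627 F66174) (tt N10276 F66175) (tt N10876 D17334) (tt N10444 (iv F66830)) (tt N10874 (iv F68406)) (tt N10724 (iv F67748)) (tt N9617 (iv D16734)) (tt N9618 F66176))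
theorem Q10278 : ∀ i, i < 10278 → P i := stepQ 10277 Q10277 (allL N10277 (tt N10867 (iv F68374)) (tt N9628 F66177) (tt N10877 D17335) (tt N9618 (iv D16735)) (tt N10878 D17336) (tt N10875 (iv F68409)) (tt N10848 (iv F68296)) (tt N9621 F66178) (tt N10876 (iv F68412)))
theorem Q10279 : ∀ i, i < 10279 → P i := stepQ 10278 Q10278 (allL N10278 (tt N9863 F66179) (tt N9629 F66180) (tt N9669 F66181) (tt N10879 D17337) (tt N9900 F66182) (tt N9856 F66183) (tt N9620 F66184) (tt N9619 (iv D16736)) (tt N9891 F66185))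
theorem Q10280 : ∀ i, i < 10280 → P i := stepQ 10279 Q10279 (allL N10279 (tt N10868 (iv F68377)) (tt N9630 F66186) (tt N10880 D17338) (tt N9620 (iv D16737)) (tt N10881 D17339) (tt N9621 F66187) (tt N10879 (iv F68420)) (tt N10875 (iv F68410)) (tt N10823 (iv F68201)))
theorem Q10281 : ∀ i, i < 10281 → P i := stepQ 10280 Q10280 (allL N10280 (tt N10869 (iv F68382)) (tt N10882 D17340) (tt N9621 (iv D16738)) (tt N9671 F66188) (tt N10883 D17341) (tt N10880 (iv F68423)) (tt N10849 (iv F68301)) (tt N10877 (iv F68414)) (tt N10824 (iv F68205)))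
theorem Q10282 : ∀ i, i < 10282 → P i := stepQ 10281 Q10281 (allL N10281 (tt N10870 (iv F68386)) (tt N9632 F66189) (tt N10883 (iv F68429)) (tt N9622 F66190) (tt N9621 (iv D16739)) (tt N10884 D17342) (tt N10850 (iv F68306)) (tt N10878 (iv F68416)) (tt N10825 (iv F68211)))
theorem Q10283 : ∀ i, i < 10283 → P i := stepQ 10282 Q10282 (allL N10282 (tt N10871 (iv F68390)) (tt N9633 F66191) (tt N10846 (iv F68285)) (tt N10884 (iv F68431)) (tt N9904 F66192) (tt N9622 (iv D16740)) (tt N10885 D17343) (tt N10449 (iv F66843)) (tt N10826 (iv F68214)))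
theorem Q10284 : ∀ i, i < 10284 → P i := stepQ 10283 Q10283 (allL N10283 (tt N10704 (iv F67659)) (tt N10872 (iv F68392)) (tt N9644 F66193) (tt N10886 D17344) (tt N9626 F66194) (tt N10450 (iv F66846)) (tt N10502 (iv F67027)) (tt N9623 (iv D16741)) (tt N10501 (iv F67023)))
theorem Q10285 : ∀ i, i < 10285 → P i := stepQ 10284 Q10284 (allL N10284 (tt N10772 (iv F67971)) (tt N10873 (iv F68398)) (tt N9645 F66195) (tt N10887 D17345) (tt N10502 (iv F67025)) (tt N10852 (iv F68315)) (tt N9626 F66196) (tt N9624 (iv D16742)) (tt N10500 (iv F67019)))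
theorem Q10286 : ∀ i, i < 10286 → P i := stepQ 10285 Q10285 (allL N10285 (tt N10773 (iv F67976)) (tt N10874 (iv F68403)) (tt N9646 F66197) (tt N10888 D17346) (tt N10501 (iv F67021)) (tt N9627 F66198) (tt N10500 (iv F67018)) (tt N9625 (iv D16743)) (tt N9626 F66199))
theorem Q10287 : ∀ i, i < 10287 → P i := stepQ 10286 Q10286 (allL N10286 (tt N10774 (iv F67982)) (tt N10875 (iv F68408)) (tt N10889 D17347) (tt N9626 (iv D16744)) (tt N10890 D17348) (tt N9628 F66200) (tt N10887 (iv F68435)) (tt N9630 F66201) (tt N10888 (iv F68438)))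
theorem Q10288 : ∀ i, i < 10288 → P i := stepQ 10287 Q10287 (allL N10287 (tt N10775 (iv F67985)) (tt N10876 (iv F68411)) (tt N10891 D17349) (tt N9627 (iv D16745)) (tt N10892 D17350) (tt N10888 (iv F68437)) (tt N10728 (iv F67767)) (tt N10831 (iv F68230)) (tt N9628 F66202))
theorem Q10289 : ∀ i, i < 10289 → P i := stepQ 10288 Q10288 (allL N10288 (tt N10776 (iv F67988)) (tt N10893 D17351) (tt N9628 (iv D16746)) (tt N9649 F66203) (tt N10894 D17352) (tt N10889 (iv F68440)) (tt N10854 (iv F68322)) (tt N9631 F66204) (tt N10891 (iv F68444)))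
theorem Q10290 : ∀ i, i < 10290 → P i := stepQ 10289 Q10289 (allL N10289 (tt N10777 (iv F67991)) (tt N10878 (iv F68415)) (tt N10894 (iv F68448)) (tt N10454 (iv F66859)) (tt N9628 (iv D16747)) (tt N10895 D17353) (tt N10855 (iv F68324)) (tt N9632 F66205) (tt N10892 (iv F68445)))
theorem Q10291 : ∀ i, i < 10291 → P i := stepQ 10290 Q10290 (allL N10290 (tt N10778 (iv F67993)) (tt N10879 (iv F68418)) (tt N10792 (iv F68063)) (tt N9629 (iv D16748)) (tt N10896 D17354) (tt N10856 (iv F68329)) (tt N9630 F66206) (tt N10887 (iv F68436)) (tt N10834 (iv F68239)))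
theorem Q10292 : ∀ i, i < 10292 → P i := stepQ 10291 Q10291 (allL N10291 (tt N10779 (iv F67999)) (tt N10897 D17355) (tt N9630 (iv D16749)) (tt N9634 F66207) (tt N10898 D17356) (tt N9631 F66208) (tt N10792 (iv F68065)) (tt N10889 (iv F68441)) (tt N10835 (iv F68242)))
theorem Q10293 : ∀ i, i < 10293 → P i := stepQ 10292 Q10292 (allL N10292 (tt N10780 (iv F68004)) (tt N10881 (iv F68424)) (tt N10898 (iv F68457)) (tt N9914 F66209) (tt N9630 (iv D16750)) (tt N10899 D17357) (tt N10896 (iv F68452)) (tt N10890 (iv F68442)) (tt N10836 (iv F68244)))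
theorem Q10294 : ∀ i, i < 10294 → P i := stepQ 10293 Q10293 (allL N10293 (tt N10900 D17358) (tt N9631 (iv D16751)) (tt N10882 (iv F68426)) (tt N9635 F66210) (tt N10901 D17359) (tt N10897 (iv F68455)) (tt N10859 (iv F68342)) (tt N10893 (iv F68447)) (tt N10837 (iv F68247)))
theorem Q10295 : ∀ i, i < 10295 → P i := stepQ 10294 Q10294 (allL N10294 (tt N10782 (iv F68010)) (tt N10901 (iv F68462)) (tt N9632 F66211) (tt N10095 F66212) (tt N9631 (iv D16752)) (tt N10902 D17360) (tt N10860 (iv F68345)) (tt N10894 (iv F68449)) (tt N10838 (iv F68250)))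
theorem Q10296 : ∀ i, i < 10296 → P i := stepQ 10295 Q10295 (allL N10295 (tt N10783 (iv F68013)) (tt N10884 (iv F68430)) (tt N10902 (iv F68464)) (tt N9633 F66213) (tt N10899 (iv F68459)) (tt N9632 (iv D16753)) (tt N10903 D17361) (tt N10895 (iv F68450)) (tt N10839 (iv F68252)))
theorem Q10297 : ∀ i, i < 10297 → P i := stepQ 10296 Q10296 (allL N10296 (tt N10784 (iv F68015)) (tt N10885 (iv F68432)) (tt N10097 F66214) (tt N10903 (iv F68466)) (tt N9918 F66215) (tt N10862 (iv F68348)) (tt N9633 (iv D16754)) (tt N10457 (iv F66865)) (tt N10840 (iv F68255)))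
theorem Q10298 : ∀ i, i < 10298 → P i := stepQ 10297 Q10297 (allL N10297 (tt N9799 (iv F66221)) (tt N9634 (iv D16755)) (tt N9676 F66216) (tt N10897 (iv F68454)) (tt N9796 F66217) (tt N9635 F66218) (tt N10060 F66219) (tt N9655 F66220) (tt N10841 (iv F68262)))
theorem Q10299 : ∀ i, i < 10299 → P i := stepQ 10298 Q10298 (allL N10298 (tt N9635 (iv D16756)) (tt N10785 (iv F68018)) (tt N9677 F66222) (tt N10900 (iv F68460)) (tt N10101 F66223) (tt N9799 F66224) (tt N10864 (iv F68360)) (tt N9656 F66225) (tt N10842 (iv F68269)))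
theorem Q10300 : ∀ i, i < 10300 → P i := stepQ 10299 Q10299 (allL N10299 (tt N9989 F66226) (tt N10299 F66227) (tt N10852 (iv F68314)) (tt N10128 F66228) (tt N10600 (iv F67362)) (tt N9645 F66229) (tt N9637 F66230) (tt N9636 (iv D16757)) (tt N10599 (iv F67359)))
theorem Q10301 : ∀ i, i < 10301 → P i := stepQ 10300 Q10300 (allL N10300 (tt N9981 F66231) (tt N10300 F66232) (tt N10904 D17362) (tt N9637 (iv D16758)) (tt N10905 D17363) (tt N9638 F66233) (tt N10128 F66234) (tt N9639 F66235) (tt N10730 (iv F67777)))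
theorem Q10302 : ∀ i, i < 10302 → P i := stepQ 10301 Q10301 (allL N10301 (tt N10439 (iv F66811)) (tt N10906 D17364) (tt N9638 (iv D16759)) (tt N10854 (iv F68321)) (tt N10360 (iv F66512)) (tt N10904 (iv F68468)) (tt N9649 F66236) (tt N9640 F66237) (tt N10731 (iv F67782)))
theorem Q10303 : ∀ i, i < 10303 → P i := stepQ 10302 Q10302 (allL N10302 (tt N9975 F66238) (tt N10907 D17365) (tt N9639 (iv D16760)) (tt N9641 F66239) (tt N10908 D17366) (tt N9640 F66240) (tt N10114 F66241) (tt N10904 (iv F68470)) (tt N10302 F66242))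
theorem Q10304 : ∀ i, i < 10304 → P i := stepQ 10303 Q10303 (allL N10303 (tt N9983 F66243) (tt N10303 F66244) (tt N10908 (iv F68485)) (tt N10303 F66245) (tt N9639 (iv D16761)) (tt N10596 (iv F67342)) (tt N10130 F66246) (tt N10905 (iv F68474)) (tt N10303 F66247))
theorem Q10305 : ∀ i, i < 10305 → P i := stepQ 10304 Q10304 (allL N10304 (tt N10909 D17367) (tt N9640 (iv D16762)) (tt N10304 F66248) (tt N9643 F66249) (tt N10597 (iv F67346)) (tt N10907 (iv F68481)) (tt N9653 F66250) (tt N10906 (iv F68477)) (tt N10304 F66251))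
theorem Q10306 : ∀ i, i < 10306 → P i := stepQ 10305 Q10305 (allL N10305 (tt N9991 F66252) (tt N9641 (iv D16763)) (tt N9678 F66253) (tt N10907 (iv F68480)) (tt N9990 (iv F66257)) (tt N9643 F66254) (tt N10054 F66255) (tt N10863 (iv F68353)) (tt N10305 F66256))
theorem Q10307 : ∀ i, i < 10307 → P i := stepQ 10306 Q10306 (allL N10306 (tt N9643 F66258) (tt N9990 F66259) (tt N9642 F66260) (tt N10909 (iv F68490)) (tt N9641 (iv D16764)) (tt N9991 F66261) (tt N9656 F66262) (tt N10864 (iv F68361)) (tt N10306 F66263))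
theorem Q10308 : ∀ i, i < 10308 → P i := stepQ 10307 Q10307 (allL N10307 (tt N10125 F66264) (tt N10307 F66265) (tt N10793 (iv F68068)) (tt N9645 (iv D16765)) (tt N10647 (iv F67515)) (tt N10128 F66266) (tt N9647 F66267) (tt N9651 F66268) (tt N10610 (iv F67409)))
theorem Q10309 : ∀ i, i < 10309 → P i := stepQ 10308 Q10308 (allL N10308 (tt N10707 (iv F67668)) (tt N10308 F66269) (tt N10910 D17368) (tt N9646 (iv D16766)) (tt N10648 (iv F67520)) (tt N9648 F66270) (tt N10610 (iv F67407)) (tt N10308 F66271) (tt N9647 F66272))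
theorem Q10310 : ∀ i, i < 10310 → P i := stepQ 10309 Q10309 (allL N10309 (tt N10709 (iv F67678)) (tt N10911 D17369) (tt N9647 (iv D16767)) (tt N10889 (iv F68439)) (tt N10649 (iv F67525)) (tt N9649 F66273) (tt N10793 (iv F68070)) (tt N9652 F66274) (tt N10910 (iv F68496)))
theorem Q10311 : ∀ i, i < 10311 → P i := stepQ 10310 Q10310 (allL N10310 (tt N10786 (iv F68025)) (tt N10912 D17370) (tt N9648 (iv D16768)) (tt N10891 (iv F68443)) (tt N10913 D17371) (tt N10910 (iv F68494)) (tt N10731 (iv F67780)) (tt N10310 F66275) (tt N9649 F66276))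
theorem Q10312 : ∀ i, i < 10312 → P i := stepQ 10311 Q10311 (allL N10311 (tt N9950 F66277) (tt N10311 F66278) (tt N10913 (iv F68506)) (tt N9948 F66279) (tt N9648 (iv D16769)) (tt N10651 (iv F67534)) (tt N10020 F66280) (tt N10311 F66281) (tt N9650 F66282))
theorem Q10313 : ∀ i, i < 10313 → P i := stepQ 10312 Q10312 (allL N10312 (tt N10914 D17372) (tt N9649 (iv D16770)) (tt N10312 F66283) (tt N10893 (iv F68446)) (tt N10915 D17373) (tt N10911 (iv F68498)) (tt N10906 (iv F68476)) (tt N9653 F66284) (tt N10912 (iv F68504)))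
theorem Q10314 : ∀ i, i < 10314 → P i := stepQ 10313 Q10313 (allL N10313 (tt N10462 (iv F66879)) (tt N10915 (iv F68513)) (tt N9650 F66285) (tt N10916 D17374) (tt N9649 (iv D16771)) (tt N10653 (iv F67542)) (tt N10360 (iv F66513)) (tt N9654 F66286) (tt N10913 (iv F68509)))
theorem Q10315 : ∀ i, i < 10315 → P i := stepQ 10314 Q10314 (allL N10314 (tt N9801 (iv F66292)) (tt N9652 (iv D16772)) (tt N10314 F66287) (tt N9655 F66288) (tt N10434 (iv F66795)) (tt N9653 F66289) (tt N10063 F66290) (tt N10911 (iv F68500)) (tt N10314 F66291))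
theorem Q10316 : ∀ i, i < 10316 → P i := stepQ 10315 Q10315 (allL N10315 (tt N9653 (iv D16773)) (tt N10788 (iv F68034)) (tt N10315 F66293) (tt N9656 F66294) (tt N10917 D17375) (tt N9801 F66295) (tt N10909 (iv F68492)) (tt N10914 (iv F68512)) (tt N10315 F66296))
theorem Q10317 : ∀ i, i < 10317 → P i := stepQ 10316 Q10316 (allL N10316 (tt N10917 (iv F68517)) (tt N9654 F66297) (tt N10316 F66298) (tt N10115 F66299) (tt N9653 (iv D16774)) (tt N10655 (iv F67553)) (tt N10597 (iv F67347)) (tt N10915 (iv F68515)) (tt N10316 F66300))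
theorem Q10318 : ∀ i, i < 10318 → P i := stepQ 10317 Q10317 (allL N10317 (tt N10059 F66301) (tt N9657 (iv D16775)) (tt N10818 (iv F68171)) (tt N9794 F66302) (tt N9792 F66303) (tt N10062 F66304) (tt N9661 F66305) (tt N10317 F66306) (tt N9666 F66307))
theorem Q10319 : ∀ i, i < 10319 → P i := stepQ 10318 Q10318 (allL N10318 (tt N10098 F66308) (tt N9799 F66309) (tt N9659 (iv D16776)) (tt N10824 (iv F68203)) (tt N9699 F66310) (tt N10785 (iv F68021)) (tt N10041 F66311) (tt N9702 F66312) (tt N9671 F66313))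
theorem Q10320 : ∀ i, i < 10320 → P i := stepQ 10319 Q10319 (allL N10319 (tt N9675 F66314) (tt N9660 (iv D16777)) (tt N10841 (iv F68257)) (tt N9677 F66315) (tt N9790 F66316) (tt N9661 F66317) (tt N10056 F66318) (tt N10319 F66319) (tt N9676 F66320))
theorem Q10321 : ∀ i, i < 10321 → P i := stepQ 10320 Q10320 (allL N10320 (tt N9661 (iv D16778)) (tt N9673 F66321) (tt N10842 (iv F68264)) (tt N9676 F66322) (tt N9795 F66323) (tt N9675 F66324) (tt N10059 F66325) (tt N10320 F66326) (tt N9677 F66327))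
theorem Q10322 : ∀ i, i < 10322 → P i := stepQ 10321 Q10321 (allL N10321 (tt N10083 F66328) (tt N10918 D17376) (tt N9662 (iv D16779)) (tt N10849 (iv F68299)) (tt N9826 F66329) (tt N10026 F66330) (tt N9671 F66331) (tt N10321 F66332) (tt N10041 F66333))
theorem Q10323 : ∀ i, i < 10323 → P i := stepQ 10322 Q10322 (allL N10322 (tt N10056 F66334) (tt N9663 (iv D16780)) (tt N10918 (iv F68522)) (tt N9666 F66335) (tt N9789 F66336) (tt N10057 F66337) (tt N9675 F66338) (tt N10322 F66339) (tt N9794 F66340))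
theorem Q10324 : ∀ i, i < 10324 → P i := stepQ 10323 Q10323 (allL N10323 (tt N9942 F66341) (tt N9664 (iv D16781)) (tt N10863 (iv F68350)) (tt N10057 F66342) (tt N9939 F66343) (tt N9666 F66344) (tt N10061 F66345) (tt N9678 F66346) (tt N10062 F66347))
theorem Q10325 : ∀ i, i < 10325 → P i := stepQ 10324 Q10324 (allL N10324 (tt N9671 F66348) (tt N10750 (iv F67870)) (tt N9668 (iv D16782)) (tt N10869 (iv F68383)) (tt N10755 (iv F67899)) (tt N10751 (iv F67878)) (tt N10083 F66349) (tt N10324 F66350) (tt N10098 F66351))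
theorem Q10326 : ∀ i, i < 10326 → P i := stepQ 10325 Q10325 (allL N10325 (tt N9936 F66352) (tt N9672 F66353) (tt N10919 D17377) (tt N9669 (iv D16783)) (tt N10062 F66354) (tt N9935 F66355) (tt N9670 F66356) (tt N10325 F66357) (tt N9939 F66358))
theorem Q10327 : ∀ i, i < 10327 → P i := stepQ 10326 Q10326 (allL N10326 (tt N10751 F67882) (tt N10842 (iv F68263)) (tt N9670 (iv D16784)) (tt N10880 (iv F68422)) (tt N10920 D17378) (tt N9671 F66359) (tt N10919 (iv F68532)) (tt N10326 F66360) (tt N10785 (iv F68024)))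
theorem Q10328 : ∀ i, i < 10328 → P i := stepQ 10327 Q10327 (allL N10327 (tt N10057 F66361) (tt N9674 F66362) (tt N10920 (iv F68537)) (tt N9942 F66363) (tt N9670 (iv D16785)) (tt N10056 F66364) (tt N10062 F66365) (tt N10327 F66366) (tt N10061 F66367))
theorem Q10329 : ∀ i, i < 10329 → P i := stepQ 10328 Q10328 (allL N10328 (tt N10841 (iv F68256)) (tt N9671 (iv D16786)) (tt N9675 F66368) (tt N10882 (iv F68427)) (tt N9791 F66369) (tt N10842 (iv F68266)) (tt N10918 (iv F68525)) (tt N10328 F66370) (tt N9799 F66371))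
theorem Q10330 : ∀ i, i < 10330 → P i := stepQ 10329 Q10329 (allL N10329 (tt N9684 F66372) (tt N10329 F66373) (tt N10797 (iv F68088)) (tt N9781 F66374) (tt N9683 F66375) (tt N9783 F66376) (tt N9823 F66377) (tt N9682 (iv D16787)) (tt N9782 F66378))
theorem Q10331 : ∀ i, i < 10331 → P i := stepQ 10330 Q10330 (allL N10330 (tt N10330 F66379) (tt N10810 (iv F68135)) (tt N9980 F66380) (tt N9955 F66381) (tt N9686 (iv D16788)) (tt N10121 F66382) (tt N10127 F66383) (tt N10330 F66384) (tt N9982 F66385))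
theorem Q10332 : ∀ i, i < 10332 → P i := stepQ 10331 Q10331 (allL N10331 (tt N10921 D17379) (tt N9687 (iv D16789)) (tt N10811 (iv F68141)) (tt N9968 F66386) (tt N10122 F66387) (tt N9970 F66388) (tt N10585 (iv F67297)) (tt N10331 F66389) (tt N9969 F66390))
theorem Q10333 : ∀ i, i < 10333 → P i := stepQ 10332 Q10332 (allL N10332 (tt N9804 F66391) (tt N10843 (iv F68270)) (tt N9718 F66392) (tt N9688 (iv D16790)) (tt N10922 D17380) (tt N10018 F66393) (tt N9819 F66394) (tt N9689 F66395) (tt N10137 F66396))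
theorem Q10334 : ∀ i, i < 10334 → P i := stepQ 10333 Q10333 (allL N10333 (tt N9807 F66397) (tt N10845 (iv F68280)) (tt N9735 F66398) (tt N9808 F66399) (tt N9689 (iv D16791)) (tt N10923 D17381) (tt N9821 F66400) (tt N10922 (iv F68552)) (tt N9696 F66401))
theorem Q10335 : ∀ i, i < 10335 → P i := stepQ 10334 Q10334 (allL N10334 (tt N10752 (iv F67883)) (tt N9691 F66402) (tt N10924 D17382) (tt N9690 (iv D16792)) (tt N10925 D17383) (tt N10756 (iv F67906)) (tt N9693 F66403) (tt N10163 F66404) (tt N9813 F66405))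
theorem Q10336 : ∀ i, i < 10336 → P i := stepQ 10335 Q10335 (allL N10335 (tt N9808 F66406) (tt N10925 (iv F68565)) (tt N9748 F66407) (tt N9807 F66408) (tt N9691 (iv D16793)) (tt N10926 D17384) (tt N9696 F66409) (tt N10165 F66410) (tt N9821 F66411))
theorem Q10337 : ∀ i, i < 10337 → P i := stepQ 10336 Q10336 (allL N10336 (tt N9693 F66412) (tt N9738 F66413) (tt N10927 D17385) (tt N9692 (iv D16794)) (tt N10928 D17386) (tt N9742 F66414) (tt N10752 (iv F67887)) (tt N10169 F66415) (tt N10753 (iv F67893)))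
theorem Q10338 : ∀ i, i < 10338 → P i := stepQ 10337 Q10337 (allL N10337 (tt N10927 (iv F68575)) (tt N9760 F66416) (tt N9693 (iv D16795)) (tt N9699 F66417) (tt N10929 D17387) (tt N10030 F66418) (tt N10924 (iv F68562)) (tt N10174 F66419) (tt N10844 (iv F68279)))
theorem Q10339 : ∀ i, i < 10339 → P i := stepQ 10338 Q10338 (allL N10338 (tt N10928 (iv F68580)) (tt N9696 F66420) (tt N10929 (iv F68584)) (tt N10812 (iv F68148)) (tt N9693 (iv D16796)) (tt N10930 D17388) (tt N10925 (iv F68567)) (tt N10175 F66421) (tt N10845 (iv F68283)))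
theorem Q10340 : ∀ i, i < 10340 → P i := stepQ 10339 Q10339 (allL N10339 (tt N9819 F66422) (tt N10794 (iv F68071)) (tt N9829 F66423) (tt N9694 (iv D16797)) (tt N10931 D17389) (tt N10795 (iv F68079)) (tt N9804 F66424) (tt N9695 F66425) (tt N10206 F66426))
theorem Q10341 : ∀ i, i < 10341 → P i := stepQ 10340 Q10340 (allL N10340 (tt N9821 F66427) (tt N10812 (iv F68146)) (tt N9853 F66428) (tt N9696 F66429) (tt N9695 (iv D16798)) (tt N10932 D17390) (tt N9807 F66430) (tt N10931 (iv F68593)) (tt N9808 F66431))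
theorem Q10342 : ∀ i, i < 10342 → P i := stepQ 10341 Q10341 (allL N10341 (tt N9822 F66432) (tt N10930 (iv F68586)) (tt N9772 F66433) (tt N10932 (iv F68597)) (tt N10040 F66434) (tt N9696 (iv D16799)) (tt N10933 D17391) (tt N10185 F66435) (tt N10923 (iv F68558)))
theorem Q10343 : ∀ i, i < 10343 → P i := stepQ 10342 Q10342 (allL N10342 (tt N10100 F66436) (tt N9793 F66437) (tt N9697 (iv D16800)) (tt N10924 (iv F68561)) (tt N10041 F66438) (tt N10716 (iv F67704)) (tt N9699 F66439) (tt N9700 F66440) (tt N9826 F66441))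
theorem Q10344 : ∀ i, i < 10344 → P i := stepQ 10343 Q10343 (allL N10343 (tt N9699 F66442) (tt N10716 (iv F67701)) (tt N9698 (iv D16801)) (tt N10927 (iv F68576)) (tt N10098 F66443) (tt N9793 F66444) (tt N10100 F66445) (tt N9701 F66446) (tt N10755 (iv F67903)))
theorem Q10345 : ∀ i, i < 10345 → P i := stepQ 10344 Q10344 (allL N10344 (tt N10111 F66447) (tt N9801 F66448) (tt N10050 F66449) (tt N9702 (iv D16802)) (tt N10203 F66450) (tt N10788 (iv F68037)) (tt N10051 F66451) (tt N10934 D17392) (tt N10344 F66452))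
theorem Q10346 : ∀ i, i < 10346 → P i := stepQ 10345 Q10345 (allL N10345 (tt N9802 F66453) (tt N10673 (iv F67605)) (tt N9704 F66454) (tt N10935 D17393) (tt N10423 (iv F66743)) (tt N9707 F66455) (tt N10451 (iv F66851)) (tt N9703 (iv D16803)) (tt N10208 F66456))
theorem Q10347 : ∀ i, i < 10347 → P i := stepQ 10346 Q10346 (allL N10346 (tt N10014 F66457) (tt N9707 F66458) (tt N10346 F66459) (tt N10936 D17394) (tt N10661 (iv F67568)) (tt N10673 (iv F67608)) (tt N9713 F66460) (tt N9705 (iv D16804)) (tt N10350 (iv F66479)))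
theorem Q10348 : ∀ i, i < 10348 → P i := stepQ 10347 Q10347 (allL N10347 (tt N9828 F66461) (tt N10661 (iv F67566)) (tt N9708 F66462) (tt N10937 D17395) (tt N9707 F66463) (tt N10426 (iv F66761)) (tt N9717 F66464) (tt N9706 (iv D16805)) (tt N10464 (iv F66893)))
theorem Q10349 : ∀ i, i < 10349 → P i := stepQ 10348 Q10348 (allL N10348 (tt N9829 F66465) (tt N10936 (iv F68614)) (tt N9819 F66466) (tt N9707 (iv D16806)) (tt N10938 D17396) (tt N10935 (iv F68610)) (tt N9718 F66467) (tt N9723 F66468) (tt N10465 (iv F66898)))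
theorem Q10350 : ∀ i, i < 10350 → P i := stepQ 10349 Q10349 (allL N10349 (tt N9712 F66469) (tt N9832 F66470) (tt N10349 F66471) (tt N10473 (iv F66936)) (tt N9710 F66472) (tt N10065 F66473) (tt N10013 F66474) (tt N10939 D17397) (tt N9709 (iv D16807)))
theorem Q10351 : ∀ i, i < 10351 → P i := stepQ 10350 Q10350 (allL N10350 (tt N9713 F66475) (tt N9833 F66476) (tt N10350 F66477) (tt N10940 D17398) (tt N10939 (iv F68628)) (tt N10723 (iv F67740)) (tt N10014 F66478) (tt N9710 (iv D16808)) (tt N10346 F66479))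
theorem Q10352 : ∀ i, i < 10352 → P i := stepQ 10351 Q10351 (allL N10351 (tt N10065 F66480) (tt N9716 F66481) (tt N10351 F66482) (tt N10354 (iv F66493)) (tt N10022 F66483) (tt N9712 F66484) (tt N10466 (iv F66903)) (tt N10941 D17399) (tt N9711 (iv D16809)))
theorem Q10353 : ∀ i, i < 10353 → P i := stepQ 10352 Q10352 (allL N10352 (tt N10939 (iv F68625)) (tt N9717 F66485) (tt N10352 F66486) (tt N10942 D17400) (tt N9713 F66487) (tt N10941 (iv F68641)) (tt N10661 (iv F67570)) (tt N9712 (iv D16810)) (tt N10612 (iv F67419)))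
theorem Q10354 : ∀ i, i < 10354 → P i := stepQ 10353 Q10353 (allL N10353 (tt N10940 (iv F68632)) (tt N9718 F66488) (tt N10943 D17401) (tt N9713 (iv D16811)) (tt N10944 D17402) (tt N10725 (iv F67751)) (tt N10936 (iv F68615)) (tt N9727 F66489) (tt N10613 (iv F67422)))
theorem Q10355 : ∀ i, i < 10355 → P i := stepQ 10354 Q10354 (allL N10354 (tt N9843 F66490) (tt N9845 F66491) (tt N9949 F66492) (tt N10351 F66493) (tt N9731 F66494) (tt N10067 F66495) (tt N9837 F66496) (tt N10945 D17403) (tt N9714 (iv D16812)))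
theorem Q10356 : ∀ i, i < 10356 → P i := stepQ 10355 Q10355 (allL N10355 (tt N9844 F66497) (tt N10664 (iv F67575)) (tt N9924 F66498) (tt N10946 D17404) (tt N9732 F66499) (tt N10477 (iv F66949)) (tt N9933 F66500) (tt N9715 (iv D16813)) (tt N10945 (iv F68654)))
theorem Q10357 : ∀ i, i < 10357 → P i := stepQ 10356 Q10356 (allL N10356 (tt N9846 F66501) (tt N10941 (iv F68638)) (tt N9719 F66502) (tt N10947 D17405) (tt N10727 (iv F67763)) (tt N9717 F66503) (tt N10474 (iv F66942)) (tt N9716 (iv D16814)) (tt N10615 (iv F67432)))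
theorem Q10358 : ∀ i, i < 10358 → P i := stepQ 10357 Q10357 (allL N10357 (tt N9847 F66504) (tt N10942 (iv F68643)) (tt N10948 D17406) (tt N9717 (iv D16815)) (tt N10949 D17407) (tt N10947 (iv F68659)) (tt N10937 (iv F68619)) (tt N10946 (iv F68657)) (tt N10616 (iv F67434)))
theorem Q10359 : ∀ i, i < 10359 → P i := stepQ 10358 Q10358 (allL N10358 (tt N9848 F66505) (tt N10944 (iv F68646)) (tt N10922 (iv F68549)) (tt N10949 (iv F68664)) (tt N9718 (iv D16816)) (tt N10950 D17408) (tt N10938 (iv F68623)) (tt N9735 F66506) (tt N10617 (iv F67437)))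
theorem Q10360 : ∀ i, i < 10360 → P i := stepQ 10359 Q10359 (allL N10359 (tt N9850 F66507) (tt N10359 F66508) (tt N10951 D17409) (tt N9719 (iv D16817)) (tt N10952 D17410) (tt N9720 F66509) (tt N10601 (iv F67369)) (tt N9992 F66510) (tt N10618 (iv F67442)))
theorem Q10361 : ∀ i, i < 10361 → P i := stepQ 10360 Q10360 (allL N10360 (tt N9851 F66511) (tt N10953 D17411) (tt N9720 (iv D16818)) (tt N10948 (iv F68661)) (tt N10301 F66512) (tt N10951 (iv F68668)) (tt N10313 F66513) (tt N9993 F66514) (tt N10619 (iv F67445)))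
theorem Q10362 : ∀ i, i < 10362 → P i := stepQ 10361 Q10361 (allL N10361 (tt N9806 F66515) (tt N10753 (iv F67890)) (tt N9820 F66516) (tt N9721 (iv D16819)) (tt N10954 D17412) (tt N9723 F66517) (tt N10732 (iv F67787)) (tt N10935 (iv F68611)) (tt N9738 F66518))
theorem Q10363 : ∀ i, i < 10363 → P i := stepQ 10362 Q10362 (allL N10362 (tt N10021 F66519) (tt N9723 F66520) (tt N10955 D17413) (tt N9722 (iv D16820)) (tt N10956 D17414) (tt N10753 (iv F67891)) (tt N9727 F66521) (tt N10936 (iv F68616)) (tt N9742 F66522))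
theorem Q10364 : ∀ i, i < 10364 → P i := stepQ 10363 Q10363 (allL N10363 (tt N9853 F66523) (tt N10956 (iv F68687)) (tt N9821 F66524) (tt N9916 F66525) (tt N9723 (iv D16821)) (tt N10957 D17415) (tt N9735 F66526) (tt N10938 (iv F68624)) (tt N9748 F66527))
theorem Q10365 : ∀ i, i < 10365 → P i := stepQ 10364 Q10364 (allL N10364 (tt N9727 F66528) (tt N9857 F66529) (tt N10958 D17416) (tt N9724 (iv D16822)) (tt N10959 D17417) (tt N10738 (iv F67819)) (tt N10021 F66530) (tt N10940 (iv F68635)) (tt N9752 F66531))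
theorem Q10366 : ∀ i, i < 10366 → P i := stepQ 10365 Q10365 (allL N10365 (tt N10852 (iv F68312)) (tt N9732 F66532) (tt N9989 F66533) (tt N10960 D17418) (tt N10664 (iv F67577)) (tt N10772 (iv F67974)) (tt N9932 F66534) (tt N9725 (iv D16823)) (tt N10804 (iv F68121)))
theorem Q10367 : ∀ i, i < 10367 → P i := stepQ 10366 Q10366 (allL N10366 (tt N10856 (iv F68326)) (tt N9734 F66535) (tt N10094 F66536) (tt N9726 (iv D16824)) (tt N10961 D17419) (tt N10778 (iv F67996)) (tt N9915 F66537) (tt N10960 (iv F68706)) (tt N9759 F66538))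
theorem Q10368 : ∀ i, i < 10368 → P i := stepQ 10367 Q10367 (allL N10367 (tt N10958 (iv F68695)) (tt N10844 (iv F68275)) (tt N9727 (iv D16825)) (tt N9791 F66539) (tt N10962 D17420) (tt N10741 (iv F67837)) (tt N10955 (iv F68684)) (tt N10943 (iv F68645)) (tt N9760 F66540))
theorem Q10369 : ∀ i, i < 10369 → P i := stepQ 10368 Q10368 (allL N10368 (tt N10959 (iv F68699)) (tt N9735 F66541) (tt N10962 (iv F68712)) (tt N10961 (iv F68709)) (tt N9727 (iv D16826)) (tt N10963 D17421) (tt N10956 (iv F68689)) (tt N10944 (iv F68647)) (tt N9761 F66542))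
theorem Q10370 : ∀ i, i < 10370 → P i := stepQ 10369 Q10369 (allL N10369 (tt N9866 F66543) (tt N10370 (iv F66549)) (tt N9926 F66544) (tt N10397 (iv F66653)) (tt N9730 F66545) (tt N10214 F66546) (tt N10177 F66547) (tt N10964 D17422) (tt N9728 (iv D16827)))
theorem Q10371 : ∀ i, i < 10371 → P i := stepQ 10370 Q10370 (allL N10370 (tt N9868 F66548) (tt N10369 F66549) (tt N9994 F66550) (tt N9764 F66551) (tt N10176 F66552) (tt N9731 F66553) (tt N10117 F66554) (tt N10965 D17423) (tt N9729 (iv D16828)))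
theorem Q10372 : ∀ i, i < 10372 → P i := stepQ 10371 Q10371 (allL N10371 (tt N9869 F66555) (tt N10772 (iv F67972)) (tt N9922 F66556) (tt N10966 D17424) (tt N10964 (iv F68718)) (tt N9732 F66557) (tt N10766 (iv F67951)) (tt N9730 (iv D16829)) (tt N10965 (iv F68728)))
theorem Q10373 : ∀ i, i < 10373 → P i := stepQ 10372 Q10372 (allL N10372 (tt N9870 F66558) (tt N10804 (iv F68117)) (tt N9923 F66559) (tt N10967 D17425) (tt N10945 (iv F68651)) (tt N10965 (iv F68726)) (tt N9930 F66560) (tt N9731 (iv D16830)) (tt N9732 F66561))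
theorem Q10374 : ∀ i, i < 10374 → P i := stepQ 10373 Q10373 (allL N10373 (tt N9871 F66562) (tt N10960 (iv F68703)) (tt N9881 F66563) (tt N9732 (iv D16831)) (tt N10968 D17426) (tt N10966 (iv F68731)) (tt N9910 F66564) (tt N9734 F66565) (tt N10967 (iv F68737)))
theorem Q10375 : ∀ i, i < 10375 → P i := stepQ 10374 Q10374 (allL N10374 (tt N9873 F66566) (tt N10778 (iv F67994)) (tt N9883 F66567) (tt N9733 (iv D16832)) (tt N10969 D17427) (tt N9734 F66568) (tt N10768 (iv F67961)) (tt N10966 (iv F68732)) (tt N9769 F66569))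
theorem Q10376 : ∀ i, i < 10376 → P i := stepQ 10375 Q10375 (allL N10375 (tt N9874 F66570) (tt N10961 (iv F68707)) (tt N9884 F66571) (tt N9735 F66572) (tt N9734 (iv D16833)) (tt N10970 D17428) (tt N9916 F66573) (tt N10968 (iv F68741)) (tt N9771 F66574))
theorem Q10377 : ∀ i, i < 10377 → P i := stepQ 10376 Q10376 (allL N10376 (tt N9875 F66575) (tt N10963 (iv F68714)) (tt N10923 (iv F68555)) (tt N10970 (iv F68747)) (tt N10749 (iv F67867)) (tt N9735 (iv D16834)) (tt N10971 D17429) (tt N10950 (iv F68666)) (tt N9772 F66576))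
theorem Q10378 : ∀ i, i < 10378 → P i := stepQ 10377 Q10377 (allL N10377 (tt N9811 F66577) (tt N10451 (iv F66848)) (tt N10377 F66578) (tt N10972 D17430) (tt N10268 F66579) (tt N10444 (iv F66831)) (tt N10673 (iv F67609)) (tt N9736 (iv D16835)) (tt N10443 (iv F66826)))
theorem Q10379 : ∀ i, i < 10379 → P i := stepQ 10378 Q10378 (allL N10378 (tt N9813 F66580) (tt N10732 (iv F67784)) (tt N10973 D17431) (tt N9737 (iv D16836)) (tt N10974 D17432) (tt N10733 (iv F67791)) (tt N10753 (iv F67892)) (tt N10972 (iv F68752)) (tt N10752 (iv F67888)))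
theorem Q10380 : ∀ i, i < 10380 → P i := stepQ 10379 Q10379 (allL N10379 (tt N9814 F66581) (tt N10928 (iv F68581)) (tt N10847 (iv F68288)) (tt N10974 (iv F68757)) (tt N9738 (iv D16837)) (tt N10975 D17433) (tt N10754 (iv F67896)) (tt N10271 F66582) (tt N10954 (iv F68680)))
theorem Q10381 : ∀ i, i < 10381 → P i := stepQ 10380 Q10380 (allL N10380 (tt N9826 F66583) (tt N10790 (iv F68048)) (tt N9739 (iv D16838)) (tt N10973 (iv F68754)) (tt N10083 F66584) (tt N10789 (iv F68043)) (tt N10755 (iv F67901)) (tt N10380 F66585) (tt N10100 F66586))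
theorem Q10382 : ∀ i, i < 10382 → P i := stepQ 10381 Q10381 (allL N10381 (tt N10028 F66587) (tt N9745 F66588) (tt N10381 F66589) (tt N10976 D17434) (tt N10392 (iv F66631)) (tt N10734 (iv F67798)) (tt N9757 F66590) (tt N9740 (iv D16839)) (tt N10802 (iv F68115)))
theorem Q10383 : ∀ i, i < 10383 → P i := stepQ 10382 Q10382 (allL N10382 (tt N10029 F66591) (tt N9747 F66592) (tt N10977 D17435) (tt N9741 (iv D16840)) (tt N10978 D17436) (tt N10735 (iv F67803)) (tt N9759 F66593) (tt N10976 (iv F68764)) (tt N9915 F66594))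
theorem Q10384 : ∀ i, i < 10384 → P i := stepQ 10383 Q10383 (allL N10383 (tt N10030 F66595) (tt N10924 (iv F68560)) (tt N9742 (iv D16841)) (tt N9793 F66596) (tt N10979 D17437) (tt N10927 (iv F68577)) (tt N9760 F66597) (tt N10394 (iv F66639)) (tt N10955 (iv F68685)))
theorem Q10385 : ∀ i, i < 10385 → P i := stepQ 10384 Q10384 (allL N10384 (tt N10031 F66598) (tt N9748 F66599) (tt N10979 (iv F68776)) (tt N10978 (iv F68772)) (tt N9742 (iv D16842)) (tt N10980 D17438) (tt N9761 F66600) (tt N10395 (iv F66643)) (tt N10956 (iv F68690)))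
theorem Q10386 : ∀ i, i < 10386 → P i := stepQ 10385 Q10385 (allL N10385 (tt N9879 F66601) (tt N10734 (iv F67795)) (tt N9777 F66602) (tt N10981 D17439) (tt N10821 (iv F68190)) (tt N9745 F66603) (tt N10739 (iv F67827)) (tt N9743 (iv D16843)) (tt N10799 (iv F68103)))
theorem Q10387 : ∀ i, i < 10387 → P i := stepQ 10386 Q10386 (allL N10386 (tt N9880 F66604) (tt N10802 (iv F68111)) (tt N9778 F66605) (tt N10982 D17440) (tt N10523 (iv F67092)) (tt N10799 (iv F68101)) (tt N9766 F66606) (tt N9744 (iv D16844)) (tt N9745 F66607))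
theorem Q10388 : ∀ i, i < 10388 → P i := stepQ 10387 Q10387 (allL N10387 (tt N9881 F66608) (tt N10976 (iv F68762)) (tt N9871 F66609) (tt N9745 (iv D16845)) (tt N10983 D17441) (tt N10981 (iv F68782)) (tt N9767 F66610) (tt N9747 F66611) (tt N10982 (iv F68788)))
theorem Q10389 : ∀ i, i < 10389 → P i := stepQ 10388 Q10388 (allL N10388 (tt N9883 F66612) (tt N10735 (iv F67802)) (tt N9873 F66613) (tt N9746 (iv D16846)) (tt N10984 D17442) (tt N9747 F66614) (tt N10740 (iv F67833)) (tt N10981 (iv F68783)) (tt N9913 F66615))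
theorem Q10390 : ∀ i, i < 10390 → P i := stepQ 10389 Q10389 (allL N10389 (tt N9884 F66616) (tt N10978 (iv F68771)) (tt N9874 F66617) (tt N9748 F66618) (tt N9747 (iv D16847)) (tt N10985 D17443) (tt N9771 F66619) (tt N10983 (iv F68792)) (tt N9916 F66620))
theorem Q10391 : ∀ i, i < 10391 → P i := stepQ 10390 Q10390 (allL N10390 (tt N9885 F66621) (tt N10980 (iv F68779)) (tt N10926 (iv F68571)) (tt N10985 (iv F68798)) (tt N10975 (iv F68759)) (tt N9748 (iv D16848)) (tt N10986 D17444) (tt N10528 (iv F67107)) (tt N10957 (iv F68694)))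
theorem Q10392 : ∀ i, i < 10392 → P i := stepQ 10391 Q10391 (allL N10391 (tt N9756 F66622) (tt N9889 F66623) (tt N10391 F66624) (tt N10472 (iv F66929)) (tt N10212 F66625) (tt N10234 F66626) (tt N10027 F66627) (tt N10987 D17445) (tt N9749 (iv D16849)))
theorem Q10393 : ∀ i, i < 10393 → P i := stepQ 10392 Q10392 (allL N10392 (tt N9757 F66628) (tt N9890 F66629) (tt N10392 F66630) (tt N10988 D17446) (tt N10381 F66631) (tt N10828 (iv F68220)) (tt N10028 F66632) (tt N9750 (iv D16850)) (tt N10987 (iv F68808)))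
theorem Q10394 : ∀ i, i < 10394 → P i := stepQ 10393 Q10393 (allL N10393 (tt N9759 F66633) (tt N9892 F66634) (tt N10989 D17447) (tt N9751 (iv D16851)) (tt N10990 D17448) (tt N10834 (iv F68237)) (tt N10029 F66635) (tt N10988 (iv F68812)) (tt N10856 (iv F68331)))
theorem Q10395 : ∀ i, i < 10395 → P i := stepQ 10394 Q10394 (allL N10394 (tt N9760 F66636) (tt N10757 (iv F67910)) (tt N9752 (iv D16852)) (tt N9796 F66637) (tt N10991 D17449) (tt N10764 (iv F67944)) (tt N10030 F66638) (tt N10383 F66639) (tt N10958 (iv F68698)))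
theorem Q10396 : ∀ i, i < 10396 → P i := stepQ 10395 Q10395 (allL N10395 (tt N9761 F66640) (tt N9893 F66641) (tt N10991 (iv F68822)) (tt N10990 (iv F68819)) (tt N9752 (iv D16853)) (tt N10992 D17450) (tt N10031 F66642) (tt N10384 F66643) (tt N10959 (iv F68702)))
theorem Q10397 : ∀ i, i < 10397 → P i := stepQ 10396 Q10396 (allL N10396 (tt N10236 F66644) (tt N9762 F66645) (tt N10396 F66646) (tt N10177 F66647) (tt N9755 F66648) (tt N10151 F66649) (tt N10397 (iv F66656)) (tt N10993 D17451) (tt N9753 (iv D16854)))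
theorem Q10398 : ∀ i, i < 10398 → P i := stepQ 10397 Q10397 (allL N10397 (tt N10234 F66650) (tt N9764 F66651) (tt N10397 F66652) (tt N10369 F66653) (tt N10150 F66654) (tt N9756 F66655) (tt N10396 F66656) (tt N10994 D17452) (tt N9754 (iv D16855)))
theorem Q10399 : ∀ i, i < 10399 → P i := stepQ 10398 Q10398 (allL N10398 (tt N10828 (iv F68217)) (tt N9765 F66657) (tt N10398 F66658) (tt N10995 D17453) (tt N10993 (iv F68831)) (tt N9757 F66659) (tt N10743 (iv F67845)) (tt N9755 (iv D16856)) (tt N10994 (iv F68840)))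
theorem Q10400 : ∀ i, i < 10400 → P i := stepQ 10399 Q10399 (allL N10399 (tt N10987 (iv F68802)) (tt N9766 F66660) (tt N10399 F66661) (tt N10996 D17454) (tt N10628 (iv F67468)) (tt N10994 (iv F68838)) (tt N10802 (iv F68114)) (tt N9756 (iv D16857)) (tt N9757 F66662))
theorem Q10401 : ∀ i, i < 10401 → P i := stepQ 10400 Q10400 (allL N10400 (tt N10988 (iv F68809)) (tt N9767 F66663) (tt N10997 D17455) (tt N9757 (iv D16858)) (tt N10998 D17456) (tt N10995 (iv F68842)) (tt N10976 (iv F68763)) (tt N9759 F66664) (tt N10996 (iv F68845)))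
theorem Q10402 : ∀ i, i < 10402 → P i := stepQ 10401 Q10401 (allL N10401 (tt N10834 (iv F68235)) (tt N9769 F66665) (tt N10999 D17457) (tt N9758 (iv D16859)) (tt N11000 D17458) (tt N9759 F66666) (tt N10746 (iv F67857)) (tt N10995 (iv F68843)) (tt N10778 (iv F67998)))
theorem Q10403 : ∀ i, i < 10403 → P i := stepQ 10402 Q10402 (allL N10402 (tt N10989 (iv F68813)) (tt N10080 F66667) (tt N9759 (iv D16860)) (tt N9798 F66668) (tt N11001 D17459) (tt N10999 (iv F68853)) (tt N10977 (iv F68768)) (tt N10997 (iv F68848)) (tt N10094 F66669))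
theorem Q10404 : ∀ i, i < 10404 → P i := stepQ 10403 Q10403 (allL N10403 (tt N10990 (iv F68817)) (tt N9771 F66670) (tt N11001 (iv F68857)) (tt N9761 F66671) (tt N9759 (iv D16861)) (tt N11002 D17460) (tt N10978 (iv F68773)) (tt N10998 (iv F68850)) (tt N10961 (iv F68711)))
theorem Q10405 : ∀ i, i < 10405 → P i := stepQ 10404 Q10404 (allL N10404 (tt N10991 (iv F68821)) (tt N10929 (iv F68583)) (tt N9761 F66672) (tt N11003 D17461) (tt N9760 (iv D16862)) (tt N11004 D17462) (tt N10979 (iv F68777)) (tt N10632 (iv F67476)) (tt N10962 (iv F68713)))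
theorem Q10406 : ∀ i, i < 10406 → P i := stepQ 10405 Q10405 (allL N10405 (tt N10992 (iv F68825)) (tt N9772 F66673) (tt N11004 (iv F68862)) (tt N11002 (iv F68860)) (tt N10771 (iv F67970)) (tt N9761 (iv D16863)) (tt N11005 D17463) (tt N10633 (iv F67478)) (tt N10963 (iv F68715)))
theorem Q10407 : ∀ i, i < 10407 → P i := stepQ 10406 Q10406 (allL N10406 (tt N9905 F66674) (tt N10993 (iv F68829)) (tt N9779 F66675) (tt N11006 D17464) (tt N9765 F66676) (tt N10634 (iv F67482)) (tt N10408 (iv F66685)) (tt N9762 (iv D16864)) (tt N10407 (iv F66680)))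
theorem Q10408 : ∀ i, i < 10408 → P i := stepQ 10407 Q10407 (allL N10407 (tt N9906 F66677) (tt N10743 (iv F67842)) (tt N9780 F66678) (tt N11007 D17465) (tt N10408 (iv F66683)) (tt N10739 (iv F67826)) (tt N9765 F66679) (tt N9763 (iv D16865)) (tt N10406 F66680))
theorem Q10409 : ∀ i, i < 10409 → P i := stepQ 10408 Q10408 (allL N10408 (tt N9907 F66681) (tt N10994 (iv F68835)) (tt N9781 F66682) (tt N11008 D17466) (tt N10407 F66683) (tt N9766 F66684) (tt N10406 F66685) (tt N9764 (iv D16866)) (tt N9765 F66686))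
theorem Q10410 : ∀ i, i < 10410 → P i := stepQ 10409 Q10409 (allL N10409 (tt N9908 F66687) (tt N10995 (iv F68841)) (tt N11009 D17467) (tt N9765 (iv D16867)) (tt N11010 D17468) (tt N9767 F66688) (tt N11007 (iv F68866)) (tt N9769 F66689) (tt N11008 (iv F68872)))
theorem Q10411 : ∀ i, i < 10411 → P i := stepQ 10410 Q10410 (allL N10410 (tt N9909 F66690) (tt N10996 (iv F68844)) (tt N11011 D17469) (tt N9766 (iv D16868)) (tt N11012 D17470) (tt N11008 (iv F68870)) (tt N10982 (iv F68786)) (tt N10967 (iv F68736)) (tt N9767 F66691))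
theorem Q10412 : ∀ i, i < 10412 → P i := stepQ 10411 Q10411 (allL N10411 (tt N9910 F66692) (tt N10078 (iv F66696)) (tt N9767 (iv D16869)) (tt N9784 F66693) (tt N11013 D17471) (tt N11009 (iv F68875)) (tt N9871 F66694) (tt N9770 F66695) (tt N11011 (iv F68884)))
theorem Q10413 : ∀ i, i < 10413 → P i := stepQ 10412 Q10412 (allL N10412 (tt N9911 F66697) (tt N10998 (iv F68849)) (tt N11013 (iv F68890)) (tt N10639 (iv F67496)) (tt N9767 (iv D16870)) (tt N11014 D17472) (tt N10983 (iv F68791)) (tt N9771 F66698) (tt N11012 (iv F68887)))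
theorem Q10414 : ∀ i, i < 10414 → P i := stepQ 10413 Q10413 (allL N10413 (tt N9912 F66699) (tt N10746 (iv F67855)) (tt N10763 (iv F67937)) (tt N9768 (iv D16871)) (tt N11015 D17473) (tt N10740 (iv F67832)) (tt N9769 F66700) (tt N11007 (iv F68867)) (tt N10768 (iv F67962)))
theorem Q10415 : ∀ i, i < 10415 → P i := stepQ 10414 Q10414 (allL N10414 (tt N9913 F66701) (tt N10079 (iv F66705)) (tt N9769 (iv D16872)) (tt N9773 F66702) (tt N11016 D17474) (tt N9770 F66703) (tt N10763 (iv F67939)) (tt N11009 (iv F68876)) (tt N9883 F66704))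
theorem Q10416 : ∀ i, i < 10416 → P i := stepQ 10415 Q10415 (allL N10415 (tt N9914 F66706) (tt N11000 (iv F68855)) (tt N11016 (iv F68899)) (tt N10780 (iv F68005)) (tt N9769 (iv D16873)) (tt N11017 D17475) (tt N11015 (iv F68896)) (tt N11010 (iv F68879)) (tt N10969 (iv F68744)))
theorem Q10417 : ∀ i, i < 10417 → P i := stepQ 10416 Q10416 (allL N10416 (tt N9916 F66707) (tt N10081 F66708) (tt N9771 F66709) (tt N9853 F66710) (tt N9770 (iv D16874)) (tt N11018 D17476) (tt N9874 F66711) (tt N11013 (iv F68892)) (tt N9884 F66712))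
theorem Q10418 : ∀ i, i < 10418 → P i := stepQ 10417 Q10417 (allL N10417 (tt N9917 F66713) (tt N11002 (iv F68859)) (tt N11018 (iv F68905)) (tt N9772 F66714) (tt N11017 (iv F68902)) (tt N9771 (iv D16875)) (tt N11019 D17477) (tt N11014 (iv F68894)) (tt N10970 (iv F68748)))
theorem Q10419 : ∀ i, i < 10419 → P i := stepQ 10418 Q10418 (allL N10418 (tt N9918 F66715) (tt N11005 (iv F68863)) (tt N10933 (iv F68600)) (tt N11019 (iv F68909)) (tt N10784 (iv F68017)) (tt N10986 (iv F68801)) (tt N9772 (iv D16876)) (tt N10645 (iv F67508)) (tt N10971 (iv F68750)))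
theorem Q10420 : ∀ i, i < 10420 → P i := stepQ 10419 Q10419 (allL N10419 (tt N9919 F66716) (tt N10419 F66717) (tt N10821 (iv F68189)) (tt N11020 D17478) (tt N9777 F66718) (tt N10576 (iv F67256)) (tt N10045 F66719) (tt N9774 (iv D16877)) (tt N10044 F66720))
theorem Q10421 : ∀ i, i < 10421 → P i := stepQ 10420 Q10420 (allL N10420 (tt N9920 F66721) (tt N10420 F66722) (tt N10739 (iv F67824)) (tt N10008 F66723) (tt N10045 F66724) (tt N9780 F66725) (tt N9777 F66726) (tt N9775 (iv D16878)) (tt N10043 F66727))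
theorem Q10422 : ∀ i, i < 10422 → P i := stepQ 10421 Q10421 (allL N10421 (tt N9921 F66728) (tt N10421 F66729) (tt N10799 (iv F68099)) (tt N10009 F66730) (tt N10044 F66731) (tt N9778 F66732) (tt N10043 F66733) (tt N9776 (iv D16879)) (tt N9777 F66734))
theorem Q10423 : ∀ i, i < 10423 → P i := stepQ 10422 Q10422 (allL N10422 (tt N9928 F66735) (tt N10422 F66736) (tt N10762 (iv F67930)) (tt N9780 (iv D16880)) (tt N9824 F66737) (tt N10008 F66738) (tt N9782 F66739) (tt N9786 F66740) (tt N9823 F66741))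
theorem Q10424 : ∀ i, i < 10424 → P i := stepQ 10423 Q10423 (allL N10423 (tt N9929 F66742) (tt N10076 (iv F66746)) (tt N9782 (iv D16881)) (tt N11009 (iv F68874)) (tt N10345 F66743) (tt N9784 F66744) (tt N10762 (iv F67933)) (tt N9787 F66745) (tt N10797 (iv F68092)))
theorem Q10425 : ∀ i, i < 10425 → P i := stepQ 10424 Q10424 (allL N10424 (tt N9930 F66747) (tt N10077 (iv F66751)) (tt N9783 (iv D16882)) (tt N11011 (iv F68881)) (tt N11021 D17479) (tt N10797 (iv F68090)) (tt N9870 F66748) (tt N9852 F66749) (tt N9784 F66750))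
theorem Q10426 : ∀ i, i < 10426 → P i := stepQ 10425 Q10425 (allL N10425 (tt N9931 F66752) (tt N10425 F66753) (tt N11021 (iv F68918)) (tt N10651 (iv F67533)) (tt N9783 (iv D16883)) (tt N9948 F66754) (tt N10000 F66755) (tt N9947 F66756) (tt N9785 F66757))
theorem Q10427 : ∀ i, i < 10427 → P i := stepQ 10426 Q10426 (allL N10426 (tt N9933 F66758) (tt N10066 F66759) (tt N9785 F66760) (tt N11022 D17480) (tt N9784 (iv D16884)) (tt N10347 F66761) (tt N9844 F66762) (tt N9788 F66763) (tt N11021 (iv F68922)))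
theorem Q10428 : ∀ i, i < 10428 → P i := stepQ 10427 Q10427 (allL N10427 (tt N10055 F66764) (tt N9826 F66765) (tt N9789 (iv D16885)) (tt N10955 (iv F68683)) (tt N10918 (iv F68523)) (tt N10755 (iv F67900)) (tt N9791 F66766) (tt N10427 F66767) (tt N9793 F66768))
theorem Q10429 : ∀ i, i < 10429 → P i := stepQ 10428 Q10428 (allL N10428 (tt N9791 F66769) (tt N10789 (iv F68041)) (tt N9790 (iv D16886)) (tt N10958 (iv F68696)) (tt N10841 (iv F68258)) (tt N10790 (iv F68050)) (tt N10055 F66770) (tt N10428 F66771) (tt N9796 F66772))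
theorem Q10430 : ∀ i, i < 10430 → P i := stepQ 10429 Q10429 (allL N10429 (tt N10058 F66773) (tt N9937 F66774) (tt N9792 (iv D16887)) (tt N10977 (iv F68767)) (tt N10818 (iv F68172)) (tt N10737 (iv F67813)) (tt N9798 F66775) (tt N10429 F66776) (tt N9943 F66777))
theorem Q10431 : ∀ i, i < 10431 → P i := stepQ 10430 Q10430 (allL N10430 (tt N10060 F66778) (tt N10041 F66779) (tt N9794 F66780) (tt N11023 D17481) (tt N9793 (iv D16888)) (tt N10042 F66781) (tt N9799 F66782) (tt N9800 F66783) (tt N10918 (iv F68527)))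
theorem Q10432 : ∀ i, i < 10432 → P i := stepQ 10431 Q10431 (allL N10431 (tt N9798 F66784) (tt N10920 (iv F68536)) (tt N9795 (iv D16889)) (tt N10989 (iv F68814)) (tt N10842 (iv F68265)) (tt N10791 F68060) (tt N10058 F66785) (tt N10431 F66786) (tt N10101 F66787))
theorem Q10433 : ∀ i, i < 10433 → P i := stepQ 10432 Q10432 (allL N10432 (tt N10791 (iv F68054)) (tt N10083 F66788) (tt N9797 (iv D16890)) (tt N10999 (iv F68852)) (tt N10790 (iv F68049)) (tt N9798 F66789) (tt N10750 (iv F67873)) (tt N10432 F66790) (tt N10099 F66791))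
theorem Q10434 : ∀ i, i < 10434 → P i := stepQ 10433 Q10433 (allL N10433 (tt N10897 (iv F68453)) (tt N10824 F68206) (tt N10837 (iv F68245)) (tt N9799 (iv D16891)) (tt N11003 (iv F68861)) (tt N10900 (iv F68461)) (tt N11023 (iv F68931)) (tt N11024 D17482) (tt N10882 (iv F68428)))
theorem Q10435 : ∀ i, i < 10435 → P i := stepQ 10434 Q10434 (allL N10434 (tt N10063 F66792) (tt N10051 F66793) (tt N10434 F66794) (tt N9800 (iv D16892)) (tt N10314 F66795) (tt N10052 F66796) (tt N9801 F66797) (tt N11025 D17483) (tt N10434 F66798))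
theorem Q10436 : ∀ i, i < 10436 → P i := stepQ 10435 Q10435 (allL N10435 (tt N10911 F68501) (tt N10934 (iv F68604)) (tt N10435 F66799) (tt N11024 (iv F68932)) (tt N10660 (iv F67564)) (tt N10914 (iv F68511)) (tt N11025 (iv F68938)) (tt N9801 (iv D16893)) (tt N11026 D17484))
theorem Q10437 : ∀ i, i < 10437 → P i := stepQ 10436 Q10436 (allL N10436 (tt N10935 (iv F68608)) (tt N9804 F66800) (tt N10795 (iv F68078)) (tt N9802 (iv D16894)) (tt N11027 D17485) (tt N9829 F66801) (tt N10794 (iv F68074)) (tt N9806 F66802) (tt N10211 F66803))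
theorem Q10438 : ∀ i, i < 10438 → P i := stepQ 10437 Q10437 (allL N10437 (tt N10257 F66804) (tt N10546 F67161) (tt N11028 D17486) (tt N9803 (iv D16895)) (tt N11029 D17487) (tt N10550 (iv F67167)) (tt N10180 F66805) (tt N10164 F66806) (tt N10216 F66807))
theorem Q10439 : ∀ i, i < 10439 → P i := stepQ 10438 Q10438 (allL N10438 (tt N10922 (iv F68548)) (tt N11027 (iv F68941)) (tt N9848 F66808) (tt N11029 (iv F68950)) (tt N9804 (iv D16896)) (tt N11030 D17488) (tt N10931 (iv F68592)) (tt N9807 F66809) (tt N10217 F66810))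
theorem Q10440 : ∀ i, i < 10440 → P i := stepQ 10439 Q10439 (allL N10439 (tt N10301 F66811) (tt N10587 (iv F67305)) (tt N9805 (iv D16897)) (tt N11028 (iv F68945)) (tt N9851 F66812) (tt N10590 (iv F67318)) (tt N10191 F66813) (tt N9995 F66814) (tt N10220 F66815))
theorem Q10441 : ∀ i, i < 10441 → P i := stepQ 10440 Q10440 (allL N10440 (tt N10954 (iv F68678)) (tt N9807 F66816) (tt N10813 (iv F68153)) (tt N10925 (iv F68566)) (tt N9806 (iv D16898)) (tt N11031 D17489) (tt N10812 (iv F68149)) (tt N11027 (iv F68942)) (tt N9814 F66817))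
theorem Q10442 : ∀ i, i < 10442 → P i := stepQ 10441 Q10441 (allL N10441 (tt N10923 (iv F68554)) (tt N11031 (iv F68958)) (tt N9875 F66818) (tt N10926 (iv F68572)) (tt N10082 F66819) (tt N9807 (iv D16899)) (tt N11032 D17490) (tt N11030 (iv F68956)) (tt N9822 F66820))
theorem Q10443 : ∀ i, i < 10443 → P i := stepQ 10442 Q10442 (allL N10442 (tt N10926 (iv F68570)) (tt N10846 (iv F68284)) (tt N9885 F66821) (tt N10923 (iv F68556)) (tt N10851 (iv F68310)) (tt N9808 (iv D16900)) (tt N11033 D17491) (tt N10262 F66822) (tt N10932 (iv F68598)))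
theorem Q10444 : ∀ i, i < 10444 → P i := stepQ 10443 Q10443 (allL N10443 (tt N10444 (iv F66827)) (tt N9817 F66823) (tt N10443 F66824) (tt N11034 D17492) (tt N10866 (iv F68371)) (tt N9811 F66825) (tt N10723 (iv F67741)) (tt N9809 (iv D16901)) (tt N10377 F66826))
theorem Q10445 : ∀ i, i < 10445 → P i := stepQ 10444 Q10444 (allL N10444 (tt N10443 F66827) (tt N9818 F66828) (tt N10444 F66829) (tt N11035 D17493) (tt N10276 F66830) (tt N10377 F66831) (tt N10133 F66832) (tt N9810 (iv D16902)) (tt N9811 F66833))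
theorem Q10446 : ∀ i, i < 10446 → P i := stepQ 10445 Q10445 (allL N10445 (tt N10972 (iv F68751)) (tt N9819 F66834) (tt N11036 D17494) (tt N9811 (iv D16903)) (tt N11037 D17495) (tt N11034 (iv F68968)) (tt N10843 (iv F68272)) (tt N9813 F66835) (tt N11035 (iv F68976)))
theorem Q10447 : ∀ i, i < 10447 → P i := stepQ 10446 Q10446 (allL N10446 (tt N10733 (iv F67789)) (tt N9820 F66836) (tt N11038 D17496) (tt N9812 (iv D16904)) (tt N11039 D17497) (tt N9813 F66837) (tt N10738 (iv F67820)) (tt N11034 (iv F68969)) (tt N10756 (iv F67909)))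
theorem Q10448 : ∀ i, i < 10448 → P i := stepQ 10447 Q10447 (allL N10447 (tt N10973 (iv F68753)) (tt N10955 (iv F68682)) (tt N9813 (iv D16905)) (tt N9826 F66838) (tt N11040 D17498) (tt N11038 (iv F68983)) (tt N10844 (iv F68278)) (tt N11036 (iv F68978)) (tt N10924 (iv F68564)))
theorem Q10449 : ∀ i, i < 10449 → P i := stepQ 10448 Q10448 (allL N10448 (tt N10974 (iv F68756)) (tt N9821 F66839) (tt N11040 (iv F68986)) (tt N9814 F66840) (tt N9813 (iv D16906)) (tt N11041 D17499) (tt N10845 (iv F68282)) (tt N11037 (iv F68981)) (tt N10925 (iv F68569)))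
theorem Q10450 : ∀ i, i < 10450 → P i := stepQ 10449 Q10449 (allL N10449 (tt N10975 (iv F68758)) (tt N9822 F66841) (tt N10851 (iv F68309)) (tt N11041 (iv F68988)) (tt N9885 F66842) (tt N9814 (iv D16907)) (tt N11042 D17500) (tt N10282 F66843) (tt N11031 (iv F68960)))
theorem Q10451 : ∀ i, i < 10451 → P i := stepQ 10450 Q10450 (allL N10450 (tt N10564 (iv F67208)) (tt N10866 (iv F68369)) (tt N9823 F66844) (tt N11043 D17501) (tt N9817 F66845) (tt N10283 F66846) (tt N10797 (iv F68091)) (tt N9815 (iv D16908)) (tt N10762 (iv F67934)))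
theorem Q10452 : ∀ i, i < 10452 → P i := stepQ 10451 Q10451 (allL N10451 (tt N10204 F66847) (tt N10377 F66848) (tt N9824 F66849) (tt N11044 D17502) (tt N10762 (iv F67931)) (tt N9818 F66850) (tt N10345 F66851) (tt N9816 (iv D16909)) (tt N9817 F66852))
theorem Q10453 : ∀ i, i < 10453 → P i := stepQ 10452 Q10452 (allL N10452 (tt N10795 (iv F68076)) (tt N11034 (iv F68967)) (tt N10935 (iv F68609)) (tt N9817 (iv D16910)) (tt N11045 D17503) (tt N9819 F66853) (tt N10798 (iv F68095)) (tt N9820 F66854) (tt N11044 (iv F69001)))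
theorem Q10454 : ∀ i, i < 10454 → P i := stepQ 10453 Q10453 (allL N10453 (tt N10206 F66855) (tt N11035 (iv F68972)) (tt N10465 (iv F66895)) (tt N9818 (iv D16911)) (tt N11046 D17504) (tt N11044 (iv F68998)) (tt N10137 F66856) (tt N10144 F66857) (tt N9819 F66858))
theorem Q10455 : ∀ i, i < 10455 → P i := stepQ 10454 Q10454 (allL N10454 (tt N10931 (iv F68589)) (tt N11037 (iv F68979)) (tt N10938 (iv F68622)) (tt N10289 F66859) (tt N9819 (iv D16912)) (tt N11047 D17505) (tt N10922 (iv F68551)) (tt N9821 F66860) (tt N11046 (iv F69007)))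
theorem Q10456 : ∀ i, i < 10456 → P i := stepQ 10455 Q10455 (allL N10455 (tt N10813 (iv F68151)) (tt N11039 (iv F68984)) (tt N10954 (iv F68679)) (tt N10093 F66861) (tt N9820 (iv D16913)) (tt N11048 D17506) (tt N10819 (iv F68180)) (tt N11045 (iv F69002)) (tt N10847 (iv F68292)))
theorem Q10457 : ∀ i, i < 10457 → P i := stepQ 10456 Q10456 (allL N10456 (tt N10932 (iv F68595)) (tt N11041 (iv F68987)) (tt N10957 (iv F68692)) (tt N9822 F66862) (tt N11048 (iv F69011)) (tt N9821 (iv D16914)) (tt N11049 D17507) (tt N11047 (iv F69009)) (tt N10926 (iv F68574)))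
theorem Q10458 : ∀ i, i < 10458 → P i := stepQ 10457 Q10457 (allL N10457 (tt N10933 (iv F68599)) (tt N11042 (iv F68989)) (tt N9918 F66863) (tt N11049 (iv F69012)) (tt N10097 F66864) (tt N11033 (iv F68965)) (tt N9822 (iv D16915)) (tt N10296 F66865) (tt N11032 (iv F68963)))
theorem Q10459 : ∀ i, i < 10459 → P i := stepQ 10458 Q10458 (allL N10458 (tt N10789 (iv F68040)) (tt N10755 (iv F67898)) (tt N9825 (iv D16916)) (tt N11038 (iv F68982)) (tt N10750 (iv F67871)) (tt N9826 F66866) (tt N10790 (iv F68051)) (tt N10458 F66867) (tt N10716 F67706))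
theorem Q10460 : ∀ i, i < 10460 → P i := stepQ 10459 Q10459 (allL N10459 (tt N9837 F66868) (tt N10065 F66869) (tt N9947 F66870) (tt N10467 (iv F66907)) (tt N9852 F66871) (tt N9832 F66872) (tt N9843 F66873) (tt N11021 (iv F68921)) (tt N9827 (iv D16917)))
theorem Q10461 : ∀ i, i < 10461 → P i := stepQ 10460 Q10460 (allL N10460 (tt N10937 (iv F68617)) (tt N10069 F66874) (tt N11050 D17508) (tt N9828 (iv D16918)) (tt N11051 D17509) (tt N10565 (iv F67214)) (tt N9847 F66875) (tt N11022 (iv F68927)) (tt N10470 (iv F66922)))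
theorem Q10462 : ∀ i, i < 10462 → P i := stepQ 10461 Q10461 (allL N10461 (tt N10938 (iv F68621)) (tt N10070 F66876) (tt N10931 (iv F68590)) (tt N11051 (iv F69018)) (tt N9829 (iv D16919)) (tt N11052 D17510) (tt N9848 F66877) (tt N9853 F66878) (tt N10471 (iv F66926)))
theorem Q10463 : ∀ i, i < 10463 → P i := stepQ 10462 Q10462 (allL N10462 (tt N10313 F66879) (tt N11053 D17511) (tt N9830 (iv D16920)) (tt N11050 (iv F69014)) (tt N10191 F66880) (tt N10110 F66881) (tt N9851 F66882) (tt N9996 F66883) (tt N10572 (iv F67242)))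
theorem Q10464 : ∀ i, i < 10464 → P i := stepQ 10463 Q10463 (allL N10463 (tt N9836 F66884) (tt N10473 (iv F66934)) (tt N10463 F66885) (tt N9832 F66886) (tt N9855 F66887) (tt N10467 (iv F66909)) (tt N10015 F66888) (tt N11054 D17512) (tt N9831 (iv D16921)))
theorem Q10465 : ∀ i, i < 10465 → P i := stepQ 10464 Q10464 (allL N10464 (tt N9838 F66889) (tt N10939 (iv F68626)) (tt N9948 F66890) (tt N11055 D17513) (tt N9833 F66891) (tt N11021 (iv F68919)) (tt N10017 F66892) (tt N9832 (iv D16922)) (tt N10347 F66893))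
theorem Q10466 : ∀ i, i < 10466 → P i := stepQ 10465 Q10465 (allL N10465 (tt N9839 F66894) (tt N10940 (iv F68633)) (tt N10453 F66895) (tt N9833 (iv D16923)) (tt N11056 D17514) (tt N10798 (iv F68094)) (tt N10018 F66896) (tt N9857 F66897) (tt N10348 F66898))
theorem Q10467 : ∀ i, i < 10467 → P i := stepQ 10466 Q10466 (allL N10466 (tt N10467 (iv F66904)) (tt N9842 F66899) (tt N10466 F66900) (tt N9837 F66901) (tt N10487 (iv F66971)) (tt N9836 F66902) (tt N10351 F66903) (tt N11057 D17515) (tt N9834 (iv D16924)))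
theorem Q10468 : ∀ i, i < 10468 → P i := stepQ 10467 Q10467 (allL N10467 (tt N10466 F66904) (tt N9843 F66905) (tt N10467 F66906) (tt N10459 F66907) (tt N9861 F66908) (tt N10463 F66909) (tt N10065 F66910) (tt N11058 D17516) (tt N9835 (iv D16925)))
theorem Q10469 : ∀ i, i < 10469 → P i := stepQ 10468 Q10468 (allL N10468 (tt N11054 (iv F69027)) (tt N9844 F66911) (tt N10468 F66912) (tt N11059 D17517) (tt N9862 F66913) (tt N11057 (iv F69041)) (tt N10066 F66914) (tt N9836 (iv D16926)) (tt N11058 (iv F69050)))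
theorem Q10470 : ∀ i, i < 10470 → P i := stepQ 10469 Q10469 (allL N10469 (tt N11021 (iv F68916)) (tt N9846 F66915) (tt N9931 F66916) (tt N11060 D17518) (tt N9930 F66917) (tt N9838 F66918) (tt N10945 (iv F68653)) (tt N9837 (iv D16927)) (tt N9933 F66919))
theorem Q10471 : ∀ i, i < 10471 → P i := stepQ 10470 Q10470 (allL N10470 (tt N11055 (iv F69031)) (tt N9847 F66920) (tt N11061 D17519) (tt N9838 (iv D16928)) (tt N11062 D17520) (tt N11060 (iv F69055)) (tt N10069 F66921) (tt N11059 (iv F69053)) (tt N10460 F66922))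
theorem Q10472 : ∀ i, i < 10472 → P i := stepQ 10471 Q10471 (allL N10471 (tt N11056 (iv F69034)) (tt N9848 F66923) (tt N10796 (iv F68083)) (tt N11062 (iv F69061)) (tt N9839 (iv D16929)) (tt N11063 D17521) (tt N10070 F66924) (tt N9865 F66925) (tt N10461 F66926))
theorem Q10473 : ∀ i, i < 10473 → P i := stepQ 10472 Q10472 (allL N10472 (tt N10214 F66927) (tt N10487 (iv F66968)) (tt N9997 F66928) (tt N10391 F66929) (tt N9842 F66930) (tt N9866 F66931) (tt N10135 F66932) (tt N11064 D17522) (tt N9840 (iv D16930)))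
theorem Q10474 : ∀ i, i < 10474 → P i := stepQ 10473 Q10473 (allL N10473 (tt N10067 F66933) (tt N10463 F66934) (tt N9998 F66935) (tt N10349 F66936) (tt N10255 F66937) (tt N9843 F66938) (tt N10016 F66939) (tt N11065 D17523) (tt N9841 (iv D16931)))
theorem Q10475 : ∀ i, i < 10475 → P i := stepQ 10474 Q10474 (allL N10474 (tt N10477 (iv F66947)) (tt N11057 (iv F69039)) (tt N9999 F66940) (tt N11066 D17524) (tt N11064 (iv F69069)) (tt N9844 F66941) (tt N10356 F66942) (tt N9842 (iv D16932)) (tt N11065 (iv F69079)))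
theorem Q10476 : ∀ i, i < 10476 → P i := stepQ 10475 Q10475 (allL N10475 (tt N10945 (iv F68648)) (tt N11058 (iv F69045)) (tt N10000 F66943) (tt N11067 D17525) (tt N9870 F66944) (tt N11065 (iv F69077)) (tt N11021 (iv F68920)) (tt N9843 (iv D16933)) (tt N9844 F66945))
theorem Q10477 : ∀ i, i < 10477 → P i := stepQ 10476 Q10476 (allL N10476 (tt N10946 (iv F68655)) (tt N11059 (iv F69051)) (tt N11068 D17526) (tt N9844 (iv D16934)) (tt N11069 D17527) (tt N11066 (iv F69080)) (tt N11022 (iv F68926)) (tt N9847 F66946) (tt N11067 (iv F69083)))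
theorem Q10478 : ∀ i, i < 10478 → P i := stepQ 10477 Q10477 (allL N10477 (tt N10474 F66947) (tt N10945 (iv F68649)) (tt N9849 F66948) (tt N11070 D17528) (tt N10804 (iv F68119)) (tt N10355 F66949) (tt N9846 F66950) (tt N9845 (iv D16935)) (tt N10664 (iv F67579)))
theorem Q10479 : ∀ i, i < 10479 → P i := stepQ 10478 Q10478 (allL N10478 (tt N10947 (iv F68658)) (tt N11060 (iv F69054)) (tt N11071 D17529) (tt N9846 (iv D16936)) (tt N11072 D17530) (tt N9847 F66951) (tt N11070 (iv F69090)) (tt N11066 (iv F69082)) (tt N10665 (iv F67582)))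
theorem Q10480 : ∀ i, i < 10480 → P i := stepQ 10479 Q10479 (allL N10479 (tt N10948 (iv F68660)) (tt N11073 D17531) (tt N9847 (iv D16937)) (tt N9851 F66952) (tt N11074 D17532) (tt N11071 (iv F69093)) (tt N11050 (iv F69016)) (tt N11068 (iv F69085)) (tt N10666 (iv F67584)))
theorem Q10481 : ∀ i, i < 10481 → P i := stepQ 10480 Q10480 (allL N10480 (tt N10949 (iv F68663)) (tt N11062 (iv F69060)) (tt N11074 (iv F69095)) (tt N9848 F66953) (tt N9847 (iv D16938)) (tt N11075 D17533) (tt N11051 (iv F69019)) (tt N11069 (iv F69087)) (tt N10667 (iv F67586)))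
theorem Q10482 : ∀ i, i < 10482 → P i := stepQ 10481 Q10481 (allL N10481 (tt N10950 (iv F68665)) (tt N11063 (iv F69064)) (tt N11030 (iv F68954)) (tt N11075 (iv F69096)) (tt N10808 (iv F68128)) (tt N9848 (iv D16939)) (tt N11076 D17534) (tt N9875 F66954) (tt N10668 (iv F67588)))
theorem Q10483 : ∀ i, i < 10483 → P i := stepQ 10482 Q10482 (allL N10482 (tt N10601 (iv F67366)) (tt N9953 F66955) (tt N11077 D17535) (tt N9849 (iv D16940)) (tt N10574 (iv F67247)) (tt N9972 F66956) (tt N9850 F66957) (tt N9977 F66958) (tt N10669 (iv F67593)))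
theorem Q10484 : ∀ i, i < 10484 → P i := stepQ 10483 Q10483 (allL N10483 (tt N10951 (iv F68667)) (tt N11078 D17536) (tt N9850 (iv D16941)) (tt N11071 (iv F69092)) (tt N11079 D17537) (tt N9851 F66959) (tt N11077 (iv F69099)) (tt N10004 F66960) (tt N10670 (iv F67596)))
theorem Q10485 : ∀ i, i < 10485 → P i := stepQ 10484 Q10484 (allL N10484 (tt N10952 (iv F68670)) (tt N9955 F66961) (tt N11079 (iv F69106)) (tt N10810 (iv F68136)) (tt N9850 (iv D16942)) (tt N10594 (iv F67332)) (tt N10574 (iv F67249)) (tt N10005 F66962) (tt N10671 (iv F67600)))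
theorem Q10486 : ∀ i, i < 10486 → P i := stepQ 10485 Q10485 (allL N10485 (tt N11080 D17538) (tt N9851 (iv D16943)) (tt N9956 F66963) (tt N11073 (iv F69094)) (tt N10587 (iv F67306)) (tt N11078 (iv F69102)) (tt N11053 (iv F69025)) (tt N10006 F66964) (tt N10672 (iv F67603)))
theorem Q10487 : ∀ i, i < 10487 → P i := stepQ 10486 Q10486 (allL N10486 (tt N10957 (iv F68691)) (tt N10082 F66965) (tt N10932 (iv F68596)) (tt N11018 (iv F68906)) (tt N11031 (iv F68959)) (tt N9853 (iv D16944)) (tt N11081 D17539) (tt N11052 (iv F69021)) (tt N9885 F66966))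
theorem Q10488 : ∀ i, i < 10488 → P i := stepQ 10487 Q10487 (allL N10487 (tt N9861 F66967) (tt N10472 F66968) (tt N10487 F66969) (tt N9889 F66970) (tt N10466 F66971) (tt N10491 (iv F66985)) (tt N10022 F66972) (tt N11082 D17540) (tt N9854 (iv D16945)))
theorem Q10489 : ∀ i, i < 10489 → P i := stepQ 10488 Q10488 (allL N10488 (tt N9862 F66973) (tt N10852 (iv F68313)) (tt N10488 F66974) (tt N11083 D17541) (tt N11054 (iv F69029)) (tt N10873 (iv F68400)) (tt N10023 F66975) (tt N9855 (iv D16946)) (tt N11082 (iv F69119)))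
theorem Q10490 : ∀ i, i < 10490 → P i := stepQ 10489 Q10489 (allL N10489 (tt N9864 F66976) (tt N10856 (iv F68327)) (tt N11084 D17542) (tt N9856 (iv D16947)) (tt N11085 D17543) (tt N10879 (iv F68419)) (tt N10024 F66977) (tt N11083 (iv F69122)) (tt N9892 F66978))
theorem Q10491 : ∀ i, i < 10491 → P i := stepQ 10490 Q10490 (allL N10490 (tt N9865 F66979) (tt N10959 (iv F68700)) (tt N10736 (iv F67807)) (tt N11085 (iv F69128)) (tt N9857 (iv D16948)) (tt N11086 D17544) (tt N10025 F66980) (tt N11056 (iv F69037)) (tt N9893 F66981))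
theorem Q10492 : ∀ i, i < 10492 → P i := stepQ 10491 Q10491 (allL N10491 (tt N10492 (iv F66987)) (tt N9866 F66982) (tt N10491 F66983) (tt N10521 (iv F67083)) (tt N9860 F66984) (tt N10487 F66985) (tt N10274 F66986) (tt N11087 D17545) (tt N9858 (iv D16949)))
theorem Q10493 : ∀ i, i < 10493 → P i := stepQ 10492 Q10492 (allL N10492 (tt N10491 F66987) (tt N9868 F66988) (tt N10492 F66989) (tt N9896 F66990) (tt N10273 F66991) (tt N9861 F66992) (tt N10272 F66993) (tt N11088 D17546) (tt N9859 (iv D16950)))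
theorem Q10494 : ∀ i, i < 10494 → P i := stepQ 10493 Q10493 (allL N10493 (tt N10873 (iv F68397)) (tt N9869 F66994) (tt N10493 F66995) (tt N11089 D17547) (tt N11087 (iv F69135)) (tt N9862 F66996) (tt N10865 (iv F68367)) (tt N9860 (iv D16951)) (tt N11088 (iv F69145)))
theorem Q10495 : ∀ i, i < 10495 → P i := stepQ 10494 Q10494 (allL N10494 (tt N11082 (iv F69114)) (tt N9870 F66997) (tt N10494 F66998) (tt N11090 D17548) (tt N11058 (iv F69047)) (tt N11088 (iv F69143)) (tt N10077 F66999) (tt N9861 (iv D16952)) (tt N9862 F67000))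
theorem Q10496 : ∀ i, i < 10496 → P i := stepQ 10495 Q10495 (allL N10495 (tt N11083 (iv F69120)) (tt N9871 F67001) (tt N11091 D17549) (tt N9862 (iv D16953)) (tt N11092 D17550) (tt N11089 (iv F69147)) (tt N10078 F67002) (tt N9864 F67003) (tt N11090 (iv F69152)))
theorem Q10497 : ∀ i, i < 10497 → P i := stepQ 10496 Q10496 (allL N10496 (tt N10879 (iv F68417)) (tt N9873 F67004) (tt N11093 D17551) (tt N9863 (iv D16954)) (tt N11094 D17552) (tt N9864 F67005) (tt N10868 (iv F68380)) (tt N11089 (iv F69148)) (tt N9901 F67006))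
theorem Q10498 : ∀ i, i < 10498 → P i := stepQ 10497 Q10497 (allL N10497 (tt N11084 (iv F69123)) (tt N10977 (iv F68766)) (tt N9864 (iv D16955)) (tt N9937 F67007) (tt N11095 D17553) (tt N11093 (iv F69160)) (tt N10080 F67008) (tt N11091 (iv F69155)) (tt N9902 F67009))
theorem Q10499 : ∀ i, i < 10499 → P i := stepQ 10498 Q10498 (allL N10498 (tt N11085 (iv F69127)) (tt N9874 F67010) (tt N11095 (iv F69164)) (tt N9865 F67011) (tt N9864 (iv D16956)) (tt N11096 D17554) (tt N10081 F67012) (tt N11092 (iv F69158)) (tt N9903 F67013))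
theorem Q10500 : ∀ i, i < 10500 → P i := stepQ 10499 Q10499 (allL N10499 (tt N11086 (iv F69131)) (tt N9875 F67014) (tt N10817 (iv F68169)) (tt N11096 (iv F69168)) (tt N10826 (iv F68213)) (tt N9865 (iv D16957)) (tt N11097 D17555) (tt N11063 (iv F69065)) (tt N9904 F67015))
theorem Q10501 : ∀ i, i < 10501 → P i := stepQ 10500 Q10500 (allL N10500 (tt N10964 (iv F68716)) (tt N11087 (iv F69133)) (tt N10007 F67016) (tt N11098 D17556) (tt N9869 F67017) (tt N11064 (iv F69070)) (tt N10285 F67018) (tt N9866 (iv D16958)) (tt N10284 F67019))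
theorem Q10502 : ∀ i, i < 10502 → P i := stepQ 10501 Q10501 (allL N10501 (tt N10766 (iv F67947)) (tt N10865 (iv F68364)) (tt N10008 F67020) (tt N11099 D17557) (tt N10285 F67021) (tt N10762 (iv F67932)) (tt N9869 F67022) (tt N9867 (iv D16959)) (tt N10283 F67023))
theorem Q10503 : ∀ i, i < 10503 → P i := stepQ 10502 Q10502 (allL N10502 (tt N10965 (iv F68722)) (tt N11088 (iv F69140)) (tt N10009 F67024) (tt N11100 D17558) (tt N10284 F67025) (tt N9870 F67026) (tt N10283 F67027) (tt N9868 (iv D16960)) (tt N9869 F67028))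
theorem Q10504 : ∀ i, i < 10504 → P i := stepQ 10503 Q10503 (allL N10503 (tt N10966 (iv F68729)) (tt N11089 (iv F69146)) (tt N10981 (iv F68781)) (tt N9869 (iv D16961)) (tt N11101 D17559) (tt N9871 F67029) (tt N11099 (iv F69175)) (tt N9873 F67030) (tt N11100 (iv F69181)))
theorem Q10505 : ∀ i, i < 10505 → P i := stepQ 10504 Q10504 (allL N10504 (tt N10967 (iv F68733)) (tt N11090 (iv F69149)) (tt N10982 (iv F68785)) (tt N9870 (iv D16962)) (tt N11102 D17560) (tt N11100 (iv F69178)) (tt N11011 (iv F68882)) (tt N9909 F67031) (tt N9871 F67032))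
theorem Q10506 : ∀ i, i < 10506 → P i := stepQ 10505 Q10505 (allL N10505 (tt N10968 (iv F68738)) (tt N11092 (iv F69156)) (tt N10983 (iv F68790)) (tt N11069 (iv F69086)) (tt N9871 (iv D16963)) (tt N11103 D17561) (tt N11013 (iv F68891)) (tt N9874 F67033) (tt N11102 (iv F69184)))
theorem Q10507 : ∀ i, i < 10507 → P i := stepQ 10506 Q10506 (allL N10506 (tt N10768 (iv F67957)) (tt N10868 (iv F68378)) (tt N10740 (iv F67831)) (tt N9872 (iv D16964)) (tt N11104 D17562) (tt N10763 (iv F67938)) (tt N9873 F67034) (tt N11099 (iv F69176)) (tt N9912 F67035))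
theorem Q10508 : ∀ i, i < 10508 → P i := stepQ 10507 Q10507 (allL N10507 (tt N10969 (iv F68742)) (tt N11094 (iv F69162)) (tt N10984 (iv F68794)) (tt N10836 (iv F68243)) (tt N9873 (iv D16965)) (tt N11105 D17563) (tt N11104 (iv F69186)) (tt N11101 (iv F69182)) (tt N9914 F67036))
theorem Q10509 : ∀ i, i < 10509 → P i := stepQ 10508 Q10508 (allL N10508 (tt N10970 (iv F68745)) (tt N11096 (iv F69167)) (tt N10985 (iv F68797)) (tt N9875 F67037) (tt N11105 (iv F69188)) (tt N9874 (iv D16966)) (tt N11106 D17564) (tt N11103 (iv F69185)) (tt N9917 F67038))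
theorem Q10510 : ∀ i, i < 10510 → P i := stepQ 10509 Q10509 (allL N10509 (tt N10971 (iv F68749)) (tt N11097 (iv F69170)) (tt N11032 (iv F68961)) (tt N11106 (iv F69190)) (tt N10840 (iv F68254)) (tt N11081 (iv F69112)) (tt N9875 (iv D16967)) (tt N11076 (iv F69097)) (tt N9918 F67039))
theorem Q10511 : ∀ i, i < 10511 → P i := stepQ 10510 Q10510 (allL N10510 (tt N10821 (iv F68187)) (tt N10084 F67040) (tt N9919 F67041) (tt N11107 D17565) (tt N9879 F67042) (tt N10529 (iv F67111)) (tt N10086 F67043) (tt N9876 (iv D16968)) (tt N10085 F67044))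
theorem Q10512 : ∀ i, i < 10512 → P i := stepQ 10511 Q10511 (allL N10511 (tt N10739 (iv F67822)) (tt N10085 F67045) (tt N9920 F67046) (tt N11108 D17566) (tt N10086 F67047) (tt N9906 F67048) (tt N9879 F67049) (tt N9877 (iv D16969)) (tt N10084 F67050))
theorem Q10513 : ∀ i, i < 10513 → P i := stepQ 10512 Q10512 (allL N10512 (tt N10799 (iv F68097)) (tt N10086 F67051) (tt N9921 F67052) (tt N11109 D17567) (tt N10085 F67053) (tt N9880 F67054) (tt N10084 F67055) (tt N9878 (iv D16970)) (tt N9879 F67056))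
theorem Q10514 : ∀ i, i < 10514 → P i := stepQ 10513 Q10513 (allL N10513 (tt N10981 (iv F68780)) (tt N10087 F67057) (tt N10966 (iv F68730)) (tt N9879 (iv D16971)) (tt N11110 D17568) (tt N9881 F67058) (tt N11108 (iv F69197)) (tt N9883 F67059) (tt N11109 (iv F69203)))
theorem Q10515 : ∀ i, i < 10515 → P i := stepQ 10514 Q10514 (allL N10514 (tt N10982 (iv F68784)) (tt N10088 F67060) (tt N10967 (iv F68734)) (tt N9880 (iv D16972)) (tt N11111 D17569) (tt N11109 (iv F69201)) (tt N9909 F67061) (tt N11011 (iv F68883)) (tt N9881 F67062))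
theorem Q10516 : ∀ i, i < 10516 → P i := stepQ 10515 Q10515 (allL N10515 (tt N10983 (iv F68789)) (tt N10090 F67063) (tt N10968 (iv F68739)) (tt N10535 (iv F67133)) (tt N9881 (iv D16973)) (tt N11112 D17570) (tt N9911 F67064) (tt N9884 F67065) (tt N11111 (iv F69208)))
theorem Q10517 : ∀ i, i < 10517 → P i := stepQ 10516 Q10516 (allL N10516 (tt N10740 (iv F67829)) (tt N10091 F67066) (tt N10768 (iv F67959)) (tt N9882 (iv D16974)) (tt N11113 D17571) (tt N9912 F67067) (tt N9883 F67068) (tt N11108 (iv F69198)) (tt N10763 (iv F67940)))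
theorem Q10518 : ∀ i, i < 10518 → P i := stepQ 10517 Q10517 (allL N10517 (tt N10984 (iv F68793)) (tt N10093 F67069) (tt N10969 (iv F68743)) (tt N11039 (iv F68985)) (tt N9883 (iv D16975)) (tt N11114 D17572) (tt N11113 (iv F69212)) (tt N11110 (iv F69205)) (tt N11016 (iv F68900)))
theorem Q10519 : ∀ i, i < 10519 → P i := stepQ 10518 Q10518 (allL N10518 (tt N10985 (iv F68796)) (tt N10096 F67070) (tt N10970 (iv F68746)) (tt N9885 F67071) (tt N11114 (iv F69214)) (tt N9884 (iv D16976)) (tt N11115 D17573) (tt N11112 (iv F69210)) (tt N11018 (iv F68907)))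
theorem Q10520 : ∀ i, i < 10520 → P i := stepQ 10519 Q10519 (allL N10519 (tt N10986 (iv F68800)) (tt N10097 F67072) (tt N11033 (iv F68964)) (tt N11115 (iv F69216)) (tt N11042 (iv F68990)) (tt N9918 F67073) (tt N9885 (iv D16977)) (tt N10542 (iv F67151)) (tt N11081 (iv F69113)))
theorem Q10521 : ∀ i, i < 10521 → P i := stepQ 10520 Q10520 (allL N10520 (tt N9894 F67074) (tt N10236 F67075) (tt N9957 F67076) (tt N10274 F67077) (tt N9888 F67078) (tt N10229 F67079) (tt N10521 (iv F67086)) (tt N11116 D17574) (tt N9886 (iv D16978)))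
theorem Q10522 : ∀ i, i < 10522 → P i := stepQ 10521 Q10521 (allL N10521 (tt N9896 F67080) (tt N10234 F67081) (tt N9959 F67082) (tt N10491 F67083) (tt N10228 F67084) (tt N9889 F67085) (tt N10520 F67086) (tt N11117 D17575) (tt N9887 (iv D16979)))
theorem Q10523 : ∀ i, i < 10523 → P i := stepQ 10522 Q10522 (allL N10522 (tt N9897 F67087) (tt N10828 (iv F68218)) (tt N9960 F67088) (tt N11118 D17576) (tt N11116 (iv F69221)) (tt N9890 F67089) (tt N10820 (iv F68186)) (tt N9888 (iv D16980)) (tt N11117 (iv F69230)))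
theorem Q10524 : ∀ i, i < 10524 → P i := stepQ 10523 Q10523 (allL N10523 (tt N9898 F67090) (tt N10987 (iv F68803)) (tt N9961 F67091) (tt N11119 D17577) (tt N10386 F67092) (tt N11117 (iv F69228)) (tt N10035 F67093) (tt N9889 (iv D16981)) (tt N9890 F67094))
theorem Q10525 : ∀ i, i < 10525 → P i := stepQ 10524 Q10524 (allL N10524 (tt N9899 F67095) (tt N10988 (iv F68810)) (tt N11120 D17578) (tt N9890 (iv D16982)) (tt N11121 D17579) (tt N11118 (iv F69232)) (tt N10036 F67096) (tt N9892 F67097) (tt N11119 (iv F69236)))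
theorem Q10526 : ∀ i, i < 10526 → P i := stepQ 10525 Q10525 (allL N10525 (tt N9901 F67098) (tt N10834 (iv F68236)) (tt N11122 D17580) (tt N9891 (iv D16983)) (tt N11123 D17581) (tt N9892 F67099) (tt N10823 (iv F68200)) (tt N11118 (iv F69233)) (tt N10879 (iv F68421)))
theorem Q10527 : ∀ i, i < 10527 → P i := stepQ 10526 Q10526 (allL N10526 (tt N9902 F67100) (tt N11124 D17582) (tt N9892 (iv D16984)) (tt N9940 F67101) (tt N11125 D17583) (tt N11122 (iv F69247)) (tt N10038 F67102) (tt N11120 (iv F69240)) (tt N11084 (iv F69126)))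
theorem Q10528 : ∀ i, i < 10528 → P i := stepQ 10527 Q10527 (allL N10527 (tt N9903 F67103) (tt N10990 (iv F68818)) (tt N11125 (iv F69252)) (tt N9893 F67104) (tt N9892 (iv D16985)) (tt N11126 D17584) (tt N10039 F67105) (tt N11121 (iv F69244)) (tt N11085 (iv F69130)))
theorem Q10529 : ∀ i, i < 10529 → P i := stepQ 10528 Q10528 (allL N10528 (tt N9904 F67106) (tt N10992 (iv F68826)) (tt N10761 (iv F67927)) (tt N11126 (iv F69255)) (tt N10871 (iv F68391)) (tt N9893 (iv D16986)) (tt N11127 D17585) (tt N10390 F67107) (tt N11086 (iv F69132)))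
theorem Q10530 : ∀ i, i < 10530 → P i := stepQ 10529 Q10529 (allL N10529 (tt N11116 (iv F69218)) (tt N9905 F67108) (tt N9966 F67109) (tt N11128 D17586) (tt N9897 F67110) (tt N10510 F67111) (tt N10531 (iv F67121)) (tt N9894 (iv D16987)) (tt N10530 (iv F67116)))
theorem Q10531 : ∀ i, i < 10531 → P i := stepQ 10530 Q10530 (allL N10530 (tt N10820 (iv F68182)) (tt N9906 F67112) (tt N9967 F67113) (tt N11129 D17587) (tt N10531 (iv F67119)) (tt N10085 F67114) (tt N9897 F67115) (tt N9895 (iv D16988)) (tt N10529 F67116))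
theorem Q10532 : ∀ i, i < 10532 → P i := stepQ 10531 Q10531 (allL N10531 (tt N11117 (iv F69224)) (tt N9907 F67117) (tt N9968 F67118) (tt N11130 D17588) (tt N10530 F67119) (tt N9898 F67120) (tt N10529 F67121) (tt N9896 (iv D16989)) (tt N9897 F67122))
theorem Q10533 : ∀ i, i < 10533 → P i := stepQ 10532 Q10532 (allL N10532 (tt N11118 (iv F69231)) (tt N9908 F67123) (tt N11131 D17589) (tt N9897 (iv D16990)) (tt N11132 D17590) (tt N9899 F67124) (tt N11129 (iv F69263)) (tt N9901 F67125) (tt N11130 (iv F69269)))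
theorem Q10534 : ∀ i, i < 10534 → P i := stepQ 10533 Q10533 (allL N10533 (tt N11119 (iv F69234)) (tt N9909 F67126) (tt N11133 D17591) (tt N9898 (iv D16991)) (tt N11134 D17592) (tt N11130 (iv F69267)) (tt N10088 F67127) (tt N11090 (iv F69151)) (tt N9899 F67128))
theorem Q10535 : ∀ i, i < 10535 → P i := stepQ 10534 Q10534 (allL N10534 (tt N11120 (iv F69237)) (tt N11135 D17593) (tt N9899 (iv D16992)) (tt N9971 F67129) (tt N11136 D17594) (tt N11131 (iv F69272)) (tt N10089 F67130) (tt N9902 F67131) (tt N11133 (iv F69278)))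
theorem Q10536 : ∀ i, i < 10536 → P i := stepQ 10535 Q10535 (allL N10535 (tt N11121 (iv F69241)) (tt N9911 F67132) (tt N11136 (iv F69288)) (tt N10515 F67133) (tt N9899 (iv D16993)) (tt N11137 D17595) (tt N10090 F67134) (tt N9903 F67135) (tt N11134 (iv F69282)))
theorem Q10537 : ∀ i, i < 10537 → P i := stepQ 10536 Q10536 (allL N10536 (tt N10823 (iv F68197)) (tt N9912 F67136) (tt N10781 (iv F68006)) (tt N9900 (iv D16994)) (tt N11138 D17596) (tt N10091 F67137) (tt N9901 F67138) (tt N11129 (iv F69264)) (tt N10868 (iv F68381)))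
theorem Q10538 : ∀ i, i < 10538 → P i := stepQ 10537 Q10537 (allL N10537 (tt N11122 (iv F69245)) (tt N10759 (iv F67918)) (tt N9901 (iv D16995)) (tt N9941 F67139) (tt N11139 D17597) (tt N9902 F67140) (tt N10781 (iv F68009)) (tt N11131 (iv F69273)) (tt N11093 (iv F69161)))
theorem Q10539 : ∀ i, i < 10539 → P i := stepQ 10538 Q10538 (allL N10538 (tt N11123 (iv F69248)) (tt N9914 F67141) (tt N11139 (iv F69296)) (tt N10881 (iv F68425)) (tt N9901 (iv D16996)) (tt N11140 D17598) (tt N11138 (iv F69295)) (tt N11132 (iv F69275)) (tt N11094 (iv F69163)))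
theorem Q10540 : ∀ i, i < 10540 → P i := stepQ 10539 Q10539 (allL N10539 (tt N10857 (iv F68332)) (tt N9902 (iv D16997)) (tt N9915 F67142) (tt N9943 F67143) (tt N11141 D17599) (tt N10759 (iv F67920)) (tt N10094 F67144) (tt N11135 (iv F69287)) (tt N10977 (iv F68769)))
theorem Q10541 : ∀ i, i < 10541 → P i := stepQ 10540 Q10540 (allL N10540 (tt N11125 (iv F69251)) (tt N11141 (iv F69299)) (tt N9903 F67145) (tt N10860 (iv F68344)) (tt N9902 (iv D16998)) (tt N11142 D17600) (tt N10095 F67146) (tt N11136 (iv F69290)) (tt N11095 (iv F69166)))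
theorem Q10542 : ∀ i, i < 10542 → P i := stepQ 10541 Q10541 (allL N10541 (tt N11126 (iv F69254)) (tt N9917 F67147) (tt N11142 (iv F69302)) (tt N9904 F67148) (tt N11140 (iv F69298)) (tt N9903 (iv D16999)) (tt N11143 D17601) (tt N11137 (iv F69293)) (tt N11096 (iv F69169)))
theorem Q10543 : ∀ i, i < 10543 → P i := stepQ 10542 Q10542 (allL N10542 (tt N11127 (iv F69256)) (tt N9918 F67149) (tt N10862 (iv F68347)) (tt N11143 (iv F69304)) (tt N10885 (iv F68433)) (tt N10097 F67150) (tt N9904 (iv D17000)) (tt N10519 F67151) (tt N11097 (iv F69172)))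
theorem Q10544 : ∀ i, i < 10544 → P i := stepQ 10543 Q10543 (allL N10543 (tt N11006 (iv F68864)) (tt N11128 (iv F69259)) (tt N11144 D17602) (tt N9905 (iv D17001)) (tt N11145 D17603) (tt N10684 (iv F67629)) (tt N10545 (iv F67156)) (tt N10886 (iv F68434)) (tt N10544 (iv F67154)))
theorem Q10545 : ∀ i, i < 10545 → P i := stepQ 10544 Q10544 (allL N10544 (tt N11007 (iv F68865)) (tt N11129 (iv F69261)) (tt N10767 (iv F67954)) (tt N9906 (iv D17002)) (tt N11146 D17604) (tt N11108 (iv F69196)) (tt N9908 F67152) (tt N9912 F67153) (tt N10543 F67154))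
theorem Q10546 : ∀ i, i < 10546 → P i := stepQ 10545 Q10545 (allL N10545 (tt N11008 (iv F68869)) (tt N11130 (iv F69266)) (tt N10800 (iv F68105)) (tt N9907 (iv D17003)) (tt N11147 D17605) (tt N9909 F67155) (tt N10543 F67156) (tt N11100 (iv F69180)) (tt N9908 F67157))
theorem Q10547 : ∀ i, i < 10547 → P i := stepQ 10546 Q10546 (allL N10546 (tt N11009 (iv F68873)) (tt N10437 (iv F67161)) (tt N9908 (iv D17004)) (tt N9929 F67158) (tt N11148 D17606) (tt N9910 F67159) (tt N10767 (iv F67955)) (tt N9913 F67160) (tt N10800 (iv F68107)))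
theorem Q10548 : ∀ i, i < 10548 → P i := stepQ 10547 Q10547 (allL N10547 (tt N11010 (iv F68878)) (tt N11132 (iv F69274)) (tt N11148 (iv F69319)) (tt N11145 (iv F69311)) (tt N9908 (iv D17005)) (tt N11149 D17607) (tt N11146 (iv F69312)) (tt N9914 F67162) (tt N11147 (iv F69317)))
theorem Q10549 : ∀ i, i < 10549 → P i := stepQ 10548 Q10548 (allL N10548 (tt N11011 (iv F68880)) (tt N10805 (iv F68122)) (tt N9909 (iv D17006)) (tt N9930 F67163) (tt N11150 D17608) (tt N10800 (iv F68106)) (tt N10967 (iv F68735)) (tt N10982 (iv F68787)) (tt N9910 F67164))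
theorem Q10550 : ∀ i, i < 10550 → P i := stepQ 10549 Q10549 (allL N10549 (tt N11012 (iv F68886)) (tt N11134 (iv F69279)) (tt N11150 (iv F69324)) (tt N10690 (iv F67640)) (tt N9909 (iv D17007)) (tt N11151 D17609) (tt N11111 (iv F69207)) (tt N11102 (iv F69183)) (tt N9911 F67165))
theorem Q10551 : ∀ i, i < 10551 → P i := stepQ 10550 Q10550 (allL N10550 (tt N10853 (iv F68317)) (tt N9910 (iv D17008)) (tt N11135 (iv F69283)) (tt N9932 F67166) (tt N11152 D17610) (tt N10437 F67167) (tt N10960 (iv F68705)) (tt N9915 F67168) (tt N10805 (iv F68124)))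
theorem Q10552 : ∀ i, i < 10552 → P i := stepQ 10551 Q10551 (allL N10551 (tt N11013 (iv F68888)) (tt N11152 (iv F69327)) (tt N9911 F67169) (tt N11153 D17611) (tt N9910 (iv D17009)) (tt N11154 D17612) (tt N10968 (iv F68740)) (tt N9916 F67170) (tt N11150 (iv F69325)))
theorem Q10553 : ∀ i, i < 10553 → P i := stepQ 10552 Q10552 (allL N10552 (tt N11014 (iv F68893)) (tt N11137 (iv F69291)) (tt N11154 (iv F69330)) (tt N10693 (iv F67646)) (tt N11149 (iv F69322)) (tt N9911 (iv D17010)) (tt N11155 D17613) (tt N9917 F67171) (tt N11151 (iv F69326)))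
theorem Q10554 : ∀ i, i < 10554 → P i := stepQ 10553 Q10553 (allL N10553 (tt N11015 (iv F68895)) (tt N11138 (iv F69294)) (tt N10769 (iv F67964)) (tt N10896 (iv F68451)) (tt N9912 (iv D17011)) (tt N11156 D17614) (tt N9914 F67172) (tt N11146 (iv F69313)) (tt N11104 (iv F69187)))
theorem Q10555 : ∀ i, i < 10555 → P i := stepQ 10554 Q10554 (allL N10554 (tt N11016 (iv F68897)) (tt N10760 (iv F67923)) (tt N9914 F67173) (tt N10758 (iv F67915)) (tt N9913 (iv D17012)) (tt N11157 D17615) (tt N10769 (iv F67966)) (tt N11148 (iv F69321)) (tt N10984 (iv F68795)))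
theorem Q10556 : ∀ i, i < 10556 → P i := stepQ 10555 Q10555 (allL N10555 (tt N11017 (iv F68901)) (tt N11140 (iv F69297)) (tt N11157 (iv F69333)) (tt N10899 (iv F68458)) (tt N9917 F67174) (tt N9914 (iv D17013)) (tt N11158 D17616) (tt N11149 (iv F69323)) (tt N11105 (iv F69189)))
theorem Q10557 : ∀ i, i < 10557 → P i := stepQ 10556 Q10556 (allL N10556 (tt N10858 (iv F68337)) (tt N9916 F67175) (tt N11141 (iv F69300)) (tt N10956 (iv F68688)) (tt N9915 (iv D17014)) (tt N11159 D17617) (tt N10961 (iv F68710)) (tt N11152 (iv F69328)) (tt N10978 (iv F68774)))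
theorem Q10558 : ∀ i, i < 10558 → P i := stepQ 10557 Q10557 (allL N10557 (tt N11018 (iv F68903)) (tt N11159 (iv F69336)) (tt N9917 F67176) (tt N10957 (iv F68693)) (tt N11157 (iv F69334)) (tt N9916 (iv D17015)) (tt N11160 D17618) (tt N11154 (iv F69331)) (tt N10985 (iv F68799)))
theorem Q10559 : ∀ i, i < 10559 → P i := stepQ 10558 Q10558 (allL N10558 (tt N11019 (iv F68908)) (tt N11143 (iv F69303)) (tt N11160 (iv F69337)) (tt N9918 F67177) (tt N11158 (iv F69335)) (tt N11115 (iv F69217)) (tt N9917 (iv D17016)) (tt N11155 (iv F69332)) (tt N11106 (iv F69191)))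
theorem Q10560 : ∀ i, i < 10560 → P i := stepQ 10559 Q10559 (allL N10559 (tt N11020 (iv F68910)) (tt N9984 F67178) (tt N11161 D17619) (tt N9919 (iv D17017)) (tt N10719 (iv F67717)) (tt N10585 (iv F67296)) (tt N10104 F67179) (tt N10559 F67180) (tt N10103 F67181))
theorem Q10561 : ∀ i, i < 10561 → P i := stepQ 10560 Q10560 (allL N10560 (tt N10008 F67182) (tt N9985 F67183) (tt N10766 (iv F67949)) (tt N9920 (iv D17018)) (tt N10189 (iv F67188)) (tt N9928 F67184) (tt N9922 F67185) (tt N9925 F67186) (tt N10102 F67187))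
theorem Q10562 : ∀ i, i < 10562 → P i := stepQ 10561 Q10561 (allL N10561 (tt N10009 F67189) (tt N9986 F67190) (tt N10965 (iv F68724)) (tt N9921 (iv D17019)) (tt N10188 F67191) (tt N9923 F67192) (tt N10102 F67193) (tt N9994 F67194) (tt N9922 F67195))
theorem Q10563 : ∀ i, i < 10563 → P i := stepQ 10562 Q10562 (allL N10562 (tt N10007 F67196) (tt N9988 F67197) (tt N10964 (iv F68717)) (tt N10719 (iv F67716)) (tt N9922 (iv D17020)) (tt N10218 F67198) (tt N10189 F67199) (tt N9926 F67200) (tt N10188 F67201))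
theorem Q10564 : ∀ i, i < 10564 → P i := stepQ 10563 Q10563 (allL N10563 (tt N10000 F67202) (tt N9951 F67203) (tt N10945 (iv F68650)) (tt N10589 (iv F67313)) (tt N9923 (iv D17021)) (tt N10071 F67204) (tt N9931 F67205) (tt N9949 F67206) (tt N9924 F67207))
theorem Q10565 : ∀ i, i < 10565 → P i := stepQ 10564 Q10564 (allL N10564 (tt N10450 F67208) (tt N10179 F67209) (tt N9927 (iv D17022)) (tt N11144 (iv F69307)) (tt N10205 F67210) (tt N10704 (iv F67661)) (tt N10210 F67211) (tt N9934 F67212) (tt N10171 F67213))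
theorem Q10566 : ∀ i, i < 10566 → P i := stepQ 10565 Q10565 (allL N10565 (tt N11022 (iv F68923)) (tt N10665 (iv F67580)) (tt N10714 (iv F67696)) (tt N9933 (iv D17023)) (tt N11153 (iv F69329)) (tt N10460 F67214) (tt N10946 (iv F68656)) (tt N10937 (iv F68620)) (tt N11060 (iv F69056)))
theorem Q10567 : ∀ i, i < 10567 → P i := stepQ 10566 Q10566 (allL N10566 (tt N9937 F67215) (tt N11162 D17620) (tt N9935 (iv D17024)) (tt N11084 (iv F69124)) (tt N10737 (iv F67812)) (tt N10919 (iv F68531)) (tt N10026 F67216) (tt N10566 F67217) (tt N9940 F67218))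
theorem Q10568 : ∀ i, i < 10568 → P i := stepQ 10567 Q10567 (allL N10567 (tt N10919 (iv F68528)) (tt N10737 (iv F67811)) (tt N9936 (iv D17025)) (tt N11093 (iv F69159)) (tt N11162 (iv F69343)) (tt N9937 F67219) (tt N10751 (iv F67879)) (tt N10567 F67220) (tt N9941 F67221))
theorem Q10569 : ∀ i, i < 10569 → P i := stepQ 10568 Q10568 (allL N10568 (tt N10062 F67222) (tt N9938 F67223) (tt N11162 (iv F69342)) (tt N10061 F67224) (tt N9936 (iv D17026)) (tt N10059 F67225) (tt N10057 F67226) (tt N10568 F67227) (tt N9942 F67228))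
theorem Q10570 : ∀ i, i < 10570 → P i := stepQ 10569 Q10569 (allL N10569 (tt N9941 F67229) (tt N10864 (iv F68357)) (tt N9939 (iv D17027)) (tt N11122 (iv F69246)) (tt N10863 F68355) (tt N9940 F67230) (tt N10785 (iv F68022)) (tt N9990 F67231) (tt N10919 (iv F68534)))
theorem Q10571 : ∀ i, i < 10571 → P i := stepQ 10570 Q10570 (allL N10570 (tt N10863 (iv F68349)) (tt N9940 (iv D17028)) (tt N9942 F67232) (tt N11124 (iv F69249)) (tt N9941 F67233) (tt N10864 (iv F68359)) (tt N10042 F67234) (tt N9991 F67235) (tt N11162 (iv F69347)))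
theorem Q10572 : ∀ i, i < 10572 → P i := stepQ 10571 Q10571 (allL N10571 (tt N11163 D17621) (tt N9946 (iv D17029)) (tt N11053 (iv F69022)) (tt N10122 F67236) (tt N10586 (iv F67300)) (tt N10129 F67237) (tt N9956 F67238) (tt N10010 F67239) (tt N10573 (iv F67246)))
theorem Q10573 : ∀ i, i < 10573 → P i := stepQ 10572 Q10572 (allL N10572 (tt N10913 (iv F68505)) (tt N11164 D17622) (tt N9950 (iv D17030)) (tt N11061 (iv F69057)) (tt N10786 (iv F68026)) (tt N10711 F67690) (tt N10073 F67240) (tt N10572 F67241) (tt N10462 F67242))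
theorem Q10574 : ∀ i, i < 10574 → P i := stepQ 10573 Q10573 (allL N10573 (tt N11165 D17623) (tt N9952 (iv D17031)) (tt N11164 (iv F69353)) (tt N9956 F67243) (tt N10585 (iv F67295)) (tt N10721 (iv F67730)) (tt N10122 F67244) (tt N10573 F67245) (tt N10571 F67246))
theorem Q10575 : ∀ i, i < 10575 → P i := stepQ 10574 Q10574 (allL N10574 (tt N11166 D17624) (tt N9954 (iv D17032)) (tt N11078 (iv F69101)) (tt N10721 (iv F67729)) (tt N10482 F67247) (tt N9956 F67248) (tt N10484 F67249) (tt N10011 F67250) (tt N10717 (iv F67712)))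
theorem Q10576 : ∀ i, i < 10576 → P i := stepQ 10575 Q10575 (allL N10575 (tt N9956 (iv D17033)) (tt N10575 F67251) (tt N11080 (iv F69109)) (tt N11165 (iv F69358)) (tt N10579 F67272) (tt N11166 (iv F69364)) (tt N11163 (iv F69351)) (tt N10012 F67252) (tt N10718 (iv F67715)))
theorem Q10577 : ∀ i, i < 10577 → P i := stepQ 10576 Q10576 (allL N10576 (tt N9966 F67253) (tt N10576 F67254) (tt N11116 (iv F69220)) (tt N11167 D17625) (tt N9960 F67255) (tt N10419 F67256) (tt N10578 (iv F67266)) (tt N9957 (iv D17034)) (tt N10577 (iv F67261)))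
theorem Q10578 : ∀ i, i < 10578 → P i := stepQ 10577 Q10577 (allL N10577 (tt N9967 F67257) (tt N10577 F67258) (tt N10820 (iv F68184)) (tt N11168 D17626) (tt N10578 (iv F67264)) (tt N10044 F67259) (tt N9960 F67260) (tt N9958 (iv D17035)) (tt N10576 F67261))
theorem Q10579 : ∀ i, i < 10579 → P i := stepQ 10578 Q10578 (allL N10578 (tt N9968 F67262) (tt N10578 F67263) (tt N11117 (iv F69226)) (tt N10921 (iv F68543)) (tt N10577 F67264) (tt N9961 F67265) (tt N10576 F67266) (tt N9959 (iv D17036)) (tt N9960 F67267))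
theorem Q10580 : ∀ i, i < 10580 → P i := stepQ 10579 Q10579 (allL N10579 (tt N9969 F67268) (tt N10579 F67269) (tt N11169 D17627) (tt N9960 (iv D17037)) (tt N10575 (iv F67272)) (tt N9962 F67270) (tt N11168 (iv F69377)) (tt N9964 F67271) (tt N10921 (iv F68547)))
theorem Q10581 : ∀ i, i < 10581 → P i := stepQ 10580 Q10580 (allL N10580 (tt N9970 F67273) (tt N10580 F67274) (tt N11170 D17628) (tt N9961 (iv D17038)) (tt N10602 (iv F67373)) (tt N10921 (iv F68545)) (tt N10047 F67275) (tt N10580 F67276) (tt N9962 F67277))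
theorem Q10582 : ∀ i, i < 10582 → P i := stepQ 10581 Q10581 (allL N10581 (tt N9971 F67278) (tt N11171 D17629) (tt N9962 (iv D17039)) (tt N11120 (iv F69238)) (tt N10603 (iv F67377)) (tt N11169 (iv F69382)) (tt N10048 F67279) (tt N9965 F67280) (tt N11170 (iv F69387)))
theorem Q10583 : ∀ i, i < 10583 → P i := stepQ 10582 Q10582 (allL N10582 (tt N9973 F67281) (tt N10582 F67282) (tt N10788 (iv F68035)) (tt N9963 (iv D17040)) (tt N10611 (iv F67412)) (tt N10050 F67283) (tt N9964 F67284) (tt N11168 (iv F69378)) (tt N10582 F67285))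
theorem Q10584 : ∀ i, i < 10584 → P i := stepQ 10583 Q10583 (allL N10583 (tt N9974 F67286) (tt N10909 (iv F68488)) (tt N9964 (iv D17041)) (tt N9990 F67287) (tt N10609 (iv F67404)) (tt N9965 F67288) (tt N10788 (iv F68038)) (tt N11169 (iv F69383)) (tt N10583 F67289))
theorem Q10585 : ∀ i, i < 10585 → P i := stepQ 10584 Q10584 (allL N10584 (tt N10907 (iv F68478)) (tt N9965 (iv D17042)) (tt N10584 F67290) (tt N9991 F67291) (tt N10606 (iv F67392)) (tt N10909 (iv F68491)) (tt N10052 F67292) (tt N11171 (iv F69390)) (tt N10584 F67293))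
theorem Q10586 : ∀ i, i < 10586 → P i := stepQ 10585 Q10585 (allL N10585 (tt N11167 (iv F69367)) (tt N9978 F67294) (tt N11172 D17630) (tt N9966 (iv D17043)) (tt N10573 F67295) (tt N10559 F67296) (tt N10331 F67297) (tt N10585 F67298) (tt N10586 (iv F67304)))
theorem Q10587 : ∀ i, i < 10587 → P i := stepQ 10586 Q10586 (allL N10586 (tt N11168 (iv F69373)) (tt N9979 F67299) (tt N10787 (iv F68030)) (tt N9967 (iv D17044)) (tt N10571 F67300) (tt N10103 F67301) (tt N9969 F67302) (tt N9973 F67303) (tt N10585 F67304))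
theorem Q10588 : ∀ i, i < 10588 → P i := stepQ 10587 Q10587 (allL N10587 (tt N11169 (iv F69380)) (tt N10439 F67305) (tt N9969 (iv D17045)) (tt N11131 (iv F69271)) (tt N10485 F67306) (tt N9971 F67307) (tt N10787 (iv F68032)) (tt N9974 F67308) (tt N10811 (iv F68145)))
theorem Q10589 : ∀ i, i < 10589 → P i := stepQ 10588 Q10588 (allL N10588 (tt N11170 (iv F69384)) (tt N10809 (iv F68130)) (tt N9970 (iv D17046)) (tt N11133 (iv F69276)) (tt N11173 D17631) (tt N10811 (iv F68143)) (tt N10107 F67309) (tt N10588 F67310) (tt N9971 F67311))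
theorem Q10590 : ∀ i, i < 10590 → P i := stepQ 10589 Q10589 (allL N10589 (tt N10602 (iv F67371)) (tt N9980 F67312) (tt N11173 (iv F69397)) (tt N10563 F67313) (tt N9970 (iv D17047)) (tt N10669 (iv F67590)) (tt N10108 F67314) (tt N10589 F67315) (tt N9972 F67316))
theorem Q10591 : ∀ i, i < 10591 → P i := stepQ 10590 Q10590 (allL N10590 (tt N10904 (iv F68467)) (tt N9971 (iv D17048)) (tt N9981 F67317) (tt N11135 (iv F69284)) (tt N11174 D17632) (tt N10439 F67318) (tt N10109 F67319) (tt N9975 F67320) (tt N10809 (iv F68134)))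
theorem Q10592 : ∀ i, i < 10592 → P i := stepQ 10591 Q10591 (allL N10591 (tt N10603 (iv F67376)) (tt N11174 (iv F69401)) (tt N9972 F67321) (tt N11175 D17633) (tt N9971 (iv D17049)) (tt N11077 (iv F69098)) (tt N10110 F67322) (tt N9976 F67323) (tt N11173 (iv F69400)))
theorem Q10593 : ∀ i, i < 10593 → P i := stepQ 10592 Q10592 (allL N10592 (tt N10908 (iv F68484)) (tt N9976 F67324) (tt N9983 F67325) (tt N10597 (iv F67345)) (tt N9975 (iv D17050)) (tt N10608 (iv F67400)) (tt N10115 F67326) (tt N11174 (iv F69405)) (tt N10592 F67327))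
theorem Q10594 : ∀ i, i < 10594 → P i := stepQ 10593 Q10593 (allL N10593 (tt N10604 (iv F67379)) (tt N10608 (iv F67398)) (tt N9977 F67328) (tt N10595 (iv F67336)) (tt N10607 F67397) (tt N9976 (iv D17051)) (tt N10004 F67329) (tt N11077 (iv F69100)) (tt N10593 F67330))
theorem Q10595 : ∀ i, i < 10595 → P i := stepQ 10594 Q10594 (allL N10594 (tt N10905 (iv F68471)) (tt N9982 F67331) (tt N11174 (iv F69402)) (tt N10671 (iv F67598)) (tt N9981 (iv D17052)) (tt N10484 F67332) (tt N10129 F67333) (tt N9983 F67334) (tt N10810 (iv F68140)))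
theorem Q10596 : ∀ i, i < 10596 → P i := stepQ 10595 Q10595 (allL N10595 (tt N10004 F67335) (tt N11176 D17634) (tt N9992 (iv D17053)) (tt N10593 F67336) (tt N11177 D17635) (tt N9993 F67337) (tt N10604 (iv F67382)) (tt N10951 (iv F68669)) (tt N10595 F67338))
theorem Q10597 : ∀ i, i < 10597 → P i := stepQ 10596 Q10596 (allL N10596 (tt N10005 F67339) (tt N10596 F67340) (tt N11177 (iv F69415)) (tt N10596 F67341) (tt N9992 (iv D17054)) (tt N10303 F67342) (tt N10605 (iv F67388)) (tt N10952 (iv F68673)) (tt N10596 F67343))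
theorem Q10598 : ∀ i, i < 10598 → P i := stepQ 10597 Q10597 (allL N10597 (tt N11178 D17636) (tt N9993 (iv D17055)) (tt N10597 F67344) (tt N10592 F67345) (tt N10304 F67346) (tt N11176 (iv F69412)) (tt N10316 F67347) (tt N10953 (iv F68677)) (tt N10597 F67348))
theorem Q10599 : ∀ i, i < 10599 → P i := stepQ 10598 Q10598 (allL N10598 (tt N11179 D17637) (tt N9996 (iv D17056)) (tt N10010 F67349) (tt N10655 (iv F67552)) (tt N10192 F67350) (tt N10115 F67351) (tt N10006 F67352) (tt N11053 (iv F69026)) (tt N10598 F67353))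
theorem Q10600 : ∀ i, i < 10600 → P i := stepQ 10599 Q10599 (allL N10599 (tt N10218 F67354) (tt N10599 F67355) (tt N11064 (iv F69068)) (tt N10720 (iv F67724)) (tt N9999 F67356) (tt N10007 F67357) (tt N10138 F67358) (tt N9997 (iv D17057)) (tt N10299 F67359))
theorem Q10601 : ∀ i, i < 10601 → P i := stepQ 10600 Q10600 (allL N10600 (tt N10071 F67360) (tt N10600 F67361) (tt N11065 (iv F69075)) (tt N11180 D17638) (tt N10299 F67362) (tt N10000 F67363) (tt N10019 F67364) (tt N9998 (iv D17058)) (tt N9999 F67365))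
theorem Q10602 : ∀ i, i < 10602 → P i := stepQ 10601 Q10601 (allL N10601 (tt N10482 F67366) (tt N10601 F67367) (tt N11181 D17639) (tt N9999 (iv D17059)) (tt N11166 (iv F69363)) (tt N10001 F67368) (tt N10359 F67369) (tt N10002 F67370) (tt N11180 (iv F69435)))
theorem Q10603 : ∀ i, i < 10603 → P i := stepQ 10602 Q10602 (allL N10602 (tt N10589 F67371) (tt N10602 F67372) (tt N11182 D17640) (tt N10000 (iv D17060)) (tt N10580 F67373) (tt N11180 (iv F69432)) (tt N10651 (iv F67535)) (tt N10602 F67374) (tt N10001 F67375))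
theorem Q10604 : ∀ i, i < 10604 → P i := stepQ 10603 Q10603 (allL N10603 (tt N10591 F67376) (tt N11183 D17641) (tt N10001 (iv D17061)) (tt N11068 (iv F69084)) (tt N10581 F67377) (tt N11181 (iv F69437)) (tt N10653 (iv F67543)) (tt N10003 F67378) (tt N11182 (iv F69443)))
theorem Q10605 : ∀ i, i < 10605 → P i := stepQ 10604 Q10604 (allL N10604 (tt N10593 F67379) (tt N11184 D17642) (tt N10002 (iv D17062)) (tt N10004 F67380) (tt N11185 D17643) (tt N10003 F67381) (tt N10595 F67382) (tt N11181 (iv F69439)) (tt N10604 F67383))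
theorem Q10606 : ∀ i, i < 10606 → P i := stepQ 10605 Q10605 (allL N10605 (tt N10011 F67384) (tt N10605 F67385) (tt N11185 (iv F69453)) (tt N10605 F67386) (tt N10002 (iv D17063)) (tt N10012 F67387) (tt N10596 F67388) (tt N11166 (iv F69366)) (tt N10605 F67389))
theorem Q10607 : ∀ i, i < 10607 → P i := stepQ 10606 Q10606 (allL N10606 (tt N11186 D17644) (tt N10003 (iv D17064)) (tt N10606 F67390) (tt N10006 F67391) (tt N10584 F67392) (tt N11184 (iv F69449)) (tt N10655 (iv F67554)) (tt N11183 (iv F69446)) (tt N10606 F67393))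
theorem Q10608 : ∀ i, i < 10608 → P i := stepQ 10607 Q10607 (allL N10607 (tt N11185 (iv F69452)) (tt N10004 (iv D17065)) (tt N10011 F67394) (tt N11184 (iv F69448)) (tt N10593 (iv F67397)) (tt N10006 F67395) (tt N10608 (iv F67401)) (tt N11078 (iv F69103)) (tt N10607 F67396))
theorem Q10609 : ∀ i, i < 10609 → P i := stepQ 10608 Q10608 (allL N10608 (tt N11177 (iv F69414)) (tt N10593 F67398) (tt N10005 F67399) (tt N11176 (iv F69411)) (tt N10004 (iv D17066)) (tt N10592 F67400) (tt N10607 F67401) (tt N11079 (iv F69108)) (tt N10608 F67402))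
theorem Q10610 : ∀ i, i < 10610 → P i := stepQ 10609 Q10609 (allL N10609 (tt N10006 (iv D17067)) (tt N11178 (iv F69418)) (tt N10012 F67403) (tt N11186 (iv F69459)) (tt N10583 F67404) (tt N11185 (iv F69454)) (tt N11179 (iv F69428)) (tt N11080 (iv F69110)) (tt N10609 F67405))
theorem Q10611 : ∀ i, i < 10611 → P i := stepQ 10610 Q10610 (allL N10610 (tt N10719 F67722) (tt N10610 F67406) (tt N11187 D17645) (tt N10007 (iv D17068)) (tt N11020 (iv F68912)) (tt N10720 (iv F67725)) (tt N10308 F67407) (tt N10610 F67408) (tt N10307 F67409))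
theorem Q10612 : ∀ i, i < 10612 → P i := stepQ 10611 Q10611 (allL N10611 (tt N10010 (iv D17069)) (tt N10611 F67410) (tt N11179 (iv F69425)) (tt N10611 F67411) (tt N10582 F67412) (tt N10130 F67413) (tt N10012 F67414) (tt N11163 (iv F69352)) (tt N10611 F67415))
theorem Q10613 : ∀ i, i < 10613 → P i := stepQ 10612 Q10612 (allL N10612 (tt N10661 (iv F67565)) (tt N10017 F67416) (tt N10612 F67417) (tt N11188 D17646) (tt N10014 F67418) (tt N10614 (iv F67426)) (tt N10939 (iv F68630)) (tt N10013 (iv D17070)) (tt N10352 F67419))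
theorem Q10614 : ∀ i, i < 10614 → P i := stepQ 10613 Q10613 (allL N10613 (tt N10936 (iv F68613)) (tt N10018 F67420) (tt N11189 D17647) (tt N10014 (iv D17071)) (tt N11190 D17648) (tt N10843 (iv F68271)) (tt N10940 (iv F68634)) (tt N10021 F67421) (tt N10353 F67422))
theorem Q10615 : ∀ i, i < 10615 → P i := stepQ 10614 Q10614 (allL N10614 (tt N10066 F67423) (tt N10615 (iv F67428)) (tt N10614 F67424) (tt N11191 D17649) (tt N10023 F67425) (tt N10612 F67426) (tt N11054 (iv F69030)) (tt N10015 (iv D17072)) (tt N10941 (iv F68642)))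
theorem Q10616 : ∀ i, i < 10616 → P i := stepQ 10615 Q10615 (allL N10615 (tt N10068 F67427) (tt N10614 F67428) (tt N10019 F67429) (tt N11192 D17650) (tt N10256 F67430) (tt N10017 F67431) (tt N11065 (iv F69078)) (tt N10016 (iv D17073)) (tt N10356 F67432))
theorem Q10617 : ∀ i, i < 10617 → P i := stepQ 10616 Q10616 (allL N10616 (tt N10069 F67433) (tt N11188 (iv F69465)) (tt N11193 D17651) (tt N10017 (iv D17074)) (tt N11194 D17652) (tt N11192 (iv F69478)) (tt N11055 (iv F69032)) (tt N11191 (iv F69475)) (tt N10357 F67434))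
theorem Q10618 : ∀ i, i < 10618 → P i := stepQ 10617 Q10617 (allL N10617 (tt N10070 F67435) (tt N11190 (iv F69470)) (tt N10729 (iv F67770)) (tt N11194 (iv F69485)) (tt N10018 (iv D17075)) (tt N11195 D17653) (tt N11056 (iv F69036)) (tt N10025 F67436) (tt N10358 F67437))
theorem Q10619 : ∀ i, i < 10619 → P i := stepQ 10618 Q10618 (allL N10618 (tt N10072 F67438) (tt N10618 F67439) (tt N11196 D17654) (tt N10019 (iv D17076)) (tt N11197 D17655) (tt N10020 F67440) (tt N11180 (iv F69433)) (tt N10618 F67441) (tt N10359 F67442))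
theorem Q10620 : ∀ i, i < 10620 → P i := stepQ 10619 Q10619 (allL N10619 (tt N10073 F67443) (tt N11198 D17656) (tt N10020 (iv D17077)) (tt N11193 (iv F69482)) (tt N10731 (iv F67779)) (tt N11196 (iv F69491)) (tt N10913 (iv F68507)) (tt N10619 F67444) (tt N10360 F67445))
theorem Q10621 : ∀ i, i < 10621 → P i := stepQ 10620 Q10620 (allL N10620 (tt N10955 (iv F68681)) (tt N10741 (iv F67835)) (tt N10021 (iv D17078)) (tt N10055 F67446) (tt N11199 D17657) (tt N10844 (iv F68277)) (tt N10958 (iv F68697)) (tt N11189 (iv F69468)) (tt N10030 F67447))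
theorem Q10622 : ∀ i, i < 10622 → P i := stepQ 10621 Q10621 (allL N10621 (tt N10956 (iv F68686)) (tt N10025 F67448) (tt N11199 (iv F69502)) (tt N10858 (iv F68339)) (tt N10021 (iv D17079)) (tt N11200 D17658) (tt N10959 (iv F68701)) (tt N11190 (iv F69471)) (tt N10031 F67449))
theorem Q10623 : ∀ i, i < 10623 → P i := stepQ 10622 Q10622 (allL N10622 (tt N10077 F67450) (tt N10727 (iv F67761)) (tt N10622 F67451) (tt N11201 D17659) (tt N10941 (iv F68640)) (tt N10724 (iv F67747)) (tt N11082 (iv F69118)) (tt N10022 (iv D17080)) (tt N10023 F67452))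
theorem Q10624 : ∀ i, i < 10624 → P i := stepQ 10623 Q10623 (allL N10623 (tt N10078 F67453) (tt N10853 (iv F68318)) (tt N11202 D17660) (tt N10023 (iv D17081)) (tt N11203 D17661) (tt N10848 (iv F68295)) (tt N11083 (iv F69121)) (tt N10024 F67454) (tt N11201 (iv F69508)))
theorem Q10625 : ∀ i, i < 10625 → P i := stepQ 10624 Q10624 (allL N10624 (tt N10080 F67455) (tt N11204 D17662) (tt N10024 (iv D17082)) (tt N10026 F67456) (tt N11205 D17663) (tt N10849 (iv F68300)) (tt N11084 (iv F69125)) (tt N11202 (iv F69511)) (tt N10038 F67457))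
theorem Q10626 : ∀ i, i < 10626 → P i := stepQ 10625 Q10625 (allL N10625 (tt N10081 F67458) (tt N10858 (iv F68338)) (tt N11205 (iv F69517)) (tt N10025 F67459) (tt N10024 (iv D17083)) (tt N11206 D17664) (tt N11085 (iv F69129)) (tt N11203 (iv F69513)) (tt N10039 F67460))
theorem Q10627 : ∀ i, i < 10627 → P i := stepQ 10626 Q10626 (allL N10626 (tt N10082 F67461) (tt N11200 (iv F69504)) (tt N10749 (iv F67866)) (tt N11206 (iv F69520)) (tt N10923 (iv F68557)) (tt N10025 (iv D17084)) (tt N11207 D17665) (tt N11195 (iv F69488)) (tt N10040 F67462))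
theorem Q10628 : ∀ i, i < 10628 → P i := stepQ 10627 Q10627 (allL N10627 (tt N10920 (iv F68535)) (tt N10026 (iv D17085)) (tt N10057 F67463) (tt N11204 (iv F69514)) (tt N10751 (iv F67877)) (tt N10918 (iv F68524)) (tt N11162 (iv F69345)) (tt N10627 F67464) (tt N10042 F67465))
theorem Q10629 : ∀ i, i < 10629 → P i := stepQ 10628 Q10628 (allL N10628 (tt N10802 (iv F68110)) (tt N10035 F67466) (tt N10628 F67467) (tt N11208 D17666) (tt N10399 F67468) (tt N10726 (iv F67757)) (tt N10987 (iv F68807)) (tt N10027 (iv D17086)) (tt N10028 F67469))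
theorem Q10630 : ∀ i, i < 10630 → P i := stepQ 10629 Q10629 (allL N10629 (tt N10976 (iv F68761)) (tt N10036 F67470) (tt N11209 D17667) (tt N10028 (iv D17087)) (tt N11210 D17668) (tt N10814 (iv F68158)) (tt N10988 (iv F68811)) (tt N10029 F67471) (tt N11208 (iv F69525)))
theorem Q10631 : ∀ i, i < 10631 → P i := stepQ 10630 Q10630 (allL N10630 (tt N10977 (iv F68765)) (tt N11211 D17669) (tt N10029 (iv D17088)) (tt N10058 F67472) (tt N11212 D17670) (tt N10815 (iv F68162)) (tt N10989 (iv F68815)) (tt N11209 (iv F69527)) (tt N10857 (iv F68336)))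
theorem Q10632 : ∀ i, i < 10632 → P i := stepQ 10631 Q10631 (allL N10631 (tt N10978 (iv F68770)) (tt N10039 F67473) (tt N11212 (iv F69533)) (tt N10031 F67474) (tt N10029 (iv D17089)) (tt N11213 D17671) (tt N10990 (iv F68820)) (tt N11210 (iv F69530)) (tt N10858 (iv F68340)))
theorem Q10633 : ∀ i, i < 10633 → P i := stepQ 10632 Q10632 (allL N10632 (tt N10979 (iv F68775)) (tt N10770 (iv F67967)) (tt N10031 F67475) (tt N11214 D17672) (tt N10030 (iv D17090)) (tt N11215 D17673) (tt N10991 (iv F68823)) (tt N10404 F67476) (tt N11199 (iv F69503)))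
theorem Q10634 : ∀ i, i < 10634 → P i := stepQ 10633 Q10633 (allL N10633 (tt N10980 (iv F68778)) (tt N10040 F67477) (tt N11215 (iv F69537)) (tt N11213 (iv F69535)) (tt N10930 (iv F68587)) (tt N10031 (iv D17091)) (tt N11216 D17674) (tt N10405 F67478) (tt N11200 (iv F69505)))
theorem Q10635 : ∀ i, i < 10635 → P i := stepQ 10634 Q10634 (allL N10634 (tt N10084 F67479) (tt N10744 (iv F67847)) (tt N10043 F67480) (tt N11217 D17675) (tt N10034 F67481) (tt N10406 F67482) (tt N10799 (iv F68102)) (tt N10032 (iv D17092)) (tt N10739 (iv F67828)))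
theorem Q10636 : ∀ i, i < 10636 → P i := stepQ 10635 Q10635 (allL N10635 (tt N10086 F67483) (tt N10726 (iv F67754)) (tt N10045 F67484) (tt N11218 D17676) (tt N10739 (iv F67825)) (tt N10035 F67485) (tt N10821 (iv F68191)) (tt N10033 (iv D17093)) (tt N10034 F67486))
theorem Q10637 : ∀ i, i < 10637 → P i := stepQ 10636 Q10636 (allL N10636 (tt N10087 F67487) (tt N10814 (iv F68157)) (tt N11219 D17677) (tt N10034 (iv D17094)) (tt N11220 D17678) (tt N10036 F67488) (tt N10822 (iv F68195)) (tt N10037 F67489) (tt N11218 (iv F69547)))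
theorem Q10638 : ∀ i, i < 10638 → P i := stepQ 10637 Q10637 (allL N10637 (tt N10088 F67490) (tt N11208 (iv F69524)) (tt N11221 D17679) (tt N10035 (iv D17095)) (tt N11222 D17680) (tt N11218 (iv F69546)) (tt N11119 (iv F69235)) (tt N11201 (iv F69507)) (tt N10036 F67491))
theorem Q10639 : ∀ i, i < 10639 → P i := stepQ 10638 Q10638 (allL N10638 (tt N10089 F67492) (tt N11223 D17681) (tt N10036 (iv D17096)) (tt N10048 F67493) (tt N11224 D17682) (tt N11219 (iv F69550)) (tt N11120 (iv F69239)) (tt N10038 F67494) (tt N11221 (iv F69556)))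
theorem Q10640 : ∀ i, i < 10640 → P i := stepQ 10639 Q10639 (allL N10639 (tt N10090 F67495) (tt N11210 (iv F69528)) (tt N11224 (iv F69563)) (tt N10412 F67496) (tt N10036 (iv D17097)) (tt N11225 D17683) (tt N11121 (iv F69243)) (tt N10039 F67497) (tt N11222 (iv F69559)))
theorem Q10641 : ∀ i, i < 10641 → P i := stepQ 10640 Q10640 (allL N10640 (tt N10092 F67498) (tt N11023 (iv F68929)) (tt N10037 (iv D17098)) (tt N10041 F67499) (tt N11226 D17684) (tt N10038 F67500) (tt N10824 (iv F68204)) (tt N11219 (iv F69551)) (tt N10849 (iv F68302)))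
theorem Q10642 : ∀ i, i < 10642 → P i := stepQ 10641 Q10641 (allL N10641 (tt N10093 F67501) (tt N10816 (iv F68165)) (tt N11226 (iv F69569)) (tt N10813 (iv F68154)) (tt N10037 (iv D17099)) (tt N11227 D17685) (tt N10825 (iv F68210)) (tt N11220 (iv F69553)) (tt N10850 (iv F68307)))
theorem Q10643 : ∀ i, i < 10643 → P i := stepQ 10642 Q10642 (allL N10642 (tt N11228 D17686) (tt N10038 (iv D17100)) (tt N11211 (iv F69531)) (tt N10042 F67502) (tt N11229 D17687) (tt N11023 (iv F68930)) (tt N11124 (iv F69250)) (tt N11223 (iv F69561)) (tt N11204 (iv F69515)))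
theorem Q10644 : ∀ i, i < 10644 → P i := stepQ 10643 Q10643 (allL N10643 (tt N10095 F67503) (tt N11229 (iv F69575)) (tt N10039 F67504) (tt N10782 (iv F68012)) (tt N10038 (iv D17101)) (tt N11230 D17688) (tt N11125 (iv F69253)) (tt N11224 (iv F69564)) (tt N11205 (iv F69518)))
theorem Q10645 : ∀ i, i < 10645 → P i := stepQ 10644 Q10644 (allL N10644 (tt N10096 F67505) (tt N11213 (iv F69534)) (tt N11230 (iv F69577)) (tt N10040 F67506) (tt N11227 (iv F69571)) (tt N10039 (iv D17102)) (tt N11231 D17689) (tt N11225 (iv F69567)) (tt N11206 (iv F69521)))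
theorem Q10646 : ∀ i, i < 10646 → P i := stepQ 10645 Q10645 (allL N10645 (tt N10097 F67507) (tt N11216 (iv F69539)) (tt N10784 (iv F68016)) (tt N11231 (iv F69579)) (tt N10933 (iv F68601)) (tt N11127 (iv F69257)) (tt N10040 (iv D17103)) (tt N10418 F67508) (tt N11207 (iv F69523)))
theorem Q10647 : ∀ i, i < 10647 → P i := stepQ 10646 Q10646 (allL N10646 (tt N10042 (iv D17104)) (tt N10101 F67509) (tt N10061 F67510) (tt N11228 (iv F69573)) (tt N10785 (iv F68020)) (tt N10060 F67511) (tt N10863 (iv F68352)) (tt N10054 F67512) (tt N10920 (iv F68541)))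
theorem Q10648 : ∀ i, i < 10648 → P i := stepQ 10647 Q10647 (allL N10647 (tt N10103 F67513) (tt N10647 F67514) (tt N10934 (iv F68605)) (tt N10044 (iv D17105)) (tt N10307 F67515) (tt N11168 (iv F69376)) (tt N10046 F67516) (tt N10050 F67517) (tt N11020 (iv F68915)))
theorem Q10649 : ∀ i, i < 10649 → P i := stepQ 10648 Q10648 (allL N10648 (tt N10104 F67518) (tt N10648 F67519) (tt N11232 D17690) (tt N10045 (iv D17106)) (tt N10308 F67520) (tt N10047 F67521) (tt N11020 (iv F68913)) (tt N10648 F67522) (tt N10046 F67523))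
theorem Q10650 : ∀ i, i < 10650 → P i := stepQ 10649 Q10649 (allL N10649 (tt N10105 F67524) (tt N11025 (iv F68934)) (tt N10046 (iv D17107)) (tt N11219 (iv F69549)) (tt N10309 F67525) (tt N10048 F67526) (tt N10934 (iv F68607)) (tt N10051 F67527) (tt N11232 (iv F69584)))
theorem Q10651 : ∀ i, i < 10651 → P i := stepQ 10650 Q10650 (allL N10650 (tt N10107 F67528) (tt N11233 D17691) (tt N10047 (iv D17108)) (tt N11221 (iv F69555)) (tt N11234 D17692) (tt N11232 (iv F69582)) (tt N11170 (iv F69385)) (tt N10650 F67529) (tt N10048 F67530))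
theorem Q10652 : ∀ i, i < 10652 → P i := stepQ 10651 Q10651 (allL N10651 (tt N10108 F67531) (tt N10651 F67532) (tt N11234 (iv F69589)) (tt N10425 F67533) (tt N10047 (iv D17109)) (tt N10311 F67534) (tt N10602 F67535) (tt N10651 F67536) (tt N10049 F67537))
theorem Q10653 : ∀ i, i < 10653 → P i := stepQ 10652 Q10652 (allL N10652 (tt N11235 D17693) (tt N10048 (iv D17110)) (tt N10652 F67538) (tt N11223 (iv F69560)) (tt N11236 D17694) (tt N11025 (iv F68937)) (tt N11171 (iv F69389)) (tt N10052 F67539) (tt N11233 (iv F69587)))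
theorem Q10654 : ∀ i, i < 10654 → P i := stepQ 10653 Q10653 (allL N10653 (tt N10110 F67540) (tt N11236 (iv F69598)) (tt N10049 F67541) (tt N11237 D17695) (tt N10048 (iv D17111)) (tt N10313 F67542) (tt N10603 F67543) (tt N10053 F67544) (tt N11234 (iv F69593)))
theorem Q10655 : ∀ i, i < 10655 → P i := stepQ 10654 Q10654 (allL N10654 (tt N10052 (iv D17112)) (tt N10114 F67545) (tt N10654 F67546) (tt N10054 F67547) (tt N11238 D17696) (tt N10063 F67548) (tt N10907 (iv F68482)) (tt N11235 (iv F69597)) (tt N10654 F67549))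
theorem Q10656 : ∀ i, i < 10656 → P i := stepQ 10655 Q10655 (allL N10655 (tt N11238 (iv F69608)) (tt N10053 F67550) (tt N10655 F67551) (tt N10598 F67552) (tt N10052 (iv D17113)) (tt N10316 F67553) (tt N10606 F67554) (tt N11236 (iv F69602)) (tt N10655 F67555))
theorem Q10657 : ∀ i, i < 10657 → P i := stepQ 10656 Q10656 (allL N10656 (tt N10918 (iv F68521)) (tt N10791 (iv F68055)) (tt N10056 F67556) (tt N11239 D17697) (tt N10055 (iv D17114)) (tt N10920 (iv F68538)) (tt N10841 (iv F68260)) (tt N10656 F67557) (tt N10060 F67558))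
theorem Q10658 : ∀ i, i < 10658 → P i := stepQ 10657 Q10657 (allL N10657 (tt N11162 (iv F69341)) (tt N10058 (iv D17115)) (tt N10062 F67559) (tt N11211 (iv F69532)) (tt N10919 (iv F68530)) (tt N10818 (iv F68173)) (tt N10920 (iv F68539)) (tt N10657 F67560) (tt N10863 (iv F68354)))
theorem Q10659 : ∀ i, i < 10659 → P i := stepQ 10658 Q10658 (allL N10658 (tt N10818 F68177) (tt N10919 (iv F68529)) (tt N10059 F67561) (tt N11240 D17698) (tt N10058 (iv D17116)) (tt N11162 (iv F69344)) (tt N10842 (iv F68267)) (tt N10658 F67562) (tt N10864 (iv F68362)))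
theorem Q10660 : ∀ i, i < 10660 → P i := stepQ 10659 Q10659 (allL N10659 (tt N11023 (iv F68928)) (tt N10792 (iv F68062)) (tt N11240 (iv F69616)) (tt N10060 (iv D17117)) (tt N11214 (iv F69536)) (tt N11228 (iv F69574)) (tt N10897 (iv F68456)) (tt N11241 D17699) (tt N11239 (iv F69615)))
theorem Q10661 : ∀ i, i < 10661 → P i := stepQ 10660 Q10660 (allL N10660 (tt N11025 (iv F68933)) (tt N10793 (iv F68067)) (tt N10660 F67563) (tt N11241 (iv F69617)) (tt N10435 F67564) (tt N11235 (iv F69596)) (tt N10911 (iv F68499)) (tt N10063 (iv D17118)) (tt N11242 D17700))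
theorem Q10662 : ∀ i, i < 10662 → P i := stepQ 10661 Q10661 (allL N10661 (tt N10612 F67565) (tt N10347 F67566) (tt N10661 F67567) (tt N11243 D17701) (tt N10346 F67568) (tt N10066 F67569) (tt N10352 F67570) (tt N10064 (iv D17119)) (tt N10939 (iv F68631)))
theorem Q10663 : ∀ i, i < 10663 → P i := stepQ 10662 Q10662 (allL N10662 (tt N10941 (iv F68637)) (tt N11021 (iv F68917)) (tt N10662 F67571) (tt N11244 D17702) (tt N10077 F67572) (tt N10939 (iv F68629)) (tt N11058 (iv F69049)) (tt N10065 (iv D17120)) (tt N10066 F67573))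
theorem Q10664 : ∀ i, i < 10664 → P i := stepQ 10663 Q10663 (allL N10663 (tt N11191 (iv F69473)) (tt N11022 (iv F68924)) (tt N11245 D17703) (tt N10066 (iv D17121)) (tt N11246 D17704) (tt N11243 (iv F69624)) (tt N11059 (iv F69052)) (tt N10069 F67574) (tt N11244 (iv F69628)))
theorem Q10665 : ∀ i, i < 10665 → P i := stepQ 10664 Q10664 (allL N10664 (tt N11065 (iv F69073)) (tt N10355 F67575) (tt N10071 F67576) (tt N11247 D17705) (tt N10365 F67577) (tt N10945 (iv F68652)) (tt N10068 F67578) (tt N10067 (iv D17122)) (tt N10477 F67579))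
theorem Q10666 : ∀ i, i < 10666 → P i := stepQ 10665 Q10665 (allL N10665 (tt N11192 (iv F69476)) (tt N10565 F67580) (tt N11248 D17706) (tt N10068 (iv D17123)) (tt N11249 D17707) (tt N10069 F67581) (tt N11247 (iv F69634)) (tt N11243 (iv F69626)) (tt N10478 F67582))
theorem Q10667 : ∀ i, i < 10667 → P i := stepQ 10666 Q10666 (allL N10666 (tt N11193 (iv F69481)) (tt N11250 D17708) (tt N10069 (iv D17124)) (tt N10073 F67583) (tt N11251 D17709) (tt N11248 (iv F69638)) (tt N11061 (iv F69058)) (tt N11245 (iv F69630)) (tt N10479 F67584))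
theorem Q10668 : ∀ i, i < 10668 → P i := stepQ 10667 Q10667 (allL N10667 (tt N11194 (iv F69484)) (tt N11051 (iv F69017)) (tt N11251 (iv F69645)) (tt N10070 F67585) (tt N10069 (iv D17125)) (tt N11252 D17710) (tt N11062 (iv F69062)) (tt N11246 (iv F69632)) (tt N10480 F67586))
theorem Q10669 : ∀ i, i < 10669 → P i := stepQ 10668 Q10668 (allL N10668 (tt N11195 (iv F69487)) (tt N11052 (iv F69020)) (tt N10808 (iv F68127)) (tt N11252 (iv F69647)) (tt N11030 (iv F68955)) (tt N10070 (iv D17126)) (tt N11253 D17711) (tt N10082 F67587) (tt N10481 F67588))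
theorem Q10670 : ∀ i, i < 10670 → P i := stepQ 10669 Q10669 (allL N10669 (tt N11180 (iv F69430)) (tt N10119 F67589) (tt N11254 D17712) (tt N10071 (iv D17127)) (tt N10717 (iv F67708)) (tt N10589 F67590) (tt N10072 F67591) (tt N10669 F67592) (tt N10482 F67593))
theorem Q10671 : ∀ i, i < 10671 → P i := stepQ 10670 Q10670 (allL N10670 (tt N11196 (iv F69490)) (tt N11255 D17713) (tt N10072 (iv D17128)) (tt N11248 (iv F69637)) (tt N11256 D17714) (tt N10073 F67594) (tt N11254 (iv F69652)) (tt N10670 F67595) (tt N10483 F67596))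
theorem Q10672 : ∀ i, i < 10672 → P i := stepQ 10671 Q10671 (allL N10671 (tt N11197 (iv F69494)) (tt N10121 F67597) (tt N11256 (iv F69661)) (tt N10594 F67598) (tt N10072 (iv D17129)) (tt N10810 (iv F68137)) (tt N10717 (iv F67710)) (tt N10671 F67599) (tt N10484 F67600))
theorem Q10673 : ∀ i, i < 10673 → P i := stepQ 10672 Q10672 (allL N10672 (tt N11257 D17715) (tt N10073 (iv D17130)) (tt N10122 F67601) (tt N11250 (iv F69643)) (tt N10811 (iv F68142)) (tt N11255 (iv F69656)) (tt N11164 (iv F69354)) (tt N10672 F67602) (tt N10485 F67603))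
theorem Q10674 : ∀ i, i < 10674 → P i := stepQ 10673 Q10673 (allL N10673 (tt N10247 F67604) (tt N10345 F67605) (tt N10673 F67606) (tt N11258 D17716) (tt N10076 F67607) (tt N10346 F67608) (tt N10377 F67609) (tt N10074 (iv D17131)) (tt N10723 (iv F67742)))
theorem Q10675 : ∀ i, i < 10675 → P i := stepQ 10674 Q10674 (allL N10674 (tt N10724 (iv F67743)) (tt N10797 (iv F68087)) (tt N10674 F67610) (tt N11259 D17717) (tt N10723 (iv F67739)) (tt N10077 F67611) (tt N10866 (iv F68372)) (tt N10075 (iv D17132)) (tt N10076 F67612))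
theorem Q10676 : ∀ i, i < 10676 → P i := stepQ 10675 Q10675 (allL N10675 (tt N10848 (iv F68293)) (tt N11009 F68877) (tt N11260 D17718) (tt N10076 (iv D17133)) (tt N11261 D17719) (tt N10078 F67613) (tt N10867 (iv F68375)) (tt N10079 F67614) (tt N11259 (iv F69675)))
theorem Q10677 : ∀ i, i < 10677 → P i := stepQ 10676 Q10676 (allL N10676 (tt N11201 (iv F69506)) (tt N11011 F68885) (tt N11262 D17720) (tt N10077 (iv D17134)) (tt N11263 D17721) (tt N11259 (iv F69673)) (tt N11090 (iv F69150)) (tt N10088 F67615) (tt N10078 F67616))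
theorem Q10678 : ∀ i, i < 10678 → P i := stepQ 10677 Q10677 (allL N10677 (tt N11202 (iv F69509)) (tt N10997 (iv F68846)) (tt N10078 (iv D17135)) (tt N10677 F67617) (tt N11264 D17722) (tt N11260 (iv F69677)) (tt N11091 (iv F69154)) (tt N10080 F67618) (tt N11262 (iv F69682)))
theorem Q10679 : ∀ i, i < 10679 → P i := stepQ 10678 Q10678 (allL N10678 (tt N11203 (iv F69512)) (tt N11013 (iv F68889)) (tt N11264 (iv F69685)) (tt N11246 (iv F69631)) (tt N10078 (iv D17136)) (tt N11265 D17723) (tt N11092 (iv F69157)) (tt N10081 F67619) (tt N11263 (iv F69684)))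
theorem Q10680 : ∀ i, i < 10680 → P i := stepQ 10679 Q10679 (allL N10679 (tt N10849 (iv F68298)) (tt N10999 (iv F68851)) (tt N10079 (iv D17137)) (tt N10083 F67620) (tt N11266 D17724) (tt N10080 F67621) (tt N10869 (iv F68384)) (tt N11260 (iv F69678)) (tt N10092 F67622))
theorem Q10681 : ∀ i, i < 10681 → P i := stepQ 10680 Q10680 (allL N10680 (tt N10850 (iv F68303)) (tt N11016 (iv F68898)) (tt N11266 (iv F69688)) (tt N10847 (iv F68289)) (tt N10079 (iv D17138)) (tt N11267 D17725) (tt N10870 (iv F68388)) (tt N11261 (iv F69679)) (tt N10093 F67623))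
theorem Q10682 : ∀ i, i < 10682 → P i := stepQ 10681 Q10681 (allL N10681 (tt N11205 (iv F69516)) (tt N11001 (iv F68856)) (tt N10081 F67624) (tt N10838 (iv F68249)) (tt N10080 (iv D17139)) (tt N11268 D17726) (tt N11095 (iv F69165)) (tt N11264 (iv F69686)) (tt N10095 F67625))
theorem Q10683 : ∀ i, i < 10683 → P i := stepQ 10682 Q10682 (allL N10682 (tt N11206 (iv F69519)) (tt N11018 (iv F68904)) (tt N11268 (iv F69692)) (tt N10082 F67626) (tt N11267 (iv F69690)) (tt N10081 (iv D17140)) (tt N11269 D17727) (tt N11265 (iv F69687)) (tt N10096 F67627))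
theorem Q10684 : ∀ i, i < 10684 → P i := stepQ 10683 Q10683 (allL N10683 (tt N11207 (iv F69522)) (tt N11081 (iv F69111)) (tt N10840 (iv F68253)) (tt N11269 (iv F69694)) (tt N11032 (iv F68962)) (tt N11097 (iv F69171)) (tt N10082 (iv D17141)) (tt N11253 (iv F69649)) (tt N10097 F67628))
theorem Q10685 : ∀ i, i < 10685 → P i := stepQ 10684 Q10684 (allL N10684 (tt N11217 (iv F69541)) (tt N11107 (iv F69192)) (tt N11270 D17728) (tt N10084 (iv D17142)) (tt N11271 D17729) (tt N10543 F67629) (tt N11109 (iv F69202)) (tt N11043 (iv F68994)) (tt N11108 (iv F69199)))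
theorem Q10686 : ∀ i, i < 10686 → P i := stepQ 10685 Q10685 (allL N10685 (tt N10822 (iv F68193)) (tt N11108 (iv F69195)) (tt N11272 D17730) (tt N10085 (iv D17143)) (tt N11273 D17731) (tt N11129 (iv F69262)) (tt N10087 F67630) (tt N10091 F67631) (tt N11107 (iv F69194)))
theorem Q10687 : ∀ i, i < 10687 → P i := stepQ 10686 Q10686 (allL N10686 (tt N11218 (iv F69545)) (tt N11109 (iv F69200)) (tt N11274 D17732) (tt N10086 (iv D17144)) (tt N11275 D17733) (tt N10088 F67632) (tt N11107 (iv F69193)) (tt N11259 (iv F69674)) (tt N10087 F67633))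
theorem Q10688 : ∀ i, i < 10688 → P i := stepQ 10687 Q10687 (allL N10687 (tt N11219 (iv F69548)) (tt N11276 D17734) (tt N10087 (iv D17145)) (tt N10105 F67634) (tt N11277 D17735) (tt N10089 F67635) (tt N11272 (iv F69702)) (tt N10092 F67636) (tt N11274 (iv F69708)))
theorem Q10689 : ∀ i, i < 10689 → P i := stepQ 10688 Q10688 (allL N10688 (tt N11220 (iv F69552)) (tt N11110 (iv F69204)) (tt N11277 (iv F69713)) (tt N11271 (iv F69700)) (tt N10087 (iv D17146)) (tt N11278 D17736) (tt N11273 (iv F69704)) (tt N10093 F67637) (tt N11275 (iv F69709)))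
theorem Q10690 : ∀ i, i < 10690 → P i := stepQ 10689 Q10689 (allL N10689 (tt N11221 (iv F69554)) (tt N11279 D17737) (tt N10088 (iv D17147)) (tt N10107 F67638) (tt N11280 D17738) (tt N11274 (iv F69707)) (tt N11133 (iv F69277)) (tt N11262 (iv F69681)) (tt N10089 F67639))
theorem Q10691 : ∀ i, i < 10691 → P i := stepQ 10690 Q10690 (allL N10690 (tt N11222 (iv F69557)) (tt N11111 (iv F69206)) (tt N11280 (iv F69719)) (tt N10549 F67640) (tt N10088 (iv D17148)) (tt N11281 D17739) (tt N11134 (iv F69281)) (tt N11263 (iv F69683)) (tt N10090 F67641))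
theorem Q10692 : ∀ i, i < 10692 → P i := stepQ 10691 Q10691 (allL N10691 (tt N11282 D17740) (tt N10089 (iv D17149)) (tt N10960 (iv F68704)) (tt N10109 F67642) (tt N11283 D17741) (tt N11276 (iv F69711)) (tt N11135 (iv F69286)) (tt N10094 F67643) (tt N11279 (iv F69718)))
theorem Q10693 : ∀ i, i < 10693 → P i := stepQ 10692 Q10692 (allL N10692 (tt N11224 (iv F69562)) (tt N11283 (iv F69725)) (tt N10090 F67644) (tt N11284 D17742) (tt N10089 (iv D17150)) (tt N11285 D17743) (tt N11136 (iv F69289)) (tt N10095 F67645) (tt N11280 (iv F69720)))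
theorem Q10694 : ∀ i, i < 10694 → P i := stepQ 10693 Q10693 (allL N10693 (tt N11225 (iv F69565)) (tt N11112 (iv F69209)) (tt N11285 (iv F69729)) (tt N10552 F67646) (tt N11278 (iv F69715)) (tt N10090 (iv D17151)) (tt N11286 D17744) (tt N10096 F67647) (tt N11281 (iv F69722)))
theorem Q10695 : ∀ i, i < 10695 → P i := stepQ 10694 Q10694 (allL N10694 (tt N10824 (iv F68202)) (tt N10779 (iv F68000)) (tt N10091 (iv D17152)) (tt N10098 F67648) (tt N11287 D17745) (tt N10781 (iv F68008)) (tt N10092 F67649) (tt N11272 (iv F69703)) (tt N10869 (iv F68385)))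
theorem Q10696 : ∀ i, i < 10696 → P i := stepQ 10695 Q10695 (allL N10695 (tt N10825 (iv F68207)) (tt N11113 (iv F69211)) (tt N11287 (iv F69733)) (tt N10819 (iv F68179)) (tt N10091 (iv D17153)) (tt N11288 D17746) (tt N10093 F67650) (tt N11273 (iv F69705)) (tt N10870 (iv F68389)))
theorem Q10697 : ∀ i, i < 10697 → P i := stepQ 10696 Q10696 (allL N10696 (tt N10792 (iv F68061)) (tt N10092 (iv D17154)) (tt N10778 (iv F67995)) (tt N10099 F67651) (tt N11289 D17747) (tt N10094 F67652) (tt N10779 (iv F68003)) (tt N11276 (iv F69712)) (tt N10999 (iv F68854)))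
theorem Q10698 : ∀ i, i < 10698 → P i := stepQ 10697 Q10697 (allL N10697 (tt N11226 (iv F69568)) (tt N11289 (iv F69735)) (tt N10093 F67653) (tt N11290 D17748) (tt N10092 (iv D17155)) (tt N11291 D17749) (tt N11287 (iv F69734)) (tt N11277 (iv F69714)) (tt N11266 (iv F69689)))
theorem Q10699 : ∀ i, i < 10699 → P i := stepQ 10698 Q10698 (allL N10698 (tt N11227 (iv F69570)) (tt N11114 (iv F69213)) (tt N11291 (iv F69737)) (tt N11048 (iv F69010)) (tt N10096 F67654) (tt N10093 (iv D17156)) (tt N11292 D17750) (tt N11278 (iv F69716)) (tt N11267 (iv F69691)))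
theorem Q10700 : ∀ i, i < 10700 → P i := stepQ 10699 Q10699 (allL N10699 (tt N10094 (iv D17157)) (tt N11228 (iv F69572)) (tt N10856 (iv F68328)) (tt N10101 F67655) (tt N11293 D17751) (tt N10792 (iv F68064)) (tt N10857 (iv F68335)) (tt N11282 (iv F69724)) (tt N10989 (iv F68816)))
theorem Q10701 : ∀ i, i < 10701 → P i := stepQ 10700 Q10700 (allL N10700 (tt N11293 (iv F69740)) (tt N10095 F67656) (tt N10961 (iv F68708)) (tt N10901 (iv F68463)) (tt N10094 (iv D17158)) (tt N11294 D17752) (tt N11141 (iv F69301)) (tt N11283 (iv F69726)) (tt N11001 (iv F68858)))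
theorem Q10702 : ∀ i, i < 10702 → P i := stepQ 10701 Q10701 (allL N10701 (tt N11230 (iv F69576)) (tt N11294 (iv F69741)) (tt N10096 F67657) (tt N10902 (iv F68465)) (tt N11291 (iv F69738)) (tt N10095 (iv D17159)) (tt N11295 D17753) (tt N11285 (iv F69730)) (tt N11268 (iv F69693)))
theorem Q10703 : ∀ i, i < 10703 → P i := stepQ 10702 Q10702 (allL N10702 (tt N11231 (iv F69578)) (tt N11115 (iv F69215)) (tt N11295 (iv F69742)) (tt N10097 F67658) (tt N11292 (iv F69739)) (tt N11143 (iv F69305)) (tt N10096 (iv D17160)) (tt N11286 (iv F69732)) (tt N11269 (iv F69695)))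
theorem Q10704 : ∀ i, i < 10704 → P i := stepQ 10703 Q10703 (allL N10703 (tt N10924 (iv F68559)) (tt N10764 (iv F67942)) (tt N10752 (iv F67885)) (tt N10100 (iv D17161)) (tt N11290 (iv F69736)) (tt N10757 (iv F67912)) (tt N10927 (iv F68578)) (tt N11296 D17754) (tt N10973 (iv F68755)))
theorem Q10705 : ∀ i, i < 10705 → P i := stepQ 10704 Q10704 (allL N10704 (tt N10283 F67659) (tt N10773 (iv F67977)) (tt N10102 (iv D17162)) (tt N11270 (iv F69697)) (tt N10178 F67660) (tt N10564 F67661) (tt N10965 (iv F68727)) (tt N10117 F67662) (tt N10766 (iv F67952)))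
theorem Q10706 : ∀ i, i < 10706 → P i := stepQ 10705 Q10705 (allL N10705 (tt N10934 (iv F68603)) (tt N10709 (iv F67679)) (tt N10103 (iv D17163)) (tt N11272 (iv F69701)) (tt N10708 F67677) (tt N10787 (iv F68031)) (tt N10105 F67663) (tt N10111 F67664) (tt N11161 (iv F69340)))
theorem Q10707 : ∀ i, i < 10707 → P i := stepQ 10706 Q10706 (allL N10706 (tt N11232 (iv F69580)) (tt N11297 D17755) (tt N10104 (iv D17164)) (tt N11274 (iv F69706)) (tt N11298 D17756) (tt N10107 F67665) (tt N11161 (iv F69338)) (tt N10706 F67666) (tt N10105 F67667))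
theorem Q10708 : ∀ i, i < 10708 → P i := stepQ 10707 Q10707 (allL N10707 (tt N10308 F67668) (tt N10124 F67669) (tt N11298 (iv F69758)) (tt N10189 F67670) (tt N10104 (iv D17165)) (tt N10190 F67671) (tt N10719 (iv F67719)) (tt N10707 F67672) (tt N10106 F67673))
theorem Q10709 : ∀ i, i < 10709 → P i := stepQ 10708 Q10708 (allL N10708 (tt N10793 (iv F68066)) (tt N10105 (iv D17166)) (tt N10125 F67674) (tt N11276 (iv F69710)) (tt N10705 (iv F67677)) (tt N10109 F67675) (tt N10709 (iv F67682)) (tt N10112 F67676) (tt N11297 (iv F69753)))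
theorem Q10710 : ∀ i, i < 10710 → P i := stepQ 10709 Q10709 (allL N10709 (tt N10309 F67678) (tt N10705 F67679) (tt N10106 F67680) (tt N11299 D17757) (tt N10105 (iv D17167)) (tt N10191 F67681) (tt N10708 F67682) (tt N10113 F67683) (tt N11298 (iv F69762)))
theorem Q10711 : ∀ i, i < 10711 → P i := stepQ 10710 Q10710 (allL N10710 (tt N11300 D17758) (tt N10107 (iv D17168)) (tt N10126 F67684) (tt N11279 (iv F69717)) (tt N11301 D17759) (tt N11297 (iv F69751)) (tt N10809 (iv F68132)) (tt N10710 F67685) (tt N10109 F67686))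
theorem Q10712 : ∀ i, i < 10712 → P i := stepQ 10711 Q10711 (allL N10711 (tt N11234 (iv F69588)) (tt N11301 (iv F69773)) (tt N10108 F67687) (tt N11302 D17760) (tt N10107 (iv D17169)) (tt N10572 (iv F67690)) (tt N11173 (iv F69398)) (tt N10711 F67688) (tt N10110 F67689))
theorem Q10713 : ∀ i, i < 10713 → P i := stepQ 10712 Q10712 (allL N10712 (tt N10109 (iv D17170)) (tt N11235 (iv F69594)) (tt N10128 F67691) (tt N11282 (iv F69723)) (tt N11303 D17761) (tt N10793 (iv F68069)) (tt N10904 (iv F68469)) (tt N10114 F67692) (tt N11300 (iv F69772)))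
theorem Q10714 : ∀ i, i < 10714 → P i := stepQ 10713 Q10713 (allL N10713 (tt N11303 (iv F69781)) (tt N10110 F67693) (tt N10129 F67694) (tt N11304 D17762) (tt N10109 (iv D17171)) (tt N11053 (iv F69024)) (tt N11174 (iv F69404)) (tt N10115 F67695) (tt N11301 (iv F69777)))
theorem Q10715 : ∀ i, i < 10715 → P i := stepQ 10714 Q10714 (allL N10714 (tt N11237 (iv F69603)) (tt N11304 (iv F69784)) (tt N10565 F67696) (tt N10110 (iv D17172)) (tt N11284 (iv F69728)) (tt N11050 (iv F69015)) (tt N11175 (iv F69408)) (tt N10916 (iv F68516)) (tt N11302 (iv F69780)))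
theorem Q10716 : ∀ i, i < 10716 → P i := stepQ 10715 Q10715 (allL N10715 (tt N10115 F67697) (tt N11238 (iv F69609)) (tt N10130 F67698) (tt N10917 (iv F68519)) (tt N10114 (iv D17173)) (tt N11179 (iv F69427)) (tt N10908 (iv F68486)) (tt N11303 (iv F69783)) (tt N10715 F67699))
theorem Q10717 : ∀ i, i < 10717 → P i := stepQ 10716 Q10716 (allL N10716 (tt N10199 F67700) (tt N10343 F67701) (tt N10118 F67702) (tt N11296 (iv F69746)) (tt N10186 F67703) (tt N10342 F67704) (tt N10200 F67705) (tt N10116 (iv D17174)) (tt N10458 (iv F67706)))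
theorem Q10718 : ∀ i, i < 10718 → P i := stepQ 10717 Q10717 (allL N10717 (tt N11305 D17763) (tt N10120 (iv D17175)) (tt N11255 (iv F69655)) (tt N10129 F67707) (tt N10669 F67708) (tt N10122 F67709) (tt N10671 F67710) (tt N10717 F67711) (tt N10574 F67712))
theorem Q10719 : ∀ i, i < 10719 → P i := stepQ 10718 Q10718 (allL N10718 (tt N10122 (iv D17176)) (tt N10718 F67713) (tt N11257 (iv F69665)) (tt N11163 (iv F69349)) (tt N10921 (iv F68544)) (tt N11305 (iv F69788)) (tt N11165 (iv F69359)) (tt N10718 F67714) (tt N10575 F67715))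
theorem Q10720 : ∀ i, i < 10720 → P i := stepQ 10719 Q10719 (allL N10719 (tt N10610 (iv F67722)) (tt N10123 (iv D17177)) (tt N11297 (iv F69750)) (tt N10562 F67716) (tt N10559 F67717) (tt N10126 F67718) (tt N10707 F67719) (tt N10719 F67720) (tt N10125 F67721))
theorem Q10721 : ∀ i, i < 10721 → P i := stepQ 10720 Q10720 (allL N10720 (tt N10126 (iv D17178)) (tt N10720 F67723) (tt N11300 (iv F69769)) (tt N10599 F67724) (tt N11306 D17764) (tt N10610 F67725) (tt N10730 (iv F67775)) (tt N10720 F67726) (tt N10128 F67727))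
theorem Q10722 : ∀ i, i < 10722 → P i := stepQ 10721 Q10721 (allL N10721 (tt N11306 (iv F69792)) (tt N10127 F67728) (tt N11301 (iv F69774)) (tt N10574 F67729) (tt N10126 (iv D17179)) (tt N10573 F67730) (tt N10810 (iv F68138)) (tt N10721 F67731) (tt N10129 F67732))
theorem Q10723 : ∀ i, i < 10723 → P i := stepQ 10722 Q10722 (allL N10722 (tt N10129 F67733) (tt N10722 F67734) (tt N11303 (iv F69782)) (tt N11305 (iv F69786)) (tt N10128 (iv D17180)) (tt N11163 (iv F69350)) (tt N10905 (iv F68473)) (tt N10130 F67735) (tt N11306 (iv F69797)))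
theorem Q10724 : ∀ i, i < 10724 → P i := stepQ 10723 Q10723 (allL N10723 (tt N10133 F67736) (tt N10208 F67737) (tt N10723 F67738) (tt N11307 D17765) (tt N10674 F67739) (tt N10350 F67740) (tt N10443 F67741) (tt N10131 (iv D17181)) (tt N10673 F67742))
theorem Q10725 : ∀ i, i < 10725 → P i := stepQ 10724 Q10724 (allL N10724 (tt N10674 F67743) (tt N10136 F67744) (tt N10724 F67745) (tt N11308 D17766) (tt N10133 F67746) (tt N10622 F67747) (tt N10276 F67748) (tt N10132 (iv D17182)) (tt N10252 F67749))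
theorem Q10726 : ∀ i, i < 10726 → P i := stepQ 10725 Q10725 (allL N10725 (tt N11307 (iv F69798)) (tt N10137 F67750) (tt N11309 D17767) (tt N10133 (iv D17183)) (tt N11310 D17768) (tt N10353 F67751) (tt N11035 (iv F68974)) (tt N10149 F67752) (tt N10843 (iv F68274)))
theorem Q10727 : ∀ i, i < 10727 → P i := stepQ 10726 Q10726 (allL N10726 (tt N10213 F67753) (tt N10635 F67754) (tt N10726 F67755) (tt N11311 D17769) (tt N10152 F67756) (tt N10628 F67757) (tt N10238 F67758) (tt N10134 (iv D17184)) (tt N10223 F67759))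
theorem Q10728 : ∀ i, i < 10728 → P i := stepQ 10727 Q10727 (allL N10727 (tt N10215 F67760) (tt N10622 F67761) (tt N10138 F67762) (tt N11312 D17770) (tt N10356 F67763) (tt N10136 F67764) (tt N11064 (iv F69071)) (tt N10135 (iv D17185)) (tt N10256 F67765))
theorem Q10729 : ∀ i, i < 10729 → P i := stepQ 10728 Q10728 (allL N10728 (tt N10216 F67766) (tt N11308 (iv F69805)) (tt N11313 D17771) (tt N10136 (iv D17186)) (tt N11314 D17772) (tt N11312 (iv F69824)) (tt N10287 F67767) (tt N11311 (iv F69820)) (tt N10257 F67768))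
theorem Q10730 : ∀ i, i < 10730 → P i := stepQ 10729 Q10729 (allL N10729 (tt N10217 F67769) (tt N11310 (iv F69814)) (tt N10617 F67770) (tt N11314 (iv F69832)) (tt N10137 (iv D17187)) (tt N11315 D17773) (tt N11046 (iv F69005)) (tt N10155 F67771) (tt N10922 (iv F68553)))
theorem Q10731 : ∀ i, i < 10731 → P i := stepQ 10730 Q10730 (allL N10730 (tt N10219 F67772) (tt N10730 F67773) (tt N11316 D17774) (tt N10138 (iv D17188)) (tt N11317 D17775) (tt N10139 F67774) (tt N10720 F67775) (tt N10730 F67776) (tt N10300 F67777))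
theorem Q10732 : ∀ i, i < 10732 → P i := stepQ 10731 Q10731 (allL N10731 (tt N10220 F67778) (tt N11318 D17776) (tt N10139 (iv D17189)) (tt N11313 (iv F69828)) (tt N10619 F67779) (tt N11316 (iv F69840)) (tt N10310 F67780) (tt N10731 F67781) (tt N10301 F67782))
theorem Q10733 : ∀ i, i < 10733 → P i := stepQ 10732 Q10732 (allL N10732 (tt N10221 F67783) (tt N10378 F67784) (tt N10227 F67785) (tt N10140 (iv D17190)) (tt N11319 D17777) (tt N10144 F67786) (tt N10361 F67787) (tt N11044 (iv F69000)) (tt N10160 F67788))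
theorem Q10734 : ∀ i, i < 10734 → P i := stepQ 10733 Q10733 (allL N10733 (tt N10446 F67789) (tt N10144 F67790) (tt N11320 D17778) (tt N10141 (iv D17191)) (tt N11321 D17779) (tt N10378 F67791) (tt N10149 F67792) (tt N11035 (iv F68975)) (tt N10163 F67793))
theorem Q10735 : ∀ i, i < 10735 → P i := stepQ 10734 Q10734 (allL N10734 (tt N10223 F67794) (tt N10385 F67795) (tt N10734 F67796) (tt N11322 D17780) (tt N10238 F67797) (tt N10381 F67798) (tt N10152 F67799) (tt N10142 (iv D17192)) (tt N10213 F67800))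
theorem Q10736 : ∀ i, i < 10736 → P i := stepQ 10735 Q10735 (allL N10735 (tt N10224 F67801) (tt N10388 F67802) (tt N11323 D17781) (tt N10143 (iv D17193)) (tt N11324 D17782) (tt N10382 F67803) (tt N10154 F67804) (tt N11322 (iv F69877)) (tt N10164 F67805))
theorem Q10737 : ∀ i, i < 10737 → P i := stepQ 10736 Q10736 (allL N10736 (tt N10225 F67806) (tt N11321 (iv F69869)) (tt N10490 F67807) (tt N11324 (iv F69887)) (tt N10144 (iv D17194)) (tt N11325 D17783) (tt N10155 F67808) (tt N11046 (iv F69006)) (tt N10165 F67809))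
theorem Q10738 : ∀ i, i < 10738 → P i := stepQ 10737 Q10737 (allL N10737 (tt N10226 F67810) (tt N10567 F67811) (tt N10145 (iv D17195)) (tt N11323 (iv F69881)) (tt N10566 F67812) (tt N10429 F67813) (tt N10157 F67814) (tt N10737 F67815) (tt N10166 F67816))
theorem Q10739 : ∀ i, i < 10739 → P i := stepQ 10738 Q10738 (allL N10738 (tt N10149 F67817) (tt N10227 F67818) (tt N11326 D17784) (tt N10146 (iv D17196)) (tt N11327 D17785) (tt N10364 F67819) (tt N10446 F67820) (tt N11307 (iv F69802)) (tt N10169 F67821))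
theorem Q10740 : ∀ i, i < 10740 → P i := stepQ 10739 Q10739 (allL N10739 (tt N10511 F67822) (tt N10152 F67823) (tt N10420 F67824) (tt N11328 D17786) (tt N10635 F67825) (tt N10407 F67826) (tt N10385 F67827) (tt N10147 (iv D17197)) (tt N10634 F67828))
theorem Q10741 : ∀ i, i < 10741 → P i := stepQ 10740 Q10740 (allL N10740 (tt N10516 F67829) (tt N10154 F67830) (tt N10506 F67831) (tt N10148 (iv D17198)) (tt N11329 D17787) (tt N10413 F67832) (tt N10388 F67833) (tt N11328 (iv F69909)) (tt N10173 F67834))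
theorem Q10742 : ∀ i, i < 10742 → P i := stepQ 10741 Q10741 (allL N10741 (tt N11326 (iv F69893)) (tt N10620 F67835) (tt N10149 (iv D17199)) (tt N10196 F67836) (tt N11330 D17788) (tt N10367 F67837) (tt N11320 (iv F69866)) (tt N11309 (iv F69813)) (tt N10174 F67838))
theorem Q10743 : ∀ i, i < 10743 → P i := stepQ 10742 Q10742 (allL N10742 (tt N11327 (iv F69899)) (tt N10155 F67839) (tt N11330 (iv F69918)) (tt N11329 (iv F69914)) (tt N10149 (iv D17200)) (tt N11331 D17789) (tt N11321 (iv F69871)) (tt N11310 (iv F69815)) (tt N10175 F67840))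
theorem Q10744 : ∀ i, i < 10744 → P i := stepQ 10743 Q10743 (allL N10743 (tt N10237 F67841) (tt N10407 F67842) (tt N10743 F67843) (tt N11332 D17790) (tt N10994 (iv F68837)) (tt N10152 F67844) (tt N10398 F67845) (tt N10150 (iv D17201)) (tt N10993 (iv F68833)))
theorem Q10745 : ∀ i, i < 10745 → P i := stepQ 10744 Q10744 (allL N10744 (tt N10238 F67846) (tt N10634 F67847) (tt N10744 F67848) (tt N11333 D17791) (tt N10223 F67849) (tt N10993 (iv F68832)) (tt N10213 F67850) (tt N10151 (iv D17202)) (tt N10152 F67851))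
theorem Q10746 : ∀ i, i < 10746 → P i := stepQ 10745 Q10745 (allL N10745 (tt N10239 F67852) (tt N11328 (iv F69905)) (tt N11334 D17792) (tt N10152 (iv D17203)) (tt N11335 D17793) (tt N11332 (iv F69925)) (tt N11322 (iv F69876)) (tt N10154 F67853) (tt N11333 (iv F69932)))
theorem Q10747 : ∀ i, i < 10747 → P i := stepQ 10746 Q10746 (allL N10746 (tt N10241 F67854) (tt N10413 F67855) (tt N11336 D17794) (tt N10153 (iv D17204)) (tt N11337 D17795) (tt N10154 F67856) (tt N10401 F67857) (tt N11332 (iv F69927)) (tt N10182 F67858))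
theorem Q10748 : ∀ i, i < 10748 → P i := stepQ 10747 Q10747 (allL N10747 (tt N10242 F67859) (tt N11338 D17796) (tt N10154 (iv D17205)) (tt N10157 F67860) (tt N11339 D17797) (tt N11336 (iv F69941)) (tt N11323 (iv F69883)) (tt N11334 (iv F69935)) (tt N10183 F67861))
theorem Q10749 : ∀ i, i < 10749 → P i := stepQ 10748 Q10748 (allL N10748 (tt N10243 F67862) (tt N11329 (iv F69912)) (tt N11339 (iv F69956)) (tt N10155 F67863) (tt N10154 (iv D17206)) (tt N11340 D17798) (tt N11324 (iv F69888)) (tt N11335 (iv F69937)) (tt N10184 F67864))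
theorem Q10750 : ∀ i, i < 10750 → P i := stepQ 10749 Q10749 (allL N10749 (tt N10244 F67865) (tt N11331 (iv F69920)) (tt N10626 F67866) (tt N11340 (iv F69960)) (tt N10376 F67867) (tt N10155 (iv D17207)) (tt N11341 D17799) (tt N11315 (iv F69838)) (tt N10185 F67868))
theorem Q10751 : ∀ i, i < 10751 → P i := stepQ 10750 Q10750 (allL N10750 (tt N10245 F67869) (tt N10324 F67870) (tt N10156 (iv D17208)) (tt N11336 (iv F69940)) (tt N10458 F67871) (tt N10157 F67872) (tt N10432 F67873) (tt N10750 F67874) (tt N10186 F67875))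
theorem Q10752 : ∀ i, i < 10752 → P i := stepQ 10751 Q10751 (allL N10751 (tt N10326 (iv F67882)) (tt N10157 (iv D17209)) (tt N10198 F67876) (tt N11338 (iv F69950)) (tt N10627 F67877) (tt N10324 F67878) (tt N10567 F67879) (tt N10751 F67880) (tt N10187 F67881))
theorem Q10753 : ∀ i, i < 10753 → P i := stepQ 10752 Q10752 (allL N10752 (tt N10334 F67883) (tt N10160 F67884) (tt N10703 F67885) (tt N10158 (iv D17210)) (tt N11342 D17800) (tt N10163 F67886) (tt N10336 F67887) (tt N10756 (iv F67908)) (tt N10378 F67888))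
theorem Q10754 : ∀ i, i < 10754 → P i := stepQ 10753 Q10753 (allL N10753 (tt N10248 F67889) (tt N10361 F67890) (tt N11343 D17801) (tt N10159 (iv D17211)) (tt N11344 D17802) (tt N10362 F67891) (tt N10378 F67892) (tt N11258 (iv F69672)) (tt N10336 F67893))
theorem Q10755 : ∀ i, i < 10755 → P i := stepQ 10754 Q10754 (allL N10754 (tt N10249 F67894) (tt N11342 (iv F69967)) (tt N10271 F67895) (tt N11344 (iv F69980)) (tt N10160 (iv D17212)) (tt N11345 D17803) (tt N10379 F67896) (tt N10847 (iv F68291)) (tt N11319 (iv F69861)))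
theorem Q10756 : ∀ i, i < 10756 → P i := stepQ 10755 Q10755 (allL N10755 (tt N10250 F67897) (tt N10458 F67898) (tt N10161 (iv D17213)) (tt N11343 (iv F69974)) (tt N10324 F67899) (tt N10427 F67900) (tt N10380 F67901) (tt N10755 F67902) (tt N10343 F67903))
theorem Q10757 : ∀ i, i < 10757 → P i := stepQ 10756 Q10756 (allL N10756 (tt N10163 F67904) (tt N10251 F67905) (tt N11296 (iv F69745)) (tt N10162 (iv D17214)) (tt N11346 D17804) (tt N10334 F67906) (tt N10169 F67907) (tt N10752 F67908) (tt N10446 F67909))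
theorem Q10758 : ∀ i, i < 10758 → P i := stepQ 10757 Q10757 (allL N10757 (tt N11296 (iv F69743)) (tt N10394 F67910) (tt N10163 (iv D17215)) (tt N10199 F67911) (tt N11347 D17805) (tt N10703 F67912) (tt N10174 F67913) (tt N10924 (iv F68563)) (tt N11320 (iv F69867)))
theorem Q10759 : ∀ i, i < 10759 → P i := stepQ 10758 Q10758 (allL N10758 (tt N11346 (iv F69986)) (tt N10165 F67914) (tt N11347 (iv F69993)) (tt N10554 F67915) (tt N10163 (iv D17216)) (tt N11348 D17806) (tt N10175 F67916) (tt N10925 (iv F68568)) (tt N11321 (iv F69872)))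
theorem Q10760 : ∀ i, i < 10760 → P i := stepQ 10759 Q10759 (allL N10759 (tt N10260 F67917) (tt N10537 F67918) (tt N10164 (iv D17217)) (tt N10166 F67919) (tt N11349 D17807) (tt N10539 F67920) (tt N10183 F67921) (tt N11028 (iv F68947)) (tt N11323 (iv F69884)))
theorem Q10761 : ∀ i, i < 10761 → P i := stepQ 10760 Q10760 (allL N10760 (tt N10261 F67922) (tt N10554 F67923) (tt N11349 (iv F70000)) (tt N10165 F67924) (tt N10164 (iv D17218)) (tt N11350 D17808) (tt N10184 F67925) (tt N11029 (iv F68952)) (tt N11324 (iv F69889)))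
theorem Q10762 : ∀ i, i < 10762 → P i := stepQ 10761 Q10761 (allL N10761 (tt N10262 F67926) (tt N11348 (iv F69996)) (tt N10528 F67927) (tt N11350 (iv F70005)) (tt N11345 (iv F69985)) (tt N10165 (iv D17219)) (tt N11351 D17809) (tt N10926 (iv F68573)) (tt N11325 (iv F69892)))
theorem Q10763 : ∀ i, i < 10763 → P i := stepQ 10762 Q10762 (allL N10762 (tt N10171 F67928) (tt N10268 F67929) (tt N10422 F67930) (tt N11352 D17810) (tt N10451 F67931) (tt N10501 F67932) (tt N10423 F67933) (tt N10167 (iv D17220)) (tt N10450 F67934))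
theorem Q10764 : ∀ i, i < 10764 → P i := stepQ 10763 Q10763 (allL N10763 (tt N10173 F67935) (tt N10270 F67936) (tt N10413 F67937) (tt N10168 (iv D17221)) (tt N11353 D17811) (tt N10506 F67938) (tt N10414 F67939) (tt N11352 (iv F70015)) (tt N10516 F67940))
theorem Q10765 : ∀ i, i < 10765 → P i := stepQ 10764 Q10764 (allL N10764 (tt N10174 F67941) (tt N10703 F67942) (tt N10169 (iv D17222)) (tt N10200 F67943) (tt N11354 D17812) (tt N10394 F67944) (tt N11296 (iv F69748)) (tt N10927 (iv F68579)) (tt N11326 (iv F69898)))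
theorem Q10766 : ∀ i, i < 10766 → P i := stepQ 10765 Q10765 (allL N10765 (tt N10175 F67945) (tt N10271 F67946) (tt N11354 (iv F70025)) (tt N11353 (iv F70020)) (tt N10169 (iv D17223)) (tt N11355 D17813) (tt N11346 (iv F69989)) (tt N10928 (iv F68582)) (tt N11327 (iv F69903)))
theorem Q10767 : ∀ i, i < 10767 → P i := stepQ 10766 Q10766 (allL N10766 (tt N10501 F67947) (tt N10178 F67948) (tt N10560 F67949) (tt N11356 D17814) (tt N10773 (iv F67979)) (tt N10171 F67950) (tt N10371 F67951) (tt N10170 (iv D17224)) (tt N10704 F67952))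
theorem Q10768 : ∀ i, i < 10768 → P i := stepQ 10767 Q10767 (allL N10767 (tt N11352 (iv F70010)) (tt N10180 F67953) (tt N10544 F67954) (tt N10171 (iv D17225)) (tt N11357 D17815) (tt N11356 (iv F70033)) (tt N10546 F67955) (tt N10173 F67956) (tt N11144 (iv F69309)))
theorem Q10769 : ∀ i, i < 10769 → P i := stepQ 10768 Q10768 (allL N10768 (tt N10506 F67957) (tt N10182 F67958) (tt N10516 F67959) (tt N10172 (iv D17226)) (tt N11358 D17816) (tt N10173 F67960) (tt N10374 F67961) (tt N11356 (iv F70035)) (tt N10413 F67962))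
theorem Q10770 : ∀ i, i < 10770 → P i := stepQ 10769 Q10769 (allL N10769 (tt N11353 (iv F70017)) (tt N10184 F67963) (tt N10553 F67964) (tt N10175 F67965) (tt N10173 (iv D17227)) (tt N11359 D17817) (tt N10554 F67966) (tt N11357 (iv F70040)) (tt N11329 (iv F69916)))
theorem Q10771 : ∀ i, i < 10771 → P i := stepQ 10770 Q10770 (allL N10770 (tt N11354 (iv F70023)) (tt N10632 F67967) (tt N10175 F67968) (tt N11360 D17818) (tt N10174 (iv D17228)) (tt N11361 D17819) (tt N11347 (iv F69995)) (tt N10929 (iv F68585)) (tt N11330 (iv F69919)))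
theorem Q10772 : ∀ i, i < 10772 → P i := stepQ 10771 Q10771 (allL N10771 (tt N11355 (iv F70027)) (tt N10185 F67969) (tt N11361 (iv F70056)) (tt N11359 (iv F70049)) (tt N10405 F67970) (tt N10175 (iv D17229)) (tt N11362 D17820) (tt N10930 (iv F68588)) (tt N11331 (iv F69922)))
theorem Q10773 : ∀ i, i < 10773 → P i := stepQ 10772 Q10772 (allL N10772 (tt N10284 F67971) (tt N10371 F67972) (tt N10188 F67973) (tt N11363 D17821) (tt N10965 (iv F68725)) (tt N10365 F67974) (tt N10178 F67975) (tt N10176 (iv D17230)) (tt N10964 (iv F68721)))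
theorem Q10774 : ∀ i, i < 10774 → P i := stepQ 10773 Q10773 (allL N10773 (tt N10285 F67976) (tt N10704 F67977) (tt N10189 F67978) (tt N11364 D17822) (tt N10766 F67979) (tt N10179 F67980) (tt N10964 (iv F68720)) (tt N10177 (iv D17231)) (tt N10178 F67981))
theorem Q10775 : ∀ i, i < 10775 → P i := stepQ 10774 Q10774 (allL N10774 (tt N10286 F67982) (tt N11356 (iv F70031)) (tt N11299 (iv F69765)) (tt N10178 (iv D17232)) (tt N11365 D17823) (tt N10180 F67983) (tt N11363 (iv F70064)) (tt N10182 F67984) (tt N11364 (iv F70069)))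
theorem Q10776 : ∀ i, i < 10776 → P i := stepQ 10775 Q10775 (allL N10775 (tt N10287 F67985) (tt N11144 F69310) (tt N11366 D17824) (tt N10179 (iv D17233)) (tt N11367 D17825) (tt N11364 (iv F70068)) (tt N10216 F67986) (tt N11333 (iv F69931)) (tt N10180 F67987))
theorem Q10777 : ∀ i, i < 10777 → P i := stepQ 10776 Q10776 (allL N10776 (tt N10288 F67988) (tt N11368 D17826) (tt N10180 (iv D17234)) (tt N10191 F67989) (tt N11369 D17827) (tt N11299 (iv F69766)) (tt N11028 (iv F68946)) (tt N10183 F67990) (tt N11366 (iv F70075)))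
theorem Q10778 : ∀ i, i < 10778 → P i := stepQ 10777 Q10777 (allL N10777 (tt N10289 F67991) (tt N11357 (iv F70037)) (tt N11369 (iv F70086)) (tt N10931 (iv F68591)) (tt N10180 (iv D17235)) (tt N11370 D17828) (tt N11029 (iv F68951)) (tt N10184 F67992) (tt N11367 (iv F70079)))
theorem Q10779 : ∀ i, i < 10779 → P i := stepQ 10778 Q10778 (allL N10778 (tt N10290 F67993) (tt N10374 F67994) (tt N10696 F67995) (tt N10181 (iv D17236)) (tt N11371 D17829) (tt N10366 F67996) (tt N10182 F67997) (tt N11363 (iv F70065)) (tt N10401 F67998))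
theorem Q10780 : ∀ i, i < 10780 → P i := stepQ 10779 Q10779 (allL N10779 (tt N10291 F67999) (tt N10694 F68000) (tt N10182 (iv D17237)) (tt N10186 F68001) (tt N11372 D17830) (tt N10183 F68002) (tt N10696 F68003) (tt N11299 (iv F69768)) (tt N11336 (iv F69943)))
theorem Q10781 : ∀ i, i < 10781 → P i := stepQ 10780 Q10780 (allL N10780 (tt N10292 F68004) (tt N11358 (iv F70042)) (tt N11372 (iv F70098)) (tt N10415 F68005) (tt N10182 (iv D17238)) (tt N11373 D17831) (tt N11371 (iv F70094)) (tt N11365 (iv F70071)) (tt N11337 (iv F69948)))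
theorem Q10782 : ∀ i, i < 10782 → P i := stepQ 10781 Q10781 (allL N10781 (tt N11374 D17832) (tt N10183 (iv D17239)) (tt N10536 F68006) (tt N10187 F68007) (tt N11375 D17833) (tt N10694 F68008) (tt N10537 F68009) (tt N11368 (iv F70084)) (tt N11338 (iv F69953)))
theorem Q10783 : ∀ i, i < 10783 → P i := stepQ 10782 Q10782 (allL N10782 (tt N10294 F68010) (tt N11375 (iv F70109)) (tt N10184 F68011) (tt N10643 F68012) (tt N10183 (iv D17240)) (tt N11376 D17834) (tt N11349 (iv F70002)) (tt N11369 (iv F70087)) (tt N11339 (iv F69958)))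
theorem Q10784 : ∀ i, i < 10784 → P i := stepQ 10783 Q10783 (allL N10783 (tt N10295 F68013) (tt N11359 (iv F70047)) (tt N11376 (iv F70114)) (tt N10185 F68014) (tt N11373 (iv F70102)) (tt N10184 (iv D17241)) (tt N11377 D17835) (tt N11370 (iv F70089)) (tt N11340 (iv F69961)))
theorem Q10785 : ∀ i, i < 10785 → P i := stepQ 10784 Q10784 (allL N10784 (tt N10296 F68015) (tt N11362 (iv F70058)) (tt N10645 F68016) (tt N11377 (iv F70117)) (tt N10418 F68017) (tt N11351 (iv F70009)) (tt N10185 (iv D17242)) (tt N10933 (iv F68602)) (tt N11341 (iv F69965)))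
theorem Q10786 : ∀ i, i < 10786 → P i := stepQ 10785 Q10785 (allL N10785 (tt N10187 (iv D17243)) (tt N10298 F68018) (tt N10202 F68019) (tt N11374 (iv F70105)) (tt N10646 F68020) (tt N10318 F68021) (tt N10569 F68022) (tt N10193 F68023) (tt N10326 F68024))
theorem Q10787 : ∀ i, i < 10787 → P i := stepQ 10786 Q10786 (allL N10786 (tt N10310 F68025) (tt N11172 (iv F69391)) (tt N10190 (iv D17244)) (tt N11366 (iv F70073)) (tt N10572 F68026) (tt N11298 (iv F69759)) (tt N10220 F68027) (tt N10786 F68028) (tt N10191 F68029))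
theorem Q10788 : ∀ i, i < 10788 → P i := stepQ 10787 Q10787 (allL N10787 (tt N11378 D17836) (tt N10191 (iv D17245)) (tt N10586 F68030) (tt N11368 (iv F70081)) (tt N11053 (iv F69023)) (tt N10705 F68031) (tt N10587 F68032) (tt N10192 F68033) (tt N11172 (iv F69396)))
theorem Q10789 : ∀ i, i < 10789 → P i := stepQ 10788 Q10788 (allL N10788 (tt N10192 (iv D17246)) (tt N10315 F68034) (tt N10582 F68035) (tt N10193 F68036) (tt N11179 (iv F69426)) (tt N10344 F68037) (tt N10583 F68038) (tt N11378 (iv F70122)) (tt N10788 F68039))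
theorem Q10790 : ∀ i, i < 10790 → P i := stepQ 10789 Q10789 (allL N10789 (tt N10458 F68040) (tt N10428 F68041) (tt N10194 (iv D17247)) (tt N11320 (iv F69864)) (tt N10245 F68042) (tt N10380 F68043) (tt N10196 F68044) (tt N10789 F68045) (tt N10199 F68046))
theorem Q10791 : ∀ i, i < 10791 → P i := stepQ 10790 Q10790 (allL N10790 (tt N10196 F68047) (tt N10380 F68048) (tt N10195 (iv D17248)) (tt N11326 (iv F69895)) (tt N10432 F68049) (tt N10428 F68050) (tt N10458 F68051) (tt N10790 F68052) (tt N10200 F68053))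
theorem Q10792 : ∀ i, i < 10792 → P i := stepQ 10791 Q10791 (allL N10791 (tt N10432 F68054) (tt N10656 F68055) (tt N10197 F68056) (tt N11379 D17837) (tt N10196 (iv D17249)) (tt N10431 (iv F68060)) (tt N10245 F68057) (tt N10791 F68058) (tt N10201 F68059))
theorem Q10793 : ∀ i, i < 10793 → P i := stepQ 10792 Q10792 (allL N10792 (tt N10696 F68061) (tt N10659 F68062) (tt N10290 F68063) (tt N10201 (iv D17250)) (tt N11360 (iv F70053)) (tt N10699 F68064) (tt N10291 F68065) (tt N11380 D17838) (tt N11379 (iv F70128)))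
theorem Q10794 : ∀ i, i < 10794 → P i := stepQ 10793 Q10793 (allL N10793 (tt N10708 F68066) (tt N10660 F68067) (tt N10307 F68068) (tt N11380 (iv F70132)) (tt N10934 (iv F68606)) (tt N10712 F68069) (tt N10309 F68070) (tt N10203 (iv D17251)) (tt N11187 (iv F69464)))
theorem Q10795 : ∀ i, i < 10795 → P i := stepQ 10794 Q10794 (allL N10794 (tt N11044 (iv F68995)) (tt N10339 F68071) (tt N10211 F68072) (tt N10204 (iv D17252)) (tt N11381 D17839) (tt N10206 F68073) (tt N10436 F68074) (tt N10221 F68075) (tt N10795 (iv F68082)))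
theorem Q10796 : ∀ i, i < 10796 → P i := stepQ 10795 Q10795 (allL N10795 (tt N10452 F68076) (tt N10206 F68077) (tt N10436 F68078) (tt N10205 (iv D17253)) (tt N11382 D17840) (tt N10339 F68079) (tt N10211 F68080) (tt N10222 F68081) (tt N10794 F68082))
theorem Q10797 : ∀ i, i < 10797 → P i := stepQ 10796 Q10796 (allL N10796 (tt N11046 (iv F69003)) (tt N11382 (iv F70141)) (tt N10471 F68083) (tt N11367 (iv F70077)) (tt N10206 (iv D17254)) (tt N11383 D17841) (tt N10217 F68084) (tt N10225 F68085) (tt N10931 (iv F68594)))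
theorem Q10798 : ∀ i, i < 10798 → P i := stepQ 10797 Q10797 (allL N10797 (tt N10210 F68086) (tt N10674 F68087) (tt N10329 F68088) (tt N11384 D17842) (tt N10208 F68089) (tt N10424 F68090) (tt N10450 F68091) (tt N10207 (iv D17255)) (tt N10423 F68092))
theorem Q10799 : ∀ i, i < 10799 → P i := stepQ 10798 Q10798 (allL N10798 (tt N10211 F68093) (tt N11307 (iv F69799)) (tt N11044 (iv F68997)) (tt N10208 (iv D17256)) (tt N11385 D17843) (tt N10465 F68094) (tt N10452 F68095) (tt N10227 F68096) (tt N10935 (iv F68612)))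
theorem Q10800 : ∀ i, i < 10800 → P i := stepQ 10799 Q10799 (allL N10799 (tt N10512 F68097) (tt N10213 F68098) (tt N10421 F68099) (tt N11386 D17844) (tt N10230 F68100) (tt N10386 F68101) (tt N10634 F68102) (tt N10209 (iv D17257)) (tt N10385 F68103))
theorem Q10801 : ∀ i, i < 10801 → P i := stepQ 10800 Q10800 (allL N10800 (tt N11384 (iv F70148)) (tt N10216 F68104) (tt N10545 F68105) (tt N10210 (iv D17258)) (tt N11387 D17845) (tt N10548 F68106) (tt N11144 (iv F69308)) (tt N11386 (iv F70163)) (tt N10546 F68107))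
theorem Q10802 : ∀ i, i < 10802 → P i := stepQ 10801 Q10801 (allL N10801 (tt N11385 (iv F70155)) (tt N10217 F68108) (tt N11381 (iv F70136)) (tt N11387 (iv F70167)) (tt N10211 (iv D17259)) (tt N11388 D17846) (tt N11382 (iv F70143)) (tt N10233 F68109) (tt N11027 (iv F68943)))
theorem Q10803 : ∀ i, i < 10803 → P i := stepQ 10802 Q10802 (allL N10802 (tt N10628 F68110) (tt N10386 F68111) (tt N10802 F68112) (tt N11389 D17847) (tt N10987 (iv F68805)) (tt N10213 F68113) (tt N10399 F68114) (tt N10212 (iv D17260)) (tt N10381 F68115))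
theorem Q10804 : ∀ i, i < 10804 → P i := stepQ 10803 Q10803 (allL N10803 (tt N11311 (iv F69816)) (tt N11386 (iv F70159)) (tt N11390 D17848) (tt N10213 (iv D17261)) (tt N11391 D17849) (tt N11389 (iv F70174)) (tt N11333 (iv F69930)) (tt N10216 F68116) (tt N11322 (iv F69878)))
theorem Q10805 : ∀ i, i < 10805 → P i := stepQ 10804 Q10804 (allL N10804 (tt N11064 (iv F69067)) (tt N10372 F68117) (tt N10218 F68118) (tt N11392 D17850) (tt N10477 F68119) (tt N10964 (iv F68719)) (tt N10215 F68120) (tt N10214 (iv D17262)) (tt N10365 F68121))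
theorem Q10806 : ∀ i, i < 10806 → P i := stepQ 10805 Q10805 (allL N10805 (tt N11312 (iv F69822)) (tt N10548 F68122) (tt N11393 D17851) (tt N10215 (iv D17263)) (tt N11394 D17852) (tt N10216 F68123) (tt N11392 (iv F70184)) (tt N11389 (iv F70176)) (tt N10550 F68124))
theorem Q10807 : ∀ i, i < 10807 → P i := stepQ 10806 Q10806 (allL N10806 (tt N11313 (iv F69827)) (tt N11395 D17853) (tt N10216 (iv D17264)) (tt N10220 F68125) (tt N11396 D17854) (tt N11393 (iv F70189)) (tt N11366 (iv F70074)) (tt N11390 (iv F70179)) (tt N11028 (iv F68948)))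
theorem Q10808 : ∀ i, i < 10808 → P i := stepQ 10807 Q10807 (allL N10807 (tt N11314 (iv F69831)) (tt N11387 (iv F70165)) (tt N11396 (iv F70199)) (tt N10217 F68126) (tt N10216 (iv D17265)) (tt N11397 D17855) (tt N11367 (iv F70078)) (tt N11391 (iv F70181)) (tt N11029 (iv F68953)))
theorem Q10809 : ∀ i, i < 10809 → P i := stepQ 10808 Q10808 (allL N10808 (tt N11315 (iv F69835)) (tt N11388 (iv F70169)) (tt N10668 F68127) (tt N11397 (iv F70201)) (tt N10481 F68128) (tt N10217 (iv D17266)) (tt N11398 D17856) (tt N10244 F68129) (tt N11030 (iv F68957)))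
theorem Q10810 : ∀ i, i < 10810 → P i := stepQ 10809 Q10809 (allL N10809 (tt N11316 (iv F69839)) (tt N10588 F68130) (tt N10219 (iv D17267)) (tt N11393 (iv F70188)) (tt N11399 D17857) (tt N10220 F68131) (tt N10710 F68132) (tt N10809 F68133) (tt N10590 F68134))
theorem Q10811 : ∀ i, i < 10811 → P i := stepQ 10810 Q10810 (allL N10810 (tt N11317 (iv F69844)) (tt N10330 F68135) (tt N11399 (iv F70206)) (tt N10484 F68136) (tt N10219 (iv D17268)) (tt N10671 F68137) (tt N10721 F68138) (tt N10810 F68139) (tt N10594 F68140))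
theorem Q10812 : ∀ i, i < 10812 → P i := stepQ 10811 Q10811 (allL N10811 (tt N11400 D17858) (tt N10220 (iv D17269)) (tt N10331 F68141) (tt N11395 (iv F70196)) (tt N10672 F68142) (tt N10588 F68143) (tt N11172 (iv F69394)) (tt N10811 F68144) (tt N10587 F68145))
theorem Q10813 : ∀ i, i < 10813 → P i := stepQ 10812 Q10812 (allL N10812 (tt N11319 (iv F69856)) (tt N10340 F68146) (tt N10233 F68147) (tt N10338 F68148) (tt N10221 (iv D17270)) (tt N11401 D17859) (tt N10440 F68149) (tt N11381 (iv F70139)) (tt N10249 F68150))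
theorem Q10814 : ∀ i, i < 10814 → P i := stepQ 10813 Q10813 (allL N10813 (tt N10455 F68151) (tt N10225 F68152) (tt N10440 F68153) (tt N10641 F68154) (tt N10222 (iv D17271)) (tt N11402 D17860) (tt N10233 F68155) (tt N11382 (iv F70144)) (tt N10254 F68156))
theorem Q10815 : ∀ i, i < 10815 → P i := stepQ 10814 Q10814 (allL N10814 (tt N11322 (iv F69873)) (tt N10636 F68157) (tt N11403 D17861) (tt N10223 (iv D17272)) (tt N11404 D17862) (tt N10629 F68158) (tt N10239 F68159) (tt N10224 F68160) (tt N11311 (iv F69821)))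
theorem Q10816 : ∀ i, i < 10816 → P i := stepQ 10815 Q10815 (allL N10815 (tt N11323 (iv F69879)) (tt N11405 D17863) (tt N10224 (iv D17273)) (tt N10226 F68161) (tt N11406 D17864) (tt N10630 F68162) (tt N10242 F68163) (tt N11403 (iv F70230)) (tt N10260 F68164))
theorem Q10817 : ∀ i, i < 10817 → P i := stepQ 10816 Q10816 (allL N10816 (tt N11324 (iv F69885)) (tt N10641 F68165) (tt N11406 (iv F70240)) (tt N10225 F68166) (tt N10224 (iv D17274)) (tt N11407 D17865) (tt N10243 F68167) (tt N11404 (iv F70233)) (tt N10261 F68168))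
theorem Q10818 : ∀ i, i < 10818 → P i := stepQ 10817 Q10817 (allL N10817 (tt N11325 (iv F69890)) (tt N11402 (iv F70222)) (tt N10499 F68169) (tt N11407 (iv F70245)) (tt N11401 (iv F70219)) (tt N10225 (iv D17275)) (tt N11408 D17866) (tt N11383 (iv F70147)) (tt N10262 F68170))
theorem Q10819 : ∀ i, i < 10819 → P i := stepQ 10818 Q10818 (allL N10818 (tt N10658 (iv F68177)) (tt N10226 (iv D17276)) (tt N10317 F68171) (tt N11405 (iv F70235)) (tt N10429 F68172) (tt N10657 F68173) (tt N10246 F68174) (tt N10818 F68175) (tt N10265 F68176))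
theorem Q10820 : ∀ i, i < 10820 → P i := stepQ 10819 Q10819 (allL N10819 (tt N10233 F68178) (tt N11327 (iv F69900)) (tt N11319 (iv F69858)) (tt N10695 F68179) (tt N10227 (iv D17277)) (tt N11409 D17867) (tt N10455 F68180) (tt N11385 (iv F70157)) (tt N10271 F68181))
theorem Q10821 : ∀ i, i < 10821 → P i := stepQ 10820 Q10820 (allL N10820 (tt N10530 F68182) (tt N10237 F68183) (tt N10577 F68184) (tt N11410 D17868) (tt N11117 (iv F69227)) (tt N10230 F68185) (tt N10522 F68186) (tt N10228 (iv D17278)) (tt N11116 (iv F69223)))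
theorem Q10822 : ∀ i, i < 10822 → P i := stepQ 10821 Q10821 (allL N10821 (tt N10510 F68187) (tt N10238 F68188) (tt N10419 F68189) (tt N11411 D17869) (tt N10385 F68190) (tt N11116 (iv F69222)) (tt N10635 F68191) (tt N10229 (iv D17279)) (tt N10230 F68192))
theorem Q10823 : ∀ i, i < 10823 → P i := stepQ 10822 Q10822 (allL N10822 (tt N10685 F68193) (tt N10239 F68194) (tt N11412 D17870) (tt N10230 (iv D17280)) (tt N11413 D17871) (tt N11410 (iv F70257)) (tt N10636 F68195) (tt N10232 F68196) (tt N11411 (iv F70264)))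
theorem Q10824 : ∀ i, i < 10824 → P i := stepQ 10823 Q10823 (allL N10823 (tt N10536 F68197) (tt N10241 F68198) (tt N11374 (iv F70104)) (tt N10231 (iv D17281)) (tt N11414 D17872) (tt N10232 F68199) (tt N10525 F68200) (tt N11410 (iv F70259)) (tt N10279 F68201))
theorem Q10825 : ∀ i, i < 10825 → P i := stepQ 10824 Q10824 (allL N10824 (tt N10694 F68202) (tt N10433 (iv F68206)) (tt N10232 (iv D17282)) (tt N10318 F68203) (tt N11415 D17873) (tt N11374 (iv F70106)) (tt N10640 F68204) (tt N11412 (iv F70268)) (tt N10280 F68205))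
theorem Q10826 : ∀ i, i < 10826 → P i := stepQ 10825 Q10825 (allL N10825 (tt N10695 F68207) (tt N10243 F68208) (tt N11415 (iv F70281)) (tt N10233 F68209) (tt N10232 (iv D17283)) (tt N11416 D17874) (tt N10641 F68210) (tt N11413 (iv F70273)) (tt N10281 F68211))
theorem Q10827 : ∀ i, i < 10827 → P i := stepQ 10826 Q10826 (allL N10826 (tt N11409 (iv F70251)) (tt N10244 F68212) (tt N11401 (iv F70217)) (tt N11416 (iv F70287)) (tt N10499 F68213) (tt N10233 (iv D17284)) (tt N11417 D17875) (tt N11388 (iv F70171)) (tt N10282 F68214))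
theorem Q10828 : ∀ i, i < 10828 → P i := stepQ 10827 Q10827 (allL N10827 (tt N10994 (iv F68834)) (tt N11117 (iv F69225)) (tt N10827 F68215) (tt N11418 D17876) (tt N10237 F68216) (tt N10987 (iv F68806)) (tt N10829 (iv F68226)) (tt N10234 (iv D17285)) (tt N10828 (iv F68222)))
theorem Q10829 : ∀ i, i < 10829 → P i := stepQ 10828 Q10828 (allL N10828 (tt N10398 F68217) (tt N10522 F68218) (tt N10828 F68219) (tt N11419 D17877) (tt N10829 (iv F68224)) (tt N10392 F68220) (tt N10237 F68221) (tt N10235 (iv D17286)) (tt N10827 F68222))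
theorem Q10830 : ∀ i, i < 10830 → P i := stepQ 10829 Q10829 (allL N10829 (tt N10993 (iv F68828)) (tt N11116 (iv F69219)) (tt N10829 F68223) (tt N11420 D17878) (tt N10828 F68224) (tt N10238 F68225) (tt N10827 F68226) (tt N10236 (iv D17287)) (tt N10237 F68227))
theorem Q10831 : ∀ i, i < 10831 → P i := stepQ 10830 Q10830 (allL N10830 (tt N11332 (iv F69923)) (tt N11410 (iv F70256)) (tt N11421 D17879) (tt N10237 (iv D17288)) (tt N11422 D17880) (tt N10239 F68228) (tt N11419 (iv F70296)) (tt N10241 F68229) (tt N11420 (iv F70302)))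
theorem Q10832 : ∀ i, i < 10832 → P i := stepQ 10831 Q10831 (allL N10831 (tt N11333 (iv F69928)) (tt N11411 (iv F70261)) (tt N11423 D17881) (tt N10238 (iv D17289)) (tt N11424 D17882) (tt N11420 (iv F70299)) (tt N11311 (iv F69819)) (tt N10287 F68230) (tt N10239 F68231))
theorem Q10833 : ∀ i, i < 10833 → P i := stepQ 10832 Q10832 (allL N10832 (tt N11334 (iv F69933)) (tt N11425 D17883) (tt N10239 (iv D17290)) (tt N10832 F68232) (tt N11426 D17884) (tt N11421 (iv F70304)) (tt N11403 (iv F70229)) (tt N10242 F68233) (tt N11423 (iv F70309)))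
theorem Q10834 : ∀ i, i < 10834 → P i := stepQ 10833 Q10833 (allL N10833 (tt N11335 (iv F69936)) (tt N11413 (iv F70271)) (tt N11426 (iv F70315)) (tt N11391 (iv F70180)) (tt N10239 (iv D17291)) (tt N11427 D17885) (tt N11404 (iv F70232)) (tt N10243 F68234) (tt N11424 (iv F70311)))
theorem Q10835 : ∀ i, i < 10835 → P i := stepQ 10834 Q10834 (allL N10834 (tt N10401 F68235) (tt N10525 F68236) (tt N11379 (iv F70125)) (tt N10240 (iv D17292)) (tt N11428 D17886) (tt N10393 F68237) (tt N10241 F68238) (tt N11419 (iv F70297)) (tt N10290 F68239))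
theorem Q10836 : ∀ i, i < 10836 → P i := stepQ 10835 Q10835 (allL N10835 (tt N11336 (iv F69938)) (tt N11429 D17887) (tt N10241 (iv D17293)) (tt N10245 F68240) (tt N11430 D17888) (tt N10242 F68241) (tt N11379 (iv F70127)) (tt N11421 (iv F70305)) (tt N10291 F68242))
theorem Q10837 : ∀ i, i < 10837 → P i := stepQ 10836 Q10836 (allL N10836 (tt N11337 (iv F69944)) (tt N11414 (iv F70275)) (tt N11430 (iv F70329)) (tt N10507 F68243) (tt N10241 (iv D17294)) (tt N11431 D17889) (tt N11428 (iv F70321)) (tt N11422 (iv F70306)) (tt N10292 F68244))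
theorem Q10838 : ∀ i, i < 10838 → P i := stepQ 10837 Q10837 (allL N10837 (tt N11432 D17890) (tt N10242 (iv D17295)) (tt N10433 F68245) (tt N10246 F68246) (tt N11433 D17891) (tt N11429 (iv F70326)) (tt N11405 (iv F70237)) (tt N11425 (iv F70314)) (tt N10293 F68247))
theorem Q10839 : ∀ i, i < 10839 → P i := stepQ 10838 Q10838 (allL N10838 (tt N11339 (iv F69955)) (tt N11433 (iv F70340)) (tt N10243 F68248) (tt N10681 F68249) (tt N10242 (iv D17296)) (tt N11434 D17892) (tt N11406 (iv F70242)) (tt N11426 (iv F70316)) (tt N10294 F68250))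
theorem Q10840 : ∀ i, i < 10840 → P i := stepQ 10839 Q10839 (allL N10839 (tt N11340 (iv F69959)) (tt N11416 (iv F70286)) (tt N11434 (iv F70344)) (tt N10244 F68251) (tt N11431 (iv F70332)) (tt N10243 (iv D17297)) (tt N11435 D17893) (tt N11427 (iv F70317)) (tt N10295 F68252))
theorem Q10841 : ∀ i, i < 10841 → P i := stepQ 10840 Q10840 (allL N10840 (tt N11341 (iv F69962)) (tt N11417 (iv F70289)) (tt N10683 F68253) (tt N11435 (iv F70347)) (tt N10509 F68254) (tt N11408 (iv F70249)) (tt N10244 (iv D17298)) (tt N11398 (iv F70204)) (tt N10296 F68255))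
theorem Q10842 : ∀ i, i < 10842 → P i := stepQ 10841 Q10841 (allL N10841 (tt N10328 F68256) (tt N10245 (iv D17299)) (tt N10319 F68257) (tt N11429 (iv F70325)) (tt N10428 F68258) (tt N10246 F68259) (tt N10656 F68260) (tt N10841 F68261) (tt N10297 F68262))
theorem Q10843 : ∀ i, i < 10843 → P i := stepQ 10842 Q10842 (allL N10842 (tt N10246 (iv D17300)) (tt N10326 F68263) (tt N10320 F68264) (tt N11432 (iv F70336)) (tt N10431 F68265) (tt N10328 F68266) (tt N10658 F68267) (tt N10842 F68268) (tt N10298 F68269))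
theorem Q10844 : ∀ i, i < 10844 → P i := stepQ 10843 Q10843 (allL N10843 (tt N11258 (iv F69668)) (tt N10332 F68270) (tt N11436 D17894) (tt N10247 (iv D17301)) (tt N11437 D17895) (tt N10613 F68271) (tt N10445 F68272) (tt N10248 F68273) (tt N10725 F68274))
theorem Q10845 : ∀ i, i < 10845 → P i := stepQ 10844 Q10844 (allL N10844 (tt N11343 (iv F69972)) (tt N10367 F68275) (tt N10248 (iv D17302)) (tt N10250 F68276) (tt N11438 D17896) (tt N10620 F68277) (tt N10447 F68278) (tt N11436 (iv F70353)) (tt N10337 F68279))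
theorem Q10846 : ∀ i, i < 10846 → P i := stepQ 10845 Q10845 (allL N10845 (tt N11344 (iv F69978)) (tt N10333 F68280) (tt N11438 (iv F70360)) (tt N10249 F68281) (tt N10248 (iv D17303)) (tt N11439 D17897) (tt N10448 F68282) (tt N11437 (iv F70357)) (tt N10338 F68283))
theorem Q10847 : ∀ i, i < 10847 → P i := stepQ 10846 Q10846 (allL N10846 (tt N11345 (iv F69983)) (tt N10442 F68284) (tt N10282 F68285) (tt N11439 (iv F70365)) (tt N10262 F68286) (tt N10249 (iv D17304)) (tt N11440 D17898) (tt N10851 (iv F68311)) (tt N11401 (iv F70220)))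
theorem Q10848 : ∀ i, i < 10848 → P i := stepQ 10847 Q10847 (allL N10847 (tt N10254 F68287) (tt N11346 (iv F69987)) (tt N10379 F68288) (tt N10680 F68289) (tt N10251 (iv D17305)) (tt N11441 D17899) (tt N10271 F68290) (tt N10754 F68291) (tt N10455 F68292))
theorem Q10849 : ∀ i, i < 10849 → P i := stepQ 10848 Q10848 (allL N10848 (tt N10675 F68293) (tt N10257 F68294) (tt N11442 D17900) (tt N10252 (iv D17306)) (tt N11443 D17901) (tt N10623 F68295) (tt N10277 F68296) (tt N10253 F68297) (tt N11308 (iv F69809)))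
theorem Q10850 : ∀ i, i < 10850 → P i := stepQ 10849 Q10849 (allL N10849 (tt N10679 F68298) (tt N11444 D17902) (tt N10253 (iv D17307)) (tt N10321 F68299) (tt N11445 D17903) (tt N10624 F68300) (tt N10280 F68301) (tt N11442 (iv F70382)) (tt N10640 F68302))
theorem Q10851 : ∀ i, i < 10851 → P i := stepQ 10850 Q10850 (allL N10850 (tt N10680 F68303) (tt N10261 F68304) (tt N11445 (iv F70395)) (tt N10254 F68305) (tt N10253 (iv D17308)) (tt N11446 D17904) (tt N10281 F68306) (tt N11443 (iv F70387)) (tt N10641 F68307))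
theorem Q10852 : ∀ i, i < 10852 → P i := stepQ 10851 Q10851 (allL N10851 (tt N11441 (iv F70372)) (tt N10262 F68308) (tt N10449 F68309) (tt N11446 (iv F70401)) (tt N10442 F68310) (tt N10254 (iv D17309)) (tt N11447 D17905) (tt N10846 F68311) (tt N11402 (iv F70226)))
theorem Q10853 : ∀ i, i < 10853 → P i := stepQ 10852 Q10852 (allL N10852 (tt N10365 F68312) (tt N10488 F68313) (tt N10299 F68314) (tt N11448 D17906) (tt N11065 (iv F69076)) (tt N10284 F68315) (tt N10256 F68316) (tt N10255 (iv D17310)) (tt N11064 (iv F69072)))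
theorem Q10854 : ∀ i, i < 10854 → P i := stepQ 10853 Q10853 (allL N10853 (tt N10550 F68317) (tt N10623 F68318) (tt N11449 D17907) (tt N10256 (iv D17311)) (tt N11450 D17908) (tt N10257 F68319) (tt N11448 (iv F70413)) (tt N10259 F68320) (tt N11312 (iv F69826)))
theorem Q10855 : ∀ i, i < 10855 → P i := stepQ 10854 Q10854 (allL N10854 (tt N11028 (iv F68944)) (tt N11451 D17909) (tt N10257 (iv D17312)) (tt N10301 F68321) (tt N11452 D17910) (tt N11449 (iv F70417)) (tt N10288 F68322) (tt N10260 F68323) (tt N11313 (iv F69830)))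
theorem Q10856 : ∀ i, i < 10856 → P i := stepQ 10855 Q10855 (allL N10855 (tt N11029 (iv F68949)) (tt N11443 (iv F70384)) (tt N11452 (iv F70426)) (tt N10922 (iv F68550)) (tt N10257 (iv D17313)) (tt N11453 D17911) (tt N10289 F68324) (tt N10261 F68325) (tt N11314 (iv F69834)))
theorem Q10857 : ∀ i, i < 10857 → P i := stepQ 10856 Q10856 (allL N10856 (tt N10366 F68326) (tt N10489 F68327) (tt N10699 F68328) (tt N10258 (iv D17314)) (tt N11454 D17912) (tt N10290 F68329) (tt N10259 F68330) (tt N11448 (iv F70414)) (tt N10393 F68331))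
theorem Q10858 : ∀ i, i < 10858 → P i := stepQ 10857 Q10857 (allL N10857 (tt N10539 F68332) (tt N11455 D17913) (tt N10259 (iv D17315)) (tt N10263 F68333) (tt N11456 D17914) (tt N10260 F68334) (tt N10699 F68335) (tt N11449 (iv F70419)) (tt N10630 F68336))
theorem Q10859 : ∀ i, i < 10859 → P i := stepQ 10858 Q10858 (allL N10858 (tt N10556 F68337) (tt N10625 F68338) (tt N11456 (iv F70443)) (tt N10621 F68339) (tt N10259 (iv D17316)) (tt N11457 D17915) (tt N11454 (iv F70434)) (tt N11450 (iv F70422)) (tt N10631 F68340))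
theorem Q10860 : ∀ i, i < 10860 → P i := stepQ 10859 Q10859 (allL N10859 (tt N11458 D17916) (tt N10260 (iv D17317)) (tt N11444 (iv F70389)) (tt N10265 F68341) (tt N11459 D17917) (tt N11455 (iv F70439)) (tt N10293 F68342) (tt N11451 (iv F70425)) (tt N11405 (iv F70238)))
theorem Q10861 : ∀ i, i < 10861 → P i := stepQ 10860 Q10860 (allL N10860 (tt N11349 (iv F69998)) (tt N11459 (iv F70457)) (tt N10261 F68343) (tt N10540 F68344) (tt N10260 (iv D17318)) (tt N11460 D17918) (tt N10294 F68345) (tt N11452 (iv F70428)) (tt N11406 (iv F70243)))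
theorem Q10862 : ∀ i, i < 10862 → P i := stepQ 10861 Q10861 (allL N10861 (tt N11350 (iv F70003)) (tt N11446 (iv F70400)) (tt N11460 (iv F70460)) (tt N10262 F68346) (tt N11457 (iv F70449)) (tt N10261 (iv D17319)) (tt N11461 D17919) (tt N11453 (iv F70429)) (tt N11407 (iv F70247)))
theorem Q10863 : ∀ i, i < 10863 → P i := stepQ 10862 Q10862 (allL N10862 (tt N11351 (iv F70007)) (tt N11447 (iv F70404)) (tt N10542 F68347) (tt N11461 (iv F70462)) (tt N11440 (iv F70370)) (tt N10296 F68348) (tt N10262 (iv D17320)) (tt N11033 (iv F68966)) (tt N11408 (iv F70250)))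
theorem Q10864 : ∀ i, i < 10864 → P i := stepQ 10863 Q10863 (allL N10863 (tt N10570 F68349) (tt N10263 (iv D17321)) (tt N10323 F68350) (tt N11455 (iv F70438)) (tt N10569 (iv F68355)) (tt N10265 F68351) (tt N10646 F68352) (tt N10305 F68353) (tt N10657 F68354))
theorem Q10865 : ∀ i, i < 10865 → P i := stepQ 10864 Q10864 (allL N10864 (tt N10265 F68356) (tt N10569 F68357) (tt N10264 F68358) (tt N11458 (iv F70453)) (tt N10263 (iv D17322)) (tt N10570 F68359) (tt N10298 F68360) (tt N10306 F68361) (tt N10658 F68362))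
theorem Q10866 : ∀ i, i < 10866 → P i := stepQ 10865 Q10865 (allL N10865 (tt N10275 F68363) (tt N10501 F68364) (tt N10865 F68365) (tt N11462 D17920) (tt N10874 (iv F68405)) (tt N10268 F68366) (tt N10493 F68367) (tt N10266 (iv D17323)) (tt N10872 (iv F68396)))
theorem Q10867 : ∀ i, i < 10867 → P i := stepQ 10866 Q10866 (allL N10866 (tt N10276 F68368) (tt N10450 F68369) (tt N10866 F68370) (tt N11463 D17921) (tt N10443 F68371) (tt N10872 (iv F68395)) (tt N10674 F68372) (tt N10267 (iv D17324)) (tt N10268 F68373))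
theorem Q10868 : ∀ i, i < 10868 → P i := stepQ 10867 Q10867 (allL N10867 (tt N10277 F68374) (tt N11352 (iv F70011)) (tt N11464 D17922) (tt N10268 (iv D17325)) (tt N11465 D17923) (tt N11462 (iv F70466)) (tt N10675 F68375) (tt N10270 F68376) (tt N11463 (iv F70473)))
theorem Q10869 : ∀ i, i < 10869 → P i := stepQ 10868 Q10868 (allL N10868 (tt N10279 F68377) (tt N10506 F68378) (tt N11338 (iv F69949)) (tt N10269 (iv D17326)) (tt N11466 D17924) (tt N10270 F68379) (tt N10496 F68380) (tt N11462 (iv F70468)) (tt N10536 F68381))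
theorem Q10870 : ∀ i, i < 10870 → P i := stepQ 10869 Q10869 (allL N10869 (tt N10280 F68382) (tt N11336 (iv F69939)) (tt N10270 (iv D17327)) (tt N10324 F68383) (tt N11467 D17925) (tt N11338 (iv F69951)) (tt N10679 F68384) (tt N11464 (iv F70477)) (tt N10694 F68385))
theorem Q10871 : ∀ i, i < 10871 → P i := stepQ 10870 Q10870 (allL N10870 (tt N10281 F68386) (tt N11353 (iv F70018)) (tt N11467 (iv F70487)) (tt N10271 F68387) (tt N10270 (iv D17328)) (tt N11468 D17926) (tt N10680 F68388) (tt N11465 (iv F70480)) (tt N10695 F68389))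
theorem Q10872 : ∀ i, i < 10872 → P i := stepQ 10871 Q10871 (allL N10871 (tt N10282 F68390) (tt N11355 (iv F70028)) (tt N11345 (iv F69984)) (tt N11468 (iv F70491)) (tt N10528 F68391) (tt N10271 (iv D17329)) (tt N11469 D17927) (tt N10975 (iv F68760)) (tt N11409 (iv F70254)))
theorem Q10873 : ∀ i, i < 10873 → P i := stepQ 10872 Q10872 (allL N10872 (tt N10874 (iv F68402)) (tt N10283 F68392) (tt N10872 F68393) (tt N11470 D17928) (tt N10275 F68394) (tt N10866 F68395) (tt N11088 (iv F69144)) (tt N10272 (iv D17330)) (tt N10865 F68396))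
theorem Q10874 : ∀ i, i < 10874 → P i := stepQ 10873 Q10873 (allL N10873 (tt N10493 F68397) (tt N10284 F68398) (tt N10873 F68399) (tt N11471 D17929) (tt N11088 (iv F69142)) (tt N10488 F68400) (tt N10275 F68401) (tt N10273 (iv D17331)) (tt N11087 (iv F69138)))
theorem Q10875 : ∀ i, i < 10875 → P i := stepQ 10874 Q10874 (allL N10874 (tt N10872 F68402) (tt N10285 F68403) (tt N10874 F68404) (tt N11472 D17930) (tt N10865 F68405) (tt N10276 F68406) (tt N11087 (iv F69137)) (tt N10274 (iv D17332)) (tt N10275 F68407))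
theorem Q10876 : ∀ i, i < 10876 → P i := stepQ 10875 Q10875 (allL N10875 (tt N11462 (iv F70464)) (tt N10286 F68408) (tt N11473 D17931) (tt N10275 (iv D17333)) (tt N11474 D17932) (tt N10277 F68409) (tt N11471 (iv F70502)) (tt N10279 F68410) (tt N11472 (iv F70507)))
theorem Q10877 : ∀ i, i < 10877 → P i := stepQ 10876 Q10876 (allL N10876 (tt N11463 (iv F70469)) (tt N10287 F68411) (tt N11475 D17933) (tt N10276 (iv D17334)) (tt N11476 D17934) (tt N11472 (iv F70506)) (tt N11308 (iv F69807)) (tt N11411 (iv F70263)) (tt N10277 F68412))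
theorem Q10878 : ∀ i, i < 10878 → P i := stepQ 10877 Q10877 (allL N10877 (tt N11464 (iv F70474)) (tt N11477 D17935) (tt N10277 (iv D17335)) (tt N10877 F68413) (tt N11478 D17936) (tt N11473 (iv F70509)) (tt N11442 (iv F70381)) (tt N10280 F68414) (tt N11475 (iv F70514)))
theorem Q10879 : ∀ i, i < 10879 → P i := stepQ 10878 Q10878 (allL N10878 (tt N11465 (iv F70478)) (tt N10289 F68415) (tt N11478 (iv F70520)) (tt N11037 (iv F68980)) (tt N10277 (iv D17336)) (tt N11479 D17937) (tt N11443 (iv F70386)) (tt N10281 F68416) (tt N11476 (iv F70516)))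
theorem Q10880 : ∀ i, i < 10880 → P i := stepQ 10879 Q10879 (allL N10879 (tt N10496 F68417) (tt N10290 F68418) (tt N11480 D17938) (tt N10278 (iv D17337)) (tt N11481 D17939) (tt N10489 F68419) (tt N10279 F68420) (tt N11471 (iv F70503)) (tt N10525 F68421))
theorem Q10881 : ∀ i, i < 10881 → P i := stepQ 10880 Q10880 (allL N10880 (tt N11338 F69954) (tt N11432 (iv F70334)) (tt N10279 (iv D17338)) (tt N10326 F68422) (tt N11482 D17940) (tt N10280 F68423) (tt N11480 (iv F70528)) (tt N11473 (iv F70510)) (tt N11374 (iv F70108)))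
theorem Q10882 : ∀ i, i < 10882 → P i := stepQ 10881 Q10881 (allL N10881 (tt N11466 (iv F70481)) (tt N10292 F68424) (tt N11482 (iv F70535)) (tt N10538 F68425) (tt N10279 (iv D17339)) (tt N11483 D17941) (tt N11481 (iv F70533)) (tt N11474 (iv F70512)) (tt N11414 (iv F70278)))
theorem Q10883 : ∀ i, i < 10883 → P i := stepQ 10882 Q10882 (allL N10882 (tt N11429 (iv F70323)) (tt N10280 (iv D17340)) (tt N10293 F68426) (tt N10328 F68427) (tt N11484 D17942) (tt N11432 (iv F70337)) (tt N11444 (iv F70392)) (tt N11477 (iv F70519)) (tt N10433 F68428))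
theorem Q10884 : ∀ i, i < 10884 → P i := stepQ 10883 Q10883 (allL N10883 (tt N11467 (iv F70486)) (tt N11484 (iv F70539)) (tt N10281 F68429) (tt N11438 (iv F70361)) (tt N10280 (iv D17341)) (tt N11485 D17943) (tt N11445 (iv F70397)) (tt N11478 (iv F70521)) (tt N11415 (iv F70284)))
theorem Q10885 : ∀ i, i < 10885 → P i := stepQ 10884 Q10884 (allL N10884 (tt N11468 (iv F70490)) (tt N10295 F68430) (tt N11485 (iv F70543)) (tt N10282 F68431) (tt N11483 (iv F70538)) (tt N10281 (iv D17342)) (tt N11486 D17944) (tt N11479 (iv F70523)) (tt N11416 (iv F70288)))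
theorem Q10886 : ∀ i, i < 10886 → P i := stepQ 10885 Q10885 (allL N10885 (tt N11469 (iv F70493)) (tt N10296 F68432) (tt N11440 (iv F70369)) (tt N11486 (iv F70545)) (tt N10542 F68433) (tt N11447 (iv F70407)) (tt N10282 (iv D17343)) (tt N11042 (iv F68991)) (tt N11417 (iv F70291)))
theorem Q10887 : ∀ i, i < 10887 → P i := stepQ 10886 Q10886 (allL N10886 (tt N11270 (iv F69696)) (tt N11470 (iv F70495)) (tt N11217 (iv F69542)) (tt N10283 (iv D17344)) (tt N11487 D17945) (tt N11043 (iv F68993)) (tt N11100 (iv F69179)) (tt N10543 F68434) (tt N11099 (iv F69177)))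
theorem Q10888 : ∀ i, i < 10888 → P i := stepQ 10887 Q10887 (allL N10887 (tt N11363 (iv F70060)) (tt N11471 (iv F70500)) (tt N11380 (iv F70131)) (tt N10284 (iv D17345)) (tt N11488 D17946) (tt N11448 (iv F70412)) (tt N10286 F68435) (tt N10290 F68436) (tt N11098 (iv F69174)))
theorem Q10889 : ∀ i, i < 10889 → P i := stepQ 10888 Q10888 (allL N10888 (tt N11364 (iv F70066)) (tt N11472 (iv F70505)) (tt N11489 D17947) (tt N10285 (iv D17346)) (tt N11490 D17948) (tt N10287 F68437) (tt N11098 (iv F69173)) (tt N11420 (iv F70301)) (tt N10286 F68438))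
theorem Q10890 : ∀ i, i < 10890 → P i := stepQ 10889 Q10889 (allL N10889 (tt N11299 (iv F69763)) (tt N11491 D17949) (tt N10286 (iv D17347)) (tt N10309 F68439) (tt N11492 D17950) (tt N10288 F68440) (tt N11380 (iv F70134)) (tt N10291 F68441) (tt N11489 (iv F70552)))
theorem Q10891 : ∀ i, i < 10891 → P i := stepQ 10890 Q10890 (allL N10890 (tt N11365 (iv F70070)) (tt N11474 (iv F70511)) (tt N11492 (iv F70559)) (tt N11487 (iv F70546)) (tt N10286 (iv D17348)) (tt N11493 D17951) (tt N11488 (iv F70548)) (tt N10292 F68442) (tt N11490 (iv F70553)))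
theorem Q10892 : ∀ i, i < 10892 → P i := stepQ 10891 Q10891 (allL N10891 (tt N11366 (iv F70072)) (tt N11494 D17952) (tt N10287 (iv D17349)) (tt N10310 F68443) (tt N11495 D17953) (tt N11489 (iv F70551)) (tt N11313 (iv F69829)) (tt N11423 (iv F70308)) (tt N10288 F68444))
theorem Q10893 : ∀ i, i < 10893 → P i := stepQ 10892 Q10892 (allL N10892 (tt N11367 (iv F70076)) (tt N11476 (iv F70515)) (tt N11495 (iv F70565)) (tt N11046 (iv F69004)) (tt N10287 (iv D17350)) (tt N11496 D17954) (tt N11314 (iv F69833)) (tt N11424 (iv F70310)) (tt N10289 F68445))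
theorem Q10894 : ∀ i, i < 10894 → P i := stepQ 10893 Q10893 (allL N10893 (tt N11497 D17955) (tt N10288 (iv D17351)) (tt N11477 (iv F70517)) (tt N10312 F68446) (tt N11498 D17956) (tt N11491 (iv F70556)) (tt N11451 (iv F70424)) (tt N10293 F68447) (tt N11494 (iv F70564)))
theorem Q10895 : ∀ i, i < 10895 → P i := stepQ 10894 Q10894 (allL N10894 (tt N11369 (iv F70085)) (tt N11498 (iv F70571)) (tt N10289 F68448) (tt N11499 D17957) (tt N10288 (iv D17352)) (tt N11500 D17958) (tt N11452 (iv F70427)) (tt N10294 F68449) (tt N11495 (iv F70566)))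
theorem Q10896 : ∀ i, i < 10896 → P i := stepQ 10895 Q10895 (allL N10895 (tt N11370 (iv F70088)) (tt N11479 (iv F70522)) (tt N11500 (iv F70575)) (tt N11047 (iv F69008)) (tt N11493 (iv F70561)) (tt N10289 (iv D17353)) (tt N11501 D17959) (tt N10295 F68450) (tt N11496 (iv F70567)))
theorem Q10897 : ∀ i, i < 10897 → P i := stepQ 10896 Q10896 (allL N10896 (tt N11371 (iv F70090)) (tt N11481 (iv F70531)) (tt N11360 (iv F70052)) (tt N10553 F68451) (tt N10290 (iv D17354)) (tt N11502 D17960) (tt N10292 F68452) (tt N11488 (iv F70549)) (tt N11428 (iv F70322)))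
theorem Q10898 : ∀ i, i < 10898 → P i := stepQ 10897 Q10897 (allL N10897 (tt N10433 F68453) (tt N10291 (iv D17355)) (tt N11432 (iv F70335)) (tt N10297 F68454) (tt N11503 D17961) (tt N10293 F68455) (tt N10659 F68456) (tt N11491 (iv F70558)) (tt N11429 (iv F70328)))
theorem Q10899 : ∀ i, i < 10899 → P i := stepQ 10898 Q10898 (allL N10898 (tt N11372 (iv F70096)) (tt N11503 (iv F70580)) (tt N10292 F68457) (tt N11347 (iv F69994)) (tt N10291 (iv D17356)) (tt N11504 D17962) (tt N11360 (iv F70054)) (tt N11492 (iv F70560)) (tt N11430 (iv F70330)))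
theorem Q10900 : ∀ i, i < 10900 → P i := stepQ 10899 Q10899 (allL N10899 (tt N11373 (iv F70100)) (tt N11483 (iv F70536)) (tt N11504 (iv F70583)) (tt N10555 F68458) (tt N10295 F68459) (tt N10292 (iv D17357)) (tt N11505 D17963) (tt N11493 (iv F70562)) (tt N11431 (iv F70333)))
theorem Q10901 : ∀ i, i < 10901 → P i := stepQ 10900 Q10900 (allL N10900 (tt N10293 (iv D17358)) (tt N11374 (iv F70103)) (tt N11429 (iv F70324)) (tt N10298 F68460) (tt N11506 D17964) (tt N10433 F68461) (tt N11458 (iv F70455)) (tt N11497 (iv F70570)) (tt N11432 (iv F70339)))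
theorem Q10902 : ∀ i, i < 10902 → P i := stepQ 10901 Q10901 (allL N10901 (tt N11506 (iv F70587)) (tt N10294 F68462) (tt N11484 (iv F70540)) (tt N10700 F68463) (tt N10293 (iv D17359)) (tt N11507 D17965) (tt N11459 (iv F70459)) (tt N11498 (iv F70572)) (tt N11433 (iv F70343)))
theorem Q10903 : ∀ i, i < 10903 → P i := stepQ 10902 Q10902 (allL N10902 (tt N11376 (iv F70113)) (tt N11507 (iv F70589)) (tt N10295 F68464) (tt N10701 F68465) (tt N11504 (iv F70584)) (tt N10294 (iv D17360)) (tt N11508 D17966) (tt N11500 (iv F70576)) (tt N11434 (iv F70346)))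
theorem Q10904 : ∀ i, i < 10904 → P i := stepQ 10903 Q10903 (allL N10903 (tt N11377 (iv F70116)) (tt N11486 (iv F70544)) (tt N11508 (iv F70591)) (tt N10296 F68466) (tt N11505 (iv F70586)) (tt N11461 (iv F70463)) (tt N10295 (iv D17361)) (tt N11501 (iv F70577)) (tt N11435 (iv F70348)))
theorem Q10905 : ∀ i, i < 10905 → P i := stepQ 10904 Q10904 (allL N10904 (tt N10590 F68467) (tt N11509 D17967) (tt N10300 (iv D17362)) (tt N11449 (iv F70416)) (tt N11510 D17968) (tt N10301 F68468) (tt N10712 F68469) (tt N10302 F68470) (tt N11316 (iv F69843)))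
theorem Q10906 : ∀ i, i < 10906 → P i := stepQ 10905 Q10905 (allL N10905 (tt N10594 F68471) (tt N10905 F68472) (tt N11510 (iv F70599)) (tt N11197 (iv F69496)) (tt N10300 (iv D17363)) (tt N10952 (iv F68672)) (tt N10722 F68473) (tt N10303 F68474) (tt N11317 (iv F69850)))
theorem Q10907 : ∀ i, i < 10907 → P i := stepQ 10906 Q10906 (allL N10906 (tt N11511 D17969) (tt N10301 (iv D17364)) (tt N10906 F68475) (tt N11451 (iv F70423)) (tt N10953 (iv F68675)) (tt N11509 (iv F70595)) (tt N10312 F68476) (tt N10304 F68477) (tt N11318 (iv F69855)))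
theorem Q10908 : ∀ i, i < 10908 → P i := stepQ 10907 Q10907 (allL N10907 (tt N10584 F68478) (tt N10302 (iv D17365)) (tt N10907 F68479) (tt N10305 F68480) (tt N11186 (iv F69460)) (tt N10304 F68481) (tt N10654 F68482) (tt N11509 (iv F70597)) (tt N10907 F68483))
theorem Q10909 : ∀ i, i < 10909 → P i := stepQ 10908 Q10908 (allL N10908 (tt N10592 F68484) (tt N11186 (iv F69457)) (tt N10303 F68485) (tt N11178 (iv F69420)) (tt N10302 (iv D17366)) (tt N11177 (iv F69416)) (tt N10715 F68486) (tt N11510 (iv F70601)) (tt N10908 F68487))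
theorem Q10910 : ∀ i, i < 10910 → P i := stepQ 10909 Q10909 (allL N10909 (tt N10304 (iv D17367)) (tt N10583 F68488) (tt N10909 F68489) (tt N10306 F68490) (tt N11178 (iv F69421)) (tt N10584 F68491) (tt N10315 F68492) (tt N11511 (iv F70606)) (tt N10909 F68493))
theorem Q10911 : ∀ i, i < 10911 → P i := stepQ 10910 Q10910 (allL N10910 (tt N11298 (iv F69756)) (tt N11512 D17970) (tt N10308 (iv D17368)) (tt N11489 (iv F70550)) (tt N11232 (iv F69581)) (tt N10310 F68494) (tt N11187 (iv F69462)) (tt N10910 F68495) (tt N10309 F68496))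
theorem Q10912 : ∀ i, i < 10912 → P i := stepQ 10911 Q10911 (allL N10911 (tt N10435 (iv F68501)) (tt N10309 (iv D17369)) (tt N10911 F68497) (tt N11491 (iv F70555)) (tt N11025 (iv F68936)) (tt N10312 F68498) (tt N10660 F68499) (tt N10314 F68500) (tt N11512 (iv F70611)))
theorem Q10913 : ∀ i, i < 10913 → P i := stepQ 10912 Q10912 (allL N10912 (tt N11513 D17971) (tt N10310 (iv D17370)) (tt N10912 F68502) (tt N11494 (iv F70563)) (tt N11514 D17972) (tt N11512 (iv F70608)) (tt N11318 (iv F69853)) (tt N10912 F68503) (tt N10312 F68504))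
theorem Q10914 : ∀ i, i < 10914 → P i := stepQ 10913 Q10913 (allL N10913 (tt N10572 F68505) (tt N11514 (iv F70617)) (tt N10311 F68506) (tt N11515 D17973) (tt N10310 (iv D17371)) (tt N11234 (iv F69590)) (tt N10619 F68507) (tt N10913 F68508) (tt N10313 F68509))
theorem Q10915 : ∀ i, i < 10915 → P i := stepQ 10914 Q10914 (allL N10914 (tt N10312 (iv D17372)) (tt N11378 (iv F70118)) (tt N10914 F68510) (tt N11497 (iv F70568)) (tt N11516 D17974) (tt N10435 F68511) (tt N11511 (iv F70605)) (tt N10315 F68512) (tt N11513 (iv F70616)))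
theorem Q10916 : ∀ i, i < 10916 → P i := stepQ 10915 Q10915 (allL N10915 (tt N11516 (iv F70626)) (tt N10313 F68513) (tt N10915 F68514) (tt N11517 D17975) (tt N10312 (iv D17373)) (tt N11236 (iv F69600)) (tt N10953 (iv F68676)) (tt N10316 F68515) (tt N11514 (iv F70621)))
theorem Q10917 : ∀ i, i < 10917 → P i := stepQ 10916 Q10916 (allL N10916 (tt N11050 (iv F69013)) (tt N11517 (iv F70629)) (tt N10937 (iv F68618)) (tt N10313 (iv D17374)) (tt N11499 (iv F70573)) (tt N11237 (iv F69605)) (tt N10948 (iv F68662)) (tt N10714 F68516) (tt N11515 (iv F70625)))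
theorem Q10918 : ∀ i, i < 10918 → P i := stepQ 10917 Q10917 (allL N10917 (tt N10316 F68517) (tt N11179 (iv F69424)) (tt N10917 F68518) (tt N10715 F68519) (tt N10315 (iv D17375)) (tt N11238 (iv F69612)) (tt N11178 (iv F69422)) (tt N11516 (iv F70628)) (tt N10917 F68520))
theorem Q10919 : ∀ i, i < 10919 → P i := stepQ 10918 Q10918 (allL N10918 (tt N10656 F68521) (tt N10321 (iv D17376)) (tt N10322 F68522) (tt N11444 (iv F70390)) (tt N10427 F68523) (tt N10627 F68524) (tt N10328 F68525) (tt N10918 F68526) (tt N10430 F68527))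
theorem Q10920 : ∀ i, i < 10920 → P i := stepQ 10919 Q10919 (allL N10919 (tt N10567 F68528) (tt N10658 F68529) (tt N10325 (iv D17377)) (tt N11480 (iv F70526)) (tt N10657 F68530) (tt N10566 F68531) (tt N10326 F68532) (tt N10919 F68533) (tt N10569 F68534))
theorem Q10921 : ∀ i, i < 10921 → P i := stepQ 10920 Q10920 (allL N10920 (tt N10627 F68535) (tt N10431 F68536) (tt N10327 F68537) (tt N11518 D17976) (tt N10326 (iv D17378)) (tt N10656 F68538) (tt N10657 F68539) (tt N10920 F68540) (tt N10646 F68541))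
theorem Q10922 : ∀ i, i < 10922 → P i := stepQ 10921 Q10921 (allL N10921 (tt N10331 (iv D17379)) (tt N10921 F68542) (tt N11400 (iv F70211)) (tt N10578 F68543) (tt N10718 F68544) (tt N10580 F68545) (tt N11167 (iv F69371)) (tt N10921 F68546) (tt N10579 F68547))
theorem Q10923 : ∀ i, i < 10923 → P i := stepQ 10922 Q10922 (allL N10922 (tt N10438 F68548) (tt N11437 (iv F70355)) (tt N10358 F68549) (tt N10855 F68550) (tt N10332 (iv D17380)) (tt N11519 D17977) (tt N10454 F68551) (tt N10333 F68552) (tt N10729 F68553))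
theorem Q10924 : ∀ i, i < 10924 → P i := stepQ 10923 Q10923 (allL N10923 (tt N10441 F68554) (tt N11439 (iv F70364)) (tt N10376 F68555) (tt N10442 F68556) (tt N10626 F68557) (tt N10333 (iv D17381)) (tt N11520 D17978) (tt N11519 (iv F70641)) (tt N10341 F68558))
theorem Q10925 : ∀ i, i < 10925 → P i := stepQ 10924 Q10924 (allL N10924 (tt N10703 F68559) (tt N10383 F68560) (tt N10334 (iv D17382)) (tt N10342 F68561) (tt N11521 D17979) (tt N11296 (iv F69747)) (tt N10337 F68562) (tt N10757 F68563) (tt N10447 F68564))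
theorem Q10926 : ∀ i, i < 10926 → P i := stepQ 10925 Q10925 (allL N10925 (tt N11342 (iv F69966)) (tt N10335 F68565) (tt N11521 (iv F70651)) (tt N10440 F68566) (tt N10334 (iv D17383)) (tt N11522 D17980) (tt N10338 F68567) (tt N10758 F68568) (tt N10448 F68569))
theorem Q10927 : ∀ i, i < 10927 → P i := stepQ 10926 Q10926 (allL N10926 (tt N10442 F68570) (tt N11522 (iv F70656)) (tt N10390 F68571) (tt N10441 F68572) (tt N11441 (iv F70375)) (tt N10335 (iv D17384)) (tt N11523 D17981) (tt N10761 F68573) (tt N10456 F68574))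
theorem Q10928 : ∀ i, i < 10928 → P i := stepQ 10927 Q10927 (allL N10927 (tt N10337 F68575) (tt N11296 (iv F69744)) (tt N10336 (iv D17385)) (tt N10343 F68576) (tt N11524 D17982) (tt N10383 F68577) (tt N10703 F68578) (tt N10764 F68579) (tt N11343 (iv F69977)))
theorem Q10929 : ∀ i, i < 10929 → P i := stepQ 10928 Q10928 (allL N10928 (tt N10338 F68580) (tt N10379 F68581) (tt N11524 (iv F70667)) (tt N11319 (iv F69859)) (tt N10336 (iv D17386)) (tt N11525 D17983) (tt N11342 (iv F69970)) (tt N10765 F68582) (tt N11344 (iv F69982)))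
theorem Q10930 : ∀ i, i < 10930 → P i := stepQ 10929 Q10929 (allL N10929 (tt N11524 (iv F70666)) (tt N10404 F68583) (tt N10338 F68584) (tt N11415 (iv F70282)) (tt N10337 (iv D17387)) (tt N11526 D17984) (tt N11521 (iv F70653)) (tt N10770 F68585) (tt N11438 (iv F70363)))
theorem Q10931 : ∀ i, i < 10931 → P i := stepQ 10930 Q10930 (allL N10930 (tt N11525 (iv F70671)) (tt N10341 F68586) (tt N11526 (iv F70676)) (tt N11401 (iv F70218)) (tt N10633 F68587) (tt N10338 (iv D17388)) (tt N11527 D17985) (tt N10771 F68588) (tt N11439 (iv F70367)))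
theorem Q10932 : ∀ i, i < 10932 → P i := stepQ 10931 Q10931 (allL N10931 (tt N10454 F68589) (tt N11381 (iv F70135)) (tt N10461 F68590) (tt N10777 F68591) (tt N10339 (iv D17389)) (tt N11528 D17986) (tt N10438 F68592) (tt N10340 F68593) (tt N10796 F68594))
theorem Q10933 : ∀ i, i < 10933 → P i := stepQ 10932 Q10932 (allL N10932 (tt N10456 F68595) (tt N11401 (iv F70216)) (tt N10486 F68596) (tt N10341 F68597) (tt N11402 (iv F70225)) (tt N10340 (iv D17390)) (tt N11529 D17987) (tt N11528 (iv F70685)) (tt N10442 F68598))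
theorem Q10934 : ∀ i, i < 10934 → P i := stepQ 10933 Q10933 (allL N10933 (tt N10457 F68599) (tt N11527 (iv F70679)) (tt N10418 F68600) (tt N11529 (iv F70689)) (tt N10645 F68601) (tt N11523 (iv F70663)) (tt N10341 (iv D17391)) (tt N10784 F68602) (tt N11520 (iv F70648)))
theorem Q10935 : ∀ i, i < 10935 → P i := stepQ 10934 Q10934 (allL N10934 (tt N10705 F68603) (tt N10435 F68604) (tt N10647 F68605) (tt N11412 (iv F70266)) (tt N10793 F68606) (tt N11378 (iv F70120)) (tt N10649 F68607) (tt N10344 (iv D17392)) (tt N11530 D17988))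
theorem Q10936 : ∀ i, i < 10936 → P i := stepQ 10935 Q10935 (allL N10935 (tt N10436 F68608) (tt N11258 (iv F69669)) (tt N10452 F68609) (tt N10345 (iv D17393)) (tt N11531 D17989) (tt N10348 F68610) (tt N11044 (iv F68999)) (tt N10361 F68611) (tt N10798 F68612))
theorem Q10937 : ∀ i, i < 10937 → P i := stepQ 10936 Q10936 (allL N10936 (tt N10613 F68613) (tt N10348 F68614) (tt N11532 D17990) (tt N10346 (iv D17394)) (tt N11533 D17991) (tt N11258 (iv F69670)) (tt N10353 F68615) (tt N10362 F68616) (tt N10940 (iv F68636)))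
theorem Q10938 : ∀ i, i < 10938 → P i := stepQ 10937 Q10937 (allL N10937 (tt N10460 F68617) (tt N11243 (iv F69623)) (tt N10916 F68618) (tt N10347 (iv D17395)) (tt N11534 D17992) (tt N11022 (iv F68925)) (tt N10357 F68619) (tt N10565 F68620) (tt N11055 (iv F69033)))
theorem Q10939 : ∀ i, i < 10939 → P i := stepQ 10938 Q10938 (allL N10938 (tt N10461 F68621) (tt N11533 (iv F70708)) (tt N10454 F68622) (tt N11534 (iv F70713)) (tt N10348 (iv D17396)) (tt N11535 D17993) (tt N10358 F68623) (tt N10363 F68624) (tt N11056 (iv F69038)))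
theorem Q10940 : ∀ i, i < 10940 → P i := stepQ 10939 Q10939 (allL N10939 (tt N10352 F68625) (tt N10464 F68626) (tt N10939 F68627) (tt N11536 D17994) (tt N10350 F68628) (tt N10662 F68629) (tt N10612 F68630) (tt N10349 (iv D17397)) (tt N10661 F68631))
theorem Q10941 : ∀ i, i < 10941 → P i := stepQ 10940 Q10940 (allL N10940 (tt N10353 F68632) (tt N10465 F68633) (tt N11537 D17995) (tt N10350 (iv D17398)) (tt N11538 D17996) (tt N11307 (iv F69800)) (tt N10613 F68634) (tt N10364 F68635) (tt N10936 F68636))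
theorem Q10942 : ∀ i, i < 10942 → P i := stepQ 10941 Q10941 (allL N10941 (tt N10662 F68637) (tt N10356 F68638) (tt N10941 F68639) (tt N11539 D17997) (tt N10622 F68640) (tt N10352 F68641) (tt N11057 (iv F69042)) (tt N10351 (iv D17399)) (tt N10614 F68642))
theorem Q10943 : ∀ i, i < 10943 → P i := stepQ 10942 Q10942 (allL N10942 (tt N11536 (iv F70719)) (tt N10357 F68643) (tt N11540 D17998) (tt N10352 (iv D17400)) (tt N11541 D17999) (tt N11539 (iv F70736)) (tt N11243 (iv F69625)) (tt N11247 (iv F69635)) (tt N11188 (iv F69466)))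
theorem Q10944 : ∀ i, i < 10944 → P i := stepQ 10943 Q10943 (allL N10943 (tt N11537 (iv F70724)) (tt N11436 (iv F70349)) (tt N10353 (iv D17401)) (tt N10943 F68644) (tt N11542 D18000) (tt N11309 (iv F69812)) (tt N11532 (iv F70705)) (tt N10367 F68645) (tt N11189 (iv F69469)))
theorem Q10945 : ∀ i, i < 10945 → P i := stepQ 10944 Q10944 (allL N10944 (tt N11538 (iv F70729)) (tt N10358 F68646) (tt N11542 (iv F70741)) (tt N11541 (iv F70740)) (tt N10353 (iv D17402)) (tt N11543 D18001) (tt N11533 (iv F70709)) (tt N10368 F68647) (tt N11190 (iv F69472)))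
theorem Q10946 : ∀ i, i < 10946 → P i := stepQ 10945 Q10945 (allL N10945 (tt N10475 F68648) (tt N10477 F68649) (tt N10563 F68650) (tt N11544 D18002) (tt N10372 F68651) (tt N10664 F68652) (tt N10469 F68653) (tt N10354 (iv D17403)) (tt N10355 F68654))
theorem Q10947 : ∀ i, i < 10947 → P i := stepQ 10946 Q10946 (allL N10946 (tt N10476 F68655) (tt N11247 (iv F69633)) (tt N11175 (iv F69407)) (tt N10355 (iv D17404)) (tt N11545 D18003) (tt N11070 (iv F69089)) (tt N10565 F68656) (tt N10357 F68657) (tt N11544 (iv F70750)))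
theorem Q10948 : ∀ i, i < 10948 → P i := stepQ 10947 Q10947 (allL N10947 (tt N10478 F68658) (tt N11539 (iv F70735)) (tt N11546 D18004) (tt N10356 (iv D17405)) (tt N11547 D18005) (tt N10357 F68659) (tt N11066 (iv F69081)) (tt N11070 (iv F69091)) (tt N11192 (iv F69480)))
theorem Q10949 : ∀ i, i < 10949 → P i := stepQ 10948 Q10948 (allL N10948 (tt N10479 F68660) (tt N11548 D18006) (tt N10357 (iv D17406)) (tt N10360 F68661) (tt N11549 D18007) (tt N11546 (iv F70757)) (tt N10916 F68662) (tt N11175 (iv F69409)) (tt N11193 (iv F69483)))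
theorem Q10950 : ∀ i, i < 10950 → P i := stepQ 10949 Q10949 (allL N10949 (tt N10480 F68663) (tt N11541 (iv F70739)) (tt N11549 (iv F70762)) (tt N10358 F68664) (tt N10357 (iv D17407)) (tt N11550 D18008) (tt N11534 (iv F70714)) (tt N11545 (iv F70754)) (tt N11194 (iv F69486)))
theorem Q10951 : ∀ i, i < 10951 → P i := stepQ 10950 Q10950 (allL N10950 (tt N10481 F68665) (tt N11543 (iv F70743)) (tt N11519 (iv F70638)) (tt N11550 (iv F70766)) (tt N11315 (iv F69837)) (tt N10358 (iv D17408)) (tt N11551 D18009) (tt N10376 F68666) (tt N11195 (iv F69489)))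
theorem Q10952 : ∀ i, i < 10952 → P i := stepQ 10951 Q10951 (allL N10951 (tt N10483 F68667) (tt N11552 D18010) (tt N10359 (iv D17409)) (tt N11546 (iv F70756)) (tt N11553 D18011) (tt N10360 F68668) (tt N11181 (iv F69438)) (tt N10595 F68669) (tt N11196 (iv F69493)))
theorem Q10953 : ∀ i, i < 10953 → P i := stepQ 10952 Q10952 (allL N10952 (tt N10484 F68670) (tt N10952 F68671) (tt N11553 (iv F70773)) (tt N11317 (iv F69846)) (tt N10359 (iv D17410)) (tt N10905 F68672) (tt N11166 (iv F69365)) (tt N10596 F68673) (tt N11197 (iv F69498)))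
theorem Q10954 : ∀ i, i < 10954 → P i := stepQ 10953 Q10953 (allL N10953 (tt N11554 D18012) (tt N10360 (iv D17411)) (tt N10953 F68674) (tt N11548 (iv F70759)) (tt N10906 F68675) (tt N11552 (iv F70770)) (tt N10915 F68676) (tt N10597 F68677) (tt N11198 (iv F69501)))
theorem Q10955 : ∀ i, i < 10955 → P i := stepQ 10954 Q10954 (allL N10954 (tt N10440 F68678) (tt N11344 (iv F69979)) (tt N10455 F68679) (tt N11342 (iv F69969)) (tt N10361 (iv D17412)) (tt N11555 D18013) (tt N11319 (iv F69860)) (tt N11531 (iv F70700)) (tt N10379 F68680))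
theorem Q10956 : ∀ i, i < 10956 → P i := stepQ 10955 Q10955 (allL N10955 (tt N10620 F68681) (tt N10447 F68682) (tt N10362 (iv D17413)) (tt N10427 F68683) (tt N11556 D18014) (tt N11343 (iv F69975)) (tt N10367 F68684) (tt N11532 (iv F70706)) (tt N10383 F68685))
theorem Q10957 : ∀ i, i < 10957 → P i := stepQ 10956 Q10956 (allL N10956 (tt N10621 F68686) (tt N10363 F68687) (tt N11556 (iv F70787)) (tt N10556 F68688) (tt N10362 (iv D17414)) (tt N11557 D18015) (tt N10368 F68689) (tt N11533 (iv F70710)) (tt N10384 F68690))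
theorem Q10958 : ∀ i, i < 10958 → P i := stepQ 10957 Q10957 (allL N10957 (tt N10486 F68691) (tt N11557 (iv F70791)) (tt N10456 F68692) (tt N10557 F68693) (tt N11555 (iv F70783)) (tt N10363 (iv D17415)) (tt N11558 D18016) (tt N11535 (iv F70718)) (tt N10390 F68694))
theorem Q10959 : ∀ i, i < 10959 → P i := stepQ 10958 Q10958 (allL N10958 (tt N10367 F68695) (tt N11320 (iv F69863)) (tt N10364 (iv D17416)) (tt N10428 F68696) (tt N11559 D18017) (tt N11326 (iv F69896)) (tt N10620 F68697) (tt N11537 (iv F70727)) (tt N10394 F68698))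
theorem Q10960 : ∀ i, i < 10960 → P i := stepQ 10959 Q10959 (allL N10959 (tt N10368 F68699) (tt N10490 F68700) (tt N11559 (iv F70800)) (tt N11454 (iv F70433)) (tt N10364 (iv D17417)) (tt N11560 D18018) (tt N10621 F68701) (tt N11538 (iv F70732)) (tt N10395 F68702))
theorem Q10961 : ∀ i, i < 10961 → P i := stepQ 10960 Q10960 (allL N10960 (tt N11448 (iv F70409)) (tt N10373 F68703) (tt N10691 F68704) (tt N10365 (iv D17418)) (tt N11561 D18019) (tt N11363 (iv F70063)) (tt N10550 F68705) (tt N10366 F68706) (tt N11392 (iv F70186)))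
theorem Q10962 : ∀ i, i < 10962 → P i := stepQ 10961 Q10961 (allL N10961 (tt N11454 (iv F70430)) (tt N10375 F68707) (tt N10700 F68708) (tt N10368 F68709) (tt N10366 (iv D17419)) (tt N11562 D18020) (tt N10556 F68710) (tt N11561 (iv F70809)) (tt N10403 F68711))
theorem Q10963 : ∀ i, i < 10963 → P i := stepQ 10962 Q10962 (allL N10962 (tt N11559 (iv F70799)) (tt N11438 (iv F70359)) (tt N10368 F68712) (tt N11484 (iv F70541)) (tt N10367 (iv D17420)) (tt N11563 D18021) (tt N11556 (iv F70788)) (tt N11542 (iv F70742)) (tt N10404 F68713))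
theorem Q10964 : ∀ i, i < 10964 → P i := stepQ 10963 Q10963 (allL N10963 (tt N11560 (iv F70803)) (tt N10376 F68714) (tt N11563 (iv F70814)) (tt N11562 (iv F70812)) (tt N11331 (iv F69921)) (tt N10368 (iv D17421)) (tt N11564 D18022) (tt N11543 (iv F70744)) (tt N10405 F68715))
theorem Q10965 : ∀ i, i < 10965 → P i := stepQ 10964 Q10964 (allL N10964 (tt N10500 F68716) (tt N10965 (iv F68723)) (tt N10562 F68717) (tt N11565 D18023) (tt N10371 F68718) (tt N10804 F68719) (tt N10773 F68720) (tt N10369 (iv D17422)) (tt N10772 F68721))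
theorem Q10966 : ∀ i, i < 10966 → P i := stepQ 10965 Q10965 (allL N10965 (tt N10502 F68722) (tt N10964 F68723) (tt N10561 F68724) (tt N11566 D18024) (tt N10772 F68725) (tt N10372 F68726) (tt N10704 F68727) (tt N10370 (iv D17423)) (tt N10371 F68728))
theorem Q10967 : ∀ i, i < 10967 → P i := stepQ 10966 Q10966 (allL N10966 (tt N10503 F68729) (tt N11363 (iv F70061)) (tt N10513 F68730) (tt N10371 (iv D17424)) (tt N11567 D18025) (tt N10373 F68731) (tt N11356 (iv F70034)) (tt N10374 F68732) (tt N11566 (iv F70828)))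
theorem Q10968 : ∀ i, i < 10968 → P i := stepQ 10967 Q10967 (allL N10967 (tt N10504 F68733) (tt N11392 (iv F70182)) (tt N10514 F68734) (tt N10372 (iv D17425)) (tt N11568 D18026) (tt N11566 (iv F70825)) (tt N10548 F68735) (tt N10410 F68736) (tt N10373 F68737))
theorem Q10969 : ∀ i, i < 10969 → P i := stepQ 10968 Q10968 (allL N10968 (tt N10505 F68738) (tt N11561 (iv F70806)) (tt N10515 F68739) (tt N11545 (iv F70752)) (tt N10373 (iv D17426)) (tt N11569 D18027) (tt N10551 F68740) (tt N10375 F68741) (tt N11568 (iv F70836)))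
theorem Q10970 : ∀ i, i < 10970 → P i := stepQ 10969 Q10969 (allL N10969 (tt N10507 F68742) (tt N11371 (iv F70091)) (tt N10517 F68743) (tt N11337 (iv F69946)) (tt N10374 (iv D17427)) (tt N11570 D18028) (tt N11358 (iv F70045)) (tt N11567 (iv F70831)) (tt N10415 F68744))
theorem Q10971 : ∀ i, i < 10971 → P i := stepQ 10970 Q10970 (allL N10970 (tt N10508 F68745) (tt N11562 (iv F70810)) (tt N10518 F68746) (tt N10376 F68747) (tt N11570 (iv F70842)) (tt N10375 (iv D17428)) (tt N11571 D18029) (tt N11569 (iv F70839)) (tt N10417 F68748))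
theorem Q10972 : ∀ i, i < 10972 → P i := stepQ 10971 Q10971 (allL N10971 (tt N10509 F68749) (tt N11564 (iv F70816)) (tt N11520 (iv F70644)) (tt N11571 (iv F70846)) (tt N11341 (iv F69964)) (tt N11558 (iv F70797)) (tt N10376 (iv D17429)) (tt N11551 (iv F70768)) (tt N10418 F68750))
theorem Q10973 : ∀ i, i < 10973 → P i := stepQ 10972 Q10972 (allL N10972 (tt N10445 F68751) (tt N11044 (iv F68996)) (tt N11572 D18030) (tt N10377 (iv D17430)) (tt N11573 D18031) (tt N11035 (iv F68973)) (tt N11258 (iv F69671)) (tt N10378 F68752) (tt N11034 (iv F68970)))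
theorem Q10974 : ∀ i, i < 10974 → P i := stepQ 10973 Q10973 (allL N10973 (tt N10447 F68753) (tt N11326 (iv F69894)) (tt N10378 (iv D17431)) (tt N10380 F68754) (tt N11574 D18032) (tt N11320 (iv F69865)) (tt N11343 (iv F69976)) (tt N11572 (iv F70851)) (tt N10703 F68755))
theorem Q10975 : ∀ i, i < 10975 → P i := stepQ 10974 Q10974 (allL N10974 (tt N10448 F68756) (tt N11319 (iv F69857)) (tt N11574 (iv F70856)) (tt N10379 F68757) (tt N10378 (iv D17432)) (tt N11575 D18033) (tt N11344 (iv F69981)) (tt N11573 (iv F70854)) (tt N11342 (iv F69971)))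
theorem Q10976 : ∀ i, i < 10976 → P i := stepQ 10975 Q10975 (allL N10975 (tt N10449 F68758) (tt N11525 (iv F70672)) (tt N11441 (iv F70373)) (tt N11575 (iv F70860)) (tt N10390 F68759) (tt N10379 (iv D17433)) (tt N11576 D18034) (tt N10871 F68760) (tt N11555 (iv F70784)))
theorem Q10977 : ∀ i, i < 10977 → P i := stepQ 10976 Q10976 (allL N10976 (tt N10629 F68761) (tt N10387 F68762) (tt N11577 D18035) (tt N10381 (iv D17434)) (tt N11578 D18036) (tt N11322 (iv F69875)) (tt N10400 F68763) (tt N10382 F68764) (tt N11389 (iv F70177)))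
theorem Q10978 : ∀ i, i < 10978 → P i := stepQ 10977 Q10977 (allL N10977 (tt N10630 F68765) (tt N10497 F68766) (tt N10382 (iv D17435)) (tt N10429 F68767) (tt N11579 D18037) (tt N11323 (iv F69882)) (tt N10402 F68768) (tt N11577 (iv F70868)) (tt N10539 F68769))
theorem Q10979 : ∀ i, i < 10979 → P i := stepQ 10978 Q10978 (allL N10978 (tt N10631 F68770) (tt N10389 F68771) (tt N11579 (iv F70875)) (tt N10384 F68772) (tt N10382 (iv D17436)) (tt N11580 D18038) (tt N10403 F68773) (tt N11578 (iv F70872)) (tt N10556 F68774))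
theorem Q10980 : ∀ i, i < 10980 → P i := stepQ 10979 Q10979 (allL N10979 (tt N10632 F68775) (tt N11521 (iv F70650)) (tt N10384 F68776) (tt N11581 D18039) (tt N10383 (iv D17437)) (tt N11582 D18040) (tt N10404 F68777) (tt N10991 (iv F68824)) (tt N11556 (iv F70789)))
theorem Q10981 : ∀ i, i < 10981 → P i := stepQ 10980 Q10980 (allL N10980 (tt N10633 F68778) (tt N10390 F68779) (tt N11582 (iv F70887)) (tt N11580 (iv F70880)) (tt N11525 (iv F70673)) (tt N10384 (iv D17438)) (tt N11583 D18041) (tt N10992 (iv F68827)) (tt N11557 (iv F70793)))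
theorem Q10982 : ∀ i, i < 10982 → P i := stepQ 10981 Q10981 (allL N10981 (tt N10513 F68780) (tt N11322 (iv F69874)) (tt N10503 F68781) (tt N10385 (iv D17439)) (tt N11584 D18042) (tt N10387 F68782) (tt N11328 (iv F69908)) (tt N10388 F68783) (tt N11386 (iv F70164)))
theorem Q10983 : ∀ i, i < 10983 → P i := stepQ 10982 Q10982 (allL N10982 (tt N10514 F68784) (tt N11389 (iv F70173)) (tt N10504 F68785) (tt N10386 (iv D17440)) (tt N11585 D18043) (tt N11386 (iv F70161)) (tt N10410 F68786) (tt N10548 F68787) (tt N10387 F68788))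
theorem Q10984 : ∀ i, i < 10984 → P i := stepQ 10983 Q10983 (allL N10983 (tt N10515 F68789) (tt N11578 (iv F70870)) (tt N10505 F68790) (tt N11121 (iv F69242)) (tt N10387 (iv D17441)) (tt N11586 D18044) (tt N10412 F68791) (tt N10389 F68792) (tt N11585 (iv F70898)))
theorem Q10985 : ∀ i, i < 10985 → P i := stepQ 10984 Q10984 (allL N10984 (tt N10517 F68793) (tt N11324 (iv F69886)) (tt N10507 F68794) (tt N11321 (iv F69870)) (tt N10388 (iv D17442)) (tt N11587 D18045) (tt N11329 (iv F69915)) (tt N11584 (iv F70893)) (tt N10554 F68795))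
theorem Q10986 : ∀ i, i < 10986 → P i := stepQ 10985 Q10985 (allL N10985 (tt N10518 F68796) (tt N11580 (iv F70879)) (tt N10508 F68797) (tt N10390 F68798) (tt N11587 (iv F70904)) (tt N10389 (iv D17443)) (tt N11588 D18046) (tt N11586 (iv F70901)) (tt N10557 F68799))
theorem Q10987 : ∀ i, i < 10987 → P i := stepQ 10986 Q10986 (allL N10986 (tt N10519 F68800) (tt N11583 (iv F70889)) (tt N11523 (iv F70661)) (tt N11588 (iv F70908)) (tt N11576 (iv F70862)) (tt N10418 F68801) (tt N10390 (iv D17444)) (tt N11127 (iv F69258)) (tt N11558 (iv F70798)))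
theorem Q10988 : ∀ i, i < 10988 → P i := stepQ 10987 Q10987 (allL N10987 (tt N10399 F68802) (tt N10523 F68803) (tt N10987 F68804) (tt N11589 D18047) (tt N10802 F68805) (tt N10827 F68806) (tt N10628 F68807) (tt N10391 (iv D17445)) (tt N10392 F68808))
theorem Q10989 : ∀ i, i < 10989 → P i := stepQ 10988 Q10988 (allL N10988 (tt N10400 F68809) (tt N10524 F68810) (tt N11590 D18048) (tt N10392 (iv D17446)) (tt N11591 D18049) (tt N11419 (iv F70295)) (tt N10629 F68811) (tt N10393 F68812) (tt N11589 (iv F70915)))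
theorem Q10990 : ∀ i, i < 10990 → P i := stepQ 10989 Q10989 (allL N10989 (tt N10402 F68813) (tt N11518 (iv F70632)) (tt N10393 (iv D17447)) (tt N10431 F68814) (tt N11592 D18050) (tt N11379 (iv F70126)) (tt N10630 F68815) (tt N11590 (iv F70919)) (tt N10699 F68816))
theorem Q10991 : ∀ i, i < 10991 → P i := stepQ 10990 Q10990 (allL N10990 (tt N10403 F68817) (tt N10527 F68818) (tt N11592 (iv F70926)) (tt N10395 F68819) (tt N10393 (iv D17448)) (tt N11593 D18051) (tt N10631 F68820) (tt N11591 (iv F70924)) (tt N11454 (iv F70435)))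
theorem Q10992 : ∀ i, i < 10992 → P i := stepQ 10991 Q10991 (allL N10991 (tt N10404 F68821) (tt N11347 (iv F69992)) (tt N10395 F68822) (tt N11503 (iv F70581)) (tt N10394 (iv D17449)) (tt N11594 D18052) (tt N10632 F68823) (tt N10979 F68824) (tt N11559 (iv F70802)))
theorem Q10993 : ∀ i, i < 10993 → P i := stepQ 10992 Q10992 (allL N10992 (tt N10405 F68825) (tt N10528 F68826) (tt N11594 (iv F70933)) (tt N11593 (iv F70931)) (tt N11355 (iv F70029)) (tt N10395 (iv D17450)) (tt N11595 D18053) (tt N10980 F68827) (tt N11560 (iv F70805)))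
theorem Q10994 : ∀ i, i < 10994 → P i := stepQ 10993 Q10993 (allL N10993 (tt N10829 F68828) (tt N10406 F68829) (tt N10993 F68830) (tt N11596 D18054) (tt N10398 F68831) (tt N10744 F68832) (tt N10994 (iv F68839)) (tt N10396 (iv D17451)) (tt N10743 F68833))
theorem Q10995 : ∀ i, i < 10995 → P i := stepQ 10994 Q10994 (allL N10994 (tt N10827 F68834) (tt N10408 F68835) (tt N10994 F68836) (tt N11597 D18055) (tt N10743 F68837) (tt N10399 F68838) (tt N10993 F68839) (tt N10397 (iv D17452)) (tt N10398 F68840))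
theorem Q10996 : ∀ i, i < 10996 → P i := stepQ 10995 Q10995 (allL N10995 (tt N11419 (iv F70293)) (tt N10409 F68841) (tt N11598 D18056) (tt N10398 (iv D17453)) (tt N11599 D18057) (tt N10400 F68842) (tt N11332 (iv F69926)) (tt N10401 F68843) (tt N11597 (iv F70949)))
theorem Q10997 : ∀ i, i < 10997 → P i := stepQ 10996 Q10996 (allL N10996 (tt N11589 (iv F70911)) (tt N10410 F68844) (tt N11600 D18058) (tt N10399 (iv D17454)) (tt N11601 D18059) (tt N11597 (iv F70946)) (tt N11389 (iv F70175)) (tt N11392 (iv F70185)) (tt N10400 F68845))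
theorem Q10998 : ∀ i, i < 10998 → P i := stepQ 10997 Q10997 (allL N10997 (tt N11590 (iv F70916)) (tt N10677 F68846) (tt N10400 (iv D17455)) (tt N10997 F68847) (tt N11602 D18060) (tt N11598 (iv F70952)) (tt N11577 (iv F70867)) (tt N10402 F68848) (tt N11600 (iv F70959)))
theorem Q10999 : ∀ i, i < 10999 → P i := stepQ 10998 Q10998 (allL N10998 (tt N11591 (iv F70920)) (tt N10412 F68849) (tt N11602 (iv F70963)) (tt N11210 (iv F69529)) (tt N10400 (iv D17456)) (tt N11603 D18061) (tt N11578 (iv F70871)) (tt N10403 F68850) (tt N11601 (iv F70961)))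
theorem Q11000 : ∀ i, i < 11000 → P i := stepQ 10999 Q10999 (allL N10999 (tt N11379 (iv F70123)) (tt N10679 F68851) (tt N10401 (iv D17457)) (tt N10432 F68852) (tt N11604 D18062) (tt N10402 F68853) (tt N11336 (iv F69942)) (tt N11598 (iv F70953)) (tt N10696 F68854))
theorem Q11001 : ∀ i, i < 11001 → P i := stepQ 11000 Q11000 (allL N11000 (tt N11428 (iv F70318)) (tt N10415 F68855) (tt N11604 (iv F70968)) (tt N11358 (iv F70044)) (tt N10401 (iv D17458)) (tt N11605 D18063) (tt N11337 (iv F69947)) (tt N11599 (iv F70955)) (tt N11371 (iv F70095)))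
theorem Q11002 : ∀ i, i < 11002 → P i := stepQ 11001 Q11001 (allL N11001 (tt N11592 (iv F70925)) (tt N10681 F68856) (tt N10403 F68857) (tt N11433 (iv F70342)) (tt N10402 (iv D17459)) (tt N11606 D18064) (tt N11579 (iv F70876)) (tt N11602 (iv F70964)) (tt N10700 F68858))
theorem Q11003 : ∀ i, i < 11003 → P i := stepQ 11002 Q11002 (allL N11002 (tt N11593 (iv F70929)) (tt N10417 F68859) (tt N11606 (iv F70973)) (tt N10405 F68860) (tt N11605 (iv F70971)) (tt N10403 (iv D17460)) (tt N11607 D18065) (tt N11603 (iv F70966)) (tt N11562 (iv F70813)))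
theorem Q11004 : ∀ i, i < 11004 → P i := stepQ 11003 Q11003 (allL N11003 (tt N11503 (iv F70579)) (tt N11415 (iv F70280)) (tt N11433 (iv F70341)) (tt N10404 (iv D17461)) (tt N10433 F68861) (tt N11608 D18066) (tt N11581 (iv F70885)) (tt N11609 D18067) (tt N11484 (iv F70542)))
theorem Q11005 : ∀ i, i < 11005 → P i := stepQ 11004 Q11004 (allL N11004 (tt N11594 (iv F70932)) (tt N11526 (iv F70675)) (tt N10405 F68862) (tt N11608 (iv F70977)) (tt N11361 (iv F70057)) (tt N10404 (iv D17462)) (tt N11610 D18068) (tt N11215 (iv F69538)) (tt N11563 (iv F70815)))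
theorem Q11006 : ∀ i, i < 11006 → P i := stepQ 11005 Q11005 (allL N11005 (tt N11595 (iv F70935)) (tt N10418 F68863) (tt N11610 (iv F70979)) (tt N11607 (iv F70976)) (tt N11362 (iv F70059)) (tt N11583 (iv F70890)) (tt N10405 (iv D17463)) (tt N11216 (iv F69540)) (tt N11564 (iv F70817)))
theorem Q11007 : ∀ i, i < 11007 → P i := stepQ 11006 Q11006 (allL N11006 (tt N10543 F68864) (tt N11596 (iv F70940)) (tt N11043 (iv F68992)) (tt N10406 (iv D17464)) (tt N11611 D18069) (tt N11217 (iv F69543)) (tt N11008 (iv F68871)) (tt N11270 (iv F69699)) (tt N11007 (iv F68868)))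
theorem Q11008 : ∀ i, i < 11008 → P i := stepQ 11007 Q11007 (allL N11007 (tt N10544 F68865) (tt N11332 (iv F69924)) (tt N11352 (iv F70012)) (tt N10407 (iv D17465)) (tt N11612 D18070) (tt N11328 (iv F69907)) (tt N10409 F68866) (tt N10413 F68867) (tt N11006 F68868))
theorem Q11009 : ∀ i, i < 11009 → P i := stepQ 11008 Q11008 (allL N11008 (tt N10545 F68869) (tt N11597 (iv F70945)) (tt N11384 (iv F70150)) (tt N10408 (iv D17466)) (tt N11613 D18071) (tt N10410 F68870) (tt N11006 F68871) (tt N11566 (iv F70827)) (tt N10409 F68872))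
theorem Q11010 : ∀ i, i < 11010 → P i := stepQ 11009 Q11009 (allL N11009 (tt N10546 F68873) (tt N10675 (iv F68877)) (tt N10409 (iv D17467)) (tt N10423 F68874) (tt N11614 D18072) (tt N10411 F68875) (tt N11352 (iv F70014)) (tt N10414 F68876) (tt N11384 (iv F70154)))
theorem Q11011 : ∀ i, i < 11011 → P i := stepQ 11010 Q11010 (allL N11010 (tt N10547 F68878) (tt N11599 (iv F70954)) (tt N11614 (iv F70992)) (tt N11611 (iv F70981)) (tt N10409 (iv D17468)) (tt N11615 D18073) (tt N11612 (iv F70983)) (tt N10415 F68879) (tt N11613 (iv F70989)))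
theorem Q11012 : ∀ i, i < 11012 → P i := stepQ 11011 Q11011 (allL N11011 (tt N10548 F68880) (tt N10676 (iv F68885)) (tt N10410 (iv D17469)) (tt N10424 F68881) (tt N11616 D18074) (tt N11384 (iv F70151)) (tt N10504 F68882) (tt N10514 F68883) (tt N10411 F68884))
theorem Q11013 : ∀ i, i < 11013 → P i := stepQ 11012 Q11012 (allL N11012 (tt N10549 F68886) (tt N11601 (iv F70960)) (tt N11616 (iv F71000)) (tt N11222 (iv F69558)) (tt N10410 (iv D17470)) (tt N11617 D18075) (tt N11585 (iv F70896)) (tt N11568 (iv F70835)) (tt N10412 F68887))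
theorem Q11014 : ∀ i, i < 11014 → P i := stepQ 11013 Q11013 (allL N11013 (tt N10551 F68888) (tt N10678 F68889) (tt N10412 F68890) (tt N11618 D18076) (tt N10411 (iv D17471)) (tt N11619 D18077) (tt N10505 F68891) (tt N10416 F68892) (tt N11616 (iv F71003)))
theorem Q11015 : ∀ i, i < 11015 → P i := stepQ 11014 Q11014 (allL N11014 (tt N10552 F68893) (tt N11603 (iv F70965)) (tt N11619 (iv F71013)) (tt N11225 (iv F69566)) (tt N11615 (iv F70996)) (tt N10412 (iv D17472)) (tt N11620 D18078) (tt N10417 F68894) (tt N11617 (iv F71005)))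
theorem Q11016 : ∀ i, i < 11016 → P i := stepQ 11015 Q11015 (allL N11015 (tt N10553 F68895) (tt N11337 (iv F69945)) (tt N11353 (iv F70019)) (tt N11371 (iv F70093)) (tt N10413 (iv D17473)) (tt N11621 D18079) (tt N10415 F68896) (tt N11612 (iv F70984)) (tt N11358 (iv F70046)))
theorem Q11017 : ∀ i, i < 11017 → P i := stepQ 11016 Q11016 (allL N11016 (tt N10554 F68897) (tt N10680 F68898) (tt N10415 F68899) (tt N11346 (iv F69988)) (tt N10414 (iv D17474)) (tt N11622 D18080) (tt N11353 (iv F70021)) (tt N11614 (iv F70994)) (tt N10517 F68900))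
theorem Q11018 : ∀ i, i < 11018 → P i := stepQ 11017 Q11017 (allL N11017 (tt N10555 F68901) (tt N11605 (iv F70970)) (tt N11622 (iv F71020)) (tt N11373 (iv F70101)) (tt N10417 F68902) (tt N10415 (iv D17475)) (tt N11623 D18081) (tt N11615 (iv F70997)) (tt N11570 (iv F70843)))
theorem Q11019 : ∀ i, i < 11019 → P i := stepQ 11018 Q11018 (allL N11018 (tt N10557 F68903) (tt N10682 F68904) (tt N10417 F68905) (tt N10486 F68906) (tt N11622 (iv F71021)) (tt N10416 (iv D17476)) (tt N11624 D18082) (tt N11619 (iv F71014)) (tt N10518 F68907))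
theorem Q11020 : ∀ i, i < 11020 → P i := stepQ 11019 Q11019 (allL N11019 (tt N10558 F68908) (tt N11607 (iv F70975)) (tt N11624 (iv F71027)) (tt N10418 F68909) (tt N11623 (iv F71024)) (tt N11588 (iv F70909)) (tt N10417 (iv D17477)) (tt N11620 (iv F71016)) (tt N11571 (iv F70848)))
theorem Q11021 : ∀ i, i < 11021 → P i := stepQ 11020 Q11020 (allL N11020 (tt N10559 F68910) (tt N11020 F68911) (tt N11530 (iv F70694)) (tt N10419 (iv D17478)) (tt N10610 F68912) (tt N11167 (iv F69370)) (tt N10648 F68913) (tt N11020 F68914) (tt N10647 F68915))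
theorem Q11022 : ∀ i, i < 11022 → P i := stepQ 11021 Q11021 (allL N11021 (tt N10469 F68916) (tt N10662 F68917) (tt N10425 F68918) (tt N11625 D18083) (tt N10424 (iv D17479)) (tt N10464 F68919) (tt N10475 F68920) (tt N10459 F68921) (tt N10426 F68922))
theorem Q11023 : ∀ i, i < 11023 → P i := stepQ 11022 Q11022 (allL N11022 (tt N10565 F68923) (tt N10663 F68924) (tt N11237 (iv F69604)) (tt N10426 (iv D17480)) (tt N11618 (iv F71008)) (tt N10937 F68925) (tt N10476 F68926) (tt N10460 F68927) (tt N11625 (iv F71035)))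
theorem Q11024 : ∀ i, i < 11024 → P i := stepQ 11023 Q11023 (allL N11023 (tt N10659 F68928) (tt N10640 F68929) (tt N11405 (iv F70234)) (tt N10430 (iv D17481)) (tt N11581 (iv F70884)) (tt N10642 F68930) (tt N10433 F68931) (tt N11626 D18084) (tt N11444 (iv F70393)))
theorem Q11025 : ∀ i, i < 11025 → P i := stepQ 11024 Q11024 (allL N11024 (tt N11491 (iv F70554)) (tt N11412 F70269) (tt N11425 (iv F70312)) (tt N10435 F68932) (tt N11609 (iv F70978)) (tt N11497 (iv F70569)) (tt N11626 (iv F71040)) (tt N10433 (iv D17482)) (tt N11627 D18085))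
theorem Q11026 : ∀ i, i < 11026 → P i := stepQ 11025 Q11025 (allL N11025 (tt N10660 F68933) (tt N10649 F68934) (tt N11025 F68935) (tt N11626 (iv F71038)) (tt N10911 F68936) (tt N10652 F68937) (tt N10435 F68938) (tt N10434 (iv D17483)) (tt N11628 D18086))
theorem Q11027 : ∀ i, i < 11027 → P i := stepQ 11026 Q11026 (allL N11026 (tt N11512 F70612) (tt N11530 (iv F70693)) (tt N11026 F68939) (tt N11627 (iv F71041)) (tt N11242 (iv F69620)) (tt N11513 (iv F70614)) (tt N11628 (iv F71047)) (tt N11026 F68940) (tt N10435 (iv D17484)))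
theorem Q11028 : ∀ i, i < 11028 → P i := stepQ 11027 Q11027 (allL N11027 (tt N11531 (iv F70698)) (tt N10438 F68941) (tt N11382 (iv F70142)) (tt N11148 (iv F69320)) (tt N10436 (iv D17485)) (tt N11629 D18087) (tt N11381 (iv F70138)) (tt N10440 F68942) (tt N10801 F68943))
theorem Q11029 : ∀ i, i < 11029 → P i := stepQ 11028 Q11028 (allL N11028 (tt N10854 F68944) (tt N11131 (iv F69270)) (tt N10437 (iv D17486)) (tt N10439 F68945) (tt N11630 D18088) (tt N11135 (iv F69285)) (tt N10776 F68946) (tt N10759 F68947) (tt N10806 F68948))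
theorem Q11030 : ∀ i, i < 11030 → P i := stepQ 11029 Q11029 (allL N11029 (tt N10855 F68949) (tt N11148 (iv F69318)) (tt N11630 (iv F71054)) (tt N10438 F68950) (tt N10437 (iv D17487)) (tt N11631 D18089) (tt N10777 F68951) (tt N10760 F68952) (tt N10807 F68953))
theorem Q11031 : ∀ i, i < 11031 → P i := stepQ 11030 Q11030 (allL N11030 (tt N11519 (iv F70637)) (tt N11629 (iv F71049)) (tt N10481 F68954) (tt N11631 (iv F71060)) (tt N10668 F68955) (tt N10438 (iv D17488)) (tt N11632 D18090) (tt N10441 F68956) (tt N10808 F68957))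
theorem Q11032 : ∀ i, i < 11032 → P i := stepQ 11031 Q11031 (allL N11031 (tt N11555 (iv F70781)) (tt N10441 F68958) (tt N11402 (iv F70223)) (tt N11522 (iv F70657)) (tt N10486 F68959) (tt N10440 (iv D17489)) (tt N11633 D18091) (tt N11629 (iv F71051)) (tt N10449 F68960))
theorem Q11033 : ∀ i, i < 11033 → P i := stepQ 11032 Q11032 (allL N11032 (tt N11520 (iv F70643)) (tt N11633 (iv F71067)) (tt N10509 F68961) (tt N11523 (iv F70662)) (tt N10683 F68962) (tt N11529 (iv F70690)) (tt N10441 (iv D17490)) (tt N11632 (iv F71065)) (tt N10457 F68963))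
theorem Q11034 : ∀ i, i < 11034 → P i := stepQ 11033 Q11033 (allL N11033 (tt N11523 (iv F70660)) (tt N11440 (iv F70368)) (tt N10519 F68964) (tt N11520 (iv F70645)) (tt N11447 (iv F70406)) (tt N10457 F68965) (tt N10442 (iv D17491)) (tt N10862 F68966) (tt N11529 (iv F70691)))
theorem Q11035 : ∀ i, i < 11035 → P i := stepQ 11034 Q11034 (allL N11034 (tt N11035 (iv F68971)) (tt N10452 F68967) (tt N11634 D18092) (tt N10443 (iv D17492)) (tt N11635 D18093) (tt N10445 F68968) (tt N11307 (iv F69801)) (tt N10446 F68969) (tt N10972 F68970))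
theorem Q11036 : ∀ i, i < 11036 → P i := stepQ 11035 Q11035 (allL N11035 (tt N11034 F68971) (tt N10453 F68972) (tt N11636 D18094) (tt N10444 (iv D17493)) (tt N11637 D18095) (tt N10972 F68973) (tt N10725 F68974) (tt N10733 F68975) (tt N10445 F68976))
theorem Q11037 : ∀ i, i < 11037 → P i := stepQ 11036 Q11036 (allL N11036 (tt N11572 (iv F70849)) (tt N11532 (iv F70703)) (tt N10445 (iv D17494)) (tt N11036 F68977) (tt N11638 D18096) (tt N11634 (iv F71071)) (tt N11436 (iv F70352)) (tt N10447 F68978) (tt N11636 (iv F71083)))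
theorem Q11038 : ∀ i, i < 11038 → P i := stepQ 11037 Q11037 (allL N11037 (tt N11573 (iv F70852)) (tt N10454 F68979) (tt N11638 (iv F71090)) (tt N10878 F68980) (tt N10445 (iv D17495)) (tt N11639 D18097) (tt N11437 (iv F70356)) (tt N10448 F68981) (tt N11637 (iv F71089)))
theorem Q11039 : ∀ i, i < 11039 → P i := stepQ 11038 Q11038 (allL N11038 (tt N11320 (iv F69862)) (tt N11343 (iv F69973)) (tt N10446 (iv D17496)) (tt N10458 F68982) (tt N11640 D18098) (tt N10447 F68983) (tt N11326 (iv F69897)) (tt N11634 (iv F71072)) (tt N11296 F69749))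
theorem Q11040 : ∀ i, i < 11040 → P i := stepQ 11039 Q11039 (allL N11039 (tt N11321 (iv F69868)) (tt N10455 F68984) (tt N11640 (iv F71095)) (tt N10517 F68985) (tt N10446 (iv D17497)) (tt N11641 D18099) (tt N11327 (iv F69902)) (tt N11635 (iv F71075)) (tt N11346 (iv F69991)))
theorem Q11041 : ∀ i, i < 11041 → P i := stepQ 11040 Q11040 (allL N11040 (tt N11574 (iv F70855)) (tt N11556 (iv F70786)) (tt N10448 F68986) (tt N11445 (iv F70396)) (tt N10447 (iv D17498)) (tt N11642 D18100) (tt N11438 (iv F70362)) (tt N11638 (iv F71091)) (tt N11521 (iv F70655)))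
theorem Q11042 : ∀ i, i < 11042 → P i := stepQ 11041 Q11041 (allL N11041 (tt N11575 (iv F70859)) (tt N10456 F68987) (tt N11642 (iv F71099)) (tt N10449 F68988) (tt N11641 (iv F71098)) (tt N10448 (iv D17499)) (tt N11643 D18101) (tt N11639 (iv F71094)) (tt N11522 (iv F70659)))
theorem Q11043 : ∀ i, i < 11043 → P i := stepQ 11042 Q11042 (allL N11042 (tt N11576 (iv F70861)) (tt N10457 F68989) (tt N11447 (iv F70405)) (tt N11643 (iv F71101)) (tt N10519 F68990) (tt N11440 (iv F70371)) (tt N10449 (iv D17500)) (tt N10885 F68991) (tt N11633 (iv F71069)))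
theorem Q11044 : ∀ i, i < 11044 → P i := stepQ 11043 Q11043 (allL N11043 (tt N11144 (iv F69306)) (tt N11463 (iv F70470)) (tt N11006 F68992) (tt N10450 (iv D17501)) (tt N11644 D18102) (tt N10886 F68993) (tt N11384 (iv F70152)) (tt N10684 F68994) (tt N11352 (iv F70016)))
theorem Q11045 : ∀ i, i < 11045 → P i := stepQ 11044 Q11044 (allL N11044 (tt N10794 F68995) (tt N10972 F68996) (tt N10798 F68997) (tt N10451 (iv D17502)) (tt N11645 D18103) (tt N10453 F68998) (tt N10935 F68999) (tt N10732 F69000) (tt N10452 F69001))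
theorem Q11046 : ∀ i, i < 11046 → P i := stepQ 11045 Q11045 (allL N11045 (tt N11382 (iv F70140)) (tt N11635 (iv F71074)) (tt N11531 (iv F70699)) (tt N11644 (iv F71103)) (tt N10452 (iv D17503)) (tt N11646 D18104) (tt N11385 (iv F70156)) (tt N10455 F69002) (tt N11645 (iv F71110)))
theorem Q11047 : ∀ i, i < 11047 → P i := stepQ 11046 Q11046 (allL N11046 (tt N10796 F69003) (tt N11637 (iv F71085)) (tt N11056 (iv F69035)) (tt N10892 F69004) (tt N10453 (iv D17504)) (tt N11647 D18105) (tt N10729 F69005) (tt N10736 F69006) (tt N10454 F69007))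
theorem Q11048 : ∀ i, i < 11048 → P i := stepQ 11047 Q11047 (allL N11047 (tt N11528 (iv F70682)) (tt N11639 (iv F71092)) (tt N11535 (iv F70717)) (tt N10895 F69008) (tt N11646 (iv F71111)) (tt N10454 (iv D17505)) (tt N11648 D18106) (tt N10456 F69009) (tt N11647 (iv F71116)))
theorem Q11049 : ∀ i, i < 11049 → P i := stepQ 11048 Q11048 (allL N11048 (tt N11402 (iv F70221)) (tt N11641 (iv F71096)) (tt N11555 (iv F70782)) (tt N10698 F69010) (tt N10456 F69011) (tt N10455 (iv D17506)) (tt N11649 D18107) (tt N11646 (iv F71112)) (tt N11441 (iv F70377)))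
theorem Q11050 : ∀ i, i < 11050 → P i := stepQ 11049 Q11049 (allL N11049 (tt N11529 (iv F70687)) (tt N11643 (iv F71100)) (tt N11558 (iv F70795)) (tt N10457 F69012) (tt N11649 (iv F71120)) (tt N11520 (iv F70647)) (tt N10456 (iv D17507)) (tt N11648 (iv F71118)) (tt N11523 (iv F70665)))
theorem Q11051 : ∀ i, i < 11051 → P i := stepQ 11050 Q11050 (allL N11050 (tt N10916 F69013) (tt N11650 D18108) (tt N10460 (iv D17508)) (tt N10462 F69014) (tt N11651 D18109) (tt N10714 F69015) (tt N10479 F69016) (tt N11237 (iv F69607)) (tt N11061 (iv F69059)))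
theorem Q11052 : ∀ i, i < 11052 → P i := stepQ 11051 Q11051 (allL N11051 (tt N11534 (iv F70711)) (tt N10667 F69017) (tt N11651 (iv F71126)) (tt N10461 F69018) (tt N10460 (iv D17509)) (tt N11652 D18110) (tt N10480 F69019) (tt N11618 (iv F71010)) (tt N11062 (iv F69063)))
theorem Q11053 : ∀ i, i < 11053 → P i := stepQ 11052 Q11052 (allL N11052 (tt N11535 (iv F70716)) (tt N10668 F69020) (tt N11528 (iv F70683)) (tt N11652 (iv F71130)) (tt N11629 (iv F71050)) (tt N10461 (iv D17510)) (tt N11653 D18111) (tt N10486 F69021) (tt N11063 (iv F69066)))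
theorem Q11054 : ∀ i, i < 11054 → P i := stepQ 11053 Q11053 (allL N11053 (tt N11654 D18112) (tt N10462 (iv D17511)) (tt N10571 F69022) (tt N11650 (iv F71122)) (tt N10787 F69023) (tt N10713 F69024) (tt N10485 F69025) (tt N10598 F69026) (tt N11164 (iv F69356)))
theorem Q11055 : ∀ i, i < 11055 → P i := stepQ 11054 Q11054 (allL N11054 (tt N10468 F69027) (tt N11065 (iv F69074)) (tt N11054 F69028) (tt N11655 D18113) (tt N10488 F69029) (tt N11058 (iv F69048)) (tt N10614 F69030) (tt N10463 (iv D17512)) (tt N11057 (iv F69043)))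
theorem Q11056 : ∀ i, i < 11056 → P i := stepQ 11055 Q11055 (allL N11055 (tt N10470 F69031) (tt N11536 (iv F70720)) (tt N11515 (iv F70623)) (tt N10464 (iv D17513)) (tt N11656 D18114) (tt N11625 (iv F71033)) (tt N10616 F69032) (tt N11655 (iv F71142)) (tt N10937 F69033))
theorem Q11057 : ∀ i, i < 11057 → P i := stepQ 11056 Q11056 (allL N11056 (tt N10471 F69034) (tt N11538 (iv F70730)) (tt N11046 F69035) (tt N11656 (iv F71144)) (tt N10465 (iv D17514)) (tt N11657 D18115) (tt N10617 F69036) (tt N10490 F69037) (tt N10938 F69038))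
theorem Q11058 : ∀ i, i < 11058 → P i := stepQ 11057 Q11057 (allL N11057 (tt N11058 (iv F69044)) (tt N10474 F69039) (tt N11057 F69040) (tt N11658 D18116) (tt N11082 (iv F69117)) (tt N10468 F69041) (tt N10941 F69042) (tt N10466 (iv D17515)) (tt N11054 F69043))
theorem Q11059 : ∀ i, i < 11059 → P i := stepQ 11058 Q11058 (allL N11058 (tt N11057 F69044) (tt N10475 F69045) (tt N11058 F69046) (tt N11659 D18117) (tt N10494 F69047) (tt N11054 F69048) (tt N10662 F69049) (tt N10467 (iv D17516)) (tt N10468 F69050))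
theorem Q11060 : ∀ i, i < 11060 → P i := stepQ 11059 Q11059 (allL N11059 (tt N11655 (iv F71140)) (tt N10476 F69051) (tt N11660 D18118) (tt N10468 (iv D17517)) (tt N11661 D18119) (tt N11658 (iv F71152)) (tt N10663 F69052) (tt N10470 F69053) (tt N11659 (iv F71161)))
theorem Q11061 : ∀ i, i < 11061 → P i := stepQ 11060 Q11060 (allL N11060 (tt N11625 (iv F71031)) (tt N10478 F69054) (tt N11302 (iv F69778)) (tt N10469 (iv D17518)) (tt N11662 D18120) (tt N10470 F69055) (tt N11544 (iv F70748)) (tt N11658 (iv F71154)) (tt N10565 F69056))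
theorem Q11062 : ∀ i, i < 11062 → P i := stepQ 11061 Q11061 (allL N11061 (tt N11515 (iv F70622)) (tt N11663 D18121) (tt N10470 (iv D17519)) (tt N10572 F69057) (tt N11664 D18122) (tt N11302 (iv F69779)) (tt N10666 F69058) (tt N11660 (iv F71164)) (tt N11050 F69059))
theorem Q11063 : ∀ i, i < 11063 → P i := stepQ 11062 Q11062 (allL N11062 (tt N11656 (iv F71143)) (tt N10480 F69060) (tt N11664 (iv F71176)) (tt N10471 F69061) (tt N10470 (iv D17520)) (tt N11665 D18123) (tt N10667 F69062) (tt N11661 (iv F71168)) (tt N11051 F69063))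
theorem Q11064 : ∀ i, i < 11064 → P i := stepQ 11063 Q11063 (allL N11063 (tt N11657 (iv F71147)) (tt N10481 F69064) (tt N11383 (iv F70146)) (tt N11665 (iv F71180)) (tt N11388 (iv F70170)) (tt N10471 (iv D17521)) (tt N11666 D18124) (tt N10499 F69065) (tt N11052 F69066))
theorem Q11065 : ∀ i, i < 11065 → P i := stepQ 11064 Q11064 (allL N11064 (tt N10804 F69067) (tt N11082 (iv F69115)) (tt N10599 F69068) (tt N11667 D18125) (tt N10474 F69069) (tt N10500 F69070) (tt N10727 F69071) (tt N10472 (iv D17522)) (tt N10852 F69072))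
theorem Q11066 : ∀ i, i < 11066 → P i := stepQ 11065 Q11065 (allL N11065 (tt N10664 F69073) (tt N11054 F69074) (tt N10600 F69075) (tt N11668 D18126) (tt N10852 F69076) (tt N10475 F69077) (tt N10615 F69078) (tt N10473 (iv D17523)) (tt N10474 F69079))
theorem Q11067 : ∀ i, i < 11067 → P i := stepQ 11066 Q11066 (allL N11066 (tt N11070 (iv F69088)) (tt N11658 (iv F71151)) (tt N11669 D18127) (tt N10474 (iv D17524)) (tt N11670 D18128) (tt N10476 F69080) (tt N10947 F69081) (tt N10478 F69082) (tt N11668 (iv F71196)))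
theorem Q11068 : ∀ i, i < 11068 → P i := stepQ 11067 Q11067 (allL N11067 (tt N11544 (iv F70745)) (tt N11659 (iv F71157)) (tt N11671 D18129) (tt N10475 (iv D17525)) (tt N11672 D18130) (tt N11668 (iv F71193)) (tt N11625 (iv F71034)) (tt N11244 (iv F69627)) (tt N10476 F69083))
theorem Q11069 : ∀ i, i < 11069 → P i := stepQ 11068 Q11068 (allL N11068 (tt N11175 (iv F69406)) (tt N11673 D18131) (tt N10476 (iv D17526)) (tt N10603 F69084) (tt N11674 D18132) (tt N11669 (iv F71198)) (tt N11237 (iv F69606)) (tt N10479 F69085) (tt N11671 (iv F71204)))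
theorem Q11070 : ∀ i, i < 11070 → P i := stepQ 11069 Q11069 (allL N11069 (tt N11545 (iv F70751)) (tt N11661 (iv F71165)) (tt N11674 (iv F71209)) (tt N10505 F69086) (tt N10476 (iv D17527)) (tt N11675 D18133) (tt N11618 (iv F71009)) (tt N10480 F69087) (tt N11672 (iv F71206)))
theorem Q11071 : ∀ i, i < 11071 → P i := stepQ 11070 Q11070 (allL N11070 (tt N11066 F69088) (tt N11544 (iv F70746)) (tt N11676 D18134) (tt N10477 (iv D17528)) (tt N11677 D18135) (tt N10946 F69089) (tt N10478 F69090) (tt N10947 F69091) (tt N11247 (iv F69636)))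
theorem Q11072 : ∀ i, i < 11072 → P i := stepQ 11071 Q11071 (allL N11071 (tt N11546 (iv F70755)) (tt N11678 D18136) (tt N10478 (iv D17529)) (tt N10483 F69092) (tt N11679 D18137) (tt N10479 F69093) (tt N11676 (iv F71216)) (tt N11669 (iv F71200)) (tt N11248 (iv F69639)))
theorem Q11073 : ∀ i, i < 11073 → P i := stepQ 11072 Q11072 (allL N11072 (tt N11547 (iv F70758)) (tt N11662 (iv F71169)) (tt N11679 (iv F71223)) (tt N11394 (iv F70193)) (tt N10478 (iv D17530)) (tt N11680 D18138) (tt N11677 (iv F71219)) (tt N11670 (iv F71202)) (tt N11249 (iv F69642)))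
theorem Q11074 : ∀ i, i < 11074 → P i := stepQ 11073 Q11073 (allL N11073 (tt N11681 D18139) (tt N10479 (iv D17531)) (tt N11663 (iv F71172)) (tt N10485 F69094) (tt N11682 D18140) (tt N11678 (iv F71222)) (tt N11650 (iv F71124)) (tt N11673 (iv F71208)) (tt N11250 (iv F69644)))
theorem Q11075 : ∀ i, i < 11075 → P i := stepQ 11074 Q11074 (allL N11074 (tt N11549 (iv F70761)) (tt N11682 (iv F71226)) (tt N10480 F69095) (tt N11630 (iv F71055)) (tt N10479 (iv D17532)) (tt N11683 D18141) (tt N11651 (iv F71128)) (tt N11674 (iv F71210)) (tt N11251 (iv F69646)))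
theorem Q11076 : ∀ i, i < 11076 → P i := stepQ 11075 Q11075 (allL N11075 (tt N11550 (iv F70765)) (tt N11665 (iv F71179)) (tt N11683 (iv F71227)) (tt N10481 F69096) (tt N11680 (iv F71224)) (tt N10480 (iv D17533)) (tt N11684 D18142) (tt N11675 (iv F71212)) (tt N11252 (iv F69648)))
theorem Q11077 : ∀ i, i < 11077 → P i := stepQ 11076 Q11076 (allL N11076 (tt N11551 (iv F70767)) (tt N11666 (iv F71182)) (tt N11632 (iv F71063)) (tt N11684 (iv F71228)) (tt N11398 (iv F70203)) (tt N11653 (iv F71132)) (tt N10481 (iv D17534)) (tt N10509 F69097) (tt N11253 (iv F69650)))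
theorem Q11078 : ∀ i, i < 11078 → P i := stepQ 11077 Q11077 (allL N11077 (tt N11181 (iv F69436)) (tt N11079 (iv F69105)) (tt N10482 (iv D17535)) (tt N11676 (iv F71214)) (tt N11078 F69104) (tt N10591 F69098) (tt N10483 F69099) (tt N10593 F69100) (tt N11254 (iv F69654)))
theorem Q11079 : ∀ i, i < 11079 → P i := stepQ 11078 Q11078 (allL N11078 (tt N11685 D18143) (tt N10483 (iv D17536)) (tt N10574 F69101) (tt N11678 (iv F71221)) (tt N11077 (iv F69104)) (tt N10485 F69102) (tt N11079 (iv F69107)) (tt N10607 F69103) (tt N11255 (iv F69658)))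
theorem Q11080 : ∀ i, i < 11080 → P i := stepQ 11079 Q11079 (allL N11079 (tt N11553 (iv F70772)) (tt N11077 F69105) (tt N10484 F69106) (tt N11686 D18144) (tt N10483 (iv D17537)) (tt N11174 (iv F69403)) (tt N11078 F69107) (tt N10608 F69108) (tt N11256 (iv F69664)))
theorem Q11081 : ∀ i, i < 11081 → P i := stepQ 11080 Q11080 (allL N11080 (tt N10485 (iv D17538)) (tt N11554 (iv F70776)) (tt N10575 F69109) (tt N11681 (iv F71225)) (tt N11169 (iv F69381)) (tt N11685 (iv F71231)) (tt N11654 (iv F71138)) (tt N10609 F69110) (tt N11257 (iv F69667)))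
theorem Q11082 : ∀ i, i < 11082 → P i := stepQ 11081 Q11081 (allL N11081 (tt N11558 (iv F70794)) (tt N10683 F69111) (tt N11529 (iv F70688)) (tt N11624 (iv F71028)) (tt N11633 (iv F71068)) (tt N10509 F69112) (tt N10486 (iv D17539)) (tt N11653 (iv F71133)) (tt N10519 F69113))
theorem Q11083 : ∀ i, i < 11083 → P i := stepQ 11082 Q11082 (allL N11082 (tt N10494 F69114) (tt N11064 F69115) (tt N11082 F69116) (tt N11687 D18145) (tt N11057 F69117) (tt N11087 (iv F69136)) (tt N10622 F69118) (tt N10487 (iv D17540)) (tt N10488 F69119))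
theorem Q11084 : ∀ i, i < 11084 → P i := stepQ 11083 Q11083 (allL N11083 (tt N10495 F69120) (tt N11448 (iv F70410)) (tt N11688 D18146) (tt N10488 (iv D17541)) (tt N11689 D18147) (tt N11471 (iv F70501)) (tt N10623 F69121) (tt N10489 F69122) (tt N11687 (iv F71240)))
theorem Q11085 : ∀ i, i < 11085 → P i := stepQ 11084 Q11084 (allL N11084 (tt N10497 F69123) (tt N11690 D18148) (tt N10489 (iv D17542)) (tt N10566 F69124) (tt N11691 D18149) (tt N11480 (iv F70527)) (tt N10624 F69125) (tt N11688 (iv F71244)) (tt N10526 F69126))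
theorem Q11086 : ∀ i, i < 11086 → P i := stepQ 11085 Q11085 (allL N11085 (tt N10498 F69127) (tt N11454 (iv F70431)) (tt N11691 (iv F71255)) (tt N10490 F69128) (tt N10489 (iv D17543)) (tt N11692 D18150) (tt N10625 F69129) (tt N11689 (iv F71247)) (tt N10527 F69130))
theorem Q11087 : ∀ i, i < 11087 → P i := stepQ 11086 Q11086 (allL N11086 (tt N10499 F69131) (tt N11560 (iv F70804)) (tt N11325 (iv F69891)) (tt N11692 (iv F71259)) (tt N11409 (iv F70253)) (tt N10490 (iv D17544)) (tt N11693 D18151) (tt N11657 (iv F71149)) (tt N10528 F69132))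
theorem Q11088 : ∀ i, i < 11088 → P i := stepQ 11087 Q11087 (allL N11087 (tt N11088 (iv F69139)) (tt N10500 F69133) (tt N11087 F69134) (tt N11694 D18152) (tt N10493 F69135) (tt N11082 F69136) (tt N10874 F69137) (tt N10491 (iv D17545)) (tt N10873 F69138))
theorem Q11089 : ∀ i, i < 11089 → P i := stepQ 11088 Q11088 (allL N11088 (tt N11087 F69139) (tt N10502 F69140) (tt N11088 F69141) (tt N11695 D18153) (tt N10873 F69142) (tt N10494 F69143) (tt N10872 F69144) (tt N10492 (iv D17546)) (tt N10493 F69145))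
theorem Q11090 : ∀ i, i < 11090 → P i := stepQ 11089 Q11089 (allL N11089 (tt N11471 (iv F70499)) (tt N10503 F69146) (tt N11696 D18154) (tt N10493 (iv D17547)) (tt N11697 D18155) (tt N10495 F69147) (tt N11462 (iv F70467)) (tt N10496 F69148) (tt N11695 (iv F71273)))
theorem Q11091 : ∀ i, i < 11091 → P i := stepQ 11090 Q11090 (allL N11090 (tt N11687 (iv F71236)) (tt N10504 F69149) (tt N11698 D18156) (tt N10494 (iv D17548)) (tt N11699 D18157) (tt N11695 (iv F71270)) (tt N10676 F69150) (tt N10533 F69151) (tt N10495 F69152))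
theorem Q11092 : ∀ i, i < 11092 → P i := stepQ 11091 Q11091 (allL N11091 (tt N11688 (iv F71241)) (tt N11577 (iv F70865)) (tt N10495 (iv D17549)) (tt N11091 F69153) (tt N11700 D18158) (tt N11696 (iv F71275)) (tt N10677 F69154) (tt N10497 F69155) (tt N11698 (iv F71282)))
theorem Q11093 : ∀ i, i < 11093 → P i := stepQ 11092 Q11092 (allL N11092 (tt N11689 (iv F71245)) (tt N10505 F69156) (tt N11700 (iv F71287)) (tt N11661 (iv F71166)) (tt N10495 (iv D17550)) (tt N11701 D18159) (tt N10678 F69157) (tt N10498 F69158) (tt N11699 (iv F71286)))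
theorem Q11094 : ∀ i, i < 11094 → P i := stepQ 11093 Q11093 (allL N11093 (tt N11480 (iv F70524)) (tt N11323 (iv F69880)) (tt N10496 (iv D17551)) (tt N10567 F69159) (tt N11702 D18160) (tt N10497 F69160) (tt N11338 (iv F69952)) (tt N11696 (iv F71276)) (tt N10537 F69161))
theorem Q11095 : ∀ i, i < 11095 → P i := stepQ 11094 Q11094 (allL N11094 (tt N11481 (iv F70530)) (tt N10507 F69162) (tt N11702 (iv F71292)) (tt N11414 (iv F70276)) (tt N10496 (iv D17552)) (tt N11703 D18161) (tt N11466 (iv F70484)) (tt N11697 (iv F71278)) (tt N10538 F69163))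
theorem Q11096 : ∀ i, i < 11096 → P i := stepQ 11095 Q11095 (allL N11095 (tt N11691 (iv F71254)) (tt N11579 (iv F70874)) (tt N10498 F69164) (tt N11406 (iv F70241)) (tt N10497 (iv D17553)) (tt N11704 D18162) (tt N10681 F69165) (tt N11700 (iv F71289)) (tt N10540 F69166))
theorem Q11097 : ∀ i, i < 11097 → P i := stepQ 11096 Q11096 (allL N11096 (tt N11692 (iv F71258)) (tt N10508 F69167) (tt N11704 (iv F71297)) (tt N10499 F69168) (tt N11703 (iv F71295)) (tt N10498 (iv D17554)) (tt N11705 D18163) (tt N11701 (iv F71291)) (tt N10541 F69169))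
theorem Q11098 : ∀ i, i < 11098 → P i := stepQ 11097 Q11097 (allL N11097 (tt N11693 (iv F71261)) (tt N10509 F69170) (tt N11408 (iv F70248)) (tt N11705 (iv F71300)) (tt N11417 (iv F70290)) (tt N10683 F69171) (tt N10499 (iv D17555)) (tt N11666 (iv F71184)) (tt N10542 F69172))
theorem Q11099 : ∀ i, i < 11099 → P i := stepQ 11098 Q11098 (allL N11098 (tt N11565 (iv F70818)) (tt N11694 (iv F71264)) (tt N11706 D18164) (tt N10500 (iv D17556)) (tt N11707 D18165) (tt N11667 (iv F71187)) (tt N10888 F69173) (tt N11418 (iv F70292)) (tt N10887 F69174))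
theorem Q11100 : ∀ i, i < 11100 → P i := stepQ 11099 Q11099 (allL N11099 (tt N11356 (iv F70030)) (tt N11462 (iv F70465)) (tt N11328 (iv F69906)) (tt N10501 (iv D17557)) (tt N11708 D18166) (tt N11352 (iv F70013)) (tt N10503 F69175) (tt N10506 F69176) (tt N10886 F69177))
theorem Q11101 : ∀ i, i < 11101 → P i := stepQ 11100 Q11100 (allL N11100 (tt N11566 (iv F70822)) (tt N11695 (iv F71269)) (tt N11386 (iv F70160)) (tt N10502 (iv D17558)) (tt N11709 D18167) (tt N10504 F69178) (tt N10886 F69179) (tt N10545 F69180) (tt N10503 F69181))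
theorem Q11102 : ∀ i, i < 11102 → P i := stepQ 11101 Q11101 (allL N11101 (tt N11567 (iv F70829)) (tt N11697 (iv F71277)) (tt N11584 (iv F70892)) (tt N11707 (iv F71306)) (tt N10503 (iv D17559)) (tt N11710 D18168) (tt N11708 (iv F71310)) (tt N10507 F69182) (tt N11709 (iv F71316)))
theorem Q11103 : ∀ i, i < 11103 → P i := stepQ 11102 Q11102 (allL N11102 (tt N11568 (iv F70832)) (tt N11699 (iv F71283)) (tt N11585 (iv F70895)) (tt N11672 (iv F71205)) (tt N10504 (iv D17560)) (tt N11711 D18169) (tt N11616 (iv F71001)) (tt N10549 F69183) (tt N10505 F69184))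
theorem Q11104 : ∀ i, i < 11104 → P i := stepQ 11103 Q11103 (allL N11103 (tt N11569 (iv F70837)) (tt N11701 (iv F71290)) (tt N11586 (iv F70900)) (tt N11675 (iv F71211)) (tt N11710 (iv F71317)) (tt N10505 (iv D17561)) (tt N11712 D18170) (tt N10508 F69185) (tt N11711 (iv F71320)))
theorem Q11105 : ∀ i, i < 11105 → P i := stepQ 11104 Q11104 (allL N11104 (tt N11358 (iv F70041)) (tt N11466 (iv F70482)) (tt N11329 (iv F69913)) (tt N11428 (iv F70320)) (tt N10506 (iv D17562)) (tt N11713 D18171) (tt N10507 F69186) (tt N11708 (iv F71311)) (tt N10553 F69187))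
theorem Q11106 : ∀ i, i < 11106 → P i := stepQ 11105 Q11105 (allL N11105 (tt N11570 (iv F70840)) (tt N11703 (iv F71294)) (tt N11587 (iv F70903)) (tt N11431 (iv F70331)) (tt N10508 F69188) (tt N10507 (iv D17563)) (tt N11714 D18172) (tt N11710 (iv F71318)) (tt N10555 F69189))
theorem Q11107 : ∀ i, i < 11107 → P i := stepQ 11106 Q11106 (allL N11106 (tt N11571 (iv F70844)) (tt N11705 (iv F71299)) (tt N11588 (iv F70907)) (tt N10509 F69190) (tt N11714 (iv F71323)) (tt N11624 (iv F71029)) (tt N10508 (iv D17564)) (tt N11712 (iv F71321)) (tt N10558 F69191))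
theorem Q11108 : ∀ i, i < 11108 → P i := stepQ 11107 Q11107 (allL N11107 (tt N11411 (iv F70260)) (tt N10684 F69192) (tt N11715 D18173) (tt N10510 (iv D17565)) (tt N11716 D18174) (tt N11128 (iv F69260)) (tt N10686 F69193) (tt N11463 (iv F70472)) (tt N10685 F69194))
theorem Q11109 : ∀ i, i < 11109 → P i := stepQ 11108 Q11108 (allL N11108 (tt N11328 (iv F69904)) (tt N10685 F69195) (tt N11356 (iv F70032)) (tt N10511 (iv D17566)) (tt N11717 D18175) (tt N10544 F69196) (tt N10513 F69197) (tt N10516 F69198) (tt N10684 F69199))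
theorem Q11110 : ∀ i, i < 11110 → P i := stepQ 11109 Q11109 (allL N11109 (tt N11386 (iv F70158)) (tt N10686 F69200) (tt N11566 (iv F70824)) (tt N10512 (iv D17567)) (tt N11718 D18176) (tt N10514 F69201) (tt N10684 F69202) (tt N11384 (iv F70153)) (tt N10513 F69203))
theorem Q11111 : ∀ i, i < 11111 → P i := stepQ 11110 Q11110 (allL N11110 (tt N11584 (iv F70891)) (tt N10688 F69204) (tt N11567 (iv F70830)) (tt N11716 (iv F71329)) (tt N10513 (iv D17568)) (tt N11719 D18177) (tt N11717 (iv F71334)) (tt N10517 F69205) (tt N11718 (iv F71340)))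
theorem Q11112 : ∀ i, i < 11112 → P i := stepQ 11111 Q11111 (allL N11111 (tt N11585 (iv F70894)) (tt N10690 F69206) (tt N11568 (iv F70833)) (tt N11134 (iv F69280)) (tt N10514 (iv D17569)) (tt N11720 D18178) (tt N10549 F69207) (tt N11616 (iv F71002)) (tt N10515 F69208))
theorem Q11113 : ∀ i, i < 11113 → P i := stepQ 11112 Q11112 (allL N11112 (tt N11586 (iv F70899)) (tt N10693 F69209) (tt N11569 (iv F70838)) (tt N11137 (iv F69292)) (tt N11719 (iv F71342)) (tt N10515 (iv D17570)) (tt N11721 D18179) (tt N10518 F69210) (tt N11720 (iv F71345)))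
theorem Q11114 : ∀ i, i < 11114 → P i := stepQ 11113 Q11113 (allL N11113 (tt N11329 (iv F69911)) (tt N10695 F69211) (tt N11358 (iv F70043)) (tt N11327 (iv F69901)) (tt N10516 (iv D17571)) (tt N11722 D18180) (tt N10517 F69212) (tt N11717 (iv F71335)) (tt N11353 (iv F70022)))
theorem Q11115 : ∀ i, i < 11115 → P i := stepQ 11114 Q11114 (allL N11114 (tt N11587 (iv F70902)) (tt N10698 F69213) (tt N11570 (iv F70841)) (tt N11641 (iv F71097)) (tt N10518 F69214) (tt N10517 (iv D17572)) (tt N11723 D18181) (tt N11719 (iv F71343)) (tt N11622 (iv F71022)))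
theorem Q11116 : ∀ i, i < 11116 → P i := stepQ 11115 Q11115 (allL N11115 (tt N11588 (iv F70906)) (tt N10702 F69215) (tt N11571 (iv F70845)) (tt N10519 F69216) (tt N11723 (iv F71352)) (tt N10558 F69217) (tt N10518 (iv D17573)) (tt N11721 (iv F71348)) (tt N11624 (iv F71030)))
theorem Q11117 : ∀ i, i < 11117 → P i := stepQ 11116 Q11116 (allL N11116 (tt N10529 F69218) (tt N10829 F69219) (tt N10576 F69220) (tt N11724 D18182) (tt N10522 F69221) (tt N10821 F69222) (tt N11117 (iv F69229)) (tt N10520 (iv D17574)) (tt N10820 F69223))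
theorem Q11118 : ∀ i, i < 11118 → P i := stepQ 11117 Q11117 (allL N11117 (tt N10531 F69224) (tt N10827 F69225) (tt N10578 F69226) (tt N11725 D18183) (tt N10820 F69227) (tt N10523 F69228) (tt N11116 F69229) (tt N10521 (iv D17575)) (tt N10522 F69230))
theorem Q11119 : ∀ i, i < 11119 → P i := stepQ 11118 Q11118 (allL N11118 (tt N10532 F69231) (tt N11419 (iv F70294)) (tt N11726 D18184) (tt N10522 (iv D17576)) (tt N11727 D18185) (tt N10524 F69232) (tt N11410 (iv F70258)) (tt N10525 F69233) (tt N11725 (iv F71363)))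
theorem Q11120 : ∀ i, i < 11120 → P i := stepQ 11119 Q11119 (allL N11119 (tt N10533 F69234) (tt N11589 (iv F70912)) (tt N11728 D18186) (tt N10523 (iv D17577)) (tt N11729 D18187) (tt N11725 (iv F71360)) (tt N10637 F69235) (tt N11687 (iv F71239)) (tt N10524 F69236))
theorem Q11121 : ∀ i, i < 11121 → P i := stepQ 11120 Q11120 (allL N11120 (tt N10534 F69237) (tt N11730 D18188) (tt N10524 (iv D17578)) (tt N10581 F69238) (tt N11731 D18189) (tt N11726 (iv F71366)) (tt N10638 F69239) (tt N10526 F69240) (tt N11728 (iv F71373)))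
theorem Q11122 : ∀ i, i < 11122 → P i := stepQ 11121 Q11121 (allL N11121 (tt N10535 F69241) (tt N11591 (iv F70921)) (tt N11731 (iv F71382)) (tt N10983 F69242) (tt N10524 (iv D17579)) (tt N11732 D18190) (tt N10639 F69243) (tt N10527 F69244) (tt N11729 (iv F71377)))
theorem Q11123 : ∀ i, i < 11123 → P i := stepQ 11122 Q11122 (allL N11122 (tt N10537 F69245) (tt N11458 (iv F70451)) (tt N10525 (iv D17580)) (tt N10569 F69246) (tt N11733 D18191) (tt N10526 F69247) (tt N11374 (iv F70107)) (tt N11726 (iv F71367)) (tt N11480 (iv F70529)))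
theorem Q11124 : ∀ i, i < 11124 → P i := stepQ 11123 Q11123 (allL N11123 (tt N10538 F69248) (tt N11428 (iv F70319)) (tt N11733 (iv F71390)) (tt N11466 (iv F70483)) (tt N10525 (iv D17581)) (tt N11734 D18192) (tt N11414 (iv F70277)) (tt N11727 (iv F71369)) (tt N11481 (iv F70534)))
theorem Q11125 : ∀ i, i < 11125 → P i := stepQ 11124 Q11124 (allL N11124 (tt N11455 (iv F70436)) (tt N10526 (iv D17582)) (tt N11518 (iv F70633)) (tt N10570 F69249) (tt N11735 D18193) (tt N11458 (iv F70454)) (tt N10642 F69250) (tt N11730 (iv F71380)) (tt N11690 (iv F71253)))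
theorem Q11126 : ∀ i, i < 11126 → P i := stepQ 11125 Q11125 (allL N11125 (tt N10540 F69251) (tt N11735 (iv F71393)) (tt N10527 F69252) (tt N11349 (iv F70001)) (tt N10526 (iv D17583)) (tt N11736 D18194) (tt N10643 F69253) (tt N11731 (iv F71385)) (tt N11691 (iv F71257)))
theorem Q11127 : ∀ i, i < 11127 → P i := stepQ 11126 Q11126 (allL N11126 (tt N10541 F69254) (tt N11593 (iv F70930)) (tt N11736 (iv F71397)) (tt N10528 F69255) (tt N11734 (iv F71392)) (tt N10527 (iv D17584)) (tt N11737 D18195) (tt N11732 (iv F71388)) (tt N11692 (iv F71260)))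
theorem Q11128 : ∀ i, i < 11128 → P i := stepQ 11127 Q11127 (allL N11127 (tt N10542 F69256) (tt N11595 (iv F70936)) (tt N11351 (iv F70008)) (tt N11737 (iv F71399)) (tt N11469 (iv F70494)) (tt N10645 F69257) (tt N10528 (iv D17585)) (tt N10986 F69258) (tt N11693 (iv F71263)))
theorem Q11129 : ∀ i, i < 11129 → P i := stepQ 11128 Q11128 (allL N11128 (tt N11724 (iv F71353)) (tt N10543 F69259) (tt N11738 D18196) (tt N10529 (iv D17586)) (tt N11739 D18197) (tt N11107 F69260) (tt N11130 (iv F69268)) (tt N11470 (iv F70497)) (tt N11129 (iv F69265)))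
theorem Q11130 : ∀ i, i < 11130 → P i := stepQ 11129 Q11129 (allL N11129 (tt N11410 (iv F70255)) (tt N10544 F69261) (tt N11368 (iv F70080)) (tt N10530 (iv D17587)) (tt N11740 D18198) (tt N10685 F69262) (tt N10532 F69263) (tt N10536 F69264) (tt N11128 F69265))
theorem Q11131 : ∀ i, i < 11131 → P i := stepQ 11130 Q11130 (allL N11130 (tt N11725 (iv F71358)) (tt N10545 F69266) (tt N11395 (iv F70195)) (tt N10531 (iv D17588)) (tt N11741 D18199) (tt N10533 F69267) (tt N11128 F69268) (tt N11695 (iv F71272)) (tt N10532 F69269))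
theorem Q11132 : ∀ i, i < 11132 → P i := stepQ 11131 Q11131 (allL N11131 (tt N11726 (iv F71364)) (tt N11028 F69270) (tt N10532 (iv D17589)) (tt N10587 F69271) (tt N11742 D18200) (tt N10534 F69272) (tt N11368 (iv F70083)) (tt N10537 F69273) (tt N11395 (iv F70198)))
theorem Q11133 : ∀ i, i < 11133 → P i := stepQ 11132 Q11132 (allL N11132 (tt N11727 (iv F71368)) (tt N10547 F69274) (tt N11742 (iv F71417)) (tt N11739 (iv F71407)) (tt N10532 (iv D17590)) (tt N11743 D18201) (tt N11740 (iv F71409)) (tt N10538 F69275) (tt N11741 (iv F71415)))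
theorem Q11134 : ∀ i, i < 11134 → P i := stepQ 11133 Q11133 (allL N11133 (tt N11728 (iv F71370)) (tt N11393 (iv F70187)) (tt N10533 (iv D17591)) (tt N10588 F69276) (tt N11744 D18202) (tt N11395 (iv F70197)) (tt N10689 F69277) (tt N11698 (iv F71281)) (tt N10534 F69278))
theorem Q11135 : ∀ i, i < 11135 → P i := stepQ 11134 Q11134 (allL N11134 (tt N11729 (iv F71374)) (tt N10549 F69279) (tt N11744 (iv F71423)) (tt N11111 F69280) (tt N10533 (iv D17592)) (tt N11745 D18203) (tt N10690 F69281) (tt N11699 (iv F71285)) (tt N10535 F69282))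
theorem Q11136 : ∀ i, i < 11136 → P i := stepQ 11135 Q11135 (allL N11135 (tt N11449 (iv F70415)) (tt N10534 (iv D17593)) (tt N10550 F69283) (tt N10590 F69284) (tt N11746 D18204) (tt N11028 F69285) (tt N10691 F69286) (tt N10539 F69287) (tt N11393 (iv F70191)))
theorem Q11137 : ∀ i, i < 11137 → P i := stepQ 11136 Q11136 (allL N11136 (tt N11731 (iv F71381)) (tt N11746 (iv F71429)) (tt N10535 F69288) (tt N11747 D18205) (tt N10534 (iv D17594)) (tt N11748 D18206) (tt N10692 F69289) (tt N10540 F69290) (tt N11744 (iv F71425)))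
theorem Q11138 : ∀ i, i < 11138 → P i := stepQ 11137 Q11137 (allL N11137 (tt N11732 (iv F71386)) (tt N10552 F69291) (tt N11748 (iv F71438)) (tt N11112 F69292) (tt N11743 (iv F71421)) (tt N10535 (iv D17595)) (tt N11749 D18207) (tt N10541 F69293) (tt N11745 (iv F71428)))
theorem Q11139 : ∀ i, i < 11139 → P i := stepQ 11138 Q11138 (allL N11138 (tt N11414 (iv F70274)) (tt N10553 F69294) (tt N11375 (iv F70110)) (tt N11481 (iv F70532)) (tt N10536 (iv D17596)) (tt N11750 D18208) (tt N10538 F69295) (tt N11740 (iv F71410)) (tt N11466 (iv F70485)))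
theorem Q11140 : ∀ i, i < 11140 → P i := stepQ 11139 Q11139 (allL N11139 (tt N11733 (iv F71389)) (tt N11349 (iv F69999)) (tt N10538 F69296) (tt N11735 (iv F71394)) (tt N10537 (iv D17597)) (tt N11751 D18209) (tt N11375 (iv F70112)) (tt N11742 (iv F71419)) (tt N11702 (iv F71293)))
theorem Q11141 : ∀ i, i < 11141 → P i := stepQ 11140 Q11140 (allL N11140 (tt N11734 (iv F71391)) (tt N10555 F69297) (tt N11751 (iv F71446)) (tt N11483 (iv F70537)) (tt N10541 F69298) (tt N10538 (iv D17598)) (tt N11752 D18210) (tt N11743 (iv F71422)) (tt N11703 (iv F71296)))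
theorem Q11142 : ∀ i, i < 11142 → P i := stepQ 11141 Q11141 (allL N11141 (tt N11456 (iv F70442)) (tt N10540 F69299) (tt N10556 F69300) (tt N11459 (iv F70458)) (tt N10539 (iv D17599)) (tt N11753 D18211) (tt N10700 F69301) (tt N11746 (iv F71432)) (tt N11579 (iv F70877)))
theorem Q11143 : ∀ i, i < 11143 → P i := stepQ 11142 Q11142 (allL N11142 (tt N11736 (iv F71396)) (tt N11753 (iv F71450)) (tt N10541 F69302) (tt N11460 (iv F70461)) (tt N11751 (iv F71447)) (tt N10540 (iv D17600)) (tt N11754 D18212) (tt N11748 (iv F71439)) (tt N11704 (iv F71298)))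
theorem Q11144 : ∀ i, i < 11144 → P i := stepQ 11143 Q11143 (allL N11143 (tt N11737 (iv F71398)) (tt N10558 F69303) (tt N11754 (iv F71452)) (tt N10542 F69304) (tt N11752 (iv F71449)) (tt N10702 F69305) (tt N10541 (iv D17601)) (tt N11749 (iv F71443)) (tt N11705 (iv F71302)))
theorem Q11145 : ∀ i, i < 11145 → P i := stepQ 11144 Q11144 (allL N11144 (tt N11043 F69306) (tt N10775 (iv F69310)) (tt N10543 (iv D17602)) (tt N10564 F69307) (tt N11755 D18213) (tt N11270 (iv F69698)) (tt N10800 F69308) (tt N11217 (iv F69544)) (tt N10767 F69309))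
theorem Q11146 : ∀ i, i < 11146 → P i := stepQ 11145 Q11145 (allL N11145 (tt N11611 (iv F70980)) (tt N11739 (iv F71406)) (tt N11755 (iv F71456)) (tt N10547 F69311) (tt N10543 (iv D17603)) (tt N11756 D18214) (tt N11147 (iv F69316)) (tt N11487 (iv F70547)) (tt N11146 (iv F69314)))
theorem Q11147 : ∀ i, i < 11147 → P i := stepQ 11146 Q11146 (allL N11146 (tt N11612 (iv F70982)) (tt N11740 (iv F71408)) (tt N11357 (iv F70038)) (tt N11147 (iv F69315)) (tt N10544 (iv D17604)) (tt N11757 D18215) (tt N10547 F69312) (tt N10553 F69313) (tt N11145 F69314))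
theorem Q11148 : ∀ i, i < 11148 → P i := stepQ 11147 Q11147 (allL N11147 (tt N11613 (iv F70986)) (tt N11741 (iv F71412)) (tt N11387 (iv F70166)) (tt N11146 F69315) (tt N10545 (iv D17605)) (tt N11758 D18216) (tt N11145 F69316) (tt N11709 (iv F71315)) (tt N10547 F69317))
theorem Q11149 : ∀ i, i < 11149 → P i := stepQ 11148 Q11148 (allL N11148 (tt N11614 (iv F70990)) (tt N11029 F69318) (tt N10547 F69319) (tt N11027 F69320) (tt N10546 (iv D17606)) (tt N11759 D18217) (tt N11357 (iv F70039)) (tt N10554 F69321) (tt N11387 (iv F70168)))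
theorem Q11150 : ∀ i, i < 11150 → P i := stepQ 11149 Q11149 (allL N11149 (tt N11615 (iv F70995)) (tt N11743 (iv F71420)) (tt N11759 (iv F71467)) (tt N11756 (iv F71460)) (tt N10552 F69322) (tt N10547 (iv D17607)) (tt N11760 D18218) (tt N10555 F69323) (tt N11758 (iv F71465)))
theorem Q11151 : ∀ i, i < 11151 → P i := stepQ 11150 Q11150 (allL N11150 (tt N11616 (iv F70998)) (tt N11394 (iv F70192)) (tt N10549 F69324) (tt N11662 (iv F71170)) (tt N10548 (iv D17608)) (tt N11761 D18219) (tt N11568 (iv F70834)) (tt N11585 (iv F70897)) (tt N10551 F69325))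
theorem Q11152 : ∀ i, i < 11152 → P i := stepQ 11151 Q11151 (allL N11151 (tt N11617 (iv F71004)) (tt N11745 (iv F71426)) (tt N11761 (iv F71473)) (tt N11281 (iv F69721)) (tt N11758 (iv F71464)) (tt N10549 (iv D17609)) (tt N11762 D18220) (tt N11711 (iv F71319)) (tt N10552 F69326))
theorem Q11153 : ∀ i, i < 11153 → P i := stepQ 11152 Q11152 (allL N11152 (tt N11450 (iv F70420)) (tt N10551 F69327) (tt N11746 (iv F71430)) (tt N11249 (iv F69641)) (tt N10550 (iv D17610)) (tt N11763 D18221) (tt N11561 (iv F70808)) (tt N10556 F69328) (tt N11394 (iv F70194)))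
theorem Q11154 : ∀ i, i < 11154 → P i := stepQ 11153 Q11153 (allL N11153 (tt N11618 (iv F71006)) (tt N11249 (iv F69640)) (tt N11284 (iv F69727)) (tt N10551 (iv D17611)) (tt N10565 F69329) (tt N11764 D18222) (tt N11545 (iv F70753)) (tt N11534 (iv F70715)) (tt N11662 (iv F71171)))
theorem Q11155 : ∀ i, i < 11155 → P i := stepQ 11154 Q11154 (allL N11154 (tt N11619 (iv F71011)) (tt N11763 (iv F71476)) (tt N10552 F69330) (tt N11764 (iv F71479)) (tt N11759 (iv F71469)) (tt N10551 (iv D17612)) (tt N11765 D18223) (tt N10557 F69331) (tt N11761 (iv F71474)))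
theorem Q11156 : ∀ i, i < 11156 → P i := stepQ 11155 Q11155 (allL N11155 (tt N11620 (iv F71015)) (tt N11749 (iv F71440)) (tt N11765 (iv F71481)) (tt N11286 (iv F69731)) (tt N11760 (iv F71471)) (tt N11721 (iv F71347)) (tt N10552 (iv D17613)) (tt N10558 F69332) (tt N11762 (iv F71475)))
theorem Q11157 : ∀ i, i < 11157 → P i := stepQ 11156 Q11156 (allL N11156 (tt N11621 (iv F71017)) (tt N11750 (iv F71444)) (tt N11359 (iv F70048)) (tt N11502 (iv F70578)) (tt N11722 (iv F71350)) (tt N10553 (iv D17614)) (tt N11766 D18224) (tt N11757 (iv F71461)) (tt N11713 (iv F71322)))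
theorem Q11158 : ∀ i, i < 11158 → P i := stepQ 11157 Q11157 (allL N11157 (tt N11622 (iv F71018)) (tt N11350 (iv F70004)) (tt N10555 F69333) (tt N11348 (iv F69997)) (tt N10557 F69334) (tt N10554 (iv D17615)) (tt N11767 D18225) (tt N11759 (iv F71470)) (tt N11587 (iv F70905)))
theorem Q11159 : ∀ i, i < 11159 → P i := stepQ 11158 Q11158 (allL N11158 (tt N11623 (iv F71023)) (tt N11752 (iv F71448)) (tt N11767 (iv F71484)) (tt N11505 (iv F70585)) (tt N10558 F69335) (tt N11766 (iv F71483)) (tt N10555 (iv D17616)) (tt N11760 (iv F71472)) (tt N11714 (iv F71324)))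
theorem Q11160 : ∀ i, i < 11160 → P i := stepQ 11159 Q11159 (allL N11159 (tt N11457 (iv F70446)) (tt N10557 F69336) (tt N11753 (iv F71451)) (tt N11557 (iv F70792)) (tt N11350 (iv F70006)) (tt N10556 (iv D17617)) (tt N11768 D18226) (tt N11763 (iv F71478)) (tt N11580 (iv F70881)))
theorem Q11161 : ∀ i, i < 11161 → P i := stepQ 11160 Q11160 (allL N11160 (tt N11624 (iv F71025)) (tt N11768 (iv F71486)) (tt N10558 F69337) (tt N11558 (iv F70796)) (tt N11767 (iv F71485)) (tt N11571 (iv F70847)) (tt N10557 (iv D17618)) (tt N11765 (iv F71482)) (tt N11588 (iv F70910)))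
theorem Q11162 : ∀ i, i < 11162 → P i := stepQ 11161 Q11161 (allL N11161 (tt N11530 (iv F70692)) (tt N11298 (iv F69757)) (tt N10559 (iv D17619)) (tt N11715 (iv F71325)) (tt N11297 F69755) (tt N11172 (iv F69393)) (tt N10706 F69338) (tt N11161 F69339) (tt N10705 F69340))
theorem Q11163 : ∀ i, i < 11163 → P i := stepQ 11162 Q11162 (allL N11162 (tt N10657 F69341) (tt N10566 (iv D17620)) (tt N10568 F69342) (tt N11690 (iv F71250)) (tt N10567 F69343) (tt N10658 F69344) (tt N10627 F69345) (tt N11162 F69346) (tt N10570 F69347))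
theorem Q11164 : ∀ i, i < 11164 → P i := stepQ 11163 Q11163 (allL N11163 (tt N10571 (iv D17621)) (tt N11163 F69348) (tt N11654 (iv F71135)) (tt N10718 F69349) (tt N11168 (iv F69375)) (tt N10722 F69350) (tt N10575 F69351) (tt N10611 F69352) (tt N11165 (iv F69361)))
theorem Q11165 : ∀ i, i < 11165 → P i := stepQ 11164 Q11164 (allL N11164 (tt N11769 D18227) (tt N10572 (iv D17622)) (tt N10573 F69353) (tt N11663 (iv F71173)) (tt N11172 (iv F69392)) (tt N11301 (iv F69775)) (tt N10672 F69354) (tt N11164 F69355) (tt N11053 F69356))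
theorem Q11166 : ∀ i, i < 11166 → P i := stepQ 11165 Q11165 (allL N11165 (tt N10573 (iv D17623)) (tt N11165 F69357) (tt N11769 (iv F71487)) (tt N10575 F69358) (tt N11167 (iv F69369)) (tt N11306 (iv F69795)) (tt N10718 F69359) (tt N11165 F69360) (tt N11163 F69361))
theorem Q11167 : ∀ i, i < 11167 → P i := stepQ 11166 Q11166 (allL N11166 (tt N10574 (iv D17624)) (tt N11166 F69362) (tt N11685 (iv F71229)) (tt N11306 (iv F69794)) (tt N10601 F69363) (tt N10575 F69364) (tt N10952 F69365) (tt N10605 F69366) (tt N11305 (iv F69791)))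
theorem Q11168 : ∀ i, i < 11168 → P i := stepQ 11167 Q11167 (allL N11167 (tt N10585 F69367) (tt N11167 F69368) (tt N11770 D18228) (tt N10576 (iv D17625)) (tt N11165 F69369) (tt N11020 F69370) (tt N10921 F69371) (tt N11167 F69372) (tt N11168 (iv F69379)))
theorem Q11169 : ∀ i, i < 11169 → P i := stepQ 11168 Q11168 (allL N11168 (tt N10586 F69373) (tt N11168 F69374) (tt N11378 (iv F70119)) (tt N10577 (iv D17626)) (tt N11163 F69375) (tt N10647 F69376) (tt N10579 F69377) (tt N10582 F69378) (tt N11167 F69379))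
theorem Q11170 : ∀ i, i < 11170 → P i := stepQ 11169 Q11169 (allL N11169 (tt N10587 F69380) (tt N11511 (iv F70602)) (tt N10579 (iv D17627)) (tt N11726 (iv F71365)) (tt N11080 F69381) (tt N10581 F69382) (tt N11378 (iv F70121)) (tt N10583 F69383) (tt N11400 (iv F70215)))
theorem Q11171 : ∀ i, i < 11171 → P i := stepQ 11170 Q11170 (allL N11170 (tt N10588 F69384) (tt N11771 D18229) (tt N10580 (iv D17628)) (tt N11728 (iv F71371)) (tt N11182 (iv F69441)) (tt N11400 (iv F70213)) (tt N10650 F69385) (tt N11170 F69386) (tt N10581 F69387))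
theorem Q11172 : ∀ i, i < 11172 → P i := stepQ 11171 Q11171 (allL N11171 (tt N11509 (iv F70593)) (tt N10581 (iv D17629)) (tt N11171 F69388) (tt N11730 (iv F71378)) (tt N11183 (iv F69445)) (tt N11511 (iv F70604)) (tt N10652 F69389) (tt N10584 F69390) (tt N11771 (iv F71501)))
theorem Q11173 : ∀ i, i < 11173 → P i := stepQ 11172 Q11172 (allL N11172 (tt N11770 (iv F71491)) (tt N10786 F69391) (tt N10585 (iv D17630)) (tt N11738 (iv F71402)) (tt N11164 F69392) (tt N11161 F69393) (tt N10811 F69394) (tt N11172 F69395) (tt N10787 F69396))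
theorem Q11174 : ∀ i, i < 11174 → P i := stepQ 11173 Q11173 (allL N11173 (tt N11182 (iv F69440)) (tt N11399 (iv F70205)) (tt N10589 F69397) (tt N11772 D18230) (tt N10588 (iv D17631)) (tt N11254 (iv F69651)) (tt N10711 F69398) (tt N11173 F69399) (tt N10591 F69400))
theorem Q11175 : ∀ i, i < 11175 → P i := stepQ 11174 Q11174 (allL N11174 (tt N11510 (iv F70598)) (tt N10591 F69401) (tt N10594 F69402) (tt N11773 D18231) (tt N10590 (iv D17632)) (tt N11079 F69403) (tt N10713 F69404) (tt N10592 F69405) (tt N11399 (iv F70210)))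
theorem Q11176 : ∀ i, i < 11176 → P i := stepQ 11175 Q11175 (allL N11175 (tt N11068 F69406) (tt N11773 (iv F71506)) (tt N10946 F69407) (tt N10591 (iv D17633)) (tt N11747 (iv F71435)) (tt N11676 (iv F71215)) (tt N10714 F69408) (tt N10948 F69409) (tt N11772 (iv F71505)))
theorem Q11177 : ∀ i, i < 11177 → P i := stepQ 11176 Q11176 (allL N11176 (tt N11774 D18232) (tt N10595 (iv D17634)) (tt N11176 F69410) (tt N10608 F69411) (tt N11775 D18233) (tt N10597 F69412) (tt N11184 (iv F69450)) (tt N11552 (iv F70771)) (tt N11176 F69413))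
theorem Q11178 : ∀ i, i < 11178 → P i := stepQ 11177 Q11177 (allL N11177 (tt N10608 F69414) (tt N11775 (iv F71517)) (tt N10596 F69415) (tt N11774 (iv F71512)) (tt N10595 (iv D17635)) (tt N10908 F69416) (tt N11185 (iv F69455)) (tt N11553 (iv F70775)) (tt N11177 F69417))
theorem Q11179 : ∀ i, i < 11179 → P i := stepQ 11178 Q11178 (allL N11178 (tt N10597 (iv D17636)) (tt N10609 F69418) (tt N11178 F69419) (tt N10908 F69420) (tt N10909 F69421) (tt N11774 (iv F71513)) (tt N10917 F69422) (tt N11554 (iv F70780)) (tt N11178 F69423))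
theorem Q11180 : ∀ i, i < 11180 → P i := stepQ 11179 Q11179 (allL N11179 (tt N10598 (iv D17637)) (tt N10917 F69424) (tt N10611 F69425) (tt N11238 (iv F69611)) (tt N10788 F69426) (tt N10715 F69427) (tt N10609 F69428) (tt N11654 (iv F71139)) (tt N11179 F69429))
theorem Q11181 : ∀ i, i < 11181 → P i := stepQ 11180 Q11180 (allL N11180 (tt N10669 F69430) (tt N11180 F69431) (tt N11776 D18234) (tt N10600 (iv D17638)) (tt N11305 (iv F69787)) (tt N10602 F69432) (tt N10618 F69433) (tt N11180 F69434) (tt N10601 F69435))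
theorem Q11182 : ∀ i, i < 11182 → P i := stepQ 11181 Q11181 (allL N11181 (tt N11077 F69436) (tt N11777 D18235) (tt N10601 (iv D17639)) (tt N11669 (iv F71197)) (tt N11685 (iv F71230)) (tt N10603 F69437) (tt N10951 F69438) (tt N10604 F69439) (tt N11776 (iv F71527)))
theorem Q11183 : ∀ i, i < 11183 → P i := stepQ 11182 Q11182 (allL N11182 (tt N11173 F69440) (tt N11778 D18236) (tt N10602 (iv D17640)) (tt N11671 (iv F71203)) (tt N11170 F69441) (tt N11776 (iv F71524)) (tt N11234 (iv F69591)) (tt N11182 F69442) (tt N10603 F69443))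
theorem Q11184 : ∀ i, i < 11184 → P i := stepQ 11183 Q11183 (allL N11183 (tt N11779 D18237) (tt N10603 (iv D17641)) (tt N11183 F69444) (tt N11673 (iv F71207)) (tt N11171 F69445) (tt N11777 (iv F71529)) (tt N11236 (iv F69601)) (tt N10606 F69446) (tt N11778 (iv F71535)))
theorem Q11185 : ∀ i, i < 11185 → P i := stepQ 11184 Q11184 (allL N11184 (tt N11775 (iv F71516)) (tt N10604 (iv D17642)) (tt N11184 F69447) (tt N10607 F69448) (tt N11774 F71515) (tt N10606 F69449) (tt N11176 F69450) (tt N11777 (iv F71531)) (tt N11184 F69451))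
theorem Q11186 : ∀ i, i < 11186 → P i := stepQ 11185 Q11185 (allL N11185 (tt N10607 F69452) (tt N11774 (iv F71510)) (tt N10605 F69453) (tt N11775 (iv F71519)) (tt N10604 (iv D17643)) (tt N10609 F69454) (tt N11177 F69455) (tt N11685 (iv F71233)) (tt N11185 F69456))
theorem Q11187 : ∀ i, i < 11187 → P i := stepQ 11186 Q11186 (allL N11186 (tt N10606 (iv D17644)) (tt N10908 F69457) (tt N11186 F69458) (tt N10609 F69459) (tt N10907 F69460) (tt N11775 (iv F71520)) (tt N11238 (iv F69613)) (tt N11779 (iv F71539)) (tt N11186 F69461))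
theorem Q11188 : ∀ i, i < 11188 → P i := stepQ 11187 Q11187 (allL N11187 (tt N11297 F69754) (tt N11242 (iv F69618)) (tt N10610 (iv D17645)) (tt N11706 (iv F71303)) (tt N11530 (iv F70695)) (tt N11300 (iv F69770)) (tt N10910 F69462) (tt N11187 F69463) (tt N10793 F69464))
theorem Q11189 : ∀ i, i < 11189 → P i := stepQ 11188 Q11188 (allL N11188 (tt N11243 (iv F69622)) (tt N10616 F69465) (tt N11780 D18238) (tt N10612 (iv D17646)) (tt N11781 D18239) (tt N11191 (iv F69474)) (tt N11536 (iv F70722)) (tt N11192 (iv F69479)) (tt N10942 F69466))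
theorem Q11190 : ∀ i, i < 11190 → P i := stepQ 11189 Q11189 (allL N11189 (tt N11532 (iv F70702)) (tt N11309 (iv F69810)) (tt N10613 (iv D17647)) (tt N11189 F69467) (tt N11782 D18240) (tt N11436 (iv F70351)) (tt N11537 (iv F70726)) (tt N10620 F69468) (tt N10943 F69469))
theorem Q11191 : ∀ i, i < 11191 → P i := stepQ 11190 Q11190 (allL N11190 (tt N11533 (iv F70707)) (tt N10617 F69470) (tt N11782 (iv F71545)) (tt N11781 (iv F71543)) (tt N10613 (iv D17648)) (tt N11783 D18241) (tt N11538 (iv F70731)) (tt N10621 F69471) (tt N10944 F69472))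
theorem Q11192 : ∀ i, i < 11192 → P i := stepQ 11191 Q11191 (allL N11191 (tt N10663 F69473) (tt N11192 (iv F69477)) (tt N11784 D18242) (tt N10614 (iv D17649)) (tt N11785 D18243) (tt N11188 F69474) (tt N11655 (iv F71141)) (tt N10616 F69475) (tt N11539 (iv F70737)))
theorem Q11193 : ∀ i, i < 11193 → P i := stepQ 11192 Q11192 (allL N11192 (tt N10665 F69476) (tt N11191 F69477) (tt N11786 D18244) (tt N10615 (iv D17650)) (tt N11787 D18245) (tt N10616 F69478) (tt N11668 (iv F71194)) (tt N11188 F69479) (tt N10947 F69480))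
theorem Q11194 : ∀ i, i < 11194 → P i := stepQ 11193 Q11193 (allL N11193 (tt N10666 F69481) (tt N11788 D18246) (tt N10616 (iv D17651)) (tt N10619 F69482) (tt N11789 D18247) (tt N11786 (iv F71560)) (tt N11515 (iv F70624)) (tt N11784 (iv F71554)) (tt N10948 F69483))
theorem Q11195 : ∀ i, i < 11195 → P i := stepQ 11194 Q11194 (allL N11194 (tt N10667 F69484) (tt N11781 (iv F71542)) (tt N11789 (iv F71571)) (tt N10617 F69485) (tt N10616 (iv D17652)) (tt N11790 D18248) (tt N11656 (iv F71145)) (tt N11785 (iv F71557)) (tt N10949 F69486))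
theorem Q11196 : ∀ i, i < 11196 → P i := stepQ 11195 Q11195 (allL N11195 (tt N10668 F69487) (tt N11783 (iv F71548)) (tt N11315 (iv F69836)) (tt N11790 (iv F71574)) (tt N11519 (iv F70640)) (tt N10617 (iv D17653)) (tt N11791 D18249) (tt N10626 F69488) (tt N10950 F69489))
theorem Q11197 : ∀ i, i < 11197 → P i := stepQ 11196 Q11196 (allL N11196 (tt N10670 F69490) (tt N11792 D18250) (tt N10618 (iv D17654)) (tt N11786 (iv F71559)) (tt N11793 D18251) (tt N10619 F69491) (tt N11776 (iv F71525)) (tt N11196 F69492) (tt N10951 F69493))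
theorem Q11198 : ∀ i, i < 11198 → P i := stepQ 11197 Q11197 (allL N11197 (tt N10671 F69494) (tt N11197 F69495) (tt N11793 (iv F71584)) (tt N10905 F69496) (tt N10618 (iv D17655)) (tt N11317 (iv F69847)) (tt N11305 (iv F69789)) (tt N11197 F69497) (tt N10952 F69498))
theorem Q11199 : ∀ i, i < 11199 → P i := stepQ 11198 Q11198 (allL N11198 (tt N11794 D18252) (tt N10619 (iv D17656)) (tt N11198 F69499) (tt N11788 (iv F71568)) (tt N11318 (iv F69852)) (tt N11792 (iv F71580)) (tt N11514 (iv F70619)) (tt N11198 F69500) (tt N10953 F69501))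
theorem Q11200 : ∀ i, i < 11200 → P i := stepQ 11199 Q11199 (allL N11199 (tt N11556 (iv F70785)) (tt N11330 (iv F69917)) (tt N10621 F69502) (tt N11795 D18253) (tt N10620 (iv D17657)) (tt N11796 D18254) (tt N11559 (iv F70801)) (tt N11782 (iv F71546)) (tt N10632 F69503))
theorem Q11201 : ∀ i, i < 11201 → P i := stepQ 11200 Q11200 (allL N11200 (tt N11557 (iv F70790)) (tt N10626 F69504) (tt N11796 (iv F71593)) (tt N11457 (iv F70448)) (tt N11439 (iv F70366)) (tt N10621 (iv D17658)) (tt N11797 D18255) (tt N11783 (iv F71549)) (tt N10633 F69505))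
theorem Q11202 : ∀ i, i < 11202 → P i := stepQ 11201 Q11201 (allL N11201 (tt N10676 F69506) (tt N11312 (iv F69823)) (tt N11798 D18256) (tt N10622 (iv D17659)) (tt N11799 D18257) (tt N11308 (iv F69806)) (tt N11687 (iv F71238)) (tt N10637 F69507) (tt N10623 F69508))
theorem Q11203 : ∀ i, i < 11203 → P i := stepQ 11202 Q11202 (allL N11202 (tt N10677 F69509) (tt N11800 D18258) (tt N10623 (iv D17660)) (tt N11202 F69510) (tt N11801 D18259) (tt N11442 (iv F70380)) (tt N11688 (iv F71243)) (tt N10624 F69511) (tt N11798 (iv F71600)))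
theorem Q11204 : ∀ i, i < 11204 → P i := stepQ 11203 Q11203 (allL N11203 (tt N10678 F69512) (tt N11450 (iv F70421)) (tt N11801 (iv F71607)) (tt N11785 (iv F71556)) (tt N10623 (iv D17661)) (tt N11802 D18260) (tt N11689 (iv F71246)) (tt N10625 F69513) (tt N11799 (iv F71603)))
theorem Q11205 : ∀ i, i < 11205 → P i := stepQ 11204 Q11204 (allL N11204 (tt N11518 (iv F70631)) (tt N10624 (iv D17662)) (tt N11455 (iv F70437)) (tt N10627 F69514) (tt N11803 D18261) (tt N11444 (iv F70391)) (tt N11690 (iv F71252)) (tt N11800 (iv F71605)) (tt N10642 F69515))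
theorem Q11206 : ∀ i, i < 11206 → P i := stepQ 11205 Q11205 (allL N11205 (tt N10681 F69516) (tt N11803 (iv F71611)) (tt N10625 F69517) (tt N11339 (iv F69957)) (tt N10624 (iv D17663)) (tt N11804 D18262) (tt N11691 (iv F71256)) (tt N11801 (iv F71608)) (tt N10643 F69518))
theorem Q11207 : ∀ i, i < 11207 → P i := stepQ 11206 Q11206 (allL N11206 (tt N10682 F69519) (tt N11457 (iv F70447)) (tt N11804 (iv F71614)) (tt N10626 F69520) (tt N11446 (iv F70402)) (tt N10625 (iv D17664)) (tt N11805 D18263) (tt N11802 (iv F71610)) (tt N10644 F69521))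
theorem Q11208 : ∀ i, i < 11208 → P i := stepQ 11207 Q11207 (allL N11207 (tt N10683 F69522) (tt N11797 (iv F71595)) (tt N11341 (iv F69963)) (tt N11805 (iv F71617)) (tt N11520 (iv F70646)) (tt N11693 (iv F71262)) (tt N10626 (iv D17665)) (tt N11791 (iv F71577)) (tt N10645 F69523))
theorem Q11209 : ∀ i, i < 11209 → P i := stepQ 11208 Q11208 (allL N11208 (tt N11389 (iv F70172)) (tt N10637 F69524) (tt N11806 D18264) (tt N10628 (iv D17666)) (tt N11807 D18265) (tt N11311 (iv F69818)) (tt N11589 (iv F70914)) (tt N11312 (iv F69825)) (tt N10629 F69525))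
theorem Q11210 : ∀ i, i < 11210 → P i := stepQ 11209 Q11209 (allL N11209 (tt N11577 (iv F70864)) (tt N11808 D18266) (tt N10629 (iv D17667)) (tt N11209 F69526) (tt N11809 D18267) (tt N11403 (iv F70228)) (tt N11590 (iv F70918)) (tt N10630 F69527) (tt N11806 (iv F71620)))
theorem Q11211 : ∀ i, i < 11211 → P i := stepQ 11210 Q11210 (allL N11210 (tt N11578 (iv F70869)) (tt N10639 F69528) (tt N11809 (iv F71627)) (tt N10998 F69529) (tt N10629 (iv D17668)) (tt N11810 D18268) (tt N11591 (iv F70923)) (tt N10631 F69530) (tt N11807 (iv F71623)))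
theorem Q11212 : ∀ i, i < 11212 → P i := stepQ 11211 Q11211 (allL N11211 (tt N11690 (iv F71248)) (tt N10630 (iv D17669)) (tt N10642 F69531) (tt N10657 F69532) (tt N11811 D18269) (tt N11405 (iv F70236)) (tt N11518 (iv F70635)) (tt N11808 (iv F71626)) (tt N11455 (iv F70441)))
theorem Q11213 : ∀ i, i < 11213 → P i := stepQ 11212 Q11212 (allL N11212 (tt N11579 (iv F70873)) (tt N11811 (iv F71632)) (tt N10631 F69533) (tt N11812 D18270) (tt N10630 (iv D17670)) (tt N11813 D18271) (tt N11592 (iv F70927)) (tt N11809 (iv F71628)) (tt N11456 (iv F70445)))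
theorem Q11214 : ∀ i, i < 11214 → P i := stepQ 11213 Q11213 (allL N11213 (tt N11580 (iv F70878)) (tt N10644 F69534) (tt N11813 (iv F71636)) (tt N10633 F69535) (tt N11407 (iv F70246)) (tt N10631 (iv D17671)) (tt N11814 D18272) (tt N11810 (iv F71631)) (tt N11457 (iv F70450)))
theorem Q11215 : ∀ i, i < 11215 → P i := stepQ 11214 Q11214 (allL N11214 (tt N11581 (iv F70882)) (tt N11360 (iv F70051)) (tt N11812 (iv F71634)) (tt N10632 (iv D17672)) (tt N10659 F69536) (tt N11815 D18273) (tt N11503 (iv F70582)) (tt N11816 D18274) (tt N11795 (iv F71592)))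
theorem Q11216 : ∀ i, i < 11216 → P i := stepQ 11215 Q11215 (allL N11215 (tt N11582 (iv F70886)) (tt N11361 (iv F70055)) (tt N10633 F69537) (tt N11815 (iv F71639)) (tt N11526 (iv F70677)) (tt N10632 (iv D17673)) (tt N11817 D18275) (tt N11004 F69538) (tt N11796 (iv F71594)))
theorem Q11217 : ∀ i, i < 11217 → P i := stepQ 11216 Q11216 (allL N11216 (tt N11583 (iv F70888)) (tt N10645 F69539) (tt N11817 (iv F71642)) (tt N11814 (iv F71638)) (tt N11527 (iv F70680)) (tt N11595 (iv F70937)) (tt N10633 (iv D17674)) (tt N11005 F69540) (tt N11797 (iv F71596)))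
theorem Q11218 : ∀ i, i < 11218 → P i := stepQ 11217 Q11217 (allL N11217 (tt N10684 F69541) (tt N11333 (iv F69929)) (tt N10886 F69542) (tt N10634 (iv D17675)) (tt N11818 D18276) (tt N11006 F69543) (tt N11386 (iv F70162)) (tt N11144 F69544) (tt N11328 (iv F69910)))
theorem Q11219 : ∀ i, i < 11219 → P i := stepQ 11218 Q11218 (allL N11218 (tt N10686 F69545) (tt N11311 (iv F69817)) (tt N11819 D18277) (tt N10635 (iv D17676)) (tt N11820 D18278) (tt N10637 F69546) (tt N11411 (iv F70262)) (tt N11308 (iv F69808)) (tt N10636 F69547))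
theorem Q11220 : ∀ i, i < 11220 → P i := stepQ 11219 Q11219 (allL N11219 (tt N10687 F69548) (tt N11626 (iv F71037)) (tt N10636 (iv D17677)) (tt N10649 F69549) (tt N11821 D18279) (tt N10638 F69550) (tt N11412 (iv F70267)) (tt N10640 F69551) (tt N11819 (iv F71651)))
theorem Q11221 : ∀ i, i < 11221 → P i := stepQ 11220 Q11220 (allL N11220 (tt N10688 F69552) (tt N11404 (iv F70231)) (tt N11821 (iv F71655)) (tt N11818 (iv F71646)) (tt N10636 (iv D17678)) (tt N11822 D18280) (tt N11413 (iv F70272)) (tt N10641 F69553) (tt N11820 (iv F71653)))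
theorem Q11222 : ∀ i, i < 11222 → P i := stepQ 11221 Q11221 (allL N11221 (tt N10689 F69554) (tt N11823 D18281) (tt N10637 (iv D17679)) (tt N10650 F69555) (tt N11824 D18282) (tt N11819 (iv F71650)) (tt N11728 (iv F71372)) (tt N11798 (iv F71599)) (tt N10638 F69556))
theorem Q11223 : ∀ i, i < 11223 → P i := stepQ 11222 Q11222 (allL N11222 (tt N10690 F69557) (tt N11807 (iv F71621)) (tt N11824 (iv F71664)) (tt N11012 F69558) (tt N10637 (iv D17680)) (tt N11825 D18283) (tt N11729 (iv F71376)) (tt N11799 (iv F71602)) (tt N10639 F69559))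
theorem Q11224 : ∀ i, i < 11224 → P i := stepQ 11223 Q11223 (allL N11223 (tt N11826 D18284) (tt N10638 (iv D17681)) (tt N11808 (iv F71624)) (tt N10652 F69560) (tt N11827 D18285) (tt N11626 (iv F71039)) (tt N11730 (iv F71379)) (tt N10642 F69561) (tt N11823 (iv F71662)))
theorem Q11225 : ∀ i, i < 11225 → P i := stepQ 11224 Q11224 (allL N11224 (tt N10692 F69562) (tt N11827 (iv F71673)) (tt N10639 F69563) (tt N11828 D18286) (tt N10638 (iv D17682)) (tt N11829 D18287) (tt N11731 (iv F71384)) (tt N10643 F69564) (tt N11824 (iv F71665)))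
theorem Q11226 : ∀ i, i < 11226 → P i := stepQ 11225 Q11225 (allL N11225 (tt N10693 F69565) (tt N11810 (iv F71629)) (tt N11829 (iv F71681)) (tt N11014 F69566) (tt N11822 (iv F71659)) (tt N10639 (iv D17683)) (tt N11830 D18288) (tt N10644 F69567) (tt N11825 (iv F71668)))
theorem Q11227 : ∀ i, i < 11227 → P i := stepQ 11226 Q11226 (allL N11226 (tt N10697 F69568) (tt N11581 (iv F70883)) (tt N10641 F69569) (tt N11521 (iv F70652)) (tt N10640 (iv D17684)) (tt N11831 D18289) (tt N11415 (iv F70283)) (tt N11821 (iv F71657)) (tt N11445 (iv F70398)))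
theorem Q11228 : ∀ i, i < 11228 → P i := stepQ 11227 Q11227 (allL N11227 (tt N10698 F69570) (tt N11407 (iv F70244)) (tt N11831 (iv F71687)) (tt N11402 (iv F70224)) (tt N10644 F69571) (tt N10641 (iv D17685)) (tt N11832 D18290) (tt N11822 (iv F71660)) (tt N11446 (iv F70403)))
theorem Q11229 : ∀ i, i < 11229 → P i := stepQ 11228 Q11228 (allL N11228 (tt N10642 (iv D17686)) (tt N10699 F69572) (tt N11690 (iv F71249)) (tt N10646 F69573) (tt N11833 D18291) (tt N10659 F69574) (tt N11455 (iv F70440)) (tt N11826 (iv F71672)) (tt N11518 (iv F70636)))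
theorem Q11230 : ∀ i, i < 11230 → P i := stepQ 11229 Q11229 (allL N11229 (tt N11833 (iv F71691)) (tt N10643 F69575) (tt N11811 (iv F71633)) (tt N11375 (iv F70111)) (tt N10642 (iv D17687)) (tt N11834 D18292) (tt N11735 (iv F71395)) (tt N11827 (iv F71674)) (tt N11803 (iv F71612)))
theorem Q11231 : ∀ i, i < 11231 → P i := stepQ 11230 Q11230 (allL N11230 (tt N10701 F69576) (tt N11834 (iv F71693)) (tt N10644 F69577) (tt N11376 (iv F70115)) (tt N11831 (iv F71688)) (tt N10643 (iv D17688)) (tt N11835 D18293) (tt N11829 (iv F71682)) (tt N11804 (iv F71615)))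
theorem Q11232 : ∀ i, i < 11232 → P i := stepQ 11231 Q11231 (allL N11231 (tt N10702 F69578) (tt N11814 (iv F71637)) (tt N11835 (iv F71695)) (tt N10645 F69579) (tt N11832 (iv F71690)) (tt N11737 (iv F71400)) (tt N10644 (iv D17689)) (tt N11830 (iv F71685)) (tt N11805 (iv F71618)))
theorem Q11233 : ∀ i, i < 11233 → P i := stepQ 11232 Q11232 (allL N11232 (tt N10706 F69580) (tt N11628 (iv F71043)) (tt N10648 (iv D17690)) (tt N11819 (iv F71649)) (tt N10910 F69581) (tt N10650 F69582) (tt N11530 (iv F70696)) (tt N11232 F69583) (tt N10649 F69584))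
theorem Q11234 : ∀ i, i < 11234 → P i := stepQ 11233 Q11233 (allL N11233 (tt N11836 D18294) (tt N10650 (iv D17691)) (tt N11233 F69585) (tt N11823 (iv F71661)) (tt N11837 D18295) (tt N11628 (iv F71046)) (tt N11771 (iv F71499)) (tt N11233 F69586) (tt N10652 F69587))
theorem Q11235 : ∀ i, i < 11235 → P i := stepQ 11234 Q11234 (allL N11234 (tt N10711 F69588) (tt N11837 (iv F71701)) (tt N10651 F69589) (tt N11838 D18296) (tt N10650 (iv D17692)) (tt N10913 F69590) (tt N11182 F69591) (tt N11234 F69592) (tt N10653 F69593))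
theorem Q11236 : ∀ i, i < 11236 → P i := stepQ 11235 Q11235 (allL N11235 (tt N10652 (iv D17693)) (tt N10712 F69594) (tt N11235 F69595) (tt N11826 (iv F71670)) (tt N11839 D18297) (tt N10660 F69596) (tt N11509 (iv F70596)) (tt N10654 F69597) (tt N11836 (iv F71700)))
theorem Q11237 : ∀ i, i < 11237 → P i := stepQ 11236 Q11236 (allL N11236 (tt N11839 (iv F71712)) (tt N10653 F69598) (tt N11236 F69599) (tt N11840 D18298) (tt N10652 (iv D17694)) (tt N10915 F69600) (tt N11183 F69601) (tt N10655 F69602) (tt N11837 (iv F71706)))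
theorem Q11238 : ∀ i, i < 11238 → P i := stepQ 11237 Q11237 (allL N11237 (tt N10714 F69603) (tt N11840 (iv F71718)) (tt N11022 F69604) (tt N10653 (iv D17695)) (tt N11828 (iv F71677)) (tt N10916 F69605) (tt N11068 F69606) (tt N11050 F69607) (tt N11838 (iv F71711)))
theorem Q11239 : ∀ i, i < 11239 → P i := stepQ 11238 Q11238 (allL N11238 (tt N10655 F69608) (tt N10715 F69609) (tt N11238 F69610) (tt N11179 F69611) (tt N10654 (iv D17696)) (tt N10917 F69612) (tt N11186 F69613) (tt N11839 (iv F71717)) (tt N11238 F69614))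
theorem Q11240 : ∀ i, i < 11240 → P i := stepQ 11239 Q11239 (allL N11239 (tt N11444 (iv F70388)) (tt N11379 (iv F70124)) (tt N11458 (iv F70452)) (tt N10656 (iv D17697)) (tt N11795 (iv F71591)) (tt N11518 (iv F70634)) (tt N11429 (iv F70327)) (tt N11841 D18299) (tt N10659 F69615))
theorem Q11241 : ∀ i, i < 11241 → P i := stepQ 11240 Q11240 (allL N11240 (tt N11405 F70239) (tt N11480 (iv F70525)) (tt N10659 F69616) (tt N10658 (iv D17698)) (tt N11812 (iv F71635)) (tt N11690 (iv F71251)) (tt N11432 (iv F70338)) (tt N11842 D18300) (tt N11458 (iv F70456)))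
theorem Q11242 : ∀ i, i < 11242 → P i := stepQ 11241 Q11241 (allL N11241 (tt N11626 (iv F71036)) (tt N11380 (iv F70130)) (tt N11842 (iv F71723)) (tt N10660 F69617) (tt N11816 (iv F71641)) (tt N11826 (iv F71671)) (tt N11491 (iv F70557)) (tt N10659 (iv D17699)) (tt N11843 D18301))
theorem Q11243 : ∀ i, i < 11243 → P i := stepQ 11242 Q11242 (allL N11242 (tt N11628 (iv F71042)) (tt N11187 F69618) (tt N11242 F69619) (tt N11843 (iv F71726)) (tt N11026 F69620) (tt N11836 (iv F71698)) (tt N11512 (iv F70609)) (tt N11242 F69621) (tt N10660 (iv D17700)))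
theorem Q11244 : ∀ i, i < 11244 → P i := stepQ 11243 Q11243 (allL N11243 (tt N11188 F69622) (tt N10937 F69623) (tt N11844 D18302) (tt N10661 (iv D17701)) (tt N11845 D18303) (tt N10663 F69624) (tt N10942 F69625) (tt N10665 F69626) (tt N11536 (iv F70723)))
theorem Q11245 : ∀ i, i < 11245 → P i := stepQ 11244 Q11244 (allL N11244 (tt N11539 (iv F70734)) (tt N11625 (iv F71032)) (tt N11846 D18304) (tt N10662 (iv D17702)) (tt N11847 D18305) (tt N11536 (iv F70721)) (tt N11659 (iv F71159)) (tt N11067 F69627) (tt N10663 F69628))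
theorem Q11246 : ∀ i, i < 11246 → P i := stepQ 11245 Q11245 (allL N11245 (tt N11784 (iv F71551)) (tt N11848 D18306) (tt N10663 (iv D17703)) (tt N11245 F69629) (tt N11849 D18307) (tt N11844 (iv F71729)) (tt N11660 (iv F71163)) (tt N10666 F69630) (tt N11846 (iv F71739)))
theorem Q11247 : ∀ i, i < 11247 → P i := stepQ 11246 Q11246 (allL N11246 (tt N11785 (iv F71555)) (tt N11618 (iv F71007)) (tt N11849 (iv F71746)) (tt N10678 F69631) (tt N10663 (iv D17704)) (tt N11850 D18308) (tt N11661 (iv F71167)) (tt N10667 F69632) (tt N11847 (iv F71742)))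
theorem Q11248 : ∀ i, i < 11248 → P i := stepQ 11247 Q11247 (allL N11247 (tt N11668 (iv F71191)) (tt N10946 F69633) (tt N11851 D18309) (tt N10664 (iv D17705)) (tt N11852 D18310) (tt N11544 (iv F70747)) (tt N10665 F69634) (tt N10942 F69635) (tt N11070 F69636))
theorem Q11249 : ∀ i, i < 11249 → P i := stepQ 11248 Q11248 (allL N11248 (tt N11786 (iv F71558)) (tt N11853 D18311) (tt N10665 (iv D17706)) (tt N10670 F69637) (tt N11854 D18312) (tt N10666 F69638) (tt N11851 (iv F71752)) (tt N11844 (iv F71731)) (tt N11071 F69639))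
theorem Q11250 : ∀ i, i < 11250 → P i := stepQ 11249 Q11249 (allL N11249 (tt N11787 (iv F71563)) (tt N11153 F69640) (tt N11854 (iv F71764)) (tt N11152 F69641) (tt N10665 (iv D17707)) (tt N11855 D18313) (tt N11852 (iv F71757)) (tt N11845 (iv F71736)) (tt N11072 F69642))
theorem Q11251 : ∀ i, i < 11251 → P i := stepQ 11250 Q11250 (allL N11250 (tt N11856 D18314) (tt N10666 (iv D17708)) (tt N11650 (iv F71121)) (tt N10672 F69643) (tt N11857 D18315) (tt N11853 (iv F71762)) (tt N11663 (iv F71174)) (tt N11848 (iv F71745)) (tt N11073 F69644))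
theorem Q11252 : ∀ i, i < 11252 → P i := stepQ 11251 Q11251 (allL N11251 (tt N11789 (iv F71570)) (tt N11857 (iv F71772)) (tt N10667 F69645) (tt N11396 (iv F70200)) (tt N10666 (iv D17709)) (tt N11858 D18316) (tt N11664 (iv F71177)) (tt N11849 (iv F71747)) (tt N11074 F69646))
theorem Q11253 : ∀ i, i < 11253 → P i := stepQ 11252 Q11252 (allL N11252 (tt N11790 (iv F71573)) (tt N11652 (iv F71129)) (tt N11858 (iv F71774)) (tt N10668 F69647) (tt N11855 (iv F71768)) (tt N10667 (iv D17710)) (tt N11859 D18317) (tt N11850 (iv F71749)) (tt N11075 F69648))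
theorem Q11254 : ∀ i, i < 11254 → P i := stepQ 11253 Q11253 (allL N11253 (tt N11791 (iv F71576)) (tt N11653 (iv F71131)) (tt N11398 (iv F70202)) (tt N11859 (iv F71776)) (tt N11632 (iv F71064)) (tt N11666 (iv F71183)) (tt N10668 (iv D17711)) (tt N10683 F69649) (tt N11076 F69650))
theorem Q11255 : ∀ i, i < 11255 → P i := stepQ 11254 Q11254 (allL N11254 (tt N11776 (iv F71523)) (tt N11256 (iv F69660)) (tt N10669 (iv D17712)) (tt N11851 (iv F71750)) (tt N11255 F69659) (tt N11173 F69651) (tt N10670 F69652) (tt N11254 F69653) (tt N11077 F69654))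
theorem Q11256 : ∀ i, i < 11256 → P i := stepQ 11255 Q11255 (allL N11255 (tt N11860 D18318) (tt N10670 (iv D17713)) (tt N10717 F69655) (tt N11853 (iv F71761)) (tt N11254 (iv F69659)) (tt N10672 F69656) (tt N11256 (iv F69662)) (tt N11255 F69657) (tt N11078 F69658))
theorem Q11257 : ∀ i, i < 11257 → P i := stepQ 11256 Q11256 (allL N11256 (tt N11793 (iv F71583)) (tt N11254 F69660) (tt N10671 F69661) (tt N11861 D18319) (tt N10670 (iv D17714)) (tt N11399 (iv F70207)) (tt N11255 F69662) (tt N11256 F69663) (tt N11079 F69664))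
theorem Q11258 : ∀ i, i < 11258 → P i := stepQ 11257 Q11257 (allL N11257 (tt N10672 (iv D17715)) (tt N11794 (iv F71587)) (tt N10718 F69665) (tt N11856 (iv F71770)) (tt N11400 (iv F70212)) (tt N11860 (iv F71780)) (tt N11769 (iv F71488)) (tt N11257 F69666) (tt N11080 F69667))
theorem Q11259 : ∀ i, i < 11259 → P i := stepQ 11258 Q11258 (allL N11258 (tt N10843 F69668) (tt N10935 F69669) (tt N11862 D18320) (tt N10673 (iv D17716)) (tt N11863 D18321) (tt N10936 F69670) (tt N10972 F69671) (tt N10753 F69672) (tt N11307 (iv F69803)))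
theorem Q11260 : ∀ i, i < 11260 → P i := stepQ 11259 Q11259 (allL N11259 (tt N11308 (iv F69804)) (tt N11384 (iv F70149)) (tt N11864 D18322) (tt N10674 (iv D17717)) (tt N11865 D18323) (tt N10676 F69673) (tt N11463 (iv F70471)) (tt N10686 F69674) (tt N10675 F69675))
theorem Q11261 : ∀ i, i < 11261 → P i := stepQ 11260 Q11260 (allL N11260 (tt N11442 (iv F70378)) (tt N11598 (iv F70950)) (tt N10675 (iv D17718)) (tt N11260 F69676) (tt N11866 D18324) (tt N10677 F69677) (tt N11464 (iv F70476)) (tt N10679 F69678) (tt N11864 (iv F71802)))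
theorem Q11262 : ∀ i, i < 11262 → P i := stepQ 11261 Q11261 (allL N11261 (tt N11443 (iv F70383)) (tt N11614 (iv F70991)) (tt N11866 (iv F71805)) (tt N11863 (iv F71796)) (tt N10675 (iv D17719)) (tt N11867 D18325) (tt N11465 (iv F70479)) (tt N10680 F69679) (tt N11865 (iv F71804)))
theorem Q11263 : ∀ i, i < 11263 → P i := stepQ 11262 Q11262 (allL N11262 (tt N11798 (iv F71597)) (tt N11600 (iv F70956)) (tt N10676 (iv D17720)) (tt N11262 F69680) (tt N11868 D18326) (tt N11864 (iv F71800)) (tt N11698 (iv F71280)) (tt N10689 F69681) (tt N10677 F69682))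
theorem Q11264 : ∀ i, i < 11264 → P i := stepQ 11263 Q11263 (allL N11263 (tt N11799 (iv F71601)) (tt N11616 (iv F70999)) (tt N11868 (iv F71809)) (tt N11847 (iv F71740)) (tt N10676 (iv D17721)) (tt N11869 D18327) (tt N11699 (iv F71284)) (tt N10690 F69683) (tt N10678 F69684))
theorem Q11265 : ∀ i, i < 11265 → P i := stepQ 11264 Q11264 (allL N11264 (tt N11801 (iv F71606)) (tt N11602 (iv F70962)) (tt N10678 F69685) (tt N11870 D18328) (tt N10677 (iv D17722)) (tt N11871 D18329) (tt N11700 (iv F71288)) (tt N10681 F69686) (tt N11868 (iv F71811)))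
theorem Q11266 : ∀ i, i < 11266 → P i := stepQ 11265 Q11265 (allL N11265 (tt N11802 (iv F71609)) (tt N11619 (iv F71012)) (tt N11871 (iv F71815)) (tt N11850 (iv F71748)) (tt N11867 (iv F71807)) (tt N10678 (iv D17723)) (tt N11872 D18330) (tt N10682 F69687) (tt N11869 (iv F71813)))
theorem Q11267 : ∀ i, i < 11267 → P i := stepQ 11266 Q11266 (allL N11266 (tt N11445 (iv F70394)) (tt N11604 (iv F70967)) (tt N10680 F69688) (tt N11574 (iv F70857)) (tt N10679 (iv D17724)) (tt N11873 D18331) (tt N11467 (iv F70488)) (tt N11866 (iv F71806)) (tt N10697 F69689))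
theorem Q11268 : ∀ i, i < 11268 → P i := stepQ 11267 Q11267 (allL N11267 (tt N11446 (iv F70399)) (tt N11622 (iv F71019)) (tt N11873 (iv F71818)) (tt N11441 (iv F70374)) (tt N10682 F69690) (tt N10680 (iv D17725)) (tt N11874 D18332) (tt N11867 (iv F71808)) (tt N10698 F69691))
theorem Q11269 : ∀ i, i < 11269 → P i := stepQ 11268 Q11268 (allL N11268 (tt N11804 (iv F71613)) (tt N11606 (iv F70972)) (tt N10682 F69692) (tt N11434 (iv F70345)) (tt N11873 (iv F71819)) (tt N10681 (iv D17726)) (tt N11875 D18333) (tt N11871 (iv F71816)) (tt N10701 F69693))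
theorem Q11270 : ∀ i, i < 11270 → P i := stepQ 11269 Q11269 (allL N11269 (tt N11805 (iv F71616)) (tt N11624 (iv F71026)) (tt N11875 (iv F71823)) (tt N10683 F69694) (tt N11874 (iv F71821)) (tt N11705 (iv F71301)) (tt N10682 (iv D17727)) (tt N11872 (iv F71817)) (tt N10702 F69695))
theorem Q11271 : ∀ i, i < 11271 → P i := stepQ 11270 Q11270 (allL N11270 (tt N10886 F69696) (tt N11364 (iv F70067)) (tt N10684 (iv D17728)) (tt N10704 F69697) (tt N11876 D18334) (tt N11144 F69698) (tt N11566 (iv F70826)) (tt N11006 F69699) (tt N11356 (iv F70036)))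
theorem Q11272 : ∀ i, i < 11272 → P i := stepQ 11271 Q11271 (allL N11271 (tt N11818 (iv F71644)) (tt N11716 (iv F71328)) (tt N11876 (iv F71826)) (tt N10688 F69700) (tt N10684 (iv D17729)) (tt N11877 D18335) (tt N11718 (iv F71339)) (tt N11644 (iv F71104)) (tt N11717 (iv F71336)))
theorem Q11273 : ∀ i, i < 11273 → P i := stepQ 11272 Q11272 (allL N11272 (tt N11412 (iv F70265)) (tt N11299 (iv F69764)) (tt N10685 (iv D17730)) (tt N10705 F69701) (tt N11878 D18336) (tt N11368 (iv F70082)) (tt N10687 F69702) (tt N10694 F69703) (tt N11715 (iv F71327)))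
theorem Q11274 : ∀ i, i < 11274 → P i := stepQ 11273 Q11273 (allL N11273 (tt N11413 (iv F70270)) (tt N11717 (iv F71332)) (tt N11878 (iv F71831)) (tt N11718 (iv F71338)) (tt N10685 (iv D17731)) (tt N11879 D18337) (tt N10688 F69704) (tt N10695 F69705) (tt N11716 (iv F71331)))
theorem Q11275 : ∀ i, i < 11275 → P i := stepQ 11274 Q11274 (allL N11274 (tt N11819 (iv F71648)) (tt N11880 D18338) (tt N10686 (iv D17732)) (tt N10706 F69706) (tt N11881 D18339) (tt N10689 F69707) (tt N11715 (iv F71326)) (tt N11864 (iv F71801)) (tt N10687 F69708))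
theorem Q11276 : ∀ i, i < 11276 → P i := stepQ 11275 Q11275 (allL N11275 (tt N11820 (iv F71652)) (tt N11718 (iv F71337)) (tt N11881 (iv F71840)) (tt N11717 (iv F71333)) (tt N10686 (iv D17733)) (tt N11882 D18340) (tt N11716 (iv F71330)) (tt N11865 (iv F71803)) (tt N10688 F69709))
theorem Q11277 : ∀ i, i < 11277 → P i := stepQ 11276 Q11276 (allL N11276 (tt N11380 (iv F70129)) (tt N10687 (iv D17734)) (tt N11363 (iv F70062)) (tt N10708 F69710) (tt N11883 D18341) (tt N10691 F69711) (tt N11299 (iv F69767)) (tt N10696 F69712) (tt N11880 (iv F71838)))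
theorem Q11278 : ∀ i, i < 11278 → P i := stepQ 11277 Q11277 (allL N11277 (tt N11821 (iv F71654)) (tt N11883 (iv F71844)) (tt N10688 F69713) (tt N11884 D18342) (tt N10687 (iv D17735)) (tt N11885 D18343) (tt N11878 (iv F71832)) (tt N10697 F69714) (tt N11881 (iv F71841)))
theorem Q11279 : ∀ i, i < 11279 → P i := stepQ 11278 Q11278 (allL N11278 (tt N11822 (iv F71658)) (tt N11719 (iv F71341)) (tt N11885 (iv F71853)) (tt N11877 (iv F71829)) (tt N10693 F69715) (tt N10688 (iv D17736)) (tt N11886 D18344) (tt N10698 F69716) (tt N11882 (iv F71843)))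
theorem Q11280 : ∀ i, i < 11280 → P i := stepQ 11279 Q11279 (allL N11279 (tt N11887 D18345) (tt N10689 (iv D17737)) (tt N11392 (iv F70183)) (tt N10710 F69717) (tt N11888 D18346) (tt N11880 (iv F71837)) (tt N11393 (iv F70190)) (tt N11600 (iv F70958)) (tt N10691 F69718))
theorem Q11281 : ∀ i, i < 11281 → P i := stepQ 11280 Q11280 (allL N11280 (tt N11824 (iv F71663)) (tt N11888 (iv F71862)) (tt N10690 F69719) (tt N11889 D18347) (tt N10689 (iv D17738)) (tt N11890 D18348) (tt N11744 (iv F71424)) (tt N11868 (iv F71810)) (tt N10692 F69720))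
theorem Q11282 : ∀ i, i < 11282 → P i := stepQ 11281 Q11281 (allL N11281 (tt N11825 (iv F71666)) (tt N11720 (iv F71344)) (tt N11890 (iv F71867)) (tt N11151 F69721) (tt N11882 (iv F71842)) (tt N10690 (iv D17739)) (tt N11891 D18349) (tt N11869 (iv F71812)) (tt N10693 F69722))
theorem Q11283 : ∀ i, i < 11283 → P i := stepQ 11282 Q11282 (allL N11282 (tt N10691 (iv D17740)) (tt N11826 (iv F71669)) (tt N11448 (iv F70411)) (tt N10712 F69723) (tt N11892 D18350) (tt N11380 (iv F70133)) (tt N11449 (iv F70418)) (tt N10699 F69724) (tt N11887 (iv F71861)))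
theorem Q11284 : ∀ i, i < 11284 → P i := stepQ 11283 Q11283 (allL N11283 (tt N11892 (iv F71871)) (tt N10692 F69725) (tt N11561 (iv F70807)) (tt N11893 D18351) (tt N10691 (iv D17741)) (tt N11894 D18352) (tt N11746 (iv F71431)) (tt N10700 F69726) (tt N11888 (iv F71863)))
theorem Q11285 : ∀ i, i < 11285 → P i := stepQ 11284 Q11284 (allL N11284 (tt N11828 (iv F71675)) (tt N11893 (iv F71873)) (tt N11153 F69727) (tt N10692 (iv D17742)) (tt N10714 F69728) (tt N11895 D18353) (tt N11747 (iv F71436)) (tt N11499 (iv F70574)) (tt N11889 (iv F71866)))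
theorem Q11286 : ∀ i, i < 11286 → P i := stepQ 11285 Q11285 (allL N11285 (tt N11829 (iv F71680)) (tt N11894 (iv F71875)) (tt N10693 F69729) (tt N11895 (iv F71878)) (tt N11885 (iv F71854)) (tt N10692 (iv D17743)) (tt N11896 D18354) (tt N10701 F69730) (tt N11890 (iv F71868)))
theorem Q11287 : ∀ i, i < 11287 → P i := stepQ 11286 Q11286 (allL N11286 (tt N11830 (iv F71683)) (tt N11721 (iv F71346)) (tt N11896 (iv F71879)) (tt N11155 F69731) (tt N11886 (iv F71856)) (tt N11749 (iv F71442)) (tt N10693 (iv D17744)) (tt N10702 F69732) (tt N11891 (iv F71870)))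
theorem Q11288 : ∀ i, i < 11288 → P i := stepQ 11287 Q11287 (allL N11287 (tt N11415 (iv F70279)) (tt N11372 (iv F70097)) (tt N10695 F69733) (tt N11524 (iv F70668)) (tt N10694 (iv D17745)) (tt N11897 D18355) (tt N10697 F69734) (tt N11878 (iv F71833)) (tt N11467 (iv F70489)))
theorem Q11289 : ∀ i, i < 11289 → P i := stepQ 11288 Q11288 (allL N11288 (tt N11416 (iv F70285)) (tt N11722 (iv F71349)) (tt N11897 (iv F71881)) (tt N11409 (iv F70252)) (tt N11750 (iv F71445)) (tt N10695 (iv D17746)) (tt N11898 D18356) (tt N11879 (iv F71834)) (tt N11468 (iv F70492)))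
theorem Q11290 : ∀ i, i < 11290 → P i := stepQ 11289 Q11289 (allL N11289 (tt N11360 (iv F70050)) (tt N10697 F69735) (tt N11371 (iv F70092)) (tt N11354 (iv F70026)) (tt N10696 (iv D17747)) (tt N11899 D18357) (tt N11372 (iv F70099)) (tt N11883 (iv F71846)) (tt N11604 (iv F70969)))
theorem Q11291 : ∀ i, i < 11291 → P i := stepQ 11290 Q11290 (allL N11290 (tt N11521 (iv F70649)) (tt N11354 (iv F70024)) (tt N11342 (iv F69968)) (tt N10697 (iv D17748)) (tt N10703 F69736) (tt N11900 D18358) (tt N11524 (iv F70669)) (tt N11901 D18359) (tt N11574 (iv F70858)))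
theorem Q11292 : ∀ i, i < 11292 → P i := stepQ 11291 Q11291 (allL N11291 (tt N11831 (iv F71686)) (tt N11899 (iv F71883)) (tt N10698 F69737) (tt N11900 (iv F71885)) (tt N10701 F69738) (tt N10697 (iv D17749)) (tt N11902 D18360) (tt N11885 (iv F71855)) (tt N11873 (iv F71820)))
theorem Q11293 : ∀ i, i < 11293 → P i := stepQ 11292 Q11292 (allL N11292 (tt N11832 (iv F71689)) (tt N11723 (iv F71351)) (tt N11902 (iv F71893)) (tt N11649 (iv F71119)) (tt N10702 F69739) (tt N11898 (iv F71882)) (tt N10698 (iv D17750)) (tt N11886 (iv F71857)) (tt N11874 (iv F71822)))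
theorem Q11294 : ∀ i, i < 11294 → P i := stepQ 11293 Q11293 (allL N11293 (tt N10700 F69740) (tt N11833 (iv F71692)) (tt N11454 (iv F70432)) (tt N11506 (iv F70588)) (tt N10699 (iv D17751)) (tt N11903 D18361) (tt N11456 (iv F70444)) (tt N11892 (iv F71872)) (tt N11592 (iv F70928)))
theorem Q11295 : ∀ i, i < 11295 → P i := stepQ 11294 Q11294 (allL N11294 (tt N11903 (iv F71895)) (tt N10701 F69741) (tt N11562 (iv F70811)) (tt N11507 (iv F70590)) (tt N11899 (iv F71884)) (tt N10700 (iv D17752)) (tt N11904 D18362) (tt N11894 (iv F71876)) (tt N11606 (iv F70974)))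
theorem Q11296 : ∀ i, i < 11296 → P i := stepQ 11295 Q11295 (allL N11295 (tt N11835 (iv F71694)) (tt N11904 (iv F71896)) (tt N10702 F69742) (tt N11508 (iv F70592)) (tt N11902 (iv F71894)) (tt N11754 (iv F71453)) (tt N10701 (iv D17753)) (tt N11896 (iv F71880)) (tt N11875 (iv F71824)))
theorem Q11297 : ∀ i, i < 11297 → P i := stepQ 11296 Q11296 (allL N11296 (tt N10757 F69743) (tt N10927 F69744) (tt N10756 F69745) (tt N10716 F69746) (tt N11901 (iv F71890)) (tt N10924 F69747) (tt N10764 F69748) (tt N10703 (iv D17754)) (tt N11038 (iv F69749)))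
theorem Q11298 : ∀ i, i < 11298 → P i := stepQ 11297 Q11297 (allL N11297 (tt N11187 (iv F69754)) (tt N10706 (iv D17755)) (tt N10719 F69750) (tt N11880 (iv F71836)) (tt N11161 (iv F69755)) (tt N10710 F69751) (tt N11298 (iv F69760)) (tt N11297 F69752) (tt N10708 F69753))
theorem Q11299 : ∀ i, i < 11299 → P i := stepQ 11298 Q11298 (allL N11298 (tt N10910 F69756) (tt N11161 F69757) (tt N10707 F69758) (tt N11905 D18363) (tt N10706 (iv D17756)) (tt N10786 F69759) (tt N11297 F69760) (tt N11298 F69761) (tt N10709 F69762))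
theorem Q11300 : ∀ i, i < 11300 → P i := stepQ 11299 Q11299 (allL N11299 (tt N10889 F69763) (tt N11272 F69764) (tt N10774 F69765) (tt N10709 (iv D17757)) (tt N11884 (iv F71850)) (tt N10776 F69766) (tt N11276 F69767) (tt N10779 F69768) (tt N11905 (iv F71902)))
theorem Q11301 : ∀ i, i < 11301 → P i := stepQ 11300 Q11300 (allL N11300 (tt N10710 (iv D17758)) (tt N11836 (iv F71696)) (tt N10720 F69769) (tt N11887 (iv F71859)) (tt N11906 D18364) (tt N11187 F69770) (tt N11316 (iv F69841)) (tt N11300 F69771) (tt N10712 F69772))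
theorem Q11302 : ∀ i, i < 11302 → P i := stepQ 11301 Q11301 (allL N11301 (tt N11906 (iv F71903)) (tt N10711 F69773) (tt N10721 F69774) (tt N11907 D18365) (tt N10710 (iv D17759)) (tt N11164 F69775) (tt N11399 (iv F70208)) (tt N11301 F69776) (tt N10713 F69777))
theorem Q11303 : ∀ i, i < 11303 → P i := stepQ 11302 Q11302 (allL N11302 (tt N11838 (iv F71707)) (tt N11907 (iv F71908)) (tt N11060 F69778) (tt N10711 (iv D17760)) (tt N11889 (iv F71865)) (tt N11061 F69779) (tt N11772 (iv F71504)) (tt N11908 D18366) (tt N10714 F69780))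
theorem Q11304 : ∀ i, i < 11304 → P i := stepQ 11303 Q11303 (allL N11303 (tt N10713 F69781) (tt N11839 (iv F71713)) (tt N10722 F69782) (tt N11909 D18367) (tt N10712 (iv D17761)) (tt N11654 (iv F71137)) (tt N11510 (iv F70600)) (tt N10715 F69783) (tt N11906 (iv F71907)))
theorem Q11305 : ∀ i, i < 11305 → P i := stepQ 11304 Q11304 (allL N11304 (tt N11909 (iv F71915)) (tt N10714 F69784) (tt N11853 (iv F71760)) (tt N10713 (iv D17762)) (tt N11893 (iv F71874)) (tt N11650 (iv F71123)) (tt N11773 (iv F71508)) (tt N11517 (iv F70630)) (tt N11907 (iv F71911)))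
theorem Q11306 : ∀ i, i < 11306 → P i := stepQ 11305 Q11305 (allL N11305 (tt N10717 (iv D17763)) (tt N11305 F69785) (tt N11860 (iv F71778)) (tt N10722 F69786) (tt N11180 F69787) (tt N10718 F69788) (tt N11197 F69789) (tt N11305 F69790) (tt N11166 F69791))
theorem Q11307 : ∀ i, i < 11307 → P i := stepQ 11306 Q11306 (allL N11306 (tt N10721 F69792) (tt N11306 F69793) (tt N11906 (iv F71904)) (tt N11166 F69794) (tt N10720 (iv D17764)) (tt N11165 F69795) (tt N11317 (iv F69848)) (tt N11306 F69796) (tt N10722 F69797))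
theorem Q11308 : ∀ i, i < 11308 → P i := stepQ 11307 Q11307 (allL N11307 (tt N10725 F69798) (tt N10798 F69799) (tt N11910 D18368) (tt N10723 (iv D17765)) (tt N11911 D18369) (tt N10940 F69800) (tt N11034 F69801) (tt N10738 F69802) (tt N11258 F69803))
theorem Q11309 : ∀ i, i < 11309 → P i := stepQ 11308 Q11308 (allL N11308 (tt N11259 F69804) (tt N10728 F69805) (tt N11912 D18370) (tt N10724 (iv D17766)) (tt N11913 D18371) (tt N11201 F69806) (tt N10876 F69807) (tt N11218 F69808) (tt N10848 F69809))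
theorem Q11310 : ∀ i, i < 11310 → P i := stepQ 11309 Q11309 (allL N11309 (tt N11910 (iv F71916)) (tt N11189 F69810) (tt N10725 (iv D17767)) (tt N11309 F69811) (tt N11914 D18372) (tt N10943 F69812) (tt N11636 (iv F71081)) (tt N10741 F69813) (tt N11436 (iv F70354)))
theorem Q11311 : ∀ i, i < 11311 → P i := stepQ 11310 Q11310 (allL N11310 (tt N11911 (iv F71923)) (tt N10729 F69814) (tt N11914 (iv F71942)) (tt N11913 (iv F71937)) (tt N10725 (iv D17768)) (tt N11915 D18373) (tt N11637 (iv F71087)) (tt N10742 F69815) (tt N11437 (iv F70358)))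
theorem Q11312 : ∀ i, i < 11312 → P i := stepQ 11311 Q11311 (allL N11311 (tt N10803 F69816) (tt N11218 F69817) (tt N11916 D18374) (tt N10726 (iv D17769)) (tt N11917 D18375) (tt N11208 F69818) (tt N10831 F69819) (tt N10728 F69820) (tt N10814 F69821))
theorem Q11313 : ∀ i, i < 11313 → P i := stepQ 11312 Q11312 (allL N11312 (tt N10805 F69822) (tt N11201 F69823) (tt N11918 D18376) (tt N10727 (iv D17770)) (tt N11919 D18377) (tt N10728 F69824) (tt N11667 (iv F71188)) (tt N11208 F69825) (tt N10853 F69826))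
theorem Q11314 : ∀ i, i < 11314 → P i := stepQ 11313 Q11313 (allL N11313 (tt N10806 F69827) (tt N11920 D18378) (tt N10728 (iv D17771)) (tt N10731 F69828) (tt N11921 D18379) (tt N11918 (iv F71961)) (tt N10891 F69829) (tt N11916 (iv F71951)) (tt N10854 F69830))
theorem Q11315 : ∀ i, i < 11315 → P i := stepQ 11314 Q11314 (allL N11314 (tt N10807 F69831) (tt N11913 (iv F71936)) (tt N11921 (iv F71974)) (tt N10729 F69832) (tt N10728 (iv D17772)) (tt N11922 D18380) (tt N10892 F69833) (tt N11917 (iv F71957)) (tt N10855 F69834))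
theorem Q11316 : ∀ i, i < 11316 → P i := stepQ 11315 Q11315 (allL N11315 (tt N10808 F69835) (tt N11915 (iv F71944)) (tt N11195 F69836) (tt N11922 (iv F71979)) (tt N10950 F69837) (tt N10729 (iv D17773)) (tt N11923 D18381) (tt N10749 F69838) (tt N11519 (iv F70642)))
theorem Q11317 : ∀ i, i < 11317 → P i := stepQ 11316 Q11316 (allL N11316 (tt N10809 F69839) (tt N11924 D18382) (tt N10730 (iv D17774)) (tt N11918 (iv F71960)) (tt N11925 D18383) (tt N10731 F69840) (tt N11300 F69841) (tt N11316 F69842) (tt N10904 F69843))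
theorem Q11318 : ∀ i, i < 11318 → P i := stepQ 11317 Q11317 (allL N11317 (tt N10810 F69844) (tt N11317 F69845) (tt N11925 (iv F71992)) (tt N10952 F69846) (tt N10730 (iv D17775)) (tt N11197 F69847) (tt N11306 F69848) (tt N11317 F69849) (tt N10905 F69850))
theorem Q11319 : ∀ i, i < 11319 → P i := stepQ 11318 Q11318 (allL N11318 (tt N11926 D18384) (tt N10731 (iv D17776)) (tt N11318 F69851) (tt N11920 (iv F71970)) (tt N11198 F69852) (tt N11924 (iv F71987)) (tt N10912 F69853) (tt N11318 F69854) (tt N10906 F69855))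
theorem Q11320 : ∀ i, i < 11320 → P i := stepQ 11319 Q11319 (allL N11319 (tt N10812 F69856) (tt N10974 F69857) (tt N10819 F69858) (tt N10928 F69859) (tt N10732 (iv D17777)) (tt N11927 D18385) (tt N10954 F69860) (tt N11645 (iv F71109)) (tt N10754 F69861))
theorem Q11321 : ∀ i, i < 11321 → P i := stepQ 11320 Q11320 (allL N11320 (tt N11038 F69862) (tt N10958 F69863) (tt N10733 (iv D17778)) (tt N10789 F69864) (tt N11928 D18386) (tt N10973 F69865) (tt N10741 F69866) (tt N11636 (iv F71082)) (tt N10757 F69867))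
theorem Q11322 : ∀ i, i < 11322 → P i := stepQ 11321 Q11321 (allL N11321 (tt N11039 F69868) (tt N10736 F69869) (tt N11928 (iv F72012)) (tt N10984 F69870) (tt N10733 (iv D17779)) (tt N11929 D18387) (tt N10742 F69871) (tt N11637 (iv F71088)) (tt N10758 F69872))
theorem Q11323 : ∀ i, i < 11323 → P i := stepQ 11322 Q11322 (allL N11322 (tt N10814 F69873) (tt N10981 F69874) (tt N11930 D18388) (tt N10734 (iv D17780)) (tt N11931 D18389) (tt N10976 F69875) (tt N10745 F69876) (tt N10735 F69877) (tt N10803 F69878))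
theorem Q11324 : ∀ i, i < 11324 → P i := stepQ 11323 Q11323 (allL N11323 (tt N10815 F69879) (tt N11093 F69880) (tt N10735 (iv D17781)) (tt N10737 F69881) (tt N11932 D18390) (tt N10977 F69882) (tt N10747 F69883) (tt N11930 (iv F72026)) (tt N10759 F69884))
theorem Q11325 : ∀ i, i < 11325 → P i := stepQ 11324 Q11324 (allL N11324 (tt N10816 F69885) (tt N10984 F69886) (tt N11932 (iv F72036)) (tt N10736 F69887) (tt N10735 (iv D17782)) (tt N11933 D18391) (tt N10748 F69888) (tt N11931 (iv F72032)) (tt N10760 F69889))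
theorem Q11326 : ∀ i, i < 11326 → P i := stepQ 11325 Q11325 (allL N11325 (tt N10817 F69890) (tt N11929 (iv F72017)) (tt N11086 F69891) (tt N11933 (iv F72042)) (tt N11927 (iv F72008)) (tt N10736 (iv D17783)) (tt N11934 D18392) (tt N11647 (iv F71115)) (tt N10761 F69892))
theorem Q11327 : ∀ i, i < 11327 → P i := stepQ 11326 Q11326 (allL N11326 (tt N10741 F69893) (tt N10973 F69894) (tt N10738 (iv D17784)) (tt N10790 F69895) (tt N11935 D18393) (tt N10958 F69896) (tt N11038 F69897) (tt N11910 (iv F71921)) (tt N10764 F69898))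
theorem Q11328 : ∀ i, i < 11328 → P i := stepQ 11327 Q11327 (allL N11327 (tt N10742 F69899) (tt N10819 F69900) (tt N11935 (iv F72051)) (tt N11113 F69901) (tt N10738 (iv D17785)) (tt N11936 D18394) (tt N11039 F69902) (tt N11911 (iv F71927)) (tt N10765 F69903))
theorem Q11329 : ∀ i, i < 11329 → P i := stepQ 11328 Q11328 (allL N11328 (tt N11108 F69904) (tt N10745 F69905) (tt N11099 F69906) (tt N10739 (iv D17786)) (tt N11937 D18395) (tt N11007 F69907) (tt N10981 F69908) (tt N10740 F69909) (tt N11217 F69910))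
theorem Q11330 : ∀ i, i < 11330 → P i := stepQ 11329 Q11329 (allL N11329 (tt N11113 F69911) (tt N10748 F69912) (tt N11104 F69913) (tt N10742 F69914) (tt N10740 (iv D17787)) (tt N11938 D18396) (tt N10984 F69915) (tt N11937 (iv F72065)) (tt N10769 F69916))
theorem Q11331 : ∀ i, i < 11331 → P i := stepQ 11330 Q11330 (allL N11330 (tt N11935 (iv F72049)) (tt N11199 F69917) (tt N10742 F69918) (tt N11939 D18397) (tt N10741 (iv D17788)) (tt N11940 D18398) (tt N11928 (iv F72014)) (tt N11914 (iv F71943)) (tt N10770 F69919))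
theorem Q11332 : ∀ i, i < 11332 → P i := stepQ 11331 Q11331 (allL N11331 (tt N11936 (iv F72055)) (tt N10749 F69920) (tt N11940 (iv F72080)) (tt N11938 (iv F72070)) (tt N10963 F69921) (tt N10742 (iv D17789)) (tt N11941 D18399) (tt N11915 (iv F71946)) (tt N10771 F69922))
theorem Q11333 : ∀ i, i < 11333 → P i := stepQ 11332 Q11332 (allL N11332 (tt N10830 F69923) (tt N11007 F69924) (tt N11942 D18400) (tt N10743 (iv D17790)) (tt N11943 D18401) (tt N10745 F69925) (tt N10995 F69926) (tt N10746 F69927) (tt N11596 (iv F70943)))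
theorem Q11334 : ∀ i, i < 11334 → P i := stepQ 11333 Q11333 (allL N11333 (tt N10831 F69928) (tt N11217 F69929) (tt N11944 D18402) (tt N10744 (iv D17791)) (tt N11945 D18403) (tt N11596 (iv F70941)) (tt N10803 F69930) (tt N10775 F69931) (tt N10745 F69932))
theorem Q11335 : ∀ i, i < 11335 → P i := stepQ 11334 Q11334 (allL N11334 (tt N10832 F69933) (tt N11946 D18404) (tt N10745 (iv D17792)) (tt N11334 F69934) (tt N11947 D18405) (tt N11942 (iv F72089)) (tt N11930 (iv F72025)) (tt N10747 F69935) (tt N11944 (iv F72100)))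
theorem Q11336 : ∀ i, i < 11336 → P i := stepQ 11335 Q11335 (allL N11335 (tt N10833 F69936) (tt N11937 (iv F72061)) (tt N11947 (iv F72114)) (tt N11917 (iv F71955)) (tt N10745 (iv D17793)) (tt N11948 D18406) (tt N11931 (iv F72031)) (tt N10748 F69937) (tt N11945 (iv F72106)))
theorem Q11337 : ∀ i, i < 11337 → P i := stepQ 11336 Q11336 (allL N11336 (tt N10835 F69938) (tt N10869 F69939) (tt N10746 (iv D17794)) (tt N10750 F69940) (tt N11949 D18407) (tt N10747 F69941) (tt N10999 F69942) (tt N11942 (iv F72091)) (tt N10779 F69943))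
theorem Q11338 : ∀ i, i < 11338 → P i := stepQ 11337 Q11337 (allL N11337 (tt N10836 F69944) (tt N11015 F69945) (tt N11949 (iv F72120)) (tt N10969 F69946) (tt N10746 (iv D17795)) (tt N11950 D18408) (tt N11000 F69947) (tt N11943 (iv F72095)) (tt N10780 F69948))
theorem Q11339 : ∀ i, i < 11339 → P i := stepQ 11338 Q11338 (allL N11338 (tt N10880 (iv F69954)) (tt N10747 (iv D17796)) (tt N10868 F69949) (tt N10751 F69950) (tt N11951 D18409) (tt N10869 F69951) (tt N11093 F69952) (tt N11946 (iv F72111)) (tt N10781 F69953))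
theorem Q11340 : ∀ i, i < 11340 → P i := stepQ 11339 Q11339 (allL N11339 (tt N10838 F69955) (tt N11951 (iv F72130)) (tt N10748 F69956) (tt N11205 F69957) (tt N10747 (iv D17797)) (tt N11952 D18410) (tt N11932 (iv F72038)) (tt N11947 (iv F72115)) (tt N10782 F69958))
theorem Q11341 : ∀ i, i < 11341 → P i := stepQ 11340 Q11340 (allL N11340 (tt N10839 F69959) (tt N11938 (iv F72068)) (tt N11952 (iv F72136)) (tt N10749 F69960) (tt N11950 (iv F72127)) (tt N10748 (iv D17798)) (tt N11953 D18411) (tt N11948 (iv F72117)) (tt N10783 F69961))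
theorem Q11342 : ∀ i, i < 11342 → P i := stepQ 11341 Q11341 (allL N11341 (tt N10840 F69962) (tt N11941 (iv F72083)) (tt N11207 F69963) (tt N11953 (iv F72140)) (tt N10971 F69964) (tt N11934 (iv F72047)) (tt N10749 (iv D17799)) (tt N11923 (iv F71984)) (tt N10784 F69965))
theorem Q11343 : ∀ i, i < 11343 → P i := stepQ 11342 Q11342 (allL N11342 (tt N10925 F69966) (tt N10754 F69967) (tt N11290 F69968) (tt N10954 F69969) (tt N10752 (iv D17800)) (tt N11954 D18412) (tt N10928 F69970) (tt N11346 (iv F69990)) (tt N10974 F69971))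
theorem Q11344 : ∀ i, i < 11344 → P i := stepQ 11343 Q11343 (allL N11343 (tt N10844 F69972) (tt N11038 F69973) (tt N10753 (iv D17801)) (tt N10755 F69974) (tt N11955 D18413) (tt N10955 F69975) (tt N10973 F69976) (tt N11862 (iv F71793)) (tt N10927 F69977))
theorem Q11345 : ∀ i, i < 11345 → P i := stepQ 11344 Q11344 (allL N11344 (tt N10845 F69978) (tt N10954 F69979) (tt N11955 (iv F72150)) (tt N10754 F69980) (tt N10753 (iv D17802)) (tt N11956 D18414) (tt N10974 F69981) (tt N11863 (iv F71798)) (tt N10928 F69982))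
theorem Q11346 : ∀ i, i < 11346 → P i := stepQ 11345 Q11345 (allL N11345 (tt N10846 F69983) (tt N11954 (iv F72143)) (tt N10871 F69984) (tt N11956 (iv F72156)) (tt N10761 F69985) (tt N10754 (iv D17803)) (tt N11957 D18415) (tt N11441 (iv F70376)) (tt N11927 (iv F72009)))
theorem Q11347 : ∀ i, i < 11347 → P i := stepQ 11346 Q11346 (allL N11346 (tt N10758 F69986) (tt N10847 F69987) (tt N11901 (iv F71888)) (tt N11016 F69988) (tt N10756 (iv D17804)) (tt N11958 D18416) (tt N10765 F69989) (tt N11342 F69990) (tt N11039 F69991))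
theorem Q11348 : ∀ i, i < 11348 → P i := stepQ 11347 Q11347 (allL N11347 (tt N11901 (iv F71886)) (tt N10991 F69992) (tt N10758 F69993) (tt N10898 F69994) (tt N10757 (iv D17805)) (tt N11959 D18417) (tt N10770 F69995) (tt N11521 (iv F70654)) (tt N11928 (iv F72015)))
theorem Q11349 : ∀ i, i < 11349 → P i := stepQ 11348 Q11348 (allL N11348 (tt N11958 (iv F72163)) (tt N10761 F69996) (tt N11959 (iv F72170)) (tt N11157 F69997) (tt N11954 (iv F72146)) (tt N10758 (iv D17806)) (tt N11960 D18418) (tt N11522 (iv F70658)) (tt N11929 (iv F72020)))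
theorem Q11350 : ∀ i, i < 11350 → P i := stepQ 11349 Q11349 (allL N11349 (tt N10860 F69998) (tt N11139 F69999) (tt N10760 F70000) (tt N11125 F70001) (tt N10759 (iv D17807)) (tt N11961 D18419) (tt N10782 F70002) (tt N11630 (iv F71057)) (tt N11932 (iv F72039)))
theorem Q11351 : ∀ i, i < 11351 → P i := stepQ 11350 Q11350 (allL N11350 (tt N10861 F70003) (tt N11157 F70004) (tt N11961 (iv F72178)) (tt N10761 F70005) (tt N11159 F70006) (tt N10760 (iv D17808)) (tt N11962 D18420) (tt N11631 (iv F71061)) (tt N11933 (iv F72044)))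
theorem Q11352 : ∀ i, i < 11352 → P i := stepQ 11351 Q11351 (allL N11351 (tt N10862 F70007) (tt N11960 (iv F72173)) (tt N11127 F70008) (tt N11962 (iv F72183)) (tt N11957 (iv F72161)) (tt N10784 F70009) (tt N10761 (iv D17809)) (tt N11523 (iv F70664)) (tt N11934 (iv F72048)))
theorem Q11353 : ∀ i, i < 11353 → P i := stepQ 11352 Q11352 (allL N11352 (tt N10767 F70010) (tt N10867 F70011) (tt N11007 F70012) (tt N10762 (iv D17810)) (tt N11963 D18421) (tt N11099 F70013) (tt N11009 F70014) (tt N10763 F70015) (tt N11043 F70016))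
theorem Q11354 : ∀ i, i < 11354 → P i := stepQ 11353 Q11353 (allL N11353 (tt N10769 F70017) (tt N10870 F70018) (tt N11015 F70019) (tt N10765 F70020) (tt N10763 (iv D17811)) (tt N11964 D18422) (tt N11016 F70021) (tt N11963 (iv F72191)) (tt N11113 F70022))
theorem Q11355 : ∀ i, i < 11355 → P i := stepQ 11354 Q11354 (allL N11354 (tt N10770 F70023) (tt N11290 F70024) (tt N10765 F70025) (tt N11289 F70026) (tt N10764 (iv D17812)) (tt N11965 D18423) (tt N11901 (iv F71891)) (tt N11524 (iv F70670)) (tt N11935 (iv F72054)))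
theorem Q11356 : ∀ i, i < 11356 → P i := stepQ 11355 Q11355 (allL N11355 (tt N10771 F70027) (tt N10871 F70028) (tt N11965 (iv F72201)) (tt N11964 (iv F72196)) (tt N10992 F70029) (tt N10765 (iv D17813)) (tt N11966 D18424) (tt N11525 (iv F70674)) (tt N11936 (iv F72059)))
theorem Q11357 : ∀ i, i < 11357 → P i := stepQ 11356 Q11356 (allL N11356 (tt N11099 F70030) (tt N10774 F70031) (tt N11108 F70032) (tt N10766 (iv D17814)) (tt N11967 D18425) (tt N10767 F70033) (tt N10966 F70034) (tt N10768 F70035) (tt N11270 F70036))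
theorem Q11358 : ∀ i, i < 11358 → P i := stepQ 11357 Q11357 (allL N11357 (tt N11963 (iv F72186)) (tt N10777 F70037) (tt N11146 F70038) (tt N11381 (iv F70137)) (tt N10767 (iv D17815)) (tt N11968 D18426) (tt N11148 F70039) (tt N10769 F70040) (tt N11755 (iv F71459)))
theorem Q11359 : ∀ i, i < 11359 → P i := stepQ 11358 Q11358 (allL N11358 (tt N11104 F70041) (tt N10780 F70042) (tt N11113 F70043) (tt N11000 F70044) (tt N10768 (iv D17816)) (tt N11969 D18427) (tt N10969 F70045) (tt N11967 (iv F72211)) (tt N11015 F70046))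
theorem Q11360 : ∀ i, i < 11360 → P i := stepQ 11359 Q11359 (allL N11359 (tt N11964 (iv F72193)) (tt N10783 F70047) (tt N11156 F70048) (tt N10771 F70049) (tt N11969 (iv F72220)) (tt N10769 (iv D17817)) (tt N11970 D18428) (tt N11968 (iv F72215)) (tt N11938 (iv F72072)))
theorem Q11361 : ∀ i, i < 11361 → P i := stepQ 11360 Q11360 (allL N11360 (tt N11289 F70050) (tt N11214 F70051) (tt N10896 F70052) (tt N10770 (iv D17818)) (tt N10792 F70053) (tt N11971 D18429) (tt N10898 F70054) (tt N11972 D18430) (tt N11939 (iv F72078)))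
theorem Q11362 : ∀ i, i < 11362 → P i := stepQ 11361 Q11361 (allL N11361 (tt N11965 (iv F72199)) (tt N11215 F70055) (tt N10771 F70056) (tt N11971 (iv F72229)) (tt N11004 F70057) (tt N10770 (iv D17819)) (tt N11973 D18431) (tt N11526 (iv F70678)) (tt N11940 (iv F72082)))
theorem Q11363 : ∀ i, i < 11363 → P i := stepQ 11362 Q11362 (allL N11362 (tt N11966 (iv F72204)) (tt N10784 F70058) (tt N11973 (iv F72237)) (tt N11970 (iv F72224)) (tt N11005 F70059) (tt N11960 (iv F72175)) (tt N10771 (iv D17820)) (tt N11527 (iv F70681)) (tt N11941 (iv F72085)))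
theorem Q11364 : ∀ i, i < 11364 → P i := stepQ 11363 Q11363 (allL N11363 (tt N10887 F70060) (tt N10966 F70061) (tt N11276 F70062) (tt N10772 (iv D17821)) (tt N11974 D18432) (tt N10960 F70063) (tt N10774 F70064) (tt N10778 F70065) (tt N11565 (iv F70821)))
theorem Q11365 : ∀ i, i < 11365 → P i := stepQ 11364 Q11364 (allL N11364 (tt N10888 F70066) (tt N11270 F70067) (tt N11905 (iv F71899)) (tt N10773 (iv D17822)) (tt N11975 D18433) (tt N10775 F70068) (tt N11565 (iv F70820)) (tt N11596 (iv F70942)) (tt N10774 F70069))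
theorem Q11366 : ∀ i, i < 11366 → P i := stepQ 11365 Q11365 (allL N11365 (tt N10890 F70070) (tt N11967 (iv F72208)) (tt N11884 (iv F71849)) (tt N11876 (iv F71827)) (tt N10774 (iv D17823)) (tt N11976 D18434) (tt N11974 (iv F72242)) (tt N10780 F70071) (tt N11975 (iv F72247)))
theorem Q11367 : ∀ i, i < 11367 → P i := stepQ 11366 Q11366 (allL N11366 (tt N10891 F70072) (tt N11738 (iv F71401)) (tt N10775 (iv D17824)) (tt N10786 F70073) (tt N11977 D18435) (tt N11905 (iv F71900)) (tt N10806 F70074) (tt N11944 (iv F72099)) (tt N10776 F70075))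
theorem Q11368 : ∀ i, i < 11368 → P i := stepQ 11367 Q11367 (allL N11367 (tt N10892 F70076) (tt N11755 (iv F71455)) (tt N11977 (iv F72252)) (tt N10796 F70077) (tt N10775 (iv D17825)) (tt N11978 D18436) (tt N10807 F70078) (tt N11945 (iv F72105)) (tt N10777 F70079))
theorem Q11369 : ∀ i, i < 11369 → P i := stepQ 11368 Q11368 (allL N11368 (tt N11979 D18437) (tt N10776 (iv D17826)) (tt N11129 F70080) (tt N10787 F70081) (tt N11980 D18438) (tt N11272 F70082) (tt N11131 F70083) (tt N10781 F70084) (tt N11738 (iv F71405)))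
theorem Q11370 : ∀ i, i < 11370 → P i := stepQ 11369 Q11369 (allL N11369 (tt N10894 F70085) (tt N11980 (iv F72265)) (tt N10777 F70086) (tt N11651 (iv F71127)) (tt N10776 (iv D17827)) (tt N11981 D18439) (tt N11630 (iv F71056)) (tt N10782 F70087) (tt N11977 (iv F72255)))
theorem Q11371 : ∀ i, i < 11371 → P i := stepQ 11370 Q11370 (allL N11370 (tt N10895 F70088) (tt N11968 (iv F72213)) (tt N11981 (iv F72270)) (tt N11528 (iv F70684)) (tt N11976 (iv F72249)) (tt N10777 (iv D17828)) (tt N11982 D18440) (tt N10783 F70089) (tt N11978 (iv F72258)))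
theorem Q11372 : ∀ i, i < 11372 → P i := stepQ 11371 Q11371 (allL N11371 (tt N10896 F70090) (tt N10969 F70091) (tt N11289 F70092) (tt N11015 F70093) (tt N10778 (iv D17829)) (tt N11983 D18441) (tt N10780 F70094) (tt N11974 (iv F72243)) (tt N11000 F70095))
theorem Q11373 : ∀ i, i < 11373 → P i := stepQ 11372 Q11372 (allL N11372 (tt N10898 F70096) (tt N11287 F70097) (tt N10780 F70098) (tt N11901 (iv F71889)) (tt N10779 (iv D17830)) (tt N11984 D18442) (tt N11289 F70099) (tt N11884 F71852) (tt N11949 (iv F72123)))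
theorem Q11374 : ∀ i, i < 11374 → P i := stepQ 11373 Q11373 (allL N11373 (tt N10899 F70100) (tt N11969 (iv F72217)) (tt N11984 (iv F72282)) (tt N11017 F70101) (tt N10783 F70102) (tt N10780 (iv D17831)) (tt N11985 D18443) (tt N11976 (iv F72250)) (tt N11950 (iv F72128)))
theorem Q11375 : ∀ i, i < 11375 → P i := stepQ 11374 Q11374 (allL N11374 (tt N10781 (iv D17832)) (tt N10900 F70103) (tt N10823 F70104) (tt N10785 F70105) (tt N11986 D18444) (tt N10824 F70106) (tt N11122 F70107) (tt N11979 (iv F72264)) (tt N10880 F70108))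
theorem Q11376 : ∀ i, i < 11376 → P i := stepQ 11375 Q11375 (allL N11375 (tt N11986 (iv F72287)) (tt N10782 F70109) (tt N11138 F70110) (tt N11229 F70111) (tt N10781 (iv D17833)) (tt N11987 D18445) (tt N11139 F70112) (tt N11980 (iv F72268)) (tt N11951 (iv F72134)))
theorem Q11377 : ∀ i, i < 11377 → P i := stepQ 11376 Q11376 (allL N11376 (tt N10902 F70113) (tt N11987 (iv F72293)) (tt N10783 F70114) (tt N11230 F70115) (tt N11984 (iv F72283)) (tt N10782 (iv D17834)) (tt N11988 D18446) (tt N11981 (iv F72271)) (tt N11952 (iv F72138)))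
theorem Q11378 : ∀ i, i < 11378 → P i := stepQ 11377 Q11377 (allL N11377 (tt N10903 F70116) (tt N11970 (iv F72222)) (tt N11988 (iv F72298)) (tt N10784 F70117) (tt N11985 (iv F72286)) (tt N11962 (iv F72185)) (tt N10783 (iv D17835)) (tt N11982 (iv F72273)) (tt N11953 (iv F72141)))
theorem Q11379 : ∀ i, i < 11379 → P i := stepQ 11378 Q11378 (allL N11378 (tt N10787 (iv D17836)) (tt N10914 F70118) (tt N11168 F70119) (tt N11979 (iv F72261)) (tt N11654 (iv F71136)) (tt N10934 F70120) (tt N11169 F70121) (tt N10788 F70122) (tt N11770 (iv F71496)))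
theorem Q11380 : ∀ i, i < 11380 → P i := stepQ 11379 Q11379 (allL N11379 (tt N10999 F70123) (tt N11239 F70124) (tt N10834 F70125) (tt N10791 (iv D17837)) (tt N11939 (iv F72076)) (tt N10989 F70126) (tt N10835 F70127) (tt N11989 D18447) (tt N10792 F70128))
theorem Q11381 : ∀ i, i < 11381 → P i := stepQ 11380 Q11380 (allL N11380 (tt N11276 F70129) (tt N11241 F70130) (tt N10887 F70131) (tt N10793 F70132) (tt N11972 (iv F72234)) (tt N11282 F70133) (tt N10889 F70134) (tt N10792 (iv D17838)) (tt N11706 (iv F71305)))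
theorem Q11382 : ∀ i, i < 11382 → P i := stepQ 11381 Q11381 (allL N11381 (tt N11645 (iv F71105)) (tt N10931 F70135) (tt N10801 F70136) (tt N11357 F70137) (tt N10794 (iv D17839)) (tt N11990 D18448) (tt N11027 F70138) (tt N10812 F70139) (tt N11382 (iv F70145)))
theorem Q11383 : ∀ i, i < 11383 → P i := stepQ 11382 Q11382 (allL N11382 (tt N11045 F70140) (tt N10796 F70141) (tt N11027 F70142) (tt N11755 (iv F71457)) (tt N10795 (iv D17840)) (tt N11991 D18449) (tt N10801 F70143) (tt N10813 F70144) (tt N11381 F70145))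
theorem Q11384 : ∀ i, i < 11384 → P i := stepQ 11383 Q11383 (allL N11383 (tt N11647 (iv F71113)) (tt N11991 (iv F72312)) (tt N11063 F70146) (tt N11978 (iv F72257)) (tt N11990 (iv F72309)) (tt N10796 (iv D17841)) (tt N11992 D18450) (tt N10817 F70147) (tt N11528 (iv F70686)))
theorem Q11385 : ∀ i, i < 11385 → P i := stepQ 11384 Q11384 (allL N11384 (tt N10800 F70148) (tt N11259 F70149) (tt N11008 F70150) (tt N10797 (iv D17842)) (tt N11993 D18451) (tt N11011 F70151) (tt N11043 F70152) (tt N11109 F70153) (tt N11009 F70154))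
theorem Q11386 : ∀ i, i < 11386 → P i := stepQ 11385 Q11385 (allL N11385 (tt N10801 F70155) (tt N11911 (iv F71924)) (tt N11645 (iv F71107)) (tt N11993 (iv F72323)) (tt N10798 (iv D17843)) (tt N11994 D18452) (tt N11045 F70156) (tt N10819 F70157) (tt N11531 (iv F70701)))
theorem Q11387 : ∀ i, i < 11387 → P i := stepQ 11386 Q11386 (allL N11386 (tt N11109 F70158) (tt N10803 F70159) (tt N11100 F70160) (tt N10799 (iv D17844)) (tt N11995 D18453) (tt N10982 F70161) (tt N11217 F70162) (tt N10800 F70163) (tt N10981 F70164))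
theorem Q11388 : ∀ i, i < 11388 → P i := stepQ 11387 Q11387 (allL N11387 (tt N11993 (iv F72320)) (tt N10807 F70165) (tt N11147 F70166) (tt N10801 F70167) (tt N10800 (iv D17845)) (tt N11996 D18454) (tt N11755 (iv F71458)) (tt N11995 (iv F72335)) (tt N11148 F70168))
theorem Q11389 : ∀ i, i < 11389 → P i := stepQ 11388 Q11388 (allL N11388 (tt N11994 (iv F72327)) (tt N10808 F70169) (tt N11990 (iv F72307)) (tt N11996 (iv F72339)) (tt N11063 F70170) (tt N10801 (iv D17846)) (tt N11997 D18455) (tt N10826 F70171) (tt N11629 (iv F71052)))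
theorem Q11390 : ∀ i, i < 11390 → P i := stepQ 11389 Q11389 (allL N11389 (tt N11208 F70172) (tt N10982 F70173) (tt N11998 D18456) (tt N10802 (iv D17847)) (tt N11999 D18457) (tt N10803 F70174) (tt N10996 F70175) (tt N10805 F70176) (tt N10976 F70177))
theorem Q11391 : ∀ i, i < 11391 → P i := stepQ 11390 Q11390 (allL N11390 (tt N11916 (iv F71947)) (tt N12000 D18458) (tt N10803 (iv D17848)) (tt N11390 F70178) (tt N12001 D18459) (tt N11998 (iv F72348)) (tt N11944 (iv F72098)) (tt N10806 F70179) (tt N11930 (iv F72027)))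
theorem Q11392 : ∀ i, i < 11392 → P i := stepQ 11391 Q11391 (allL N11391 (tt N11917 (iv F71953)) (tt N11995 (iv F72331)) (tt N12001 (iv F72362)) (tt N10833 F70180) (tt N10803 (iv D17849)) (tt N12002 D18460) (tt N11945 (iv F72104)) (tt N10807 F70181) (tt N11931 (iv F72033)))
theorem Q11393 : ∀ i, i < 11393 → P i := stepQ 11392 Q11392 (allL N11392 (tt N11667 (iv F71186)) (tt N10967 F70182) (tt N11279 F70183) (tt N10804 (iv D17850)) (tt N12003 D18461) (tt N11565 (iv F70819)) (tt N10805 F70184) (tt N10996 F70185) (tt N10960 F70186))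
theorem Q11394 : ∀ i, i < 11394 → P i := stepQ 11393 Q11393 (allL N11393 (tt N11918 (iv F71959)) (tt N11133 F70187) (tt N10805 (iv D17851)) (tt N10809 F70188) (tt N12004 D18462) (tt N10806 F70189) (tt N11279 F70190) (tt N11998 (iv F72350)) (tt N11135 F70191))
theorem Q11395 : ∀ i, i < 11395 → P i := stepQ 11394 Q11394 (allL N11394 (tt N11919 (iv F71965)) (tt N11150 F70192) (tt N12004 (iv F72373)) (tt N11072 F70193) (tt N10805 (iv D17852)) (tt N12005 D18463) (tt N12003 (iv F72369)) (tt N11999 (iv F72355)) (tt N11152 F70194))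
theorem Q11396 : ∀ i, i < 11396 → P i := stepQ 11395 Q11395 (allL N11395 (tt N12006 D18464) (tt N10806 (iv D17853)) (tt N11130 F70195) (tt N10811 F70196) (tt N12007 D18465) (tt N11133 F70197) (tt N11738 (iv F71404)) (tt N12000 (iv F72360)) (tt N11131 F70198))
theorem Q11397 : ∀ i, i < 11397 → P i := stepQ 11396 Q11396 (allL N11396 (tt N11921 (iv F71973)) (tt N12007 (iv F72384)) (tt N10807 F70199) (tt N11251 F70200) (tt N10806 (iv D17854)) (tt N12008 D18466) (tt N11977 (iv F72254)) (tt N12001 (iv F72363)) (tt N11630 (iv F71058)))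
theorem Q11398 : ∀ i, i < 11398 → P i := stepQ 11397 Q11397 (allL N11397 (tt N11922 (iv F71978)) (tt N11996 (iv F72337)) (tt N12008 (iv F72388)) (tt N10808 F70201) (tt N12005 (iv F72378)) (tt N10807 (iv D17855)) (tt N12009 D18467) (tt N12002 (iv F72365)) (tt N11631 (iv F71062)))
theorem Q11399 : ∀ i, i < 11399 → P i := stepQ 11398 Q11398 (allL N11398 (tt N11923 (iv F71981)) (tt N11997 (iv F72342)) (tt N11253 F70202) (tt N12009 (iv F72390)) (tt N11076 F70203) (tt N11992 (iv F72318)) (tt N10808 (iv D17856)) (tt N10840 F70204) (tt N11632 (iv F71066)))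
theorem Q11400 : ∀ i, i < 11400 → P i := stepQ 11399 Q11399 (allL N11399 (tt N11925 (iv F71991)) (tt N11173 F70205) (tt N10810 F70206) (tt N12010 D18468) (tt N10809 (iv D17857)) (tt N11256 F70207) (tt N11301 F70208) (tt N11399 F70209) (tt N11174 F70210))
theorem Q11401 : ∀ i, i < 11401 → P i := stepQ 11400 Q11400 (allL N11400 (tt N10811 (iv D17858)) (tt N11926 (iv F71997)) (tt N10921 F70211) (tt N12006 (iv F72381)) (tt N11257 F70212) (tt N11170 F70213) (tt N11770 (iv F71494)) (tt N11400 F70214) (tt N11169 F70215))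
theorem Q11402 : ∀ i, i < 11402 → P i := stepQ 11401 Q11401 (allL N11401 (tt N11927 (iv F72004)) (tt N10932 F70216) (tt N10826 F70217) (tt N10930 F70218) (tt N10817 F70219) (tt N10812 (iv D17859)) (tt N12011 D18469) (tt N11990 (iv F72310)) (tt N10846 F70220))
theorem Q11403 : ∀ i, i < 11403 → P i := stepQ 11402 Q11402 (allL N11402 (tt N11048 F70221) (tt N10817 F70222) (tt N11031 F70223) (tt N11227 F70224) (tt N10932 F70225) (tt N10813 (iv D17860)) (tt N12012 D18470) (tt N11991 (iv F72315)) (tt N10851 F70226))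
theorem Q11404 : ∀ i, i < 11404 → P i := stepQ 11403 Q11403 (allL N11403 (tt N11930 (iv F72021)) (tt N12013 D18471) (tt N10814 (iv D17861)) (tt N11403 F70227) (tt N12014 D18472) (tt N11209 F70228) (tt N10832 F70229) (tt N10815 F70230) (tt N11916 (iv F71952)))
theorem Q11405 : ∀ i, i < 11405 → P i := stepQ 11404 Q11404 (allL N11404 (tt N11931 (iv F72028)) (tt N11220 F70231) (tt N12014 (iv F72415)) (tt N11945 (iv F72103)) (tt N10814 (iv D17862)) (tt N12015 D18473) (tt N10833 F70232) (tt N10816 F70233) (tt N11917 (iv F71958)))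
theorem Q11406 : ∀ i, i < 11406 → P i := stepQ 11405 Q11405 (allL N11405 (tt N11240 (iv F70239)) (tt N10815 (iv D17863)) (tt N11023 F70234) (tt N10818 F70235) (tt N12016 D18474) (tt N11211 F70236) (tt N10837 F70237) (tt N12013 (iv F72413)) (tt N10859 F70238))
theorem Q11407 : ∀ i, i < 11407 → P i := stepQ 11406 Q11406 (allL N11406 (tt N11932 (iv F72034)) (tt N12016 (iv F72422)) (tt N10816 F70240) (tt N11095 F70241) (tt N10815 (iv D17864)) (tt N12017 D18475) (tt N10838 F70242) (tt N12014 (iv F72417)) (tt N10860 F70243))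
theorem Q11408 : ∀ i, i < 11408 → P i := stepQ 11407 Q11407 (allL N11407 (tt N11933 (iv F72040)) (tt N11227 F70244) (tt N12017 (iv F72427)) (tt N10817 F70245) (tt N11213 F70246) (tt N10816 (iv D17865)) (tt N12018 D18476) (tt N12015 (iv F72420)) (tt N10861 F70247))
theorem Q11409 : ∀ i, i < 11409 → P i := stepQ 11408 Q11408 (allL N11408 (tt N11934 (iv F72045)) (tt N12012 (iv F72403)) (tt N11097 F70248) (tt N12018 (iv F72432)) (tt N12011 (iv F72399)) (tt N10840 F70249) (tt N10817 (iv D17866)) (tt N11992 (iv F72319)) (tt N10862 F70250))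
theorem Q11410 : ∀ i, i < 11410 → P i := stepQ 11409 Q11409 (allL N11409 (tt N10826 F70251) (tt N11936 (iv F72056)) (tt N11927 (iv F72006)) (tt N11288 F70252) (tt N11086 F70253) (tt N10819 (iv D17867)) (tt N12019 D18477) (tt N11994 (iv F72329)) (tt N10871 F70254))
theorem Q11411 : ∀ i, i < 11411 → P i := stepQ 11410 Q11410 (allL N11410 (tt N11129 F70255) (tt N10830 F70256) (tt N11979 (iv F72260)) (tt N10820 (iv D17868)) (tt N12020 D18478) (tt N10822 F70257) (tt N11118 F70258) (tt N10823 F70259) (tt N11724 (iv F71357)))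
theorem Q11412 : ∀ i, i < 11412 → P i := stepQ 11411 Q11411 (allL N11411 (tt N11107 F70260) (tt N10831 F70261) (tt N12021 D18479) (tt N10821 (iv D17869)) (tt N12022 D18480) (tt N11724 (iv F71355)) (tt N11218 F70262) (tt N10876 F70263) (tt N10822 F70264))
theorem Q11413 : ∀ i, i < 11413 → P i := stepQ 11412 Q11412 (allL N11412 (tt N11272 F70265) (tt N11024 (iv F70269)) (tt N10822 (iv D17870)) (tt N10934 F70266) (tt N12023 D18481) (tt N11979 (iv F72262)) (tt N11219 F70267) (tt N10824 F70268) (tt N12021 (iv F72449)))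
theorem Q11414 : ∀ i, i < 11414 → P i := stepQ 11413 Q11413 (allL N11413 (tt N11273 F70270) (tt N10833 F70271) (tt N12023 (iv F72459)) (tt N11995 (iv F72333)) (tt N10822 (iv D17871)) (tt N12024 D18482) (tt N11220 F70272) (tt N10825 F70273) (tt N12022 (iv F72456)))
theorem Q11415 : ∀ i, i < 11415 → P i := stepQ 11414 Q11414 (allL N11414 (tt N11138 F70274) (tt N10836 F70275) (tt N11986 (iv F72289)) (tt N11094 F70276) (tt N10823 (iv D17872)) (tt N12025 D18483) (tt N11123 F70277) (tt N12020 (iv F72444)) (tt N10881 F70278))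
theorem Q11416 : ∀ i, i < 11416 → P i := stepQ 11415 Q11415 (allL N11415 (tt N11287 F70279) (tt N11003 F70280) (tt N10825 F70281) (tt N10929 F70282) (tt N10824 (iv D17873)) (tt N12026 D18484) (tt N11226 F70283) (tt N12023 (iv F72462)) (tt N10883 F70284))
theorem Q11417 : ∀ i, i < 11417 → P i := stepQ 11416 Q11416 (allL N11416 (tt N11288 F70285) (tt N10839 F70286) (tt N12026 (iv F72473)) (tt N10826 F70287) (tt N12025 (iv F72469)) (tt N10825 (iv D17874)) (tt N12027 D18485) (tt N12024 (iv F72465)) (tt N10884 F70288))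
theorem Q11418 : ∀ i, i < 11418 → P i := stepQ 11417 Q11417 (allL N11417 (tt N12019 (iv F72436)) (tt N10840 F70289) (tt N12011 (iv F72397)) (tt N12027 (iv F72478)) (tt N11097 F70290) (tt N12012 (iv F72407)) (tt N10826 (iv D17875)) (tt N11997 (iv F72344)) (tt N10885 F70291))
theorem Q11419 : ∀ i, i < 11419 → P i := stepQ 11418 Q11418 (allL N11418 (tt N11597 (iv F70944)) (tt N11725 (iv F71359)) (tt N12028 D18486) (tt N10827 (iv D17876)) (tt N12029 D18487) (tt N11589 (iv F70913)) (tt N11420 (iv F70300)) (tt N11098 F70292) (tt N11419 (iv F70298)))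
theorem Q11420 : ∀ i, i < 11420 → P i := stepQ 11419 Q11419 (allL N11419 (tt N10995 F70293) (tt N11118 F70294) (tt N11989 (iv F72302)) (tt N10828 (iv D17877)) (tt N12030 D18488) (tt N10988 F70295) (tt N10830 F70296) (tt N10834 F70297) (tt N11418 F70298))
theorem Q11421 : ∀ i, i < 11421 → P i := stepQ 11420 Q11420 (allL N11420 (tt N11596 (iv F70939)) (tt N11724 (iv F71354)) (tt N12031 D18489) (tt N10829 (iv D17878)) (tt N12032 D18490) (tt N10831 F70299) (tt N11418 F70300) (tt N10888 F70301) (tt N10830 F70302))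
theorem Q11422 : ∀ i, i < 11422 → P i := stepQ 11421 Q11421 (allL N11421 (tt N11942 (iv F72086)) (tt N12033 D18491) (tt N10830 (iv D17879)) (tt N11421 F70303) (tt N12034 D18492) (tt N10832 F70304) (tt N11989 (iv F72305)) (tt N10835 F70305) (tt N12031 (iv F72495)))
theorem Q11423 : ∀ i, i < 11423 → P i := stepQ 11422 Q11422 (allL N11422 (tt N11943 (iv F72092)) (tt N12020 (iv F72442)) (tt N12034 (iv F72506)) (tt N12029 (iv F72484)) (tt N10830 (iv D17880)) (tt N12035 D18493) (tt N12030 (iv F72488)) (tt N10836 F70306) (tt N12032 (iv F72499)))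
theorem Q11424 : ∀ i, i < 11424 → P i := stepQ 11423 Q11423 (allL N11423 (tt N11944 (iv F72096)) (tt N12036 D18494) (tt N10831 (iv D17881)) (tt N11423 F70307) (tt N12037 D18495) (tt N12031 (iv F72492)) (tt N11916 (iv F71950)) (tt N10891 F70308) (tt N10832 F70309))
theorem Q11425 : ∀ i, i < 11425 → P i := stepQ 11424 Q11424 (allL N11424 (tt N11945 (iv F72101)) (tt N12022 (iv F72452)) (tt N12037 (iv F72514)) (tt N11931 (iv F72030)) (tt N10831 (iv D17882)) (tt N12038 D18496) (tt N11917 (iv F71956)) (tt N10892 F70310) (tt N10833 F70311))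
theorem Q11426 : ∀ i, i < 11426 → P i := stepQ 11425 Q11425 (allL N11425 (tt N12039 D18497) (tt N10832 (iv D17883)) (tt N11024 F70312) (tt N11425 F70313) (tt N12040 D18498) (tt N12033 (iv F72503)) (tt N12013 (iv F72412)) (tt N10837 F70314) (tt N12036 (iv F72513)))
theorem Q11427 : ∀ i, i < 11427 → P i := stepQ 11426 Q11426 (allL N11426 (tt N11947 (iv F72113)) (tt N12040 (iv F72525)) (tt N10833 F70315) (tt N12041 D18499) (tt N10832 (iv D17884)) (tt N12042 D18500) (tt N12014 (iv F72416)) (tt N10838 F70316) (tt N12037 (iv F72516)))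
theorem Q11428 : ∀ i, i < 11428 → P i := stepQ 11427 Q11427 (allL N11427 (tt N11948 (iv F72116)) (tt N12024 (iv F72464)) (tt N12042 (iv F72530)) (tt N12002 (iv F72364)) (tt N12035 (iv F72508)) (tt N10833 (iv D17885)) (tt N12043 D18501) (tt N10839 F70317) (tt N12038 (iv F72518)))
theorem Q11429 : ∀ i, i < 11429 → P i := stepQ 11428 Q11428 (allL N11428 (tt N11000 F70318) (tt N11123 F70319) (tt N11939 (iv F72075)) (tt N11104 F70320) (tt N10834 (iv D17886)) (tt N12044 D18502) (tt N10836 F70321) (tt N12030 (iv F72489)) (tt N10896 F70322))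
theorem Q11430 : ∀ i, i < 11430 → P i := stepQ 11429 Q11429 (allL N11429 (tt N10882 F70323) (tt N10835 (iv D17887)) (tt N10900 F70324) (tt N10841 F70325) (tt N12045 D18503) (tt N10837 F70326) (tt N11239 F70327) (tt N12033 (iv F72505)) (tt N10897 F70328))
theorem Q11431 : ∀ i, i < 11431 → P i := stepQ 11430 Q11430 (allL N11430 (tt N11949 (iv F72118)) (tt N12045 (iv F72539)) (tt N10836 F70329) (tt N11928 (iv F72013)) (tt N10835 (iv D17888)) (tt N12046 D18504) (tt N11939 (iv F72077)) (tt N12034 (iv F72507)) (tt N10898 F70330))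
theorem Q11432 : ∀ i, i < 11432 → P i := stepQ 11431 Q11431 (allL N11431 (tt N11950 (iv F72124)) (tt N12025 (iv F72467)) (tt N12046 (iv F72544)) (tt N11105 F70331) (tt N10839 F70332) (tt N10836 (iv D17889)) (tt N12047 D18505) (tt N12035 (iv F72509)) (tt N10899 F70333))
theorem Q11433 : ∀ i, i < 11433 → P i := stepQ 11432 Q11432 (allL N11432 (tt N10837 (iv D17890)) (tt N10880 F70334) (tt N10897 F70335) (tt N10842 F70336) (tt N12048 D18506) (tt N10882 F70337) (tt N11240 F70338) (tt N12039 (iv F72524)) (tt N10900 F70339))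
theorem Q11434 : ∀ i, i < 11434 → P i := stepQ 11433 Q11433 (allL N11433 (tt N12048 (iv F72550)) (tt N10838 F70340) (tt N11003 F70341) (tt N11001 F70342) (tt N10837 (iv D17891)) (tt N12049 D18507) (tt N12016 (iv F72425)) (tt N12040 (iv F72527)) (tt N10901 F70343))
theorem Q11435 : ∀ i, i < 11435 → P i := stepQ 11434 Q11434 (allL N11434 (tt N11952 (iv F72135)) (tt N12049 (iv F72556)) (tt N10839 F70344) (tt N11268 F70345) (tt N12046 (iv F72545)) (tt N10838 (iv D17892)) (tt N12050 D18508) (tt N12042 (iv F72531)) (tt N10902 F70346))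
theorem Q11436 : ∀ i, i < 11436 → P i := stepQ 11435 Q11435 (allL N11435 (tt N11953 (iv F72139)) (tt N12027 (iv F72477)) (tt N12050 (iv F72560)) (tt N10840 F70347) (tt N12047 (iv F72548)) (tt N12018 (iv F72434)) (tt N10839 (iv D17893)) (tt N12043 (iv F72532)) (tt N10903 F70348))
theorem Q11437 : ∀ i, i < 11437 → P i := stepQ 11436 Q11436 (allL N11436 (tt N11862 (iv F71788)) (tt N10943 F70349) (tt N10843 (iv D17894)) (tt N11436 F70350) (tt N12051 D18509) (tt N11189 F70351) (tt N11036 F70352) (tt N10844 F70353) (tt N11309 F70354))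
theorem Q11438 : ∀ i, i < 11438 → P i := stepQ 11437 Q11437 (allL N11437 (tt N11863 (iv F71794)) (tt N10922 F70355) (tt N12051 (iv F72564)) (tt N11443 (iv F70385)) (tt N10843 (iv D17895)) (tt N12052 D18510) (tt N11037 F70356) (tt N10845 F70357) (tt N11310 F70358))
theorem Q11439 : ∀ i, i < 11439 → P i := stepQ 11438 Q11438 (allL N11438 (tt N11955 (iv F72148)) (tt N10962 F70359) (tt N10845 F70360) (tt N10883 F70361) (tt N10844 (iv D17896)) (tt N12053 D18511) (tt N11040 F70362) (tt N12051 (iv F72566)) (tt N10929 F70363))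
theorem Q11440 : ∀ i, i < 11440 → P i := stepQ 11439 Q11439 (allL N11439 (tt N11956 (iv F72154)) (tt N10923 F70364) (tt N12053 (iv F72573)) (tt N10846 F70365) (tt N11200 F70366) (tt N10845 (iv D17897)) (tt N12054 D18512) (tt N12052 (iv F72570)) (tt N10930 F70367))
theorem Q11441 : ∀ i, i < 11441 → P i := stepQ 11440 Q11440 (allL N11440 (tt N11957 (iv F72159)) (tt N11033 F70368) (tt N10885 F70369) (tt N12054 (iv F72578)) (tt N10862 F70370) (tt N11042 F70371) (tt N10846 (iv D17898)) (tt N11447 (iv F70408)) (tt N12011 (iv F72401)))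
theorem Q11442 : ∀ i, i < 11442 → P i := stepQ 11441 Q11441 (allL N11441 (tt N10851 F70372) (tt N11958 (iv F72164)) (tt N10975 F70373) (tt N11267 F70374) (tt N10926 F70375) (tt N10847 (iv D17899)) (tt N12055 D18513) (tt N11345 F70376) (tt N11048 F70377))
theorem Q11443 : ∀ i, i < 11443 → P i := stepQ 11442 Q11442 (allL N11442 (tt N11260 F70378) (tt N12056 D18514) (tt N10848 (iv D17900)) (tt N11442 F70379) (tt N12057 D18515) (tt N11202 F70380) (tt N10877 F70381) (tt N10849 F70382) (tt N11912 (iv F71934)))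
theorem Q11444 : ∀ i, i < 11444 → P i := stepQ 11443 Q11443 (allL N11443 (tt N11261 F70383) (tt N10855 F70384) (tt N12057 (iv F72596)) (tt N11437 F70385) (tt N10848 (iv D17901)) (tt N12058 D18516) (tt N10878 F70386) (tt N10850 F70387) (tt N11913 (iv F71940)))
theorem Q11445 : ∀ i, i < 11445 → P i := stepQ 11444 Q11444 (allL N11444 (tt N11239 F70388) (tt N10849 (iv D17902)) (tt N10859 F70389) (tt N10918 F70390) (tt N12059 D18517) (tt N11204 F70391) (tt N10882 F70392) (tt N12056 (iv F72594)) (tt N11023 F70393))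
theorem Q11446 : ∀ i, i < 11446 → P i := stepQ 11445 Q11445 (allL N11445 (tt N11266 F70394) (tt N12059 (iv F72605)) (tt N10850 F70395) (tt N11040 F70396) (tt N10849 (iv D17903)) (tt N12060 D18518) (tt N10883 F70397) (tt N12057 (iv F72598)) (tt N11226 F70398))
theorem Q11447 : ∀ i, i < 11447 → P i := stepQ 11446 Q11446 (allL N11446 (tt N11267 F70399) (tt N10861 F70400) (tt N12060 (iv F72611)) (tt N10851 F70401) (tt N11206 F70402) (tt N10850 (iv D17904)) (tt N12061 D18519) (tt N12058 (iv F72603)) (tt N11227 F70403))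
theorem Q11448 : ∀ i, i < 11448 → P i := stepQ 11447 Q11447 (allL N11447 (tt N12055 (iv F72582)) (tt N10862 F70404) (tt N11042 F70405) (tt N12061 (iv F72617)) (tt N11033 F70406) (tt N10885 F70407) (tt N10851 (iv D17905)) (tt N11440 F70408) (tt N12012 (iv F72408)))
theorem Q11449 : ∀ i, i < 11449 → P i := stepQ 11448 Q11448 (allL N11448 (tt N10960 F70409) (tt N11083 F70410) (tt N11282 F70411) (tt N10852 (iv D17906)) (tt N12062 D18520) (tt N10887 F70412) (tt N10853 F70413) (tt N10856 F70414) (tt N11667 (iv F71190)))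
theorem Q11450 : ∀ i, i < 11450 → P i := stepQ 11449 Q11449 (allL N11449 (tt N11135 F70415) (tt N12063 D18521) (tt N10853 (iv D17907)) (tt N10904 F70416) (tt N12064 D18522) (tt N10854 F70417) (tt N11282 F70418) (tt N10857 F70419) (tt N11918 (iv F71964)))
theorem Q11451 : ∀ i, i < 11451 → P i := stepQ 11450 Q11450 (allL N11450 (tt N11152 F70420) (tt N11203 F70421) (tt N12064 (iv F72633)) (tt N11787 (iv F71565)) (tt N10853 (iv D17908)) (tt N12065 D18523) (tt N12062 (iv F72624)) (tt N10858 F70422) (tt N11919 (iv F71969)))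
theorem Q11452 : ∀ i, i < 11452 → P i := stepQ 11451 Q11451 (allL N11451 (tt N12066 D18524) (tt N10854 (iv D17909)) (tt N12056 (iv F72590)) (tt N10906 F70423) (tt N12067 D18525) (tt N12063 (iv F72629)) (tt N10893 F70424) (tt N10859 F70425) (tt N11920 (iv F71972)))
theorem Q11453 : ∀ i, i < 11453 → P i := stepQ 11452 Q11452 (allL N11452 (tt N11630 (iv F71053)) (tt N12067 (iv F72646)) (tt N10855 F70426) (tt N11549 (iv F70763)) (tt N10854 (iv D17910)) (tt N12068 D18526) (tt N10894 F70427) (tt N10860 F70428) (tt N11921 (iv F71977)))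
theorem Q11454 : ∀ i, i < 11454 → P i := stepQ 11453 Q11453 (allL N11453 (tt N11631 (iv F71059)) (tt N12058 (iv F72600)) (tt N12068 (iv F72649)) (tt N11519 (iv F70639)) (tt N12065 (iv F72638)) (tt N10855 (iv D17911)) (tt N12069 D18527) (tt N10861 F70429) (tt N11922 (iv F71980)))
theorem Q11455 : ∀ i, i < 11455 → P i := stepQ 11454 Q11454 (allL N11454 (tt N10961 F70430) (tt N11085 F70431) (tt N11293 F70432) (tt N10959 F70433) (tt N10856 (iv D17912)) (tt N12070 D18528) (tt N10858 F70434) (tt N12062 (iv F72625)) (tt N10990 F70435))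
theorem Q11456 : ∀ i, i < 11456 → P i := stepQ 11455 Q11455 (allL N11455 (tt N11124 F70436) (tt N10857 (iv D17913)) (tt N11204 F70437) (tt N10863 F70438) (tt N12071 D18529) (tt N10859 F70439) (tt N11228 F70440) (tt N12063 (iv F72631)) (tt N11211 F70441))
theorem Q11457 : ∀ i, i < 11457 → P i := stepQ 11456 Q11456 (allL N11456 (tt N11141 F70442) (tt N12071 (iv F72660)) (tt N10858 F70443) (tt N12072 D18530) (tt N10857 (iv D17914)) (tt N12073 D18531) (tt N11293 F70444) (tt N12064 (iv F72635)) (tt N11212 F70445))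
theorem Q11458 : ∀ i, i < 11458 → P i := stepQ 11457 Q11457 (allL N11457 (tt N11159 F70446) (tt N11206 F70447) (tt N12073 (iv F72672)) (tt N11200 F70448) (tt N10861 F70449) (tt N10858 (iv D17915)) (tt N12074 D18532) (tt N12065 (iv F72639)) (tt N11213 F70450))
theorem Q11459 : ∀ i, i < 11459 → P i := stepQ 11458 Q11458 (allL N11458 (tt N10859 (iv D17916)) (tt N11122 F70451) (tt N11239 F70452) (tt N10864 F70453) (tt N12072 (iv F72668)) (tt N11124 F70454) (tt N10900 F70455) (tt N12066 (iv F72645)) (tt N11240 F70456))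
theorem Q11460 : ∀ i, i < 11460 → P i := stepQ 11459 Q11459 (allL N11459 (tt N12072 (iv F72665)) (tt N10860 F70457) (tt N12059 (iv F72606)) (tt N11141 F70458) (tt N10859 (iv D17917)) (tt N12075 D18533) (tt N10901 F70459) (tt N12067 (iv F72648)) (tt N12016 (iv F72426)))
theorem Q11461 : ∀ i, i < 11461 → P i := stepQ 11460 Q11460 (allL N11460 (tt N11961 (iv F72176)) (tt N12075 (iv F72680)) (tt N10861 F70460) (tt N11142 F70461) (tt N12073 (iv F72673)) (tt N10860 (iv D17918)) (tt N12076 D18534) (tt N12068 (iv F72650)) (tt N12017 (iv F72430)))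
theorem Q11462 : ∀ i, i < 11462 → P i := stepQ 11461 Q11461 (allL N11461 (tt N11962 (iv F72181)) (tt N12061 (iv F72616)) (tt N12076 (iv F72682)) (tt N10862 F70462) (tt N12074 (iv F72678)) (tt N10903 F70463) (tt N10861 (iv D17919)) (tt N12069 (iv F72652)) (tt N12018 (iv F72435)))
theorem Q11463 : ∀ i, i < 11463 → P i := stepQ 11462 Q11462 (allL N11462 (tt N10875 F70464) (tt N11099 F70465) (tt N11946 (iv F72107)) (tt N10865 (iv D17920)) (tt N12077 D18535) (tt N10867 F70466) (tt N11089 F70467) (tt N10868 F70468) (tt N11470 (iv F70498)))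
theorem Q11464 : ∀ i, i < 11464 → P i := stepQ 11463 Q11463 (allL N11463 (tt N10876 F70469) (tt N11043 F70470) (tt N12078 D18536) (tt N10866 (iv D17921)) (tt N12079 D18537) (tt N11470 (iv F70496)) (tt N11259 F70471) (tt N11107 F70472) (tt N10867 F70473))
theorem Q11465 : ∀ i, i < 11465 → P i := stepQ 11464 Q11464 (allL N11464 (tt N10877 F70474) (tt N11942 (iv F72087)) (tt N10867 (iv D17922)) (tt N11464 F70475) (tt N12080 D18538) (tt N11946 (iv F72109)) (tt N11260 F70476) (tt N10869 F70477) (tt N12078 (iv F72693)))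
theorem Q11466 : ∀ i, i < 11466 → P i := stepQ 11465 Q11465 (allL N11465 (tt N10878 F70478) (tt N11963 (iv F72187)) (tt N12080 (iv F72701)) (tt N11573 (iv F70853)) (tt N10867 (iv D17923)) (tt N12081 D18539) (tt N11261 F70479) (tt N10870 F70480) (tt N12079 (iv F72699)))
theorem Q11467 : ∀ i, i < 11467 → P i := stepQ 11466 Q11466 (allL N11466 (tt N10881 F70481) (tt N11104 F70482) (tt N11951 (iv F72131)) (tt N11123 F70483) (tt N10868 (iv D17924)) (tt N12082 D18540) (tt N11094 F70484) (tt N12077 (iv F72688)) (tt N11138 F70485))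
theorem Q11468 : ∀ i, i < 11468 → P i := stepQ 11467 Q11467 (allL N11467 (tt N10883 F70486) (tt N11949 (iv F72119)) (tt N10870 F70487) (tt N11955 (iv F72151)) (tt N10869 (iv D17925)) (tt N12083 D18541) (tt N11266 F70488) (tt N12080 (iv F72703)) (tt N11287 F70489))
theorem Q11469 : ∀ i, i < 11469 → P i := stepQ 11468 Q11468 (allL N11468 (tt N10884 F70490) (tt N11964 (iv F72194)) (tt N12083 (iv F72712)) (tt N10871 F70491) (tt N12082 (iv F72709)) (tt N10870 (iv D17926)) (tt N12084 D18542) (tt N12081 (iv F72705)) (tt N11288 F70492))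
theorem Q11470 : ∀ i, i < 11470 → P i := stepQ 11469 Q11469 (allL N11469 (tt N10885 F70493) (tt N11966 (iv F72205)) (tt N11957 (iv F72160)) (tt N12084 (iv F72715)) (tt N11127 F70494) (tt N12055 (iv F72586)) (tt N10871 (iv D17927)) (tt N11576 (iv F70863)) (tt N12019 (iv F72440)))
theorem Q11471 : ∀ i, i < 11471 → P i := stepQ 11470 Q11470 (allL N11470 (tt N11472 (iv F70504)) (tt N10886 F70495) (tt N12085 D18543) (tt N10872 (iv D17928)) (tt N12086 D18544) (tt N11463 F70496) (tt N11695 (iv F71271)) (tt N11128 F70497) (tt N11462 F70498))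
theorem Q11472 : ∀ i, i < 11472 → P i := stepQ 11471 Q11471 (allL N11471 (tt N11089 F70499) (tt N10887 F70500) (tt N12087 D18545) (tt N10873 (iv D17929)) (tt N12088 D18546) (tt N11083 F70501) (tt N10875 F70502) (tt N10879 F70503) (tt N11694 (iv F71267)))
theorem Q11473 : ∀ i, i < 11473 → P i := stepQ 11472 Q11472 (allL N11472 (tt N11470 F70504) (tt N10888 F70505) (tt N12089 D18547) (tt N10874 (iv D17930)) (tt N12090 D18548) (tt N10876 F70506) (tt N11694 (iv F71266)) (tt N11724 (iv F71356)) (tt N10875 F70507))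
theorem Q11474 : ∀ i, i < 11474 → P i := stepQ 11473 Q11473 (allL N11473 (tt N11946 F72112) (tt N12039 (iv F72519)) (tt N10875 (iv D17931)) (tt N11473 F70508) (tt N12091 D18549) (tt N10877 F70509) (tt N12087 (iv F72732)) (tt N10880 F70510) (tt N12089 (iv F72741)))
theorem Q11475 : ∀ i, i < 11475 → P i := stepQ 11474 Q11474 (allL N11474 (tt N12077 (iv F72685)) (tt N10890 F70511) (tt N12091 (iv F72746)) (tt N12086 (iv F72725)) (tt N10875 (iv D17932)) (tt N12092 D18550) (tt N12088 (iv F72736)) (tt N10881 F70512) (tt N12090 (iv F72745)))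
theorem Q11476 : ∀ i, i < 11476 → P i := stepQ 11475 Q11475 (allL N11475 (tt N12078 (iv F72689)) (tt N12093 D18551) (tt N10876 (iv D17933)) (tt N11475 F70513) (tt N12094 D18552) (tt N12089 (iv F72740)) (tt N11912 (iv F71932)) (tt N12021 (iv F72448)) (tt N10877 F70514))
theorem Q11477 : ∀ i, i < 11477 → P i := stepQ 11476 Q11476 (allL N11476 (tt N12079 (iv F72694)) (tt N10892 F70515) (tt N12094 (iv F72755)) (tt N11637 (iv F71086)) (tt N10876 (iv D17934)) (tt N12095 D18553) (tt N11913 (iv F71938)) (tt N12022 (iv F72455)) (tt N10878 F70516))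
theorem Q11478 : ∀ i, i < 11478 → P i := stepQ 11477 Q11477 (allL N11477 (tt N12033 (iv F72500)) (tt N10877 (iv D17935)) (tt N10893 F70517) (tt N11477 F70518) (tt N12096 D18554) (tt N12039 (iv F72522)) (tt N12056 (iv F72593)) (tt N10882 F70519) (tt N12093 (iv F72754)))
theorem Q11479 : ∀ i, i < 11479 → P i := stepQ 11478 Q11478 (allL N11478 (tt N12080 (iv F72700)) (tt N12096 (iv F72759)) (tt N10878 F70520) (tt N12097 D18555) (tt N10877 (iv D17936)) (tt N12098 D18556) (tt N12057 (iv F72597)) (tt N10883 F70521) (tt N12094 (iv F72756)))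
theorem Q11480 : ∀ i, i < 11480 → P i := stepQ 11479 Q11479 (allL N11479 (tt N12081 (iv F72704)) (tt N10895 F70522) (tt N12098 (iv F72763)) (tt N11639 (iv F71093)) (tt N12092 (iv F72749)) (tt N10878 (iv D17937)) (tt N12099 D18557) (tt N10884 F70523) (tt N12095 (iv F72758)))
theorem Q11481 : ∀ i, i < 11481 → P i := stepQ 11480 Q11480 (allL N11480 (tt N11093 F70524) (tt N11240 F70525) (tt N10879 (iv D17938)) (tt N10919 F70526) (tt N12100 D18558) (tt N11084 F70527) (tt N10880 F70528) (tt N12087 (iv F72733)) (tt N11122 F70529))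
theorem Q11482 : ∀ i, i < 11482 → P i := stepQ 11481 Q11481 (allL N11481 (tt N11094 F70530) (tt N10896 F70531) (tt N12100 (iv F72769)) (tt N11138 F70532) (tt N10879 (iv D17939)) (tt N12101 D18559) (tt N10881 F70533) (tt N12088 (iv F72737)) (tt N11123 F70534))
theorem Q11483 : ∀ i, i < 11483 → P i := stepQ 11482 Q11482 (allL N11482 (tt N11951 (iv F72129)) (tt N12048 (iv F72551)) (tt N10881 F70535) (tt N12102 D18560) (tt N10880 (iv D17940)) (tt N12103 D18561) (tt N12100 (iv F72771)) (tt N12091 (iv F72747)) (tt N11986 (iv F72292)))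
theorem Q11484 : ∀ i, i < 11484 → P i := stepQ 11483 Q11483 (allL N11483 (tt N12082 (iv F72706)) (tt N10899 F70536) (tt N12103 (iv F72784)) (tt N11140 F70537) (tt N10884 F70538) (tt N10881 (iv D17941)) (tt N12104 D18562) (tt N12092 (iv F72750)) (tt N12025 (iv F72470)))
theorem Q11485 : ∀ i, i < 11485 → P i := stepQ 11484 Q11484 (allL N11484 (tt N12045 (iv F72538)) (tt N10883 F70539) (tt N10901 F70540) (tt N10962 F70541) (tt N10882 (iv D17942)) (tt N12105 D18563) (tt N12059 (iv F72608)) (tt N12096 (iv F72761)) (tt N11003 F70542))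
theorem Q11486 : ∀ i, i < 11486 → P i := stepQ 11485 Q11485 (allL N11485 (tt N12083 (iv F72711)) (tt N12105 (iv F72789)) (tt N10884 F70543) (tt N12053 (iv F72574)) (tt N12103 (iv F72785)) (tt N10883 (iv D17943)) (tt N12106 D18564) (tt N12098 (iv F72764)) (tt N12026 (iv F72475)))
theorem Q11487 : ∀ i, i < 11487 → P i := stepQ 11486 Q11486 (allL N11486 (tt N12084 (iv F72714)) (tt N10903 F70544) (tt N12106 (iv F72793)) (tt N10885 F70545) (tt N12104 (iv F72788)) (tt N12061 (iv F72619)) (tt N10884 (iv D17944)) (tt N12099 (iv F72766)) (tt N12027 (iv F72480)))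
theorem Q11488 : ∀ i, i < 11488 → P i := stepQ 11487 Q11487 (allL N11487 (tt N11876 (iv F71825)) (tt N12086 (iv F72724)) (tt N11818 (iv F71645)) (tt N10890 F70546) (tt N10886 (iv D17945)) (tt N12107 D18565) (tt N11709 (iv F71314)) (tt N11145 F70547) (tt N11708 (iv F71312)))
theorem Q11489 : ∀ i, i < 11489 → P i := stepQ 11488 Q11488 (allL N11488 (tt N11974 (iv F72239)) (tt N12088 (iv F72735)) (tt N11972 (iv F72233)) (tt N11709 (iv F71313)) (tt N10887 (iv D17946)) (tt N12108 D18566) (tt N10890 F70548) (tt N10896 F70549) (tt N11707 (iv F71308)))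
theorem Q11490 : ∀ i, i < 11490 → P i := stepQ 11489 Q11489 (allL N11489 (tt N11905 (iv F71897)) (tt N12109 D18567) (tt N10888 (iv D17947)) (tt N10910 F70550) (tt N12110 D18568) (tt N10891 F70551) (tt N11706 (iv F71304)) (tt N12031 (iv F72494)) (tt N10889 F70552))
theorem Q11491 : ∀ i, i < 11491 → P i := stepQ 11490 Q11490 (allL N11490 (tt N11975 (iv F72244)) (tt N12090 (iv F72743)) (tt N12110 (iv F72802)) (tt N11708 (iv F71309)) (tt N10888 (iv D17948)) (tt N12111 D18569) (tt N11707 (iv F71307)) (tt N12032 (iv F72498)) (tt N10890 F70553))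
theorem Q11492 : ∀ i, i < 11492 → P i := stepQ 11491 Q11491 (allL N11491 (tt N11024 F70554) (tt N10889 (iv D17949)) (tt N12039 (iv F72520)) (tt N10911 F70555) (tt N12112 D18570) (tt N10893 F70556) (tt N11241 F70557) (tt N10897 F70558) (tt N12109 (iv F72801)))
theorem Q11493 : ∀ i, i < 11493 → P i := stepQ 11492 Q11492 (allL N11492 (tt N11884 (iv F71847)) (tt N12112 (iv F72807)) (tt N10890 F70559) (tt N11821 (iv F71656)) (tt N10889 (iv D17950)) (tt N12113 D18571) (tt N11972 (iv F72235)) (tt N10898 F70560) (tt N12110 (iv F72803)))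
theorem Q11494 : ∀ i, i < 11494 → P i := stepQ 11493 Q11493 (allL N11493 (tt N11976 (iv F72248)) (tt N12092 (iv F72748)) (tt N12113 (iv F72810)) (tt N12107 (iv F72794)) (tt N10895 F70561) (tt N10890 (iv D17951)) (tt N12114 D18572) (tt N10899 F70562) (tt N12111 (iv F72805)))
theorem Q11495 : ∀ i, i < 11495 → P i := stepQ 11494 Q11494 (allL N11494 (tt N12115 D18573) (tt N10891 (iv D17952)) (tt N12093 (iv F72751)) (tt N10912 F70563) (tt N12116 D18574) (tt N12109 (iv F72799)) (tt N11920 (iv F71971)) (tt N12036 (iv F72512)) (tt N10893 F70564))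
theorem Q11496 : ∀ i, i < 11496 → P i := stepQ 11495 Q11495 (allL N11495 (tt N11977 (iv F72251)) (tt N12116 (iv F72818)) (tt N10892 F70565) (tt N12117 D18575) (tt N10891 (iv D17953)) (tt N12118 D18576) (tt N11921 (iv F71976)) (tt N12037 (iv F72515)) (tt N10894 F70566))
theorem Q11497 : ∀ i, i < 11497 → P i := stepQ 11496 Q11496 (allL N11496 (tt N11978 (iv F72256)) (tt N12095 (iv F72757)) (tt N12118 (iv F72825)) (tt N11647 (iv F71114)) (tt N12111 (iv F72804)) (tt N10892 (iv D17954)) (tt N12119 D18577) (tt N12038 (iv F72517)) (tt N10895 F70567))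
theorem Q11498 : ∀ i, i < 11498 → P i := stepQ 11497 Q11497 (allL N11497 (tt N10893 (iv D17955)) (tt N11979 (iv F72259)) (tt N12033 (iv F72501)) (tt N10914 F70568) (tt N12120 D18578) (tt N11024 F70569) (tt N12066 (iv F72644)) (tt N10900 F70570) (tt N12115 (iv F72817)))
theorem Q11499 : ∀ i, i < 11499 → P i := stepQ 11498 Q11498 (allL N11498 (tt N12120 (iv F72828)) (tt N10894 F70571) (tt N12096 (iv F72760)) (tt N12121 D18579) (tt N10893 (iv D17956)) (tt N12122 D18580) (tt N12067 (iv F72647)) (tt N10901 F70572) (tt N12116 (iv F72819)))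
theorem Q11500 : ∀ i, i < 11500 → P i := stepQ 11499 Q11499 (allL N11499 (tt N11651 (iv F71125)) (tt N12121 (iv F72830)) (tt N11534 (iv F70712)) (tt N10894 (iv D17957)) (tt N10916 F70573) (tt N12123 D18581) (tt N11549 (iv F70764)) (tt N11284 F70574) (tt N12117 (iv F72824)))
theorem Q11501 : ∀ i, i < 11501 → P i := stepQ 11500 Q11500 (allL N11500 (tt N11981 (iv F72269)) (tt N12122 (iv F72833)) (tt N10895 F70575) (tt N12123 (iv F72835)) (tt N12113 (iv F72811)) (tt N10894 (iv D17958)) (tt N12124 D18582) (tt N10902 F70576) (tt N12118 (iv F72826)))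
theorem Q11502 : ∀ i, i < 11502 → P i := stepQ 11501 Q11501 (allL N11501 (tt N11982 (iv F72272)) (tt N12099 (iv F72765)) (tt N12124 (iv F72837)) (tt N11648 (iv F71117)) (tt N12114 (iv F72813)) (tt N12069 (iv F72651)) (tt N10895 (iv D17959)) (tt N10903 F70577) (tt N12119 (iv F72827)))
theorem Q11503 : ∀ i, i < 11503 → P i := stepQ 11502 Q11502 (allL N11502 (tt N11983 (iv F72274)) (tt N12101 (iv F72774)) (tt N11971 (iv F72228)) (tt N11156 F70578) (tt N12070 (iv F72657)) (tt N10896 (iv D17960)) (tt N12125 D18583) (tt N12108 (iv F72796)) (tt N12044 (iv F72537)))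
theorem Q11504 : ∀ i, i < 11504 → P i := stepQ 11503 Q11503 (allL N11503 (tt N11003 F70579) (tt N10898 F70580) (tt N12048 (iv F72552)) (tt N10991 F70581) (tt N10897 (iv D17961)) (tt N12126 D18584) (tt N11214 F70582) (tt N12112 (iv F72809)) (tt N12045 (iv F72543)))
theorem Q11505 : ∀ i, i < 11505 → P i := stepQ 11504 Q11504 (allL N11504 (tt N11984 (iv F72280)) (tt N12126 (iv F72842)) (tt N10899 F70583) (tt N11959 (iv F72171)) (tt N10902 F70584) (tt N10898 (iv D17962)) (tt N12127 D18585) (tt N12113 (iv F72812)) (tt N12046 (iv F72546)))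
theorem Q11506 : ∀ i, i < 11506 → P i := stepQ 11505 Q11505 (allL N11505 (tt N11985 (iv F72284)) (tt N12104 (iv F72786)) (tt N12127 (iv F72845)) (tt N11158 F70585) (tt N10903 F70586) (tt N12125 (iv F72840)) (tt N10899 (iv D17963)) (tt N12114 (iv F72814)) (tt N12047 (iv F72549)))
theorem Q11507 : ∀ i, i < 11507 → P i := stepQ 11506 Q11506 (allL N11506 (tt N10901 F70587) (tt N11986 (iv F72288)) (tt N12045 (iv F72540)) (tt N11293 F70588) (tt N10900 (iv D17964)) (tt N12128 D18586) (tt N12072 (iv F72669)) (tt N12120 (iv F72829)) (tt N12048 (iv F72555)))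
theorem Q11508 : ∀ i, i < 11508 → P i := stepQ 11507 Q11507 (allL N11507 (tt N12128 (iv F72847)) (tt N10902 F70589) (tt N12105 (iv F72790)) (tt N11294 F70590) (tt N12126 (iv F72844)) (tt N10901 (iv D17965)) (tt N12129 D18587) (tt N12122 (iv F72834)) (tt N12049 (iv F72559)))
theorem Q11509 : ∀ i, i < 11509 → P i := stepQ 11508 Q11508 (allL N11508 (tt N11988 (iv F72297)) (tt N12129 (iv F72850)) (tt N10903 F70591) (tt N11295 F70592) (tt N12127 (iv F72846)) (tt N12076 (iv F72684)) (tt N10902 (iv D17966)) (tt N12124 (iv F72838)) (tt N12050 (iv F72562)))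
theorem Q11510 : ∀ i, i < 11510 → P i := stepQ 11509 Q11509 (allL N11509 (tt N11171 F70593) (tt N10904 (iv D17967)) (tt N11509 F70594) (tt N12063 (iv F72628)) (tt N11779 (iv F71538)) (tt N10906 F70595) (tt N11235 F70596) (tt N10907 F70597) (tt N11924 (iv F71990)))
theorem Q11511 : ∀ i, i < 11511 → P i := stepQ 11510 Q11510 (allL N11510 (tt N11174 F70598) (tt N11779 (iv F71536)) (tt N10905 F70599) (tt N12130 D18588) (tt N10904 (iv D17968)) (tt N11553 (iv F70774)) (tt N11303 F70600) (tt N10908 F70601) (tt N11925 (iv F71996)))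
theorem Q11512 : ∀ i, i < 11512 → P i := stepQ 11511 Q11511 (allL N11511 (tt N10906 (iv D17969)) (tt N11169 F70602) (tt N11511 F70603) (tt N12066 (iv F72642)) (tt N11554 (iv F70778)) (tt N11171 F70604) (tt N10914 F70605) (tt N10909 F70606) (tt N11926 (iv F72003)))
theorem Q11513 : ∀ i, i < 11513 → P i := stepQ 11512 Q11512 (allL N11512 (tt N11026 (iv F70612)) (tt N10910 (iv D17970)) (tt N11512 F70607) (tt N12109 (iv F72798)) (tt N11628 (iv F71045)) (tt N10912 F70608) (tt N11242 F70609) (tt N11512 F70610) (tt N10911 F70611))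
theorem Q11514 : ∀ i, i < 11514 → P i := stepQ 11513 Q11513 (allL N11513 (tt N10912 (iv D17971)) (tt N11770 F71497) (tt N11513 F70613) (tt N12115 (iv F72815)) (tt N12131 D18589) (tt N11026 F70614) (tt N11926 (iv F72001)) (tt N11513 F70615) (tt N10914 F70616))
theorem Q11515 : ∀ i, i < 11515 → P i := stepQ 11514 Q11514 (allL N11514 (tt N12131 (iv F72854)) (tt N10913 F70617) (tt N11514 F70618) (tt N12132 D18590) (tt N10912 (iv D17972)) (tt N11837 (iv F71703)) (tt N11198 F70619) (tt N11514 F70620) (tt N10915 F70621))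
theorem Q11516 : ∀ i, i < 11516 → P i := stepQ 11515 Q11515 (allL N11515 (tt N11061 F70622) (tt N12132 (iv F72860)) (tt N11055 F70623) (tt N10913 (iv D17973)) (tt N12117 (iv F72822)) (tt N11838 (iv F71709)) (tt N11193 F70624) (tt N12133 D18591) (tt N10916 F70625))
theorem Q11517 : ∀ i, i < 11517 → P i := stepQ 11516 Q11516 (allL N11516 (tt N10915 F70626) (tt N11654 (iv F71134)) (tt N11516 F70627) (tt N12134 D18592) (tt N10914 (iv D17974)) (tt N11839 (iv F71715)) (tt N11554 (iv F70779)) (tt N10917 F70628) (tt N12131 (iv F72859)))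
theorem Q11518 : ∀ i, i < 11518 → P i := stepQ 11517 Q11517 (allL N11517 (tt N12134 (iv F72868)) (tt N10916 F70629) (tt N12135 D18593) (tt N10915 (iv D17975)) (tt N12121 (iv F72831)) (tt N11840 (iv F71719)) (tt N11548 (iv F70760)) (tt N11304 F70630) (tt N12132 (iv F72862)))
theorem Q11519 : ∀ i, i < 11519 → P i := stepQ 11518 Q11518 (allL N11518 (tt N11204 F70631) (tt N10989 F70632) (tt N11124 F70633) (tt N10920 (iv D17976)) (tt N12102 (iv F72781)) (tt N11239 F70634) (tt N11211 F70635) (tt N12136 D18594) (tt N11228 F70636))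
theorem Q11520 : ∀ i, i < 11520 → P i := stepQ 11519 Q11519 (allL N11519 (tt N11030 F70637) (tt N12052 (iv F72568)) (tt N10950 F70638) (tt N11453 F70639) (tt N11195 F70640) (tt N10922 (iv D17977)) (tt N12137 D18595) (tt N10923 F70641) (tt N11315 F70642))
theorem Q11521 : ∀ i, i < 11521 → P i := stepQ 11520 Q11520 (allL N11520 (tt N11032 F70643) (tt N12054 (iv F72577)) (tt N10971 F70644) (tt N11033 F70645) (tt N11207 F70646) (tt N11049 F70647) (tt N10923 (iv D17978)) (tt N12137 (iv F72885)) (tt N10933 F70648))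
theorem Q11522 : ∀ i, i < 11522 → P i := stepQ 11521 Q11521 (allL N11521 (tt N11290 F70649) (tt N10979 F70650) (tt N10925 F70651) (tt N11226 F70652) (tt N10924 (iv D17979)) (tt N12138 D18596) (tt N10929 F70653) (tt N11347 F70654) (tt N11040 F70655))
theorem Q11523 : ∀ i, i < 11523 → P i := stepQ 11522 Q11522 (allL N11522 (tt N11954 (iv F72142)) (tt N10926 F70656) (tt N12138 (iv F72889)) (tt N11031 F70657) (tt N11958 (iv F72166)) (tt N10925 (iv D17980)) (tt N12139 D18597) (tt N11348 F70658) (tt N11041 F70659))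
theorem Q11524 : ∀ i, i < 11524 → P i := stepQ 11523 Q11523 (allL N11523 (tt N11033 F70660) (tt N12139 (iv F72893)) (tt N10986 F70661) (tt N11032 F70662) (tt N12055 (iv F72585)) (tt N10933 F70663) (tt N10926 (iv D17981)) (tt N11351 F70664) (tt N11049 F70665))
theorem Q11525 : ∀ i, i < 11525 → P i := stepQ 11524 Q11524 (allL N11524 (tt N10929 F70666) (tt N11901 (iv F71887)) (tt N10928 F70667) (tt N11287 F70668) (tt N10927 (iv D17982)) (tt N12140 D18598) (tt N11290 F70669) (tt N11354 F70670) (tt N11955 (iv F72153)))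
theorem Q11526 : ∀ i, i < 11526 → P i := stepQ 11525 Q11525 (allL N11525 (tt N10930 F70671) (tt N10975 F70672) (tt N12140 (iv F72899)) (tt N11927 (iv F72007)) (tt N10980 F70673) (tt N10928 (iv D17983)) (tt N12141 D18599) (tt N11355 F70674) (tt N11956 (iv F72158)))
theorem Q11527 : ∀ i, i < 11527 → P i := stepQ 11526 Q11526 (allL N11526 (tt N12140 (iv F72898)) (tt N11004 F70675) (tt N10930 F70676) (tt N12026 (iv F72474)) (tt N11215 F70677) (tt N10929 (iv D17984)) (tt N12142 D18600) (tt N11361 F70678) (tt N12053 (iv F72576)))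
theorem Q11528 : ∀ i, i < 11528 → P i := stepQ 11527 Q11527 (allL N11527 (tt N12141 (iv F72903)) (tt N10933 F70679) (tt N12142 (iv F72908)) (tt N12011 (iv F72398)) (tt N11216 F70680) (tt N12139 (iv F72895)) (tt N10930 (iv D17985)) (tt N11362 F70681) (tt N12054 (iv F72581)))
theorem Q11529 : ∀ i, i < 11529 → P i := stepQ 11528 Q11528 (allL N11528 (tt N11047 F70682) (tt N11990 (iv F72306)) (tt N11052 F70683) (tt N11370 F70684) (tt N11991 (iv F72314)) (tt N10931 (iv D17986)) (tt N12143 D18601) (tt N10932 F70685) (tt N11383 F70686))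
theorem Q11530 : ∀ i, i < 11530 → P i := stepQ 11529 Q11529 (allL N11529 (tt N11049 F70687) (tt N12011 (iv F72396)) (tt N11081 F70688) (tt N10933 F70689) (tt N12012 (iv F72406)) (tt N11032 F70690) (tt N10932 (iv D17987)) (tt N12143 (iv F72915)) (tt N11033 F70691))
theorem Q11531 : ∀ i, i < 11531 → P i := stepQ 11530 Q11530 (allL N11530 (tt N11161 F70692) (tt N11026 F70693) (tt N11020 F70694) (tt N12021 (iv F72446)) (tt N11187 F70695) (tt N11770 (iv F71493)) (tt N11232 F70696) (tt N11530 F70697) (tt N10934 (iv D17988)))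
theorem Q11532 : ∀ i, i < 11532 → P i := stepQ 11531 Q11531 (allL N11531 (tt N11027 F70698) (tt N11863 (iv F71795)) (tt N11045 F70699) (tt N11614 (iv F70993)) (tt N10935 (iv D17989)) (tt N12144 D18602) (tt N11645 (iv F71108)) (tt N10954 F70700) (tt N11385 F70701))
theorem Q11533 : ∀ i, i < 11533 → P i := stepQ 11532 Q11532 (allL N11532 (tt N11189 F70702) (tt N11036 F70703) (tt N10936 (iv D17990)) (tt N11532 F70704) (tt N12145 D18603) (tt N11862 (iv F71791)) (tt N10943 F70705) (tt N10955 F70706) (tt N11537 (iv F70728)))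
theorem Q11534 : ∀ i, i < 11534 → P i := stepQ 11533 Q11533 (allL N11533 (tt N11190 F70707) (tt N10938 F70708) (tt N12145 (iv F72924)) (tt N11845 (iv F71734)) (tt N10936 (iv D17991)) (tt N12146 D18604) (tt N10944 F70709) (tt N10956 F70710) (tt N11538 (iv F70733)))
theorem Q11535 : ∀ i, i < 11535 → P i := stepQ 11534 Q11534 (allL N11534 (tt N11051 F70711) (tt N11845 (iv F71733)) (tt N11499 F70712) (tt N10938 F70713) (tt N10937 (iv D17992)) (tt N12147 D18605) (tt N10949 F70714) (tt N11153 F70715) (tt N11656 (iv F71146)))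
theorem Q11536 : ∀ i, i < 11536 → P i := stepQ 11535 Q11535 (allL N11535 (tt N11052 F70716) (tt N12146 (iv F72928)) (tt N11047 F70717) (tt N12147 (iv F72932)) (tt N12144 (iv F72919)) (tt N10938 (iv D17993)) (tt N12148 D18606) (tt N10957 F70718) (tt N11657 (iv F71150)))
theorem Q11537 : ∀ i, i < 11537 → P i := stepQ 11536 Q11536 (allL N11536 (tt N10942 F70719) (tt N11055 F70720) (tt N12149 D18607) (tt N10939 (iv D17994)) (tt N12150 D18608) (tt N11244 F70721) (tt N11188 F70722) (tt N11668 (iv F71195)) (tt N11243 F70723))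
theorem Q11538 : ∀ i, i < 11538 → P i := stepQ 11537 Q11537 (allL N11537 (tt N10943 F70724) (tt N11636 (iv F71078)) (tt N10940 (iv D17995)) (tt N11537 F70725) (tt N12151 D18609) (tt N11910 (iv F71919)) (tt N11189 F70726) (tt N10958 F70727) (tt N11532 F70728))
theorem Q11539 : ∀ i, i < 11539 → P i := stepQ 11538 Q11538 (allL N11538 (tt N10944 F70729) (tt N11056 F70730) (tt N12151 (iv F72949)) (tt N12150 (iv F72945)) (tt N10940 (iv D17996)) (tt N12152 D18610) (tt N11190 F70731) (tt N10959 F70732) (tt N11533 F70733))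
theorem Q11540 : ∀ i, i < 11540 → P i := stepQ 11539 Q11539 (allL N11539 (tt N11244 F70734) (tt N10947 F70735) (tt N12153 D18611) (tt N10941 (iv D17997)) (tt N12154 D18612) (tt N10942 F70736) (tt N11658 (iv F71153)) (tt N11544 (iv F70749)) (tt N11191 F70737))
theorem Q11541 : ∀ i, i < 11541 → P i := stepQ 11540 Q11540 (allL N11540 (tt N12149 (iv F72938)) (tt N12155 D18613) (tt N10942 (iv D17998)) (tt N11540 F70738) (tt N12156 D18614) (tt N12153 (iv F72959)) (tt N11844 (iv F71730)) (tt N11851 (iv F71753)) (tt N11780 (iv F71541)))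
theorem Q11542 : ∀ i, i < 11542 → P i := stepQ 11541 Q11541 (allL N11541 (tt N12150 (iv F72943)) (tt N10949 F70739) (tt N12156 (iv F72971)) (tt N10944 F70740) (tt N10942 (iv D17999)) (tt N12157 D18615) (tt N11845 (iv F71735)) (tt N11852 (iv F71758)) (tt N11781 (iv F71544)))
theorem Q11543 : ∀ i, i < 11543 → P i := stepQ 11542 Q11542 (allL N11542 (tt N12151 (iv F72948)) (tt N12051 (iv F72563)) (tt N10944 F70741) (tt N12158 D18616) (tt N10943 (iv D18000)) (tt N12159 D18617) (tt N12145 (iv F72925)) (tt N10962 F70742) (tt N11782 (iv F71547)))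
theorem Q11544 : ∀ i, i < 11544 → P i := stepQ 11543 Q11543 (allL N11543 (tt N12152 (iv F72953)) (tt N10950 F70743) (tt N12159 (iv F72975)) (tt N12157 (iv F72973)) (tt N11915 (iv F71945)) (tt N10944 (iv D18001)) (tt N12160 D18618) (tt N10963 F70744) (tt N11783 (iv F71550)))
theorem Q11545 : ∀ i, i < 11545 → P i := stepQ 11544 Q11544 (allL N11544 (tt N11067 F70745) (tt N11070 F70746) (tt N11772 (iv F71503)) (tt N10945 (iv D18002)) (tt N12161 D18619) (tt N11247 F70747) (tt N11060 F70748) (tt N11539 F70749) (tt N10946 F70750))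
theorem Q11546 : ∀ i, i < 11546 → P i := stepQ 11545 Q11545 (allL N11545 (tt N11069 F70751) (tt N11852 (iv F71755)) (tt N11747 (iv F71434)) (tt N10968 F70752) (tt N10946 (iv D18003)) (tt N12162 D18620) (tt N11153 F70753) (tt N10949 F70754) (tt N12161 (iv F72984)))
theorem Q11547 : ∀ i, i < 11547 → P i := stepQ 11546 Q11546 (allL N11546 (tt N11071 F70755) (tt N12163 D18621) (tt N10947 (iv D18004)) (tt N10951 F70756) (tt N12164 D18622) (tt N10948 F70757) (tt N11669 (iv F71199)) (tt N11676 (iv F71217)) (tt N11786 (iv F71562)))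
theorem Q11548 : ∀ i, i < 11548 → P i := stepQ 11547 Q11547 (allL N11547 (tt N11072 F70758) (tt N12154 (iv F72964)) (tt N12164 (iv F72992)) (tt N11919 (iv F71967)) (tt N10947 (iv D18005)) (tt N12165 D18623) (tt N11670 (iv F71201)) (tt N11677 (iv F71220)) (tt N11787 (iv F71567)))
theorem Q11549 : ∀ i, i < 11549 → P i := stepQ 11548 Q11548 (allL N11548 (tt N12166 D18624) (tt N10948 (iv D18006)) (tt N12155 (iv F72967)) (tt N10953 F70759) (tt N12167 D18625) (tt N12163 (iv F72989)) (tt N11517 F70760) (tt N11773 (iv F71509)) (tt N11788 (iv F71569)))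
theorem Q11550 : ∀ i, i < 11550 → P i := stepQ 11549 Q11549 (allL N11549 (tt N11074 F70761) (tt N12167 (iv F72999)) (tt N10949 F70762) (tt N11452 F70763) (tt N10948 (iv D18007)) (tt N12168 D18626) (tt N11499 F70764) (tt N11747 (iv F71437)) (tt N11789 (iv F71572)))
theorem Q11551 : ∀ i, i < 11551 → P i := stepQ 11550 Q11550 (allL N11550 (tt N11075 F70765) (tt N12157 (iv F72972)) (tt N12168 (iv F73003)) (tt N10950 F70766) (tt N12165 (iv F72994)) (tt N10949 (iv D18008)) (tt N12169 D18627) (tt N12162 (iv F72987)) (tt N11790 (iv F71575)))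
theorem Q11552 : ∀ i, i < 11552 → P i := stepQ 11551 Q11551 (allL N11551 (tt N11076 F70767) (tt N12160 (iv F72977)) (tt N12137 (iv F72881)) (tt N12169 (iv F73006)) (tt N11923 (iv F71983)) (tt N12148 (iv F72936)) (tt N10950 (iv D18009)) (tt N10971 F70768) (tt N11791 (iv F71578)))
theorem Q11553 : ∀ i, i < 11553 → P i := stepQ 11552 Q11552 (allL N11552 (tt N12170 D18628) (tt N10951 (iv D18010)) (tt N11552 F70769) (tt N12163 (iv F72988)) (tt N12171 D18629) (tt N10953 F70770) (tt N11777 (iv F71530)) (tt N11176 F70771) (tt N11792 (iv F71582)))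
theorem Q11554 : ∀ i, i < 11554 → P i := stepQ 11553 Q11553 (allL N11553 (tt N11079 F70772) (tt N12171 (iv F73013)) (tt N10952 F70773) (tt N12172 D18630) (tt N10951 (iv D18011)) (tt N11510 F70774) (tt N11685 (iv F71232)) (tt N11177 F70775) (tt N11793 (iv F71586)))
theorem Q11555 : ∀ i, i < 11555 → P i := stepQ 11554 Q11554 (allL N11554 (tt N10953 (iv D18012)) (tt N11080 F70776) (tt N11554 F70777) (tt N12166 (iv F72996)) (tt N11511 F70778) (tt N12170 (iv F73009)) (tt N11516 F70779) (tt N11178 F70780) (tt N11794 (iv F71590)))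
theorem Q11556 : ∀ i, i < 11556 → P i := stepQ 11555 Q11555 (allL N11555 (tt N11031 F70781) (tt N11956 (iv F72155)) (tt N11048 F70782) (tt N11954 (iv F72145)) (tt N10957 F70783) (tt N10954 (iv D18013)) (tt N12173 D18631) (tt N12144 (iv F72920)) (tt N10975 F70784))
theorem Q11557 : ∀ i, i < 11557 → P i := stepQ 11556 Q11556 (allL N11556 (tt N11199 F70785) (tt N11040 F70786) (tt N10956 F70787) (tt N12059 (iv F72607)) (tt N10955 (iv D18014)) (tt N12174 D18632) (tt N10962 F70788) (tt N12145 (iv F72926)) (tt N10979 F70789))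
theorem Q11558 : ∀ i, i < 11558 → P i := stepQ 11557 Q11557 (allL N11557 (tt N11200 F70790) (tt N10957 F70791) (tt N12174 (iv F73026)) (tt N11159 F70792) (tt N11956 (iv F72157)) (tt N10956 (iv D18015)) (tt N12175 D18633) (tt N12146 (iv F72929)) (tt N10980 F70793))
theorem Q11559 : ∀ i, i < 11559 → P i := stepQ 11558 Q11558 (allL N11558 (tt N11081 F70794) (tt N12175 (iv F73029)) (tt N11049 F70795) (tt N11160 F70796) (tt N12173 (iv F73022)) (tt N10971 F70797) (tt N10957 (iv D18016)) (tt N12148 (iv F72937)) (tt N10986 F70798))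
theorem Q11560 : ∀ i, i < 11560 → P i := stepQ 11559 Q11559 (allL N11559 (tt N10962 F70799) (tt N11928 (iv F72011)) (tt N10959 F70800) (tt N12045 (iv F72541)) (tt N10958 (iv D18017)) (tt N12176 D18634) (tt N11199 F70801) (tt N12151 (iv F72951)) (tt N10991 F70802))
theorem Q11561 : ∀ i, i < 11561 → P i := stepQ 11560 Q11560 (allL N11560 (tt N10963 F70803) (tt N11086 F70804) (tt N12176 (iv F73034)) (tt N12070 (iv F72656)) (tt N11936 (iv F72058)) (tt N10959 (iv D18018)) (tt N12177 D18635) (tt N12152 (iv F72955)) (tt N10992 F70805))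
theorem Q11562 : ∀ i, i < 11562 → P i := stepQ 11561 Q11561 (allL N11561 (tt N12062 (iv F72621)) (tt N10968 F70806) (tt N11283 F70807) (tt N11852 (iv F71756)) (tt N10960 (iv D18019)) (tt N12178 D18636) (tt N11152 F70808) (tt N10961 F70809) (tt N12003 (iv F72371)))
theorem Q11563 : ∀ i, i < 11563 → P i := stepQ 11562 Q11562 (allL N11562 (tt N12070 (iv F72653)) (tt N10970 F70810) (tt N11294 F70811) (tt N10963 F70812) (tt N11983 (iv F72278)) (tt N10961 (iv D18020)) (tt N12179 D18637) (tt N12178 (iv F73042)) (tt N11002 F70813))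
theorem Q11564 : ∀ i, i < 11564 → P i := stepQ 11563 Q11563 (allL N11563 (tt N12176 (iv F73033)) (tt N12053 (iv F72572)) (tt N10963 F70814) (tt N12105 (iv F72791)) (tt N11940 (iv F72081)) (tt N10962 (iv D18021)) (tt N12180 D18638) (tt N12159 (iv F72976)) (tt N11004 F70815))
theorem Q11565 : ∀ i, i < 11565 → P i := stepQ 11564 Q11564 (allL N11564 (tt N12177 (iv F73036)) (tt N10971 F70816) (tt N12180 (iv F73048)) (tt N12179 (iv F73045)) (tt N11941 (iv F72084)) (tt N12175 (iv F73031)) (tt N10963 (iv D18022)) (tt N12160 (iv F72978)) (tt N11005 F70817))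
theorem Q11566 : ∀ i, i < 11566 → P i := stepQ 11565 Q11565 (allL N11565 (tt N11098 F70818) (tt N11566 (iv F70823)) (tt N11880 (iv F71835)) (tt N10964 (iv D18023)) (tt N12181 D18639) (tt N11392 F70819) (tt N11364 F70820) (tt N11597 (iv F70948)) (tt N11363 F70821))
theorem Q11567 : ∀ i, i < 11567 → P i := stepQ 11566 Q11566 (allL N11566 (tt N11100 F70822) (tt N11565 F70823) (tt N11109 F70824) (tt N10965 (iv D18024)) (tt N12182 D18640) (tt N10967 F70825) (tt N11270 F70826) (tt N11008 F70827) (tt N10966 F70828))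
theorem Q11568 : ∀ i, i < 11568 → P i := stepQ 11567 Q11567 (allL N11567 (tt N11101 F70829) (tt N11974 (iv F72240)) (tt N11110 F70830) (tt N12181 (iv F73051)) (tt N10966 (iv D18025)) (tt N12183 D18641) (tt N11967 (iv F72210)) (tt N10969 F70831) (tt N12182 (iv F73060)))
theorem Q11569 : ∀ i, i < 11569 → P i := stepQ 11568 Q11568 (allL N11568 (tt N11102 F70832) (tt N12003 (iv F72366)) (tt N11111 F70833) (tt N12161 (iv F72981)) (tt N10967 (iv D18026)) (tt N12184 D18642) (tt N11150 F70834) (tt N11012 F70835) (tt N10968 F70836))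
theorem Q11570 : ∀ i, i < 11570 → P i := stepQ 11569 Q11569 (allL N11569 (tt N11103 F70837) (tt N12178 (iv F73040)) (tt N11112 F70838) (tt N12162 (iv F72986)) (tt N12183 (iv F73063)) (tt N10968 (iv D18027)) (tt N12185 D18643) (tt N10970 F70839) (tt N12184 (iv F73068)))
theorem Q11571 : ∀ i, i < 11571 → P i := stepQ 11570 Q11570 (allL N11570 (tt N11105 F70840) (tt N11983 (iv F72275)) (tt N11114 F70841) (tt N11950 (iv F72126)) (tt N10970 F70842) (tt N10969 (iv D18028)) (tt N12186 D18644) (tt N12183 (iv F73064)) (tt N11017 F70843))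
theorem Q11572 : ∀ i, i < 11572 → P i := stepQ 11571 Q11571 (allL N11571 (tt N11106 F70844) (tt N12179 (iv F73043)) (tt N11115 F70845) (tt N10971 F70846) (tt N12186 (iv F73075)) (tt N11160 F70847) (tt N10970 (iv D18029)) (tt N12185 (iv F73072)) (tt N11019 F70848))
theorem Q11573 : ∀ i, i < 11573 → P i := stepQ 11572 Q11572 (allL N11572 (tt N11036 F70849) (tt N11910 (iv F71917)) (tt N10972 (iv D18030)) (tt N11572 F70850) (tt N12187 D18645) (tt N11636 (iv F71080)) (tt N11862 (iv F71792)) (tt N10973 F70851) (tt N11634 (iv F71073)))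
theorem Q11574 : ∀ i, i < 11574 → P i := stepQ 11573 Q11573 (allL N11573 (tt N11037 F70852) (tt N11645 (iv F71106)) (tt N12187 (iv F73078)) (tt N11465 F70853) (tt N10972 (iv D18031)) (tt N12188 D18646) (tt N11863 (iv F71797)) (tt N10974 F70854) (tt N11635 (iv F71076)))
theorem Q11575 : ∀ i, i < 11575 → P i := stepQ 11574 Q11574 (allL N11574 (tt N11040 F70855) (tt N11935 (iv F72050)) (tt N10974 F70856) (tt N11266 F70857) (tt N10973 (iv D18032)) (tt N12189 D18647) (tt N11955 (iv F72152)) (tt N12187 (iv F73079)) (tt N11290 F70858))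
theorem Q11576 : ∀ i, i < 11576 → P i := stepQ 11575 Q11575 (allL N11575 (tt N11041 F70859) (tt N11927 (iv F72005)) (tt N12189 (iv F73084)) (tt N10975 F70860) (tt N11929 (iv F72019)) (tt N10974 (iv D18033)) (tt N12190 D18648) (tt N12188 (iv F73082)) (tt N11954 (iv F72147)))
theorem Q11577 : ∀ i, i < 11577 → P i := stepQ 11576 Q11576 (allL N11576 (tt N11042 F70861) (tt N12141 (iv F72904)) (tt N12055 (iv F72583)) (tt N12190 (iv F73088)) (tt N10986 F70862) (tt N11957 (iv F72162)) (tt N10975 (iv D18034)) (tt N11469 F70863) (tt N12173 (iv F73023)))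
theorem Q11578 : ∀ i, i < 11578 → P i := stepQ 11577 Q11577 (allL N11577 (tt N11209 F70864) (tt N11091 F70865) (tt N10976 (iv D18035)) (tt N11577 F70866) (tt N12191 D18649) (tt N11930 (iv F72024)) (tt N10997 F70867) (tt N10977 F70868) (tt N11998 (iv F72351)))
theorem Q11579 : ∀ i, i < 11579 → P i := stepQ 11578 Q11578 (allL N11578 (tt N11210 F70869) (tt N10983 F70870) (tt N12191 (iv F73091)) (tt N11591 (iv F70922)) (tt N10976 (iv D18036)) (tt N12192 D18650) (tt N10998 F70871) (tt N10978 F70872) (tt N11999 (iv F72356)))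
theorem Q11580 : ∀ i, i < 11580 → P i := stepQ 11579 Q11579 (allL N11579 (tt N11212 F70873) (tt N11095 F70874) (tt N10978 F70875) (tt N12016 (iv F72424)) (tt N10977 (iv D18037)) (tt N12193 D18651) (tt N11001 F70876) (tt N12191 (iv F73093)) (tt N11141 F70877))
theorem Q11581 : ∀ i, i < 11581 → P i := stepQ 11580 Q11580 (allL N11580 (tt N11213 F70878) (tt N10985 F70879) (tt N12193 (iv F73099)) (tt N10980 F70880) (tt N11933 (iv F72043)) (tt N10978 (iv D18038)) (tt N12194 D18652) (tt N12192 (iv F73096)) (tt N11159 F70881))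
theorem Q11582 : ∀ i, i < 11582 → P i := stepQ 11581 Q11581 (allL N11581 (tt N11214 F70882) (tt N11226 F70883) (tt N12016 (iv F72423)) (tt N10979 (iv D18039)) (tt N11023 F70884) (tt N12195 D18653) (tt N11003 F70885) (tt N12196 D18654) (tt N12059 (iv F72609)))
theorem Q11583 : ∀ i, i < 11583 → P i := stepQ 11582 Q11582 (allL N11582 (tt N11215 F70886) (tt N12138 (iv F72888)) (tt N10980 F70887) (tt N12195 (iv F73108)) (tt N12140 (iv F72901)) (tt N10979 (iv D18040)) (tt N12197 D18655) (tt N11594 (iv F70934)) (tt N12174 (iv F73027)))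
theorem Q11584 : ∀ i, i < 11584 → P i := stepQ 11583 Q11583 (allL N11583 (tt N11216 F70888) (tt N10986 F70889) (tt N12197 (iv F73116)) (tt N12194 (iv F73103)) (tt N12141 (iv F72905)) (tt N11005 F70890) (tt N10980 (iv D18041)) (tt N11595 (iv F70938)) (tt N12175 (iv F73032)))
theorem Q11585 : ∀ i, i < 11585 → P i := stepQ 11584 Q11584 (allL N11584 (tt N11110 F70891) (tt N11931 (iv F72029)) (tt N11101 F70892) (tt N12022 (iv F72453)) (tt N10981 (iv D18042)) (tt N12198 D18656) (tt N11937 (iv F72064)) (tt N10984 F70893) (tt N11995 (iv F72336)))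
theorem Q11586 : ∀ i, i < 11586 → P i := stepQ 11585 Q11585 (allL N11585 (tt N11111 F70894) (tt N11999 (iv F72353)) (tt N11102 F70895) (tt N11729 (iv F71375)) (tt N10982 (iv D18043)) (tt N12199 D18657) (tt N11012 F70896) (tt N11150 F70897) (tt N10983 F70898))
theorem Q11587 : ∀ i, i < 11587 → P i := stepQ 11586 Q11586 (allL N11586 (tt N11112 F70899) (tt N12192 (iv F73095)) (tt N11103 F70900) (tt N11732 (iv F71387)) (tt N12198 (iv F73120)) (tt N10983 (iv D18044)) (tt N12200 D18658) (tt N10985 F70901) (tt N12199 (iv F73125)))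
theorem Q11588 : ∀ i, i < 11588 → P i := stepQ 11587 Q11587 (allL N11587 (tt N11114 F70902) (tt N11933 (iv F72041)) (tt N11105 F70903) (tt N11929 (iv F72018)) (tt N10985 F70904) (tt N10984 (iv D18045)) (tt N12201 D18659) (tt N12198 (iv F73121)) (tt N11157 F70905))
theorem Q11589 : ∀ i, i < 11589 → P i := stepQ 11588 Q11588 (allL N11588 (tt N11115 F70906) (tt N12194 (iv F73102)) (tt N11106 F70907) (tt N10986 F70908) (tt N12201 (iv F73132)) (tt N11019 F70909) (tt N10985 (iv D18046)) (tt N12200 (iv F73129)) (tt N11160 F70910))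
theorem Q11590 : ∀ i, i < 11590 → P i := stepQ 11589 Q11589 (allL N11589 (tt N10996 F70911) (tt N11119 F70912) (tt N12202 D18660) (tt N10987 (iv D18047)) (tt N12203 D18661) (tt N11418 F70913) (tt N11208 F70914) (tt N11667 (iv F71189)) (tt N10988 F70915))
theorem Q11591 : ∀ i, i < 11591 → P i := stepQ 11590 Q11590 (allL N11590 (tt N10997 F70916) (tt N12136 (iv F72875)) (tt N10988 (iv D18048)) (tt N11590 F70917) (tt N12204 D18662) (tt N11989 (iv F72304)) (tt N11209 F70918) (tt N10989 F70919) (tt N12202 (iv F73139)))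
theorem Q11592 : ∀ i, i < 11592 → P i := stepQ 11591 Q11591 (allL N11591 (tt N10998 F70920) (tt N11121 F70921) (tt N12204 (iv F73146)) (tt N11578 F70922) (tt N10988 (iv D18049)) (tt N12205 D18663) (tt N11210 F70923) (tt N10990 F70924) (tt N12203 (iv F73144)))
theorem Q11593 : ∀ i, i < 11593 → P i := stepQ 11592 Q11592 (allL N11592 (tt N11001 F70925) (tt N12102 (iv F72779)) (tt N10990 F70926) (tt N12048 (iv F72553)) (tt N10989 (iv D18050)) (tt N12206 D18664) (tt N11212 F70927) (tt N12204 (iv F73148)) (tt N11293 F70928))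
theorem Q11594 : ∀ i, i < 11594 → P i := stepQ 11593 Q11593 (allL N11593 (tt N11002 F70929) (tt N11126 F70930) (tt N12206 (iv F73154)) (tt N10992 F70931) (tt N12044 (iv F72536)) (tt N10990 (iv D18051)) (tt N12207 D18665) (tt N12205 (iv F73152)) (tt N12070 (iv F72658)))
theorem Q11595 : ∀ i, i < 11595 → P i := stepQ 11594 Q11594 (allL N11594 (tt N11004 F70932) (tt N11959 (iv F72169)) (tt N10992 F70933) (tt N12126 (iv F72843)) (tt N11965 (iv F72203)) (tt N10991 (iv D18052)) (tt N12208 D18666) (tt N11582 F70934) (tt N12176 (iv F73035)))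
theorem Q11596 : ∀ i, i < 11596 → P i := stepQ 11595 Q11595 (allL N11595 (tt N11005 F70935) (tt N11127 F70936) (tt N12208 (iv F73161)) (tt N12207 (iv F73158)) (tt N11966 (iv F72206)) (tt N11216 F70937) (tt N10992 (iv D18053)) (tt N11583 F70938) (tt N12177 (iv F73039)))
theorem Q11597 : ∀ i, i < 11597 → P i := stepQ 11596 Q11596 (allL N11596 (tt N11420 F70939) (tt N11006 F70940) (tt N12209 D18667) (tt N10993 (iv D18054)) (tt N12210 D18668) (tt N11333 F70941) (tt N11597 (iv F70947)) (tt N11364 F70942) (tt N11332 F70943))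
theorem Q11598 : ∀ i, i < 11598 → P i := stepQ 11597 Q11597 (allL N11597 (tt N11418 F70944) (tt N11008 F70945) (tt N12211 D18669) (tt N10994 (iv D18055)) (tt N12212 D18670) (tt N10996 F70946) (tt N11596 F70947) (tt N11565 F70948) (tt N10995 F70949))
theorem Q11599 : ∀ i, i < 11599 → P i := stepQ 11598 Q11598 (allL N11598 (tt N11989 (iv F72300)) (tt N11260 F70950) (tt N10995 (iv D18056)) (tt N11598 F70951) (tt N12213 D18671) (tt N10997 F70952) (tt N11942 (iv F72090)) (tt N10999 F70953) (tt N12211 (iv F73181)))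
theorem Q11600 : ∀ i, i < 11600 → P i := stepQ 11599 Q11599 (allL N11599 (tt N12030 (iv F72486)) (tt N11010 F70954) (tt N12213 (iv F73189)) (tt N12210 (iv F73172)) (tt N10995 (iv D18057)) (tt N12214 D18672) (tt N11943 (iv F72094)) (tt N11000 F70955) (tt N12212 (iv F73187)))
theorem Q11601 : ∀ i, i < 11601 → P i := stepQ 11600 Q11600 (allL N11600 (tt N12202 (iv F73134)) (tt N11262 F70956) (tt N10996 (iv D18058)) (tt N11600 F70957) (tt N12215 D18673) (tt N12211 (iv F73178)) (tt N11998 (iv F72349)) (tt N11279 F70958) (tt N10997 F70959))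
theorem Q11602 : ∀ i, i < 11602 → P i := stepQ 11601 Q11601 (allL N11601 (tt N12203 (iv F73140)) (tt N11012 F70960) (tt N12215 (iv F73195)) (tt N11807 (iv F71622)) (tt N10996 (iv D18059)) (tt N12216 D18674) (tt N11999 (iv F72354)) (tt N12003 (iv F72370)) (tt N10998 F70961))
theorem Q11603 : ∀ i, i < 11603 → P i := stepQ 11602 Q11602 (allL N11602 (tt N12204 (iv F73145)) (tt N11264 F70962) (tt N10998 F70963) (tt N12217 D18675) (tt N10997 (iv D18060)) (tt N12218 D18676) (tt N12191 (iv F73092)) (tt N11001 F70964) (tt N12215 (iv F73197)))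
theorem Q11604 : ∀ i, i < 11604 → P i := stepQ 11603 Q11603 (allL N11603 (tt N12205 (iv F73149)) (tt N11014 F70965) (tt N12218 (iv F73203)) (tt N11810 (iv F71630)) (tt N12214 (iv F73192)) (tt N10998 (iv D18061)) (tt N12219 D18677) (tt N11002 F70966) (tt N12216 (iv F73199)))
theorem Q11605 : ∀ i, i < 11605 → P i := stepQ 11604 Q11604 (allL N11604 (tt N11939 (iv F72073)) (tt N11266 F70967) (tt N11000 F70968) (tt N11935 (iv F72052)) (tt N10999 (iv D18062)) (tt N12220 D18678) (tt N11949 (iv F72122)) (tt N12213 (iv F73190)) (tt N11289 F70969))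
theorem Q11606 : ∀ i, i < 11606 → P i := stepQ 11605 Q11605 (allL N11605 (tt N12044 (iv F72533)) (tt N11017 F70970) (tt N12220 (iv F73208)) (tt N11969 (iv F72219)) (tt N11002 F70971) (tt N11000 (iv D18063)) (tt N12221 D18679) (tt N12214 (iv F73193)) (tt N11983 (iv F72279)))
theorem Q11607 : ∀ i, i < 11607 → P i := stepQ 11606 Q11606 (allL N11606 (tt N12206 (iv F73153)) (tt N11268 F70972) (tt N11002 F70973) (tt N12049 (iv F72558)) (tt N12220 (iv F73209)) (tt N11001 (iv D18064)) (tt N12222 D18680) (tt N12218 (iv F73204)) (tt N11294 F70974))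
theorem Q11608 : ∀ i, i < 11608 → P i := stepQ 11607 Q11607 (allL N11607 (tt N12207 (iv F73156)) (tt N11019 F70975) (tt N12222 (iv F73214)) (tt N11005 F70976) (tt N12221 (iv F73212)) (tt N12194 (iv F73104)) (tt N11002 (iv D18065)) (tt N12219 (iv F73206)) (tt N12179 (iv F73047)))
theorem Q11609 : ∀ i, i < 11609 → P i := stepQ 11608 Q11608 (allL N11608 (tt N12126 (iv F72841)) (tt N12026 (iv F72472)) (tt N12049 (iv F72557)) (tt N11004 F70977) (tt N12128 (iv F72849)) (tt N11003 (iv D18066)) (tt N12223 D18681) (tt N12224 D18682) (tt N12105 (iv F72792)))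
theorem Q11610 : ∀ i, i < 11610 → P i := stepQ 11609 Q11609 (allL N11609 (tt N12112 (iv F72806)) (tt N12023 (iv F72458)) (tt N12040 (iv F72526)) (tt N11816 (iv F71640)) (tt N11024 F70978) (tt N12224 (iv F73217)) (tt N12196 (iv F73114)) (tt N11003 (iv D18067)) (tt N12225 D18683))
theorem Q11611 : ∀ i, i < 11611 → P i := stepQ 11610 Q11610 (allL N11610 (tt N12208 (iv F73160)) (tt N12142 (iv F72907)) (tt N11005 F70979) (tt N12223 (iv F73216)) (tt N11973 (iv F72238)) (tt N12197 (iv F73117)) (tt N11004 (iv D18068)) (tt N11817 (iv F71643)) (tt N12180 (iv F73049)))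
theorem Q11612 : ∀ i, i < 11612 → P i := stepQ 11611 Q11611 (allL N11611 (tt N11145 F70980) (tt N12210 (iv F73171)) (tt N11644 (iv F71102)) (tt N11010 F70981) (tt N11006 (iv D18069)) (tt N12226 D18684) (tt N11613 (iv F70988)) (tt N11876 (iv F71828)) (tt N11612 (iv F70985)))
theorem Q11613 : ∀ i, i < 11613 → P i := stepQ 11612 Q11612 (allL N11612 (tt N11146 F70982) (tt N11943 (iv F72093)) (tt N11963 (iv F72188)) (tt N11613 (iv F70987)) (tt N11007 (iv D18070)) (tt N12227 D18685) (tt N11010 F70983) (tt N11015 F70984) (tt N11611 F70985))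
theorem Q11614 : ∀ i, i < 11614 → P i := stepQ 11613 Q11613 (allL N11613 (tt N11147 F70986) (tt N12212 (iv F73183)) (tt N11993 (iv F72322)) (tt N11612 F70987) (tt N11008 (iv D18071)) (tt N12228 D18686) (tt N11611 F70988) (tt N12182 (iv F73059)) (tt N11010 F70989))
theorem Q11615 : ∀ i, i < 11615 → P i := stepQ 11614 Q11614 (allL N11614 (tt N11148 F70990) (tt N11261 F70991) (tt N11010 F70992) (tt N11531 F70993) (tt N11009 (iv D18072)) (tt N12229 D18687) (tt N11963 (iv F72190)) (tt N11016 F70994) (tt N11993 (iv F72326)))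
theorem Q11616 : ∀ i, i < 11616 → P i := stepQ 11615 Q11615 (allL N11615 (tt N11149 F70995) (tt N12214 (iv F73191)) (tt N12229 (iv F73230)) (tt N12226 (iv F73220)) (tt N11014 F70996) (tt N11010 (iv D18073)) (tt N12230 D18688) (tt N11017 F70997) (tt N12228 (iv F73227)))
theorem Q11617 : ∀ i, i < 11617 → P i := stepQ 11616 Q11616 (allL N11616 (tt N11150 F70998) (tt N11263 F70999) (tt N11012 F71000) (tt N12231 D18689) (tt N11011 (iv D18074)) (tt N12232 D18690) (tt N11102 F71001) (tt N11111 F71002) (tt N11013 F71003))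
theorem Q11618 : ∀ i, i < 11618 → P i := stepQ 11617 Q11617 (allL N11617 (tt N11151 F71004) (tt N12216 (iv F73198)) (tt N12232 (iv F73244)) (tt N11825 (iv F71667)) (tt N12228 (iv F73226)) (tt N11012 (iv D18075)) (tt N12233 D18691) (tt N12184 (iv F73067)) (tt N11014 F71005))
theorem Q11619 : ∀ i, i < 11619 → P i := stepQ 11618 Q11618 (allL N11618 (tt N11153 F71006) (tt N11246 F71007) (tt N11828 (iv F71676)) (tt N11013 (iv D18076)) (tt N11022 F71008) (tt N12234 D18692) (tt N11069 F71009) (tt N11051 F71010) (tt N12231 (iv F73241)))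
theorem Q11620 : ∀ i, i < 11620 → P i := stepQ 11619 Q11619 (allL N11619 (tt N11154 F71011) (tt N11265 F71012) (tt N11014 F71013) (tt N12234 (iv F73251)) (tt N12229 (iv F73232)) (tt N11013 (iv D18077)) (tt N12235 D18693) (tt N11018 F71014) (tt N12232 (iv F73246)))
theorem Q11621 : ∀ i, i < 11621 → P i := stepQ 11620 Q11620 (allL N11620 (tt N11155 F71015) (tt N12219 (iv F73205)) (tt N12235 (iv F73256)) (tt N11830 (iv F71684)) (tt N12230 (iv F73235)) (tt N12200 (iv F73128)) (tt N11014 (iv D18078)) (tt N11019 F71016) (tt N12233 (iv F73248)))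
theorem Q11622 : ∀ i, i < 11622 → P i := stepQ 11621 Q11621 (allL N11621 (tt N11156 F71017) (tt N11950 (iv F72125)) (tt N11964 (iv F72195)) (tt N11983 (iv F72277)) (tt N11938 (iv F72071)) (tt N11015 (iv D18079)) (tt N12236 D18694) (tt N12227 (iv F73222)) (tt N11969 (iv F72221)))
theorem Q11623 : ∀ i, i < 11623 → P i := stepQ 11622 Q11622 (allL N11622 (tt N11157 F71018) (tt N11267 F71019) (tt N11017 F71020) (tt N11958 (iv F72165)) (tt N11018 F71021) (tt N11016 (iv D18080)) (tt N12237 D18695) (tt N12229 (iv F73233)) (tt N11114 F71022))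
theorem Q11624 : ∀ i, i < 11624 → P i := stepQ 11623 Q11623 (allL N11623 (tt N11158 F71023) (tt N12221 (iv F73211)) (tt N12237 (iv F73263)) (tt N11985 (iv F72285)) (tt N11019 F71024) (tt N12236 (iv F73260)) (tt N11017 (iv D18081)) (tt N12230 (iv F73236)) (tt N12186 (iv F73076)))
theorem Q11625 : ∀ i, i < 11625 → P i := stepQ 11624 Q11624 (allL N11624 (tt N11160 F71025) (tt N11269 F71026) (tt N11019 F71027) (tt N11081 F71028) (tt N12237 (iv F73264)) (tt N11106 F71029) (tt N11018 (iv D18082)) (tt N12235 (iv F73258)) (tt N11115 F71030))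
theorem Q11626 : ∀ i, i < 11626 → P i := stepQ 11625 Q11625 (allL N11625 (tt N11060 F71031) (tt N11244 F71032) (tt N11838 (iv F71708)) (tt N11021 (iv D18083)) (tt N12231 (iv F73239)) (tt N11055 F71033) (tt N11067 F71034) (tt N11659 (iv F71160)) (tt N11022 F71035))
theorem Q11627 : ∀ i, i < 11627 → P i := stepQ 11626 Q11626 (allL N11626 (tt N11241 F71036) (tt N11219 F71037) (tt N12013 (iv F72409)) (tt N11025 F71038) (tt N12196 (iv F73113)) (tt N11223 F71039) (tt N11024 F71040) (tt N11023 (iv D18084)) (tt N12238 D18696))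
theorem Q11628 : ∀ i, i < 11628 → P i := stepQ 11627 Q11627 (allL N11627 (tt N12109 (iv F72797)) (tt N12021 F72450) (tt N12036 (iv F72510)) (tt N11026 F71041) (tt N12225 (iv F73218)) (tt N12115 (iv F72816)) (tt N12238 (iv F73270)) (tt N12093 (iv F72753)) (tt N11024 (iv D18085)))
theorem Q11629 : ∀ i, i < 11629 → P i := stepQ 11628 Q11628 (allL N11628 (tt N11242 F71042) (tt N11232 F71043) (tt N11628 F71044) (tt N12238 (iv F73268)) (tt N11512 F71045) (tt N11233 F71046) (tt N11026 F71047) (tt N11628 F71048) (tt N11025 (iv D18086)))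
theorem Q11630 : ∀ i, i < 11630 → P i := stepQ 11629 Q11629 (allL N11629 (tt N12144 (iv F72917)) (tt N11030 F71049) (tt N11991 (iv F72313)) (tt N11759 (iv F71468)) (tt N11052 F71050) (tt N11027 (iv D18087)) (tt N12239 D18697) (tt N11031 F71051) (tt N11388 F71052))
theorem Q11631 : ∀ i, i < 11631 → P i := stepQ 11630 Q11630 (allL N11630 (tt N11452 F71053) (tt N11742 (iv F71416)) (tt N11029 F71054) (tt N11074 F71055) (tt N11028 (iv D18088)) (tt N12240 D18698) (tt N11369 F71056) (tt N11349 F71057) (tt N11396 F71058))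
theorem Q11632 : ∀ i, i < 11632 → P i := stepQ 11631 Q11631 (allL N11631 (tt N11453 F71059) (tt N11759 (iv F71466)) (tt N12240 (iv F73276)) (tt N11030 F71060) (tt N11763 (iv F71477)) (tt N11029 (iv D18089)) (tt N12241 D18699) (tt N11350 F71061) (tt N11397 F71062))
theorem Q11633 : ∀ i, i < 11633 → P i := stepQ 11632 Q11632 (allL N11632 (tt N12137 (iv F72880)) (tt N12239 (iv F73271)) (tt N11076 F71063) (tt N12241 (iv F73281)) (tt N11253 F71064) (tt N12143 (iv F72914)) (tt N11030 (iv D18090)) (tt N11032 F71065) (tt N11398 F71066))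
theorem Q11634 : ∀ i, i < 11634 → P i := stepQ 11633 Q11633 (allL N11633 (tt N12173 (iv F73020)) (tt N11032 F71067) (tt N12012 (iv F72404)) (tt N12139 (iv F72894)) (tt N11081 F71068) (tt N12011 (iv F72400)) (tt N11031 (iv D18091)) (tt N12239 (iv F73273)) (tt N11042 F71069))
theorem Q11635 : ∀ i, i < 11635 → P i := stepQ 11634 Q11634 (allL N11634 (tt N11636 (iv F71077)) (tt N11862 (iv F71789)) (tt N11034 (iv D18092)) (tt N11634 F71070) (tt N12242 D18700) (tt N11036 F71071) (tt N11910 (iv F71920)) (tt N11038 F71072) (tt N11572 F71073))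
theorem Q11636 : ∀ i, i < 11636 → P i := stepQ 11635 Q11635 (allL N11635 (tt N11637 (iv F71084)) (tt N11045 F71074) (tt N12242 (iv F73285)) (tt N12079 (iv F72696)) (tt N11034 (iv D18093)) (tt N12243 D18701) (tt N11911 (iv F71926)) (tt N11039 F71075) (tt N11573 F71076))
theorem Q11637 : ∀ i, i < 11637 → P i := stepQ 11636 Q11636 (allL N11636 (tt N11634 F71077) (tt N11537 F71078) (tt N11035 (iv D18094)) (tt N11636 F71079) (tt N12244 D18702) (tt N11572 F71080) (tt N11309 F71081) (tt N11320 F71082) (tt N11036 F71083))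
theorem Q11638 : ∀ i, i < 11638 → P i := stepQ 11637 Q11637 (allL N11637 (tt N11635 F71084) (tt N11046 F71085) (tt N12244 (iv F73294)) (tt N11476 F71086) (tt N11035 (iv D18095)) (tt N12245 D18703) (tt N11310 F71087) (tt N11321 F71088) (tt N11037 F71089))
theorem Q11639 : ∀ i, i < 11639 → P i := stepQ 11638 Q11638 (allL N11638 (tt N12187 (iv F73077)) (tt N12145 (iv F72923)) (tt N11037 F71090) (tt N12246 D18704) (tt N11036 (iv D18096)) (tt N12247 D18705) (tt N12051 (iv F72565)) (tt N11040 F71091) (tt N12244 (iv F73297)))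
theorem Q11640 : ∀ i, i < 11640 → P i := stepQ 11639 Q11639 (allL N11639 (tt N12188 (iv F73080)) (tt N11047 F71092) (tt N12247 (iv F73306)) (tt N11479 F71093) (tt N12243 (iv F73289)) (tt N11037 (iv D18097)) (tt N12248 D18706) (tt N11041 F71094) (tt N12245 (iv F73303)))
theorem Q11641 : ∀ i, i < 11641 → P i := stepQ 11640 Q11640 (allL N11640 (tt N11928 (iv F72010)) (tt N11955 (iv F72149)) (tt N11039 F71095) (tt N11949 (iv F72121)) (tt N11038 (iv D18098)) (tt N12249 D18707) (tt N11935 (iv F72053)) (tt N12242 (iv F73286)) (tt N11901 F71892))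
theorem Q11642 : ∀ i, i < 11642 → P i := stepQ 11641 Q11641 (allL N11641 (tt N11929 (iv F72016)) (tt N11048 F71096) (tt N12249 (iv F73311)) (tt N11114 F71097) (tt N11041 F71098) (tt N11039 (iv D18099)) (tt N12250 D18708) (tt N12243 (iv F73290)) (tt N11958 (iv F72168)))
theorem Q11643 : ∀ i, i < 11643 → P i := stepQ 11642 Q11642 (allL N11642 (tt N12189 (iv F73083)) (tt N12174 (iv F73025)) (tt N11041 F71099) (tt N12060 (iv F72612)) (tt N12249 (iv F73312)) (tt N11040 (iv D18100)) (tt N12251 D18709) (tt N12247 (iv F73307)) (tt N12138 (iv F72892)))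
theorem Q11644 : ∀ i, i < 11644 → P i := stepQ 11643 Q11643 (allL N11643 (tt N12190 (iv F73087)) (tt N11049 F71100) (tt N12251 (iv F73316)) (tt N11042 F71101) (tt N12250 (iv F73315)) (tt N12054 (iv F72580)) (tt N11041 (iv D18101)) (tt N12248 (iv F73310)) (tt N12139 (iv F72897)))
theorem Q11645 : ∀ i, i < 11645 → P i := stepQ 11644 Q11644 (allL N11644 (tt N11755 (iv F71454)) (tt N12079 (iv F72695)) (tt N11611 F71102) (tt N11045 F71103) (tt N11043 (iv D18102)) (tt N12252 D18710) (tt N11993 (iv F72324)) (tt N11271 F71104) (tt N11963 (iv F72192)))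
theorem Q11646 : ∀ i, i < 11646 → P i := stepQ 11645 Q11645 (allL N11645 (tt N11381 F71105) (tt N11573 F71106) (tt N11385 F71107) (tt N11963 (iv F72189)) (tt N11044 (iv D18103)) (tt N12253 D18711) (tt N11531 F71108) (tt N11319 F71109) (tt N11045 F71110))
theorem Q11647 : ∀ i, i < 11647 → P i := stepQ 11646 Q11646 (allL N11646 (tt N11991 (iv F72311)) (tt N12243 (iv F73288)) (tt N12144 (iv F72918)) (tt N12252 (iv F73318)) (tt N11047 F71111) (tt N11045 (iv D18104)) (tt N12254 D18712) (tt N11048 F71112) (tt N12253 (iv F73326)))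
theorem Q11648 : ∀ i, i < 11648 → P i := stepQ 11647 Q11647 (allL N11647 (tt N11383 F71113) (tt N12245 (iv F73299)) (tt N11657 (iv F71148)) (tt N11496 F71114) (tt N12253 (iv F73324)) (tt N11046 (iv D18105)) (tt N12255 D18713) (tt N11325 F71115) (tt N11047 F71116))
theorem Q11649 : ∀ i, i < 11649 → P i := stepQ 11648 Q11648 (allL N11648 (tt N12143 (iv F72911)) (tt N12248 (iv F73308)) (tt N12148 (iv F72935)) (tt N11501 F71117) (tt N12254 (iv F73327)) (tt N12137 (iv F72884)) (tt N11047 (iv D18106)) (tt N11049 F71118) (tt N12255 (iv F73333)))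
theorem Q11650 : ∀ i, i < 11650 → P i := stepQ 11649 Q11649 (allL N11649 (tt N12012 (iv F72402)) (tt N12250 (iv F73313)) (tt N12173 (iv F73021)) (tt N11292 F71119) (tt N11049 F71120) (tt N12019 (iv F72439)) (tt N11048 (iv D18107)) (tt N12254 (iv F73328)) (tt N12055 (iv F72588)))
theorem Q11651 : ∀ i, i < 11651 → P i := stepQ 11650 Q11650 (allL N11650 (tt N12256 D18714) (tt N11050 (iv D18108)) (tt N11250 F71121) (tt N11053 F71122) (tt N12257 D18715) (tt N11304 F71123) (tt N11073 F71124) (tt N11840 (iv F71721)) (tt N11663 (iv F71175)))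
theorem Q11652 : ∀ i, i < 11652 → P i := stepQ 11651 Q11651 (allL N11651 (tt N11499 F71125) (tt N12257 (iv F73339)) (tt N11051 F71126) (tt N11369 F71127) (tt N11050 (iv D18109)) (tt N12258 D18716) (tt N11074 F71128) (tt N11828 (iv F71679)) (tt N11664 (iv F71178)))
theorem Q11653 : ∀ i, i < 11653 → P i := stepQ 11652 Q11652 (allL N11652 (tt N12147 (iv F72930)) (tt N11252 F71129) (tt N12258 (iv F73344)) (tt N11052 F71130) (tt N11764 (iv F71480)) (tt N11051 (iv D18110)) (tt N12259 D18717) (tt N12234 (iv F73253)) (tt N11665 (iv F71181)))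
theorem Q11654 : ∀ i, i < 11654 → P i := stepQ 11653 Q11653 (allL N11653 (tt N12148 (iv F72934)) (tt N11253 F71131) (tt N12143 (iv F72912)) (tt N12259 (iv F73348)) (tt N12239 (iv F73272)) (tt N11076 F71132) (tt N11052 (iv D18111)) (tt N11081 F71133) (tt N11666 (iv F71185)))
theorem Q11655 : ∀ i, i < 11655 → P i := stepQ 11654 Q11654 (allL N11654 (tt N11053 (iv D18112)) (tt N11516 F71134) (tt N11163 F71135) (tt N12256 (iv F73336)) (tt N11378 F71136) (tt N11303 F71137) (tt N11080 F71138) (tt N11179 F71139) (tt N11769 (iv F71490)))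
theorem Q11656 : ∀ i, i < 11656 → P i := stepQ 11655 Q11655 (allL N11655 (tt N11059 F71140) (tt N11668 (iv F71192)) (tt N12133 (iv F72864)) (tt N11054 (iv D18113)) (tt N12260 D18718) (tt N11659 (iv F71158)) (tt N11191 F71141) (tt N11055 F71142) (tt N11658 (iv F71155)))
theorem Q11657 : ∀ i, i < 11657 → P i := stepQ 11656 Q11656 (allL N11656 (tt N11062 F71143) (tt N12150 (iv F72944)) (tt N12117 (iv F72821)) (tt N11056 F71144) (tt N11055 (iv D18114)) (tt N12261 D18719) (tt N11194 F71145) (tt N12260 (iv F73353)) (tt N11534 F71146))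
theorem Q11658 : ∀ i, i < 11658 → P i := stepQ 11657 Q11657 (allL N11657 (tt N11063 F71147) (tt N12152 (iv F72954)) (tt N11647 F71148) (tt N12261 (iv F73355)) (tt N11994 (iv F72328)) (tt N11056 (iv D18115)) (tt N12262 D18720) (tt N11086 F71149) (tt N11535 F71150))
theorem Q11659 : ∀ i, i < 11659 → P i := stepQ 11658 Q11658 (allL N11658 (tt N11659 (iv F71156)) (tt N11066 F71151) (tt N11908 (iv F71912)) (tt N11057 (iv D18116)) (tt N12263 D18721) (tt N11059 F71152) (tt N11539 F71153) (tt N11060 F71154) (tt N11655 F71155))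
theorem Q11660 : ∀ i, i < 11660 → P i := stepQ 11659 Q11659 (allL N11659 (tt N11658 F71156) (tt N11067 F71157) (tt N12264 D18722) (tt N11058 (iv D18117)) (tt N12265 D18723) (tt N11655 F71158) (tt N11244 F71159) (tt N11625 F71160) (tt N11059 F71161))
theorem Q11661 : ∀ i, i < 11661 → P i := stepQ 11660 Q11660 (allL N11660 (tt N12133 (iv F72863)) (tt N12266 D18724) (tt N11059 (iv D18118)) (tt N11660 F71162) (tt N12267 D18725) (tt N11908 (iv F71914)) (tt N11245 F71163) (tt N11061 F71164) (tt N12264 (iv F73371)))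
theorem Q11662 : ∀ i, i < 11662 → P i := stepQ 11661 Q11661 (allL N11661 (tt N12260 (iv F73350)) (tt N11069 F71165) (tt N12267 (iv F73382)) (tt N11092 F71166) (tt N11059 (iv D18119)) (tt N12268 D18726) (tt N11246 F71167) (tt N11062 F71168) (tt N12265 (iv F73377)))
theorem Q11663 : ∀ i, i < 11663 → P i := stepQ 11662 Q11662 (allL N11662 (tt N12231 (iv F73237)) (tt N11072 F71169) (tt N11889 (iv F71864)) (tt N11150 F71170) (tt N11060 (iv D18120)) (tt N12269 D18727) (tt N12161 (iv F72982)) (tt N12263 (iv F73364)) (tt N11153 F71171))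
theorem Q11664 : ∀ i, i < 11664 → P i := stepQ 11663 Q11663 (allL N11663 (tt N12270 D18728) (tt N11061 (iv D18121)) (tt N11073 F71172) (tt N11164 F71173) (tt N12271 D18729) (tt N11907 (iv F71910)) (tt N11250 F71174) (tt N12266 (iv F73381)) (tt N11650 F71175))
theorem Q11665 : ∀ i, i < 11665 → P i := stepQ 11664 Q11664 (allL N11664 (tt N12117 (iv F72820)) (tt N12271 (iv F73396)) (tt N11062 F71176) (tt N11977 (iv F72253)) (tt N11061 (iv D18122)) (tt N12272 D18730) (tt N11251 F71177) (tt N12267 (iv F73384)) (tt N11651 F71178))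
theorem Q11666 : ∀ i, i < 11666 → P i := stepQ 11665 Q11665 (allL N11665 (tt N12261 (iv F73354)) (tt N11075 F71179) (tt N12272 (iv F73400)) (tt N11063 F71180) (tt N12269 (iv F73390)) (tt N11062 (iv D18123)) (tt N12273 D18731) (tt N12268 (iv F73387)) (tt N11652 F71181))
theorem Q11667 : ∀ i, i < 11667 → P i := stepQ 11666 Q11666 (allL N11666 (tt N12262 (iv F73357)) (tt N11076 F71182) (tt N11992 (iv F72317)) (tt N12273 (iv F73403)) (tt N11997 (iv F72343)) (tt N11253 F71183) (tt N11063 (iv D18124)) (tt N11097 F71184) (tt N11653 F71185))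
theorem Q11668 : ∀ i, i < 11668 → P i := stepQ 11667 Q11667 (allL N11667 (tt N11392 F71186) (tt N11687 (iv F71237)) (tt N11887 (iv F71858)) (tt N11064 (iv D18125)) (tt N12274 D18732) (tt N11098 F71187) (tt N11312 F71188) (tt N11589 F71189) (tt N11448 F71190))
theorem Q11669 : ∀ i, i < 11669 → P i := stepQ 11668 Q11668 (allL N11668 (tt N11247 F71191) (tt N11655 F71192) (tt N12275 D18733) (tt N11065 (iv D18126)) (tt N12276 D18734) (tt N11067 F71193) (tt N11192 F71194) (tt N11536 F71195) (tt N11066 F71196))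
theorem Q11670 : ∀ i, i < 11670 → P i := stepQ 11669 Q11669 (allL N11669 (tt N11676 (iv F71213)) (tt N12277 D18735) (tt N11066 (iv D18127)) (tt N11181 F71197) (tt N12278 D18736) (tt N11068 F71198) (tt N11546 F71199) (tt N11071 F71200) (tt N12275 (iv F73416)))
theorem Q11671 : ∀ i, i < 11671 → P i := stepQ 11670 Q11670 (allL N11670 (tt N11677 (iv F71218)) (tt N12263 (iv F73362)) (tt N12278 (iv F73427)) (tt N12274 (iv F73407)) (tt N11066 (iv D18128)) (tt N12279 D18737) (tt N11547 F71201) (tt N11072 F71202) (tt N12276 (iv F73422)))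
theorem Q11672 : ∀ i, i < 11672 → P i := stepQ 11671 Q11671 (allL N11671 (tt N11772 (iv F71502)) (tt N12280 D18738) (tt N11067 (iv D18129)) (tt N11182 F71203) (tt N12281 D18739) (tt N12275 (iv F73413)) (tt N11838 (iv F71710)) (tt N11846 (iv F71738)) (tt N11068 F71204))
theorem Q11673 : ∀ i, i < 11673 → P i := stepQ 11672 Q11672 (allL N11672 (tt N12161 (iv F72979)) (tt N12265 (iv F73373)) (tt N12281 (iv F73434)) (tt N11102 F71205) (tt N11067 (iv D18130)) (tt N12282 D18740) (tt N12231 (iv F73240)) (tt N11847 (iv F71741)) (tt N11069 F71206))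
theorem Q11674 : ∀ i, i < 11674 → P i := stepQ 11673 Q11673 (allL N11673 (tt N12283 D18741) (tt N11068 (iv D18131)) (tt N12266 (iv F73378)) (tt N11183 F71207) (tt N12284 D18742) (tt N12277 (iv F73424)) (tt N11840 (iv F71720)) (tt N11073 F71208) (tt N12280 (iv F73433)))
theorem Q11675 : ∀ i, i < 11675 → P i := stepQ 11674 Q11674 (allL N11674 (tt N11747 (iv F71433)) (tt N12284 (iv F73441)) (tt N11069 F71209) (tt N11731 (iv F71383)) (tt N11068 (iv D18132)) (tt N12285 D18743) (tt N11828 (iv F71678)) (tt N11074 F71210) (tt N12281 (iv F73435)))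
theorem Q11676 : ∀ i, i < 11676 → P i := stepQ 11675 Q11675 (allL N11675 (tt N12162 (iv F72985)) (tt N12268 (iv F73385)) (tt N12285 (iv F73443)) (tt N11103 F71211) (tt N12279 (iv F73430)) (tt N11069 (iv D18133)) (tt N12286 D18744) (tt N11075 F71212) (tt N12282 (iv F73437)))
theorem Q11677 : ∀ i, i < 11677 → P i := stepQ 11676 Q11676 (allL N11676 (tt N11669 F71213) (tt N11686 (iv F71234)) (tt N11070 (iv D18134)) (tt N11077 F71214) (tt N12287 D18745) (tt N11175 F71215) (tt N11071 F71216) (tt N11546 F71217) (tt N11851 (iv F71754)))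
theorem Q11678 : ∀ i, i < 11678 → P i := stepQ 11677 Q11677 (allL N11677 (tt N11670 F71218) (tt N12161 (iv F72980)) (tt N12287 (iv F73448)) (tt N12003 (iv F72368)) (tt N11070 (iv D18135)) (tt N12288 D18746) (tt N11072 F71219) (tt N11547 F71220) (tt N11852 (iv F71759)))
theorem Q11679 : ∀ i, i < 11679 → P i := stepQ 11678 Q11678 (allL N11678 (tt N12289 D18747) (tt N11071 (iv D18136)) (tt N11907 (iv F71909)) (tt N11078 F71221) (tt N12290 D18748) (tt N11073 F71222) (tt N11686 (iv F71235)) (tt N12277 (iv F73426)) (tt N11853 (iv F71763)))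
theorem Q11680 : ∀ i, i < 11680 → P i := stepQ 11679 Q11679 (allL N11679 (tt N12164 (iv F72991)) (tt N12290 (iv F73457)) (tt N11072 F71223) (tt N12291 D18749) (tt N11071 (iv D18137)) (tt N12292 D18750) (tt N12287 (iv F73449)) (tt N12278 (iv F73429)) (tt N11854 (iv F71765)))
theorem Q11681 : ∀ i, i < 11681 → P i := stepQ 11680 Q11680 (allL N11680 (tt N12165 (iv F72993)) (tt N12269 (iv F73388)) (tt N12292 (iv F73462)) (tt N12005 (iv F72377)) (tt N11075 F71224) (tt N11072 (iv D18138)) (tt N12293 D18751) (tt N12279 (iv F73431)) (tt N11855 (iv F71769)))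
theorem Q11682 : ∀ i, i < 11682 → P i := stepQ 11681 Q11681 (allL N11681 (tt N11073 (iv D18139)) (tt N12166 (iv F72995)) (tt N12270 (iv F73392)) (tt N11080 F71225) (tt N12294 D18752) (tt N12289 (iv F73455)) (tt N12256 (iv F73338)) (tt N12283 (iv F73440)) (tt N11856 (iv F71771)))
theorem Q11683 : ∀ i, i < 11683 → P i := stepQ 11682 Q11682 (allL N11682 (tt N12294 (iv F73465)) (tt N11074 F71226) (tt N12271 (iv F73397)) (tt N11742 (iv F71418)) (tt N11073 (iv D18140)) (tt N12295 D18753) (tt N12257 (iv F73342)) (tt N12284 (iv F73442)) (tt N11857 (iv F71773)))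
theorem Q11684 : ∀ i, i < 11684 → P i := stepQ 11683 Q11683 (allL N11683 (tt N12168 (iv F73002)) (tt N12295 (iv F73466)) (tt N11075 F71227) (tt N12240 (iv F73277)) (tt N12292 (iv F73463)) (tt N11074 (iv D18141)) (tt N12296 D18754) (tt N12285 (iv F73444)) (tt N11858 (iv F71775)))
theorem Q11685 : ∀ i, i < 11685 → P i := stepQ 11684 Q11684 (allL N11684 (tt N12169 (iv F73005)) (tt N12273 (iv F73402)) (tt N12296 (iv F73467)) (tt N11076 F71228) (tt N12293 (iv F73464)) (tt N12259 (iv F73349)) (tt N11075 (iv D18142)) (tt N12286 (iv F73446)) (tt N11859 (iv F71777)))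
theorem Q11686 : ∀ i, i < 11686 → P i := stepQ 11685 Q11685 (allL N11685 (tt N11078 (iv D18143)) (tt N12170 (iv F73007)) (tt N11166 F71229) (tt N12289 (iv F73454)) (tt N11181 F71230) (tt N11080 F71231) (tt N11553 F71232) (tt N11185 F71233) (tt N11860 (iv F71783)))
theorem Q11687 : ∀ i, i < 11687 → P i := stepQ 11686 Q11686 (allL N11686 (tt N12172 (iv F73018)) (tt N11676 F71234) (tt N12010 (iv F72392)) (tt N11079 (iv D18144)) (tt N12291 (iv F73460)) (tt N11773 (iv F71507)) (tt N11678 F71235) (tt N12163 (iv F72990)) (tt N11861 (iv F71787)))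
theorem Q11688 : ∀ i, i < 11688 → P i := stepQ 11687 Q11687 (allL N11687 (tt N11090 F71236) (tt N11667 F71237) (tt N12297 D18755) (tt N11082 (iv D18145)) (tt N12298 D18756) (tt N11694 (iv F71265)) (tt N11201 F71238) (tt N11119 F71239) (tt N11083 F71240))
theorem Q11689 : ∀ i, i < 11689 → P i := stepQ 11688 Q11688 (allL N11688 (tt N11091 F71241) (tt N12299 D18757) (tt N11083 (iv D18146)) (tt N11688 F71242) (tt N12300 D18758) (tt N12087 (iv F72731)) (tt N11202 F71243) (tt N11084 F71244) (tt N12297 (iv F73472)))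
theorem Q11690 : ∀ i, i < 11690 → P i := stepQ 11689 Q11689 (allL N11689 (tt N11092 F71245) (tt N12062 (iv F72622)) (tt N12300 (iv F73486)) (tt N12260 (iv F73351)) (tt N11083 (iv D18147)) (tt N12301 D18759) (tt N11203 F71246) (tt N11085 F71247) (tt N12298 (iv F73478)))
theorem Q11691 : ∀ i, i < 11691 → P i := stepQ 11690 Q11690 (allL N11690 (tt N11211 F71248) (tt N11084 (iv D18148)) (tt N11228 F71249) (tt N11162 F71250) (tt N12302 D18760) (tt N11240 F71251) (tt N11204 F71252) (tt N12299 (iv F73484)) (tt N11124 F71253))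
theorem Q11692 : ∀ i, i < 11692 → P i := stepQ 11691 Q11691 (allL N11691 (tt N11095 F71254) (tt N12302 (iv F73492)) (tt N11085 F71255) (tt N11932 (iv F72037)) (tt N11084 (iv D18149)) (tt N12303 D18761) (tt N11205 F71256) (tt N12300 (iv F73488)) (tt N11125 F71257))
theorem Q11693 : ∀ i, i < 11693 → P i := stepQ 11692 Q11692 (allL N11692 (tt N11096 F71258) (tt N12070 (iv F72654)) (tt N12303 (iv F73498)) (tt N11086 F71259) (tt N12101 (iv F72776)) (tt N11085 (iv D18150)) (tt N12304 D18762) (tt N12301 (iv F73490)) (tt N11126 F71260))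
theorem Q11694 : ∀ i, i < 11694 → P i := stepQ 11693 Q11693 (allL N11693 (tt N11097 F71261) (tt N12177 (iv F73037)) (tt N11934 (iv F72046)) (tt N12304 (iv F73501)) (tt N12019 (iv F72438)) (tt N11207 F71262) (tt N11086 (iv D18151)) (tt N12262 (iv F73360)) (tt N11127 F71263))
theorem Q11695 : ∀ i, i < 11695 → P i := stepQ 11694 Q11694 (allL N11694 (tt N11695 (iv F71268)) (tt N11098 F71264) (tt N12305 D18763) (tt N11087 (iv D18152)) (tt N12306 D18764) (tt N11687 F71265) (tt N11472 F71266) (tt N11725 (iv F71362)) (tt N11471 F71267))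
theorem Q11696 : ∀ i, i < 11696 → P i := stepQ 11695 Q11695 (allL N11695 (tt N11694 F71268) (tt N11100 F71269) (tt N12000 (iv F72357)) (tt N11088 (iv D18153)) (tt N12307 D18765) (tt N11090 F71270) (tt N11470 F71271) (tt N11130 F71272) (tt N11089 F71273))
theorem Q11697 : ∀ i, i < 11697 → P i := stepQ 11696 Q11696 (allL N11696 (tt N12087 (iv F72728)) (tt N11930 (iv F72022)) (tt N11089 (iv D18154)) (tt N11696 F71274) (tt N12308 D18766) (tt N11091 F71275) (tt N11946 (iv F72110)) (tt N11093 F71276) (tt N12000 (iv F72361)))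
theorem Q11698 : ∀ i, i < 11698 → P i := stepQ 11697 Q11697 (allL N11697 (tt N12088 (iv F72734)) (tt N11101 F71277) (tt N12308 (iv F73520)) (tt N12306 (iv F73511)) (tt N11089 (iv D18155)) (tt N12309 D18767) (tt N12077 (iv F72687)) (tt N11094 F71278) (tt N12307 (iv F73519)))
theorem Q11699 : ∀ i, i < 11699 → P i := stepQ 11698 Q11698 (allL N11698 (tt N12297 (iv F73468)) (tt N11998 (iv F72346)) (tt N11090 (iv D18156)) (tt N11698 F71279) (tt N12310 D18768) (tt N12000 (iv F72359)) (tt N11262 F71280) (tt N11133 F71281) (tt N11091 F71282))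
theorem Q11700 : ∀ i, i < 11700 → P i := stepQ 11699 Q11699 (allL N11699 (tt N12298 (iv F73473)) (tt N11102 F71283) (tt N12310 (iv F73525)) (tt N12265 (iv F73374)) (tt N11090 (iv D18157)) (tt N12311 D18769) (tt N11263 F71284) (tt N11134 F71285) (tt N11092 F71286))
theorem Q11701 : ∀ i, i < 11701 → P i := stepQ 11700 Q11700 (allL N11700 (tt N12300 (iv F73485)) (tt N12191 (iv F73090)) (tt N11092 F71287) (tt N12312 D18770) (tt N11091 (iv D18158)) (tt N12313 D18771) (tt N11264 F71288) (tt N11095 F71289) (tt N12310 (iv F73528)))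
theorem Q11702 : ∀ i, i < 11702 → P i := stepQ 11701 Q11701 (allL N11701 (tt N12301 (iv F73489)) (tt N11103 F71290) (tt N12313 (iv F73534)) (tt N12268 (iv F73386)) (tt N12309 (iv F73523)) (tt N11092 (iv D18159)) (tt N12314 D18772) (tt N11096 F71291) (tt N12311 (iv F73531)))
theorem Q11703 : ∀ i, i < 11703 → P i := stepQ 11702 Q11702 (allL N11702 (tt N12100 (iv F72767)) (tt N11932 (iv F72035)) (tt N11094 F71292) (tt N12302 (iv F73494)) (tt N11093 (iv D18160)) (tt N12315 D18773) (tt N11951 (iv F72133)) (tt N12308 (iv F73521)) (tt N11139 F71293))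
theorem Q11704 : ∀ i, i < 11704 → P i := stepQ 11703 Q11703 (allL N11703 (tt N12101 (iv F72773)) (tt N11105 F71294) (tt N12315 (iv F73539)) (tt N12025 (iv F72468)) (tt N11096 F71295) (tt N11094 (iv D18161)) (tt N12316 D18774) (tt N12309 (iv F73524)) (tt N11140 F71296))
theorem Q11705 : ∀ i, i < 11705 → P i := stepQ 11704 Q11704 (allL N11704 (tt N12303 (iv F73497)) (tt N12193 (iv F73098)) (tt N11096 F71297) (tt N12017 (iv F72428)) (tt N12315 (iv F73540)) (tt N11095 (iv D18162)) (tt N12317 D18775) (tt N12313 (iv F73535)) (tt N11142 F71298))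
theorem Q11706 : ∀ i, i < 11706 → P i := stepQ 11705 Q11705 (allL N11705 (tt N12304 (iv F73500)) (tt N11106 F71299) (tt N12317 (iv F73545)) (tt N11097 F71300) (tt N12316 (iv F73543)) (tt N11269 F71301) (tt N11096 (iv D18163)) (tt N12314 (iv F73538)) (tt N11143 F71302))
theorem Q11707 : ∀ i, i < 11707 → P i := stepQ 11706 Q11706 (allL N11706 (tt N11880 F71839) (tt N11843 (iv F71725)) (tt N11098 (iv D18164)) (tt N11187 F71303) (tt N12318 D18776) (tt N11887 (iv F71860)) (tt N11489 F71304) (tt N12028 (iv F72482)) (tt N11380 F71305))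
theorem Q11708 : ∀ i, i < 11708 → P i := stepQ 11707 Q11707 (allL N11707 (tt N12181 (iv F73050)) (tt N12306 (iv F73510)) (tt N12318 (iv F73548)) (tt N11101 F71306) (tt N11098 (iv D18165)) (tt N12319 D18777) (tt N11490 F71307) (tt N12029 (iv F72485)) (tt N11488 F71308))
theorem Q11709 : ∀ i, i < 11709 → P i := stepQ 11708 Q11708 (allL N11708 (tt N11967 (iv F72207)) (tt N12077 (iv F72686)) (tt N11937 (iv F72062)) (tt N11490 F71309) (tt N11099 (iv D18166)) (tt N12320 D18778) (tt N11101 F71310) (tt N11104 F71311) (tt N11487 F71312))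
theorem Q11710 : ∀ i, i < 11710 → P i := stepQ 11709 Q11709 (allL N11709 (tt N12182 (iv F73054)) (tt N12307 (iv F73515)) (tt N11995 (iv F72332)) (tt N11488 F71313) (tt N11100 (iv D18167)) (tt N12321 D18779) (tt N11487 F71314) (tt N11147 F71315) (tt N11101 F71316))
theorem Q11711 : ∀ i, i < 11711 → P i := stepQ 11710 Q11710 (allL N11710 (tt N12183 (iv F73061)) (tt N12309 (iv F73522)) (tt N12198 (iv F73119)) (tt N12319 (iv F73551)) (tt N11103 F71317) (tt N11101 (iv D18168)) (tt N12322 D18780) (tt N11105 F71318) (tt N12321 (iv F73559)))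
theorem Q11712 : ∀ i, i < 11712 → P i := stepQ 11711 Q11711 (allL N11711 (tt N12184 (iv F73065)) (tt N12311 (iv F73529)) (tt N12199 (iv F73123)) (tt N12282 (iv F73436)) (tt N12321 (iv F73557)) (tt N11102 (iv D18169)) (tt N12323 D18781) (tt N11151 F71319) (tt N11103 F71320))
theorem Q11713 : ∀ i, i < 11713 → P i := stepQ 11712 Q11712 (allL N11712 (tt N12185 (iv F73069)) (tt N12314 (iv F73536)) (tt N12200 (iv F73127)) (tt N12286 (iv F73445)) (tt N12322 (iv F73560)) (tt N12235 (iv F73257)) (tt N11103 (iv D18170)) (tt N11106 F71321) (tt N12323 (iv F73563)))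
theorem Q11714 : ∀ i, i < 11714 → P i := stepQ 11713 Q11713 (allL N11713 (tt N11969 (iv F72216)) (tt N12082 (iv F72707)) (tt N11938 (iv F72069)) (tt N12044 (iv F72535)) (tt N11964 (iv F72197)) (tt N11104 (iv D18171)) (tt N12324 D18782) (tt N12320 (iv F73554)) (tt N11156 F71322))
theorem Q11715 : ∀ i, i < 11715 → P i := stepQ 11714 Q11714 (allL N11714 (tt N12186 (iv F73073)) (tt N12316 (iv F73542)) (tt N12201 (iv F73131)) (tt N12047 (iv F72547)) (tt N11106 F71323) (tt N12324 (iv F73564)) (tt N11105 (iv D18172)) (tt N12322 (iv F73561)) (tt N11158 F71324))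
theorem Q11716 : ∀ i, i < 11716 → P i := stepQ 11715 Q11715 (allL N11715 (tt N12021 (iv F72445)) (tt N11905 (iv F71898)) (tt N11107 (iv D18173)) (tt N11161 F71325) (tt N12325 D18783) (tt N11738 (iv F71403)) (tt N11274 F71326) (tt N12078 (iv F72692)) (tt N11272 F71327))
theorem Q11717 : ∀ i, i < 11717 → P i := stepQ 11716 Q11716 (allL N11716 (tt N12022 (iv F72451)) (tt N11271 F71328) (tt N12325 (iv F73566)) (tt N11110 F71329) (tt N11107 (iv D18174)) (tt N12326 D18784) (tt N11275 F71330) (tt N12079 (iv F72698)) (tt N11273 F71331))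
theorem Q11718 : ∀ i, i < 11718 → P i := stepQ 11717 Q11717 (allL N11717 (tt N11937 (iv F72060)) (tt N11273 F71332) (tt N11967 (iv F72209)) (tt N11275 F71333) (tt N11108 (iv D18175)) (tt N12327 D18785) (tt N11110 F71334) (tt N11113 F71335) (tt N11271 F71336))
theorem Q11719 : ∀ i, i < 11719 → P i := stepQ 11718 Q11718 (allL N11718 (tt N11995 (iv F72330)) (tt N11275 F71337) (tt N12182 (iv F73056)) (tt N11273 F71338) (tt N11109 (iv D18176)) (tt N12328 D18786) (tt N11271 F71339) (tt N11993 (iv F72325)) (tt N11110 F71340))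
theorem Q11720 : ∀ i, i < 11720 → P i := stepQ 11719 Q11719 (allL N11719 (tt N12198 (iv F73118)) (tt N11278 F71341) (tt N12183 (iv F73062)) (tt N12326 (iv F73570)) (tt N11112 F71342) (tt N11110 (iv D18177)) (tt N12329 D18787) (tt N11114 F71343) (tt N12328 (iv F73580)))
theorem Q11721 : ∀ i, i < 11721 → P i := stepQ 11720 Q11720 (allL N11720 (tt N12199 (iv F73122)) (tt N11281 F71344) (tt N12184 (iv F73066)) (tt N11745 (iv F71427)) (tt N12328 (iv F73579)) (tt N11111 (iv D18178)) (tt N12330 D18788) (tt N12232 (iv F73245)) (tt N11112 F71345))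
theorem Q11722 : ∀ i, i < 11722 → P i := stepQ 11721 Q11721 (allL N11721 (tt N12200 (iv F73126)) (tt N11286 F71346) (tt N12185 (iv F73070)) (tt N11749 (iv F71441)) (tt N12329 (iv F73582)) (tt N11155 F71347) (tt N11112 (iv D18179)) (tt N11115 F71348) (tt N12330 (iv F73586)))
theorem Q11723 : ∀ i, i < 11723 → P i := stepQ 11722 Q11722 (allL N11722 (tt N11938 (iv F72067)) (tt N11288 F71349) (tt N11969 (iv F72218)) (tt N11936 (iv F72057)) (tt N11156 F71350) (tt N11113 (iv D18180)) (tt N12331 D18789) (tt N12327 (iv F73575)) (tt N11964 (iv F72198)))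
theorem Q11724 : ∀ i, i < 11724 → P i := stepQ 11723 Q11723 (allL N11723 (tt N12201 (iv F73130)) (tt N11292 F71351) (tt N12186 (iv F73074)) (tt N12250 (iv F73314)) (tt N11115 F71352) (tt N12331 (iv F73589)) (tt N11114 (iv D18181)) (tt N12329 (iv F73583)) (tt N12237 (iv F73265)))
theorem Q11725 : ∀ i, i < 11725 → P i := stepQ 11724 Q11724 (allL N11724 (tt N11128 F71353) (tt N11420 F71354) (tt N12332 D18790) (tt N11116 (iv D18182)) (tt N12333 D18791) (tt N11411 F71355) (tt N11725 (iv F71361)) (tt N11472 F71356) (tt N11410 F71357))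
theorem Q11726 : ∀ i, i < 11726 → P i := stepQ 11725 Q11725 (allL N11725 (tt N11130 F71358) (tt N11418 F71359) (tt N12006 (iv F72380)) (tt N11117 (iv D18183)) (tt N12334 D18792) (tt N11119 F71360) (tt N11724 F71361) (tt N11694 F71362) (tt N11118 F71363))
theorem Q11727 : ∀ i, i < 11727 → P i := stepQ 11726 Q11726 (allL N11726 (tt N11131 F71364) (tt N12066 (iv F72640)) (tt N11118 (iv D18184)) (tt N11169 F71365) (tt N12335 D18793) (tt N11120 F71366) (tt N11979 (iv F72263)) (tt N11122 F71367) (tt N12006 (iv F72383)))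
theorem Q11728 : ∀ i, i < 11728 → P i := stepQ 11727 Q11727 (allL N11727 (tt N11132 F71368) (tt N12030 (iv F72487)) (tt N12335 (iv F73609)) (tt N12333 (iv F73599)) (tt N11118 (iv D18185)) (tt N12336 D18794) (tt N12020 (iv F72443)) (tt N11123 F71369) (tt N12334 (iv F73607)))
theorem Q11729 : ∀ i, i < 11729 → P i := stepQ 11728 Q11728 (allL N11728 (tt N11133 F71370) (tt N12337 D18795) (tt N11119 (iv D18186)) (tt N11170 F71371) (tt N12338 D18796) (tt N12006 (iv F72382)) (tt N11221 F71372) (tt N12297 (iv F73471)) (tt N11120 F71373))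
theorem Q11730 : ∀ i, i < 11730 → P i := stepQ 11729 Q11729 (allL N11729 (tt N11134 F71374) (tt N12203 (iv F73141)) (tt N12338 (iv F73619)) (tt N11585 F71375) (tt N11119 (iv D18187)) (tt N12339 D18797) (tt N11222 F71376) (tt N12298 (iv F73477)) (tt N11121 F71377))
theorem Q11731 : ∀ i, i < 11731 → P i := stepQ 11730 Q11730 (allL N11730 (tt N12063 (iv F72626)) (tt N11120 (iv D18188)) (tt N12136 (iv F72876)) (tt N11171 F71378) (tt N12340 D18798) (tt N12066 (iv F72643)) (tt N11223 F71379) (tt N11124 F71380) (tt N12337 (iv F73617)))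
theorem Q11732 : ∀ i, i < 11732 → P i := stepQ 11731 Q11731 (allL N11731 (tt N11136 F71381) (tt N12340 (iv F73626)) (tt N11121 F71382) (tt N11674 F71383) (tt N11120 (iv D18189)) (tt N12341 D18799) (tt N11224 F71384) (tt N11125 F71385) (tt N12338 (iv F73622)))
theorem Q11733 : ∀ i, i < 11733 → P i := stepQ 11732 Q11732 (allL N11732 (tt N11137 F71386) (tt N12205 (iv F73150)) (tt N12341 (iv F73631)) (tt N11586 F71387) (tt N12336 (iv F73613)) (tt N11121 (iv D18190)) (tt N12342 D18800) (tt N11126 F71388) (tt N12339 (iv F73625)))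
theorem Q11734 : ∀ i, i < 11734 → P i := stepQ 11733 Q11733 (allL N11733 (tt N11139 F71389) (tt N12072 (iv F72666)) (tt N11123 F71390) (tt N12071 (iv F72662)) (tt N11122 (iv D18191)) (tt N12343 D18801) (tt N11986 (iv F72291)) (tt N12335 (iv F73611)) (tt N12100 (iv F72772)))
theorem Q11735 : ∀ i, i < 11735 → P i := stepQ 11734 Q11734 (allL N11734 (tt N11140 F71391) (tt N12044 (iv F72534)) (tt N12343 (iv F73639)) (tt N12082 (iv F72708)) (tt N11126 F71392) (tt N11123 (iv D18192)) (tt N12344 D18802) (tt N12336 (iv F73614)) (tt N12101 (iv F72777)))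
theorem Q11736 : ∀ i, i < 11736 → P i := stepQ 11735 Q11735 (allL N11735 (tt N12071 (iv F72659)) (tt N11125 F71393) (tt N12102 (iv F72780)) (tt N11139 F71394) (tt N11124 (iv D18193)) (tt N12345 D18803) (tt N11229 F71395) (tt N12340 (iv F73629)) (tt N12302 (iv F73496)))
theorem Q11737 : ∀ i, i < 11737 → P i := stepQ 11736 Q11736 (allL N11736 (tt N11142 F71396) (tt N12345 (iv F73643)) (tt N11126 F71397) (tt N11961 (iv F72179)) (tt N12343 (iv F73640)) (tt N11125 (iv D18194)) (tt N12346 D18804) (tt N12341 (iv F73633)) (tt N12303 (iv F73499)))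
theorem Q11738 : ∀ i, i < 11738 → P i := stepQ 11737 Q11737 (allL N11737 (tt N11143 F71398) (tt N12207 (iv F73157)) (tt N12346 (iv F73646)) (tt N11127 F71399) (tt N12344 (iv F73642)) (tt N11231 F71400) (tt N11126 (iv D18195)) (tt N12342 (iv F73637)) (tt N12304 (iv F73503)))
theorem Q11739 : ∀ i, i < 11739 → P i := stepQ 11738 Q11738 (allL N11738 (tt N12332 (iv F73590)) (tt N11366 F71401) (tt N11128 (iv D18196)) (tt N11172 F71402) (tt N12347 D18805) (tt N11715 F71403) (tt N11395 F71404) (tt N12085 (iv F72722)) (tt N11368 F71405))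
theorem Q11740 : ∀ i, i < 11740 → P i := stepQ 11739 Q11739 (allL N11739 (tt N12333 (iv F73597)) (tt N11145 F71406) (tt N12347 (iv F73649)) (tt N11132 F71407) (tt N11128 (iv D18197)) (tt N12348 D18806) (tt N11741 (iv F71414)) (tt N12086 (iv F72726)) (tt N11740 (iv F71411)))
theorem Q11741 : ∀ i, i < 11741 → P i := stepQ 11740 Q11740 (allL N11740 (tt N12020 (iv F72441)) (tt N11146 F71408) (tt N11980 (iv F72266)) (tt N11741 (iv F71413)) (tt N11129 (iv D18198)) (tt N12349 D18807) (tt N11132 F71409) (tt N11138 F71410) (tt N11739 F71411))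
theorem Q11742 : ∀ i, i < 11742 → P i := stepQ 11741 Q11741 (allL N11741 (tt N12334 (iv F73602)) (tt N11147 F71412) (tt N12007 (iv F72385)) (tt N11740 F71413) (tt N11130 (iv D18199)) (tt N12350 D18808) (tt N11739 F71414) (tt N12307 (iv F73518)) (tt N11132 F71415))
theorem Q11743 : ∀ i, i < 11743 → P i := stepQ 11742 Q11742 (allL N11742 (tt N12335 (iv F73608)) (tt N11630 F71416) (tt N11132 F71417) (tt N11682 F71418) (tt N11131 (iv D18200)) (tt N12351 D18809) (tt N11980 (iv F72267)) (tt N11139 F71419) (tt N12007 (iv F72387)))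
theorem Q11744 : ∀ i, i < 11744 → P i := stepQ 11743 Q11743 (allL N11743 (tt N12336 (iv F73612)) (tt N11149 F71420) (tt N12351 (iv F73665)) (tt N12348 (iv F73654)) (tt N11137 F71421) (tt N11132 (iv D18201)) (tt N12352 D18810) (tt N11140 F71422) (tt N12350 (iv F73663)))
theorem Q11745 : ∀ i, i < 11745 → P i := stepQ 11744 Q11744 (allL N11744 (tt N12338 (iv F73618)) (tt N12004 (iv F72372)) (tt N11134 F71423) (tt N12353 D18811) (tt N11133 (iv D18202)) (tt N12354 D18812) (tt N11280 F71424) (tt N12310 (iv F73527)) (tt N11136 F71425))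
theorem Q11746 : ∀ i, i < 11746 → P i := stepQ 11745 Q11745 (allL N11745 (tt N12339 (iv F73623)) (tt N11151 F71426) (tt N12354 (iv F73677)) (tt N11720 F71427) (tt N12350 (iv F73662)) (tt N11134 (iv D18203)) (tt N12355 D18813) (tt N12311 (iv F73530)) (tt N11137 F71428))
theorem Q11747 : ∀ i, i < 11747 → P i := stepQ 11746 Q11746 (allL N11746 (tt N12064 (iv F72632)) (tt N11136 F71429) (tt N11152 F71430) (tt N12356 D18814) (tt N11135 (iv D18204)) (tt N12357 D18815) (tt N11283 F71431) (tt N11141 F71432) (tt N12004 (iv F72375)))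
theorem Q11748 : ∀ i, i < 11748 → P i := stepQ 11747 Q11747 (allL N11747 (tt N11674 F71433) (tt N12356 (iv F73683)) (tt N11545 F71434) (tt N11136 (iv D18205)) (tt N11175 F71435) (tt N12358 D18816) (tt N11284 F71436) (tt N11549 F71437) (tt N12353 (iv F73676)))
theorem Q11749 : ∀ i, i < 11749 → P i := stepQ 11748 Q11748 (allL N11748 (tt N12341 (iv F73630)) (tt N12357 (iv F73687)) (tt N11137 F71438) (tt N12358 (iv F73693)) (tt N12351 (iv F73667)) (tt N11136 (iv D18206)) (tt N12359 D18817) (tt N11142 F71439) (tt N12354 (iv F73678)))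
theorem Q11750 : ∀ i, i < 11750 → P i := stepQ 11749 Q11749 (allL N11749 (tt N12342 (iv F73634)) (tt N11155 F71440) (tt N12359 (iv F73695)) (tt N11721 F71441) (tt N12352 (iv F73670)) (tt N11286 F71442) (tt N11137 (iv D18207)) (tt N11143 F71443) (tt N12355 (iv F73682)))
theorem Q11751 : ∀ i, i < 11751 → P i := stepQ 11750 Q11750 (allL N11750 (tt N12025 (iv F72466)) (tt N11156 F71444) (tt N11987 (iv F72294)) (tt N12101 (iv F72775)) (tt N11288 F71445) (tt N11138 (iv D18208)) (tt N12360 D18818) (tt N12349 (iv F73658)) (tt N12082 (iv F72710)))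
theorem Q11752 : ∀ i, i < 11752 → P i := stepQ 11751 Q11751 (allL N11751 (tt N12343 (iv F73638)) (tt N11961 (iv F72177)) (tt N11140 F71446) (tt N12345 (iv F73644)) (tt N11142 F71447) (tt N11139 (iv D18209)) (tt N12361 D18819) (tt N12351 (iv F73668)) (tt N12315 (iv F73541)))
theorem Q11753 : ∀ i, i < 11753 → P i := stepQ 11752 Q11752 (allL N11752 (tt N12344 (iv F73641)) (tt N11158 F71448) (tt N12361 (iv F73701)) (tt N12104 (iv F72787)) (tt N11143 F71449) (tt N12360 (iv F73700)) (tt N11140 (iv D18210)) (tt N12352 (iv F73671)) (tt N12316 (iv F73544)))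
theorem Q11754 : ∀ i, i < 11754 → P i := stepQ 11753 Q11753 (allL N11753 (tt N12073 (iv F72671)) (tt N11142 F71450) (tt N11159 F71451) (tt N12075 (iv F72681)) (tt N11961 (iv F72180)) (tt N11141 (iv D18211)) (tt N12362 D18820) (tt N12357 (iv F73690)) (tt N12193 (iv F73100)))
theorem Q11755 : ∀ i, i < 11755 → P i := stepQ 11754 Q11754 (allL N11754 (tt N12346 (iv F73645)) (tt N12362 (iv F73703)) (tt N11143 F71452) (tt N12076 (iv F72683)) (tt N12361 (iv F73702)) (tt N11295 F71453) (tt N11142 (iv D18212)) (tt N12359 (iv F73697)) (tt N12317 (iv F73547)))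
theorem Q11756 : ∀ i, i < 11756 → P i := stepQ 11755 Q11755 (allL N11755 (tt N11644 F71454) (tt N11367 F71455) (tt N11145 F71456) (tt N11382 F71457) (tt N11144 (iv D18213)) (tt N12363 D18821) (tt N11387 F71458) (tt N11818 (iv F71647)) (tt N11357 F71459))
theorem Q11757 : ∀ i, i < 11757 → P i := stepQ 11756 Q11756 (allL N11756 (tt N12226 (iv F73219)) (tt N12348 (iv F73653)) (tt N12363 (iv F73708)) (tt N11149 F71460) (tt N11877 (iv F71830)) (tt N11145 (iv D18214)) (tt N12364 D18822) (tt N12107 (iv F72795)) (tt N11757 (iv F71462)))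
theorem Q11758 : ∀ i, i < 11758 → P i := stepQ 11757 Q11757 (allL N11757 (tt N12227 (iv F73221)) (tt N12349 (iv F73656)) (tt N11968 (iv F72214)) (tt N11758 (iv F71463)) (tt N12327 (iv F73574)) (tt N11146 (iv D18215)) (tt N12365 D18823) (tt N11156 F71461) (tt N11756 F71462))
theorem Q11759 : ∀ i, i < 11759 → P i := stepQ 11758 Q11758 (allL N11758 (tt N12228 (iv F73224)) (tt N12350 (iv F73660)) (tt N11996 (iv F72338)) (tt N11757 F71463) (tt N11151 F71464) (tt N11147 (iv D18216)) (tt N12366 D18824) (tt N12321 (iv F73558)) (tt N11149 F71465))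
theorem Q11760 : ∀ i, i < 11760 → P i := stepQ 11759 Q11759 (allL N11759 (tt N12229 (iv F73228)) (tt N11631 F71466) (tt N11149 F71467) (tt N11629 F71468) (tt N11154 F71469) (tt N11148 (iv D18217)) (tt N12367 D18825) (tt N11157 F71470) (tt N11996 (iv F72341)))
theorem Q11761 : ∀ i, i < 11761 → P i := stepQ 11760 Q11760 (allL N11760 (tt N12230 (iv F73234)) (tt N12352 (iv F73669)) (tt N12367 (iv F73720)) (tt N12364 (iv F73711)) (tt N11155 F71471) (tt N12365 (iv F73712)) (tt N11149 (iv D18218)) (tt N11158 F71472) (tt N12366 (iv F73718)))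
theorem Q11762 : ∀ i, i < 11762 → P i := stepQ 11761 Q11761 (allL N11761 (tt N12232 (iv F73242)) (tt N12005 (iv F72376)) (tt N11151 F71473) (tt N12269 (iv F73389)) (tt N11996 (iv F72340)) (tt N11150 (iv D18219)) (tt N12368 D18826) (tt N12199 (iv F73124)) (tt N11154 F71474))
theorem Q11763 : ∀ i, i < 11763 → P i := stepQ 11762 Q11762 (allL N11762 (tt N12233 (iv F73247)) (tt N12355 (iv F73679)) (tt N12368 (iv F73724)) (tt N11891 (iv F71869)) (tt N12366 (iv F73716)) (tt N12330 (iv F73585)) (tt N11151 (iv D18220)) (tt N12323 (iv F73562)) (tt N11155 F71475))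
theorem Q11764 : ∀ i, i < 11764 → P i := stepQ 11763 Q11763 (allL N11763 (tt N12065 (iv F72636)) (tt N11154 F71476) (tt N12357 (iv F73688)) (tt N11855 (iv F71767)) (tt N11631 F71477) (tt N11152 (iv D18221)) (tt N12369 D18827) (tt N11159 F71478) (tt N12005 (iv F72379)))
theorem Q11765 : ∀ i, i < 11765 → P i := stepQ 11764 Q11764 (allL N11764 (tt N12234 (iv F73249)) (tt N11855 (iv F71766)) (tt N11895 (iv F71877)) (tt N11154 F71479) (tt N11652 F71480) (tt N11153 (iv D18222)) (tt N12370 D18828) (tt N12147 (iv F72933)) (tt N12269 (iv F73391)))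
theorem Q11766 : ∀ i, i < 11766 → P i := stepQ 11765 Q11765 (allL N11765 (tt N12235 (iv F73254)) (tt N12369 (iv F73726)) (tt N11155 F71481) (tt N12370 (iv F73729)) (tt N12367 (iv F73722)) (tt N12185 (iv F73071)) (tt N11154 (iv D18223)) (tt N11160 F71482) (tt N12368 (iv F73725)))
theorem Q11767 : ∀ i, i < 11767 → P i := stepQ 11766 Q11766 (allL N11766 (tt N12236 (iv F73259)) (tt N12360 (iv F73698)) (tt N11970 (iv F72223)) (tt N12125 (iv F72839)) (tt N12331 (iv F73588)) (tt N11158 F71483) (tt N11156 (iv D18224)) (tt N12365 (iv F73713)) (tt N12324 (iv F73565)))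
theorem Q11768 : ∀ i, i < 11768 → P i := stepQ 11767 Q11767 (allL N11767 (tt N12237 (iv F73261)) (tt N11962 (iv F72182)) (tt N11158 F71484) (tt N11960 (iv F72174)) (tt N11160 F71485) (tt N11970 (iv F72225)) (tt N11157 (iv D18225)) (tt N12367 (iv F73723)) (tt N12201 (iv F73133)))
theorem Q11769 : ∀ i, i < 11769 → P i := stepQ 11768 Q11768 (allL N11768 (tt N12074 (iv F72675)) (tt N11160 F71486) (tt N12362 (iv F73704)) (tt N12175 (iv F73030)) (tt N11962 (iv F72184)) (tt N12179 (iv F73046)) (tt N11159 (iv D18226)) (tt N12369 (iv F73728)) (tt N12194 (iv F73105)))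
theorem Q11770 : ∀ i, i < 11770 → P i := stepQ 11769 Q11769 (allL N11769 (tt N11164 (iv D18227)) (tt N12131 (iv F72855)) (tt N11165 F71487) (tt N12270 (iv F73393)) (tt N11770 (iv F71492)) (tt N11906 (iv F71905)) (tt N11257 F71488) (tt N11769 F71489) (tt N11654 F71490))
theorem Q11771 : ∀ i, i < 11771 → P i := stepQ 11770 Q11770 (allL N11770 (tt N11172 F71491) (tt N11513 (iv F71497)) (tt N11167 (iv D18228)) (tt N12332 (iv F73591)) (tt N11769 F71492) (tt N11530 F71493) (tt N11400 F71494) (tt N11770 F71495) (tt N11378 F71496))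
theorem Q11772 : ∀ i, i < 11772 → P i := stepQ 11771 Q11771 (allL N11771 (tt N11924 (iv F71985)) (tt N11170 (iv D18229)) (tt N11771 F71498) (tt N12337 (iv F73615)) (tt N11778 (iv F71533)) (tt N11926 (iv F72000)) (tt N11233 F71499) (tt N11771 F71500) (tt N11171 F71501))
theorem Q11773 : ∀ i, i < 11773 → P i := stepQ 11772 Q11772 (allL N11772 (tt N11671 F71502) (tt N12010 (iv F72391)) (tt N11544 F71503) (tt N11173 (iv D18230)) (tt N12353 (iv F73674)) (tt N11851 (iv F71751)) (tt N11302 F71504) (tt N12153 (iv F72961)) (tt N11175 F71505))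
theorem Q11774 : ∀ i, i < 11774 → P i := stepQ 11773 Q11773 (allL N11773 (tt N12130 (iv F72852)) (tt N11175 F71506) (tt N11861 (iv F71785)) (tt N11174 (iv D18231)) (tt N12356 (iv F73684)) (tt N11686 F71507) (tt N11304 F71508) (tt N11548 F71509) (tt N12010 (iv F72395)))
theorem Q11775 : ∀ i, i < 11775 → P i := stepQ 11774 Q11774 (allL N11774 (tt N11176 (iv D18232)) (tt N11185 F71510) (tt N11774 F71511) (tt N11177 F71512) (tt N11184 (iv F71515)) (tt N11178 F71513) (tt N11775 (iv F71521)) (tt N12170 (iv F73010)) (tt N11774 F71514))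
theorem Q11776 : ∀ i, i < 11776 → P i := stepQ 11775 Q11775 (allL N11775 (tt N11184 F71516) (tt N11177 F71517) (tt N11775 F71518) (tt N11185 F71519) (tt N11176 (iv D18233)) (tt N11186 F71520) (tt N11774 F71521) (tt N12171 (iv F73017)) (tt N11775 F71522))
theorem Q11777 : ∀ i, i < 11777 → P i := stepQ 11776 Q11776 (allL N11776 (tt N11254 F71523) (tt N12371 D18829) (tt N11180 (iv D18234)) (tt N12275 (iv F73412)) (tt N11860 (iv F71779)) (tt N11182 F71524) (tt N11196 F71525) (tt N11776 F71526) (tt N11181 F71527))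
theorem Q11778 : ∀ i, i < 11778 → P i := stepQ 11777 Q11777 (allL N11777 (tt N12171 (iv F73012)) (tt N11181 (iv D18235)) (tt N11777 F71528) (tt N12277 (iv F73423)) (tt N12170 F73011) (tt N11183 F71529) (tt N11552 F71530) (tt N11184 F71531) (tt N12371 (iv F73735)))
theorem Q11779 : ∀ i, i < 11779 → P i := stepQ 11778 Q11778 (allL N11778 (tt N12372 D18830) (tt N11182 (iv D18236)) (tt N11778 F71532) (tt N12280 (iv F73432)) (tt N11771 F71533) (tt N12371 (iv F73732)) (tt N11837 (iv F71704)) (tt N11778 F71534) (tt N11183 F71535))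
theorem Q11780 : ∀ i, i < 11780 → P i := stepQ 11779 Q11779 (allL N11779 (tt N11183 (iv D18237)) (tt N11510 F71536) (tt N11779 F71537) (tt N12283 (iv F73439)) (tt N11509 F71538) (tt N12171 (iv F73015)) (tt N11839 (iv F71716)) (tt N11186 F71539) (tt N12372 (iv F73740)))
theorem Q11781 : ∀ i, i < 11781 → P i := stepQ 11780 Q11780 (allL N11780 (tt N11844 (iv F71727)) (tt N12373 D18831) (tt N11188 (iv D18238)) (tt N11780 F71540) (tt N12374 D18832) (tt N11784 (iv F71553)) (tt N12149 (iv F72941)) (tt N11786 (iv F71561)) (tt N11540 F71541))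
theorem Q11782 : ∀ i, i < 11782 → P i := stepQ 11781 Q11781 (allL N11781 (tt N11845 (iv F71732)) (tt N11194 F71542) (tt N12374 (iv F73744)) (tt N11190 F71543) (tt N11188 (iv D18239)) (tt N12375 D18833) (tt N12150 (iv F72946)) (tt N11787 (iv F71566)) (tt N11541 F71544))
theorem Q11783 : ∀ i, i < 11783 → P i := stepQ 11782 Q11782 (allL N11782 (tt N12145 (iv F72922)) (tt N11914 (iv F71941)) (tt N11190 F71545) (tt N12376 D18834) (tt N11189 (iv D18240)) (tt N12377 D18835) (tt N12151 (iv F72950)) (tt N11199 F71546) (tt N11542 F71547))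
theorem Q11784 : ∀ i, i < 11784 → P i := stepQ 11783 Q11783 (allL N11783 (tt N12146 (iv F72927)) (tt N11195 F71548) (tt N12377 (iv F73751)) (tt N12375 (iv F73747)) (tt N12052 (iv F72569)) (tt N11190 (iv D18241)) (tt N12378 D18836) (tt N11200 F71549) (tt N11543 F71550))
theorem Q11785 : ∀ i, i < 11785 → P i := stepQ 11784 Q11784 (allL N11784 (tt N11245 F71551) (tt N12379 D18837) (tt N11191 (iv D18242)) (tt N11784 F71552) (tt N12380 D18838) (tt N11780 F71553) (tt N12133 (iv F72866)) (tt N11193 F71554) (tt N12153 (iv F72962)))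
theorem Q11786 : ∀ i, i < 11786 → P i := stepQ 11785 Q11785 (allL N11785 (tt N11246 F71555) (tt N11787 (iv F71564)) (tt N12380 (iv F73761)) (tt N11203 F71556) (tt N11191 (iv D18243)) (tt N12381 D18839) (tt N12260 (iv F73352)) (tt N11194 F71557) (tt N12154 (iv F72966)))
theorem Q11787 : ∀ i, i < 11787 → P i := stepQ 11786 Q11786 (allL N11786 (tt N11248 F71558) (tt N12382 D18840) (tt N11192 (iv D18244)) (tt N11196 F71559) (tt N12383 D18841) (tt N11193 F71560) (tt N12275 (iv F73414)) (tt N11780 F71561) (tt N11546 F71562))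
theorem Q11788 : ∀ i, i < 11788 → P i := stepQ 11787 Q11787 (allL N11787 (tt N11249 F71563) (tt N11785 F71564) (tt N12383 (iv F73773)) (tt N11450 F71565) (tt N11192 (iv D18245)) (tt N12384 D18842) (tt N12276 (iv F73420)) (tt N11781 F71566) (tt N11547 F71567))
theorem Q11789 : ∀ i, i < 11789 → P i := stepQ 11788 Q11788 (allL N11788 (tt N12385 D18843) (tt N11193 (iv D18246)) (tt N12373 (iv F73741)) (tt N11198 F71568) (tt N12386 D18844) (tt N12382 (iv F73769)) (tt N12132 (iv F72861)) (tt N12379 (iv F73759)) (tt N11548 F71569))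
theorem Q11790 : ∀ i, i < 11790 → P i := stepQ 11789 Q11789 (allL N11789 (tt N11251 F71570) (tt N12386 (iv F73785)) (tt N11194 F71571) (tt N11921 (iv F71975)) (tt N11193 (iv D18247)) (tt N12387 D18845) (tt N12117 (iv F72823)) (tt N12380 (iv F73762)) (tt N11549 F71572))
theorem Q11791 : ∀ i, i < 11791 → P i := stepQ 11790 Q11790 (allL N11790 (tt N11252 F71573) (tt N12375 (iv F73746)) (tt N12387 (iv F73788)) (tt N11195 F71574) (tt N12384 (iv F73779)) (tt N11194 (iv D18248)) (tt N12388 D18846) (tt N12381 (iv F73766)) (tt N11550 F71575))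
theorem Q11792 : ∀ i, i < 11792 → P i := stepQ 11791 Q11791 (allL N11791 (tt N11253 F71576) (tt N12378 (iv F73754)) (tt N11923 (iv F71982)) (tt N12388 (iv F73791)) (tt N12137 (iv F72883)) (tt N12262 (iv F73359)) (tt N11195 (iv D18249)) (tt N11207 F71577) (tt N11551 F71578))
theorem Q11793 : ∀ i, i < 11793 → P i := stepQ 11792 Q11792 (allL N11792 (tt N12389 D18847) (tt N11196 (iv D18250)) (tt N11792 F71579) (tt N12382 (iv F73768)) (tt N12390 D18848) (tt N11198 F71580) (tt N12371 (iv F73733)) (tt N11792 F71581) (tt N11552 F71582))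
theorem Q11794 : ∀ i, i < 11794 → P i := stepQ 11793 Q11793 (allL N11793 (tt N11256 F71583) (tt N12390 (iv F73800)) (tt N11197 F71584) (tt N12391 D18849) (tt N11196 (iv D18251)) (tt N11925 (iv F71993)) (tt N11860 (iv F71781)) (tt N11793 F71585) (tt N11553 F71586))
theorem Q11795 : ∀ i, i < 11795 → P i := stepQ 11794 Q11794 (allL N11794 (tt N11198 (iv D18252)) (tt N11257 F71587) (tt N11794 F71588) (tt N12385 (iv F73783)) (tt N11926 (iv F71999)) (tt N12389 (iv F73795)) (tt N12131 (iv F72857)) (tt N11794 F71589) (tt N11554 F71590))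
theorem Q11796 : ∀ i, i < 11796 → P i := stepQ 11795 Q11795 (allL N11795 (tt N12059 (iv F72604)) (tt N11939 (iv F72074)) (tt N12072 (iv F72667)) (tt N11199 (iv D18253)) (tt N11239 F71591) (tt N12392 D18850) (tt N12045 (iv F72542)) (tt N12393 D18851) (tt N11214 F71592))
theorem Q11797 : ∀ i, i < 11797 → P i := stepQ 11796 Q11796 (allL N11796 (tt N12174 (iv F73024)) (tt N11940 (iv F72079)) (tt N11200 F71593) (tt N12392 (iv F73809)) (tt N12053 (iv F72575)) (tt N11199 (iv D18254)) (tt N12394 D18852) (tt N12377 (iv F73752)) (tt N11215 F71594))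
theorem Q11798 : ∀ i, i < 11798 → P i := stepQ 11797 Q11797 (allL N11797 (tt N12175 (iv F73028)) (tt N11207 F71595) (tt N12394 (iv F73812)) (tt N12074 (iv F72677)) (tt N12054 (iv F72579)) (tt N12177 (iv F73038)) (tt N11200 (iv D18255)) (tt N12378 (iv F73755)) (tt N11216 F71596))
theorem Q11799 : ∀ i, i < 11799 → P i := stepQ 11798 Q11798 (allL N11798 (tt N11262 F71597) (tt N12395 D18853) (tt N11201 (iv D18256)) (tt N11798 F71598) (tt N12396 D18854) (tt N11912 (iv F71931)) (tt N12297 (iv F73470)) (tt N11221 F71599) (tt N11202 F71600))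
theorem Q11800 : ∀ i, i < 11800 → P i := stepQ 11799 Q11799 (allL N11799 (tt N11263 F71601) (tt N11919 (iv F71966)) (tt N12396 (iv F73818)) (tt N12154 (iv F72965)) (tt N11201 (iv D18257)) (tt N12397 D18855) (tt N12298 (iv F73476)) (tt N11222 F71602) (tt N11203 F71603))
theorem Q11801 : ∀ i, i < 11801 → P i := stepQ 11800 Q11800 (allL N11800 (tt N12136 (iv F72874)) (tt N11202 (iv D18258)) (tt N12063 (iv F72627)) (tt N11800 F71604) (tt N12398 D18856) (tt N12056 (iv F72592)) (tt N12299 (iv F73483)) (tt N11204 F71605) (tt N12395 (iv F73816)))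
theorem Q11802 : ∀ i, i < 11802 → P i := stepQ 11801 Q11801 (allL N11801 (tt N11264 F71606) (tt N12398 (iv F73824)) (tt N11203 F71607) (tt N12399 D18857) (tt N11202 (iv D18259)) (tt N12400 D18858) (tt N12300 (iv F73487)) (tt N11205 F71608) (tt N12396 (iv F73820)))
theorem Q11803 : ∀ i, i < 11803 → P i := stepQ 11802 Q11802 (allL N11802 (tt N11265 F71609) (tt N12065 (iv F72637)) (tt N12400 (iv F73829)) (tt N12381 (iv F73764)) (tt N12058 (iv F72602)) (tt N11203 (iv D18260)) (tt N12401 D18859) (tt N11206 F71610) (tt N12397 (iv F73823)))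
theorem Q11804 : ∀ i, i < 11804 → P i := stepQ 11803 Q11803 (allL N11803 (tt N12102 (iv F72778)) (tt N11205 F71611) (tt N12071 (iv F72661)) (tt N11951 (iv F72132)) (tt N11204 (iv D18261)) (tt N12402 D18860) (tt N12302 (iv F73495)) (tt N12398 (iv F73825)) (tt N11229 F71612))
theorem Q11805 : ∀ i, i < 11805 → P i := stepQ 11804 Q11804 (allL N11804 (tt N11268 F71613) (tt N12402 (iv F73833)) (tt N11206 F71614) (tt N11952 (iv F72137)) (tt N12060 (iv F72613)) (tt N11205 (iv D18262)) (tt N12403 D18861) (tt N12400 (iv F73830)) (tt N11230 F71615))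
theorem Q11806 : ∀ i, i < 11806 → P i := stepQ 11805 Q11805 (allL N11805 (tt N11269 F71616) (tt N12074 (iv F72676)) (tt N12403 (iv F73836)) (tt N11207 F71617) (tt N12061 (iv F72618)) (tt N12304 (iv F73502)) (tt N11206 (iv D18263)) (tt N12401 (iv F73832)) (tt N11231 F71618))
theorem Q11807 : ∀ i, i < 11807 → P i := stepQ 11806 Q11806 (allL N11806 (tt N11998 (iv F72345)) (tt N12404 D18862) (tt N11208 (iv D18264)) (tt N11806 F71619) (tt N12405 D18863) (tt N11916 (iv F71949)) (tt N12202 (iv F73137)) (tt N11918 (iv F71963)) (tt N11209 F71620))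
theorem Q11808 : ∀ i, i < 11808 → P i := stepQ 11807 Q11807 (allL N11807 (tt N11999 (iv F72352)) (tt N11222 F71621) (tt N12405 (iv F73841)) (tt N11601 F71622) (tt N11208 (iv D18265)) (tt N12406 D18864) (tt N12203 (iv F73143)) (tt N11919 (iv F71968)) (tt N11210 F71623))
theorem Q11809 : ∀ i, i < 11809 → P i := stepQ 11808 Q11808 (allL N11808 (tt N12299 (iv F73479)) (tt N11209 (iv D18266)) (tt N11223 F71624) (tt N11808 F71625) (tt N12407 D18865) (tt N12013 (iv F72411)) (tt N12136 (iv F72879)) (tt N11211 F71626) (tt N12404 (iv F73840)))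
theorem Q11810 : ∀ i, i < 11810 → P i := stepQ 11809 Q11809 (allL N11809 (tt N12191 (iv F73089)) (tt N12407 (iv F73846)) (tt N11210 F71627) (tt N12408 D18866) (tt N11209 (iv D18267)) (tt N12409 D18867) (tt N12204 (iv F73147)) (tt N11212 F71628) (tt N12405 (iv F73842)))
theorem Q11811 : ∀ i, i < 11811 → P i := stepQ 11810 Q11810 (allL N11810 (tt N12192 (iv F73094)) (tt N11225 F71629) (tt N12409 (iv F73851)) (tt N11603 F71630) (tt N12015 (iv F72419)) (tt N11210 (iv D18268)) (tt N12410 D18868) (tt N11213 F71631) (tt N12406 (iv F73845)))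
theorem Q11812 : ∀ i, i < 11812 → P i := stepQ 11811 Q11811 (allL N11811 (tt N12302 (iv F73491)) (tt N11212 F71632) (tt N11229 F71633) (tt N12100 (iv F72770)) (tt N11211 (iv D18269)) (tt N12411 D18869) (tt N12102 (iv F72782)) (tt N12407 (iv F73848)) (tt N12071 (iv F72664)))
theorem Q11813 : ∀ i, i < 11813 → P i := stepQ 11812 Q11812 (allL N11812 (tt N12016 (iv F72421)) (tt N12100 (iv F72768)) (tt N11214 F71634) (tt N11212 (iv D18270)) (tt N11240 F71635) (tt N12412 D18870) (tt N12048 (iv F72554)) (tt N12413 D18871) (tt N12072 (iv F72670)))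
theorem Q11814 : ∀ i, i < 11814 → P i := stepQ 11813 Q11813 (allL N11813 (tt N12193 (iv F73097)) (tt N12411 (iv F73856)) (tt N11213 F71636) (tt N12412 (iv F73859)) (tt N12017 (iv F72429)) (tt N11212 (iv D18271)) (tt N12414 D18872) (tt N12409 (iv F73852)) (tt N12073 (iv F72674)))
theorem Q11815 : ∀ i, i < 11815 → P i := stepQ 11814 Q11814 (allL N11814 (tt N12194 (iv F73101)) (tt N11231 F71637) (tt N12414 (iv F73862)) (tt N11216 F71638) (tt N12018 (iv F72433)) (tt N12207 (iv F73159)) (tt N11213 (iv D18272)) (tt N12410 (iv F73855)) (tt N12074 (iv F72679)))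
theorem Q11816 : ∀ i, i < 11816 → P i := stepQ 11815 Q11815 (allL N11815 (tt N12195 (iv F73106)) (tt N11971 (iv F72227)) (tt N12412 (iv F73858)) (tt N11215 F71639) (tt N12415 D18873) (tt N11214 (iv D18273)) (tt N12416 D18874) (tt N12417 D18875) (tt N12392 (iv F73810)))
theorem Q11817 : ∀ i, i < 11817 → P i := stepQ 11816 Q11816 (allL N11816 (tt N12196 (iv F73110)) (tt N11972 (iv F72232)) (tt N12413 (iv F73860)) (tt N11609 F71640) (tt N11241 F71641) (tt N12417 (iv F73868)) (tt N12112 (iv F72808)) (tt N11214 (iv D18274)) (tt N12418 D18876))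
theorem Q11818 : ∀ i, i < 11818 → P i := stepQ 11817 Q11817 (allL N11817 (tt N12197 (iv F73115)) (tt N11973 (iv F72236)) (tt N11216 F71642) (tt N12416 (iv F73866)) (tt N12142 (iv F72909)) (tt N12208 (iv F73162)) (tt N11215 (iv D18275)) (tt N11610 F71643) (tt N12394 (iv F73813)))
theorem Q11819 : ∀ i, i < 11819 → P i := stepQ 11818 Q11818 (allL N11818 (tt N11271 F71644) (tt N11945 (iv F72102)) (tt N11487 F71645) (tt N11220 F71646) (tt N11217 (iv D18276)) (tt N12419 D18877) (tt N11995 (iv F72334)) (tt N11755 F71647) (tt N11937 (iv F72066)))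
theorem Q11820 : ∀ i, i < 11820 → P i := stepQ 11819 Q11819 (allL N11819 (tt N11274 F71648) (tt N12238 (iv F73267)) (tt N11218 (iv D18277)) (tt N11232 F71649) (tt N12420 D18878) (tt N11221 F71650) (tt N12021 (iv F72447)) (tt N11912 (iv F71933)) (tt N11219 F71651))
theorem Q11821 : ∀ i, i < 11821 → P i := stepQ 11820 Q11820 (allL N11820 (tt N11275 F71652) (tt N11917 (iv F71954)) (tt N12420 (iv F73878)) (tt N11937 (iv F72063)) (tt N11218 (iv D18278)) (tt N12421 D18879) (tt N12022 (iv F72454)) (tt N11913 (iv F71939)) (tt N11220 F71653))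
theorem Q11822 : ∀ i, i < 11822 → P i := stepQ 11821 Q11821 (allL N11821 (tt N11277 F71654) (tt N12196 (iv F73111)) (tt N11220 F71655) (tt N11492 F71656) (tt N11219 (iv D18279)) (tt N12422 D18880) (tt N12023 (iv F72461)) (tt N11226 F71657) (tt N12420 (iv F73880)))
theorem Q11823 : ∀ i, i < 11823 → P i := stepQ 11822 Q11822 (allL N11822 (tt N11278 F71658) (tt N12015 (iv F72418)) (tt N12422 (iv F73885)) (tt N12419 (iv F73874)) (tt N11225 F71659) (tt N11220 (iv D18280)) (tt N12423 D18881) (tt N11227 F71660) (tt N12421 (iv F73883)))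
theorem Q11824 : ∀ i, i < 11824 → P i := stepQ 11823 Q11823 (allL N11823 (tt N12424 D18882) (tt N11221 (iv D18281)) (tt N12404 (iv F73838)) (tt N11233 F71661) (tt N12425 D18883) (tt N12238 (iv F73269)) (tt N12337 (iv F73616)) (tt N12395 (iv F73815)) (tt N11223 F71662))
theorem Q11825 : ∀ i, i < 11825 → P i := stepQ 11824 Q11824 (allL N11824 (tt N11280 F71663) (tt N12425 (iv F73896)) (tt N11222 F71664) (tt N12426 D18884) (tt N11221 (iv D18282)) (tt N12427 D18885) (tt N12338 (iv F73621)) (tt N12396 (iv F73819)) (tt N11224 F71665))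
theorem Q11826 : ∀ i, i < 11826 → P i := stepQ 11825 Q11825 (allL N11825 (tt N11281 F71666) (tt N12406 (iv F73843)) (tt N12427 (iv F73904)) (tt N11617 F71667) (tt N12421 (iv F73882)) (tt N11222 (iv D18283)) (tt N12428 D18886) (tt N12397 (iv F73822)) (tt N11225 F71668))
theorem Q11827 : ∀ i, i < 11827 → P i := stepQ 11826 Q11826 (allL N11826 (tt N11223 (iv D18284)) (tt N11282 F71669) (tt N12299 (iv F73480)) (tt N11235 F71670) (tt N12429 D18887) (tt N11241 F71671) (tt N12063 (iv F72630)) (tt N11228 F71672) (tt N12424 (iv F73895)))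
theorem Q11828 : ∀ i, i < 11828 → P i := stepQ 11827 Q11827 (allL N11827 (tt N12429 (iv F73909)) (tt N11224 F71673) (tt N12407 (iv F73847)) (tt N12430 D18888) (tt N11223 (iv D18285)) (tt N12431 D18889) (tt N12340 (iv F73628)) (tt N11229 F71674) (tt N12425 (iv F73897)))
theorem Q11829 : ∀ i, i < 11829 → P i := stepQ 11828 Q11828 (allL N11828 (tt N11284 F71675) (tt N12430 (iv F73912)) (tt N11618 F71676) (tt N11224 (iv D18286)) (tt N11237 F71677) (tt N12432 D18890) (tt N11674 F71678) (tt N11651 F71679) (tt N12426 (iv F73902)))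
theorem Q11830 : ∀ i, i < 11830 → P i := stepQ 11829 Q11829 (allL N11829 (tt N11285 F71680) (tt N12431 (iv F73916)) (tt N11225 F71681) (tt N12432 (iv F73920)) (tt N12422 (iv F73887)) (tt N11224 (iv D18287)) (tt N12433 D18891) (tt N11230 F71682) (tt N12427 (iv F73905)))
theorem Q11831 : ∀ i, i < 11831 → P i := stepQ 11830 Q11830 (allL N11830 (tt N11286 F71683) (tt N12410 (iv F73853)) (tt N12433 (iv F73924)) (tt N11620 F71684) (tt N12423 (iv F73890)) (tt N12342 (iv F73636)) (tt N11225 (iv D18288)) (tt N11231 F71685) (tt N12428 (iv F73908)))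
theorem Q11832 : ∀ i, i < 11832 → P i := stepQ 11831 Q11831 (allL N11831 (tt N11291 F71686) (tt N12195 (iv F73107)) (tt N11227 F71687) (tt N12138 (iv F72890)) (tt N11230 F71688) (tt N11226 (iv D18289)) (tt N12434 D18892) (tt N12422 (iv F73888)) (tt N12060 (iv F72614)))
theorem Q11833 : ∀ i, i < 11833 → P i := stepQ 11832 Q11832 (allL N11832 (tt N11292 F71689) (tt N12018 (iv F72431)) (tt N12434 (iv F73927)) (tt N12012 (iv F72405)) (tt N11231 F71690) (tt N12027 (iv F72479)) (tt N11227 (iv D18290)) (tt N12423 (iv F73891)) (tt N12061 (iv F72620)))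
theorem Q11834 : ∀ i, i < 11834 → P i := stepQ 11833 Q11833 (allL N11833 (tt N11229 F71691) (tt N11293 F71692) (tt N12302 (iv F73493)) (tt N11986 (iv F72290)) (tt N11228 (iv D18291)) (tt N12415 (iv F73865)) (tt N12071 (iv F72663)) (tt N12429 (iv F73911)) (tt N12102 (iv F72783)))
theorem Q11835 : ∀ i, i < 11835 → P i := stepQ 11834 Q11834 (allL N11834 (tt N12415 (iv F73863)) (tt N11230 F71693) (tt N12411 (iv F73857)) (tt N11987 (iv F72295)) (tt N12195 (iv F73109)) (tt N11229 (iv D18292)) (tt N12435 D18893) (tt N12431 (iv F73917)) (tt N12402 (iv F73834)))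
theorem Q11836 : ∀ i, i < 11836 → P i := stepQ 11835 Q11835 (allL N11835 (tt N11295 F71694) (tt N12435 (iv F73929)) (tt N11231 F71695) (tt N11988 (iv F72299)) (tt N12434 (iv F73928)) (tt N12346 (iv F73647)) (tt N11230 (iv D18293)) (tt N12433 (iv F73925)) (tt N12403 (iv F73837)))
theorem Q11837 : ∀ i, i < 11837 → P i := stepQ 11836 Q11836 (allL N11836 (tt N11233 (iv D18294)) (tt N11300 F71696) (tt N11836 F71697) (tt N12424 (iv F73893)) (tt N12436 D18894) (tt N11242 F71698) (tt N11924 (iv F71988)) (tt N11836 F71699) (tt N11235 F71700))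
theorem Q11838 : ∀ i, i < 11838 → P i := stepQ 11837 Q11837 (allL N11837 (tt N12436 (iv F73930)) (tt N11234 F71701) (tt N11837 F71702) (tt N12437 D18895) (tt N11233 (iv D18295)) (tt N11514 F71703) (tt N11778 F71704) (tt N11837 F71705) (tt N11236 F71706))
theorem Q11839 : ∀ i, i < 11839 → P i := stepQ 11838 Q11838 (allL N11838 (tt N11302 F71707) (tt N12437 (iv F73937)) (tt N11625 F71708) (tt N11234 (iv D18296)) (tt N12426 (iv F73900)) (tt N11515 F71709) (tt N11671 F71710) (tt N12264 (iv F73370)) (tt N11237 F71711))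
theorem Q11840 : ∀ i, i < 11840 → P i := stepQ 11839 Q11839 (allL N11839 (tt N11236 F71712) (tt N11303 F71713) (tt N11839 F71714) (tt N12438 D18896) (tt N11235 (iv D18297)) (tt N11516 F71715) (tt N11779 F71716) (tt N11238 F71717) (tt N12436 (iv F73936)))
theorem Q11841 : ∀ i, i < 11841 → P i := stepQ 11840 Q11840 (allL N11840 (tt N12438 (iv F73941)) (tt N11237 F71718) (tt N11848 (iv F71743)) (tt N11236 (iv D18298)) (tt N12430 (iv F73913)) (tt N11517 F71719) (tt N11673 F71720) (tt N11650 F71721) (tt N12437 (iv F73940)))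
theorem Q11842 : ∀ i, i < 11842 → P i := stepQ 11841 Q11841 (allL N11841 (tt N12056 (iv F72589)) (tt N11989 (iv F72301)) (tt N12066 (iv F72641)) (tt N11841 F71722) (tt N12393 (iv F73811)) (tt N12136 (iv F72878)) (tt N12033 (iv F72504)) (tt N11239 (iv D18299)) (tt N12439 D18897))
theorem Q11843 : ∀ i, i < 11843 → P i := stepQ 11842 Q11842 (allL N11842 (tt N12013 F72414) (tt N12087 (iv F72729)) (tt N11241 F71723) (tt N11842 F71724) (tt N12413 (iv F73861)) (tt N12299 (iv F73482)) (tt N12039 (iv F72523)) (tt N11240 (iv D18300)) (tt N12440 D18898))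
theorem Q11844 : ∀ i, i < 11844 → P i := stepQ 11843 Q11843 (allL N11843 (tt N12238 (iv F73266)) (tt N11706 F71725) (tt N12440 (iv F73950)) (tt N11242 F71726) (tt N12418 (iv F73871)) (tt N12424 (iv F73894)) (tt N12109 (iv F72800)) (tt N12439 (iv F73948)) (tt N11241 (iv D18301)))
theorem Q11845 : ∀ i, i < 11845 → P i := stepQ 11844 Q11844 (allL N11844 (tt N11780 F71727) (tt N12135 (iv F72870)) (tt N11243 (iv D18302)) (tt N11844 F71728) (tt N12441 D18899) (tt N11245 F71729) (tt N11540 F71730) (tt N11248 F71731) (tt N12149 (iv F72942)))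
theorem Q11846 : ∀ i, i < 11846 → P i := stepQ 11845 Q11845 (allL N11845 (tt N11781 F71732) (tt N11534 F71733) (tt N12441 (iv F73953)) (tt N11533 F71734) (tt N11243 (iv D18303)) (tt N12442 D18900) (tt N11541 F71735) (tt N11249 F71736) (tt N12150 (iv F72947)))
theorem Q11847 : ∀ i, i < 11847 → P i := stepQ 11846 Q11846 (allL N11846 (tt N12153 (iv F72957)) (tt N12443 D18901) (tt N11244 (iv D18304)) (tt N11846 F71737) (tt N12444 D18902) (tt N12149 (iv F72940)) (tt N12264 (iv F73369)) (tt N11671 F71738) (tt N11245 F71739))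
theorem Q11848 : ∀ i, i < 11848 → P i := stepQ 11847 Q11847 (allL N11847 (tt N12154 (iv F72963)) (tt N12231 (iv F73238)) (tt N12444 (iv F73965)) (tt N11263 F71740) (tt N11244 (iv D18305)) (tt N12445 D18903) (tt N12265 (iv F73375)) (tt N11672 F71741) (tt N11246 F71742))
theorem Q11849 : ∀ i, i < 11849 → P i := stepQ 11848 Q11848 (allL N11848 (tt N12446 D18904) (tt N11245 (iv D18306)) (tt N11840 F71743) (tt N11848 F71744) (tt N12447 D18905) (tt N12135 (iv F72872)) (tt N12266 (iv F73380)) (tt N11250 F71745) (tt N12443 (iv F73964)))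
theorem Q11850 : ∀ i, i < 11850 → P i := stepQ 11849 Q11849 (allL N11849 (tt N12380 (iv F73760)) (tt N12447 (iv F73974)) (tt N11246 F71746) (tt N12448 D18906) (tt N11245 (iv D18307)) (tt N12449 D18907) (tt N12267 (iv F73383)) (tt N11251 F71747) (tt N12444 (iv F73967)))
theorem Q11851 : ∀ i, i < 11851 → P i := stepQ 11850 Q11850 (allL N11850 (tt N12381 (iv F73763)) (tt N12234 (iv F73250)) (tt N12449 (iv F73979)) (tt N11265 F71748) (tt N12442 (iv F73959)) (tt N11246 (iv D18308)) (tt N12450 D18908) (tt N11252 F71749) (tt N12445 (iv F73970)))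
theorem Q11852 : ∀ i, i < 11852 → P i := stepQ 11851 Q11851 (allL N11851 (tt N12275 (iv F73411)) (tt N11861 (iv F71784)) (tt N11247 (iv D18309)) (tt N11254 F71750) (tt N12451 D18909) (tt N11772 F71751) (tt N11248 F71752) (tt N11540 F71753) (tt N11676 F71754))
theorem Q11853 : ∀ i, i < 11853 → P i := stepQ 11852 Q11852 (allL N11852 (tt N12276 (iv F73417)) (tt N11545 F71755) (tt N12451 (iv F73983)) (tt N11561 F71756) (tt N11247 (iv D18310)) (tt N12452 D18910) (tt N11249 F71757) (tt N11541 F71758) (tt N11677 F71759))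
theorem Q11854 : ∀ i, i < 11854 → P i := stepQ 11853 Q11853 (allL N11853 (tt N12453 D18911) (tt N11248 (iv D18311)) (tt N11304 F71760) (tt N11255 F71761) (tt N12454 D18912) (tt N11250 F71762) (tt N11861 (iv F71786)) (tt N12135 (iv F72873)) (tt N11678 F71763))
theorem Q11855 : ∀ i, i < 11855 → P i := stepQ 11854 Q11854 (allL N11854 (tt N12383 (iv F73772)) (tt N12454 (iv F73996)) (tt N11249 F71764) (tt N12455 D18913) (tt N11248 (iv D18312)) (tt N12456 D18914) (tt N12451 (iv F73984)) (tt N12441 (iv F73955)) (tt N11679 F71765))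
theorem Q11856 : ∀ i, i < 11856 → P i := stepQ 11855 Q11855 (allL N11855 (tt N12384 (iv F73776)) (tt N11764 F71766) (tt N12456 (iv F74005)) (tt N11763 F71767) (tt N11252 F71768) (tt N11249 (iv D18313)) (tt N12457 D18915) (tt N12442 (iv F73960)) (tt N11680 F71769))
theorem Q11857 : ∀ i, i < 11857 → P i := stepQ 11856 Q11856 (allL N11856 (tt N11250 (iv D18314)) (tt N12385 (iv F73782)) (tt N12256 (iv F73335)) (tt N11257 F71770) (tt N12458 D18916) (tt N12453 (iv F73993)) (tt N12270 (iv F73394)) (tt N12446 (iv F73973)) (tt N11681 F71771))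
theorem Q11858 : ∀ i, i < 11858 → P i := stepQ 11857 Q11857 (allL N11857 (tt N12458 (iv F74012)) (tt N11251 F71772) (tt N12257 (iv F73340)) (tt N12007 (iv F72386)) (tt N11250 (iv D18315)) (tt N12459 D18917) (tt N12271 (iv F73398)) (tt N12447 (iv F73976)) (tt N11682 F71773))
theorem Q11859 : ∀ i, i < 11859 → P i := stepQ 11858 Q11858 (allL N11858 (tt N12387 (iv F73787)) (tt N12459 (iv F74014)) (tt N11252 F71774) (tt N12008 (iv F72389)) (tt N12456 (iv F74006)) (tt N11251 (iv D18316)) (tt N12460 D18918) (tt N12449 (iv F73980)) (tt N11683 F71775))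
theorem Q11860 : ∀ i, i < 11860 → P i := stepQ 11859 Q11859 (allL N11859 (tt N12388 (iv F73790)) (tt N12259 (iv F73347)) (tt N12460 (iv F74016)) (tt N11253 F71776) (tt N12457 (iv F74010)) (tt N12273 (iv F73404)) (tt N11252 (iv D18317)) (tt N12450 (iv F73982)) (tt N11684 F71777))
theorem Q11861 : ∀ i, i < 11861 → P i := stepQ 11860 Q11860 (allL N11860 (tt N11255 (iv D18318)) (tt N12389 (iv F73793)) (tt N11305 F71778) (tt N12453 (iv F73992)) (tt N11776 F71779) (tt N11257 F71780) (tt N11793 F71781) (tt N11860 F71782) (tt N11685 F71783))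
theorem Q11862 : ∀ i, i < 11862 → P i := stepQ 11861 Q11861 (allL N11861 (tt N12391 (iv F73806)) (tt N11851 F71784) (tt N11773 F71785) (tt N11256 (iv D18319)) (tt N12455 (iv F74002)) (tt N12010 (iv F72393)) (tt N11853 F71786) (tt N12155 (iv F72970)) (tt N11686 F71787))
theorem Q11863 : ∀ i, i < 11863 → P i := stepQ 11862 Q11862 (allL N11862 (tt N11436 F71788) (tt N11634 F71789) (tt N11258 (iv D18320)) (tt N11862 F71790) (tt N12461 D18919) (tt N11532 F71791) (tt N11572 F71792) (tt N11343 F71793) (tt N11910 (iv F71922)))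
theorem Q11864 : ∀ i, i < 11864 → P i := stepQ 11863 Q11863 (allL N11863 (tt N11437 F71794) (tt N11531 F71795) (tt N12461 (iv F74020)) (tt N11261 F71796) (tt N11258 (iv D18321)) (tt N12462 D18920) (tt N11573 F71797) (tt N11344 F71798) (tt N11911 (iv F71928)))
theorem Q11865 : ∀ i, i < 11865 → P i := stepQ 11864 Q11864 (allL N11864 (tt N11912 (iv F71929)) (tt N12211 (iv F73176)) (tt N11259 (iv D18322)) (tt N11864 F71799) (tt N12463 D18921) (tt N11262 F71800) (tt N12078 (iv F72691)) (tt N11274 F71801) (tt N11260 F71802))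
theorem Q11866 : ∀ i, i < 11866 → P i := stepQ 11865 Q11865 (allL N11865 (tt N11913 (iv F71935)) (tt N11993 (iv F72321)) (tt N12463 (iv F74028)) (tt N11911 (iv F71925)) (tt N11259 (iv D18323)) (tt N12464 D18922) (tt N12079 (iv F72697)) (tt N11275 F71803) (tt N11261 F71804))
theorem Q11867 : ∀ i, i < 11867 → P i := stepQ 11866 Q11866 (allL N11866 (tt N12057 (iv F72595)) (tt N12213 (iv F73188)) (tt N11261 F71805) (tt N12465 D18923) (tt N11260 (iv D18324)) (tt N12466 D18924) (tt N12080 (iv F72702)) (tt N11266 F71806) (tt N12463 (iv F74030)))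
theorem Q11868 : ∀ i, i < 11868 → P i := stepQ 11867 Q11867 (allL N11867 (tt N12058 (iv F72599)) (tt N12229 (iv F73229)) (tt N12466 (iv F74035)) (tt N12462 (iv F74025)) (tt N11265 F71807) (tt N11261 (iv D18325)) (tt N12467 D18925) (tt N11267 F71808) (tt N12464 (iv F74033)))
theorem Q11869 : ∀ i, i < 11869 → P i := stepQ 11868 Q11868 (allL N11868 (tt N12396 (iv F73817)) (tt N12215 (iv F73194)) (tt N11263 F71809) (tt N12468 D18926) (tt N11262 (iv D18326)) (tt N12469 D18927) (tt N12310 (iv F73526)) (tt N11280 F71810) (tt N11264 F71811))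
theorem Q11870 : ∀ i, i < 11870 → P i := stepQ 11869 Q11869 (allL N11869 (tt N12397 (iv F73821)) (tt N12232 (iv F73243)) (tt N12469 (iv F74042)) (tt N12445 (iv F73968)) (tt N12464 (iv F74031)) (tt N11263 (iv D18327)) (tt N12470 D18928) (tt N11281 F71812) (tt N11265 F71813))
theorem Q11871 : ∀ i, i < 11871 → P i := stepQ 11870 Q11870 (allL N11870 (tt N12399 (iv F73826)) (tt N12217 (iv F73200)) (tt N12448 (iv F73977)) (tt N11264 (iv D18328)) (tt N11870 F71814) (tt N12471 D18929) (tt N12312 (iv F73533)) (tt N12041 (iv F72529)) (tt N12468 (iv F74041)))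
theorem Q11872 : ∀ i, i < 11872 → P i := stepQ 11871 Q11871 (allL N11871 (tt N12400 (iv F73828)) (tt N12218 (iv F73202)) (tt N11265 F71815) (tt N12471 (iv F74047)) (tt N12466 (iv F74036)) (tt N11264 (iv D18329)) (tt N12472 D18930) (tt N11268 F71816) (tt N12469 (iv F74044)))
theorem Q11873 : ∀ i, i < 11873 → P i := stepQ 11872 Q11872 (allL N11872 (tt N12401 (iv F73831)) (tt N12235 (iv F73255)) (tt N12472 (iv F74048)) (tt N12450 (iv F73981)) (tt N12467 (iv F74038)) (tt N12314 (iv F73537)) (tt N11265 (iv D18330)) (tt N11269 F71817) (tt N12470 (iv F74046)))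
theorem Q11874 : ∀ i, i < 11874 → P i := stepQ 11873 Q11873 (allL N11873 (tt N12060 (iv F72610)) (tt N12220 (iv F73207)) (tt N11267 F71818) (tt N12189 (iv F73085)) (tt N11268 F71819) (tt N11266 (iv D18331)) (tt N12473 D18931) (tt N12466 (iv F74037)) (tt N11291 F71820))
theorem Q11875 : ∀ i, i < 11875 → P i := stepQ 11874 Q11874 (allL N11874 (tt N12061 (iv F72615)) (tt N12237 (iv F73262)) (tt N12473 (iv F74050)) (tt N12055 (iv F72584)) (tt N11269 F71821) (tt N12084 (iv F72716)) (tt N11267 (iv D18332)) (tt N12467 (iv F74039)) (tt N11292 F71822))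
theorem Q11876 : ∀ i, i < 11876 → P i := stepQ 11875 Q11875 (allL N11875 (tt N12403 (iv F73835)) (tt N12222 (iv F73213)) (tt N11269 F71823) (tt N12050 (iv F72561)) (tt N12473 (iv F74051)) (tt N12317 (iv F73546)) (tt N11268 (iv D18333)) (tt N12472 (iv F74049)) (tt N11295 F71824))
theorem Q11877 : ∀ i, i < 11877 → P i := stepQ 11876 Q11876 (allL N11876 (tt N11487 F71825) (tt N11975 (iv F72245)) (tt N11271 F71826) (tt N11365 F71827) (tt N11270 (iv D18334)) (tt N12474 D18932) (tt N12182 (iv F73058)) (tt N11611 F71828) (tt N11967 (iv F72212)))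
theorem Q11878 : ∀ i, i < 11878 → P i := stepQ 11877 Q11877 (allL N11877 (tt N12419 (iv F73872)) (tt N12326 (iv F73569)) (tt N12474 (iv F74054)) (tt N11278 F71829) (tt N11756 F71830) (tt N11271 (iv D18335)) (tt N12475 D18933) (tt N12252 (iv F73320)) (tt N12327 (iv F73576)))
theorem Q11879 : ∀ i, i < 11879 → P i := stepQ 11878 Q11878 (allL N11878 (tt N12023 (iv F72457)) (tt N11884 (iv F71848)) (tt N11273 F71831) (tt N11883 (iv F71845)) (tt N11272 (iv D18336)) (tt N12476 D18934) (tt N11277 F71832) (tt N11287 F71833) (tt N12325 (iv F73568)))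
theorem Q11880 : ∀ i, i < 11880 → P i := stepQ 11879 Q11879 (allL N11879 (tt N12024 (iv F72463)) (tt N12327 (iv F73572)) (tt N12476 (iv F74060)) (tt N12328 (iv F73578)) (tt N12349 (iv F73657)) (tt N11273 (iv D18337)) (tt N12477 D18935) (tt N11288 F71834) (tt N12326 (iv F73571)))
theorem Q11881 : ∀ i, i < 11881 → P i := stepQ 11880 Q11880 (allL N11880 (tt N11706 (iv F71839)) (tt N11274 (iv D18338)) (tt N11565 F71835) (tt N11297 F71836) (tt N12478 D18936) (tt N11279 F71837) (tt N11905 (iv F71901)) (tt N12211 (iv F73180)) (tt N11276 F71838))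
theorem Q11882 : ∀ i, i < 11882 → P i := stepQ 11881 Q11881 (allL N11881 (tt N12420 (iv F73877)) (tt N12478 (iv F74065)) (tt N11275 F71840) (tt N12479 D18937) (tt N11274 (iv D18339)) (tt N12480 D18938) (tt N12325 (iv F73567)) (tt N12463 (iv F74029)) (tt N11277 F71841))
theorem Q11883 : ∀ i, i < 11883 → P i := stepQ 11882 Q11882 (allL N11882 (tt N12421 (iv F73881)) (tt N12328 (iv F73577)) (tt N12480 (iv F74075)) (tt N12327 (iv F73573)) (tt N11281 F71842) (tt N11275 (iv D18340)) (tt N12481 D18939) (tt N12464 (iv F74032)) (tt N11278 F71843))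
theorem Q11884 : ∀ i, i < 11884 → P i := stepQ 11883 Q11883 (allL N11883 (tt N11972 (iv F72231)) (tt N11277 F71844) (tt N11974 (iv F72241)) (tt N11878 F71845) (tt N11276 (iv D18341)) (tt N12482 D18940) (tt N11884 (iv F71851)) (tt N11289 F71846) (tt N12478 (iv F74068)))
theorem Q11885 : ∀ i, i < 11885 → P i := stepQ 11884 Q11884 (allL N11884 (tt N11492 F71847) (tt N11878 F71848) (tt N11365 F71849) (tt N11277 (iv D18342)) (tt N11299 F71850) (tt N12483 D18941) (tt N11883 F71851) (tt N11372 (iv F71852)) (tt N12479 (iv F74074)))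
theorem Q11886 : ∀ i, i < 11886 → P i := stepQ 11885 Q11885 (allL N11885 (tt N12422 (iv F73884)) (tt N12482 (iv F74080)) (tt N11278 F71853) (tt N12483 (iv F74087)) (tt N11285 F71854) (tt N11277 (iv D18343)) (tt N12484 D18942) (tt N11291 F71855) (tt N12480 (iv F74077)))
theorem Q11887 : ∀ i, i < 11887 → P i := stepQ 11886 Q11886 (allL N11886 (tt N12423 (iv F73889)) (tt N12329 (iv F73581)) (tt N12484 (iv F74090)) (tt N12475 (iv F74058)) (tt N11286 F71856) (tt N12477 (iv F74062)) (tt N11278 (iv D18344)) (tt N11292 F71857) (tt N12481 (iv F74079)))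
theorem Q11888 : ∀ i, i < 11888 → P i := stepQ 11887 Q11887 (allL N11887 (tt N11279 (iv D18345)) (tt N12424 (iv F73892)) (tt N11667 F71858) (tt N11300 F71859) (tt N12485 D18943) (tt N11706 F71860) (tt N11918 (iv F71962)) (tt N12202 (iv F73138)) (tt N11282 F71861))
theorem Q11889 : ∀ i, i < 11889 → P i := stepQ 11888 Q11888 (allL N11888 (tt N12485 (iv F74093)) (tt N11280 F71862) (tt N12003 (iv F72367)) (tt N12486 D18944) (tt N11279 (iv D18346)) (tt N12487 D18945) (tt N12004 (iv F72374)) (tt N12215 (iv F73196)) (tt N11283 F71863))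
theorem Q11890 : ∀ i, i < 11890 → P i := stepQ 11889 Q11889 (allL N11889 (tt N12426 (iv F73898)) (tt N12486 (iv F74096)) (tt N11662 F71864) (tt N11280 (iv D18347)) (tt N11302 F71865) (tt N12488 D18946) (tt N12353 (iv F73675)) (tt N12489 D18947) (tt N11284 F71866))
theorem Q11891 : ∀ i, i < 11891 → P i := stepQ 11890 Q11890 (allL N11890 (tt N12427 (iv F73903)) (tt N12487 (iv F74100)) (tt N11281 F71867) (tt N12488 (iv F74103)) (tt N12480 (iv F74076)) (tt N11280 (iv D18348)) (tt N12490 D18948) (tt N12469 (iv F74043)) (tt N11285 F71868))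
theorem Q11892 : ∀ i, i < 11892 → P i := stepQ 11891 Q11891 (allL N11891 (tt N12428 (iv F73906)) (tt N12330 (iv F73584)) (tt N12490 (iv F74108)) (tt N11762 F71869) (tt N12481 (iv F74078)) (tt N12355 (iv F73681)) (tt N11281 (iv D18349)) (tt N12470 (iv F74045)) (tt N11286 F71870))
theorem Q11893 : ∀ i, i < 11893 → P i := stepQ 11892 Q11892 (allL N11892 (tt N11283 F71871) (tt N12429 (iv F73910)) (tt N12062 (iv F72623)) (tt N12491 D18949) (tt N11282 (iv D18350)) (tt N12492 D18950) (tt N12064 (iv F72634)) (tt N11293 F71872) (tt N12485 (iv F74095)))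
theorem Q11894 : ∀ i, i < 11894 → P i := stepQ 11893 Q11893 (allL N11893 (tt N12491 (iv F74110)) (tt N11284 F71873) (tt N12454 (iv F73997)) (tt N11283 (iv D18351)) (tt N11304 F71874) (tt N12493 D18951) (tt N12356 (iv F73685)) (tt N12121 (iv F72832)) (tt N12486 (iv F74099)))
theorem Q11895 : ∀ i, i < 11895 → P i := stepQ 11894 Q11894 (allL N11894 (tt N12492 (iv F74112)) (tt N11285 F71875) (tt N12178 (iv F73041)) (tt N12493 (iv F74115)) (tt N12482 (iv F74082)) (tt N11283 (iv D18352)) (tt N12494 D18952) (tt N11294 F71876) (tt N12487 (iv F74101)))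
theorem Q11896 : ∀ i, i < 11896 → P i := stepQ 11895 Q11895 (allL N11895 (tt N12432 (iv F73918)) (tt N12493 (iv F74114)) (tt N11764 F71877) (tt N11285 F71878) (tt N12258 (iv F73346)) (tt N11284 (iv D18353)) (tt N12495 D18953) (tt N12123 (iv F72836)) (tt N12488 (iv F74105)))
theorem Q11897 : ∀ i, i < 11897 → P i := stepQ 11896 Q11896 (allL N11896 (tt N12433 (iv F73923)) (tt N12494 (iv F74116)) (tt N11286 F71879) (tt N12495 (iv F74119)) (tt N12484 (iv F74091)) (tt N12359 (iv F73696)) (tt N11285 (iv D18354)) (tt N11295 F71880) (tt N12490 (iv F74109)))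
theorem Q11898 : ∀ i, i < 11898 → P i := stepQ 11897 Q11897 (allL N11897 (tt N12026 (iv F72471)) (tt N11984 (iv F72281)) (tt N11288 F71881) (tt N12140 (iv F72900)) (tt N11987 (iv F72296)) (tt N11287 (iv D18355)) (tt N12496 D18954) (tt N12476 (iv F74061)) (tt N12083 (iv F72713)))
theorem Q11899 : ∀ i, i < 11899 → P i := stepQ 11898 Q11898 (allL N11898 (tt N12027 (iv F72476)) (tt N12331 (iv F73587)) (tt N12496 (iv F74120)) (tt N12019 (iv F72437)) (tt N12360 (iv F73699)) (tt N11292 F71882) (tt N11288 (iv D18356)) (tt N12477 (iv F74063)) (tt N12084 (iv F72717)))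
theorem Q11900 : ∀ i, i < 11900 → P i := stepQ 11899 Q11899 (allL N11899 (tt N11971 (iv F72226)) (tt N11291 F71883) (tt N11983 (iv F72276)) (tt N11965 (iv F72202)) (tt N11294 F71884) (tt N11289 (iv D18357)) (tt N12497 D18955) (tt N12482 (iv F74083)) (tt N12220 (iv F73210)))
theorem Q11901 : ∀ i, i < 11901 → P i := stepQ 11900 Q11900 (allL N11900 (tt N12138 (iv F72887)) (tt N11965 (iv F72200)) (tt N11954 (iv F72144)) (tt N11291 F71885) (tt N11959 (iv F72172)) (tt N11290 (iv D18358)) (tt N12498 D18956) (tt N12499 D18957) (tt N12189 (iv F73086)))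
theorem Q11902 : ∀ i, i < 11902 → P i := stepQ 11901 Q11901 (allL N11901 (tt N11347 F71886) (tt N11524 F71887) (tt N11346 F71888) (tt N11372 F71889) (tt N11296 F71890) (tt N12499 (iv F74130)) (tt N11354 F71891) (tt N11290 (iv D18359)) (tt N11640 (iv F71892)))
theorem Q11903 : ∀ i, i < 11903 → P i := stepQ 11902 Q11902 (allL N11902 (tt N12434 (iv F73926)) (tt N12497 (iv F74122)) (tt N11292 F71893) (tt N12498 (iv F74124)) (tt N11295 F71894) (tt N12496 (iv F74121)) (tt N11291 (iv D18360)) (tt N12484 (iv F74092)) (tt N12473 (iv F74052)))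
theorem Q11904 : ∀ i, i < 11904 → P i := stepQ 11903 Q11903 (allL N11903 (tt N11294 F71895) (tt N12415 (iv F73864)) (tt N12070 (iv F72655)) (tt N12128 (iv F72848)) (tt N11971 (iv F72230)) (tt N11293 (iv D18361)) (tt N12500 D18958) (tt N12492 (iv F74113)) (tt N12206 (iv F73155)))
theorem Q11905 : ∀ i, i < 11905 → P i := stepQ 11904 Q11904 (allL N11904 (tt N12500 (iv F74132)) (tt N11295 F71896) (tt N12179 (iv F73044)) (tt N12129 (iv F72851)) (tt N12497 (iv F74123)) (tt N12362 (iv F73705)) (tt N11294 (iv D18362)) (tt N12494 (iv F74117)) (tt N12222 (iv F73215)))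
theorem Q11906 : ∀ i, i < 11906 → P i := stepQ 11905 Q11905 (allL N11905 (tt N11489 F71897) (tt N11715 F71898) (tt N11364 F71899) (tt N11298 (iv D18363)) (tt N12479 (iv F74072)) (tt N11366 F71900) (tt N11880 F71901) (tt N12209 (iv F73168)) (tt N11299 F71902))
theorem Q11907 : ∀ i, i < 11907 → P i := stepQ 11906 Q11906 (allL N11906 (tt N11301 F71903) (tt N12436 (iv F73931)) (tt N11306 F71904) (tt N12501 D18959) (tt N11300 (iv D18364)) (tt N11769 F71905) (tt N11925 (iv F71994)) (tt N11906 F71906) (tt N11303 F71907))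
theorem Q11908 : ∀ i, i < 11908 → P i := stepQ 11907 Q11907 (allL N11907 (tt N12501 (iv F74133)) (tt N11302 F71908) (tt N11678 F71909) (tt N11301 (iv D18365)) (tt N12486 (iv F74098)) (tt N11663 F71910) (tt N12010 (iv F72394)) (tt N12502 D18960) (tt N11304 F71911))
theorem Q11909 : ∀ i, i < 11909 → P i := stepQ 11908 Q11908 (allL N11908 (tt N12264 (iv F73366)) (tt N12502 (iv F74137)) (tt N11658 F71912) (tt N11908 F71913) (tt N12489 (iv F74107)) (tt N11660 F71914) (tt N12153 (iv F72960)) (tt N11302 (iv D18366)) (tt N12133 (iv F72867)))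
theorem Q11910 : ∀ i, i < 11910 → P i := stepQ 11909 Q11909 (allL N11909 (tt N11304 F71915) (tt N12438 (iv F73942)) (tt N12453 (iv F73991)) (tt N11303 (iv D18367)) (tt N12491 (iv F74111)) (tt N12256 (iv F73337)) (tt N12130 (iv F72853)) (tt N12134 (iv F72869)) (tt N12501 (iv F74136)))
theorem Q11911 : ∀ i, i < 11911 → P i := stepQ 11910 Q11910 (allL N11910 (tt N11309 F71916) (tt N11572 F71917) (tt N11307 (iv D18368)) (tt N11910 F71918) (tt N12503 D18961) (tt N11537 F71919) (tt N11634 F71920) (tt N11326 F71921) (tt N11862 F71922))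
theorem Q11912 : ∀ i, i < 11912 → P i := stepQ 11911 Q11911 (allL N11911 (tt N11310 F71923) (tt N11385 F71924) (tt N12503 (iv F74143)) (tt N11865 F71925) (tt N11307 (iv D18369)) (tt N12504 D18962) (tt N11635 F71926) (tt N11327 F71927) (tt N11863 F71928))
theorem Q11913 : ∀ i, i < 11913 → P i := stepQ 11912 Q11912 (allL N11912 (tt N11864 F71929) (tt N12505 D18963) (tt N11308 (iv D18370)) (tt N11912 F71930) (tt N12506 D18964) (tt N11798 F71931) (tt N11475 F71932) (tt N11819 F71933) (tt N11442 F71934))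
theorem Q11914 : ∀ i, i < 11914 → P i := stepQ 11913 Q11913 (allL N11913 (tt N11865 F71935) (tt N11314 F71936) (tt N12506 (iv F74161)) (tt N11310 F71937) (tt N11308 (iv D18371)) (tt N12507 D18965) (tt N11476 F71938) (tt N11820 F71939) (tt N11443 F71940))
theorem Q11915 : ∀ i, i < 11915 → P i := stepQ 11914 Q11914 (allL N11914 (tt N12503 (iv F74141)) (tt N11782 F71941) (tt N11310 F71942) (tt N12508 D18966) (tt N11309 (iv D18372)) (tt N12509 D18967) (tt N12244 (iv F73295)) (tt N11330 F71943) (tt N12051 (iv F72567)))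
theorem Q11916 : ∀ i, i < 11916 → P i := stepQ 11915 Q11915 (allL N11915 (tt N12504 (iv F74147)) (tt N11315 F71944) (tt N12509 (iv F74174)) (tt N12507 (iv F74167)) (tt N11543 F71945) (tt N11310 (iv D18373)) (tt N12510 D18968) (tt N11331 F71946) (tt N12052 (iv F72571)))
theorem Q11917 : ∀ i, i < 11917 → P i := stepQ 11916 Q11916 (allL N11916 (tt N11390 F71947) (tt N12511 D18969) (tt N11311 (iv D18374)) (tt N11916 F71948) (tt N12512 D18970) (tt N11806 F71949) (tt N11423 F71950) (tt N11313 F71951) (tt N11403 F71952))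
theorem Q11918 : ∀ i, i < 11918 → P i := stepQ 11917 Q11917 (allL N11917 (tt N11391 F71953) (tt N11820 F71954) (tt N12512 (iv F74188)) (tt N11335 F71955) (tt N11311 (iv D18375)) (tt N12513 D18971) (tt N11424 F71956) (tt N11314 F71957) (tt N11404 F71958))
theorem Q11919 : ∀ i, i < 11919 → P i := stepQ 11918 Q11918 (allL N11918 (tt N11393 F71959) (tt N12514 D18972) (tt N11312 (iv D18376)) (tt N11316 F71960) (tt N12515 D18973) (tt N11313 F71961) (tt N11887 F71962) (tt N11806 F71963) (tt N11449 F71964))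
theorem Q11920 : ∀ i, i < 11920 → P i := stepQ 11919 Q11919 (allL N11919 (tt N11394 F71965) (tt N11799 F71966) (tt N12515 (iv F74206)) (tt N11547 F71967) (tt N11312 (iv D18377)) (tt N12516 D18974) (tt N12274 (iv F73408)) (tt N11807 F71968) (tt N11450 F71969))
theorem Q11921 : ∀ i, i < 11921 → P i := stepQ 11920 Q11920 (allL N11920 (tt N12517 D18975) (tt N11313 (iv D18378)) (tt N12505 (iv F74154)) (tt N11318 F71970) (tt N12518 D18976) (tt N12514 (iv F74201)) (tt N11494 F71971) (tt N12511 (iv F74185)) (tt N11451 F71972))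
theorem Q11922 : ∀ i, i < 11922 → P i := stepQ 11921 Q11921 (allL N11921 (tt N11396 F71973) (tt N12518 (iv F74223)) (tt N11314 F71974) (tt N11789 F71975) (tt N11313 (iv D18379)) (tt N12519 D18977) (tt N11495 F71976) (tt N12512 (iv F74190)) (tt N11452 F71977))
theorem Q11923 : ∀ i, i < 11923 → P i := stepQ 11922 Q11922 (allL N11922 (tt N11397 F71978) (tt N12507 (iv F74166)) (tt N12519 (iv F74228)) (tt N11315 F71979) (tt N12516 (iv F74213)) (tt N11314 (iv D18380)) (tt N12520 D18978) (tt N12513 (iv F74196)) (tt N11453 F71980))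
theorem Q11924 : ∀ i, i < 11924 → P i := stepQ 11923 Q11923 (allL N11923 (tt N11398 F71981) (tt N12510 (iv F74177)) (tt N11791 F71982) (tt N12520 (iv F74232)) (tt N11551 F71983) (tt N12255 (iv F73331)) (tt N11315 (iv D18381)) (tt N11341 F71984) (tt N12137 (iv F72886)))
theorem Q11925 : ∀ i, i < 11925 → P i := stepQ 11924 Q11924 (allL N11924 (tt N11771 F71985) (tt N11316 (iv D18382)) (tt N11924 F71986) (tt N12514 (iv F74200)) (tt N12372 (iv F73738)) (tt N11318 F71987) (tt N11836 F71988) (tt N11924 F71989) (tt N11509 F71990))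
theorem Q11926 : ∀ i, i < 11926 → P i := stepQ 11925 Q11925 (allL N11925 (tt N11399 F71991) (tt N12372 (iv F73736)) (tt N11317 F71992) (tt N12521 D18979) (tt N11316 (iv D18383)) (tt N11793 F71993) (tt N11906 F71994) (tt N11925 F71995) (tt N11510 F71996))
theorem Q11927 : ∀ i, i < 11927 → P i := stepQ 11926 Q11926 (allL N11926 (tt N11318 (iv D18384)) (tt N11400 F71997) (tt N11926 F71998) (tt N12517 (iv F74218)) (tt N11794 F71999) (tt N11771 F72000) (tt N11513 F72001) (tt N11926 F72002) (tt N11511 F72003))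
theorem Q11928 : ∀ i, i < 11928 → P i := stepQ 11927 Q11927 (allL N11927 (tt N11401 F72004) (tt N11575 F72005) (tt N11409 F72006) (tt N11525 F72007) (tt N11325 F72008) (tt N11319 (iv D18385)) (tt N12522 D18980) (tt N12253 (iv F73325)) (tt N11345 F72009))
theorem Q11929 : ∀ i, i < 11929 → P i := stepQ 11928 Q11928 (allL N11928 (tt N11640 F72010) (tt N11559 F72011) (tt N11321 F72012) (tt N11430 F72013) (tt N11320 (iv D18386)) (tt N12523 D18981) (tt N11330 F72014) (tt N12244 (iv F73296)) (tt N11347 F72015))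
theorem Q11930 : ∀ i, i < 11930 → P i := stepQ 11929 Q11929 (allL N11929 (tt N11641 F72016) (tt N11325 F72017) (tt N12523 (iv F74249)) (tt N11587 F72018) (tt N11575 F72019) (tt N11321 (iv D18387)) (tt N12524 D18982) (tt N12245 (iv F73302)) (tt N11348 F72020))
theorem Q11931 : ∀ i, i < 11931 → P i := stepQ 11930 Q11930 (allL N11930 (tt N11403 F72021) (tt N11696 F72022) (tt N11322 (iv D18388)) (tt N11930 F72023) (tt N12525 D18983) (tt N11577 F72024) (tt N11334 F72025) (tt N11323 F72026) (tt N11390 F72027))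
theorem Q11932 : ∀ i, i < 11932 → P i := stepQ 11931 Q11931 (allL N11931 (tt N11404 F72028) (tt N11584 F72029) (tt N12525 (iv F74261)) (tt N11424 F72030) (tt N11322 (iv D18389)) (tt N12526 D18984) (tt N11335 F72031) (tt N11324 F72032) (tt N11391 F72033))
theorem Q11933 : ∀ i, i < 11933 → P i := stepQ 11932 Q11932 (allL N11932 (tt N11406 F72034) (tt N11702 F72035) (tt N11324 F72036) (tt N11691 F72037) (tt N11323 (iv D18390)) (tt N12527 D18985) (tt N11339 F72038) (tt N12525 (iv F74263)) (tt N11349 F72039))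
theorem Q11934 : ∀ i, i < 11934 → P i := stepQ 11933 Q11933 (allL N11933 (tt N11407 F72040) (tt N11587 F72041) (tt N12527 (iv F74273)) (tt N11325 F72042) (tt N11580 F72043) (tt N11324 (iv D18391)) (tt N12528 D18986) (tt N12526 (iv F74269)) (tt N11350 F72044))
theorem Q11935 : ∀ i, i < 11935 → P i := stepQ 11934 Q11934 (allL N11934 (tt N11408 F72045) (tt N12524 (iv F74254)) (tt N11693 F72046) (tt N12528 (iv F74279)) (tt N12522 (iv F74244)) (tt N11341 F72047) (tt N11325 (iv D18392)) (tt N12255 (iv F73332)) (tt N11351 F72048))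
theorem Q11936 : ∀ i, i < 11936 → P i := stepQ 11935 Q11935 (allL N11935 (tt N11330 F72049) (tt N11574 F72050) (tt N11327 F72051) (tt N11604 F72052) (tt N11326 (iv D18393)) (tt N12529 D18987) (tt N11640 F72053) (tt N12503 (iv F74145)) (tt N11354 F72054))
theorem Q11937 : ∀ i, i < 11937 → P i := stepQ 11936 Q11936 (allL N11936 (tt N11331 F72055) (tt N11409 F72056) (tt N12529 (iv F74285)) (tt N11722 F72057) (tt N11560 F72058) (tt N11327 (iv D18394)) (tt N12530 D18988) (tt N12504 (iv F74151)) (tt N11355 F72059))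
theorem Q11938 : ∀ i, i < 11938 → P i := stepQ 11937 Q11937 (allL N11937 (tt N11717 F72060) (tt N11335 F72061) (tt N11708 F72062) (tt N11820 F72063) (tt N11328 (iv D18395)) (tt N12531 D18989) (tt N11584 F72064) (tt N11329 F72065) (tt N11818 F72066))
theorem Q11939 : ∀ i, i < 11939 → P i := stepQ 11938 Q11938 (allL N11938 (tt N11722 F72067) (tt N11340 F72068) (tt N11713 F72069) (tt N11331 F72070) (tt N11621 F72071) (tt N11329 (iv D18396)) (tt N12532 D18990) (tt N12531 (iv F74300)) (tt N11359 F72072))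
theorem Q11940 : ∀ i, i < 11940 → P i := stepQ 11939 Q11939 (allL N11939 (tt N11604 F72073) (tt N11795 F72074) (tt N11428 F72075) (tt N11330 (iv D18397)) (tt N11379 F72076) (tt N12533 D18991) (tt N11430 F72077) (tt N12534 D18992) (tt N11360 F72078))
theorem Q11941 : ∀ i, i < 11941 → P i := stepQ 11940 Q11940 (allL N11940 (tt N12529 (iv F74283)) (tt N11796 F72079) (tt N11331 F72080) (tt N12533 (iv F74312)) (tt N11563 F72081) (tt N11330 (iv D18398)) (tt N12535 D18993) (tt N12509 (iv F74176)) (tt N11361 F72082))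
theorem Q11942 : ∀ i, i < 11942 → P i := stepQ 11941 Q11941 (allL N11941 (tt N12530 (iv F74289)) (tt N11341 F72083) (tt N12535 (iv F74321)) (tt N12532 (iv F74305)) (tt N11564 F72084) (tt N12524 (iv F74257)) (tt N11331 (iv D18399)) (tt N12510 (iv F74179)) (tt N11362 F72085))
theorem Q11943 : ∀ i, i < 11943 → P i := stepQ 11942 Q11942 (allL N11942 (tt N11421 F72086) (tt N11464 F72087) (tt N11332 (iv D18400)) (tt N11942 F72088) (tt N12536 D18994) (tt N11334 F72089) (tt N11598 F72090) (tt N11336 F72091) (tt N12209 (iv F73169)))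
theorem Q11944 : ∀ i, i < 11944 → P i := stepQ 11943 Q11943 (allL N11943 (tt N11422 F72092) (tt N11612 F72093) (tt N12536 (iv F74326)) (tt N12212 (iv F73184)) (tt N11332 (iv D18401)) (tt N12537 D18995) (tt N11599 F72094) (tt N11337 F72095) (tt N12210 (iv F73174)))
theorem Q11945 : ∀ i, i < 11945 → P i := stepQ 11944 Q11944 (allL N11944 (tt N11423 F72096) (tt N12085 (iv F72718)) (tt N11333 (iv D18402)) (tt N11944 F72097) (tt N12538 D18996) (tt N12209 (iv F73167)) (tt N11390 F72098) (tt N11366 F72099) (tt N11334 F72100))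
theorem Q11946 : ∀ i, i < 11946 → P i := stepQ 11945 Q11945 (allL N11945 (tt N11424 F72101) (tt N11818 F72102) (tt N12538 (iv F74334)) (tt N11404 F72103) (tt N11333 (iv D18403)) (tt N12539 D18997) (tt N11391 F72104) (tt N11367 F72105) (tt N11335 F72106))
theorem Q11947 : ∀ i, i < 11947 → P i := stepQ 11946 Q11946 (allL N11946 (tt N11473 (iv F72112)) (tt N11334 (iv D18404)) (tt N11462 F72107) (tt N11946 F72108) (tt N12540 D18998) (tt N11464 F72109) (tt N11696 F72110) (tt N11338 F72111) (tt N12085 (iv F72723)))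
theorem Q11948 : ∀ i, i < 11948 → P i := stepQ 11947 Q11947 (allL N11947 (tt N11426 F72113) (tt N12540 (iv F74344)) (tt N11335 F72114) (tt N12541 D18999) (tt N11334 (iv D18405)) (tt N12542 D19000) (tt N12525 (iv F74262)) (tt N11339 F72115) (tt N12538 (iv F74337)))
theorem Q11949 : ∀ i, i < 11949 → P i := stepQ 11948 Q11948 (allL N11948 (tt N11427 F72116) (tt N12531 (iv F74296)) (tt N12542 (iv F74352)) (tt N12513 (iv F74194)) (tt N12537 (iv F74331)) (tt N11335 (iv D18406)) (tt N12543 D19001) (tt N11340 F72117) (tt N12539 (iv F74342)))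
theorem Q11950 : ∀ i, i < 11950 → P i := stepQ 11949 Q11949 (allL N11949 (tt N11430 F72118) (tt N11467 F72119) (tt N11337 F72120) (tt N11640 F72121) (tt N11336 (iv D18407)) (tt N12544 D19002) (tt N11604 F72122) (tt N12536 (iv F74328)) (tt N11372 F72123))
theorem Q11951 : ∀ i, i < 11951 → P i := stepQ 11950 Q11950 (allL N11950 (tt N11431 F72124) (tt N11621 F72125) (tt N12544 (iv F74358)) (tt N11570 F72126) (tt N11340 F72127) (tt N11337 (iv D18408)) (tt N12545 D19003) (tt N12537 (iv F74332)) (tt N11373 F72128))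
theorem Q11952 : ∀ i, i < 11952 → P i := stepQ 11951 Q11951 (allL N11951 (tt N11482 F72129) (tt N11339 F72130) (tt N11466 F72131) (tt N11803 F72132) (tt N11338 (iv D18409)) (tt N12546 D19004) (tt N11702 F72133) (tt N12540 (iv F74347)) (tt N11375 F72134))
theorem Q11953 : ∀ i, i < 11953 → P i := stepQ 11952 Q11952 (allL N11952 (tt N11434 F72135) (tt N12546 (iv F74369)) (tt N11340 F72136) (tt N11804 F72137) (tt N12544 (iv F74360)) (tt N11339 (iv D18410)) (tt N12547 D19005) (tt N12542 (iv F74353)) (tt N11376 F72138))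
theorem Q11954 : ∀ i, i < 11954 → P i := stepQ 11953 Q11953 (allL N11953 (tt N11435 F72139) (tt N12532 (iv F74303)) (tt N12547 (iv F74375)) (tt N11341 F72140) (tt N12545 (iv F74365)) (tt N12528 (iv F74281)) (tt N11340 (iv D18411)) (tt N12543 (iv F74355)) (tt N11377 F72141))
theorem Q11955 : ∀ i, i < 11955 → P i := stepQ 11954 Q11954 (allL N11954 (tt N11522 F72142) (tt N11345 F72143) (tt N11900 F72144) (tt N11555 F72145) (tt N11348 F72146) (tt N11342 (iv D18412)) (tt N12548 D19006) (tt N11958 (iv F72167)) (tt N11575 F72147))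
theorem Q11956 : ∀ i, i < 11956 → P i := stepQ 11955 Q11955 (allL N11955 (tt N11438 F72148) (tt N11640 F72149) (tt N11344 F72150) (tt N11467 F72151) (tt N11343 (iv D18413)) (tt N12549 D19007) (tt N11574 F72152) (tt N12461 (iv F74022)) (tt N11524 F72153))
theorem Q11957 : ∀ i, i < 11957 → P i := stepQ 11956 Q11956 (allL N11956 (tt N11439 F72154) (tt N11555 F72155) (tt N12549 (iv F74387)) (tt N11345 F72156) (tt N11557 F72157) (tt N11344 (iv D18414)) (tt N12550 D19008) (tt N12462 (iv F74027)) (tt N11525 F72158))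
theorem Q11958 : ∀ i, i < 11958 → P i := stepQ 11957 Q11957 (allL N11957 (tt N11440 F72159) (tt N12548 (iv F74379)) (tt N11469 F72160) (tt N12550 (iv F74393)) (tt N11351 F72161) (tt N11576 F72162) (tt N11345 (iv D18415)) (tt N12055 (iv F72587)) (tt N12522 (iv F74246)))
theorem Q11959 : ∀ i, i < 11959 → P i := stepQ 11958 Q11958 (allL N11958 (tt N11348 F72163) (tt N11441 F72164) (tt N12499 (iv F74127)) (tt N11622 F72165) (tt N11522 F72166) (tt N11346 (iv D18416)) (tt N12551 D19009) (tt N11954 F72167) (tt N11641 F72168))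
theorem Q11960 : ∀ i, i < 11960 → P i := stepQ 11959 Q11959 (allL N11959 (tt N12499 (iv F74125)) (tt N11594 F72169) (tt N11348 F72170) (tt N11504 F72171) (tt N11900 F72172) (tt N11347 (iv D18417)) (tt N12552 D19010) (tt N12138 (iv F72891)) (tt N12523 (iv F74252)))
theorem Q11961 : ∀ i, i < 11961 → P i := stepQ 11960 Q11960 (allL N11960 (tt N12551 (iv F74397)) (tt N11351 F72173) (tt N12552 (iv F74405)) (tt N11767 F72174) (tt N12548 (iv F74382)) (tt N11362 F72175) (tt N11348 (iv D18418)) (tt N12139 (iv F72896)) (tt N12524 (iv F74258)))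
theorem Q11962 : ∀ i, i < 11962 → P i := stepQ 11961 Q11961 (allL N11961 (tt N11460 F72176) (tt N11751 F72177) (tt N11350 F72178) (tt N11736 F72179) (tt N11753 F72180) (tt N11349 (iv D18419)) (tt N12553 D19011) (tt N12240 (iv F73278)) (tt N12527 (iv F74276)))
theorem Q11963 : ∀ i, i < 11963 → P i := stepQ 11962 Q11962 (allL N11962 (tt N11461 F72181) (tt N11767 F72182) (tt N12553 (iv F74411)) (tt N11351 F72183) (tt N11768 F72184) (tt N11377 F72185) (tt N11350 (iv D18420)) (tt N12241 (iv F73283)) (tt N12528 (iv F74282)))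
theorem Q11964 : ∀ i, i < 11964 → P i := stepQ 11963 Q11963 (allL N11963 (tt N11357 F72186) (tt N11465 F72187) (tt N11612 F72188) (tt N11645 F72189) (tt N11352 (iv D18421)) (tt N12554 D19012) (tt N11614 F72190) (tt N11353 F72191) (tt N11644 F72192))
theorem Q11965 : ∀ i, i < 11965 → P i := stepQ 11964 Q11964 (allL N11964 (tt N11359 F72193) (tt N11468 F72194) (tt N11621 F72195) (tt N11355 F72196) (tt N11713 F72197) (tt N11353 (iv D18422)) (tt N12555 D19013) (tt N12554 (iv F74420)) (tt N11722 F72198))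
theorem Q11966 : ∀ i, i < 11966 → P i := stepQ 11965 Q11965 (allL N11965 (tt N11361 F72199) (tt N11900 F72200) (tt N11355 F72201) (tt N11899 F72202) (tt N11594 F72203) (tt N11354 (iv D18423)) (tt N12556 D19014) (tt N12140 (iv F72902)) (tt N12529 (iv F74288)))
theorem Q11967 : ∀ i, i < 11967 → P i := stepQ 11966 Q11966 (allL N11966 (tt N11362 F72204) (tt N11469 F72205) (tt N12556 (iv F74431)) (tt N12555 (iv F74425)) (tt N11595 F72206) (tt N12551 (iv F74401)) (tt N11355 (iv D18424)) (tt N12141 (iv F72906)) (tt N12530 (iv F74294)))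
theorem Q11968 : ∀ i, i < 11968 → P i := stepQ 11967 Q11967 (allL N11967 (tt N11708 F72207) (tt N11365 F72208) (tt N11717 F72209) (tt N11975 (iv F72246)) (tt N11356 (iv D18425)) (tt N12557 D19015) (tt N11567 F72210) (tt N11358 F72211) (tt N11876 F72212))
theorem Q11969 : ∀ i, i < 11969 → P i := stepQ 11968 Q11968 (allL N11968 (tt N12554 (iv F74415)) (tt N11370 F72213) (tt N11757 F72214) (tt N11990 (iv F72308)) (tt N12557 (iv F74437)) (tt N11357 (iv D18426)) (tt N12558 D19016) (tt N11359 F72215) (tt N12363 (iv F73710)))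
theorem Q11970 : ∀ i, i < 11970 → P i := stepQ 11969 Q11969 (allL N11969 (tt N11713 F72216) (tt N11373 F72217) (tt N11722 F72218) (tt N11605 F72219) (tt N11359 F72220) (tt N11358 (iv D18427)) (tt N12559 D19017) (tt N12557 (iv F74438)) (tt N11621 F72221))
theorem Q11971 : ∀ i, i < 11971 → P i := stepQ 11970 Q11970 (allL N11970 (tt N12555 (iv F74422)) (tt N11377 F72222) (tt N11766 F72223) (tt N11362 F72224) (tt N12559 (iv F74448)) (tt N11767 F72225) (tt N11359 (iv D18428)) (tt N12558 (iv F74443)) (tt N12532 (iv F74308)))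
theorem Q11972 : ∀ i, i < 11972 → P i := stepQ 11971 Q11971 (allL N11971 (tt N11899 F72226) (tt N11815 F72227) (tt N11502 F72228) (tt N11361 F72229) (tt N11903 F72230) (tt N11360 (iv D18429)) (tt N12560 D19018) (tt N12561 D19019) (tt N12533 (iv F74314)))
theorem Q11973 : ∀ i, i < 11973 → P i := stepQ 11972 Q11972 (allL N11972 (tt N11883 F72231) (tt N11816 F72232) (tt N11488 F72233) (tt N12023 (iv F72460)) (tt N11380 F72234) (tt N12561 (iv F74461)) (tt N11492 F72235) (tt N11360 (iv D18430)) (tt N12318 (iv F73550)))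
theorem Q11974 : ∀ i, i < 11974 → P i := stepQ 11973 Q11973 (allL N11973 (tt N12556 (iv F74429)) (tt N11817 F72236) (tt N11362 F72237) (tt N12560 (iv F74454)) (tt N11610 F72238) (tt N12552 (iv F74408)) (tt N11361 (iv D18431)) (tt N12142 (iv F72910)) (tt N12535 (iv F74323)))
theorem Q11975 : ∀ i, i < 11975 → P i := stepQ 11974 Q11974 (allL N11974 (tt N11488 F72239) (tt N11567 F72240) (tt N11883 F72241) (tt N12182 (iv F73057)) (tt N11363 (iv D18432)) (tt N12562 D19020) (tt N11365 F72242) (tt N11371 F72243) (tt N12181 (iv F73053)))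
theorem Q11976 : ∀ i, i < 11976 → P i := stepQ 11975 Q11975 (allL N11975 (tt N11490 F72244) (tt N11876 F72245) (tt N12479 (iv F74071)) (tt N11967 F72246) (tt N11364 (iv D18433)) (tt N12563 D19021) (tt N12181 (iv F73052)) (tt N12210 (iv F73173)) (tt N11365 F72247))
theorem Q11977 : ∀ i, i < 11977 → P i := stepQ 11976 Q11976 (allL N11976 (tt N11493 F72248) (tt N12557 (iv F74435)) (tt N12483 (iv F74086)) (tt N12474 (iv F74055)) (tt N11370 F72249) (tt N11365 (iv D18434)) (tt N12564 D19022) (tt N11373 F72250) (tt N12563 (iv F74471)))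
theorem Q11978 : ∀ i, i < 11978 → P i := stepQ 11977 Q11977 (allL N11977 (tt N11495 F72251) (tt N12347 (iv F73648)) (tt N11367 F72252) (tt N11664 F72253) (tt N11366 (iv D18435)) (tt N12565 D19023) (tt N11396 F72254) (tt N12538 (iv F74336)) (tt N11369 F72255))
theorem Q11979 : ∀ i, i < 11979 → P i := stepQ 11978 Q11978 (allL N11978 (tt N11496 F72256) (tt N12363 (iv F73707)) (tt N12565 (iv F74476)) (tt N11383 F72257) (tt N12563 (iv F74470)) (tt N11367 (iv D18436)) (tt N12566 D19024) (tt N12539 (iv F74341)) (tt N11370 F72258))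
theorem Q11980 : ∀ i, i < 11980 → P i := stepQ 11979 Q11979 (allL N11979 (tt N11368 (iv D18437)) (tt N11497 F72259) (tt N11410 F72260) (tt N11378 F72261) (tt N12567 D19025) (tt N11412 F72262) (tt N11726 F72263) (tt N11374 F72264) (tt N12332 (iv F73595)))
theorem Q11981 : ∀ i, i < 11981 → P i := stepQ 11980 Q11980 (allL N11980 (tt N12567 (iv F74483)) (tt N11369 F72265) (tt N11740 F72266) (tt N12257 (iv F73341)) (tt N11368 (iv D18438)) (tt N12568 D19026) (tt N11742 F72267) (tt N11375 F72268) (tt N12347 (iv F73652)))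
theorem Q11982 : ∀ i, i < 11982 → P i := stepQ 11981 Q11981 (allL N11981 (tt N11500 F72269) (tt N12568 (iv F74488)) (tt N11370 F72270) (tt N12258 (iv F73345)) (tt N12483 (iv F74088)) (tt N11369 (iv D18439)) (tt N12569 D19027) (tt N11376 F72271) (tt N12565 (iv F74478)))
theorem Q11983 : ∀ i, i < 11983 → P i := stepQ 11982 Q11982 (allL N11982 (tt N11501 F72272) (tt N12558 (iv F74440)) (tt N12569 (iv F74493)) (tt N12143 (iv F72913)) (tt N12564 (iv F74473)) (tt N12241 (iv F73282)) (tt N11370 (iv D18440)) (tt N11377 F72273) (tt N12566 (iv F74482)))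
theorem Q11984 : ∀ i, i < 11984 → P i := stepQ 11983 Q11983 (allL N11983 (tt N11502 F72274) (tt N11570 F72275) (tt N11899 F72276) (tt N11621 F72277) (tt N11562 F72278) (tt N11371 (iv D18441)) (tt N12570 D19028) (tt N12562 (iv F74466)) (tt N11605 F72279))
theorem Q11985 : ∀ i, i < 11985 → P i := stepQ 11984 Q11984 (allL N11984 (tt N11504 F72280) (tt N11897 F72281) (tt N11373 F72282) (tt N12499 (iv F74128)) (tt N11376 F72283) (tt N11372 (iv D18442)) (tt N12571 D19029) (tt N12483 (iv F74089)) (tt N12544 (iv F74361)))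
theorem Q11986 : ∀ i, i < 11986 → P i := stepQ 11985 Q11985 (allL N11985 (tt N11505 F72284) (tt N12559 (iv F74445)) (tt N12571 (iv F74504)) (tt N11623 F72285) (tt N11377 F72286) (tt N12570 (iv F74500)) (tt N11373 (iv D18443)) (tt N12564 (iv F74474)) (tt N12545 (iv F74367)))
theorem Q11987 : ∀ i, i < 11987 → P i := stepQ 11986 Q11986 (allL N11986 (tt N11375 F72287) (tt N11506 F72288) (tt N11414 F72289) (tt N11833 F72290) (tt N11374 (iv D18444)) (tt N12572 D19030) (tt N11733 F72291) (tt N12567 (iv F74487)) (tt N11482 F72292))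
theorem Q11988 : ∀ i, i < 11988 → P i := stepQ 11987 Q11987 (allL N11987 (tt N12572 (iv F74507)) (tt N11376 F72293) (tt N11750 F72294) (tt N11834 F72295) (tt N11897 F72296) (tt N11375 (iv D18445)) (tt N12573 D19031) (tt N12568 (iv F74491)) (tt N12546 (iv F74373)))
theorem Q11989 : ∀ i, i < 11989 → P i := stepQ 11988 Q11988 (allL N11988 (tt N11508 F72297) (tt N12573 (iv F74513)) (tt N11377 F72298) (tt N11835 F72299) (tt N12571 (iv F74505)) (tt N12553 (iv F74414)) (tt N11376 (iv D18446)) (tt N12569 (iv F74494)) (tt N12547 (iv F74377)))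
theorem Q11990 : ∀ i, i < 11990 → P i := stepQ 11989 Q11989 (allL N11989 (tt N11598 F72300) (tt N11841 F72301) (tt N11419 F72302) (tt N11989 F72303) (tt N12534 (iv F74318)) (tt N11590 F72304) (tt N11421 F72305) (tt N11379 (iv D18447)) (tt N12028 (iv F72483)))
theorem Q11991 : ∀ i, i < 11991 → P i := stepQ 11990 Q11990 (allL N11990 (tt N12253 (iv F73321)) (tt N11528 F72306) (tt N11388 F72307) (tt N11968 F72308) (tt N11383 F72309) (tt N11381 (iv D18448)) (tt N12574 D19032) (tt N11401 F72310) (tt N11991 (iv F72316)))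
theorem Q11992 : ∀ i, i < 11992 → P i := stepQ 11991 Q11991 (allL N11991 (tt N11646 F72311) (tt N11383 F72312) (tt N11629 F72313) (tt N12363 (iv F73709)) (tt N11528 F72314) (tt N11382 (iv D18449)) (tt N12575 D19033) (tt N11402 F72315) (tt N11990 F72316))
theorem Q11993 : ∀ i, i < 11993 → P i := stepQ 11992 Q11992 (allL N11992 (tt N12255 (iv F73329)) (tt N12575 (iv F74525)) (tt N11666 F72317) (tt N12566 (iv F74480)) (tt N12574 (iv F74521)) (tt N11398 F72318) (tt N11383 (iv D18450)) (tt N11408 F72319) (tt N12143 (iv F72916)))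
theorem Q11994 : ∀ i, i < 11994 → P i := stepQ 11993 Q11993 (allL N11993 (tt N11387 F72320) (tt N11865 F72321) (tt N11613 F72322) (tt N11385 F72323) (tt N11384 (iv D18451)) (tt N12576 D19034) (tt N11644 F72324) (tt N11718 F72325) (tt N11614 F72326))
theorem Q11995 : ∀ i, i < 11995 → P i := stepQ 11994 Q11994 (allL N11994 (tt N11388 F72327) (tt N12504 (iv F74148)) (tt N12253 (iv F73323)) (tt N12576 (iv F74534)) (tt N11657 F72328) (tt N11385 (iv D18452)) (tt N12577 D19035) (tt N11409 F72329) (tt N12144 (iv F72921)))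
theorem Q11996 : ∀ i, i < 11996 → P i := stepQ 11995 Q11995 (allL N11995 (tt N11718 F72330) (tt N11391 F72331) (tt N11709 F72332) (tt N11413 F72333) (tt N11386 (iv D18453)) (tt N12578 D19036) (tt N11818 F72334) (tt N11387 F72335) (tt N11584 F72336))
theorem Q11997 : ∀ i, i < 11997 → P i := stepQ 11996 Q11996 (allL N11996 (tt N12576 (iv F74531)) (tt N11397 F72337) (tt N11758 F72338) (tt N11388 F72339) (tt N11761 F72340) (tt N11387 (iv D18454)) (tt N12579 D19037) (tt N12578 (iv F74547)) (tt N11759 F72341))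
theorem Q11998 : ∀ i, i < 11998 → P i := stepQ 11997 Q11997 (allL N11997 (tt N12577 (iv F74538)) (tt N11398 F72342) (tt N12574 (iv F74519)) (tt N12579 (iv F74551)) (tt N11666 F72343) (tt N12575 (iv F74528)) (tt N11388 (iv D18455)) (tt N11417 F72344) (tt N12239 (iv F73274)))
theorem Q11999 : ∀ i, i < 11999 → P i := stepQ 11998 Q11998 (allL N11998 (tt N11806 F72345) (tt N11698 F72346) (tt N11389 (iv D18456)) (tt N11998 F72347) (tt N12580 D19038) (tt N11390 F72348) (tt N11600 F72349) (tt N11393 F72350) (tt N11577 F72351))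
theorem Q12000 : ∀ i, i < 12000 → P i := stepQ 11999 Q11999 (allL N11999 (tt N11807 F72352) (tt N11585 F72353) (tt N12580 (iv F74556)) (tt N12203 (iv F73142)) (tt N11389 (iv D18457)) (tt N12581 D19039) (tt N11601 F72354) (tt N11394 F72355) (tt N11578 F72356))
theorem Q12001 : ∀ i, i < 12001 → P i := stepQ 12000 Q12000 (allL N12000 (tt N12305 (iv F73504)) (tt N11390 (iv D18458)) (tt N11695 F72357) (tt N12000 F72358) (tt N12582 D19040) (tt N11698 F72359) (tt N12085 (iv F72721)) (tt N11395 F72360) (tt N11696 F72361))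
theorem Q12002 : ∀ i, i < 12002 → P i := stepQ 12001 Q12001 (allL N12001 (tt N12512 (iv F74187)) (tt N12582 (iv F74565)) (tt N11391 F72362) (tt N12583 D19041) (tt N11390 (iv D18459)) (tt N12584 D19042) (tt N12538 (iv F74335)) (tt N11396 F72363) (tt N12525 (iv F74264)))
theorem Q12003 : ∀ i, i < 12003 → P i := stepQ 12002 Q12002 (allL N12002 (tt N12513 (iv F74192)) (tt N12578 (iv F74543)) (tt N12584 (iv F74572)) (tt N11427 F72364) (tt N12581 (iv F74562)) (tt N11391 (iv D18460)) (tt N12585 D19043) (tt N11397 F72365) (tt N12526 (iv F74270)))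
theorem Q12004 : ∀ i, i < 12004 → P i := stepQ 12003 Q12003 (allL N12003 (tt N12274 (iv F73406)) (tt N11568 F72366) (tt N11888 F72367) (tt N11677 F72368) (tt N11392 (iv D18461)) (tt N12586 D19044) (tt N11394 F72369) (tt N11601 F72370) (tt N11561 F72371))
theorem Q12005 : ∀ i, i < 12005 → P i := stepQ 12004 Q12004 (allL N12004 (tt N12515 (iv F74205)) (tt N11744 F72372) (tt N11394 F72373) (tt N12587 D19045) (tt N11393 (iv D18462)) (tt N12588 D19046) (tt N11888 F72374) (tt N12580 (iv F74558)) (tt N11746 F72375))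
theorem Q12006 : ∀ i, i < 12006 → P i := stepQ 12005 Q12005 (allL N12005 (tt N12516 (iv F74210)) (tt N11761 F72376) (tt N12588 (iv F74587)) (tt N11680 F72377) (tt N11397 F72378) (tt N11394 (iv D18463)) (tt N12589 D19047) (tt N12581 (iv F74563)) (tt N11763 F72379))
theorem Q12007 : ∀ i, i < 12007 → P i := stepQ 12006 Q12006 (allL N12006 (tt N11395 (iv D18464)) (tt N12517 (iv F74216)) (tt N11725 F72380) (tt N11400 F72381) (tt N12590 D19048) (tt N11728 F72382) (tt N12332 (iv F73593)) (tt N12305 (iv F73508)) (tt N11726 F72383))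
theorem Q12008 : ∀ i, i < 12008 → P i := stepQ 12007 Q12007 (allL N12007 (tt N12590 (iv F74594)) (tt N11396 F72384) (tt N11741 F72385) (tt N11857 F72386) (tt N11395 (iv D18465)) (tt N12591 D19049) (tt N12347 (iv F73651)) (tt N12582 (iv F74567)) (tt N11742 F72387))
theorem Q12009 : ∀ i, i < 12009 → P i := stepQ 12008 Q12008 (allL N12008 (tt N12519 (iv F74227)) (tt N12591 (iv F74598)) (tt N11397 F72388) (tt N11858 F72389) (tt N12588 (iv F74588)) (tt N11396 (iv D18466)) (tt N12592 D19050) (tt N12584 (iv F74573)) (tt N12240 (iv F73279)))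
theorem Q12010 : ∀ i, i < 12010 → P i := stepQ 12009 Q12009 (allL N12009 (tt N12520 (iv F74231)) (tt N12579 (iv F74549)) (tt N12592 (iv F74603)) (tt N11398 F72390) (tt N12589 (iv F74592)) (tt N12566 (iv F74481)) (tt N11397 (iv D18467)) (tt N12585 (iv F74575)) (tt N12241 (iv F73284)))
theorem Q12011 : ∀ i, i < 12011 → P i := stepQ 12010 Q12010 (allL N12010 (tt N12521 (iv F74235)) (tt N11772 F72391) (tt N11686 F72392) (tt N11399 (iv D18468)) (tt N12587 (iv F74583)) (tt N11861 F72393) (tt N11907 F72394) (tt N12593 D19051) (tt N11773 F72395))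
theorem Q12012 : ∀ i, i < 12012 → P i := stepQ 12011 Q12011 (allL N12011 (tt N12522 (iv F74240)) (tt N11529 F72396) (tt N11417 F72397) (tt N11527 F72398) (tt N11408 F72399) (tt N11633 F72400) (tt N11401 (iv D18469)) (tt N12574 (iv F74523)) (tt N11440 F72401))
theorem Q12013 : ∀ i, i < 12013 → P i := stepQ 12012 Q12012 (allL N12012 (tt N11649 F72402) (tt N11408 F72403) (tt N11633 F72404) (tt N11832 F72405) (tt N11529 F72406) (tt N11417 F72407) (tt N11402 (iv D18470)) (tt N12575 (iv F74529)) (tt N11447 F72408))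
theorem Q12014 : ∀ i, i < 12014 → P i := stepQ 12013 Q12013 (allL N12013 (tt N11842 (iv F72414)) (tt N11403 (iv D18471)) (tt N11626 F72409) (tt N12013 F72410) (tt N12594 D19052) (tt N11808 F72411) (tt N11425 F72412) (tt N11405 F72413) (tt N12511 (iv F74186)))
theorem Q12015 : ∀ i, i < 12015 → P i := stepQ 12014 Q12014 (allL N12014 (tt N12525 (iv F74259)) (tt N12594 (iv F74612)) (tt N11404 F72415) (tt N12595 D19053) (tt N11403 (iv D18472)) (tt N12596 D19054) (tt N11426 F72416) (tt N11406 F72417) (tt N12512 (iv F74191)))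
theorem Q12016 : ∀ i, i < 12016 → P i := stepQ 12015 Q12015 (allL N12015 (tt N12526 (iv F74265)) (tt N11822 F72418) (tt N12596 (iv F74619)) (tt N12539 (iv F74340)) (tt N11810 F72419) (tt N11404 (iv D18473)) (tt N12597 D19055) (tt N11407 F72420) (tt N12513 (iv F74197)))
theorem Q12017 : ∀ i, i < 12017 → P i := stepQ 12016 Q12016 (allL N12016 (tt N11812 F72421) (tt N11406 F72422) (tt N11581 F72423) (tt N11579 F72424) (tt N11405 (iv D18474)) (tt N12598 D19056) (tt N11433 F72425) (tt N12594 (iv F74615)) (tt N11459 F72426))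
theorem Q12018 : ∀ i, i < 12018 → P i := stepQ 12017 Q12017 (allL N12017 (tt N12527 (iv F74271)) (tt N12598 (iv F74627)) (tt N11407 F72427) (tt N11704 F72428) (tt N11813 F72429) (tt N11406 (iv D18475)) (tt N12599 D19057) (tt N12596 (iv F74621)) (tt N11460 F72430))
theorem Q12019 : ∀ i, i < 12019 → P i := stepQ 12018 Q12018 (allL N12018 (tt N12528 (iv F74277)) (tt N11832 F72431) (tt N12599 (iv F74632)) (tt N11408 F72432) (tt N11814 F72433) (tt N11435 F72434) (tt N11407 (iv D18476)) (tt N12597 (iv F74625)) (tt N11461 F72435))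
theorem Q12020 : ∀ i, i < 12020 → P i := stepQ 12019 Q12019 (allL N12019 (tt N11417 F72436) (tt N12530 (iv F74290)) (tt N12522 (iv F74242)) (tt N11898 F72437) (tt N11693 F72438) (tt N11649 F72439) (tt N11409 (iv D18477)) (tt N12577 (iv F74541)) (tt N11469 F72440))
theorem Q12021 : ∀ i, i < 12021 → P i := stepQ 12020 Q12020 (allL N12020 (tt N11740 F72441) (tt N11422 F72442) (tt N12567 (iv F74485)) (tt N12334 (iv F73604)) (tt N11410 (iv D18478)) (tt N12600 D19058) (tt N11727 F72443) (tt N11414 F72444) (tt N12333 (iv F73601)))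
theorem Q12022 : ∀ i, i < 12022 → P i := stepQ 12021 Q12021 (allL N12021 (tt N11715 F72445) (tt N11627 (iv F72450)) (tt N11411 (iv D18479)) (tt N11530 F72446) (tt N12601 D19059) (tt N12332 (iv F73592)) (tt N11819 F72447) (tt N11475 F72448) (tt N11412 F72449))
theorem Q12023 : ∀ i, i < 12023 → P i := stepQ 12022 Q12022 (allL N12022 (tt N11716 F72451) (tt N11424 F72452) (tt N12601 (iv F74643)) (tt N11584 F72453) (tt N11411 (iv D18480)) (tt N12602 D19060) (tt N11820 F72454) (tt N11476 F72455) (tt N11413 F72456))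
theorem Q12024 : ∀ i, i < 12024 → P i := stepQ 12023 Q12023 (allL N12023 (tt N11878 F72457) (tt N11609 F72458) (tt N11413 F72459) (tt N11972 F72460) (tt N11412 (iv D18481)) (tt N12603 D19061) (tt N11821 F72461) (tt N11415 F72462) (tt N12601 (iv F74647)))
theorem Q12025 : ∀ i, i < 12025 → P i := stepQ 12024 Q12024 (allL N12024 (tt N11879 F72463) (tt N11427 F72464) (tt N12603 (iv F74655)) (tt N12578 (iv F74545)) (tt N12600 (iv F74639)) (tt N11413 (iv D18482)) (tt N12604 D19062) (tt N11416 F72465) (tt N12602 (iv F74652)))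
theorem Q12026 : ∀ i, i < 12026 → P i := stepQ 12025 Q12025 (allL N12025 (tt N11750 F72466) (tt N11431 F72467) (tt N12572 (iv F74509)) (tt N11703 F72468) (tt N11416 F72469) (tt N11414 (iv D18483)) (tt N12605 D19063) (tt N12600 (iv F74640)) (tt N11483 F72470))
theorem Q12027 : ∀ i, i < 12027 → P i := stepQ 12026 Q12026 (allL N12026 (tt N11897 F72471) (tt N11608 F72472) (tt N11416 F72473) (tt N11526 F72474) (tt N12572 (iv F74511)) (tt N11415 (iv D18484)) (tt N12606 D19064) (tt N12603 (iv F74657)) (tt N11485 F72475))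
theorem Q12028 : ∀ i, i < 12028 → P i := stepQ 12027 Q12027 (allL N12027 (tt N11898 F72476) (tt N11435 F72477) (tt N12606 (iv F74670)) (tt N11417 F72478) (tt N12605 (iv F74665)) (tt N11832 F72479) (tt N11416 (iv D18485)) (tt N12604 (iv F74661)) (tt N11486 F72480))
theorem Q12029 : ∀ i, i < 12029 → P i := stepQ 12028 Q12028 (allL N12028 (tt N12211 (iv F73175)) (tt N12439 (iv F73946)) (tt N11418 (iv D18486)) (tt N12028 F72481) (tt N12607 D19065) (tt N12202 (iv F73136)) (tt N12031 (iv F72493)) (tt N11706 F72482) (tt N11989 F72483))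
theorem Q12030 : ∀ i, i < 12030 → P i := stepQ 12029 Q12029 (allL N12029 (tt N12212 (iv F73182)) (tt N12334 (iv F73603)) (tt N12607 (iv F74674)) (tt N11422 F72484) (tt N11418 (iv D18487)) (tt N12608 D19066) (tt N12032 (iv F72497)) (tt N11707 F72485) (tt N12030 (iv F72490)))
theorem Q12031 : ∀ i, i < 12031 → P i := stepQ 12030 Q12030 (allL N12030 (tt N11599 F72486) (tt N11727 F72487) (tt N12534 (iv F74317)) (tt N12032 (iv F72496)) (tt N11419 (iv D18488)) (tt N12609 D19067) (tt N11422 F72488) (tt N11428 F72489) (tt N12029 F72490))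
theorem Q12032 : ∀ i, i < 12032 → P i := stepQ 12031 Q12031 (allL N12031 (tt N12209 (iv F73164)) (tt N12610 D19068) (tt N11420 (iv D18489)) (tt N12031 F72491) (tt N12611 D19069) (tt N11423 F72492) (tt N12028 F72493) (tt N11489 F72494) (tt N11421 F72495))
theorem Q12033 : ∀ i, i < 12033 → P i := stepQ 12032 Q12032 (allL N12032 (tt N12210 (iv F73170)) (tt N12333 (iv F73598)) (tt N12611 (iv F74691)) (tt N12030 F72496) (tt N11420 (iv D18490)) (tt N12612 D19070) (tt N12029 F72497) (tt N11490 F72498) (tt N11422 F72499))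
theorem Q12034 : ∀ i, i < 12034 → P i := stepQ 12033 Q12033 (allL N12033 (tt N11477 F72500) (tt N11421 (iv D18491)) (tt N11497 F72501) (tt N12033 F72502) (tt N12613 D19071) (tt N11425 F72503) (tt N11841 F72504) (tt N11429 F72505) (tt N12610 (iv F74690)))
theorem Q12035 : ∀ i, i < 12035 → P i := stepQ 12034 Q12034 (allL N12034 (tt N12536 (iv F74324)) (tt N12613 (iv F74700)) (tt N11422 F72506) (tt N12614 D19072) (tt N11421 (iv D18492)) (tt N12615 D19073) (tt N12534 (iv F74319)) (tt N11430 F72507) (tt N12611 (iv F74694)))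
theorem Q12036 : ∀ i, i < 12036 → P i := stepQ 12035 Q12035 (allL N12035 (tt N12537 (iv F74329)) (tt N12600 (iv F74638)) (tt N12615 (iv F74705)) (tt N12608 (iv F74677)) (tt N11427 F72508) (tt N11422 (iv D18493)) (tt N12616 D19074) (tt N11431 F72509) (tt N12612 (iv F74698)))
theorem Q12037 : ∀ i, i < 12037 → P i := stepQ 12036 Q12036 (allL N12036 (tt N12617 D19075) (tt N11423 (iv D18494)) (tt N11627 F72510) (tt N12036 F72511) (tt N12618 D19076) (tt N12610 (iv F74687)) (tt N12511 (iv F74184)) (tt N11494 F72512) (tt N11425 F72513))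
theorem Q12038 : ∀ i, i < 12038 → P i := stepQ 12037 Q12037 (allL N12037 (tt N12538 (iv F74333)) (tt N12618 (iv F74717)) (tt N11424 F72514) (tt N12619 D19077) (tt N11423 (iv D18495)) (tt N12620 D19078) (tt N12512 (iv F74189)) (tt N11495 F72515) (tt N11426 F72516))
theorem Q12039 : ∀ i, i < 12039 → P i := stepQ 12038 Q12038 (allL N12038 (tt N12539 (iv F74338)) (tt N12602 (iv F74649)) (tt N12620 (iv F74723)) (tt N12526 (iv F74267)) (tt N12612 (iv F74696)) (tt N11424 (iv D18496)) (tt N12621 D19079) (tt N11496 F72517) (tt N11427 F72518))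
theorem Q12040 : ∀ i, i < 12040 → P i := stepQ 12039 Q12039 (allL N12039 (tt N11425 (iv D18497)) (tt N11473 F72519) (tt N11491 F72520) (tt N12039 F72521) (tt N12622 D19080) (tt N11477 F72522) (tt N11842 F72523) (tt N11432 F72524) (tt N12617 (iv F74716)))
theorem Q12041 : ∀ i, i < 12041 → P i := stepQ 12040 Q12040 (allL N12040 (tt N12622 (iv F74728)) (tt N11426 F72525) (tt N11609 F72526) (tt N12623 D19081) (tt N11425 (iv D18498)) (tt N12624 D19082) (tt N12594 (iv F74614)) (tt N11433 F72527) (tt N12618 (iv F74720)))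
theorem Q12042 : ∀ i, i < 12042 → P i := stepQ 12041 Q12041 (allL N12041 (tt N12541 (iv F74348)) (tt N12623 (iv F74733)) (tt N12583 (iv F74569)) (tt N11426 (iv D18499)) (tt N12041 F72528) (tt N12625 D19083) (tt N12595 (iv F74617)) (tt N11870 F72529) (tt N12619 (iv F74722)))
theorem Q12043 : ∀ i, i < 12043 → P i := stepQ 12042 Q12042 (allL N12042 (tt N12542 (iv F74351)) (tt N12624 (iv F74736)) (tt N11427 F72530) (tt N12625 (iv F74739)) (tt N12615 (iv F74706)) (tt N11426 (iv D18500)) (tt N12626 D19084) (tt N11434 F72531) (tt N12620 (iv F74725)))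
theorem Q12044 : ∀ i, i < 12044 → P i := stepQ 12043 Q12043 (allL N12043 (tt N12543 (iv F74354)) (tt N12604 (iv F74659)) (tt N12626 (iv F74741)) (tt N12585 (iv F74574)) (tt N12616 (iv F74708)) (tt N12597 (iv F74624)) (tt N11427 (iv D18501)) (tt N11435 F72532) (tt N12621 (iv F74727)))
theorem Q12045 : ∀ i, i < 12045 → P i := stepQ 12044 Q12044 (allL N12044 (tt N11605 F72533) (tt N11734 F72534) (tt N12533 (iv F74311)) (tt N11713 F72535) (tt N11593 F72536) (tt N11428 (iv D18502)) (tt N12627 D19085) (tt N12609 (iv F74682)) (tt N11502 F72537))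
theorem Q12046 : ∀ i, i < 12046 → P i := stepQ 12045 Q12045 (allL N12045 (tt N11484 F72538) (tt N11430 F72539) (tt N11506 F72540) (tt N11559 F72541) (tt N11429 (iv D18503)) (tt N12628 D19086) (tt N11795 F72542) (tt N12613 (iv F74703)) (tt N11503 F72543))
theorem Q12047 : ∀ i, i < 12047 → P i := stepQ 12046 Q12046 (allL N12046 (tt N12544 (iv F74356)) (tt N12628 (iv F74750)) (tt N11431 F72544) (tt N12523 (iv F74250)) (tt N11434 F72545) (tt N11430 (iv D18504)) (tt N12629 D19087) (tt N12615 (iv F74707)) (tt N11504 F72546))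
theorem Q12048 : ∀ i, i < 12048 → P i := stepQ 12047 Q12047 (allL N12047 (tt N12545 (iv F74362)) (tt N12605 (iv F74663)) (tt N12629 (iv F74755)) (tt N11714 F72547) (tt N11435 F72548) (tt N12627 (iv F74747)) (tt N11431 (iv D18505)) (tt N12616 (iv F74709)) (tt N11505 F72549))
theorem Q12049 : ∀ i, i < 12049 → P i := stepQ 12048 Q12048 (allL N12048 (tt N11433 F72550) (tt N11482 F72551) (tt N11503 F72552) (tt N11592 F72553) (tt N11432 (iv D18506)) (tt N12630 D19088) (tt N11812 F72554) (tt N12622 (iv F74732)) (tt N11506 F72555))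
theorem Q12050 : ∀ i, i < 12050 → P i := stepQ 12049 Q12049 (allL N12049 (tt N12630 (iv F74758)) (tt N11434 F72556) (tt N11608 F72557) (tt N11606 F72558) (tt N12628 (iv F74753)) (tt N11433 (iv D18507)) (tt N12631 D19089) (tt N12624 (iv F74738)) (tt N11507 F72559))
theorem Q12051 : ∀ i, i < 12051 → P i := stepQ 12050 Q12050 (allL N12050 (tt N12547 (iv F74374)) (tt N12631 (iv F74764)) (tt N11435 F72560) (tt N11875 F72561) (tt N12629 (iv F74756)) (tt N12599 (iv F74635)) (tt N11434 (iv D18508)) (tt N12626 (iv F74742)) (tt N11508 F72562))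
theorem Q12052 : ∀ i, i < 12052 → P i := stepQ 12051 Q12051 (allL N12051 (tt N12461 (iv F74018)) (tt N11542 F72563) (tt N11437 F72564) (tt N12632 D19090) (tt N11436 (iv D18509)) (tt N12633 D19091) (tt N11638 F72565) (tt N11438 F72566) (tt N11914 F72567))
theorem Q12053 : ∀ i, i < 12053 → P i := stepQ 12052 Q12052 (allL N12052 (tt N12462 (iv F74023)) (tt N11519 F72568) (tt N12633 (iv F74774)) (tt N12058 (iv F72601)) (tt N11783 F72569) (tt N11437 (iv D18510)) (tt N12634 D19092) (tt N11439 F72570) (tt N11915 F72571))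
theorem Q12054 : ∀ i, i < 12054 → P i := stepQ 12053 Q12053 (allL N12053 (tt N12549 (iv F74385)) (tt N11563 F72572) (tt N11439 F72573) (tt N11485 F72574) (tt N11796 F72575) (tt N11438 (iv D18511)) (tt N12635 D19093) (tt N12633 (iv F74776)) (tt N11526 F72576))
theorem Q12055 : ∀ i, i < 12055 → P i := stepQ 12054 Q12054 (allL N12054 (tt N12550 (iv F74391)) (tt N11520 F72577) (tt N12635 (iv F74784)) (tt N11440 F72578) (tt N11797 F72579) (tt N11643 F72580) (tt N11439 (iv D18512)) (tt N12634 (iv F74781)) (tt N11527 F72581))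
theorem Q12056 : ∀ i, i < 12056 → P i := stepQ 12055 Q12055 (allL N12055 (tt N11447 F72582) (tt N12551 (iv F74398)) (tt N11576 F72583) (tt N11874 F72584) (tt N11523 F72585) (tt N11469 F72586) (tt N11441 (iv D18513)) (tt N11957 F72587) (tt N11649 F72588))
theorem Q12057 : ∀ i, i < 12057 → P i := stepQ 12056 Q12056 (allL N12056 (tt N11841 F72589) (tt N11442 (iv D18514)) (tt N11451 F72590) (tt N12056 F72591) (tt N12636 D19094) (tt N11800 F72592) (tt N11477 F72593) (tt N11444 F72594) (tt N12505 (iv F74159)))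
theorem Q12058 : ∀ i, i < 12058 → P i := stepQ 12057 Q12057 (allL N12057 (tt N11866 F72595) (tt N12636 (iv F74790)) (tt N11443 F72596) (tt N12637 D19095) (tt N11442 (iv D18515)) (tt N12638 D19096) (tt N11478 F72597) (tt N11445 F72598) (tt N12506 (iv F74164)))
theorem Q12059 : ∀ i, i < 12059 → P i := stepQ 12058 Q12058 (allL N12058 (tt N11867 F72599) (tt N11453 F72600) (tt N12638 (iv F74800)) (tt N12052 F72601) (tt N11802 F72602) (tt N11443 (iv D18516)) (tt N12639 D19097) (tt N11446 F72603) (tt N12507 (iv F74170)))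
theorem Q12060 : ∀ i, i < 12060 → P i := stepQ 12059 Q12059 (allL N12059 (tt N11795 F72604) (tt N11445 F72605) (tt N11459 F72606) (tt N11556 F72607) (tt N11444 (iv D18517)) (tt N12640 D19098) (tt N11484 F72608) (tt N12636 (iv F74793)) (tt N11581 F72609))
theorem Q12061 : ∀ i, i < 12061 → P i := stepQ 12060 Q12060 (allL N12060 (tt N11873 F72610) (tt N12640 (iv F74810)) (tt N11446 F72611) (tt N11642 F72612) (tt N11804 F72613) (tt N11445 (iv D18518)) (tt N12641 D19099) (tt N12638 (iv F74802)) (tt N11831 F72614))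
theorem Q12062 : ∀ i, i < 12062 → P i := stepQ 12061 Q12061 (allL N12061 (tt N11874 F72615) (tt N11461 F72616) (tt N12641 (iv F74816)) (tt N11447 F72617) (tt N11805 F72618) (tt N11486 F72619) (tt N11446 (iv D18519)) (tt N12639 (iv F74808)) (tt N11832 F72620))
theorem Q12063 : ∀ i, i < 12063 → P i := stepQ 12062 Q12062 (allL N12062 (tt N11561 F72621) (tt N11689 F72622) (tt N11892 F72623) (tt N12276 (iv F73419)) (tt N11448 (iv D18520)) (tt N12642 D19100) (tt N11450 F72624) (tt N11454 F72625) (tt N12274 (iv F73410)))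
theorem Q12064 : ∀ i, i < 12064 → P i := stepQ 12063 Q12063 (allL N12063 (tt N11730 F72626) (tt N11449 (iv D18521)) (tt N11800 F72627) (tt N11509 F72628) (tt N12643 D19101) (tt N11451 F72629) (tt N11826 F72630) (tt N11455 F72631) (tt N12514 (iv F74204)))
theorem Q12065 : ∀ i, i < 12065 → P i := stepQ 12064 Q12064 (allL N12064 (tt N11746 F72632) (tt N12643 (iv F74827)) (tt N11450 F72633) (tt N12644 D19102) (tt N11449 (iv D18522)) (tt N12645 D19103) (tt N11892 F72634) (tt N11456 F72635) (tt N12515 (iv F74209)))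
theorem Q12066 : ∀ i, i < 12066 → P i := stepQ 12065 Q12065 (allL N12065 (tt N11763 F72636) (tt N11802 F72637) (tt N12645 (iv F74835)) (tt N12384 (iv F73778)) (tt N11453 F72638) (tt N11450 (iv D18523)) (tt N12646 D19104) (tt N11457 F72639) (tt N12516 (iv F74215)))
theorem Q12067 : ∀ i, i < 12067 → P i := stepQ 12066 Q12066 (allL N12066 (tt N11451 (iv D18524)) (tt N11726 F72640) (tt N11841 F72641) (tt N11511 F72642) (tt N12647 D19105) (tt N11730 F72643) (tt N11497 F72644) (tt N11458 F72645) (tt N12517 (iv F74222)))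
theorem Q12068 : ∀ i, i < 12068 → P i := stepQ 12067 Q12067 (allL N12067 (tt N12647 (iv F74842)) (tt N11452 F72646) (tt N12636 (iv F74791)) (tt N12167 (iv F73000)) (tt N11451 (iv D18525)) (tt N12648 D19106) (tt N11498 F72647) (tt N11459 F72648) (tt N12518 (iv F74226)))
theorem Q12069 : ∀ i, i < 12069 → P i := stepQ 12068 Q12068 (allL N12068 (tt N12240 (iv F73275)) (tt N12648 (iv F74847)) (tt N11453 F72649) (tt N12168 (iv F73004)) (tt N12645 (iv F74836)) (tt N11452 (iv D18526)) (tt N12649 D19107) (tt N11460 F72650) (tt N12519 (iv F74230)))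
theorem Q12070 : ∀ i, i < 12070 → P i := stepQ 12069 Q12069 (allL N12069 (tt N12241 (iv F73280)) (tt N12639 (iv F74804)) (tt N12649 (iv F74849)) (tt N12137 (iv F72882)) (tt N12646 (iv F74840)) (tt N11501 F72651) (tt N11453 (iv D18527)) (tt N11461 F72652) (tt N12520 (iv F74234)))
theorem Q12071 : ∀ i, i < 12071 → P i := stepQ 12070 Q12070 (allL N12070 (tt N11562 F72653) (tt N11692 F72654) (tt N11903 F72655) (tt N11560 F72656) (tt N11502 F72657) (tt N11454 (iv D18528)) (tt N12650 D19108) (tt N12642 (iv F74825)) (tt N11593 F72658))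
theorem Q12072 : ∀ i, i < 12072 → P i := stepQ 12071 Q12071 (allL N12071 (tt N11735 F72659) (tt N11456 F72660) (tt N11803 F72661) (tt N11733 F72662) (tt N11455 (iv D18529)) (tt N12651 D19109) (tt N11833 F72663) (tt N12643 (iv F74830)) (tt N11811 F72664))
theorem Q12073 : ∀ i, i < 12073 → P i := stepQ 12072 Q12072 (allL N12072 (tt N11459 F72665) (tt N11733 F72666) (tt N11795 F72667) (tt N11456 (iv D18530)) (tt N11458 F72668) (tt N12652 D19110) (tt N11506 F72669) (tt N12647 (iv F74846)) (tt N11812 F72670))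
theorem Q12074 : ∀ i, i < 12074 → P i := stepQ 12073 Q12073 (allL N12073 (tt N11753 F72671) (tt N12651 (iv F74860)) (tt N11457 F72672) (tt N12652 (iv F74868)) (tt N11460 F72673) (tt N11456 (iv D18531)) (tt N12653 D19111) (tt N12645 (iv F74837)) (tt N11813 F72674))
theorem Q12075 : ∀ i, i < 12075 → P i := stepQ 12074 Q12074 (allL N12074 (tt N11768 F72675) (tt N11805 F72676) (tt N12653 (iv F74872)) (tt N11797 F72677) (tt N11461 F72678) (tt N12650 (iv F74857)) (tt N11457 (iv D18532)) (tt N12646 (iv F74841)) (tt N11814 F72679))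
theorem Q12076 : ∀ i, i < 12076 → P i := stepQ 12075 Q12075 (allL N12075 (tt N12652 (iv F74865)) (tt N11460 F72680) (tt N12640 (iv F74811)) (tt N11753 F72681) (tt N12651 (iv F74863)) (tt N11459 (iv D18533)) (tt N12654 D19112) (tt N12648 (iv F74848)) (tt N12598 (iv F74631)))
theorem Q12077 : ∀ i, i < 12077 → P i := stepQ 12076 Q12076 (allL N12076 (tt N12553 (iv F74409)) (tt N12654 (iv F74876)) (tt N11461 F72682) (tt N11754 F72683) (tt N12653 (iv F74873)) (tt N11508 F72684) (tt N11460 (iv D18534)) (tt N12649 (iv F74851)) (tt N12599 (iv F74636)))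
theorem Q12078 : ∀ i, i < 12078 → P i := stepQ 12077 Q12077 (allL N12077 (tt N11474 F72685) (tt N11708 F72686) (tt N12540 (iv F74345)) (tt N12090 (iv F72744)) (tt N11462 (iv D18535)) (tt N12655 D19113) (tt N11697 F72687) (tt N11466 F72688) (tt N12086 (iv F72727)))
theorem Q12079 : ∀ i, i < 12079 → P i := stepQ 12078 Q12078 (allL N12078 (tt N11475 F72689) (tt N12209 (iv F73165)) (tt N11463 (iv D18536)) (tt N12078 F72690) (tt N12656 D19114) (tt N12085 (iv F72720)) (tt N11864 F72691) (tt N11715 F72692) (tt N11464 F72693))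
theorem Q12080 : ∀ i, i < 12080 → P i := stepQ 12079 Q12079 (allL N12079 (tt N11476 F72694) (tt N11644 F72695) (tt N12656 (iv F74884)) (tt N11635 F72696) (tt N11463 (iv D18537)) (tt N12657 D19115) (tt N11865 F72697) (tt N11716 F72698) (tt N11465 F72699))
theorem Q12081 : ∀ i, i < 12081 → P i := stepQ 12080 Q12080 (allL N12080 (tt N11478 F72700) (tt N12536 (iv F74325)) (tt N11465 F72701) (tt N12658 D19116) (tt N11464 (iv D18538)) (tt N12659 D19117) (tt N11866 F72702) (tt N11467 F72703) (tt N12656 (iv F74887)))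
theorem Q12082 : ∀ i, i < 12082 → P i := stepQ 12081 Q12081 (allL N12081 (tt N11479 F72704) (tt N12554 (iv F74416)) (tt N12659 (iv F74897)) (tt N12188 (iv F73081)) (tt N12655 (iv F74881)) (tt N11465 (iv D18539)) (tt N12660 D19118) (tt N11468 F72705) (tt N12657 (iv F74892)))
theorem Q12083 : ∀ i, i < 12083 → P i := stepQ 12082 Q12082 (allL N12082 (tt N11483 F72706) (tt N11713 F72707) (tt N12546 (iv F74370)) (tt N11734 F72708) (tt N11468 F72709) (tt N11466 (iv D18540)) (tt N12661 D19119) (tt N12655 (iv F74882)) (tt N11750 F72710))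
theorem Q12084 : ∀ i, i < 12084 → P i := stepQ 12083 Q12083 (allL N12083 (tt N11485 F72711) (tt N12544 (iv F74357)) (tt N11468 F72712) (tt N12549 (iv F74388)) (tt N12546 (iv F74372)) (tt N11467 (iv D18541)) (tt N12662 D19120) (tt N12659 (iv F74898)) (tt N11897 F72713))
theorem Q12085 : ∀ i, i < 12085 → P i := stepQ 12084 Q12084 (allL N12084 (tt N11486 F72714) (tt N12555 (iv F74423)) (tt N12662 (iv F74909)) (tt N11469 F72715) (tt N12661 (iv F74905)) (tt N11874 F72716) (tt N11468 (iv D18542)) (tt N12660 (iv F74901)) (tt N11898 F72717))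
theorem Q12086 : ∀ i, i < 12086 → P i := stepQ 12085 Q12085 (allL N12085 (tt N12089 (iv F72738)) (tt N11944 F72718) (tt N11470 (iv D18543)) (tt N12085 F72719) (tt N12663 D19121) (tt N12078 F72720) (tt N12000 F72721) (tt N11738 F72722) (tt N11946 F72723))
theorem Q12087 : ∀ i, i < 12087 → P i := stepQ 12086 Q12086 (allL N12086 (tt N12090 (iv F72742)) (tt N11487 F72724) (tt N12663 (iv F74913)) (tt N11474 F72725) (tt N11470 (iv D18544)) (tt N12664 D19122) (tt N12307 (iv F73517)) (tt N11739 F72726) (tt N12077 F72727))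
theorem Q12088 : ∀ i, i < 12088 → P i := stepQ 12087 Q12087 (allL N12087 (tt N11696 F72728) (tt N11842 F72729) (tt N11471 (iv D18545)) (tt N12087 F72730) (tt N12665 D19123) (tt N11688 F72731) (tt N11473 F72732) (tt N11480 F72733) (tt N12305 (iv F73509)))
theorem Q12089 : ∀ i, i < 12089 → P i := stepQ 12088 Q12088 (allL N12088 (tt N11697 F72734) (tt N11488 F72735) (tt N12665 (iv F74924)) (tt N12307 (iv F73516)) (tt N11471 (iv D18546)) (tt N12666 D19124) (tt N11474 F72736) (tt N11481 F72737) (tt N12306 (iv F73513)))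
theorem Q12090 : ∀ i, i < 12090 → P i := stepQ 12089 Q12089 (allL N12089 (tt N12085 F72738) (tt N12617 (iv F74710)) (tt N11472 (iv D18547)) (tt N12089 F72739) (tt N12667 D19125) (tt N11475 F72740) (tt N12305 (iv F73507)) (tt N12332 (iv F73594)) (tt N11473 F72741))
theorem Q12091 : ∀ i, i < 12091 → P i := stepQ 12090 Q12090 (allL N12090 (tt N12086 F72742) (tt N11490 F72743) (tt N12667 (iv F74932)) (tt N12077 F72744) (tt N11472 (iv D18548)) (tt N12668 D19126) (tt N12306 (iv F73512)) (tt N12333 (iv F73600)) (tt N11474 F72745))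
theorem Q12092 : ∀ i, i < 12092 → P i := stepQ 12091 Q12091 (allL N12091 (tt N12540 (iv F74343)) (tt N12622 (iv F74729)) (tt N11474 F72746) (tt N12669 D19127) (tt N11473 (iv D18549)) (tt N12670 D19128) (tt N12665 (iv F74925)) (tt N11482 F72747) (tt N12667 (iv F74933)))
theorem Q12093 : ∀ i, i < 12093 → P i := stepQ 12092 Q12092 (allL N12092 (tt N12655 (iv F74879)) (tt N11493 F72748) (tt N12670 (iv F74940)) (tt N12664 (iv F74918)) (tt N11479 F72749) (tt N11474 (iv D18550)) (tt N12671 D19129) (tt N11483 F72750) (tt N12668 (iv F74938)))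
theorem Q12094 : ∀ i, i < 12094 → P i := stepQ 12093 Q12093 (allL N12093 (tt N12610 (iv F74684)) (tt N11475 (iv D18551)) (tt N11494 F72751) (tt N12093 F72752) (tt N12672 D19130) (tt N12617 (iv F74713)) (tt N12505 (iv F74157)) (tt N11627 F72753) (tt N11477 F72754))
theorem Q12095 : ∀ i, i < 12095 → P i := stepQ 12094 Q12094 (allL N12094 (tt N12656 (iv F74883)) (tt N12672 (iv F74946)) (tt N11476 F72755) (tt N12673 D19131) (tt N11475 (iv D18552)) (tt N12674 D19132) (tt N12506 (iv F74162)) (tt N12601 (iv F74646)) (tt N11478 F72756))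
theorem Q12096 : ∀ i, i < 12096 → P i := stepQ 12095 Q12095 (allL N12095 (tt N12657 (iv F74888)) (tt N11496 F72757) (tt N12674 (iv F74952)) (tt N12245 (iv F73300)) (tt N12668 (iv F74937)) (tt N11476 (iv D18553)) (tt N12675 D19133) (tt N12602 (iv F74651)) (tt N11479 F72758))
theorem Q12097 : ∀ i, i < 12097 → P i := stepQ 12096 Q12096 (allL N12096 (tt N12613 (iv F74699)) (tt N11478 F72759) (tt N11498 F72760) (tt N12676 D19134) (tt N11477 (iv D18554)) (tt N12677 D19135) (tt N12636 (iv F74792)) (tt N11484 F72761) (tt N12672 (iv F74949)))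
theorem Q12098 : ∀ i, i < 12098 → P i := stepQ 12097 Q12097 (allL N12097 (tt N12658 (iv F74893)) (tt N12676 (iv F74956)) (tt N12246 (iv F73304)) (tt N11478 (iv D18555)) (tt N12097 F72762) (tt N12678 D19136) (tt N12637 (iv F74797)) (tt N12632 (iv F74771)) (tt N12673 (iv F74951)))
theorem Q12099 : ∀ i, i < 12099 → P i := stepQ 12098 Q12098 (allL N12098 (tt N12659 (iv F74896)) (tt N12677 (iv F74959)) (tt N11479 F72763) (tt N12678 (iv F74962)) (tt N12670 (iv F74941)) (tt N11478 (iv D18556)) (tt N12679 D19137) (tt N11485 F72764) (tt N12674 (iv F74953)))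
theorem Q12100 : ∀ i, i < 12100 → P i := stepQ 12099 Q12099 (allL N12099 (tt N12660 (iv F74899)) (tt N11501 F72765) (tt N12679 (iv F74963)) (tt N12248 (iv F73309)) (tt N12671 (iv F74944)) (tt N12639 (iv F74807)) (tt N11479 (iv D18557)) (tt N11486 F72766) (tt N12675 (iv F74955)))
theorem Q12101 : ∀ i, i < 12101 → P i := stepQ 12100 Q12100 (allL N12100 (tt N11702 F72767) (tt N11812 F72768) (tt N11481 F72769) (tt N11811 F72770) (tt N11480 (iv D18558)) (tt N12680 D19138) (tt N11482 F72771) (tt N12665 (iv F74926)) (tt N11733 F72772))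
theorem Q12102 : ∀ i, i < 12102 → P i := stepQ 12101 Q12101 (allL N12101 (tt N11703 F72773) (tt N11502 F72774) (tt N12680 (iv F74967)) (tt N11750 F72775) (tt N11692 F72776) (tt N11481 (iv D18559)) (tt N12681 D19139) (tt N12666 (iv F74930)) (tt N11734 F72777))
theorem Q12103 : ∀ i, i < 12103 → P i := stepQ 12102 Q12102 (allL N12102 (tt N11803 F72778) (tt N11592 F72779) (tt N11735 F72780) (tt N11482 (iv D18560)) (tt N11518 F72781) (tt N12682 D19140) (tt N11811 F72782) (tt N12683 D19141) (tt N11833 F72783))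
theorem Q12104 : ∀ i, i < 12104 → P i := stepQ 12103 Q12103 (allL N12103 (tt N12546 (iv F74368)) (tt N12630 (iv F74759)) (tt N11483 F72784) (tt N12682 (iv F74980)) (tt N11485 F72785) (tt N11482 (iv D18561)) (tt N12684 D19142) (tt N12670 (iv F74942)) (tt N12572 (iv F74512)))
theorem Q12105 : ∀ i, i < 12105 → P i := stepQ 12104 Q12104 (allL N12104 (tt N12661 (iv F74902)) (tt N11505 F72786) (tt N12684 (iv F74988)) (tt N11752 F72787) (tt N11486 F72788) (tt N12681 (iv F74975)) (tt N11483 (iv D18562)) (tt N12671 (iv F74945)) (tt N12605 (iv F74667)))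
theorem Q12106 : ∀ i, i < 12106 → P i := stepQ 12105 Q12105 (allL N12105 (tt N12628 (iv F74749)) (tt N11485 F72789) (tt N11507 F72790) (tt N11563 F72791) (tt N12630 (iv F74762)) (tt N11484 (iv D18563)) (tt N12685 D19143) (tt N12677 (iv F74961)) (tt N11608 F72792))
theorem Q12107 : ∀ i, i < 12107 → P i := stepQ 12106 Q12106 (allL N12106 (tt N12662 (iv F74908)) (tt N12685 (iv F74990)) (tt N11486 F72793) (tt N12635 (iv F74785)) (tt N12684 (iv F74989)) (tt N12641 (iv F74819)) (tt N11485 (iv D18564)) (tt N12679 (iv F74964)) (tt N12606 (iv F74673)))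
theorem Q12108 : ∀ i, i < 12108 → P i := stepQ 12107 Q12107 (allL N12107 (tt N12474 (iv F74053)) (tt N12664 (iv F74917)) (tt N12419 (iv F73873)) (tt N11493 F72794) (tt N12252 (iv F73319)) (tt N11487 (iv D18565)) (tt N12686 D19144) (tt N11756 F72795) (tt N12320 (iv F73555)))
theorem Q12109 : ∀ i, i < 12109 → P i := stepQ 12108 Q12108 (allL N12108 (tt N12562 (iv F74462)) (tt N12666 (iv F74928)) (tt N12561 (iv F74459)) (tt N12321 (iv F73556)) (tt N12642 (iv F74824)) (tt N11488 (iv D18566)) (tt N12687 D19145) (tt N11502 F72796) (tt N12319 (iv F73552)))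
theorem Q12110 : ∀ i, i < 12110 → P i := stepQ 12109 Q12109 (allL N12109 (tt N11627 F72797) (tt N11489 (iv D18567)) (tt N12617 (iv F74711)) (tt N11512 F72798) (tt N12688 D19146) (tt N11494 F72799) (tt N11843 F72800) (tt N12610 (iv F74689)) (tt N11491 F72801))
theorem Q12111 : ∀ i, i < 12111 → P i := stepQ 12110 Q12110 (allL N12110 (tt N12479 (iv F74069)) (tt N12688 (iv F74999)) (tt N11490 F72802) (tt N12420 (iv F73879)) (tt N11489 (iv D18568)) (tt N12689 D19147) (tt N12318 (iv F73549)) (tt N12611 (iv F74693)) (tt N11492 F72803))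
theorem Q12112 : ∀ i, i < 12112 → P i := stepQ 12111 Q12111 (allL N12111 (tt N12563 (iv F74467)) (tt N12668 (iv F74935)) (tt N12689 (iv F75002)) (tt N12320 (iv F73553)) (tt N11496 F72804) (tt N11490 (iv D18569)) (tt N12690 D19148) (tt N12612 (iv F74697)) (tt N11493 F72805))
theorem Q12113 : ∀ i, i < 12113 → P i := stepQ 12112 Q12112 (allL N12112 (tt N11609 F72806) (tt N11492 F72807) (tt N12622 (iv F74730)) (tt N12196 (iv F73112)) (tt N11491 (iv D18570)) (tt N12691 D19149) (tt N11816 F72808) (tt N11503 F72809) (tt N12688 (iv F75001)))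
theorem Q12114 : ∀ i, i < 12114 → P i := stepQ 12113 Q12113 (allL N12113 (tt N12483 (iv F74084)) (tt N12691 (iv F75008)) (tt N11493 F72810) (tt N12422 (iv F73886)) (tt N11500 F72811) (tt N11492 (iv D18571)) (tt N12692 D19150) (tt N11504 F72812) (tt N12689 (iv F75004)))
theorem Q12115 : ∀ i, i < 12115 → P i := stepQ 12114 Q12114 (allL N12114 (tt N12564 (iv F74472)) (tt N12671 (iv F74943)) (tt N12692 (iv F75011)) (tt N12686 (iv F74994)) (tt N11501 F72813) (tt N12687 (iv F74996)) (tt N11493 (iv D18572)) (tt N11505 F72814) (tt N12690 (iv F75006)))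
theorem Q12116 : ∀ i, i < 12116 → P i := stepQ 12115 Q12115 (allL N12115 (tt N11494 (iv D18573)) (tt N12332 F73596) (tt N12610 (iv F74685)) (tt N11513 F72815) (tt N12693 D19151) (tt N11627 F72816) (tt N12517 (iv F74220)) (tt N12617 (iv F74715)) (tt N11497 F72817))
theorem Q12117 : ∀ i, i < 12117 → P i := stepQ 12116 Q12116 (allL N12116 (tt N12693 (iv F75014)) (tt N11495 F72818) (tt N12672 (iv F74947)) (tt N12694 D19152) (tt N11494 (iv D18574)) (tt N12695 D19153) (tt N12518 (iv F74225)) (tt N12618 (iv F74719)) (tt N11498 F72819))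
theorem Q12118 : ∀ i, i < 12118 → P i := stepQ 12117 Q12117 (allL N12117 (tt N11664 F72820) (tt N12694 (iv F75016)) (tt N11656 F72821) (tt N11495 (iv D18575)) (tt N11515 F72822) (tt N12696 D19154) (tt N11789 F72823) (tt N12697 D19155) (tt N11499 F72824))
theorem Q12119 : ∀ i, i < 12119 → P i := stepQ 12118 Q12118 (allL N12118 (tt N12565 (iv F74475)) (tt N12695 (iv F75020)) (tt N11496 F72825) (tt N12696 (iv F75024)) (tt N12689 (iv F75003)) (tt N11495 (iv D18576)) (tt N12698 D19156) (tt N12620 (iv F74724)) (tt N11500 F72826))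
theorem Q12120 : ∀ i, i < 12120 → P i := stepQ 12119 Q12119 (allL N12119 (tt N12566 (iv F74479)) (tt N12675 (iv F74954)) (tt N12698 (iv F75031)) (tt N12255 (iv F73330)) (tt N12690 (iv F75005)) (tt N12520 (iv F74233)) (tt N11496 (iv D18577)) (tt N12621 (iv F74726)) (tt N11501 F72827))
theorem Q12121 : ∀ i, i < 12121 → P i := stepQ 12120 Q12120 (allL N12120 (tt N11498 F72828) (tt N12567 (iv F74484)) (tt N12613 (iv F74701)) (tt N12699 D19157) (tt N11497 (iv D18578)) (tt N12700 D19158) (tt N12647 (iv F74845)) (tt N11506 F72829) (tt N12693 (iv F75015)))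
theorem Q12122 : ∀ i, i < 12122 → P i := stepQ 12121 Q12121 (allL N12121 (tt N12699 (iv F75033)) (tt N11499 F72830) (tt N12701 D19159) (tt N11498 (iv D18579)) (tt N11517 F72831) (tt N12702 D19160) (tt N12167 (iv F73001)) (tt N11893 F72832) (tt N12694 (iv F75019)))
theorem Q12123 : ∀ i, i < 12123 → P i := stepQ 12122 Q12122 (allL N12122 (tt N12700 (iv F75036)) (tt N11500 F72833) (tt N12677 (iv F74960)) (tt N12702 (iv F75043)) (tt N12691 (iv F75009)) (tt N11498 (iv D18580)) (tt N12703 D19161) (tt N11507 F72834) (tt N12695 (iv F75021)))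
theorem Q12124 : ∀ i, i < 12124 → P i := stepQ 12123 Q12123 (allL N12123 (tt N12258 (iv F73343)) (tt N12702 (iv F75042)) (tt N12147 (iv F72931)) (tt N11500 F72835) (tt N12432 (iv F73921)) (tt N11499 (iv D18581)) (tt N12704 D19162) (tt N11895 F72836) (tt N12696 (iv F75025)))
theorem Q12125 : ∀ i, i < 12125 → P i := stepQ 12124 Q12124 (allL N12124 (tt N12569 (iv F74492)) (tt N12703 (iv F75045)) (tt N11501 F72837) (tt N12704 (iv F75047)) (tt N12692 (iv F75012)) (tt N12649 (iv F74850)) (tt N11500 (iv D18582)) (tt N11508 F72838) (tt N12698 (iv F75032)))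
theorem Q12126 : ∀ i, i < 12126 → P i := stepQ 12125 Q12125 (allL N12125 (tt N12570 (iv F74495)) (tt N12681 (iv F74972)) (tt N12560 (iv F74453)) (tt N11766 F72839) (tt N12650 (iv F74856)) (tt N11505 F72840) (tt N11502 (iv D18583)) (tt N12687 (iv F74997)) (tt N12627 (iv F74748)))
theorem Q12127 : ∀ i, i < 12127 → P i := stepQ 12126 Q12126 (allL N12126 (tt N11608 F72841) (tt N11504 F72842) (tt N12630 (iv F74760)) (tt N11594 F72843) (tt N11507 F72844) (tt N11503 (iv D18584)) (tt N12705 D19163) (tt N12691 (iv F75010)) (tt N12628 (iv F74754)))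
theorem Q12128 : ∀ i, i < 12128 → P i := stepQ 12127 Q12127 (allL N12127 (tt N12571 (iv F74502)) (tt N12705 (iv F75050)) (tt N11505 F72845) (tt N12552 (iv F74406)) (tt N11508 F72846) (tt N12560 (iv F74456)) (tt N11504 (iv D18585)) (tt N12692 (iv F75013)) (tt N12629 (iv F74757)))
theorem Q12129 : ∀ i, i < 12129 → P i := stepQ 12128 Q12128 (allL N12128 (tt N11507 F72847) (tt N12572 (iv F74508)) (tt N12628 (iv F74751)) (tt N11903 F72848) (tt N11608 F72849) (tt N11506 (iv D18586)) (tt N12706 D19164) (tt N12700 (iv F75038)) (tt N12630 (iv F74763)))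
theorem Q12130 : ∀ i, i < 12130 → P i := stepQ 12129 Q12129 (allL N12129 (tt N12706 (iv F75054)) (tt N11508 F72850) (tt N12685 (iv F74991)) (tt N11904 F72851) (tt N12705 (iv F75052)) (tt N12654 (iv F74878)) (tt N11507 (iv D18587)) (tt N12703 (iv F75046)) (tt N12631 (iv F74767)))
theorem Q12131 : ∀ i, i < 12131 → P i := stepQ 12130 Q12130 (allL N12130 (tt N11773 F72852) (tt N12283 (iv F73438)) (tt N12391 (iv F73807)) (tt N11510 (iv D18588)) (tt N12644 (iv F74832)) (tt N12172 (iv F73019)) (tt N11909 F72853) (tt N12166 (iv F72998)) (tt N12521 (iv F74239)))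
theorem Q12132 : ∀ i, i < 12132 → P i := stepQ 12131 Q12131 (allL N12131 (tt N11514 F72854) (tt N11769 F72855) (tt N12131 F72856) (tt N12707 D19165) (tt N11513 (iv D18589)) (tt N12436 (iv F73933)) (tt N11794 F72857) (tt N12131 F72858) (tt N11516 F72859))
theorem Q12133 : ∀ i, i < 12133 → P i := stepQ 12132 Q12132 (allL N12132 (tt N12707 (iv F75057)) (tt N11515 F72860) (tt N12708 D19166) (tt N11514 (iv D18590)) (tt N12694 (iv F75017)) (tt N12437 (iv F73938)) (tt N11788 F72861) (tt N12709 D19167) (tt N11517 F72862))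
theorem Q12134 : ∀ i, i < 12134 → P i := stepQ 12133 Q12133 (allL N12133 (tt N11660 F72863) (tt N12709 (iv F75066)) (tt N11655 F72864) (tt N12133 F72865) (tt N12697 (iv F75028)) (tt N12264 (iv F73368)) (tt N11784 F72866) (tt N11515 (iv D18591)) (tt N11908 F72867))
theorem Q12135 : ∀ i, i < 12135 → P i := stepQ 12134 Q12134 (allL N12134 (tt N11517 F72868) (tt N12256 (iv F73334)) (tt N12710 D19168) (tt N11516 (iv D18592)) (tt N12699 (iv F75034)) (tt N12438 (iv F73943)) (tt N12166 (iv F72997)) (tt N11909 F72869) (tt N12707 (iv F75060)))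
theorem Q12136 : ∀ i, i < 12136 → P i := stepQ 12135 Q12135 (allL N12135 (tt N12710 (iv F75070)) (tt N11844 F72870) (tt N11517 (iv D18593)) (tt N12135 F72871) (tt N12701 (iv F75040)) (tt N11848 F72872) (tt N12155 (iv F72969)) (tt N11853 F72873) (tt N12708 (iv F75065)))
theorem Q12137 : ∀ i, i < 12137 → P i := stepQ 12136 Q12136 (allL N12136 (tt N11800 F72874) (tt N11590 F72875) (tt N11730 F72876) (tt N12136 F72877) (tt N12683 (iv F74986)) (tt N11841 F72878) (tt N11808 F72879) (tt N11518 (iv D18594)) (tt N12711 D19169))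
theorem Q12138 : ∀ i, i < 12138 → P i := stepQ 12137 Q12137 (allL N12137 (tt N11632 F72880) (tt N12634 (iv F74778)) (tt N11551 F72881) (tt N12069 F72882) (tt N11791 F72883) (tt N11648 F72884) (tt N11519 (iv D18595)) (tt N11520 F72885) (tt N11923 F72886))
theorem Q12139 : ∀ i, i < 12139 → P i := stepQ 12138 Q12138 (allL N12138 (tt N11900 F72887) (tt N11582 F72888) (tt N11522 F72889) (tt N11831 F72890) (tt N12499 (iv F74129)) (tt N11521 (iv D18596)) (tt N12712 D19170) (tt N11959 F72891) (tt N11642 F72892))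
theorem Q12140 : ∀ i, i < 12140 → P i := stepQ 12139 Q12139 (allL N12139 (tt N12548 (iv F74378)) (tt N11523 F72893) (tt N12712 (iv F75083)) (tt N11633 F72894) (tt N12551 (iv F74400)) (tt N11527 F72895) (tt N11522 (iv D18597)) (tt N11960 F72896) (tt N11643 F72897))
theorem Q12141 : ∀ i, i < 12141 → P i := stepQ 12140 Q12140 (allL N12140 (tt N11526 F72898) (tt N12499 (iv F74126)) (tt N11525 F72899) (tt N11897 F72900) (tt N11582 F72901) (tt N11524 (iv D18598)) (tt N12713 D19171) (tt N11965 F72902) (tt N12549 (iv F74390)))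
theorem Q12142 : ∀ i, i < 12142 → P i := stepQ 12141 Q12141 (allL N12141 (tt N11527 F72903) (tt N11576 F72904) (tt N12713 (iv F75089)) (tt N12522 (iv F74243)) (tt N11583 F72905) (tt N12548 (iv F74383)) (tt N11525 (iv D18599)) (tt N11966 F72906) (tt N12550 (iv F74396)))
theorem Q12143 : ∀ i, i < 12143 → P i := stepQ 12142 Q12142 (allL N12142 (tt N12713 (iv F75088)) (tt N11610 F72907) (tt N11527 F72908) (tt N12606 (iv F74671)) (tt N11817 F72909) (tt N12712 (iv F75085)) (tt N11526 (iv D18600)) (tt N11973 F72910) (tt N12635 (iv F74788)))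
theorem Q12144 : ∀ i, i < 12144 → P i := stepQ 12143 Q12143 (allL N12143 (tt N11648 F72911) (tt N12574 (iv F74518)) (tt N11653 F72912) (tt N11982 F72913) (tt N12575 (iv F74527)) (tt N11632 F72914) (tt N11528 (iv D18601)) (tt N11529 F72915) (tt N11992 F72916))
theorem Q12145 : ∀ i, i < 12145 → P i := stepQ 12144 Q12144 (allL N12144 (tt N11629 F72917) (tt N12462 (iv F74024)) (tt N11646 F72918) (tt N12229 (iv F73231)) (tt N11535 F72919) (tt N11531 (iv D18602)) (tt N12714 D19172) (tt N11555 F72920) (tt N11994 F72921))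
theorem Q12146 : ∀ i, i < 12146 → P i := stepQ 12145 Q12145 (allL N12145 (tt N11782 F72922) (tt N11638 F72923) (tt N11533 F72924) (tt N12715 D19173) (tt N11532 (iv D18603)) (tt N12716 D19174) (tt N11542 F72925) (tt N11556 F72926) (tt N12151 (iv F72952)))
theorem Q12147 : ∀ i, i < 12147 → P i := stepQ 12146 Q12146 (allL N12146 (tt N11783 F72927) (tt N11535 F72928) (tt N12716 (iv F75105)) (tt N12442 (iv F73958)) (tt N12462 (iv F74026)) (tt N11533 (iv D18604)) (tt N12717 D19175) (tt N11557 F72929) (tt N12152 (iv F72956)))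
theorem Q12148 : ∀ i, i < 12148 → P i := stepQ 12147 Q12147 (allL N12147 (tt N11652 F72930) (tt N12442 (iv F73957)) (tt N12123 F72931) (tt N11535 F72932) (tt N12234 (iv F73252)) (tt N11534 (iv D18605)) (tt N12718 D19176) (tt N11764 F72933) (tt N12261 (iv F73356)))
theorem Q12149 : ∀ i, i < 12149 → P i := stepQ 12148 Q12148 (allL N12148 (tt N11653 F72934) (tt N12717 (iv F75108)) (tt N11648 F72935) (tt N12718 (iv F75113)) (tt N12714 (iv F75096)) (tt N11551 F72936) (tt N11535 (iv D18606)) (tt N11558 F72937) (tt N12262 (iv F73361)))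
theorem Q12150 : ∀ i, i < 12150 → P i := stepQ 12149 Q12149 (allL N12149 (tt N11540 F72938) (tt N12708 (iv F75061)) (tt N11536 (iv D18607)) (tt N12149 F72939) (tt N12719 D19177) (tt N11846 F72940) (tt N11780 F72941) (tt N12275 (iv F73415)) (tt N11844 F72942))
theorem Q12151 : ∀ i, i < 12151 → P i := stepQ 12150 Q12150 (allL N12150 (tt N11541 F72943) (tt N11656 F72944) (tt N12719 (iv F75117)) (tt N11538 F72945) (tt N11536 (iv D18608)) (tt N12720 D19178) (tt N11781 F72946) (tt N12276 (iv F73421)) (tt N11845 F72947))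
theorem Q12152 : ∀ i, i < 12152 → P i := stepQ 12151 Q12151 (allL N12151 (tt N11542 F72948) (tt N12244 (iv F73293)) (tt N11538 F72949) (tt N12721 D19179) (tt N11537 (iv D18609)) (tt N12722 D19180) (tt N11782 F72950) (tt N11559 F72951) (tt N12145 F72952))
theorem Q12153 : ∀ i, i < 12153 → P i := stepQ 12152 Q12152 (allL N12152 (tt N11543 F72953) (tt N11657 F72954) (tt N12722 (iv F75130)) (tt N12720 (iv F75122)) (tt N12504 (iv F74150)) (tt N11538 (iv D18610)) (tt N12723 D19181) (tt N11560 F72955) (tt N12146 F72956))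
theorem Q12154 : ∀ i, i < 12154 → P i := stepQ 12153 Q12153 (allL N12153 (tt N11846 F72957) (tt N12593 (iv F74605)) (tt N11539 (iv D18611)) (tt N12153 F72958) (tt N12724 D19182) (tt N11540 F72959) (tt N11908 F72960) (tt N11772 F72961) (tt N11784 F72962))
theorem Q12155 : ∀ i, i < 12155 → P i := stepQ 12154 Q12154 (allL N12154 (tt N11847 F72963) (tt N11547 F72964) (tt N12724 (iv F75139)) (tt N11799 F72965) (tt N11539 (iv D18612)) (tt N12725 D19183) (tt N12263 (iv F73363)) (tt N12161 (iv F72983)) (tt N11785 F72966))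
theorem Q12156 : ∀ i, i < 12156 → P i := stepQ 12155 Q12155 (allL N12155 (tt N12726 D19184) (tt N11540 (iv D18613)) (tt N11548 F72967) (tt N12155 F72968) (tt N12727 D19185) (tt N12593 (iv F74608)) (tt N12135 F72969) (tt N11861 F72970) (tt N12373 (iv F73743)))
theorem Q12157 : ∀ i, i < 12157 → P i := stepQ 12156 Q12156 (allL N12156 (tt N12719 (iv F75116)) (tt N12727 (iv F75152)) (tt N11541 F72971) (tt N12728 D19186) (tt N11540 (iv D18614)) (tt N12729 D19187) (tt N12441 (iv F73954)) (tt N12451 (iv F73985)) (tt N12374 (iv F73745)))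
theorem Q12158 : ∀ i, i < 12158 → P i := stepQ 12157 Q12157 (allL N12157 (tt N12720 (iv F75120)) (tt N11550 F72972) (tt N12729 (iv F75158)) (tt N11543 F72973) (tt N12725 (iv F75146)) (tt N11541 (iv D18615)) (tt N12730 D19188) (tt N12452 (iv F73989)) (tt N12375 (iv F73748)))
theorem Q12159 : ∀ i, i < 12159 → P i := stepQ 12158 Q12158 (allL N12158 (tt N12721 (iv F75125)) (tt N12632 (iv F74768)) (tt N12728 (iv F75156)) (tt N11542 (iv D18616)) (tt N12158 F72974) (tt N12731 D19189) (tt N12715 (iv F75102)) (tt N12676 (iv F74958)) (tt N12376 (iv F73750)))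
theorem Q12160 : ∀ i, i < 12160 → P i := stepQ 12159 Q12159 (allL N12159 (tt N12722 (iv F75129)) (tt N12633 (iv F74773)) (tt N11543 F72975) (tt N12731 (iv F75161)) (tt N12509 (iv F74175)) (tt N11542 (iv D18617)) (tt N12732 D19190) (tt N11563 F72976) (tt N12377 (iv F73753)))
theorem Q12161 : ∀ i, i < 12161 → P i := stepQ 12160 Q12160 (allL N12160 (tt N12723 (iv F75133)) (tt N11551 F72977) (tt N12732 (iv F75162)) (tt N12730 (iv F75160)) (tt N12510 (iv F74178)) (tt N12717 (iv F75109)) (tt N11543 (iv D18618)) (tt N11564 F72978) (tt N12378 (iv F73756)))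
theorem Q12162 : ∀ i, i < 12162 → P i := stepQ 12161 Q12161 (allL N12161 (tt N11672 F72979) (tt N11677 F72980) (tt N12353 (iv F73673)) (tt N11568 F72981) (tt N11544 (iv D18619)) (tt N12733 D19191) (tt N11662 F72982) (tt N12154 F72983) (tt N11545 F72984))
theorem Q12163 : ∀ i, i < 12163 → P i := stepQ 12162 Q12162 (allL N12162 (tt N11675 F72985) (tt N12452 (iv F73987)) (tt N12358 (iv F73692)) (tt N11569 F72986) (tt N12288 (iv F73452)) (tt N11545 (iv D18620)) (tt N12734 D19192) (tt N11550 F72987) (tt N12733 (iv F75169)))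
theorem Q12164 : ∀ i, i < 12164 → P i := stepQ 12163 Q12163 (allL N12163 (tt N12735 D19193) (tt N11546 (iv D18621)) (tt N12593 (iv F74606)) (tt N11552 F72988) (tt N12736 D19194) (tt N11548 F72989) (tt N12277 (iv F73425)) (tt N11686 F72990) (tt N12382 (iv F73771)))
theorem Q12165 : ∀ i, i < 12165 → P i := stepQ 12164 Q12164 (allL N12164 (tt N11679 F72991) (tt N12736 (iv F75178)) (tt N11547 F72992) (tt N12737 D19195) (tt N11546 (iv D18622)) (tt N12738 D19196) (tt N12278 (iv F73428)) (tt N12287 (iv F73450)) (tt N12383 (iv F73775)))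
theorem Q12166 : ∀ i, i < 12166 → P i := stepQ 12165 Q12165 (allL N12165 (tt N11680 F72993) (tt N12725 (iv F75144)) (tt N12738 (iv F75183)) (tt N12516 (iv F74212)) (tt N11550 F72994) (tt N11547 (iv D18623)) (tt N12739 D19197) (tt N12288 (iv F73453)) (tt N12384 (iv F73781)))
theorem Q12167 : ∀ i, i < 12167 → P i := stepQ 12166 Q12166 (allL N12166 (tt N11548 (iv D18624)) (tt N11681 F72995) (tt N12726 (iv F75148)) (tt N11554 F72996) (tt N12740 D19198) (tt N12735 (iv F75176)) (tt N12134 F72997) (tt N12130 F72998) (tt N12385 (iv F73784)))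
theorem Q12168 : ∀ i, i < 12168 → P i := stepQ 12167 Q12167 (allL N12167 (tt N12740 (iv F75187)) (tt N11549 F72999) (tt N12727 (iv F75153)) (tt N12067 F73000) (tt N11548 (iv D18625)) (tt N12741 D19199) (tt N12121 F73001) (tt N12356 (iv F73686)) (tt N12386 (iv F73786)))
theorem Q12169 : ∀ i, i < 12169 → P i := stepQ 12168 Q12168 (allL N12168 (tt N11683 F73002) (tt N12741 (iv F75192)) (tt N11550 F73003) (tt N12068 F73004) (tt N12738 (iv F75184)) (tt N11549 (iv D18626)) (tt N12742 D19200) (tt N12358 (iv F73694)) (tt N12387 (iv F73789)))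
theorem Q12170 : ∀ i, i < 12170 → P i := stepQ 12169 Q12169 (allL N12169 (tt N11684 F73005) (tt N12730 (iv F75159)) (tt N12742 (iv F75195)) (tt N11551 F73006) (tt N12739 (iv F75186)) (tt N12718 (iv F75114)) (tt N11550 (iv D18627)) (tt N12734 (iv F75173)) (tt N12388 (iv F73792)))
theorem Q12171 : ∀ i, i < 12171 → P i := stepQ 12170 Q12170 (allL N12170 (tt N11552 (iv D18628)) (tt N11685 F73007) (tt N12170 F73008) (tt N12735 (iv F75175)) (tt N11777 (iv F73011)) (tt N11554 F73009) (tt N12171 (iv F73016)) (tt N11774 F73010) (tt N12389 (iv F73797)))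
theorem Q12172 : ∀ i, i < 12172 → P i := stepQ 12171 Q12171 (allL N12171 (tt N11777 F73012) (tt N11553 F73013) (tt N12171 F73014) (tt N12743 D19201) (tt N11552 (iv D18629)) (tt N11779 F73015) (tt N12170 F73016) (tt N11775 F73017) (tt N12390 (iv F73805)))
theorem Q12173 : ∀ i, i < 12173 → P i := stepQ 12172 Q12172 (allL N12172 (tt N11686 F73018) (tt N12743 (iv F75199)) (tt N12521 (iv F74236)) (tt N11553 (iv D18630)) (tt N12737 (iv F75181)) (tt N12130 F73019) (tt N12289 (iv F73456)) (tt N12735 (iv F75177)) (tt N12391 (iv F73808)))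
theorem Q12174 : ∀ i, i < 12174 → P i := stepQ 12173 Q12173 (allL N12173 (tt N11633 F73020) (tt N12550 (iv F74392)) (tt N11649 F73021) (tt N12548 (iv F74381)) (tt N11558 F73022) (tt N12522 (iv F74245)) (tt N11555 (iv D18631)) (tt N12714 (iv F75097)) (tt N11576 F73023))
theorem Q12175 : ∀ i, i < 12175 → P i := stepQ 12174 Q12174 (allL N12174 (tt N11796 F73024) (tt N11642 F73025) (tt N11557 F73026) (tt N12640 (iv F74812)) (tt N12549 (iv F74389)) (tt N11556 (iv D18632)) (tt N12744 D19202) (tt N12716 (iv F75106)) (tt N11582 F73027))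
theorem Q12176 : ∀ i, i < 12176 → P i := stepQ 12175 Q12175 (allL N12175 (tt N11797 F73028) (tt N11558 F73029) (tt N12744 (iv F75205)) (tt N11768 F73030) (tt N12550 (iv F74394)) (tt N11564 F73031) (tt N11557 (iv D18633)) (tt N12717 (iv F75110)) (tt N11583 F73032))
theorem Q12177 : ∀ i, i < 12177 → P i := stepQ 12176 Q12176 (allL N12176 (tt N11563 F73033) (tt N12523 (iv F74248)) (tt N11560 F73034) (tt N12628 (iv F74752)) (tt N12529 (iv F74287)) (tt N11559 (iv D18634)) (tt N12745 D19203) (tt N12722 (iv F75131)) (tt N11594 F73035))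
theorem Q12178 : ∀ i, i < 12178 → P i := stepQ 12177 Q12177 (allL N12177 (tt N11564 F73036) (tt N11693 F73037) (tt N12745 (iv F75209)) (tt N12650 (iv F74855)) (tt N12530 (iv F74292)) (tt N11797 F73038) (tt N11560 (iv D18635)) (tt N12723 (iv F75136)) (tt N11595 F73039))
theorem Q12179 : ∀ i, i < 12179 → P i := stepQ 12178 Q12178 (allL N12178 (tt N12642 (iv F74821)) (tt N11569 F73040) (tt N11894 F73041) (tt N12452 (iv F73988)) (tt N12562 (iv F74465)) (tt N11561 (iv D18636)) (tt N12746 D19204) (tt N11562 F73042) (tt N12586 (iv F74580)))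
theorem Q12180 : ∀ i, i < 12180 → P i := stepQ 12179 Q12179 (allL N12179 (tt N12650 (iv F74852)) (tt N11571 F73043) (tt N11904 F73044) (tt N11564 F73045) (tt N12570 (iv F74499)) (tt N11768 F73046) (tt N11562 (iv D18637)) (tt N12746 (iv F75215)) (tt N11607 F73047))
theorem Q12181 : ∀ i, i < 12181 → P i := stepQ 12180 Q12180 (allL N12180 (tt N12745 (iv F75208)) (tt N12635 (iv F74783)) (tt N11564 F73048) (tt N12685 (iv F74992)) (tt N12535 (iv F74322)) (tt N12744 (iv F75206)) (tt N11563 (iv D18638)) (tt N12732 (iv F75163)) (tt N11610 F73049))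
theorem Q12182 : ∀ i, i < 12182 → P i := stepQ 12181 Q12181 (allL N12181 (tt N11707 F73050) (tt N12182 (iv F73055)) (tt N12478 (iv F74066)) (tt N11567 F73051) (tt N11565 (iv D18639)) (tt N12747 D19205) (tt N11975 F73052) (tt N12212 (iv F73186)) (tt N11974 F73053))
theorem Q12183 : ∀ i, i < 12183 → P i := stepQ 12182 Q12182 (allL N12182 (tt N11709 F73054) (tt N12181 F73055) (tt N11718 F73056) (tt N11974 F73057) (tt N11566 (iv D18640)) (tt N12748 D19206) (tt N11876 F73058) (tt N11613 F73059) (tt N11567 F73060))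
theorem Q12184 : ∀ i, i < 12184 → P i := stepQ 12183 Q12183 (allL N12183 (tt N11710 F73061) (tt N12562 (iv F74463)) (tt N11719 F73062) (tt N12747 (iv F75217)) (tt N11569 F73063) (tt N11567 (iv D18641)) (tt N12749 D19207) (tt N11570 F73064) (tt N12748 (iv F75226)))
theorem Q12185 : ∀ i, i < 12185 → P i := stepQ 12184 Q12184 (allL N12184 (tt N11711 F73065) (tt N12586 (iv F74576)) (tt N11720 F73066) (tt N12733 (iv F75166)) (tt N12748 (iv F75224)) (tt N11568 (iv D18642)) (tt N12750 D19208) (tt N11617 F73067) (tt N11569 F73068))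
theorem Q12186 : ∀ i, i < 12186 → P i := stepQ 12185 Q12185 (allL N12185 (tt N11712 F73069) (tt N12746 (iv F75212)) (tt N11721 F73070) (tt N12734 (iv F75171)) (tt N12749 (iv F75229)) (tt N11765 F73071) (tt N11569 (iv D18643)) (tt N11571 F73072) (tt N12750 (iv F75235)))
theorem Q12187 : ∀ i, i < 12187 → P i := stepQ 12186 Q12186 (allL N12186 (tt N11714 F73073) (tt N12570 (iv F74496)) (tt N11723 F73074) (tt N12545 (iv F74364)) (tt N11571 F73075) (tt N12559 (iv F74449)) (tt N11570 (iv D18644)) (tt N12749 (iv F75230)) (tt N11623 F73076))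
theorem Q12188 : ∀ i, i < 12188 → P i := stepQ 12187 Q12187 (allL N12187 (tt N11638 F73077) (tt N12503 (iv F74142)) (tt N11573 F73078) (tt N12751 D19209) (tt N11572 (iv D18645)) (tt N12752 D19210) (tt N12461 (iv F74021)) (tt N11574 F73079) (tt N12242 (iv F73287)))
theorem Q12189 : ∀ i, i < 12189 → P i := stepQ 12188 Q12188 (allL N12188 (tt N11639 F73080) (tt N12253 (iv F73322)) (tt N12752 (iv F75241)) (tt N12081 F73081) (tt N12245 (iv F73301)) (tt N11573 (iv D18646)) (tt N12753 D19211) (tt N11575 F73082) (tt N12243 (iv F73291)))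
theorem Q12190 : ∀ i, i < 12190 → P i := stepQ 12189 Q12189 (allL N12189 (tt N11642 F73083) (tt N12529 (iv F74284)) (tt N11575 F73084) (tt N11873 F73085) (tt N12523 (iv F74251)) (tt N11574 (iv D18647)) (tt N12754 D19212) (tt N12752 (iv F75242)) (tt N11900 F73086))
theorem Q12191 : ∀ i, i < 12191 → P i := stepQ 12190 Q12190 (allL N12190 (tt N11643 F73087) (tt N12522 (iv F74241)) (tt N12754 (iv F75247)) (tt N11576 F73088) (tt N12524 (iv F74256)) (tt N12550 (iv F74395)) (tt N11575 (iv D18648)) (tt N12753 (iv F75245)) (tt N12548 (iv F74384)))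
theorem Q12192 : ∀ i, i < 12192 → P i := stepQ 12191 Q12191 (allL N12191 (tt N11809 F73089) (tt N11700 F73090) (tt N11578 F73091) (tt N12755 D19213) (tt N11577 (iv D18649)) (tt N12756 D19214) (tt N11602 F73092) (tt N11579 F73093) (tt N12580 (iv F74559)))
theorem Q12193 : ∀ i, i < 12193 → P i := stepQ 12192 Q12192 (allL N12192 (tt N11810 F73094) (tt N11586 F73095) (tt N12756 (iv F75256)) (tt N12205 (iv F73151)) (tt N12526 (iv F74268)) (tt N11578 (iv D18650)) (tt N12757 D19215) (tt N11580 F73096) (tt N12581 (iv F74564)))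
theorem Q12194 : ∀ i, i < 12194 → P i := stepQ 12193 Q12193 (allL N12193 (tt N11813 F73097) (tt N11704 F73098) (tt N11580 F73099) (tt N12598 (iv F74629)) (tt N12527 (iv F74275)) (tt N11579 (iv D18651)) (tt N12758 D19216) (tt N12756 (iv F75257)) (tt N11753 F73100))
theorem Q12195 : ∀ i, i < 12195 → P i := stepQ 12194 Q12194 (allL N12194 (tt N11814 F73101) (tt N11588 F73102) (tt N12758 (iv F75264)) (tt N11583 F73103) (tt N12528 (iv F74280)) (tt N11607 F73104) (tt N11580 (iv D18652)) (tt N12757 (iv F75261)) (tt N11768 F73105))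
theorem Q12196 : ∀ i, i < 12196 → P i := stepQ 12195 Q12195 (allL N12195 (tt N11815 F73106) (tt N11831 F73107) (tt N12598 (iv F74628)) (tt N11582 F73108) (tt N11834 F73109) (tt N11581 (iv D18653)) (tt N12759 D19217) (tt N12760 D19218) (tt N12640 (iv F74814)))
theorem Q12197 : ∀ i, i < 12197 → P i := stepQ 12196 Q12196 (allL N12196 (tt N11816 F73110) (tt N11821 F73111) (tt N12594 (iv F74613)) (tt N12112 F73112) (tt N11626 F73113) (tt N12760 (iv F75276)) (tt N11609 F73114) (tt N11581 (iv D18654)) (tt N12761 D19219))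
theorem Q12198 : ∀ i, i < 12198 → P i := stepQ 12197 Q12197 (allL N12197 (tt N11817 F73115) (tt N12712 (iv F75082)) (tt N11583 F73116) (tt N12759 (iv F75269)) (tt N12713 (iv F75091)) (tt N11610 F73117) (tt N11582 (iv D18655)) (tt N12208 (iv F73163)) (tt N12744 (iv F75207)))
theorem Q12199 : ∀ i, i < 12199 → P i := stepQ 12198 Q12198 (allL N12198 (tt N11719 F73118) (tt N12526 (iv F74266)) (tt N11710 F73119) (tt N12602 (iv F74650)) (tt N11586 F73120) (tt N11584 (iv D18656)) (tt N12762 D19220) (tt N11587 F73121) (tt N12578 (iv F74548)))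
theorem Q12200 : ∀ i, i < 12200 → P i := stepQ 12199 Q12199 (allL N12199 (tt N11720 F73122) (tt N12581 (iv F74561)) (tt N11711 F73123) (tt N12339 (iv F73624)) (tt N12578 (iv F74546)) (tt N11585 (iv D18657)) (tt N12763 D19221) (tt N11761 F73124) (tt N11586 F73125))
theorem Q12201 : ∀ i, i < 12201 → P i := stepQ 12200 Q12200 (allL N12200 (tt N11721 F73126) (tt N12757 (iv F75259)) (tt N11712 F73127) (tt N12342 (iv F73635)) (tt N12762 (iv F75284)) (tt N11620 F73128) (tt N11586 (iv D18658)) (tt N11588 F73129) (tt N12763 (iv F75290)))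
theorem Q12202 : ∀ i, i < 12202 → P i := stepQ 12201 Q12201 (allL N12201 (tt N11723 F73130) (tt N12528 (iv F74278)) (tt N11714 F73131) (tt N12524 (iv F74255)) (tt N11588 F73132) (tt N12532 (iv F74307)) (tt N11587 (iv D18659)) (tt N12762 (iv F75285)) (tt N11767 F73133))
theorem Q12203 : ∀ i, i < 12203 → P i := stepQ 12202 Q12202 (allL N12202 (tt N11600 F73134) (tt N12711 (iv F75075)) (tt N11589 (iv D18660)) (tt N12202 F73135) (tt N12764 D19222) (tt N12028 F73136) (tt N11806 F73137) (tt N11887 F73138) (tt N11590 F73139))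
theorem Q12204 : ∀ i, i < 12204 → P i := stepQ 12203 Q12203 (allL N12203 (tt N11601 F73140) (tt N11729 F73141) (tt N12764 (iv F75292)) (tt N11999 F73142) (tt N11589 (iv D18661)) (tt N12765 D19223) (tt N11807 F73143) (tt N12274 (iv F73409)) (tt N11591 F73144))
theorem Q12205 : ∀ i, i < 12205 → P i := stepQ 12204 Q12204 (allL N12204 (tt N11602 F73145) (tt N12683 (iv F74984)) (tt N11591 F73146) (tt N12766 D19224) (tt N11590 (iv D18662)) (tt N12767 D19225) (tt N11809 F73147) (tt N11592 F73148) (tt N12764 (iv F75295)))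
theorem Q12206 : ∀ i, i < 12206 → P i := stepQ 12205 Q12205 (allL N12205 (tt N11603 F73149) (tt N11732 F73150) (tt N12767 (iv F75306)) (tt N12192 F73151) (tt N12609 (iv F74681)) (tt N11591 (iv D18663)) (tt N12768 D19226) (tt N11593 F73152) (tt N12765 (iv F75300)))
theorem Q12207 : ∀ i, i < 12207 → P i := stepQ 12206 Q12206 (allL N12206 (tt N11606 F73153) (tt N12682 (iv F74978)) (tt N11593 F73154) (tt N12630 (iv F74761)) (tt N12533 (iv F74313)) (tt N11592 (iv D18664)) (tt N12769 D19227) (tt N12767 (iv F75307)) (tt N11903 F73155))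
theorem Q12208 : ∀ i, i < 12208 → P i := stepQ 12207 Q12207 (allL N12207 (tt N11607 F73156) (tt N11737 F73157) (tt N12769 (iv F75314)) (tt N11595 F73158) (tt N12627 (iv F74746)) (tt N11814 F73159) (tt N11593 (iv D18665)) (tt N12768 (iv F75312)) (tt N12650 (iv F74858)))
theorem Q12209 : ∀ i, i < 12209 → P i := stepQ 12208 Q12208 (allL N12208 (tt N11610 F73160) (tt N12552 (iv F74404)) (tt N11595 F73161) (tt N12705 (iv F75051)) (tt N12556 (iv F74433)) (tt N11817 F73162) (tt N11594 (iv D18666)) (tt N12197 F73163) (tt N12745 (iv F75211)))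
theorem Q12210 : ∀ i, i < 12210 → P i := stepQ 12209 Q12209 (allL N12209 (tt N12031 F73164) (tt N12078 F73165) (tt N11596 (iv D18667)) (tt N12209 F73166) (tt N12770 D19228) (tt N11944 F73167) (tt N12211 (iv F73179)) (tt N11905 F73168) (tt N11942 F73169))
theorem Q12211 : ∀ i, i < 12211 → P i := stepQ 12210 Q12210 (allL N12210 (tt N12032 F73170) (tt N11611 F73171) (tt N12770 (iv F75319)) (tt N11599 F73172) (tt N11596 (iv D18668)) (tt N12771 D19229) (tt N12212 (iv F73185)) (tt N11975 F73173) (tt N11943 F73174))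
theorem Q12212 : ∀ i, i < 12212 → P i := stepQ 12211 Q12211 (allL N12211 (tt N12028 F73175) (tt N11864 F73176) (tt N11597 (iv D18669)) (tt N12211 F73177) (tt N12772 D19230) (tt N11600 F73178) (tt N12209 F73179) (tt N11880 F73180) (tt N11598 F73181))
theorem Q12213 : ∀ i, i < 12213 → P i := stepQ 12212 Q12212 (allL N12212 (tt N12029 F73182) (tt N11613 F73183) (tt N12772 (iv F75330)) (tt N11943 F73184) (tt N11597 (iv D18670)) (tt N12773 D19231) (tt N12210 F73185) (tt N12181 F73186) (tt N11599 F73187))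
theorem Q12214 : ∀ i, i < 12214 → P i := stepQ 12213 Q12213 (allL N12213 (tt N12534 (iv F74315)) (tt N11866 F73188) (tt N11599 F73189) (tt N12774 D19232) (tt N11598 (iv D18671)) (tt N12775 D19233) (tt N12536 (iv F74327)) (tt N11604 F73190) (tt N12772 (iv F75333)))
theorem Q12215 : ∀ i, i < 12215 → P i := stepQ 12214 Q12214 (allL N12214 (tt N12609 (iv F74679)) (tt N11615 F73191) (tt N12775 (iv F75343)) (tt N12771 (iv F75324)) (tt N11603 F73192) (tt N11599 (iv D18672)) (tt N12776 D19234) (tt N11605 F73193) (tt N12773 (iv F75339)))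
theorem Q12216 : ∀ i, i < 12216 → P i := stepQ 12215 Q12215 (allL N12215 (tt N12764 (iv F75291)) (tt N11868 F73194) (tt N11601 F73195) (tt N12777 D19235) (tt N11600 (iv D18673)) (tt N12778 D19236) (tt N12580 (iv F74557)) (tt N11888 F73196) (tt N11602 F73197))
theorem Q12217 : ∀ i, i < 12217 → P i := stepQ 12216 Q12216 (allL N12216 (tt N12765 (iv F75296)) (tt N11617 F73198) (tt N12778 (iv F75353)) (tt N12406 (iv F73844)) (tt N12773 (iv F75337)) (tt N11601 (iv D18674)) (tt N12779 D19237) (tt N12586 (iv F74579)) (tt N11603 F73199))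
theorem Q12218 : ∀ i, i < 12218 → P i := stepQ 12217 Q12217 (allL N12217 (tt N12766 (iv F75301)) (tt N11870 F73200) (tt N12408 (iv F73849)) (tt N11602 (iv D18675)) (tt N12217 F73201) (tt N12780 D19238) (tt N12755 (iv F75253)) (tt N12623 (iv F74735)) (tt N12777 (iv F75351)))
theorem Q12219 : ∀ i, i < 12219 → P i := stepQ 12218 Q12218 (allL N12218 (tt N12767 (iv F75305)) (tt N11871 F73202) (tt N11603 F73203) (tt N12780 (iv F75359)) (tt N12775 (iv F75344)) (tt N11602 (iv D18676)) (tt N12781 D19239) (tt N11606 F73204) (tt N12778 (iv F75355)))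
theorem Q12220 : ∀ i, i < 12220 → P i := stepQ 12219 Q12219 (allL N12219 (tt N12768 (iv F75308)) (tt N11620 F73205) (tt N12781 (iv F75361)) (tt N12410 (iv F73854)) (tt N12776 (iv F75347)) (tt N12757 (iv F75260)) (tt N11603 (iv D18677)) (tt N11607 F73206) (tt N12779 (iv F75357)))
theorem Q12221 : ∀ i, i < 12221 → P i := stepQ 12220 Q12220 (allL N12220 (tt N12533 (iv F74309)) (tt N11873 F73207) (tt N11605 F73208) (tt N12529 (iv F74286)) (tt N11606 F73209) (tt N11604 (iv D18678)) (tt N12782 D19240) (tt N12775 (iv F75345)) (tt N11899 F73210))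
theorem Q12222 : ∀ i, i < 12222 → P i := stepQ 12221 Q12221 (allL N12221 (tt N12627 (iv F74743)) (tt N11623 F73211) (tt N12782 (iv F75364)) (tt N12559 (iv F74447)) (tt N11607 F73212) (tt N12545 (iv F74366)) (tt N11605 (iv D18679)) (tt N12776 (iv F75348)) (tt N12570 (iv F74501)))
theorem Q12223 : ∀ i, i < 12223 → P i := stepQ 12222 Q12222 (allL N12222 (tt N12769 (iv F75313)) (tt N11875 F73213) (tt N11607 F73214) (tt N12631 (iv F74766)) (tt N12782 (iv F75365)) (tt N12758 (iv F75265)) (tt N11606 (iv D18680)) (tt N12781 (iv F75362)) (tt N11904 F73215))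
theorem Q12224 : ∀ i, i < 12224 → P i := stepQ 12223 Q12223 (allL N12223 (tt N12705 (iv F75049)) (tt N12606 (iv F74669)) (tt N12631 (iv F74765)) (tt N11610 F73216) (tt N12706 (iv F75056)) (tt N12759 (iv F75271)) (tt N11608 (iv D18681)) (tt N12783 D19241) (tt N12685 (iv F74993)))
theorem Q12225 : ∀ i, i < 12225 → P i := stepQ 12224 Q12224 (allL N12224 (tt N12691 (iv F75007)) (tt N12603 (iv F74654)) (tt N12624 (iv F74737)) (tt N12417 (iv F73867)) (tt N12700 (iv F75037)) (tt N11609 F73217) (tt N12783 (iv F75367)) (tt N11608 (iv D18682)) (tt N12784 D19242))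
theorem Q12226 : ∀ i, i < 12226 → P i := stepQ 12225 Q12225 (allL N12225 (tt N12688 (iv F74998)) (tt N12601 (iv F74642)) (tt N12618 (iv F74718)) (tt N12418 (iv F73870)) (tt N11627 F73218) (tt N12784 (iv F75368)) (tt N12761 (iv F75281)) (tt N12672 (iv F74948)) (tt N11609 (iv D18683)))
theorem Q12227 : ∀ i, i < 12227 → P i := stepQ 12226 Q12226 (allL N12226 (tt N11756 F73219) (tt N12771 (iv F75323)) (tt N12252 (iv F73317)) (tt N11615 F73220) (tt N12419 (iv F73875)) (tt N11611 (iv D18684)) (tt N12785 D19243) (tt N12474 (iv F74057)) (tt N12227 (iv F73223)))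
theorem Q12228 : ∀ i, i < 12228 → P i := stepQ 12227 Q12227 (allL N12227 (tt N11757 F73221) (tt N12537 (iv F74330)) (tt N12554 (iv F74417)) (tt N12228 (iv F73225)) (tt N12531 (iv F74299)) (tt N11612 (iv D18685)) (tt N12786 D19244) (tt N11621 F73222) (tt N12226 F73223))
theorem Q12229 : ∀ i, i < 12229 → P i := stepQ 12228 Q12228 (allL N12228 (tt N11758 F73224) (tt N12773 (iv F75335)) (tt N12576 (iv F74533)) (tt N12227 F73225) (tt N11617 F73226) (tt N11613 (iv D18686)) (tt N12787 D19245) (tt N12748 (iv F75225)) (tt N11615 F73227))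
theorem Q12230 : ∀ i, i < 12230 → P i := stepQ 12229 Q12229 (allL N12229 (tt N11759 F73228) (tt N11867 F73229) (tt N11615 F73230) (tt N12144 F73231) (tt N11619 F73232) (tt N11614 (iv D18687)) (tt N12788 D19246) (tt N11622 F73233) (tt N12576 (iv F74537)))
theorem Q12231 : ∀ i, i < 12231 → P i := stepQ 12230 Q12230 (allL N12230 (tt N11760 F73234) (tt N12776 (iv F75346)) (tt N12788 (iv F75382)) (tt N12785 (iv F75370)) (tt N11620 F73235) (tt N12786 (iv F75372)) (tt N11615 (iv D18688)) (tt N11623 F73236) (tt N12787 (iv F75379)))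
theorem Q12232 : ∀ i, i < 12232 → P i := stepQ 12231 Q12231 (allL N12231 (tt N11662 F73237) (tt N11847 F73238) (tt N12426 (iv F73899)) (tt N11616 (iv D18689)) (tt N11625 F73239) (tt N12789 D19247) (tt N11672 F73240) (tt N12265 (iv F73376)) (tt N11618 F73241))
theorem Q12233 : ∀ i, i < 12233 → P i := stepQ 12232 Q12232 (allL N12232 (tt N11761 F73242) (tt N11869 F73243) (tt N11617 F73244) (tt N12789 (iv F75388)) (tt N12576 (iv F74535)) (tt N11616 (iv D18690)) (tt N12790 D19248) (tt N11720 F73245) (tt N11619 F73246))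
theorem Q12234 : ∀ i, i < 12234 → P i := stepQ 12233 Q12233 (allL N12233 (tt N11762 F73247) (tt N12779 (iv F75356)) (tt N12790 (iv F75393)) (tt N12428 (iv F73907)) (tt N12787 (iv F75377)) (tt N12763 (iv F75288)) (tt N11617 (iv D18691)) (tt N12750 (iv F75234)) (tt N11620 F73248))
theorem Q12235 : ∀ i, i < 12235 → P i := stepQ 12234 Q12234 (allL N12234 (tt N11764 F73249) (tt N11850 F73250) (tt N12432 (iv F73919)) (tt N11619 F73251) (tt N12147 F73252) (tt N11618 (iv D18692)) (tt N12791 D19249) (tt N11652 F73253) (tt N12789 (iv F75390)))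
theorem Q12236 : ∀ i, i < 12236 → P i := stepQ 12235 Q12235 (allL N12235 (tt N11765 F73254) (tt N11872 F73255) (tt N11620 F73256) (tt N12791 (iv F75399)) (tt N12788 (iv F75384)) (tt N11712 F73257) (tt N11619 (iv D18693)) (tt N11624 F73258) (tt N12790 (iv F75396)))
theorem Q12237 : ∀ i, i < 12237 → P i := stepQ 12236 Q12236 (allL N12236 (tt N11766 F73259) (tt N12545 (iv F74363)) (tt N12555 (iv F74424)) (tt N12570 (iv F74498)) (tt N12532 (iv F74306)) (tt N11623 F73260) (tt N11621 (iv D18694)) (tt N12786 (iv F75373)) (tt N12559 (iv F74450)))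
theorem Q12238 : ∀ i, i < 12238 → P i := stepQ 12237 Q12237 (allL N12237 (tt N11767 F73261) (tt N11874 F73262) (tt N11623 F73263) (tt N12551 (iv F74399)) (tt N11624 F73264) (tt N12555 (iv F74427)) (tt N11622 (iv D18695)) (tt N12788 (iv F75385)) (tt N11723 F73265))
theorem Q12239 : ∀ i, i < 12239 → P i := stepQ 12238 Q12238 (allL N12238 (tt N11843 F73266) (tt N11819 F73267) (tt N12511 (iv F74181)) (tt N11628 F73268) (tt N12761 (iv F75280)) (tt N11823 F73269) (tt N11627 F73270) (tt N12505 (iv F74158)) (tt N11626 (iv D18696)))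
theorem Q12240 : ∀ i, i < 12240 → P i := stepQ 12239 Q12239 (allL N12239 (tt N12714 (iv F75094)) (tt N11632 F73271) (tt N12575 (iv F74526)) (tt N12367 (iv F73721)) (tt N11653 F73272) (tt N12574 (iv F74522)) (tt N11629 (iv D18697)) (tt N11633 F73273) (tt N11997 F73274))
theorem Q12241 : ∀ i, i < 12241 → P i := stepQ 12240 Q12240 (allL N12240 (tt N12068 F73275) (tt N12351 (iv F73664)) (tt N11631 F73276) (tt N11683 F73277) (tt N12357 (iv F73689)) (tt N11630 (iv D18698)) (tt N12792 D19250) (tt N11961 F73278) (tt N12008 F73279))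
theorem Q12242 : ∀ i, i < 12242 → P i := stepQ 12241 Q12241 (allL N12241 (tt N12069 F73280) (tt N12367 (iv F73719)) (tt N12792 (iv F75404)) (tt N11632 F73281) (tt N12369 (iv F73727)) (tt N11982 F73282) (tt N11631 (iv D18699)) (tt N11962 F73283) (tt N12009 F73284))
theorem Q12243 : ∀ i, i < 12243 → P i := stepQ 12242 Q12242 (allL N12242 (tt N12244 (iv F73292)) (tt N12461 (iv F74019)) (tt N11635 F73285) (tt N12793 D19251) (tt N11634 (iv D18700)) (tt N12794 D19252) (tt N12503 (iv F74144)) (tt N11640 F73286) (tt N12187 F73287))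
theorem Q12244 : ∀ i, i < 12244 → P i := stepQ 12243 Q12243 (allL N12243 (tt N12245 (iv F73298)) (tt N11646 F73288) (tt N12794 (iv F75411)) (tt N12657 (iv F74890)) (tt N11639 F73289) (tt N11635 (iv D18701)) (tt N12795 D19253) (tt N11641 F73290) (tt N12188 F73291))
theorem Q12245 : ∀ i, i < 12245 → P i := stepQ 12244 Q12244 (allL N12244 (tt N12242 F73292) (tt N12151 F73293) (tt N11637 F73294) (tt N12796 D19254) (tt N11636 (iv D18702)) (tt N12797 D19255) (tt N11914 F73295) (tt N11928 F73296) (tt N11638 F73297))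
theorem Q12246 : ∀ i, i < 12246 → P i := stepQ 12245 Q12245 (allL N12245 (tt N12243 F73298) (tt N11647 F73299) (tt N12797 (iv F75428)) (tt N12095 F73300) (tt N12188 F73301) (tt N11637 (iv D18703)) (tt N12798 D19256) (tt N11929 F73302) (tt N11639 F73303))
theorem Q12247 : ∀ i, i < 12247 → P i := stepQ 12246 Q12246 (allL N12246 (tt N12751 (iv F75236)) (tt N12715 (iv F75100)) (tt N12097 F73304) (tt N11638 (iv D18704)) (tt N12246 F73305) (tt N12799 D19257) (tt N12632 (iv F74770)) (tt N12637 (iv F74798)) (tt N12796 (iv F75425)))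
theorem Q12248 : ∀ i, i < 12248 → P i := stepQ 12247 Q12247 (allL N12247 (tt N12752 (iv F75240)) (tt N12716 (iv F75104)) (tt N11639 F73306) (tt N12799 (iv F75440)) (tt N12794 (iv F75412)) (tt N11638 (iv D18705)) (tt N12800 D19258) (tt N11642 F73307) (tt N12797 (iv F75431)))
theorem Q12249 : ∀ i, i < 12249 → P i := stepQ 12248 Q12248 (allL N12248 (tt N12753 (iv F75243)) (tt N11648 F73308) (tt N12800 (iv F75441)) (tt N12099 F73309) (tt N12795 (iv F75416)) (tt N12634 (iv F74780)) (tt N11639 (iv D18706)) (tt N11643 F73310) (tt N12798 (iv F75438)))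
theorem Q12250 : ∀ i, i < 12250 → P i := stepQ 12249 Q12249 (allL N12249 (tt N12523 (iv F74247)) (tt N12549 (iv F74386)) (tt N11641 F73311) (tt N12544 (iv F74359)) (tt N11642 F73312) (tt N11640 (iv D18707)) (tt N12801 D19259) (tt N12794 (iv F75413)) (tt N12499 F74131))
theorem Q12251 : ∀ i, i < 12251 → P i := stepQ 12250 Q12250 (allL N12250 (tt N12524 (iv F74253)) (tt N11649 F73313) (tt N12801 (iv F75443)) (tt N11723 F73314) (tt N11643 F73315) (tt N12530 (iv F74293)) (tt N11641 (iv D18708)) (tt N12795 (iv F75417)) (tt N12551 (iv F74403)))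
theorem Q12252 : ∀ i, i < 12252 → P i := stepQ 12251 Q12251 (allL N12251 (tt N12754 (iv F75246)) (tt N12744 (iv F75204)) (tt N11643 F73316) (tt N12641 (iv F74817)) (tt N12801 (iv F75444)) (tt N12635 (iv F74787)) (tt N11642 (iv D18709)) (tt N12800 (iv F75442)) (tt N12712 (iv F75087)))
theorem Q12253 : ∀ i, i < 12253 → P i := stepQ 12252 Q12252 (allL N12252 (tt N12363 (iv F73706)) (tt N12657 (iv F74889)) (tt N12226 F73317) (tt N11646 F73318) (tt N12107 F73319) (tt N11644 (iv D18710)) (tt N12802 D19260) (tt N11877 F73320) (tt N12554 (iv F74421)))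
theorem Q12254 : ∀ i, i < 12254 → P i := stepQ 12253 Q12253 (allL N12253 (tt N11990 F73321) (tt N12188 F73322) (tt N11994 F73323) (tt N12554 (iv F74418)) (tt N11647 F73324) (tt N11645 (iv D18711)) (tt N12803 D19261) (tt N11927 F73325) (tt N11646 F73326))
theorem Q12255 : ∀ i, i < 12255 → P i := stepQ 12254 Q12254 (allL N12254 (tt N12575 (iv F74524)) (tt N12795 (iv F75415)) (tt N12714 (iv F75095)) (tt N12802 (iv F75446)) (tt N11648 F73327) (tt N12577 (iv F74540)) (tt N11646 (iv D18712)) (tt N11649 F73328) (tt N12803 (iv F75455)))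
theorem Q12256 : ∀ i, i < 12256 → P i := stepQ 12255 Q12255 (allL N12255 (tt N11992 F73329) (tt N12798 (iv F75433)) (tt N12262 (iv F73358)) (tt N12119 F73330) (tt N12803 (iv F75452)) (tt N11923 F73331) (tt N11647 (iv D18713)) (tt N11934 F73332) (tt N11648 F73333))
theorem Q12257 : ∀ i, i < 12257 → P i := stepQ 12256 Q12256 (allL N12256 (tt N11650 (iv D18714)) (tt N12134 F73334) (tt N11856 F73335) (tt N11654 F73336) (tt N12804 D19262) (tt N11909 F73337) (tt N11681 F73338) (tt N12438 (iv F73945)) (tt N12270 (iv F73395)))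
theorem Q12258 : ∀ i, i < 12258 → P i := stepQ 12257 Q12257 (allL N12257 (tt N12804 (iv F75456)) (tt N11651 F73339) (tt N11857 F73340) (tt N11980 F73341) (tt N11650 (iv D18715)) (tt N12805 D19263) (tt N11682 F73342) (tt N12430 (iv F73915)) (tt N12271 (iv F73399)))
theorem Q12259 : ∀ i, i < 12259 → P i := stepQ 12258 Q12258 (allL N12258 (tt N12123 F73343) (tt N12805 (iv F75461)) (tt N11652 F73344) (tt N11981 F73345) (tt N11895 F73346) (tt N11651 (iv D18716)) (tt N12806 D19264) (tt N12432 (iv F73922)) (tt N12272 (iv F73401)))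
theorem Q12260 : ∀ i, i < 12260 → P i := stepQ 12259 Q12259 (allL N12259 (tt N12718 (iv F75111)) (tt N11859 F73347) (tt N12806 (iv F75466)) (tt N11653 F73348) (tt N12370 (iv F73730)) (tt N11684 F73349) (tt N11652 (iv D18717)) (tt N12791 (iv F75402)) (tt N12273 (iv F73405)))
theorem Q12261 : ∀ i, i < 12261 → P i := stepQ 12260 Q12260 (allL N12260 (tt N11661 F73350) (tt N12276 (iv F73418)) (tt N12697 (iv F75027)) (tt N11689 F73351) (tt N11655 (iv D18718)) (tt N12807 D19265) (tt N11785 F73352) (tt N11656 F73353) (tt N12263 (iv F73365)))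
theorem Q12262 : ∀ i, i < 12262 → P i := stepQ 12261 Q12261 (allL N12261 (tt N11665 F73354) (tt N12720 (iv F75121)) (tt N12696 (iv F75023)) (tt N11657 F73355) (tt N12789 (iv F75389)) (tt N11656 (iv D18719)) (tt N12808 D19266) (tt N12807 (iv F75472)) (tt N12147 F73356))
theorem Q12263 : ∀ i, i < 12263 → P i := stepQ 12262 Q12262 (allL N12262 (tt N11666 F73357) (tt N12723 (iv F75134)) (tt N12255 F73358) (tt N12808 (iv F75474)) (tt N12577 (iv F74539)) (tt N11791 F73359) (tt N11657 (iv D18720)) (tt N11693 F73360) (tt N12148 F73361))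
theorem Q12264 : ∀ i, i < 12264 → P i := stepQ 12263 Q12263 (allL N12263 (tt N12265 (iv F73372)) (tt N11670 F73362) (tt N12489 (iv F74106)) (tt N12298 (iv F73475)) (tt N11658 (iv D18721)) (tt N12809 D19267) (tt N12154 F73363) (tt N11662 F73364) (tt N12260 F73365))
theorem Q12265 : ∀ i, i < 12265 → P i := stepQ 12264 Q12264 (allL N12264 (tt N11908 F73366) (tt N12810 D19268) (tt N11659 (iv D18722)) (tt N12264 F73367) (tt N12811 D19269) (tt N12133 F73368) (tt N11846 F73369) (tt N11838 F73370) (tt N11660 F73371))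
theorem Q12266 : ∀ i, i < 12266 → P i := stepQ 12265 Q12265 (allL N12265 (tt N12263 F73372) (tt N11672 F73373) (tt N12811 (iv F75488)) (tt N11699 F73374) (tt N11659 (iv D18723)) (tt N12812 D19270) (tt N11847 F73375) (tt N12231 F73376) (tt N11661 F73377))
theorem Q12267 : ∀ i, i < 12267 → P i := stepQ 12266 Q12266 (allL N12266 (tt N12813 D19271) (tt N11660 (iv D18724)) (tt N11673 F73378) (tt N12266 F73379) (tt N12814 D19272) (tt N12502 (iv F74140)) (tt N11848 F73380) (tt N11663 F73381) (tt N12810 (iv F75486)))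
theorem Q12268 : ∀ i, i < 12268 → P i := stepQ 12267 Q12267 (allL N12267 (tt N12697 (iv F75026)) (tt N12814 (iv F75502)) (tt N11661 F73382) (tt N12815 D19273) (tt N11660 (iv D18725)) (tt N12816 D19274) (tt N11849 F73383) (tt N11664 F73384) (tt N12811 (iv F75491)))
theorem Q12269 : ∀ i, i < 12269 → P i := stepQ 12268 Q12268 (allL N12268 (tt N12807 (iv F75470)) (tt N11675 F73385) (tt N12816 (iv F75509)) (tt N11701 F73386) (tt N12809 (iv F75478)) (tt N11661 (iv D18726)) (tt N12817 D19275) (tt N11665 F73387) (tt N12812 (iv F75497)))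
theorem Q12270 : ∀ i, i < 12270 → P i := stepQ 12269 Q12269 (allL N12269 (tt N12789 (iv F75386)) (tt N11680 F73388) (tt N12488 (iv F74102)) (tt N11761 F73389) (tt N11665 F73390) (tt N11662 (iv D18727)) (tt N12818 D19276) (tt N12809 (iv F75479)) (tt N11764 F73391))
theorem Q12271 : ∀ i, i < 12271 → P i := stepQ 12270 Q12270 (allL N12270 (tt N11663 (iv D18728)) (tt N12707 (iv F75058)) (tt N11681 F73392) (tt N11769 F73393) (tt N12819 D19277) (tt N12501 (iv F74135)) (tt N11856 F73394) (tt N12813 (iv F75501)) (tt N12256 F73395))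
theorem Q12272 : ∀ i, i < 12272 → P i := stepQ 12271 Q12271 (allL N12271 (tt N12819 (iv F75519)) (tt N11664 F73396) (tt N11682 F73397) (tt N12347 (iv F73650)) (tt N11663 (iv D18729)) (tt N12820 D19278) (tt N11857 F73398) (tt N12814 (iv F75505)) (tt N12257 F73399))
theorem Q12273 : ∀ i, i < 12273 → P i := stepQ 12272 Q12272 (allL N12272 (tt N12696 (iv F75022)) (tt N12820 (iv F75523)) (tt N11665 F73400) (tt N12565 (iv F74477)) (tt N12488 (iv F74104)) (tt N11664 (iv D18730)) (tt N12821 D19279) (tt N12816 (iv F75510)) (tt N12258 F73401))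
theorem Q12274 : ∀ i, i < 12274 → P i := stepQ 12273 Q12273 (allL N12273 (tt N12808 (iv F75473)) (tt N11684 F73402) (tt N12821 (iv F75526)) (tt N11666 F73403) (tt N12818 (iv F75517)) (tt N11859 F73404) (tt N11665 (iv D18731)) (tt N12817 (iv F75514)) (tt N12259 F73405))
theorem Q12275 : ∀ i, i < 12275 → P i := stepQ 12274 Q12274 (allL N12274 (tt N12003 F73406) (tt N12298 (iv F73474)) (tt N12485 (iv F74094)) (tt N11670 F73407) (tt N11667 (iv D18732)) (tt N12822 D19280) (tt N11919 F73408) (tt N12203 F73409) (tt N12062 F73410))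
theorem Q12276 : ∀ i, i < 12276 → P i := stepQ 12275 Q12275 (allL N12275 (tt N11851 F73411) (tt N12823 D19281) (tt N11668 (iv D18733)) (tt N11776 F73412) (tt N12824 D19282) (tt N11671 F73413) (tt N11786 F73414) (tt N12149 F73415) (tt N11669 F73416))
theorem Q12277 : ∀ i, i < 12277 → P i := stepQ 12276 Q12276 (allL N12276 (tt N11852 F73417) (tt N12260 F73418) (tt N12824 (iv F75541)) (tt N12062 F73419) (tt N11668 (iv D18734)) (tt N12825 D19283) (tt N11787 F73420) (tt N12150 F73421) (tt N11670 F73422))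
theorem Q12278 : ∀ i, i < 12278 → P i := stepQ 12277 Q12277 (allL N12277 (tt N12743 (iv F75198)) (tt N11669 (iv D18735)) (tt N12502 (iv F74138)) (tt N11777 F73423) (tt N12826 D19284) (tt N11673 F73424) (tt N12163 F73425) (tt N11678 F73426) (tt N12823 (iv F75539)))
theorem Q12279 : ∀ i, i < 12279 → P i := stepQ 12278 Q12278 (allL N12278 (tt N12287 (iv F73447)) (tt N12826 (iv F75551)) (tt N11670 F73427) (tt N12827 D19285) (tt N11669 (iv D18736)) (tt N12828 D19286) (tt N12164 F73428) (tt N11679 F73429) (tt N12824 (iv F75544)))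
theorem Q12280 : ∀ i, i < 12280 → P i := stepQ 12279 Q12279 (allL N12279 (tt N12288 (iv F73451)) (tt N12809 (iv F75477)) (tt N12828 (iv F75557)) (tt N12822 (iv F75530)) (tt N11675 F73430) (tt N11670 (iv D18737)) (tt N12829 D19287) (tt N11680 F73431) (tt N12825 (iv F75550)))
theorem Q12281 : ∀ i, i < 12281 → P i := stepQ 12280 Q12280 (allL N12280 (tt N12830 D19288) (tt N11671 (iv D18738)) (tt N12810 (iv F75481)) (tt N11778 F73432) (tt N12831 D19289) (tt N12823 (iv F75536)) (tt N12437 (iv F73939)) (tt N12443 (iv F73963)) (tt N11673 F73433))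
theorem Q12282 : ∀ i, i < 12282 → P i := stepQ 12281 Q12281 (allL N12281 (tt N12353 (iv F73672)) (tt N12831 (iv F75566)) (tt N11672 F73434) (tt N12338 (iv F73620)) (tt N11671 (iv D18739)) (tt N12832 D19290) (tt N12426 (iv F73901)) (tt N12444 (iv F73966)) (tt N11674 F73435))
theorem Q12283 : ∀ i, i < 12283 → P i := stepQ 12282 Q12282 (allL N12282 (tt N12733 (iv F75164)) (tt N12812 (iv F75493)) (tt N12832 (iv F75568)) (tt N11711 F73436) (tt N12825 (iv F75548)) (tt N11672 (iv D18740)) (tt N12833 D19291) (tt N12445 (iv F73969)) (tt N11675 F73437))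
theorem Q12284 : ∀ i, i < 12284 → P i := stepQ 12283 Q12283 (allL N12283 (tt N11673 (iv D18741)) (tt N12130 F73438) (tt N12813 (iv F75498)) (tt N11779 F73439) (tt N12834 D19292) (tt N12743 (iv F75200)) (tt N12438 (iv F73944)) (tt N11681 F73440) (tt N12830 (iv F75565)))
theorem Q12285 : ∀ i, i < 12285 → P i := stepQ 12284 Q12284 (allL N12284 (tt N12834 (iv F75572)) (tt N11674 F73441) (tt N12814 (iv F75503)) (tt N12340 (iv F73627)) (tt N11673 (iv D18742)) (tt N12835 D19293) (tt N12430 (iv F73914)) (tt N11682 F73442) (tt N12831 (iv F75567)))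
theorem Q12286 : ∀ i, i < 12286 → P i := stepQ 12285 Q12285 (allL N12285 (tt N12358 (iv F73691)) (tt N12835 (iv F75576)) (tt N11675 F73443) (tt N12341 (iv F73632)) (tt N12828 (iv F75558)) (tt N11674 (iv D18743)) (tt N12836 D19294) (tt N11683 F73444) (tt N12832 (iv F75569)))
theorem Q12287 : ∀ i, i < 12287 → P i := stepQ 12286 Q12286 (allL N12286 (tt N12734 (iv F75170)) (tt N12817 (iv F75511)) (tt N12836 (iv F75578)) (tt N11712 F73445) (tt N12829 (iv F75560)) (tt N12791 (iv F75401)) (tt N11675 (iv D18744)) (tt N11684 F73446) (tt N12833 (iv F75571)))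
theorem Q12288 : ∀ i, i < 12288 → P i := stepQ 12287 Q12287 (allL N12287 (tt N12278 F73447) (tt N12291 (iv F73459)) (tt N11677 F73448) (tt N12290 (iv F73458)) (tt N11676 (iv D18745)) (tt N12837 D19295) (tt N11679 F73449) (tt N12164 F73450) (tt N12451 (iv F73986)))
theorem Q12289 : ∀ i, i < 12289 → P i := stepQ 12288 Q12288 (allL N12288 (tt N12279 F73451) (tt N12733 (iv F75165)) (tt N12837 (iv F75581)) (tt N12586 (iv F74578)) (tt N12162 F73452) (tt N11677 (iv D18746)) (tt N12838 D19296) (tt N12165 F73453) (tt N12452 (iv F73990)))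
theorem Q12290 : ∀ i, i < 12290 → P i := stepQ 12289 Q12289 (allL N12289 (tt N11678 (iv D18747)) (tt N12735 (iv F75174)) (tt N12501 (iv F74134)) (tt N11685 F73454) (tt N12827 (iv F75555)) (tt N11681 F73455) (tt N12172 F73456) (tt N12743 (iv F75202)) (tt N12453 (iv F73995)))
theorem Q12291 : ∀ i, i < 12291 → P i := stepQ 12290 Q12290 (allL N12290 (tt N12827 (iv F75554)) (tt N11679 F73457) (tt N12486 (iv F74097)) (tt N12287 F73458) (tt N11678 (iv D18748)) (tt N12839 D19297) (tt N12291 (iv F73461)) (tt N12826 (iv F75553)) (tt N12454 (iv F73999)))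
theorem Q12292 : ∀ i, i < 12292 → P i := stepQ 12291 Q12291 (allL N12291 (tt N12737 (iv F75180)) (tt N12287 F73459) (tt N12587 (iv F74582)) (tt N11679 (iv D18749)) (tt N11686 F73460) (tt N12840 D19298) (tt N12290 F73461) (tt N12736 (iv F75179)) (tt N12455 (iv F74004)))
theorem Q12293 : ∀ i, i < 12293 → P i := stepQ 12292 Q12292 (allL N12292 (tt N12738 (iv F75182)) (tt N12839 (iv F75588)) (tt N11680 F73462) (tt N12840 (iv F75592)) (tt N11683 F73463) (tt N11679 (iv D18750)) (tt N12841 D19299) (tt N12828 (iv F75559)) (tt N12456 (iv F74007)))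
theorem Q12294 : ∀ i, i < 12294 → P i := stepQ 12293 Q12293 (allL N12293 (tt N12739 (iv F75185)) (tt N12818 (iv F75515)) (tt N12841 (iv F75593)) (tt N12589 (iv F74591)) (tt N11684 F73464) (tt N12838 (iv F75586)) (tt N11680 (iv D18751)) (tt N12829 (iv F75562)) (tt N12457 (iv F74011)))
theorem Q12295 : ∀ i, i < 12295 → P i := stepQ 12294 Q12294 (allL N12294 (tt N11682 F73465) (tt N12740 (iv F75188)) (tt N12819 (iv F75520)) (tt N12335 (iv F73610)) (tt N11681 (iv D18752)) (tt N12842 D19300) (tt N12804 (iv F75460)) (tt N12834 (iv F75575)) (tt N12458 (iv F74013)))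
theorem Q12296 : ∀ i, i < 12296 → P i := stepQ 12295 Q12295 (allL N12295 (tt N12842 (iv F75595)) (tt N11683 F73466) (tt N12820 (iv F75524)) (tt N12351 (iv F73666)) (tt N12839 (iv F75590)) (tt N11682 (iv D18753)) (tt N12843 D19301) (tt N12835 (iv F75577)) (tt N12459 (iv F74015)))
theorem Q12297 : ∀ i, i < 12297 → P i := stepQ 12296 Q12296 (allL N12296 (tt N12742 (iv F75194)) (tt N12843 (iv F75596)) (tt N11684 F73467) (tt N12792 (iv F75405)) (tt N12841 (iv F75594)) (tt N12806 (iv F75469)) (tt N11683 (iv D18754)) (tt N12836 (iv F75579)) (tt N12460 (iv F74017)))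
theorem Q12298 : ∀ i, i < 12298 → P i := stepQ 12297 Q12297 (allL N12297 (tt N11698 F73468) (tt N12844 D19302) (tt N11687 (iv D18755)) (tt N12297 F73469) (tt N12845 D19303) (tt N12305 (iv F73506)) (tt N11798 F73470) (tt N11728 F73471) (tt N11688 F73472))
theorem Q12299 : ∀ i, i < 12299 → P i := stepQ 12298 Q12298 (allL N12298 (tt N11699 F73473) (tt N12274 F73474) (tt N12845 (iv F75605)) (tt N12263 F73475) (tt N11687 (iv D18756)) (tt N12846 D19304) (tt N11799 F73476) (tt N11729 F73477) (tt N11689 F73478))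
theorem Q12300 : ∀ i, i < 12300 → P i := stepQ 12299 Q12299 (allL N12299 (tt N11808 F73479) (tt N11688 (iv D18757)) (tt N11826 F73480) (tt N12299 F73481) (tt N12847 D19305) (tt N11842 F73482) (tt N11800 F73483) (tt N11690 F73484) (tt N12844 (iv F75603)))
theorem Q12301 : ∀ i, i < 12301 → P i := stepQ 12300 Q12300 (allL N12300 (tt N11700 F73485) (tt N12847 (iv F75615)) (tt N11689 F73486) (tt N12848 D19306) (tt N11688 (iv D18758)) (tt N12849 D19307) (tt N11801 F73487) (tt N11691 F73488) (tt N12845 (iv F75608)))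
theorem Q12302 : ∀ i, i < 12302 → P i := stepQ 12301 Q12301 (allL N12301 (tt N11701 F73489) (tt N12642 (iv F74822)) (tt N12849 (iv F75623)) (tt N12807 (iv F75471)) (tt N12666 (iv F74929)) (tt N11689 (iv D18759)) (tt N12850 D19308) (tt N11692 F73490) (tt N12846 (iv F75613)))
theorem Q12303 : ∀ i, i < 12303 → P i := stepQ 12302 Q12302 (allL N12302 (tt N11811 F73491) (tt N11691 F73492) (tt N11833 F73493) (tt N11702 F73494) (tt N11690 (iv D18760)) (tt N12851 D19309) (tt N11803 F73495) (tt N12847 (iv F75618)) (tt N11735 F73496))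
theorem Q12304 : ∀ i, i < 12304 → P i := stepQ 12303 Q12303 (allL N12303 (tt N11704 F73497) (tt N12851 (iv F75629)) (tt N11692 F73498) (tt N12527 (iv F74274)) (tt N12680 (iv F74969)) (tt N11691 (iv D18761)) (tt N12852 D19310) (tt N12849 (iv F75624)) (tt N11736 F73499))
theorem Q12305 : ∀ i, i < 12305 → P i := stepQ 12304 Q12304 (allL N12304 (tt N11705 F73500) (tt N12650 (iv F74853)) (tt N12852 (iv F75635)) (tt N11693 F73501) (tt N12681 (iv F74974)) (tt N11805 F73502) (tt N11692 (iv D18762)) (tt N12850 (iv F75627)) (tt N11737 F73503))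
theorem Q12306 : ∀ i, i < 12306 → P i := stepQ 12305 Q12305 (allL N12305 (tt N12000 F73504) (tt N12440 (iv F73949)) (tt N11694 (iv D18763)) (tt N12305 F73505) (tt N12853 D19311) (tt N12297 F73506) (tt N12089 F73507) (tt N12006 F73508) (tt N12087 F73509))
theorem Q12307 : ∀ i, i < 12307 → P i := stepQ 12306 Q12306 (allL N12306 (tt N12307 (iv F73514)) (tt N11707 F73510) (tt N12853 (iv F75639)) (tt N11697 F73511) (tt N11694 (iv D18764)) (tt N12854 D19312) (tt N12090 F73512) (tt N12334 (iv F73606)) (tt N12088 F73513))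
theorem Q12308 : ∀ i, i < 12308 → P i := stepQ 12307 Q12307 (allL N12307 (tt N12306 F73514) (tt N11709 F73515) (tt N12582 (iv F74566)) (tt N12088 F73516) (tt N11695 (iv D18765)) (tt N12855 D19313) (tt N12086 F73517) (tt N11741 F73518) (tt N11697 F73519))
theorem Q12309 : ∀ i, i < 12309 → P i := stepQ 12308 Q12308 (allL N12308 (tt N12665 (iv F74922)) (tt N12525 (iv F74260)) (tt N11697 F73520) (tt N12856 D19314) (tt N11696 (iv D18766)) (tt N12857 D19315) (tt N12540 (iv F74346)) (tt N11702 F73521) (tt N12582 (iv F74568)))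
theorem Q12310 : ∀ i, i < 12310 → P i := stepQ 12309 Q12309 (allL N12309 (tt N12666 (iv F74927)) (tt N11710 F73522) (tt N12857 (iv F75654)) (tt N12854 (iv F75644)) (tt N11701 F73523) (tt N11697 (iv D18767)) (tt N12858 D19316) (tt N11703 F73524) (tt N12855 (iv F75652)))
theorem Q12311 : ∀ i, i < 12311 → P i := stepQ 12310 Q12310 (allL N12310 (tt N12845 (iv F75604)) (tt N12580 (iv F74555)) (tt N11699 F73525) (tt N12859 D19317) (tt N11698 (iv D18768)) (tt N12860 D19318) (tt N11868 F73526) (tt N11744 F73527) (tt N11700 F73528))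
theorem Q12312 : ∀ i, i < 12312 → P i := stepQ 12311 Q12311 (allL N12311 (tt N12846 (iv F75609)) (tt N11711 F73529) (tt N12860 (iv F75663)) (tt N12812 (iv F75494)) (tt N12855 (iv F75650)) (tt N11699 (iv D18769)) (tt N12861 D19319) (tt N11745 F73530) (tt N11701 F73531))
theorem Q12313 : ∀ i, i < 12313 → P i := stepQ 12312 Q12312 (allL N12312 (tt N12848 (iv F75619)) (tt N12755 (iv F75251)) (tt N12815 (iv F75506)) (tt N11700 (iv D18770)) (tt N12312 F73532) (tt N12862 D19320) (tt N11870 F73533) (tt N12595 (iv F74618)) (tt N12859 (iv F75662)))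
theorem Q12314 : ∀ i, i < 12314 → P i := stepQ 12313 Q12313 (allL N12313 (tt N12849 (iv F75622)) (tt N12756 (iv F75255)) (tt N11701 F73534) (tt N12862 (iv F75670)) (tt N12857 (iv F75655)) (tt N11700 (iv D18771)) (tt N12863 D19321) (tt N11704 F73535) (tt N12860 (iv F75665)))
theorem Q12315 : ∀ i, i < 12315 → P i := stepQ 12314 Q12314 (allL N12314 (tt N12850 (iv F75625)) (tt N11712 F73536) (tt N12863 (iv F75671)) (tt N12817 (iv F75512)) (tt N12858 (iv F75658)) (tt N11872 F73537) (tt N11701 (iv D18772)) (tt N11705 F73538) (tt N12861 (iv F75669)))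
theorem Q12316 : ∀ i, i < 12316 → P i := stepQ 12315 Q12315 (allL N12315 (tt N12680 (iv F74965)) (tt N12527 (iv F74272)) (tt N11703 F73539) (tt N12851 (iv F75631)) (tt N11704 F73540) (tt N11702 (iv D18773)) (tt N12864 D19322) (tt N12857 (iv F75656)) (tt N11751 F73541))
theorem Q12317 : ∀ i, i < 12317 → P i := stepQ 12316 Q12316 (allL N12316 (tt N12681 (iv F74971)) (tt N11714 F73542) (tt N12864 (iv F75674)) (tt N12605 (iv F74664)) (tt N11705 F73543) (tt N12661 (iv F74906)) (tt N11703 (iv D18774)) (tt N12858 (iv F75659)) (tt N11752 F73544))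
theorem Q12318 : ∀ i, i < 12318 → P i := stepQ 12317 Q12317 (allL N12317 (tt N12852 (iv F75634)) (tt N12758 (iv F75263)) (tt N11705 F73545) (tt N12599 (iv F74633)) (tt N12864 (iv F75675)) (tt N11875 F73546) (tt N11704 (iv D18775)) (tt N12863 (iv F75673)) (tt N11754 F73547))
theorem Q12319 : ∀ i, i < 12319 → P i := stepQ 12318 Q12318 (allL N12318 (tt N12478 (iv F74064)) (tt N12418 (iv F73869)) (tt N11707 F73548) (tt N12601 (iv F74644)) (tt N11706 (iv D18776)) (tt N12865 D19323) (tt N12110 F73549) (tt N12607 (iv F74675)) (tt N11972 F73550))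
theorem Q12320 : ∀ i, i < 12320 → P i := stepQ 12319 Q12319 (allL N12319 (tt N12747 (iv F75216)) (tt N12854 (iv F75643)) (tt N12865 (iv F75677)) (tt N11710 F73551) (tt N12822 (iv F75531)) (tt N11707 (iv D18777)) (tt N12866 D19324) (tt N12608 (iv F74678)) (tt N12108 F73552))
theorem Q12321 : ∀ i, i < 12321 → P i := stepQ 12320 Q12320 (allL N12320 (tt N12557 (iv F74434)) (tt N12655 (iv F74880)) (tt N12531 (iv F74297)) (tt N12111 F73553) (tt N12554 (iv F74419)) (tt N11708 (iv D18778)) (tt N12867 D19325) (tt N11713 F73554) (tt N12107 F73555))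
theorem Q12322 : ∀ i, i < 12322 → P i := stepQ 12321 Q12321 (allL N12321 (tt N12748 (iv F75220)) (tt N12855 (iv F75648)) (tt N12578 (iv F74544)) (tt N12108 F73556) (tt N11711 F73557) (tt N11709 (iv D18779)) (tt N12868 D19326) (tt N11758 F73558) (tt N11710 F73559))
theorem Q12323 : ∀ i, i < 12323 → P i := stepQ 12322 Q12322 (allL N12322 (tt N12749 (iv F75227)) (tt N12858 (iv F75657)) (tt N12762 (iv F75283)) (tt N12866 (iv F75679)) (tt N11712 F73560) (tt N12867 (iv F75683)) (tt N11710 (iv D18780)) (tt N11714 F73561) (tt N12868 (iv F75690)))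
theorem Q12324 : ∀ i, i < 12324 → P i := stepQ 12323 Q12323 (allL N12323 (tt N12750 (iv F75231)) (tt N12861 (iv F75666)) (tt N12763 (iv F75287)) (tt N12833 (iv F75570)) (tt N12868 (iv F75687)) (tt N12790 (iv F75394)) (tt N11711 (iv D18781)) (tt N11762 F73562) (tt N11712 F73563))
theorem Q12325 : ∀ i, i < 12325 → P i := stepQ 12324 Q12324 (allL N12324 (tt N12559 (iv F74444)) (tt N12661 (iv F74903)) (tt N12532 (iv F74304)) (tt N12627 (iv F74745)) (tt N12555 (iv F74426)) (tt N11714 F73564) (tt N11713 (iv D18782)) (tt N12867 (iv F75684)) (tt N11766 F73565))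
theorem Q12326 : ∀ i, i < 12326 → P i := stepQ 12325 Q12325 (allL N12325 (tt N12601 (iv F74641)) (tt N12479 (iv F74070)) (tt N11716 F73566) (tt N12478 (iv F74067)) (tt N11715 (iv D18783)) (tt N12869 D19327) (tt N11881 F73567) (tt N12656 (iv F74886)) (tt N11878 F73568))
theorem Q12327 : ∀ i, i < 12327 → P i := stepQ 12326 Q12326 (allL N12326 (tt N12602 (iv F74648)) (tt N11877 F73569) (tt N12869 (iv F75691)) (tt N11719 F73570) (tt N12348 (iv F73655)) (tt N11716 (iv D18784)) (tt N12870 D19328) (tt N12657 (iv F74891)) (tt N11879 F73571))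
theorem Q12328 : ∀ i, i < 12328 → P i := stepQ 12327 Q12327 (allL N12327 (tt N12531 (iv F74295)) (tt N11879 F73572) (tt N12557 (iv F74436)) (tt N11882 F73573) (tt N11757 F73574) (tt N11717 (iv D18785)) (tt N12871 D19329) (tt N11722 F73575) (tt N11877 F73576))
theorem Q12329 : ∀ i, i < 12329 → P i := stepQ 12328 Q12328 (allL N12328 (tt N12578 (iv F74542)) (tt N11882 F73577) (tt N12748 (iv F75222)) (tt N11879 F73578) (tt N11720 F73579) (tt N11718 (iv D18786)) (tt N12872 D19330) (tt N12576 (iv F74536)) (tt N11719 F73580))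
theorem Q12330 : ∀ i, i < 12330 → P i := stepQ 12329 Q12329 (allL N12329 (tt N12762 (iv F75282)) (tt N11886 F73581) (tt N12749 (iv F75228)) (tt N12870 (iv F75694)) (tt N11721 F73582) (tt N12871 (iv F75700)) (tt N11719 (iv D18787)) (tt N11723 F73583) (tt N12872 (iv F75707)))
theorem Q12331 : ∀ i, i < 12331 → P i := stepQ 12330 Q12330 (allL N12330 (tt N12763 (iv F75286)) (tt N11891 F73584) (tt N12750 (iv F75232)) (tt N12355 (iv F73680)) (tt N12872 (iv F75705)) (tt N11762 F73585) (tt N11720 (iv D18788)) (tt N12790 (iv F75395)) (tt N11721 F73586))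
theorem Q12332 : ∀ i, i < 12332 → P i := stepQ 12331 Q12331 (allL N12331 (tt N12532 (iv F74302)) (tt N11898 F73587) (tt N12559 (iv F74446)) (tt N12530 (iv F74291)) (tt N11766 F73588) (tt N11723 F73589) (tt N11722 (iv D18789)) (tt N12871 (iv F75701)) (tt N12555 (iv F74428)))
theorem Q12333 : ∀ i, i < 12333 → P i := stepQ 12332 Q12332 (allL N12332 (tt N11738 F73590) (tt N12115 (iv F73596)) (tt N11724 (iv D18790)) (tt N11770 F73591) (tt N12873 D19331) (tt N12021 F73592) (tt N12006 F73593) (tt N12089 F73594) (tt N11979 F73595))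
theorem Q12334 : ∀ i, i < 12334 → P i := stepQ 12333 Q12333 (allL N12333 (tt N11739 F73597) (tt N12032 F73598) (tt N12873 (iv F75710)) (tt N11727 F73599) (tt N11724 (iv D18791)) (tt N12874 D19332) (tt N12334 (iv F73605)) (tt N12090 F73600) (tt N12020 F73601))
theorem Q12335 : ∀ i, i < 12335 → P i := stepQ 12334 Q12334 (allL N12334 (tt N11741 F73602) (tt N12029 F73603) (tt N12590 (iv F74595)) (tt N12020 F73604) (tt N11725 (iv D18792)) (tt N12875 D19333) (tt N12333 F73605) (tt N12306 F73606) (tt N11727 F73607))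
theorem Q12336 : ∀ i, i < 12336 → P i := stepQ 12335 Q12335 (allL N12335 (tt N11742 F73608) (tt N12647 (iv F74843)) (tt N11727 F73609) (tt N12294 F73610) (tt N11726 (iv D18793)) (tt N12876 D19334) (tt N12567 (iv F74486)) (tt N11733 F73611) (tt N12590 (iv F74597)))
theorem Q12337 : ∀ i, i < 12337 → P i := stepQ 12336 Q12336 (allL N12336 (tt N11743 F73612) (tt N12609 (iv F74680)) (tt N12876 (iv F75728)) (tt N12874 (iv F75717)) (tt N11732 F73613) (tt N11727 (iv D18794)) (tt N12877 D19335) (tt N11734 F73614) (tt N12875 (iv F75726)))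
theorem Q12338 : ∀ i, i < 12338 → P i := stepQ 12337 Q12337 (allL N12337 (tt N12514 (iv F74198)) (tt N11728 (iv D18795)) (tt N12711 (iv F75076)) (tt N11771 F73615) (tt N12878 D19336) (tt N12517 (iv F74219)) (tt N11823 F73616) (tt N12844 (iv F75602)) (tt N11730 F73617))
theorem Q12339 : ∀ i, i < 12339 → P i := stepQ 12338 Q12338 (allL N12338 (tt N11744 F73618) (tt N12878 (iv F75735)) (tt N11729 F73619) (tt N12281 F73620) (tt N11728 (iv D18796)) (tt N12879 D19337) (tt N11824 F73621) (tt N12845 (iv F75607)) (tt N11731 F73622))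
theorem Q12340 : ∀ i, i < 12340 → P i := stepQ 12339 Q12339 (allL N12339 (tt N11745 F73623) (tt N12765 (iv F75297)) (tt N12879 (iv F75740)) (tt N12199 F73624) (tt N12875 (iv F75724)) (tt N11729 (iv D18797)) (tt N12880 D19338) (tt N12846 (iv F75612)) (tt N11732 F73625))
theorem Q12341 : ∀ i, i < 12341 → P i := stepQ 12340 Q12340 (allL N12340 (tt N12643 (iv F74826)) (tt N11731 F73626) (tt N12683 (iv F74985)) (tt N12284 F73627) (tt N11730 (iv D18798)) (tt N12881 D19339) (tt N11827 F73628) (tt N11735 F73629) (tt N12878 (iv F75738)))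
theorem Q12342 : ∀ i, i < 12342 → P i := stepQ 12341 Q12341 (allL N12341 (tt N11748 F73630) (tt N12881 (iv F75747)) (tt N11732 F73631) (tt N12285 F73632) (tt N12876 (iv F75730)) (tt N11731 (iv D18799)) (tt N12882 D19340) (tt N11736 F73633) (tt N12879 (iv F75742)))
theorem Q12343 : ∀ i, i < 12343 → P i := stepQ 12342 Q12342 (allL N12342 (tt N11749 F73634) (tt N12768 (iv F75309)) (tt N12882 (iv F75751)) (tt N12200 F73635) (tt N12877 (iv F75733)) (tt N11830 F73636) (tt N11732 (iv D18800)) (tt N11737 F73637) (tt N12880 (iv F75746)))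
theorem Q12344 : ∀ i, i < 12344 → P i := stepQ 12343 Q12343 (allL N12343 (tt N11751 F73638) (tt N12652 (iv F74866)) (tt N11734 F73639) (tt N12651 (iv F74862)) (tt N11736 F73640) (tt N11733 (iv D18801)) (tt N12883 D19341) (tt N12876 (iv F75731)) (tt N12680 (iv F74970)))
theorem Q12345 : ∀ i, i < 12345 → P i := stepQ 12344 Q12344 (allL N12344 (tt N11752 F73641) (tt N12627 (iv F74744)) (tt N12883 (iv F75756)) (tt N12661 (iv F74904)) (tt N11737 F73642) (tt N12605 (iv F74666)) (tt N11734 (iv D18802)) (tt N12877 (iv F75734)) (tt N12681 (iv F74976)))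
theorem Q12346 : ∀ i, i < 12346 → P i := stepQ 12345 Q12345 (allL N12345 (tt N12651 (iv F74859)) (tt N11736 F73643) (tt N12682 (iv F74979)) (tt N11751 F73644) (tt N12652 (iv F74869)) (tt N11735 (iv D18803)) (tt N12884 D19342) (tt N12881 (iv F75749)) (tt N12851 (iv F75633)))
theorem Q12347 : ∀ i, i < 12347 → P i := stepQ 12346 Q12346 (allL N12346 (tt N11754 F73645) (tt N12884 (iv F75758)) (tt N11737 F73646) (tt N12553 (iv F74412)) (tt N12883 (iv F75757)) (tt N11835 F73647) (tt N11736 (iv D18804)) (tt N12882 (iv F75754)) (tt N12852 (iv F75637)))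
theorem Q12348 : ∀ i, i < 12348 → P i := stepQ 12347 Q12347 (allL N12347 (tt N12873 (iv F75708)) (tt N11977 F73648) (tt N11739 F73649) (tt N12271 F73650) (tt N11738 (iv D18805)) (tt N12885 D19343) (tt N12007 F73651) (tt N12663 (iv F74915)) (tt N11980 F73652))
theorem Q12349 : ∀ i, i < 12349 → P i := stepQ 12348 Q12348 (allL N12348 (tt N12874 (iv F75715)) (tt N11756 F73653) (tt N12885 (iv F75762)) (tt N11743 F73654) (tt N12326 F73655) (tt N11739 (iv D18806)) (tt N12886 D19344) (tt N12664 (iv F74920)) (tt N12349 (iv F73659)))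
theorem Q12350 : ∀ i, i < 12350 → P i := stepQ 12349 Q12349 (allL N12349 (tt N12600 (iv F74637)) (tt N11757 F73656) (tt N12568 (iv F74489)) (tt N12350 (iv F73661)) (tt N11879 F73657) (tt N11740 (iv D18807)) (tt N12887 D19345) (tt N11750 F73658) (tt N12348 F73659))
theorem Q12351 : ∀ i, i < 12351 → P i := stepQ 12350 Q12350 (allL N12350 (tt N12875 (iv F75721)) (tt N11758 F73660) (tt N12591 (iv F74599)) (tt N12349 F73661) (tt N11745 F73662) (tt N11741 (iv D18808)) (tt N12888 D19346) (tt N12855 (iv F75651)) (tt N11743 F73663))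
theorem Q12352 : ∀ i, i < 12352 → P i := stepQ 12351 Q12351 (allL N12351 (tt N12876 (iv F75727)) (tt N12240 F73664) (tt N11743 F73665) (tt N12295 F73666) (tt N11748 F73667) (tt N11742 (iv D18809)) (tt N12889 D19347) (tt N11751 F73668) (tt N12591 (iv F74602)))
theorem Q12353 : ∀ i, i < 12353 → P i := stepQ 12352 Q12352 (allL N12352 (tt N12877 (iv F75732)) (tt N11760 F73669) (tt N12889 (iv F75780)) (tt N12886 (iv F75767)) (tt N11749 F73670) (tt N12887 (iv F75771)) (tt N11743 (iv D18810)) (tt N11752 F73671) (tt N12888 (iv F75778)))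
theorem Q12354 : ∀ i, i < 12354 → P i := stepQ 12353 Q12353 (allL N12353 (tt N12281 F73672) (tt N12587 (iv F74581)) (tt N12161 F73673) (tt N11744 (iv D18811)) (tt N11772 F73674) (tt N12890 D19348) (tt N11889 F73675) (tt N12724 (iv F75141)) (tt N11747 F73676))
theorem Q12355 : ∀ i, i < 12355 → P i := stepQ 12354 Q12354 (allL N12354 (tt N12879 (iv F75739)) (tt N12588 (iv F74586)) (tt N11745 F73677) (tt N12890 (iv F75786)) (tt N12591 (iv F74601)) (tt N11744 (iv D18812)) (tt N12891 D19349) (tt N12860 (iv F75664)) (tt N11748 F73678))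
theorem Q12356 : ∀ i, i < 12356 → P i := stepQ 12355 Q12355 (allL N12355 (tt N12880 (iv F75743)) (tt N11762 F73679) (tt N12891 (iv F75788)) (tt N12330 F73680) (tt N12888 (iv F75776)) (tt N11891 F73681) (tt N11745 (iv D18813)) (tt N12861 (iv F75668)) (tt N11749 F73682))
theorem Q12357 : ∀ i, i < 12357 → P i := stepQ 12356 Q12356 (allL N12356 (tt N12644 (iv F74831)) (tt N11747 F73683) (tt N12455 (iv F74001)) (tt N11746 (iv D18814)) (tt N11773 F73684) (tt N12892 D19350) (tt N11893 F73685) (tt N12167 F73686) (tt N12587 (iv F74585)))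
theorem Q12358 : ∀ i, i < 12358 → P i := stepQ 12357 Q12357 (allL N12357 (tt N12645 (iv F74834)) (tt N11748 F73687) (tt N11763 F73688) (tt N12892 (iv F75792)) (tt N12240 F73689) (tt N11746 (iv D18815)) (tt N12893 D19351) (tt N11753 F73690) (tt N12588 (iv F74589)))
theorem Q12359 : ∀ i, i < 12359 → P i := stepQ 12358 Q12358 (allL N12358 (tt N12285 F73691) (tt N12892 (iv F75791)) (tt N12162 F73692) (tt N11748 F73693) (tt N12837 (iv F75582)) (tt N11747 (iv D18816)) (tt N12894 D19352) (tt N12168 F73694) (tt N12890 (iv F75787)))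
theorem Q12360 : ∀ i, i < 12360 → P i := stepQ 12359 Q12359 (allL N12359 (tt N12882 (iv F75750)) (tt N12893 (iv F75795)) (tt N11749 F73695) (tt N12894 (iv F75802)) (tt N12889 (iv F75782)) (tt N11896 F73696) (tt N11748 (iv D18817)) (tt N11754 F73697) (tt N12891 (iv F75790)))
theorem Q12361 : ∀ i, i < 12361 → P i := stepQ 12360 Q12360 (allL N12360 (tt N12605 (iv F74662)) (tt N11766 F73698) (tt N12573 (iv F74514)) (tt N12681 (iv F74973)) (tt N11898 F73699) (tt N11752 F73700) (tt N11750 (iv D18818)) (tt N12887 (iv F75772)) (tt N12661 (iv F74907)))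
theorem Q12362 : ∀ i, i < 12362 → P i := stepQ 12361 Q12361 (allL N12361 (tt N12883 (iv F75755)) (tt N12553 (iv F74410)) (tt N11752 F73701) (tt N12884 (iv F75759)) (tt N11754 F73702) (tt N12573 (iv F74517)) (tt N11751 (iv D18819)) (tt N12889 (iv F75783)) (tt N12864 (iv F75676)))
theorem Q12363 : ∀ i, i < 12363 → P i := stepQ 12362 Q12362 (allL N12362 (tt N12653 (iv F74871)) (tt N11754 F73703) (tt N11768 F73704) (tt N12654 (iv F74877)) (tt N12553 (iv F74413)) (tt N11904 F73705) (tt N11753 (iv D18820)) (tt N12893 (iv F75799)) (tt N12758 (iv F75266)))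
theorem Q12364 : ∀ i, i < 12364 → P i := stepQ 12363 Q12363 (allL N12363 (tt N12252 F73706) (tt N11978 F73707) (tt N11756 F73708) (tt N11991 F73709) (tt N12474 (iv F74056)) (tt N11755 (iv D18821)) (tt N12895 D19353) (tt N12419 (iv F73876)) (tt N11968 F73710))
theorem Q12365 : ∀ i, i < 12365 → P i := stepQ 12364 Q12364 (allL N12364 (tt N12785 (iv F75369)) (tt N12886 (iv F75766)) (tt N12895 (iv F75807)) (tt N11760 F73711) (tt N12475 (iv F74059)) (tt N12366 (iv F73717)) (tt N11756 (iv D18822)) (tt N12686 (iv F74995)) (tt N12365 (iv F73714)))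
theorem Q12366 : ∀ i, i < 12366 → P i := stepQ 12365 Q12365 (allL N12365 (tt N12786 (iv F75371)) (tt N12887 (iv F75769)) (tt N12558 (iv F74441)) (tt N12366 (iv F73715)) (tt N12871 (iv F75699)) (tt N11760 F73712) (tt N11757 (iv D18823)) (tt N11766 F73713) (tt N12364 F73714))
theorem Q12367 : ∀ i, i < 12367 → P i := stepQ 12366 Q12366 (allL N12366 (tt N12787 (iv F75375)) (tt N12888 (iv F75774)) (tt N12579 (iv F74550)) (tt N12365 F73715) (tt N11762 F73716) (tt N12364 F73717) (tt N11758 (iv D18824)) (tt N12868 (iv F75689)) (tt N11760 F73718))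
theorem Q12368 : ∀ i, i < 12368 → P i := stepQ 12367 Q12367 (allL N12367 (tt N12788 (iv F75380)) (tt N12241 F73719) (tt N11760 F73720) (tt N12239 F73721) (tt N11765 F73722) (tt N12558 (iv F74442)) (tt N11759 (iv D18825)) (tt N11767 F73723) (tt N12579 (iv F74553)))
theorem Q12369 : ∀ i, i < 12369 → P i := stepQ 12368 Q12368 (allL N12368 (tt N12790 (iv F75391)) (tt N12589 (iv F74590)) (tt N11762 F73724) (tt N12818 (iv F75516)) (tt N12579 (iv F74552)) (tt N12750 (iv F75233)) (tt N11761 (iv D18826)) (tt N12763 (iv F75289)) (tt N11765 F73725))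
theorem Q12370 : ∀ i, i < 12370 → P i := stepQ 12369 Q12369 (allL N12369 (tt N12646 (iv F74838)) (tt N11765 F73726) (tt N12893 (iv F75796)) (tt N12457 (iv F74009)) (tt N12241 F73727) (tt N12746 (iv F75214)) (tt N11763 (iv D18827)) (tt N11768 F73728) (tt N12589 (iv F74593)))
theorem Q12371 : ∀ i, i < 12371 → P i := stepQ 12370 Q12370 (allL N12370 (tt N12791 (iv F75397)) (tt N12457 (iv F74008)) (tt N12495 (iv F74118)) (tt N11765 F73729) (tt N12259 F73730) (tt N12734 (iv F75172)) (tt N11764 (iv D18828)) (tt N12718 (iv F75115)) (tt N12818 (iv F75518)))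
theorem Q12372 : ∀ i, i < 12372 → P i := stepQ 12371 Q12371 (allL N12371 (tt N12390 (iv F73799)) (tt N11776 (iv D18829)) (tt N12371 F73731) (tt N12823 (iv F75535)) (tt N12389 F73798) (tt N11778 F73732) (tt N11792 F73733) (tt N12371 F73734) (tt N11777 F73735))
theorem Q12373 : ∀ i, i < 12373 → P i := stepQ 12372 Q12372 (allL N12372 (tt N11778 (iv D18830)) (tt N11925 F73736) (tt N12372 F73737) (tt N12830 (iv F75564)) (tt N11924 F73738) (tt N12390 (iv F73802)) (tt N12436 (iv F73934)) (tt N12372 F73739) (tt N11779 F73740))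
theorem Q12374 : ∀ i, i < 12374 → P i := stepQ 12373 Q12373 (allL N12373 (tt N12896 D19354) (tt N11780 (iv D18831)) (tt N11788 F73741) (tt N12373 F73742) (tt N12897 D19355) (tt N12379 (iv F73758)) (tt N12708 (iv F75064)) (tt N12382 (iv F73770)) (tt N12155 F73743))
theorem Q12375 : ∀ i, i < 12375 → P i := stepQ 12374 Q12374 (allL N12374 (tt N12441 (iv F73952)) (tt N12897 (iv F75815)) (tt N11781 F73744) (tt N12898 D19356) (tt N11780 (iv D18832)) (tt N12899 D19357) (tt N12719 (iv F75118)) (tt N12383 (iv F73774)) (tt N12156 F73745))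
theorem Q12376 : ∀ i, i < 12376 → P i := stepQ 12375 Q12375 (allL N12375 (tt N12442 (iv F73956)) (tt N11790 F73746) (tt N12899 (iv F75821)) (tt N11783 F73747) (tt N12381 (iv F73765)) (tt N11781 (iv D18833)) (tt N12900 D19358) (tt N12384 (iv F73780)) (tt N12157 F73748))
theorem Q12377 : ∀ i, i < 12377 → P i := stepQ 12376 Q12376 (allL N12376 (tt N12715 (iv F75099)) (tt N12508 (iv F74171)) (tt N12898 (iv F75818)) (tt N11782 (iv D18834)) (tt N12376 F73749) (tt N12901 D19359) (tt N12721 (iv F75127)) (tt N12902 D19360) (tt N12158 F73750))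
theorem Q12378 : ∀ i, i < 12378 → P i := stepQ 12377 Q12377 (allL N12377 (tt N12716 (iv F75103)) (tt N12509 (iv F74173)) (tt N11783 F73751) (tt N12901 (iv F75826)) (tt N12633 (iv F74775)) (tt N11782 (iv D18835)) (tt N12903 D19361) (tt N11796 F73752) (tt N12159 F73753))
theorem Q12379 : ∀ i, i < 12379 → P i := stepQ 12378 Q12378 (allL N12378 (tt N12717 (iv F75107)) (tt N11791 F73754) (tt N12903 (iv F75830)) (tt N12900 (iv F75824)) (tt N12634 (iv F74779)) (tt N12723 (iv F75135)) (tt N11783 (iv D18836)) (tt N11797 F73755) (tt N12160 F73756))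
theorem Q12380 : ∀ i, i < 12380 → P i := stepQ 12379 Q12379 (allL N12379 (tt N12904 D19362) (tt N11784 (iv D18837)) (tt N12382 (iv F73767)) (tt N12379 F73757) (tt N12905 D19363) (tt N12373 F73758) (tt N12709 (iv F75068)) (tt N11788 F73759) (tt N12593 (iv F74610)))
theorem Q12381 : ∀ i, i < 12381 → P i := stepQ 12380 Q12380 (allL N12380 (tt N11849 F73760) (tt N12905 (iv F75837)) (tt N11785 F73761) (tt N12906 D19364) (tt N11784 (iv D18838)) (tt N12907 D19365) (tt N12697 (iv F75029)) (tt N11789 F73762) (tt N12724 (iv F75142)))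
theorem Q12382 : ∀ i, i < 12382 → P i := stepQ 12381 Q12381 (allL N12381 (tt N11850 F73763) (tt N12384 (iv F73777)) (tt N12907 (iv F75843)) (tt N11802 F73764) (tt N12375 F73765) (tt N11785 (iv D18839)) (tt N12908 D19366) (tt N11790 F73766) (tt N12725 (iv F75147)))
theorem Q12383 : ∀ i, i < 12383 → P i := stepQ 12382 Q12382 (allL N12382 (tt N12909 D19367) (tt N11786 (iv D18840)) (tt N12379 F73767) (tt N11792 F73768) (tt N12910 D19368) (tt N11788 F73769) (tt N12823 (iv F75537)) (tt N12373 F73770) (tt N12163 F73771))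
theorem Q12384 : ∀ i, i < 12384 → P i := stepQ 12383 Q12383 (allL N12383 (tt N11854 F73772) (tt N12910 (iv F75856)) (tt N11787 F73773) (tt N12911 D19369) (tt N11786 (iv D18841)) (tt N12912 D19370) (tt N12824 (iv F75542)) (tt N12374 F73774) (tt N12164 F73775))
theorem Q12385 : ∀ i, i < 12385 → P i := stepQ 12384 Q12384 (allL N12384 (tt N11855 F73776) (tt N12381 F73777) (tt N12912 (iv F75865)) (tt N12065 F73778) (tt N11790 F73779) (tt N11787 (iv D18842)) (tt N12913 D19371) (tt N12375 F73780) (tt N12165 F73781))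
theorem Q12386 : ∀ i, i < 12386 → P i := stepQ 12385 Q12385 (allL N12385 (tt N11788 (iv D18843)) (tt N11856 F73782) (tt N12896 (iv F75812)) (tt N11794 F73783) (tt N12914 D19372) (tt N12909 (iv F75853)) (tt N12707 (iv F75059)) (tt N12904 (iv F75836)) (tt N12166 F73784))
theorem Q12387 : ∀ i, i < 12387 → P i := stepQ 12386 Q12386 (allL N12386 (tt N12914 (iv F75875)) (tt N11789 F73785) (tt N12897 (iv F75816)) (tt N12518 (iv F74224)) (tt N11788 (iv D18844)) (tt N12915 D19373) (tt N12694 (iv F75018)) (tt N12905 (iv F75838)) (tt N12167 F73786))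
theorem Q12388 : ∀ i, i < 12388 → P i := stepQ 12387 Q12387 (allL N12387 (tt N11858 F73787) (tt N12915 (iv F75878)) (tt N11790 F73788) (tt N12519 (iv F74229)) (tt N12912 (iv F75866)) (tt N11789 (iv D18845)) (tt N12916 D19374) (tt N12907 (iv F75845)) (tt N12168 F73789))
theorem Q12389 : ∀ i, i < 12389 → P i := stepQ 12388 Q12388 (allL N12388 (tt N11859 F73790) (tt N12900 (iv F75823)) (tt N12916 (iv F75881)) (tt N11791 F73791) (tt N12913 (iv F75872)) (tt N12808 (iv F75475)) (tt N11790 (iv D18846)) (tt N12908 (iv F75849)) (tt N12169 F73792))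
theorem Q12390 : ∀ i, i < 12390 → P i := stepQ 12389 Q12389 (allL N12389 (tt N11792 (iv D18847)) (tt N11860 F73793) (tt N12389 F73794) (tt N12909 (iv F75852)) (tt N12371 (iv F73798)) (tt N11794 F73795) (tt N12390 (iv F73803)) (tt N12389 F73796) (tt N12170 F73797))
theorem Q12391 : ∀ i, i < 12391 → P i := stepQ 12390 Q12390 (allL N12390 (tt N12371 F73799) (tt N11793 F73800) (tt N12390 F73801) (tt N12917 D19375) (tt N11792 (iv D18848)) (tt N12372 F73802) (tt N12389 F73803) (tt N12390 F73804) (tt N12171 F73805))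
theorem Q12392 : ∀ i, i < 12392 → P i := stepQ 12391 Q12391 (allL N12391 (tt N11861 F73806) (tt N12917 (iv F75884)) (tt N12130 F73807) (tt N11793 (iv D18849)) (tt N12911 (iv F75862)) (tt N12521 (iv F74237)) (tt N12453 (iv F73994)) (tt N12726 (iv F75151)) (tt N12172 F73808))
theorem Q12393 : ∀ i, i < 12393 → P i := stepQ 12392 Q12392 (allL N12392 (tt N12640 (iv F74809)) (tt N12533 (iv F74310)) (tt N12652 (iv F74867)) (tt N11796 F73809) (tt N12682 (iv F74981)) (tt N11795 (iv D18850)) (tt N12918 D19376) (tt N12919 D19377) (tt N11815 F73810))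
theorem Q12394 : ∀ i, i < 12394 → P i := stepQ 12393 Q12393 (allL N12393 (tt N12636 (iv F74789)) (tt N12534 (iv F74316)) (tt N12647 (iv F74844)) (tt N12902 (iv F75828)) (tt N11841 F73811) (tt N12919 (iv F75890)) (tt N12613 (iv F74702)) (tt N11795 (iv D18851)) (tt N12920 D19378))
theorem Q12395 : ∀ i, i < 12395 → P i := stepQ 12394 Q12394 (allL N12394 (tt N12744 (iv F75203)) (tt N12535 (iv F74320)) (tt N11797 F73812) (tt N12918 (iv F75888)) (tt N12635 (iv F74786)) (tt N12745 (iv F75210)) (tt N11796 (iv D18852)) (tt N12903 (iv F75831)) (tt N11817 F73813))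
theorem Q12396 : ∀ i, i < 12396 → P i := stepQ 12395 Q12395 (allL N12395 (tt N12711 (iv F75074)) (tt N11798 (iv D18853)) (tt N12514 (iv F74199)) (tt N12395 F73814) (tt N12921 D19379) (tt N12505 (iv F74156)) (tt N12844 (iv F75601)) (tt N11823 F73815) (tt N11800 F73816))
theorem Q12397 : ∀ i, i < 12397 → P i := stepQ 12396 Q12396 (allL N12396 (tt N11868 F73817) (tt N12921 (iv F75894)) (tt N11799 F73818) (tt N12922 D19380) (tt N11798 (iv D18854)) (tt N12923 D19381) (tt N12845 (iv F75606)) (tt N11824 F73819) (tt N11801 F73820))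
theorem Q12398 : ∀ i, i < 12398 → P i := stepQ 12397 Q12397 (allL N12397 (tt N11869 F73821) (tt N12516 (iv F74211)) (tt N12923 (iv F75901)) (tt N12725 (iv F75145)) (tt N12507 (iv F74168)) (tt N11799 (iv D18855)) (tt N12924 D19382) (tt N11825 F73822) (tt N11802 F73823))
theorem Q12399 : ∀ i, i < 12399 → P i := stepQ 12398 Q12398 (allL N12398 (tt N12683 (iv F74983)) (tt N11801 F73824) (tt N12643 (iv F74828)) (tt N12925 D19383) (tt N11800 (iv D18856)) (tt N12926 D19384) (tt N12847 (iv F75617)) (tt N11803 F73825) (tt N12921 (iv F75896)))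
theorem Q12400 : ∀ i, i < 12400 → P i := stepQ 12399 Q12399 (allL N12399 (tt N11870 F73826) (tt N12925 (iv F75907)) (tt N12906 (iv F75840)) (tt N11801 (iv D18857)) (tt N12399 F73827) (tt N12927 D19385) (tt N12848 (iv F75621)) (tt N12541 (iv F74350)) (tt N12922 (iv F75899)))
theorem Q12401 : ∀ i, i < 12401 → P i := stepQ 12400 Q12400 (allL N12400 (tt N11871 F73828) (tt N12926 (iv F75909)) (tt N11802 F73829) (tt N12927 (iv F75912)) (tt N12638 (iv F74801)) (tt N11801 (iv D18858)) (tt N12928 D19386) (tt N11804 F73830) (tt N12923 (iv F75903)))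
theorem Q12402 : ∀ i, i < 12402 → P i := stepQ 12401 Q12401 (allL N12401 (tt N11872 F73831) (tt N12646 (iv F74839)) (tt N12928 (iv F75914)) (tt N12908 (iv F75847)) (tt N12639 (iv F74806)) (tt N12850 (iv F75626)) (tt N11802 (iv D18859)) (tt N11805 F73832) (tt N12924 (iv F75906)))
theorem Q12403 : ∀ i, i < 12403 → P i := stepQ 12402 Q12402 (allL N12402 (tt N12682 (iv F74977)) (tt N11804 F73833) (tt N12651 (iv F74861)) (tt N12546 (iv F74371)) (tt N12640 (iv F74813)) (tt N11803 (iv D18860)) (tt N12929 D19387) (tt N12926 (iv F75910)) (tt N11834 F73834))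
theorem Q12404 : ∀ i, i < 12404 → P i := stepQ 12403 Q12403 (allL N12403 (tt N11875 F73835) (tt N12929 (iv F75916)) (tt N11805 F73836) (tt N12547 (iv F74376)) (tt N12641 (iv F74818)) (tt N12852 (iv F75636)) (tt N11804 (iv D18861)) (tt N12928 (iv F75915)) (tt N11835 F73837))
theorem Q12405 : ∀ i, i < 12405 → P i := stepQ 12404 Q12404 (allL N12404 (tt N12844 (iv F75597)) (tt N11806 (iv D18862)) (tt N11823 F73838) (tt N12404 F73839) (tt N12930 D19388) (tt N12511 (iv F74183)) (tt N12711 (iv F75079)) (tt N12514 (iv F74203)) (tt N11808 F73840))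
theorem Q12406 : ∀ i, i < 12406 → P i := stepQ 12405 Q12405 (allL N12405 (tt N12580 (iv F74554)) (tt N12930 (iv F75918)) (tt N11807 F73841) (tt N12931 D19389) (tt N11806 (iv D18863)) (tt N12932 D19390) (tt N12764 (iv F75293)) (tt N12515 (iv F74208)) (tt N11809 F73842))
theorem Q12407 : ∀ i, i < 12407 → P i := stepQ 12406 Q12406 (allL N12406 (tt N12581 (iv F74560)) (tt N11825 F73843) (tt N12932 (iv F75924)) (tt N12216 F73844) (tt N12513 (iv F74195)) (tt N11807 (iv D18864)) (tt N12933 D19391) (tt N12516 (iv F74214)) (tt N11810 F73845))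
theorem Q12408 : ∀ i, i < 12408 → P i := stepQ 12407 Q12407 (allL N12407 (tt N12847 (iv F75614)) (tt N11809 F73846) (tt N11827 F73847) (tt N12934 D19392) (tt N11808 (iv D18865)) (tt N12935 D19393) (tt N12683 (iv F74987)) (tt N11811 F73848) (tt N12930 (iv F75920)))
theorem Q12409 : ∀ i, i < 12409 → P i := stepQ 12408 Q12408 (allL N12408 (tt N12755 (iv F75250)) (tt N12934 (iv F75929)) (tt N12217 F73849) (tt N11809 (iv D18866)) (tt N12408 F73850) (tt N12936 D19394) (tt N12766 (iv F75304)) (tt N12937 D19395) (tt N12931 (iv F75923)))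
theorem Q12410 : ∀ i, i < 12410 → P i := stepQ 12409 Q12409 (allL N12409 (tt N12756 (iv F75254)) (tt N12935 (iv F75931)) (tt N11810 F73851) (tt N12936 (iv F75935)) (tt N12596 (iv F74620)) (tt N11809 (iv D18867)) (tt N12938 D19396) (tt N11813 F73852) (tt N12932 (iv F75925)))
theorem Q12411 : ∀ i, i < 12411 → P i := stepQ 12410 Q12410 (allL N12410 (tt N12757 (iv F75258)) (tt N11830 F73853) (tt N12938 (iv F75939)) (tt N12219 F73854) (tt N12597 (iv F74623)) (tt N12768 (iv F75311)) (tt N11810 (iv D18868)) (tt N11814 F73855) (tt N12933 (iv F75928)))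
theorem Q12412 : ∀ i, i < 12412 → P i := stepQ 12411 Q12411 (allL N12411 (tt N12851 (iv F75628)) (tt N11813 F73856) (tt N11834 F73857) (tt N12680 (iv F74968)) (tt N12598 (iv F74630)) (tt N11811 (iv D18869)) (tt N12939 D19397) (tt N12935 (iv F75933)) (tt N12651 (iv F74864)))
theorem Q12413 : ∀ i, i < 12413 → P i := stepQ 12412 Q12412 (allL N12412 (tt N12598 (iv F74626)) (tt N12680 (iv F74966)) (tt N11815 F73858) (tt N11813 F73859) (tt N12851 (iv F75632)) (tt N11812 (iv D18870)) (tt N12940 D19398) (tt N12941 D19399) (tt N12652 (iv F74870)))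
theorem Q12414 : ∀ i, i < 12414 → P i := stepQ 12413 Q12413 (allL N12413 (tt N12594 (iv F74611)) (tt N12665 (iv F74923)) (tt N11816 F73860) (tt N12937 (iv F75937)) (tt N11842 F73861) (tt N12941 (iv F75946)) (tt N12622 (iv F74731)) (tt N11812 (iv D18871)) (tt N12942 D19400))
theorem Q12415 : ∀ i, i < 12415 → P i := stepQ 12414 Q12414 (allL N12414 (tt N12758 (iv F75262)) (tt N12939 (iv F75941)) (tt N11814 F73862) (tt N12940 (iv F75944)) (tt N12599 (iv F74634)) (tt N12769 (iv F75315)) (tt N11813 (iv D18872)) (tt N12938 (iv F75940)) (tt N12653 (iv F74875)))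
theorem Q12416 : ∀ i, i < 12416 → P i := stepQ 12415 Q12415 (allL N12415 (tt N11834 F73863) (tt N11903 F73864) (tt N12851 (iv F75630)) (tt N12572 (iv F74510)) (tt N11815 (iv D18873)) (tt N11833 F73865) (tt N12943 D19401) (tt N12944 D19402) (tt N12682 (iv F74982)))
theorem Q12417 : ∀ i, i < 12417 → P i := stepQ 12416 Q12416 (allL N12416 (tt N12759 (iv F75267)) (tt N12560 (iv F74452)) (tt N12940 (iv F75943)) (tt N11817 F73866) (tt N12943 (iv F75952)) (tt N12705 (iv F75053)) (tt N11815 (iv D18874)) (tt N12945 D19403) (tt N12918 (iv F75889)))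
theorem Q12418 : ∀ i, i < 12418 → P i := stepQ 12417 Q12417 (allL N12417 (tt N12760 (iv F75272)) (tt N12561 (iv F74458)) (tt N12941 (iv F75945)) (tt N12224 F73867) (tt N12944 (iv F75955)) (tt N11816 F73868) (tt N12945 (iv F75958)) (tt N11815 (iv D18875)) (tt N12946 D19404))
theorem Q12419 : ∀ i, i < 12419 → P i := stepQ 12418 Q12418 (allL N12418 (tt N12761 (iv F75277)) (tt N12318 F73869) (tt N12942 (iv F75948)) (tt N12225 F73870) (tt N11843 F73871) (tt N12946 (iv F75961)) (tt N12688 (iv F75000)) (tt N12920 (iv F75893)) (tt N11816 (iv D18876)))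
theorem Q12420 : ∀ i, i < 12420 → P i := stepQ 12419 Q12419 (allL N12419 (tt N11877 F73872) (tt N12539 (iv F74339)) (tt N12107 F73873) (tt N11822 F73874) (tt N12226 F73875) (tt N11818 (iv D18877)) (tt N12947 D19405) (tt N12363 F73876) (tt N12531 (iv F74301)))
theorem Q12421 : ∀ i, i < 12421 → P i := stepQ 12420 Q12420 (allL N12420 (tt N11881 F73877) (tt N12761 (iv F75278)) (tt N11820 F73878) (tt N12110 F73879) (tt N11819 (iv D18878)) (tt N12948 D19406) (tt N12601 (iv F74645)) (tt N12506 (iv F74163)) (tt N11821 F73880))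
theorem Q12422 : ∀ i, i < 12422 → P i := stepQ 12421 Q12421 (allL N12421 (tt N11882 F73881) (tt N12513 (iv F74193)) (tt N12948 (iv F75968)) (tt N12531 (iv F74298)) (tt N11825 F73882) (tt N11820 (iv D18879)) (tt N12949 D19407) (tt N12507 (iv F74169)) (tt N11822 F73883))
theorem Q12423 : ∀ i, i < 12423 → P i := stepQ 12422 Q12422 (allL N12422 (tt N11885 F73884) (tt N12760 (iv F75273)) (tt N11822 F73885) (tt N12113 F73886) (tt N11829 F73887) (tt N11821 (iv D18880)) (tt N12950 D19408) (tt N11831 F73888) (tt N12948 (iv F75971)))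
theorem Q12424 : ∀ i, i < 12424 → P i := stepQ 12423 Q12423 (allL N12423 (tt N11886 F73889) (tt N12597 (iv F74622)) (tt N12950 (iv F75976)) (tt N12947 (iv F75964)) (tt N11830 F73890) (tt N12604 (iv F74660)) (tt N11822 (iv D18881)) (tt N11832 F73891) (tt N12949 (iv F75974)))
theorem Q12425 : ∀ i, i < 12425 → P i := stepQ 12424 Q12424 (allL N12424 (tt N11823 (iv D18882)) (tt N11887 F73892) (tt N12844 (iv F75598)) (tt N11836 F73893) (tt N12951 D19409) (tt N11843 F73894) (tt N12514 (iv F74202)) (tt N12711 (iv F75080)) (tt N11826 F73895))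
theorem Q12426 : ∀ i, i < 12426 → P i := stepQ 12425 Q12425 (allL N12425 (tt N12951 (iv F75980)) (tt N11824 F73896) (tt N12930 (iv F75919)) (tt N12952 D19410) (tt N11823 (iv D18883)) (tt N12953 D19411) (tt N12878 (iv F75737)) (tt N12921 (iv F75895)) (tt N11827 F73897))
theorem Q12427 : ∀ i, i < 12427 → P i := stepQ 12426 Q12426 (allL N12426 (tt N11889 F73898) (tt N12952 (iv F75983)) (tt N12231 F73899) (tt N11824 (iv D18884)) (tt N11838 F73900) (tt N12954 D19412) (tt N12281 F73901) (tt N12811 (iv F75490)) (tt N11828 F73902))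
theorem Q12428 : ∀ i, i < 12428 → P i := stepQ 12427 Q12427 (allL N12427 (tt N11890 F73903) (tt N12953 (iv F75987)) (tt N11825 F73904) (tt N12954 (iv F75991)) (tt N12948 (iv F75970)) (tt N11824 (iv D18885)) (tt N12955 D19413) (tt N12923 (iv F75902)) (tt N11829 F73905))
theorem Q12429 : ∀ i, i < 12429 → P i := stepQ 12428 Q12428 (allL N12428 (tt N11891 F73906) (tt N12933 (iv F75926)) (tt N12955 (iv F75995)) (tt N12233 F73907) (tt N12949 (iv F75973)) (tt N12880 (iv F75745)) (tt N11825 (iv D18886)) (tt N12924 (iv F75905)) (tt N11830 F73908))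
theorem Q12430 : ∀ i, i < 12430 → P i := stepQ 12429 Q12429 (allL N12429 (tt N11827 F73909) (tt N11892 F73910) (tt N12847 (iv F75616)) (tt N12956 D19414) (tt N11826 (iv D18887)) (tt N12944 (iv F75956)) (tt N12643 (iv F74829)) (tt N11833 F73911) (tt N12951 (iv F75982)))
theorem Q12431 : ∀ i, i < 12431 → P i := stepQ 12430 Q12430 (allL N12430 (tt N12956 (iv F75997)) (tt N11828 F73912) (tt N12447 (iv F73975)) (tt N11827 (iv D18888)) (tt N11840 F73913) (tt N12957 D19415) (tt N12284 F73914) (tt N12257 F73915) (tt N12952 (iv F75986)))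
theorem Q12432 : ∀ i, i < 12432 → P i := stepQ 12431 Q12431 (allL N12431 (tt N12944 (iv F75953)) (tt N11829 F73916) (tt N12935 (iv F75932)) (tt N12957 (iv F76003)) (tt N12760 (iv F75275)) (tt N11827 (iv D18889)) (tt N12958 D19416) (tt N11834 F73917) (tt N12953 (iv F75988)))
theorem Q12433 : ∀ i, i < 12433 → P i := stepQ 12432 Q12432 (allL N12432 (tt N11895 F73918) (tt N12957 (iv F76002)) (tt N12234 F73919) (tt N11829 F73920) (tt N12123 F73921) (tt N11828 (iv D18890)) (tt N12959 D19417) (tt N12258 F73922) (tt N12954 (iv F75993)))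
theorem Q12434 : ∀ i, i < 12434 → P i := stepQ 12433 Q12433 (allL N12433 (tt N11896 F73923) (tt N12958 (iv F76006)) (tt N11830 F73924) (tt N12959 (iv F76010)) (tt N12950 (iv F75978)) (tt N12882 (iv F75753)) (tt N11829 (iv D18891)) (tt N11835 F73925) (tt N12955 (iv F75996)))
theorem Q12435 : ∀ i, i < 12435 → P i := stepQ 12434 Q12434 (allL N12434 (tt N11902 F73926) (tt N12759 (iv F75268)) (tt N11832 F73927) (tt N12712 (iv F75084)) (tt N11835 F73928) (tt N12606 (iv F74672)) (tt N11831 (iv D18892)) (tt N12950 (iv F75979)) (tt N12641 (iv F74820)))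
theorem Q12436 : ∀ i, i < 12436 → P i := stepQ 12435 Q12435 (allL N12435 (tt N12943 (iv F75950)) (tt N11835 F73929) (tt N12939 (iv F75942)) (tt N12573 (iv F74515)) (tt N12759 (iv F75270)) (tt N12884 (iv F75760)) (tt N11834 (iv D18893)) (tt N12958 (iv F76007)) (tt N12929 (iv F75917)))
theorem Q12437 : ∀ i, i < 12437 → P i := stepQ 12436 Q12436 (allL N12436 (tt N11837 F73930) (tt N11906 F73931) (tt N12436 F73932) (tt N12960 D19418) (tt N11836 (iv D18894)) (tt N12131 F73933) (tt N12372 F73934) (tt N12436 F73935) (tt N11839 F73936))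
theorem Q12438 : ∀ i, i < 12438 → P i := stepQ 12437 Q12437 (allL N12437 (tt N12960 (iv F76014)) (tt N11838 F73937) (tt N12443 (iv F73961)) (tt N11837 (iv D18895)) (tt N12952 (iv F75984)) (tt N12132 F73938) (tt N12280 F73939) (tt N12810 (iv F75485)) (tt N11840 F73940))
theorem Q12439 : ∀ i, i < 12439 → P i := stepQ 12438 Q12438 (allL N12438 (tt N11840 F73941) (tt N11909 F73942) (tt N12446 (iv F73971)) (tt N11839 (iv D18896)) (tt N12956 (iv F75999)) (tt N12134 F73943) (tt N12283 F73944) (tt N12256 F73945) (tt N12960 (iv F76018)))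
theorem Q12440 : ∀ i, i < 12440 → P i := stepQ 12439 Q12439 (allL N12439 (tt N12505 (iv F74153)) (tt N12028 F73946) (tt N12517 (iv F74217)) (tt N12439 F73947) (tt N12920 (iv F75892)) (tt N12711 (iv F75078)) (tt N12610 (iv F74688)) (tt N11843 F73948) (tt N11841 (iv D18897)))
theorem Q12441 : ∀ i, i < 12441 → P i := stepQ 12440 Q12440 (allL N12440 (tt N12511 (iv F74180)) (tt N12305 F73949) (tt N11843 F73950) (tt N12440 F73951) (tt N12942 (iv F75949)) (tt N12844 (iv F75600)) (tt N12617 (iv F74714)) (tt N12517 (iv F74221)) (tt N11842 (iv D18898)))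
theorem Q12442 : ∀ i, i < 12442 → P i := stepQ 12441 Q12441 (allL N12441 (tt N12374 F73952) (tt N12701 (iv F75039)) (tt N11845 F73953) (tt N12961 D19419) (tt N11844 (iv D18899)) (tt N12962 D19420) (tt N12156 F73954) (tt N11854 F73955) (tt N12719 (iv F75119)))
theorem Q12443 : ∀ i, i < 12443 → P i := stepQ 12442 Q12442 (allL N12442 (tt N12375 F73956) (tt N12147 F73957) (tt N12962 (iv F76024)) (tt N12146 F73958) (tt N11850 F73959) (tt N11845 (iv D18900)) (tt N12963 D19421) (tt N11855 F73960) (tt N12720 (iv F75124)))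
theorem Q12444 : ∀ i, i < 12444 → P i := stepQ 12443 Q12443 (allL N12443 (tt N12964 D19422) (tt N11846 (iv D18901)) (tt N12437 F73961) (tt N12443 F73962) (tt N12965 D19423) (tt N12708 (iv F75063)) (tt N12810 (iv F75484)) (tt N12280 F73963) (tt N11848 F73964))
theorem Q12445 : ∀ i, i < 12445 → P i := stepQ 12444 Q12444 (allL N12444 (tt N12724 (iv F75138)) (tt N12965 (iv F76037)) (tt N11847 F73965) (tt N12966 D19424) (tt N11846 (iv D18902)) (tt N12967 D19425) (tt N12811 (iv F75489)) (tt N12281 F73966) (tt N11849 F73967))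
theorem Q12446 : ∀ i, i < 12446 → P i := stepQ 12445 Q12445 (allL N12445 (tt N12725 (iv F75143)) (tt N12789 (iv F75387)) (tt N12967 (iv F76044)) (tt N11869 F73968) (tt N12720 (iv F75123)) (tt N11847 (iv D18903)) (tt N12968 D19426) (tt N12282 F73969) (tt N11850 F73970))
theorem Q12447 : ∀ i, i < 12447 → P i := stepQ 12446 Q12446 (allL N12446 (tt N11848 (iv D18904)) (tt N12904 (iv F75833)) (tt N12438 F73971) (tt N12446 F73972) (tt N12969 D19427) (tt N12710 (iv F75072)) (tt N12813 (iv F75500)) (tt N11856 F73973) (tt N12964 (iv F76036)))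
theorem Q12448 : ∀ i, i < 12448 → P i := stepQ 12447 Q12447 (allL N12447 (tt N12969 (iv F76050)) (tt N11849 F73974) (tt N12430 F73975) (tt N12970 D19428) (tt N11848 (iv D18905)) (tt N12971 D19429) (tt N12814 (iv F75504)) (tt N11857 F73976) (tt N12965 (iv F76040)))
theorem Q12449 : ∀ i, i < 12449 → P i := stepQ 12448 Q12448 (allL N12448 (tt N12906 (iv F75839)) (tt N12970 (iv F76053)) (tt N11870 F73977) (tt N11849 (iv D18906)) (tt N12448 F73978) (tt N12972 D19430) (tt N12815 (iv F75508)) (tt N12583 (iv F74571)) (tt N12966 (iv F76043)))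
theorem Q12450 : ∀ i, i < 12450 → P i := stepQ 12449 Q12449 (allL N12449 (tt N12907 (iv F75842)) (tt N12971 (iv F76056)) (tt N11850 F73979) (tt N12972 (iv F76060)) (tt N12962 (iv F76025)) (tt N11849 (iv D18907)) (tt N12973 D19431) (tt N11858 F73980) (tt N12967 (iv F76046)))
theorem Q12451 : ∀ i, i < 12451 → P i := stepQ 12450 Q12450 (allL N12450 (tt N12908 (iv F75846)) (tt N12791 (iv F75398)) (tt N12973 (iv F76061)) (tt N11872 F73981) (tt N12963 (iv F76030)) (tt N12817 (iv F75513)) (tt N11850 (iv D18908)) (tt N11859 F73982) (tt N12968 (iv F76049)))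
theorem Q12452 : ∀ i, i < 12452 → P i := stepQ 12451 Q12451 (allL N12451 (tt N12824 (iv F75540)) (tt N12455 (iv F74000)) (tt N11852 F73983) (tt N12454 (iv F73998)) (tt N11851 (iv D18909)) (tt N12974 D19432) (tt N11854 F73984) (tt N12156 F73985) (tt N12287 F73986))
theorem Q12453 : ∀ i, i < 12453 → P i := stepQ 12452 Q12452 (allL N12452 (tt N12825 (iv F75545)) (tt N12162 F73987) (tt N12974 (iv F76063)) (tt N12178 F73988) (tt N12733 (iv F75167)) (tt N11852 (iv D18910)) (tt N12975 D19433) (tt N12157 F73989) (tt N12288 F73990))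
theorem Q12454 : ∀ i, i < 12454 → P i := stepQ 12453 Q12453 (allL N12453 (tt N11853 (iv D18911)) (tt N12909 (iv F75850)) (tt N11909 F73991) (tt N11860 F73992) (tt N12976 D19434) (tt N11856 F73993) (tt N12391 F73994) (tt N12710 (iv F75073)) (tt N12289 F73995))
theorem Q12455 : ∀ i, i < 12455 → P i := stepQ 12454 Q12454 (allL N12454 (tt N12976 (iv F76072)) (tt N11854 F73996) (tt N11893 F73997) (tt N12451 F73998) (tt N11853 (iv D18912)) (tt N12977 D19435) (tt N12455 (iv F74003)) (tt N12701 (iv F75041)) (tt N12290 F73999))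
theorem Q12456 : ∀ i, i < 12456 → P i := stepQ 12455 Q12455 (allL N12455 (tt N12911 (iv F75860)) (tt N12451 F74000) (tt N12356 F74001) (tt N11854 (iv D18913)) (tt N11861 F74002) (tt N12978 D19436) (tt N12454 F74003) (tt N12727 (iv F75155)) (tt N12291 F74004))
theorem Q12457 : ∀ i, i < 12457 → P i := stepQ 12456 Q12456 (allL N12456 (tt N12912 (iv F75864)) (tt N12977 (iv F76077)) (tt N11855 F74005) (tt N12978 (iv F76084)) (tt N11858 F74006) (tt N11854 (iv D18914)) (tt N12979 D19437) (tt N12962 (iv F76026)) (tt N12292 F74007))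
theorem Q12458 : ∀ i, i < 12458 → P i := stepQ 12457 Q12457 (allL N12457 (tt N12913 (iv F75869)) (tt N12370 F74008) (tt N12979 (iv F76086)) (tt N12369 F74009) (tt N11859 F74010) (tt N12975 (iv F76069)) (tt N11855 (iv D18915)) (tt N12963 (iv F76032)) (tt N12293 F74011))
theorem Q12459 : ∀ i, i < 12459 → P i := stepQ 12458 Q12458 (allL N12458 (tt N11857 F74012) (tt N12914 (iv F75876)) (tt N12804 (iv F75458)) (tt N12590 (iv F74596)) (tt N11856 (iv D18916)) (tt N12980 D19438) (tt N12819 (iv F75521)) (tt N12969 (iv F76052)) (tt N12294 F74013))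
theorem Q12460 : ∀ i, i < 12460 → P i := stepQ 12459 Q12459 (allL N12459 (tt N12980 (iv F76089)) (tt N11858 F74014) (tt N12805 (iv F75462)) (tt N12591 (iv F74600)) (tt N12977 (iv F76080)) (tt N11857 (iv D18917)) (tt N12981 D19439) (tt N12971 (iv F76058)) (tt N12295 F74015))
theorem Q12461 : ∀ i, i < 12461 → P i := stepQ 12460 Q12460 (allL N12460 (tt N12916 (iv F75880)) (tt N12981 (iv F76091)) (tt N11859 F74016) (tt N12592 (iv F74604)) (tt N12979 (iv F76087)) (tt N12821 (iv F75527)) (tt N11858 (iv D18918)) (tt N12973 (iv F76062)) (tt N12296 F74017))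
theorem Q12462 : ∀ i, i < 12462 → P i := stepQ 12461 Q12461 (allL N12461 (tt N12051 F74018) (tt N12242 F74019) (tt N11863 F74020) (tt N12982 D19440) (tt N11862 (iv D18919)) (tt N12983 D19441) (tt N12187 F74021) (tt N11955 F74022) (tt N12503 (iv F74146)))
theorem Q12463 : ∀ i, i < 12463 → P i := stepQ 12462 Q12462 (allL N12462 (tt N12052 F74023) (tt N12144 F74024) (tt N12983 (iv F76101)) (tt N11867 F74025) (tt N12146 F74026) (tt N11863 (iv D18920)) (tt N12984 D19442) (tt N11956 F74027) (tt N12504 (iv F74152)))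
theorem Q12464 : ∀ i, i < 12464 → P i := stepQ 12463 Q12463 (allL N12463 (tt N12506 (iv F74160)) (tt N12772 (iv F75329)) (tt N11865 F74028) (tt N12985 D19443) (tt N11864 (iv D18921)) (tt N12986 D19444) (tt N12656 (iv F74885)) (tt N11881 F74029) (tt N11866 F74030))
theorem Q12465 : ∀ i, i < 12465 → P i := stepQ 12464 Q12464 (allL N12464 (tt N12507 (iv F74165)) (tt N12576 (iv F74532)) (tt N12986 (iv F76112)) (tt N12504 (iv F74149)) (tt N11869 F74031) (tt N11865 (iv D18922)) (tt N12987 D19445) (tt N11882 F74032) (tt N11867 F74033))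
theorem Q12466 : ∀ i, i < 12466 → P i := stepQ 12465 Q12465 (allL N12465 (tt N12637 (iv F74794)) (tt N12774 (iv F75340)) (tt N12982 (iv F76095)) (tt N11866 (iv D18923)) (tt N12465 F74034) (tt N12988 D19446) (tt N12658 (iv F74895)) (tt N12751 (iv F75239)) (tt N12985 (iv F76111)))
theorem Q12467 : ∀ i, i < 12467 → P i := stepQ 12466 Q12466 (allL N12466 (tt N12638 (iv F74799)) (tt N12775 (iv F75342)) (tt N11867 F74035) (tt N12988 (iv F76119)) (tt N11871 F74036) (tt N11866 (iv D18924)) (tt N12989 D19447) (tt N11873 F74037) (tt N12986 (iv F76115)))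
theorem Q12468 : ∀ i, i < 12468 → P i := stepQ 12467 Q12467 (allL N12467 (tt N12639 (iv F74803)) (tt N12788 (iv F75381)) (tt N12989 (iv F76120)) (tt N12984 (iv F76106)) (tt N11872 F74038) (tt N12660 (iv F74900)) (tt N11867 (iv D18925)) (tt N11874 F74039) (tt N12987 (iv F76118)))
theorem Q12469 : ∀ i, i < 12469 → P i := stepQ 12468 Q12468 (allL N12468 (tt N12922 (iv F75897)) (tt N12777 (iv F75349)) (tt N12966 (iv F76041)) (tt N11868 (iv D18926)) (tt N12468 F74040) (tt N12990 D19448) (tt N12859 (iv F75661)) (tt N12991 D19449) (tt N11870 F74041))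
theorem Q12470 : ∀ i, i < 12470 → P i := stepQ 12469 Q12469 (allL N12469 (tt N12923 (iv F75900)) (tt N12778 (iv F75352)) (tt N11869 F74042) (tt N12990 (iv F76123)) (tt N12986 (iv F76113)) (tt N11868 (iv D18927)) (tt N12992 D19450) (tt N11890 F74043) (tt N11871 F74044))
theorem Q12471 : ∀ i, i < 12471 → P i := stepQ 12470 Q12470 (allL N12470 (tt N12924 (iv F75904)) (tt N12790 (iv F75392)) (tt N12992 (iv F76127)) (tt N12968 (iv F76047)) (tt N12987 (iv F76116)) (tt N12861 (iv F75667)) (tt N11869 (iv D18928)) (tt N11891 F74045) (tt N11872 F74046))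
theorem Q12472 : ∀ i, i < 12472 → P i := stepQ 12471 Q12471 (allL N12471 (tt N12927 (iv F75911)) (tt N12780 (iv F75358)) (tt N12972 (iv F76059)) (tt N11871 F74047) (tt N12993 D19451) (tt N11870 (iv D18929)) (tt N12994 D19452) (tt N12625 (iv F74740)) (tt N12990 (iv F76124)))
theorem Q12473 : ∀ i, i < 12473 → P i := stepQ 12472 Q12472 (allL N12472 (tt N12928 (iv F75913)) (tt N12781 (iv F75360)) (tt N11872 F74048) (tt N12994 (iv F76131)) (tt N12989 (iv F76121)) (tt N12863 (iv F75672)) (tt N11871 (iv D18930)) (tt N11875 F74049) (tt N12992 (iv F76129)))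
theorem Q12474 : ∀ i, i < 12474 → P i := stepQ 12473 Q12473 (allL N12473 (tt N12641 (iv F74815)) (tt N12782 (iv F75363)) (tt N11874 F74050) (tt N12754 (iv F75248)) (tt N11875 F74051) (tt N12662 (iv F74910)) (tt N11873 (iv D18931)) (tt N12989 (iv F76122)) (tt N11902 F74052))
theorem Q12475 : ∀ i, i < 12475 → P i := stepQ 12474 Q12474 (allL N12474 (tt N12107 F74053) (tt N12563 (iv F74468)) (tt N11877 F74054) (tt N11976 F74055) (tt N12363 F74056) (tt N11876 (iv D18932)) (tt N12995 D19453) (tt N12226 F74057) (tt N12557 (iv F74439)))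
theorem Q12476 : ∀ i, i < 12476 → P i := stepQ 12475 Q12475 (allL N12475 (tt N12947 (iv F75962)) (tt N12870 (iv F75693)) (tt N12995 (iv F76133)) (tt N11886 F74058) (tt N12364 F74059) (tt N12872 (iv F75706)) (tt N11877 (iv D18933)) (tt N12802 (iv F75448)) (tt N12871 (iv F75702)))
theorem Q12477 : ∀ i, i < 12477 → P i := stepQ 12476 Q12476 (allL N12476 (tt N12603 (iv F74653)) (tt N12483 (iv F74085)) (tt N11879 F74060) (tt N12482 (iv F74081)) (tt N12568 (iv F74490)) (tt N11878 (iv D18934)) (tt N12996 D19454) (tt N11897 F74061) (tt N12869 (iv F75692)))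
theorem Q12478 : ∀ i, i < 12478 → P i := stepQ 12477 Q12477 (allL N12477 (tt N12604 (iv F74658)) (tt N12871 (iv F75697)) (tt N12996 (iv F76137)) (tt N12872 (iv F75704)) (tt N12887 (iv F75770)) (tt N11886 F74062) (tt N11879 (iv D18935)) (tt N11898 F74063) (tt N12870 (iv F75696)))
theorem Q12479 : ∀ i, i < 12479 → P i := stepQ 12478 Q12478 (allL N12478 (tt N12318 F74064) (tt N11881 F74065) (tt N12181 F74066) (tt N12325 F74067) (tt N11880 (iv D18936)) (tt N12997 D19455) (tt N12479 (iv F74073)) (tt N12772 (iv F75332)) (tt N11883 F74068))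
theorem Q12480 : ∀ i, i < 12480 → P i := stepQ 12479 Q12479 (allL N12479 (tt N12110 F74069) (tt N12325 F74070) (tt N11975 F74071) (tt N11881 (iv D18937)) (tt N11905 F74072) (tt N12998 D19456) (tt N12478 F74073) (tt N12770 (iv F75320)) (tt N11884 F74074))
theorem Q12481 : ∀ i, i < 12481 → P i := stepQ 12480 Q12480 (allL N12480 (tt N12948 (iv F75967)) (tt N12997 (iv F76141)) (tt N11882 F74075) (tt N12998 (iv F76149)) (tt N11890 F74076) (tt N11881 (iv D18938)) (tt N12999 D19457) (tt N12986 (iv F76114)) (tt N11885 F74077))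
theorem Q12482 : ∀ i, i < 12482 → P i := stepQ 12481 Q12481 (allL N12481 (tt N12949 (iv F75972)) (tt N12872 (iv F75703)) (tt N12999 (iv F76152)) (tt N12871 (iv F75698)) (tt N11891 F74078) (tt N12870 (iv F75695)) (tt N11882 (iv D18939)) (tt N12987 (iv F76117)) (tt N11886 F74079))
theorem Q12483 : ∀ i, i < 12483 → P i := stepQ 12482 Q12482 (allL N12482 (tt N12561 (iv F74457)) (tt N11885 F74080) (tt N12562 (iv F74464)) (tt N12476 F74081) (tt N11894 F74082) (tt N11883 (iv D18940)) (tt N13000 D19458) (tt N11899 F74083) (tt N12997 (iv F76145)))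
theorem Q12484 : ∀ i, i < 12484 → P i := stepQ 12483 Q12483 (allL N12483 (tt N12113 F74084) (tt N12476 F74085) (tt N11976 F74086) (tt N11885 F74087) (tt N11981 F74088) (tt N11884 (iv D18941)) (tt N13001 D19459) (tt N11984 F74089) (tt N12998 (iv F76151)))
theorem Q12485 : ∀ i, i < 12485 → P i := stepQ 12484 Q12484 (allL N12484 (tt N12950 (iv F75975)) (tt N13000 (iv F76155)) (tt N11886 F74090) (tt N13001 (iv F76162)) (tt N11896 F74091) (tt N12996 (iv F76138)) (tt N11885 (iv D18942)) (tt N11902 F74092) (tt N12999 (iv F76154)))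
theorem Q12486 : ∀ i, i < 12486 → P i := stepQ 12485 Q12485 (allL N12485 (tt N11888 F74093) (tt N12951 (iv F75981)) (tt N12274 F74094) (tt N13002 D19460) (tt N11887 (iv D18943)) (tt N13003 D19461) (tt N12515 (iv F74207)) (tt N12764 (iv F75294)) (tt N11892 F74095))
theorem Q12487 : ∀ i, i < 12487 → P i := stepQ 12486 Q12486 (allL N12486 (tt N13002 (iv F76166)) (tt N11889 F74096) (tt N12290 F74097) (tt N11888 (iv D18944)) (tt N11907 F74098) (tt N13004 D19462) (tt N12587 (iv F74584)) (tt N13005 D19463) (tt N11893 F74099))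
theorem Q12488 : ∀ i, i < 12488 → P i := stepQ 12487 Q12487 (allL N12487 (tt N13003 (iv F76170)) (tt N11890 F74100) (tt N12586 (iv F74577)) (tt N13004 (iv F76176)) (tt N12997 (iv F76144)) (tt N11888 (iv D18945)) (tt N13006 D19464) (tt N12778 (iv F75354)) (tt N11894 F74101))
theorem Q12489 : ∀ i, i < 12489 → P i := stepQ 12488 Q12488 (allL N12488 (tt N12954 (iv F75989)) (tt N13004 (iv F76174)) (tt N12269 F74102) (tt N11890 F74103) (tt N12272 F74104) (tt N11889 (iv D18946)) (tt N13007 D19465) (tt N13008 D19466) (tt N11895 F74105))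
theorem Q12490 : ∀ i, i < 12490 → P i := stepQ 12489 Q12489 (allL N12489 (tt N12811 (iv F75487)) (tt N13005 (iv F76179)) (tt N12263 F74106) (tt N12991 (iv F76125)) (tt N11908 F74107) (tt N13008 (iv F76190)) (tt N12724 (iv F75140)) (tt N11889 (iv D18947)) (tt N12697 (iv F75030)))
theorem Q12491 : ∀ i, i < 12491 → P i := stepQ 12490 Q12490 (allL N12490 (tt N12955 (iv F75994)) (tt N13006 (iv F76182)) (tt N11891 F74108) (tt N13007 (iv F76185)) (tt N12999 (iv F76153)) (tt N12891 (iv F75789)) (tt N11890 (iv D18948)) (tt N12992 (iv F76128)) (tt N11896 F74109))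
theorem Q12492 : ∀ i, i < 12492 → P i := stepQ 12491 Q12491 (allL N12491 (tt N11893 F74110) (tt N12956 (iv F75998)) (tt N12976 (iv F76073)) (tt N11892 (iv D18949)) (tt N11909 F74111) (tt N13009 D19467) (tt N12644 (iv F74833)) (tt N12699 (iv F75035)) (tt N13002 (iv F76169)))
theorem Q12493 : ∀ i, i < 12493 → P i := stepQ 12492 Q12492 (allL N12492 (tt N11894 F74112) (tt N12944 (iv F75954)) (tt N12642 (iv F74823)) (tt N13009 (iv F76192)) (tt N12561 (iv F74460)) (tt N11892 (iv D18950)) (tt N13010 D19468) (tt N11903 F74113) (tt N13003 (iv F76173)))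
theorem Q12494 : ∀ i, i < 12494 → P i := stepQ 12493 Q12493 (allL N12493 (tt N13009 (iv F76191)) (tt N11895 F74114) (tt N12977 (iv F76078)) (tt N11894 F74115) (tt N12805 (iv F75464)) (tt N11893 (iv D18951)) (tt N13011 D19469) (tt N12702 (iv F75044)) (tt N13004 (iv F76178)))
theorem Q12495 : ∀ i, i < 12495 → P i := stepQ 12494 Q12494 (allL N12494 (tt N13010 (iv F76193)) (tt N11896 F74116) (tt N12746 (iv F75213)) (tt N13011 (iv F76196)) (tt N13000 (iv F76157)) (tt N12893 (iv F75798)) (tt N11894 (iv D18952)) (tt N11904 F74117) (tt N13006 (iv F76183)))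
theorem Q12496 : ∀ i, i < 12496 → P i := stepQ 12495 Q12495 (allL N12495 (tt N12959 (iv F76008)) (tt N13011 (iv F76195)) (tt N12370 F74118) (tt N11896 F74119) (tt N12806 (iv F75468)) (tt N12894 (iv F75803)) (tt N11895 (iv D18953)) (tt N12704 (iv F75048)) (tt N13007 (iv F76187)))
theorem Q12497 : ∀ i, i < 12497 → P i := stepQ 12496 Q12496 (allL N12496 (tt N12606 (iv F74668)) (tt N12571 (iv F74503)) (tt N11898 F74120) (tt N12713 (iv F75090)) (tt N12573 (iv F74516)) (tt N11902 F74121) (tt N11897 (iv D18954)) (tt N12996 (iv F76139)) (tt N12662 (iv F74911)))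
theorem Q12498 : ∀ i, i < 12498 → P i := stepQ 12497 Q12497 (allL N12497 (tt N12560 (iv F74451)) (tt N11902 F74122) (tt N12570 (iv F74497)) (tt N12556 (iv F74432)) (tt N11904 F74123) (tt N12571 (iv F74506)) (tt N11899 (iv D18955)) (tt N13000 (iv F76158)) (tt N12782 (iv F75366)))
theorem Q12499 : ∀ i, i < 12499 → P i := stepQ 12498 Q12498 (allL N12498 (tt N12712 (iv F75081)) (tt N12556 (iv F74430)) (tt N12548 (iv F74380)) (tt N11902 F74124) (tt N12552 (iv F74407)) (tt N12713 (iv F75092)) (tt N11900 (iv D18956)) (tt N13012 D19470) (tt N12754 (iv F75249)))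
theorem Q12500 : ∀ i, i < 12500 → P i := stepQ 12499 Q12499 (allL N12499 (tt N11959 F74125) (tt N12140 F74126) (tt N11958 F74127) (tt N11984 F74128) (tt N12138 F74129) (tt N11901 F74130) (tt N13012 (iv F76203)) (tt N11900 (iv D18957)) (tt N12249 (iv F74131)))
theorem Q12501 : ∀ i, i < 12501 → P i := stepQ 12500 Q12500 (allL N12500 (tt N11904 F74132) (tt N12943 (iv F75951)) (tt N12650 (iv F74854)) (tt N12706 (iv F75055)) (tt N12560 (iv F74455)) (tt N12653 (iv F74874)) (tt N11903 (iv D18958)) (tt N13010 (iv F76194)) (tt N12769 (iv F75316)))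
theorem Q12502 : ∀ i, i < 12502 → P i := stepQ 12501 Q12501 (allL N12501 (tt N11907 F74133) (tt N12960 (iv F76015)) (tt N12289 F74134) (tt N11906 (iv D18959)) (tt N13002 (iv F76168)) (tt N12270 F74135) (tt N12521 (iv F74238)) (tt N13013 D19471) (tt N11909 F74136))
theorem Q12503 : ∀ i, i < 12503 → P i := stepQ 12502 Q12502 (allL N12502 (tt N13013 (iv F76205)) (tt N11908 F74137) (tt N12277 F74138) (tt N12502 F74139) (tt N13005 (iv F76181)) (tt N12266 F74140) (tt N12593 (iv F74609)) (tt N11907 (iv D18960)) (tt N12709 (iv F75069)))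
theorem Q12504 : ∀ i, i < 12504 → P i := stepQ 12503 Q12503 (allL N12503 (tt N11914 F74141) (tt N12187 F74142) (tt N11911 F74143) (tt N13014 D19472) (tt N11910 (iv D18961)) (tt N13015 D19473) (tt N12242 F74144) (tt N11935 F74145) (tt N12461 F74146))
theorem Q12505 : ∀ i, i < 12505 → P i := stepQ 12504 Q12504 (allL N12504 (tt N11915 F74147) (tt N11994 F74148) (tt N13015 (iv F76218)) (tt N12464 F74149) (tt N12152 F74150) (tt N11911 (iv D18962)) (tt N13016 D19474) (tt N11936 F74151) (tt N12462 F74152))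
theorem Q12506 : ∀ i, i < 12506 → P i := stepQ 12505 Q12505 (allL N12505 (tt N12439 F74153) (tt N11912 (iv D18963)) (tt N11920 F74154) (tt N12505 F74155) (tt N13017 D19475) (tt N12395 F74156) (tt N12093 F74157) (tt N12238 F74158) (tt N12056 F74159))
theorem Q12507 : ∀ i, i < 12507 → P i := stepQ 12506 Q12506 (allL N12506 (tt N12463 F74160) (tt N13017 (iv F76230)) (tt N11913 F74161) (tt N13018 D19476) (tt N11912 (iv D18964)) (tt N13019 D19477) (tt N12094 F74162) (tt N12420 F74163) (tt N12057 F74164))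
theorem Q12508 : ∀ i, i < 12508 → P i := stepQ 12507 Q12507 (allL N12507 (tt N12464 F74165) (tt N11922 F74166) (tt N13019 (iv F76241)) (tt N11915 F74167) (tt N12397 F74168) (tt N11913 (iv D18965)) (tt N13020 D19478) (tt N12421 F74169) (tt N12058 F74170))
theorem Q12509 : ∀ i, i < 12509 → P i := stepQ 12508 Q12508 (allL N12508 (tt N13014 (iv F76209)) (tt N12376 F74171) (tt N13018 (iv F76236)) (tt N11914 (iv D18966)) (tt N12508 F74172) (tt N13021 D19479) (tt N12796 (iv F75423)) (tt N13022 D19480) (tt N12632 (iv F74772)))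
theorem Q12510 : ∀ i, i < 12510 → P i := stepQ 12509 Q12509 (allL N12509 (tt N13015 (iv F76216)) (tt N12377 F74173) (tt N11915 F74174) (tt N13021 (iv F76253)) (tt N12159 F74175) (tt N11914 (iv D18967)) (tt N13023 D19481) (tt N11940 F74176) (tt N12633 (iv F74777)))
theorem Q12511 : ∀ i, i < 12511 → P i := stepQ 12510 Q12510 (allL N12510 (tt N13016 (iv F76222)) (tt N11923 F74177) (tt N13023 (iv F76260)) (tt N13020 (iv F76247)) (tt N12160 F74178) (tt N12798 (iv F75436)) (tt N11915 (iv D18968)) (tt N11941 F74179) (tt N12634 (iv F74782)))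
theorem Q12512 : ∀ i, i < 12512 → P i := stepQ 12511 Q12511 (allL N12511 (tt N12440 F74180) (tt N11916 (iv D18969)) (tt N12238 F74181) (tt N12511 F74182) (tt N13024 D19482) (tt N12404 F74183) (tt N12036 F74184) (tt N11920 F74185) (tt N12013 F74186))
theorem Q12513 : ∀ i, i < 12513 → P i := stepQ 12512 Q12512 (allL N12512 (tt N12001 F74187) (tt N13024 (iv F76264)) (tt N11917 F74188) (tt N13025 D19483) (tt N11916 (iv D18970)) (tt N13026 D19484) (tt N12037 F74189) (tt N11921 F74190) (tt N12014 F74191))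
theorem Q12514 : ∀ i, i < 12514 → P i := stepQ 12513 Q12513 (allL N12513 (tt N12002 F74192) (tt N12421 F74193) (tt N13026 (iv F76276)) (tt N11948 F74194) (tt N12406 F74195) (tt N11917 (iv D18971)) (tt N13027 D19485) (tt N11922 F74196) (tt N12015 F74197))
theorem Q12515 : ∀ i, i < 12515 → P i := stepQ 12514 Q12514 (allL N12514 (tt N12337 F74198) (tt N11918 (iv D18972)) (tt N12395 F74199) (tt N11924 F74200) (tt N13028 D19486) (tt N11920 F74201) (tt N12424 F74202) (tt N12404 F74203) (tt N12063 F74204))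
theorem Q12516 : ∀ i, i < 12516 → P i := stepQ 12515 Q12515 (allL N12515 (tt N12004 F74205) (tt N13028 (iv F76288)) (tt N11919 F74206) (tt N13029 D19487) (tt N11918 (iv D18973)) (tt N13030 D19488) (tt N12485 F74207) (tt N12405 F74208) (tt N12064 F74209))
theorem Q12517 : ∀ i, i < 12517 → P i := stepQ 12516 Q12516 (allL N12516 (tt N12005 F74210) (tt N12397 F74211) (tt N13030 (iv F76299)) (tt N12165 F74212) (tt N11922 F74213) (tt N11919 (iv D18974)) (tt N13031 D19489) (tt N12406 F74214) (tt N12065 F74215))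
theorem Q12518 : ∀ i, i < 12518 → P i := stepQ 12517 Q12517 (allL N12517 (tt N11920 (iv D18975)) (tt N12006 F74216) (tt N12439 F74217) (tt N11926 F74218) (tt N13032 D19490) (tt N12337 F74219) (tt N12115 F74220) (tt N12440 F74221) (tt N12066 F74222))
theorem Q12519 : ∀ i, i < 12519 → P i := stepQ 12518 Q12518 (allL N12518 (tt N13032 (iv F76309)) (tt N11921 F74223) (tt N13017 (iv F76231)) (tt N12386 F74224) (tt N11920 (iv D18976)) (tt N13033 D19491) (tt N12116 F74225) (tt N13024 (iv F76267)) (tt N12067 F74226))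
theorem Q12520 : ∀ i, i < 12520 → P i := stepQ 12519 Q12519 (allL N12519 (tt N12008 F74227) (tt N13033 (iv F76316)) (tt N11922 F74228) (tt N12387 F74229) (tt N13030 (iv F76300)) (tt N11921 (iv D18977)) (tt N13034 D19492) (tt N13026 (iv F76278)) (tt N12068 F74230))
theorem Q12521 : ∀ i, i < 12521 → P i := stepQ 12520 Q12520 (allL N12520 (tt N12009 F74231) (tt N13020 (iv F76246)) (tt N13034 (iv F76320)) (tt N11923 F74232) (tt N13031 (iv F76306)) (tt N12119 F74233) (tt N11922 (iv D18978)) (tt N13027 (iv F76285)) (tt N12069 F74234))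
theorem Q12522 : ∀ i, i < 12522 → P i := stepQ 12521 Q12521 (allL N12521 (tt N12010 F74235) (tt N12830 (iv F75563)) (tt N12172 F74236) (tt N11925 (iv D18979)) (tt N13029 (iv F76295)) (tt N12391 F74237) (tt N12501 F74238) (tt N13035 D19493) (tt N12130 F74239))
theorem Q12523 : ∀ i, i < 12523 → P i := stepQ 12522 Q12522 (allL N12522 (tt N12011 F74240) (tt N12190 F74241) (tt N12019 F74242) (tt N12141 F74243) (tt N11934 F74244) (tt N12173 F74245) (tt N11927 (iv D18980)) (tt N12803 (iv F75454)) (tt N11957 F74246))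
theorem Q12524 : ∀ i, i < 12524 → P i := stepQ 12523 Q12523 (allL N12523 (tt N12249 F74247) (tt N12176 F74248) (tt N11929 F74249) (tt N12046 F74250) (tt N12189 F74251) (tt N11928 (iv D18981)) (tt N13036 D19494) (tt N12797 (iv F75430)) (tt N11959 F74252))
theorem Q12525 : ∀ i, i < 12525 → P i := stepQ 12524 Q12524 (allL N12524 (tt N12250 F74253) (tt N11934 F74254) (tt N13036 (iv F76333)) (tt N12201 F74255) (tt N12190 F74256) (tt N11941 F74257) (tt N11929 (iv D18982)) (tt N12798 (iv F75437)) (tt N11960 F74258))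
theorem Q12526 : ∀ i, i < 12526 → P i := stepQ 12525 Q12525 (allL N12525 (tt N12014 F74259) (tt N12308 F74260) (tt N11931 F74261) (tt N13037 D19495) (tt N11930 (iv D18983)) (tt N13038 D19496) (tt N11947 F74262) (tt N11932 F74263) (tt N12001 F74264))
theorem Q12527 : ∀ i, i < 12527 → P i := stepQ 12526 Q12526 (allL N12526 (tt N12015 F74265) (tt N12198 F74266) (tt N13038 (iv F76347)) (tt N12038 F74267) (tt N12192 F74268) (tt N11931 (iv D18984)) (tt N13039 D19497) (tt N11933 F74269) (tt N12002 F74270))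
theorem Q12528 : ∀ i, i < 12528 → P i := stepQ 12527 Q12527 (allL N12527 (tt N12017 F74271) (tt N12315 F74272) (tt N11933 F74273) (tt N12303 F74274) (tt N12193 F74275) (tt N11932 (iv D18985)) (tt N13040 D19498) (tt N13038 (iv F76349)) (tt N11961 F74276))
theorem Q12529 : ∀ i, i < 12529 → P i := stepQ 12528 Q12528 (allL N12528 (tt N12018 F74277) (tt N12201 F74278) (tt N13040 (iv F76360)) (tt N11934 F74279) (tt N12194 F74280) (tt N11953 F74281) (tt N11933 (iv D18986)) (tt N13039 (iv F76356)) (tt N11962 F74282))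
theorem Q12530 : ∀ i, i < 12530 → P i := stepQ 12529 Q12529 (allL N12529 (tt N11940 F74283) (tt N12189 F74284) (tt N11936 F74285) (tt N12220 F74286) (tt N12176 F74287) (tt N11935 (iv D18987)) (tt N13041 D19499) (tt N13015 (iv F76220)) (tt N11965 F74288))
theorem Q12531 : ∀ i, i < 12531 → P i := stepQ 12530 Q12530 (allL N12530 (tt N11941 F74289) (tt N12019 F74290) (tt N13041 (iv F76367)) (tt N12331 F74291) (tt N12177 F74292) (tt N12250 F74293) (tt N11936 (iv D18988)) (tt N13016 (iv F76227)) (tt N11966 F74294))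
theorem Q12532 : ∀ i, i < 12532 → P i := stepQ 12531 Q12531 (allL N12531 (tt N12327 F74295) (tt N11948 F74296) (tt N12320 F74297) (tt N12421 F74298) (tt N12227 F74299) (tt N11937 (iv D18989)) (tt N13042 D19500) (tt N11938 F74300) (tt N12419 F74301))
theorem Q12533 : ∀ i, i < 12533 → P i := stepQ 12532 Q12532 (allL N12532 (tt N12331 F74302) (tt N11953 F74303) (tt N12324 F74304) (tt N11941 F74305) (tt N12236 F74306) (tt N12201 F74307) (tt N11938 (iv D18990)) (tt N13042 (iv F76378)) (tt N11970 F74308))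
theorem Q12534 : ∀ i, i < 12534 → P i := stepQ 12533 Q12533 (allL N12533 (tt N12220 F74309) (tt N12392 F74310) (tt N12044 F74311) (tt N11940 F74312) (tt N12206 F74313) (tt N11939 (iv D18991)) (tt N13043 D19501) (tt N13044 D19502) (tt N11971 F74314))
theorem Q12535 : ∀ i, i < 12535 → P i := stepQ 12534 Q12534 (allL N12534 (tt N12213 F74315) (tt N12393 F74316) (tt N12030 F74317) (tt N13022 (iv F76256)) (tt N11989 F74318) (tt N13044 (iv F76391)) (tt N12034 F74319) (tt N11939 (iv D18992)) (tt N12607 (iv F74676)))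
theorem Q12536 : ∀ i, i < 12536 → P i := stepQ 12535 Q12535 (allL N12535 (tt N13041 (iv F76365)) (tt N12394 F74320) (tt N11941 F74321) (tt N13043 (iv F76383)) (tt N12180 F74322) (tt N13036 (iv F76336)) (tt N11940 (iv D18993)) (tt N13023 (iv F76262)) (tt N11973 F74323))
theorem Q12537 : ∀ i, i < 12537 → P i := stepQ 12536 Q12536 (allL N12536 (tt N12034 F74324) (tt N12080 F74325) (tt N11943 F74326) (tt N13045 D19503) (tt N11942 (iv D18994)) (tt N13046 D19504) (tt N12213 F74327) (tt N11949 F74328) (tt N12770 (iv F75321)))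
theorem Q12538 : ∀ i, i < 12538 → P i := stepQ 12537 Q12537 (allL N12537 (tt N12035 F74329) (tt N12227 F74330) (tt N13046 (iv F76399)) (tt N12773 (iv F75336)) (tt N11948 F74331) (tt N11943 (iv D18995)) (tt N13047 D19505) (tt N11950 F74332) (tt N12771 (iv F75327)))
theorem Q12539 : ∀ i, i < 12539 → P i := stepQ 12538 Q12538 (allL N12538 (tt N12037 F74333) (tt N12663 (iv F74912)) (tt N11945 F74334) (tt N13048 D19506) (tt N11944 (iv D18996)) (tt N13049 D19507) (tt N12001 F74335) (tt N11977 F74336) (tt N11947 F74337))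
theorem Q12540 : ∀ i, i < 12540 → P i := stepQ 12539 Q12539 (allL N12539 (tt N12038 F74338) (tt N12419 F74339) (tt N13049 (iv F76414)) (tt N12015 F74340) (tt N12771 (iv F75325)) (tt N11945 (iv D18997)) (tt N13050 D19508) (tt N11978 F74341) (tt N11948 F74342))
theorem Q12541 : ∀ i, i < 12541 → P i := stepQ 12540 Q12540 (allL N12540 (tt N12091 F74343) (tt N11947 F74344) (tt N12077 F74345) (tt N13051 D19509) (tt N11946 (iv D18998)) (tt N13052 D19510) (tt N12308 F74346) (tt N11951 F74347) (tt N12663 (iv F74916)))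
theorem Q12542 : ∀ i, i < 12542 → P i := stepQ 12541 Q12541 (allL N12541 (tt N12041 F74348) (tt N13051 (iv F76424)) (tt N13025 (iv F76270)) (tt N11947 (iv D18999)) (tt N12541 F74349) (tt N13053 D19511) (tt N13037 (iv F76342)) (tt N12399 F74350) (tt N13048 (iv F76412)))
theorem Q12543 : ∀ i, i < 12543 → P i := stepQ 12542 Q12542 (allL N12542 (tt N12042 F74351) (tt N13052 (iv F76429)) (tt N11948 F74352) (tt N13053 (iv F76434)) (tt N13046 (iv F76400)) (tt N11947 (iv D19000)) (tt N13054 D19512) (tt N11952 F74353) (tt N13049 (iv F76416)))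
theorem Q12544 : ∀ i, i < 12544 → P i := stepQ 12543 Q12543 (allL N12543 (tt N12043 F74354) (tt N13042 (iv F76373)) (tt N13054 (iv F76437)) (tt N13027 (iv F76282)) (tt N13047 (iv F76404)) (tt N13039 (iv F76355)) (tt N11948 (iv D19001)) (tt N11953 F74355) (tt N13050 (iv F76422)))
theorem Q12545 : ∀ i, i < 12545 → P i := stepQ 12544 Q12544 (allL N12544 (tt N12046 F74356) (tt N12083 F74357) (tt N11950 F74358) (tt N12249 F74359) (tt N11952 F74360) (tt N11949 (iv D19002)) (tt N13055 D19513) (tt N13046 (iv F76401)) (tt N11984 F74361))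
theorem Q12546 : ∀ i, i < 12546 → P i := stepQ 12545 Q12545 (allL N12545 (tt N12047 F74362) (tt N12236 F74363) (tt N13055 (iv F76441)) (tt N12186 F74364) (tt N11953 F74365) (tt N12221 F74366) (tt N11950 (iv D19003)) (tt N13047 (iv F76406)) (tt N11985 F74367))
theorem Q12547 : ∀ i, i < 12547 → P i := stepQ 12546 Q12546 (allL N12546 (tt N12103 F74368) (tt N11952 F74369) (tt N12082 F74370) (tt N12402 F74371) (tt N12083 F74372) (tt N11951 (iv D19004)) (tt N13056 D19514) (tt N13052 (iv F76432)) (tt N11987 F74373))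
theorem Q12548 : ∀ i, i < 12548 → P i := stepQ 12547 Q12547 (allL N12547 (tt N12050 F74374) (tt N13056 (iv F76447)) (tt N11953 F74375) (tt N12403 F74376) (tt N13055 (iv F76443)) (tt N13040 (iv F76363)) (tt N11952 (iv D19005)) (tt N13054 (iv F76438)) (tt N11988 F74377))
theorem Q12549 : ∀ i, i < 12549 → P i := stepQ 12548 Q12548 (allL N12548 (tt N12139 F74378) (tt N11957 F74379) (tt N12498 F74380) (tt N12173 F74381) (tt N11960 F74382) (tt N12141 F74383) (tt N11954 (iv D19006)) (tt N12551 (iv F74402)) (tt N12190 F74384))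
theorem Q12550 : ∀ i, i < 12550 → P i := stepQ 12549 Q12549 (allL N12549 (tt N12053 F74385) (tt N12249 F74386) (tt N11956 F74387) (tt N12083 F74388) (tt N12174 F74389) (tt N11955 (iv D19007)) (tt N13057 D19515) (tt N12983 (iv F76103)) (tt N12140 F74390))
theorem Q12551 : ∀ i, i < 12551 → P i := stepQ 12550 Q12550 (allL N12550 (tt N12054 F74391) (tt N12173 F74392) (tt N13057 (iv F76455)) (tt N11957 F74393) (tt N12175 F74394) (tt N12190 F74395) (tt N11956 (iv D19008)) (tt N12984 (iv F76109)) (tt N12141 F74396))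
theorem Q12552 : ∀ i, i < 12552 → P i := stepQ 12551 Q12551 (allL N12551 (tt N11960 F74397) (tt N12055 F74398) (tt N13012 (iv F76199)) (tt N12237 F74399) (tt N12139 F74400) (tt N11966 F74401) (tt N11958 (iv D19009)) (tt N12548 F74402) (tt N12250 F74403))
theorem Q12553 : ∀ i, i < 12553 → P i := stepQ 12552 Q12552 (allL N12552 (tt N13012 (iv F76197)) (tt N12208 F74404) (tt N11960 F74405) (tt N12127 F74406) (tt N12498 F74407) (tt N11973 F74408) (tt N11959 (iv D19010)) (tt N12712 (iv F75086)) (tt N13036 (iv F76337)))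
theorem Q12554 : ∀ i, i < 12554 → P i := stepQ 12553 Q12553 (allL N12553 (tt N12076 F74409) (tt N12361 F74410) (tt N11962 F74411) (tt N12346 F74412) (tt N12362 F74413) (tt N11988 F74414) (tt N11961 (iv D19011)) (tt N12792 (iv F75407)) (tt N13040 (iv F76364)))
theorem Q12555 : ∀ i, i < 12555 → P i := stepQ 12554 Q12554 (allL N12554 (tt N11968 F74415) (tt N12081 F74416) (tt N12227 F74417) (tt N12253 F74418) (tt N12320 F74419) (tt N11963 (iv D19012)) (tt N13058 D19516) (tt N11964 F74420) (tt N12252 F74421))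
theorem Q12556 : ∀ i, i < 12556 → P i := stepQ 12555 Q12555 (allL N12555 (tt N11970 F74422) (tt N12084 F74423) (tt N12236 F74424) (tt N11966 F74425) (tt N12324 F74426) (tt N12237 F74427) (tt N11964 (iv D19013)) (tt N13058 (iv F76466)) (tt N12331 F74428))
theorem Q12557 : ∀ i, i < 12557 → P i := stepQ 12556 Q12556 (allL N12556 (tt N11973 F74429) (tt N12498 F74430) (tt N11966 F74431) (tt N12497 F74432) (tt N12208 F74433) (tt N13012 (iv F76202)) (tt N11965 (iv D19014)) (tt N12713 (iv F75093)) (tt N13041 (iv F76371)))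
theorem Q12558 : ∀ i, i < 12558 → P i := stepQ 12557 Q12557 (allL N12557 (tt N12320 F74434) (tt N11976 F74435) (tt N12327 F74436) (tt N12563 (iv F74469)) (tt N11968 F74437) (tt N11967 (iv D19015)) (tt N13059 D19517) (tt N11969 F74438) (tt N12474 F74439))
theorem Q12559 : ∀ i, i < 12559 → P i := stepQ 12558 Q12558 (allL N12558 (tt N13058 (iv F76460)) (tt N11982 F74440) (tt N12365 F74441) (tt N12574 (iv F74520)) (tt N13059 (iv F76471)) (tt N12367 F74442) (tt N11968 (iv D19016)) (tt N11970 F74443) (tt N12895 (iv F75810)))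
theorem Q12560 : ∀ i, i < 12560 → P i := stepQ 12559 Q12559 (allL N12559 (tt N12324 F74444) (tt N11985 F74445) (tt N12331 F74446) (tt N12221 F74447) (tt N11970 F74448) (tt N12186 F74449) (tt N11969 (iv D19017)) (tt N13059 (iv F76473)) (tt N12236 F74450))
theorem Q12561 : ∀ i, i < 12561 → P i := stepQ 12560 Q12560 (allL N12560 (tt N12497 F74451) (tt N12416 F74452) (tt N12125 F74453) (tt N11973 F74454) (tt N12500 F74455) (tt N12127 F74456) (tt N11971 (iv D19018)) (tt N13060 D19518) (tt N13043 (iv F76386)))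
theorem Q12562 : ∀ i, i < 12562 → P i := stepQ 12561 Q12561 (allL N12561 (tt N12482 F74457) (tt N12417 F74458) (tt N12108 F74459) (tt N12603 (iv F74656)) (tt N12492 F74460) (tt N11972 F74461) (tt N13060 (iv F76480)) (tt N11971 (iv D19019)) (tt N12865 (iv F75678)))
theorem Q12563 : ∀ i, i < 12563 → P i := stepQ 12562 Q12562 (allL N12562 (tt N12108 F74462) (tt N12183 F74463) (tt N12482 F74464) (tt N12748 (iv F75223)) (tt N12178 F74465) (tt N11974 (iv D19020)) (tt N13061 D19519) (tt N11983 F74466) (tt N12747 (iv F75219)))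
theorem Q12564 : ∀ i, i < 12564 → P i := stepQ 12563 Q12563 (allL N12563 (tt N12111 F74467) (tt N12474 F74468) (tt N12998 (iv F76148)) (tt N12557 F74469) (tt N11978 F74470) (tt N11975 (iv D19021)) (tt N13062 D19520) (tt N12771 (iv F75326)) (tt N11976 F74471))
theorem Q12565 : ∀ i, i < 12565 → P i := stepQ 12564 Q12564 (allL N12564 (tt N12114 F74472) (tt N13059 (iv F76469)) (tt N13001 (iv F76161)) (tt N12995 (iv F76134)) (tt N11982 F74473) (tt N13061 (iv F76485)) (tt N11976 (iv D19022)) (tt N11985 F74474) (tt N13062 (iv F76491)))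
theorem Q12566 : ∀ i, i < 12566 → P i := stepQ 12565 Q12565 (allL N12565 (tt N12118 F74475) (tt N12885 (iv F75761)) (tt N11978 F74476) (tt N12272 F74477) (tt N12998 (iv F76150)) (tt N11977 (iv D19023)) (tt N13063 D19521) (tt N13049 (iv F76415)) (tt N11981 F74478))
theorem Q12567 : ∀ i, i < 12567 → P i := stepQ 12566 Q12566 (allL N12566 (tt N12119 F74479) (tt N12895 (iv F75806)) (tt N13063 (iv F76493)) (tt N11992 F74480) (tt N13062 (iv F76490)) (tt N12009 F74481) (tt N11978 (iv D19024)) (tt N13050 (iv F76421)) (tt N11982 F74482))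
theorem Q12568 : ∀ i, i < 12568 → P i := stepQ 12567 Q12567 (allL N12567 (tt N11980 F74483) (tt N12120 F74484) (tt N12020 F74485) (tt N12804 (iv F75459)) (tt N11979 (iv D19025)) (tt N13064 D19522) (tt N12335 F74486) (tt N11986 F74487) (tt N12873 (iv F75714)))
theorem Q12569 : ∀ i, i < 12569 → P i := stepQ 12568 Q12568 (allL N12568 (tt N13064 (iv F76497)) (tt N11981 F74488) (tt N12349 F74489) (tt N12805 (iv F75463)) (tt N12476 F74490) (tt N11980 (iv D19026)) (tt N13065 D19523) (tt N11987 F74491) (tt N12885 (iv F75765)))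
theorem Q12570 : ∀ i, i < 12570 → P i := stepQ 12569 Q12569 (allL N12569 (tt N12124 F74492) (tt N13065 (iv F76502)) (tt N11982 F74493) (tt N12806 (iv F75467)) (tt N13001 (iv F76163)) (tt N12792 (iv F75406)) (tt N11981 (iv D19027)) (tt N11988 F74494) (tt N13063 (iv F76496)))
theorem Q12571 : ∀ i, i < 12571 → P i := stepQ 12570 Q12570 (allL N12570 (tt N12125 F74495) (tt N12186 F74496) (tt N12497 F74497) (tt N12236 F74498) (tt N12179 F74499) (tt N11985 F74500) (tt N11983 (iv D19028)) (tt N13061 (iv F76486)) (tt N12221 F74501))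
theorem Q12572 : ∀ i, i < 12572 → P i := stepQ 12571 Q12571 (allL N12571 (tt N12127 F74502) (tt N12496 F74503) (tt N11985 F74504) (tt N13012 (iv F76200)) (tt N11988 F74505) (tt N12497 F74506) (tt N11984 (iv D19029)) (tt N13001 (iv F76165)) (tt N13055 (iv F76445)))
theorem Q12573 : ∀ i, i < 12573 → P i := stepQ 12572 Q12572 (allL N12572 (tt N11987 F74507) (tt N12128 F74508) (tt N12025 F74509) (tt N12415 F74510) (tt N12026 F74511) (tt N11986 (iv D19030)) (tt N13066 D19524) (tt N13064 (iv F76501)) (tt N12103 F74512))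
theorem Q12574 : ∀ i, i < 12574 → P i := stepQ 12573 Q12573 (allL N12573 (tt N13066 (iv F76507)) (tt N11988 F74513) (tt N12360 F74514) (tt N12435 F74515) (tt N12496 F74516) (tt N12361 F74517) (tt N11987 (iv D19031)) (tt N13065 (iv F76506)) (tt N13056 (iv F76452)))
theorem Q12575 : ∀ i, i < 12575 → P i := stepQ 12574 Q12574 (allL N12574 (tt N12803 (iv F75449)) (tt N12143 F74518) (tt N11997 F74519) (tt N12558 F74520) (tt N11992 F74521) (tt N12239 F74522) (tt N11990 (iv D19032)) (tt N12011 F74523) (tt N12575 (iv F74530)))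
theorem Q12576 : ∀ i, i < 12576 → P i := stepQ 12575 Q12575 (allL N12575 (tt N12254 F74524) (tt N11992 F74525) (tt N12239 F74526) (tt N12895 (iv F75808)) (tt N12143 F74527) (tt N11997 F74528) (tt N11991 (iv D19033)) (tt N12012 F74529) (tt N12574 F74530))
theorem Q12577 : ∀ i, i < 12577 → P i := stepQ 12576 Q12576 (allL N12576 (tt N11996 F74531) (tt N12464 F74532) (tt N12228 F74533) (tt N11994 F74534) (tt N12232 F74535) (tt N11993 (iv D19034)) (tt N13067 D19525) (tt N12328 F74536) (tt N12229 F74537))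
theorem Q12578 : ∀ i, i < 12578 → P i := stepQ 12577 Q12577 (allL N12577 (tt N11997 F74538) (tt N13016 (iv F76223)) (tt N12803 (iv F75451)) (tt N13067 (iv F76517)) (tt N12262 F74539) (tt N12254 F74540) (tt N11994 (iv D19035)) (tt N12019 F74541) (tt N12714 (iv F75098)))
theorem Q12579 : ∀ i, i < 12579 → P i := stepQ 12578 Q12578 (allL N12578 (tt N12328 F74542) (tt N12002 F74543) (tt N12321 F74544) (tt N12024 F74545) (tt N12199 F74546) (tt N11995 (iv D19036)) (tt N13068 D19526) (tt N11996 F74547) (tt N12198 F74548))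
theorem Q12580 : ∀ i, i < 12580 → P i := stepQ 12579 Q12579 (allL N12579 (tt N13067 (iv F76514)) (tt N12009 F74549) (tt N12366 F74550) (tt N11997 F74551) (tt N12368 F74552) (tt N12895 (iv F75809)) (tt N11996 (iv D19037)) (tt N13068 (iv F76528)) (tt N12367 F74553))
theorem Q12581 : ∀ i, i < 12581 → P i := stepQ 12580 Q12580 (allL N12580 (tt N12405 F74554) (tt N12310 F74555) (tt N11999 F74556) (tt N13069 D19527) (tt N11998 (iv D19038)) (tt N13070 D19528) (tt N12215 F74557) (tt N12004 F74558) (tt N12191 F74559))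
theorem Q12582 : ∀ i, i < 12582 → P i := stepQ 12581 Q12581 (allL N12581 (tt N12406 F74560) (tt N12199 F74561) (tt N13070 (iv F76537)) (tt N12765 (iv F75298)) (tt N12002 F74562) (tt N11999 (iv D19039)) (tt N13071 D19529) (tt N12005 F74563) (tt N12192 F74564))
theorem Q12583 : ∀ i, i < 12583 → P i := stepQ 12582 Q12582 (allL N12582 (tt N12853 (iv F75638)) (tt N12001 F74565) (tt N12307 F74566) (tt N13072 D19530) (tt N12000 (iv D19040)) (tt N13073 D19531) (tt N12663 (iv F74914)) (tt N12007 F74567) (tt N12308 F74568))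
theorem Q12584 : ∀ i, i < 12584 → P i := stepQ 12583 Q12583 (allL N12583 (tt N13025 (iv F76269)) (tt N13072 (iv F76547)) (tt N12041 F74569) (tt N12001 (iv D19041)) (tt N12583 F74570) (tt N13074 D19532) (tt N13048 (iv F76410)) (tt N12448 F74571) (tt N13037 (iv F76344)))
theorem Q12585 : ∀ i, i < 12585 → P i := stepQ 12584 Q12584 (allL N12584 (tt N13026 (iv F76275)) (tt N13073 (iv F76551)) (tt N12002 F74572) (tt N13074 (iv F76557)) (tt N13070 (iv F76538)) (tt N12001 (iv D19042)) (tt N13075 D19533) (tt N12008 F74573) (tt N13038 (iv F76350)))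
theorem Q12586 : ∀ i, i < 12586 → P i := stepQ 12585 Q12585 (allL N12585 (tt N13027 (iv F76280)) (tt N13068 (iv F76523)) (tt N13075 (iv F76559)) (tt N12043 F74574) (tt N13071 (iv F76543)) (tt N13050 (iv F76420)) (tt N12002 (iv D19043)) (tt N12009 F74575) (tt N13039 (iv F76357)))
theorem Q12587 : ∀ i, i < 12587 → P i := stepQ 12586 Q12586 (allL N12586 (tt N12822 (iv F75529)) (tt N12184 F74576) (tt N12487 F74577) (tt N12288 F74578) (tt N12747 (iv F75218)) (tt N12003 (iv D19044)) (tt N13076 D19534) (tt N12216 F74579) (tt N12178 F74580))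
theorem Q12588 : ∀ i, i < 12588 → P i := stepQ 12587 Q12587 (allL N12587 (tt N13029 (iv F76293)) (tt N12353 F74581) (tt N12291 F74582) (tt N12004 (iv D19045)) (tt N12010 F74583) (tt N13077 D19535) (tt N12486 F74584) (tt N13078 D19536) (tt N12356 F74585))
theorem Q12589 : ∀ i, i < 12589 → P i := stepQ 12588 Q12588 (allL N12588 (tt N13030 (iv F76298)) (tt N12354 F74586) (tt N12005 F74587) (tt N13077 (iv F76569)) (tt N12008 F74588) (tt N12004 (iv D19046)) (tt N13079 D19537) (tt N13070 (iv F76539)) (tt N12357 F74589))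
theorem Q12590 : ∀ i, i < 12590 → P i := stepQ 12589 Q12589 (allL N12589 (tt N13031 (iv F76303)) (tt N12368 F74590) (tt N13079 (iv F76578)) (tt N12293 F74591) (tt N12009 F74592) (tt N13076 (iv F76564)) (tt N12005 (iv D19047)) (tt N13071 (iv F76545)) (tt N12369 F74593))
theorem Q12591 : ∀ i, i < 12591 → P i := stepQ 12590 Q12590 (allL N12590 (tt N12007 F74594) (tt N13032 (iv F76310)) (tt N12334 F74595) (tt N12458 F74596) (tt N12006 (iv D19048)) (tt N13080 D19538) (tt N12873 (iv F75712)) (tt N12853 (iv F75641)) (tt N12335 F74597))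
theorem Q12592 : ∀ i, i < 12592 → P i := stepQ 12591 Q12591 (allL N12591 (tt N13080 (iv F76582)) (tt N12008 F74598) (tt N12350 F74599) (tt N12459 F74600) (tt N12354 F74601) (tt N12007 (iv D19049)) (tt N13081 D19539) (tt N13073 (iv F76554)) (tt N12351 F74602))
theorem Q12593 : ∀ i, i < 12593 → P i := stepQ 12592 Q12592 (allL N12592 (tt N13034 (iv F76319)) (tt N13081 (iv F76587)) (tt N12009 F74603) (tt N12460 F74604) (tt N13079 (iv F76579)) (tt N13063 (iv F76495)) (tt N12008 (iv D19050)) (tt N13075 (iv F76560)) (tt N12792 (iv F75408)))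
theorem Q12594 : ∀ i, i < 12594 → P i := stepQ 12593 Q12593 (allL N12593 (tt N13035 (iv F76324)) (tt N12153 F74605) (tt N12163 F74606) (tt N12593 F74607) (tt N13078 (iv F76574)) (tt N12155 F74608) (tt N12502 F74609) (tt N12010 (iv D19051)) (tt N12379 F74610))
theorem Q12595 : ∀ i, i < 12595 → P i := stepQ 12594 Q12594 (allL N12594 (tt N12413 F74611) (tt N12014 F74612) (tt N12196 F74613) (tt N13082 D19540) (tt N12013 (iv D19052)) (tt N13083 D19541) (tt N12040 F74614) (tt N12016 F74615) (tt N13024 (iv F76268)))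
theorem Q12596 : ∀ i, i < 12596 → P i := stepQ 12595 Q12595 (allL N12595 (tt N13037 (iv F76338)) (tt N13082 (iv F76593)) (tt N13048 (iv F76408)) (tt N12014 (iv D19053)) (tt N12595 F74616) (tt N13084 D19542) (tt N12041 F74617) (tt N12312 F74618) (tt N13025 (iv F76274)))
theorem Q12597 : ∀ i, i < 12597 → P i := stepQ 12596 Q12596 (allL N12596 (tt N13038 (iv F76345)) (tt N13083 (iv F76598)) (tt N12015 F74619) (tt N13084 (iv F76602)) (tt N12409 F74620) (tt N12014 (iv D19054)) (tt N13085 D19543) (tt N12017 F74621) (tt N13026 (iv F76279)))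
theorem Q12598 : ∀ i, i < 12598 → P i := stepQ 12597 Q12597 (allL N12597 (tt N13039 (iv F76351)) (tt N12423 F74622) (tt N13085 (iv F76604)) (tt N13050 (iv F76419)) (tt N12410 F74623) (tt N12043 F74624) (tt N12015 (iv D19055)) (tt N12018 F74625) (tt N13027 (iv F76286)))
theorem Q12599 : ∀ i, i < 12599 → P i := stepQ 12598 Q12598 (allL N12598 (tt N12412 F74626) (tt N12017 F74627) (tt N12195 F74628) (tt N12193 F74629) (tt N12411 F74630) (tt N12016 (iv D19056)) (tt N13086 D19544) (tt N13083 (iv F76601)) (tt N12075 F74631))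
theorem Q12600 : ∀ i, i < 12600 → P i := stepQ 12599 Q12599 (allL N12599 (tt N13040 (iv F76358)) (tt N13086 (iv F76609)) (tt N12018 F74632) (tt N12317 F74633) (tt N12414 F74634) (tt N12050 F74635) (tt N12017 (iv D19057)) (tt N13085 (iv F76607)) (tt N12076 F74636))
theorem Q12601 : ∀ i, i < 12601 → P i := stepQ 12600 Q12600 (allL N12600 (tt N12349 F74637) (tt N12035 F74638) (tt N13064 (iv F76499)) (tt N12875 (iv F75723)) (tt N12024 F74639) (tt N12020 (iv D19058)) (tt N13087 D19545) (tt N12025 F74640) (tt N12874 (iv F75720)))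
theorem Q12602 : ∀ i, i < 12602 → P i := stepQ 12601 Q12601 (allL N12601 (tt N12325 F74641) (tt N12225 F74642) (tt N12022 F74643) (tt N12318 F74644) (tt N12021 (iv D19059)) (tt N13088 D19546) (tt N12420 F74645) (tt N12094 F74646) (tt N12023 F74647))
theorem Q12603 : ∀ i, i < 12603 → P i := stepQ 12602 Q12602 (allL N12602 (tt N12326 F74648) (tt N12038 F74649) (tt N13088 (iv F76622)) (tt N12198 F74650) (tt N12874 (iv F75718)) (tt N12022 (iv D19060)) (tt N13089 D19547) (tt N12095 F74651) (tt N12024 F74652))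
theorem Q12604 : ∀ i, i < 12604 → P i := stepQ 12603 Q12603 (allL N12603 (tt N12476 F74653) (tt N12224 F74654) (tt N12024 F74655) (tt N12561 F74656) (tt N13064 (iv F76500)) (tt N12023 (iv D19061)) (tt N13090 D19548) (tt N12026 F74657) (tt N13088 (iv F76625)))
theorem Q12605 : ∀ i, i < 12605 → P i := stepQ 12604 Q12604 (allL N12604 (tt N12477 F74658) (tt N12043 F74659) (tt N13090 (iv F76634)) (tt N13068 (iv F76525)) (tt N13087 (iv F76617)) (tt N12423 F74660) (tt N12024 (iv D19062)) (tt N12027 F74661) (tt N13089 (iv F76631)))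
theorem Q12606 : ∀ i, i < 12606 → P i := stepQ 12605 Q12605 (allL N12605 (tt N12360 F74662) (tt N12047 F74663) (tt N13066 (iv F76509)) (tt N12316 F74664) (tt N12027 F74665) (tt N12344 F74666) (tt N12025 (iv D19063)) (tt N13087 (iv F76619)) (tt N12104 F74667))
theorem Q12607 : ∀ i, i < 12607 → P i := stepQ 12606 Q12606 (allL N12606 (tt N12496 F74668) (tt N12223 F74669) (tt N12027 F74670) (tt N12142 F74671) (tt N13066 (iv F76511)) (tt N12434 F74672) (tt N12026 (iv D19064)) (tt N13090 (iv F76637)) (tt N12106 F74673))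
theorem Q12608 : ∀ i, i < 12608 → P i := stepQ 12607 Q12607 (allL N12607 (tt N12772 (iv F75328)) (tt N12920 (iv F75891)) (tt N12029 F74674) (tt N13091 D19549) (tt N12028 (iv D19065)) (tt N13092 D19550) (tt N12611 (iv F74692)) (tt N12318 F74675) (tt N12534 F74676))
theorem Q12609 : ∀ i, i < 12609 → P i := stepQ 12608 Q12608 (allL N12608 (tt N12773 (iv F75334)) (tt N12875 (iv F75722)) (tt N13092 (iv F76642)) (tt N12035 F74677) (tt N12765 (iv F75299)) (tt N12029 (iv D19066)) (tt N13093 D19551) (tt N12319 F74678) (tt N12609 (iv F74683)))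
theorem Q12610 : ∀ i, i < 12610 → P i := stepQ 12609 Q12609 (allL N12609 (tt N12214 F74679) (tt N12336 F74680) (tt N13044 (iv F76389)) (tt N12612 (iv F74695)) (tt N12205 F74681) (tt N12030 (iv D19067)) (tt N13094 D19552) (tt N12044 F74682) (tt N12608 F74683))
theorem Q12611 : ∀ i, i < 12611 → P i := stepQ 12610 Q12610 (allL N12610 (tt N12093 F74684) (tt N12031 (iv D19068)) (tt N12115 F74685) (tt N12610 F74686) (tt N13095 D19553) (tt N12036 F74687) (tt N12439 F74688) (tt N12109 F74689) (tt N12033 F74690))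
theorem Q12612 : ∀ i, i < 12612 → P i := stepQ 12611 Q12611 (allL N12611 (tt N12770 (iv F75317)) (tt N13095 (iv F76654)) (tt N12032 F74691) (tt N13096 D19554) (tt N12031 (iv D19069)) (tt N13097 D19555) (tt N12607 F74692) (tt N12110 F74693) (tt N12034 F74694))
theorem Q12613 : ∀ i, i < 12613 → P i := stepQ 12612 Q12612 (allL N12612 (tt N12771 (iv F75322)) (tt N12874 (iv F75716)) (tt N13097 (iv F76664)) (tt N12609 F74695) (tt N12038 F74696) (tt N12032 (iv D19070)) (tt N13098 D19556) (tt N12111 F74697) (tt N12035 F74698))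
theorem Q12614 : ∀ i, i < 12614 → P i := stepQ 12613 Q12613 (allL N12613 (tt N12096 F74699) (tt N12034 F74700) (tt N12120 F74701) (tt N13099 D19557) (tt N12033 (iv D19071)) (tt N13100 D19558) (tt N12393 F74702) (tt N12045 F74703) (tt N13095 (iv F76658)))
theorem Q12615 : ∀ i, i < 12615 → P i := stepQ 12614 Q12614 (allL N12614 (tt N13045 (iv F76392)) (tt N13099 (iv F76674)) (tt N13091 (iv F76638)) (tt N12034 (iv D19072)) (tt N12614 F74704) (tt N13101 D19559) (tt N13022 (iv F76258)) (tt N12796 (iv F75424)) (tt N13096 (iv F76663)))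
theorem Q12616 : ∀ i, i < 12616 → P i := stepQ 12615 Q12615 (allL N12615 (tt N13046 (iv F76397)) (tt N13100 (iv F76679)) (tt N12035 F74705) (tt N13101 (iv F76683)) (tt N12042 F74706) (tt N12034 (iv D19073)) (tt N13102 D19560) (tt N12046 F74707) (tt N13097 (iv F76667)))
theorem Q12617 : ∀ i, i < 12617 → P i := stepQ 12616 Q12616 (allL N12616 (tt N13047 (iv F76402)) (tt N13087 (iv F76616)) (tt N13102 (iv F76684)) (tt N13093 (iv F76645)) (tt N12043 F74708) (tt N13094 (iv F76650)) (tt N12035 (iv D19074)) (tt N12047 F74709) (tt N13098 (iv F76672)))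
theorem Q12618 : ∀ i, i < 12618 → P i := stepQ 12617 Q12617 (allL N12617 (tt N12036 (iv D19075)) (tt N12089 F74710) (tt N12109 F74711) (tt N12617 F74712) (tt N13103 D19561) (tt N12093 F74713) (tt N12440 F74714) (tt N12115 F74715) (tt N12039 F74716))
theorem Q12619 : ∀ i, i < 12619 → P i := stepQ 12618 Q12618 (allL N12618 (tt N13103 (iv F76687)) (tt N12037 F74717) (tt N12225 F74718) (tt N13104 D19562) (tt N12036 (iv D19076)) (tt N13105 D19563) (tt N13024 (iv F76266)) (tt N12116 F74719) (tt N12040 F74720))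
theorem Q12620 : ∀ i, i < 12620 → P i := stepQ 12619 Q12619 (allL N12619 (tt N13048 (iv F76407)) (tt N13104 (iv F76693)) (tt N13037 (iv F76340)) (tt N12037 (iv D19077)) (tt N12619 F74721) (tt N13106 D19564) (tt N13025 (iv F76272)) (tt N13107 D19565) (tt N12041 F74722))
theorem Q12621 : ∀ i, i < 12621 → P i := stepQ 12620 Q12620 (allL N12620 (tt N13049 (iv F76413)) (tt N13105 (iv F76696)) (tt N12038 F74723) (tt N13106 (iv F76700)) (tt N13097 (iv F76665)) (tt N12037 (iv D19078)) (tt N13108 D19566) (tt N12118 F74724) (tt N12042 F74725))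
theorem Q12622 : ∀ i, i < 12622 → P i := stepQ 12621 Q12621 (allL N12621 (tt N13050 (iv F76417)) (tt N13089 (iv F76627)) (tt N13108 (iv F76708)) (tt N13039 (iv F76353)) (tt N13098 (iv F76669)) (tt N13027 (iv F76284)) (tt N12038 (iv D19079)) (tt N12119 F74726) (tt N12043 F74727))
theorem Q12623 : ∀ i, i < 12623 → P i := stepQ 12622 Q12622 (allL N12622 (tt N12040 F74728) (tt N12091 F74729) (tt N12112 F74730) (tt N13109 D19567) (tt N12039 (iv D19080)) (tt N13110 D19568) (tt N12413 F74731) (tt N12048 F74732) (tt N13103 (iv F76692)))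
theorem Q12624 : ∀ i, i < 12624 → P i := stepQ 12623 Q12623 (allL N12623 (tt N13109 (iv F76711)) (tt N12041 F74733) (tt N12937 (iv F75936)) (tt N12040 (iv D19081)) (tt N12623 F74734) (tt N13111 D19569) (tt N13082 (iv F76595)) (tt N12217 F74735) (tt N13104 (iv F76695)))
theorem Q12625 : ∀ i, i < 12625 → P i := stepQ 12624 Q12624 (allL N12624 (tt N13110 (iv F76717)) (tt N12042 F74736) (tt N12224 F74737) (tt N13111 (iv F76723)) (tt N13100 (iv F76681)) (tt N12040 (iv D19082)) (tt N13112 D19570) (tt N12049 F74738) (tt N13105 (iv F76699)))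
theorem Q12626 : ∀ i, i < 12626 → P i := stepQ 12625 Q12625 (allL N12625 (tt N13053 (iv F76433)) (tt N13111 (iv F76722)) (tt N13074 (iv F76556)) (tt N12042 F74739) (tt N13113 D19571) (tt N12041 (iv D19083)) (tt N13114 D19572) (tt N12471 F74740) (tt N13106 (iv F76701)))
theorem Q12627 : ∀ i, i < 12627 → P i := stepQ 12626 Q12626 (allL N12626 (tt N13054 (iv F76436)) (tt N13112 (iv F76725)) (tt N12043 F74741) (tt N13114 (iv F76730)) (tt N13102 (iv F76685)) (tt N13085 (iv F76606)) (tt N12042 (iv D19084)) (tt N12050 F74742) (tt N13108 (iv F76710)))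
theorem Q12628 : ∀ i, i < 12628 → P i := stepQ 12627 Q12627 (allL N12627 (tt N12221 F74743) (tt N12344 F74744) (tt N13043 (iv F76382)) (tt N12324 F74745) (tt N12207 F74746) (tt N12047 F74747) (tt N12044 (iv D19085)) (tt N13094 (iv F76651)) (tt N12125 F74748))
theorem Q12629 : ∀ i, i < 12629 → P i := stepQ 12628 Q12628 (allL N12628 (tt N12105 F74749) (tt N12046 F74750) (tt N12128 F74751) (tt N12176 F74752) (tt N12049 F74753) (tt N12045 (iv D19086)) (tt N13115 D19573) (tt N13100 (iv F76682)) (tt N12126 F74754))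
theorem Q12630 : ∀ i, i < 12630 → P i := stepQ 12629 Q12629 (allL N12629 (tt N13055 (iv F76439)) (tt N13115 (iv F76733)) (tt N12047 F74755) (tt N13036 (iv F76334)) (tt N12050 F74756) (tt N13043 (iv F76385)) (tt N12046 (iv D19087)) (tt N13102 (iv F76686)) (tt N12127 F74757))
theorem Q12631 : ∀ i, i < 12631 → P i := stepQ 12630 Q12630 (allL N12630 (tt N12049 F74758) (tt N12103 F74759) (tt N12126 F74760) (tt N12206 F74761) (tt N12105 F74762) (tt N12048 (iv D19088)) (tt N13116 D19574) (tt N13110 (iv F76721)) (tt N12128 F74763))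
theorem Q12632 : ∀ i, i < 12632 → P i := stepQ 12631 Q12631 (allL N12631 (tt N13116 (iv F76739)) (tt N12050 F74764) (tt N12223 F74765) (tt N12222 F74766) (tt N13115 (iv F76736)) (tt N13086 (iv F76613)) (tt N12049 (iv D19089)) (tt N13112 (iv F76727)) (tt N12129 F74767))
theorem Q12633 : ∀ i, i < 12633 → P i := stepQ 12632 Q12632 (allL N12632 (tt N12982 (iv F76093)) (tt N12158 F74768) (tt N12637 (iv F74795)) (tt N12051 (iv D19090)) (tt N12632 F74769) (tt N13117 D19575) (tt N12246 F74770) (tt N12097 F74771) (tt N12508 F74772))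
theorem Q12634 : ∀ i, i < 12634 → P i := stepQ 12633 Q12633 (allL N12633 (tt N12983 (iv F76099)) (tt N12159 F74773) (tt N12052 F74774) (tt N13117 (iv F76747)) (tt N12377 F74775) (tt N12051 (iv D19091)) (tt N13118 D19576) (tt N12053 F74776) (tt N12509 F74777))
theorem Q12635 : ∀ i, i < 12635 → P i := stepQ 12634 Q12634 (allL N12634 (tt N12984 (iv F76104)) (tt N12137 F74778) (tt N13118 (iv F76751)) (tt N12639 (iv F74805)) (tt N12378 F74779) (tt N12248 F74780) (tt N12052 (iv D19092)) (tt N12054 F74781) (tt N12510 F74782))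
theorem Q12636 : ∀ i, i < 12636 → P i := stepQ 12635 Q12635 (allL N12635 (tt N13057 (iv F76453)) (tt N12180 F74783) (tt N12054 F74784) (tt N12106 F74785) (tt N12394 F74786) (tt N12251 F74787) (tt N12053 (iv D19093)) (tt N13118 (iv F76754)) (tt N12142 F74788))
theorem Q12637 : ∀ i, i < 12637 → P i := stepQ 12636 Q12636 (allL N12636 (tt N12393 F74789) (tt N12057 F74790) (tt N12067 F74791) (tt N13119 D19577) (tt N12056 (iv D19094)) (tt N13120 D19578) (tt N12096 F74792) (tt N12059 F74793) (tt N13017 (iv F76234)))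
theorem Q12638 : ∀ i, i < 12638 → P i := stepQ 12637 Q12637 (allL N12637 (tt N12465 F74794) (tt N13119 (iv F76757)) (tt N12632 F74795) (tt N12057 (iv D19095)) (tt N12637 F74796) (tt N13121 D19579) (tt N12097 F74797) (tt N12246 F74798) (tt N13018 (iv F76239)))
theorem Q12639 : ∀ i, i < 12639 → P i := stepQ 12638 Q12638 (allL N12638 (tt N12466 F74799) (tt N13120 (iv F76762)) (tt N12058 F74800) (tt N13121 (iv F76768)) (tt N12400 F74801) (tt N12057 (iv D19096)) (tt N13122 D19580) (tt N12060 F74802) (tt N13019 (iv F76244)))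
theorem Q12640 : ∀ i, i < 12640 → P i := stepQ 12639 Q12639 (allL N12639 (tt N12467 F74803) (tt N12069 F74804) (tt N13122 (iv F76771)) (tt N12634 F74805) (tt N12401 F74806) (tt N12099 F74807) (tt N12058 (iv D19097)) (tt N12061 F74808) (tt N13020 (iv F76251)))
theorem Q12641 : ∀ i, i < 12641 → P i := stepQ 12640 Q12640 (allL N12640 (tt N12392 F74809) (tt N12060 F74810) (tt N12075 F74811) (tt N12174 F74812) (tt N12402 F74813) (tt N12059 (iv D19098)) (tt N13123 D19581) (tt N13120 (iv F76765)) (tt N12195 F74814))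
theorem Q12642 : ∀ i, i < 12642 → P i := stepQ 12641 Q12641 (allL N12641 (tt N12473 F74815) (tt N13123 (iv F76776)) (tt N12061 F74816) (tt N12251 F74817) (tt N12403 F74818) (tt N12106 F74819) (tt N12060 (iv D19099)) (tt N13122 (iv F76774)) (tt N12434 F74820))
theorem Q12643 : ∀ i, i < 12643 → P i := stepQ 12642 Q12642 (allL N12642 (tt N12178 F74821) (tt N12301 F74822) (tt N12492 F74823) (tt N12825 (iv F75547)) (tt N12108 F74824) (tt N12062 (iv D19100)) (tt N13124 D19582) (tt N12070 F74825) (tt N12822 (iv F75533)))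
theorem Q12644 : ∀ i, i < 12644 → P i := stepQ 12643 Q12643 (allL N12643 (tt N12340 F74826) (tt N12064 F74827) (tt N12398 F74828) (tt N12834 (iv F75574)) (tt N12063 (iv D19101)) (tt N13125 D19583) (tt N12429 F74829) (tt N12071 F74830) (tt N13028 (iv F76292)))
theorem Q12645 : ∀ i, i < 12645 → P i := stepQ 12644 Q12644 (allL N12644 (tt N12356 F74831) (tt N12834 (iv F75573)) (tt N12911 (iv F75861)) (tt N12064 (iv D19102)) (tt N12130 F74832) (tt N13126 D19584) (tt N12491 F74833) (tt N12740 (iv F75191)) (tt N13029 (iv F76297)))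
theorem Q12646 : ∀ i, i < 12646 → P i := stepQ 12645 Q12645 (allL N12645 (tt N12357 F74834) (tt N13125 (iv F76789)) (tt N12065 F74835) (tt N13126 (iv F76794)) (tt N12068 F74836) (tt N12064 (iv D19103)) (tt N13127 D19585) (tt N12073 F74837) (tt N13030 (iv F76302)))
theorem Q12647 : ∀ i, i < 12647 → P i := stepQ 12646 Q12646 (allL N12646 (tt N12369 F74838) (tt N12401 F74839) (tt N13127 (iv F76796)) (tt N12913 (iv F75871)) (tt N12069 F74840) (tt N13124 (iv F76786)) (tt N12065 (iv D19104)) (tt N12074 F74841) (tt N13031 (iv F76308)))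
theorem Q12648 : ∀ i, i < 12648 → P i := stepQ 12647 Q12647 (allL N12647 (tt N12067 F74842) (tt N12335 F74843) (tt N12393 F74844) (tt N12740 (iv F75189)) (tt N12066 (iv D19105)) (tt N13128 D19586) (tt N12120 F74845) (tt N12072 F74846) (tt N13032 (iv F76315)))
theorem Q12649 : ∀ i, i < 12649 → P i := stepQ 12648 Q12648 (allL N12648 (tt N13128 (iv F76800)) (tt N12068 F74847) (tt N13120 (iv F76763)) (tt N12741 (iv F75193)) (tt N13125 (iv F76791)) (tt N12067 (iv D19106)) (tt N13129 D19587) (tt N12075 F74848) (tt N13033 (iv F76318)))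
theorem Q12650 : ∀ i, i < 12650 → P i := stepQ 12649 Q12649 (allL N12649 (tt N12792 (iv F75403)) (tt N13129 (iv F76805)) (tt N12069 F74849) (tt N12742 (iv F75196)) (tt N13127 (iv F76797)) (tt N12124 F74850) (tt N12068 (iv D19107)) (tt N12076 F74851) (tt N13034 (iv F76323)))
theorem Q12651 : ∀ i, i < 12651 → P i := stepQ 12650 Q12650 (allL N12650 (tt N12179 F74852) (tt N12304 F74853) (tt N12500 F74854) (tt N12177 F74855) (tt N12125 F74856) (tt N12074 F74857) (tt N12070 (iv D19108)) (tt N13124 (iv F76787)) (tt N12207 F74858))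
theorem Q12652 : ∀ i, i < 12652 → P i := stepQ 12651 Q12651 (allL N12651 (tt N12345 F74859) (tt N12073 F74860) (tt N12402 F74861) (tt N12343 F74862) (tt N12075 F74863) (tt N12071 (iv D19109)) (tt N13130 D19588) (tt N13125 (iv F76792)) (tt N12411 F74864))
theorem Q12653 : ∀ i, i < 12653 → P i := stepQ 12652 Q12652 (allL N12652 (tt N12075 F74865) (tt N12343 F74866) (tt N12392 F74867) (tt N12073 F74868) (tt N12345 F74869) (tt N12072 (iv D19110)) (tt N13131 D19589) (tt N13128 (iv F76804)) (tt N12412 F74870))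
theorem Q12654 : ∀ i, i < 12654 → P i := stepQ 12653 Q12653 (allL N12653 (tt N12362 F74871) (tt N13130 (iv F76809)) (tt N12074 F74872) (tt N13131 (iv F76818)) (tt N12076 F74873) (tt N12500 F74874) (tt N12073 (iv D19111)) (tt N13127 (iv F76799)) (tt N12414 F74875))
theorem Q12655 : ∀ i, i < 12655 → P i := stepQ 12654 Q12654 (allL N12654 (tt N13131 (iv F76815)) (tt N12076 F74876) (tt N13123 (iv F76777)) (tt N12362 F74877) (tt N13130 (iv F76812)) (tt N12129 F74878) (tt N12075 (iv D19112)) (tt N13129 (iv F76807)) (tt N13086 (iv F76614)))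
theorem Q12656 : ∀ i, i < 12656 → P i := stepQ 12655 Q12655 (allL N12655 (tt N12092 F74879) (tt N12320 F74880) (tt N13052 (iv F76430)) (tt N12668 (iv F74936)) (tt N12081 F74881) (tt N12077 (iv D19113)) (tt N13132 D19590) (tt N12082 F74882) (tt N12664 (iv F74921)))
theorem Q12657 : ∀ i, i < 12657 → P i := stepQ 12656 Q12656 (allL N12656 (tt N12094 F74883) (tt N12770 (iv F75318)) (tt N12079 F74884) (tt N13133 D19591) (tt N12078 (iv D19114)) (tt N13134 D19592) (tt N12463 F74885) (tt N12325 F74886) (tt N12080 F74887))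
theorem Q12658 : ∀ i, i < 12658 → P i := stepQ 12657 Q12657 (allL N12657 (tt N12095 F74888) (tt N12252 F74889) (tt N13134 (iv F76833)) (tt N12243 F74890) (tt N12664 (iv F74919)) (tt N12079 (iv D19115)) (tt N13135 D19593) (tt N12326 F74891) (tt N12081 F74892))
theorem Q12659 : ∀ i, i < 12659 → P i := stepQ 12658 Q12658 (allL N12658 (tt N12097 F74893) (tt N13045 (iv F76393)) (tt N12751 (iv F75237)) (tt N12080 (iv D19116)) (tt N12658 F74894) (tt N13136 D19594) (tt N12465 F74895) (tt N12982 (iv F76098)) (tt N13133 (iv F76831)))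
theorem Q12660 : ∀ i, i < 12660 → P i := stepQ 12659 Q12659 (allL N12659 (tt N12098 F74896) (tt N13046 (iv F76398)) (tt N12081 F74897) (tt N13136 (iv F76843)) (tt N13052 (iv F76431)) (tt N12080 (iv D19117)) (tt N13137 D19595) (tt N12083 F74898) (tt N13134 (iv F76835)))
theorem Q12661 : ∀ i, i < 12661 → P i := stepQ 12660 Q12660 (allL N12660 (tt N12099 F74899) (tt N13058 (iv F76461)) (tt N13137 (iv F76845)) (tt N12753 (iv F75244)) (tt N13132 (iv F76824)) (tt N12467 F74900) (tt N12081 (iv D19118)) (tt N12084 F74901) (tt N13135 (iv F76841)))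
theorem Q12662 : ∀ i, i < 12662 → P i := stepQ 12661 Q12661 (allL N12661 (tt N12104 F74902) (tt N12324 F74903) (tt N13056 (iv F76448)) (tt N12344 F74904) (tt N12084 F74905) (tt N12316 F74906) (tt N12082 (iv D19119)) (tt N13132 (iv F76826)) (tt N12360 F74907))
theorem Q12663 : ∀ i, i < 12663 → P i := stepQ 12662 Q12662 (allL N12662 (tt N12106 F74908) (tt N13055 (iv F76440)) (tt N12084 F74909) (tt N13057 (iv F76456)) (tt N13056 (iv F76450)) (tt N12473 F74910) (tt N12083 (iv D19120)) (tt N13137 (iv F76847)) (tt N12496 F74911))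
theorem Q12664 : ∀ i, i < 12664 → P i := stepQ 12663 Q12663 (allL N12663 (tt N12667 (iv F74931)) (tt N12538 F74912) (tt N12086 F74913) (tt N13138 D19596) (tt N12085 (iv D19121)) (tt N13139 D19597) (tt N12582 F74914) (tt N12347 F74915) (tt N12540 F74916))
theorem Q12665 : ∀ i, i < 12665 → P i := stepQ 12664 Q12664 (allL N12664 (tt N12668 (iv F74934)) (tt N12107 F74917) (tt N13139 (iv F76854)) (tt N12092 F74918) (tt N12657 F74919) (tt N12086 (iv D19122)) (tt N13140 D19598) (tt N12348 F74920) (tt N12655 F74921))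
theorem Q12666 : ∀ i, i < 12666 → P i := stepQ 12665 Q12665 (allL N12665 (tt N12308 F74922) (tt N12413 F74923) (tt N12088 F74924) (tt N13141 D19599) (tt N12087 (iv D19123)) (tt N13142 D19600) (tt N12091 F74925) (tt N12100 F74926) (tt N12853 (iv F75642)))
theorem Q12667 : ∀ i, i < 12667 → P i := stepQ 12666 Q12666 (allL N12666 (tt N12309 F74927) (tt N12108 F74928) (tt N13142 (iv F76871)) (tt N12855 (iv F75649)) (tt N12301 F74929) (tt N12088 (iv D19124)) (tt N13143 D19601) (tt N12101 F74930) (tt N12854 (iv F75646)))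
theorem Q12668 : ∀ i, i < 12668 → P i := stepQ 12667 Q12667 (allL N12667 (tt N12663 F74931) (tt N13103 (iv F76688)) (tt N12090 F74932) (tt N13144 D19602) (tt N12089 (iv D19125)) (tt N13145 D19603) (tt N12853 (iv F75640)) (tt N12873 (iv F75713)) (tt N12091 F74933))
theorem Q12669 : ∀ i, i < 12669 → P i := stepQ 12668 Q12668 (allL N12668 (tt N12664 F74934) (tt N12111 F74935) (tt N13145 (iv F76884)) (tt N12655 F74936) (tt N12095 F74937) (tt N12090 (iv D19126)) (tt N13146 D19604) (tt N12874 (iv F75719)) (tt N12092 F74938))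
theorem Q12670 : ∀ i, i < 12670 → P i := stepQ 12669 Q12669 (allL N12669 (tt N13051 (iv F76423)) (tt N13109 (iv F76712)) (tt N13138 (iv F76849)) (tt N12091 (iv D19127)) (tt N12669 F74939) (tt N13147 D19605) (tt N13141 (iv F76867)) (tt N13148 D19606) (tt N13144 (iv F76882)))
theorem Q12671 : ∀ i, i < 12671 → P i := stepQ 12670 Q12670 (allL N12670 (tt N13052 (iv F76428)) (tt N13110 (iv F76718)) (tt N12092 F74940) (tt N13147 (iv F76892)) (tt N12098 F74941) (tt N12091 (iv D19128)) (tt N13149 D19607) (tt N12103 F74942) (tt N13145 (iv F76886)))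
theorem Q12672 : ∀ i, i < 12672 → P i := stepQ 12671 Q12671 (allL N12671 (tt N13132 (iv F76822)) (tt N12114 F74943) (tt N13149 (iv F76898)) (tt N13140 (iv F76859)) (tt N12099 F74944) (tt N13143 (iv F76877)) (tt N12092 (iv D19129)) (tt N12104 F74945) (tt N13146 (iv F76891)))
theorem Q12673 : ∀ i, i < 12673 → P i := stepQ 12672 Q12672 (allL N12672 (tt N13095 (iv F76653)) (tt N12094 F74946) (tt N12116 F74947) (tt N13150 D19608) (tt N12093 (iv D19130)) (tt N13151 D19609) (tt N13017 (iv F76232)) (tt N12225 F74948) (tt N12096 F74949))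
theorem Q12674 : ∀ i, i < 12674 → P i := stepQ 12673 Q12673 (allL N12673 (tt N13133 (iv F76827)) (tt N13150 (iv F76901)) (tt N12796 (iv F75421)) (tt N12094 (iv D19131)) (tt N12673 F74950) (tt N13152 D19610) (tt N13018 (iv F76238)) (tt N13091 (iv F76640)) (tt N12097 F74951))
theorem Q12675 : ∀ i, i < 12675 → P i := stepQ 12674 Q12674 (allL N12674 (tt N13134 (iv F76832)) (tt N13151 (iv F76904)) (tt N12095 F74952) (tt N13152 (iv F76908)) (tt N13145 (iv F76885)) (tt N12094 (iv D19132)) (tt N13153 D19611) (tt N13088 (iv F76624)) (tt N12098 F74953))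
theorem Q12676 : ∀ i, i < 12676 → P i := stepQ 12675 Q12675 (allL N12675 (tt N13135 (iv F76836)) (tt N12119 F74954) (tt N13153 (iv F76910)) (tt N12798 (iv F75434)) (tt N13146 (iv F76890)) (tt N13020 (iv F76249)) (tt N12095 (iv D19133)) (tt N13089 (iv F76630)) (tt N12099 F74955))
theorem Q12677 : ∀ i, i < 12677 → P i := stepQ 12676 Q12676 (allL N12676 (tt N13099 (iv F76673)) (tt N12097 F74956) (tt N13154 D19612) (tt N12096 (iv D19134)) (tt N12676 F74957) (tt N13155 D19613) (tt N13119 (iv F76759)) (tt N12158 F74958) (tt N13150 (iv F76903)))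
theorem Q12678 : ∀ i, i < 12678 → P i := stepQ 12677 Q12677 (allL N12677 (tt N13100 (iv F76678)) (tt N12098 F74959) (tt N12122 F74960) (tt N13155 (iv F76917)) (tt N13110 (iv F76720)) (tt N12096 (iv D19135)) (tt N13156 D19614) (tt N12105 F74961) (tt N13151 (iv F76907)))
theorem Q12679 : ∀ i, i < 12679 → P i := stepQ 12678 Q12678 (allL N12678 (tt N13136 (iv F76842)) (tt N13155 (iv F76916)) (tt N12799 (iv F75439)) (tt N12098 F74962) (tt N13157 D19615) (tt N12097 (iv D19136)) (tt N13158 D19616) (tt N13117 (iv F76748)) (tt N13152 (iv F76909)))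
theorem Q12680 : ∀ i, i < 12680 → P i := stepQ 12679 Q12679 (allL N12679 (tt N13137 (iv F76844)) (tt N13156 (iv F76919)) (tt N12099 F74963) (tt N13158 (iv F76923)) (tt N13149 (iv F76899)) (tt N13122 (iv F76773)) (tt N12098 (iv D19137)) (tt N12106 F74964) (tt N13153 (iv F76911)))
theorem Q12681 : ∀ i, i < 12681 → P i := stepQ 12680 Q12680 (allL N12680 (tt N12315 F74965) (tt N12412 F74966) (tt N12101 F74967) (tt N12411 F74968) (tt N12303 F74969) (tt N12100 (iv D19138)) (tt N13159 D19617) (tt N13142 (iv F76873)) (tt N12343 F74970))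
theorem Q12682 : ∀ i, i < 12682 → P i := stepQ 12681 Q12681 (allL N12681 (tt N12316 F74971) (tt N12125 F74972) (tt N13159 (iv F76926)) (tt N12360 F74973) (tt N12304 F74974) (tt N12104 F74975) (tt N12101 (iv D19139)) (tt N13143 (iv F76878)) (tt N12344 F74976))
theorem Q12683 : ∀ i, i < 12683 → P i := stepQ 12682 Q12682 (allL N12682 (tt N12402 F74977) (tt N12206 F74978) (tt N12345 F74979) (tt N12103 F74980) (tt N12392 F74981) (tt N12102 (iv D19140)) (tt N13160 D19618) (tt N13161 D19619) (tt N12415 F74982))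
theorem Q12684 : ∀ i, i < 12684 → P i := stepQ 12683 Q12683 (allL N12683 (tt N12398 F74983) (tt N12204 F74984) (tt N12340 F74985) (tt N13148 (iv F76895)) (tt N12136 F74986) (tt N13161 (iv F76942)) (tt N12407 F74987) (tt N12102 (iv D19141)) (tt N13162 D19620))
theorem Q12685 : ∀ i, i < 12685 → P i := stepQ 12684 Q12684 (allL N12684 (tt N13056 (iv F76446)) (tt N13116 (iv F76740)) (tt N12104 F74988) (tt N13160 (iv F76934)) (tt N12106 F74989) (tt N13159 (iv F76929)) (tt N12103 (iv D19142)) (tt N13149 (iv F76900)) (tt N13066 (iv F76513)))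
theorem Q12686 : ∀ i, i < 12686 → P i := stepQ 12685 Q12685 (allL N12685 (tt N13115 (iv F76732)) (tt N12106 F74990) (tt N12129 F74991) (tt N12180 F74992) (tt N13116 (iv F76743)) (tt N13123 (iv F76780)) (tt N12105 (iv D19143)) (tt N13156 (iv F76921)) (tt N12223 F74993))
theorem Q12687 : ∀ i, i < 12687 → P i := stepQ 12686 Q12686 (allL N12686 (tt N12995 (iv F76132)) (tt N13140 (iv F76858)) (tt N12947 (iv F75963)) (tt N12114 F74994) (tt N12802 (iv F75447)) (tt N12868 (iv F75688)) (tt N12107 (iv D19144)) (tt N12364 F74995) (tt N12867 (iv F75685)))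
theorem Q12688 : ∀ i, i < 12688 → P i := stepQ 12687 Q12687 (allL N12687 (tt N13061 (iv F76481)) (tt N13143 (iv F76875)) (tt N13060 (iv F76477)) (tt N12868 (iv F75686)) (tt N13124 (iv F76785)) (tt N12114 F74996) (tt N12108 (iv D19145)) (tt N12125 F74997) (tt N12866 (iv F75681)))
theorem Q12689 : ∀ i, i < 12689 → P i := stepQ 12688 Q12688 (allL N12688 (tt N12225 F74998) (tt N12110 F74999) (tt N13103 (iv F76689)) (tt N12761 (iv F75279)) (tt N12109 (iv D19146)) (tt N13163 D19621) (tt N12418 F75000) (tt N13095 (iv F76657)) (tt N12112 F75001))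
theorem Q12690 : ∀ i, i < 12690 → P i := stepQ 12689 Q12689 (allL N12689 (tt N12998 (iv F76146)) (tt N13163 (iv F76950)) (tt N12111 F75002) (tt N12948 (iv F75969)) (tt N12118 F75003) (tt N12110 (iv D19147)) (tt N13164 D19622) (tt N13097 (iv F76666)) (tt N12113 F75004))
theorem Q12691 : ∀ i, i < 12691 → P i := stepQ 12690 Q12690 (allL N12690 (tt N13062 (iv F76487)) (tt N13146 (iv F76888)) (tt N13164 (iv F76953)) (tt N12867 (iv F75682)) (tt N12119 F75005) (tt N12866 (iv F75680)) (tt N12111 (iv D19148)) (tt N13098 (iv F76671)) (tt N12114 F75006))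
theorem Q12692 : ∀ i, i < 12692 → P i := stepQ 12691 Q12691 (allL N12691 (tt N12224 F75007) (tt N12113 F75008) (tt N13110 (iv F76719)) (tt N12760 (iv F75274)) (tt N12122 F75009) (tt N12112 (iv D19149)) (tt N13165 D19623) (tt N12126 F75010) (tt N13163 (iv F76952)))
theorem Q12693 : ∀ i, i < 12693 → P i := stepQ 12692 Q12692 (allL N12692 (tt N13001 (iv F76159)) (tt N13165 (iv F76957)) (tt N12114 F75011) (tt N12950 (iv F75977)) (tt N12124 F75012) (tt N13060 (iv F76479)) (tt N12113 (iv D19150)) (tt N12127 F75013) (tt N13164 (iv F76955)))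
theorem Q12694 : ∀ i, i < 12694 → P i := stepQ 12693 Q12693 (allL N12693 (tt N12116 F75014) (tt N12873 (iv F75709)) (tt N13095 (iv F76655)) (tt N13166 D19624) (tt N12115 (iv D19151)) (tt N13167 D19625) (tt N13032 (iv F76313)) (tt N13103 (iv F76691)) (tt N12120 F75015))
theorem Q12695 : ∀ i, i < 12695 → P i := stepQ 12694 Q12694 (allL N12694 (tt N13166 (iv F76961)) (tt N12117 F75016) (tt N13168 D19626) (tt N12116 (iv D19152)) (tt N12132 F75017) (tt N13169 D19627) (tt N12386 F75018) (tt N13170 D19628) (tt N12121 F75019))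
theorem Q12696 : ∀ i, i < 12696 → P i := stepQ 12695 Q12695 (allL N12695 (tt N13167 (iv F76966)) (tt N12118 F75020) (tt N13151 (iv F76905)) (tt N13169 (iv F76974)) (tt N13163 (iv F76951)) (tt N12116 (iv D19153)) (tt N13171 D19629) (tt N13105 (iv F76698)) (tt N12122 F75021))
theorem Q12697 : ∀ i, i < 12697 → P i := stepQ 12696 Q12696 (allL N12696 (tt N12272 F75022) (tt N13169 (iv F76973)) (tt N12261 F75023) (tt N12118 F75024) (tt N12954 (iv F75992)) (tt N12117 (iv D19154)) (tt N13172 D19630) (tt N13173 D19631) (tt N12123 F75025))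
theorem Q12698 : ∀ i, i < 12698 → P i := stepQ 12697 Q12697 (allL N12697 (tt N12267 F75026) (tt N13170 (iv F76976)) (tt N12260 F75027) (tt N13107 (iv F76704)) (tt N12133 F75028) (tt N13173 (iv F76989)) (tt N12380 F75029) (tt N12117 (iv D19155)) (tt N12489 F75030))
theorem Q12699 : ∀ i, i < 12699 → P i := stepQ 12698 Q12698 (allL N12698 (tt N13063 (iv F76492)) (tt N13171 (iv F76980)) (tt N12119 F75031) (tt N13172 (iv F76984)) (tt N13164 (iv F76954)) (tt N13034 (iv F76322)) (tt N12118 (iv D19156)) (tt N13108 (iv F76709)) (tt N12124 F75032))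
theorem Q12700 : ∀ i, i < 12700 → P i := stepQ 12699 Q12699 (allL N12699 (tt N12121 F75033) (tt N12804 (iv F75457)) (tt N13174 D19632) (tt N12120 (iv D19157)) (tt N12134 F75034) (tt N13175 D19633) (tt N12740 (iv F75190)) (tt N12491 F75035) (tt N13166 (iv F76965)))
theorem Q12701 : ∀ i, i < 12701 → P i := stepQ 12700 Q12700 (allL N12700 (tt N12122 F75036) (tt N13064 (iv F76498)) (tt N13100 (iv F76680)) (tt N13175 (iv F76995)) (tt N12224 F75037) (tt N12120 (iv D19158)) (tt N13176 D19634) (tt N12128 F75038) (tt N13167 (iv F76968)))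
theorem Q12702 : ∀ i, i < 12702 → P i := stepQ 12701 Q12701 (allL N12701 (tt N13174 (iv F76991)) (tt N12441 F75039) (tt N12121 (iv D19159)) (tt N13154 (iv F76913)) (tt N12135 F75040) (tt N13177 D19635) (tt N12727 (iv F75154)) (tt N12454 F75041) (tt N13168 (iv F76972)))
theorem Q12703 : ∀ i, i < 12703 → P i := stepQ 12702 Q12702 (allL N12702 (tt N13175 (iv F76994)) (tt N12123 F75042) (tt N13177 (iv F77001)) (tt N12122 F75043) (tt N12957 (iv F76004)) (tt N12121 (iv D19160)) (tt N13178 D19636) (tt N12493 F75044) (tt N13169 (iv F76975)))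
theorem Q12704 : ∀ i, i < 12704 → P i := stepQ 12703 Q12703 (allL N12703 (tt N13176 (iv F76997)) (tt N12124 F75045) (tt N13156 (iv F76920)) (tt N13178 (iv F77005)) (tt N13165 (iv F76958)) (tt N13129 (iv F76806)) (tt N12122 (iv D19161)) (tt N12129 F75046) (tt N13171 (iv F76981)))
theorem Q12705 : ∀ i, i < 12705 → P i := stepQ 12704 Q12704 (allL N12704 (tt N12806 (iv F75465)) (tt N13178 (iv F77004)) (tt N12718 (iv F75112)) (tt N12124 F75047) (tt N12959 (iv F76011)) (tt N12742 (iv F75197)) (tt N12123 (iv D19162)) (tt N12495 F75048) (tt N13172 (iv F76986)))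
theorem Q12706 : ∀ i, i < 12706 → P i := stepQ 12705 Q12705 (allL N12705 (tt N12223 F75049) (tt N12127 F75050) (tt N13116 (iv F76741)) (tt N12208 F75051) (tt N12129 F75052) (tt N12416 F75053) (tt N12126 (iv D19163)) (tt N13165 (iv F76960)) (tt N13115 (iv F76738)))
theorem Q12707 : ∀ i, i < 12707 → P i := stepQ 12706 Q12706 (allL N12706 (tt N12129 F75054) (tt N13066 (iv F76508)) (tt N13115 (iv F76734)) (tt N12500 F75055) (tt N12223 F75056) (tt N13131 (iv F76820)) (tt N12128 (iv D19164)) (tt N13176 (iv F76999)) (tt N13116 (iv F76745)))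
theorem Q12708 : ∀ i, i < 12708 → P i := stepQ 12707 Q12707 (allL N12707 (tt N12132 F75057) (tt N12270 F75058) (tt N13179 D19637) (tt N12131 (iv D19165)) (tt N13166 (iv F76963)) (tt N12960 (iv F76016)) (tt N12385 F75059) (tt N13180 D19638) (tt N12134 F75060))
theorem Q12709 : ∀ i, i < 12709 → P i := stepQ 12708 Q12708 (allL N12708 (tt N13179 (iv F77007)) (tt N12149 F75061) (tt N12132 (iv D19166)) (tt N12708 F75062) (tt N13168 (iv F76970)) (tt N12443 F75063) (tt N12373 F75064) (tt N12823 (iv F75538)) (tt N12135 F75065))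
theorem Q12710 : ∀ i, i < 12710 → P i := stepQ 12709 Q12709 (allL N12709 (tt N13180 (iv F77014)) (tt N12133 F75066) (tt N12823 (iv F75534)) (tt N12709 F75067) (tt N13170 (iv F76977)) (tt N12810 (iv F75483)) (tt N12379 F75068) (tt N12132 (iv D19167)) (tt N12502 F75069))
theorem Q12711 : ∀ i, i < 12711 → P i := stepQ 12710 Q12710 (allL N12710 (tt N12135 F75070) (tt N12896 (iv F75811)) (tt N12134 (iv D19168)) (tt N12710 F75071) (tt N13174 (iv F76992)) (tt N12446 F75072) (tt N12726 (iv F75150)) (tt N12453 F75073) (tt N13179 (iv F77012)))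
theorem Q12712 : ∀ i, i < 12712 → P i := stepQ 12711 Q12711 (allL N12711 (tt N12395 F75074) (tt N12202 F75075) (tt N12337 F75076) (tt N12711 F75077) (tt N13162 (iv F76946)) (tt N12439 F75078) (tt N12404 F75079) (tt N12424 F75080) (tt N12136 (iv D19169)))
theorem Q12713 : ∀ i, i < 12713 → P i := stepQ 12712 Q12712 (allL N12712 (tt N12498 F75081) (tt N12197 F75082) (tt N12139 F75083) (tt N12434 F75084) (tt N13012 (iv F76201)) (tt N12142 F75085) (tt N12138 (iv D19170)) (tt N12552 F75086) (tt N12251 F75087))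
theorem Q12714 : ∀ i, i < 12714 → P i := stepQ 12713 Q12713 (allL N12713 (tt N12142 F75088) (tt N13012 (iv F76198)) (tt N12141 F75089) (tt N12496 F75090) (tt N12197 F75091) (tt N12498 F75092) (tt N12140 (iv D19171)) (tt N12556 F75093) (tt N13057 (iv F76459)))
theorem Q12715 : ∀ i, i < 12715 → P i := stepQ 12714 Q12714 (allL N12714 (tt N12239 F75094) (tt N12984 (iv F76105)) (tt N12254 F75095) (tt N12788 (iv F75383)) (tt N12148 F75096) (tt N12803 (iv F75453)) (tt N12144 (iv D19172)) (tt N12173 F75097) (tt N12577 F75098))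
theorem Q12716 : ∀ i, i < 12716 → P i := stepQ 12715 Q12715 (allL N12715 (tt N12376 F75099) (tt N12246 F75100) (tt N12961 (iv F76020)) (tt N12145 (iv D19173)) (tt N12715 F75101) (tt N13181 D19639) (tt N12158 F75102) (tt N13119 (iv F76760)) (tt N12721 (iv F75128)))
theorem Q12717 : ∀ i, i < 12717 → P i := stepQ 12716 Q12716 (allL N12716 (tt N12377 F75103) (tt N12247 F75104) (tt N12146 F75105) (tt N13181 (iv F77022)) (tt N12983 (iv F76102)) (tt N12145 (iv D19174)) (tt N13182 D19640) (tt N12174 F75106) (tt N12722 (iv F75132)))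
theorem Q12718 : ∀ i, i < 12718 → P i := stepQ 12717 Q12717 (allL N12717 (tt N12378 F75107) (tt N12148 F75108) (tt N13182 (iv F77025)) (tt N12963 (iv F76029)) (tt N12984 (iv F76107)) (tt N12160 F75109) (tt N12146 (iv D19175)) (tt N12175 F75110) (tt N12723 (iv F75137)))
theorem Q12719 : ∀ i, i < 12719 → P i := stepQ 12718 Q12718 (allL N12718 (tt N12259 F75111) (tt N12963 (iv F76028)) (tt N12704 F75112) (tt N12148 F75113) (tt N12791 (iv F75400)) (tt N12169 F75114) (tt N12147 (iv D19176)) (tt N12370 F75115) (tt N12808 (iv F75476)))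
theorem Q12720 : ∀ i, i < 12720 → P i := stepQ 12719 Q12719 (allL N12719 (tt N12156 F75116) (tt N13168 (iv F76969)) (tt N12150 F75117) (tt N13183 D19641) (tt N12149 (iv D19177)) (tt N13184 D19642) (tt N12374 F75118) (tt N12824 (iv F75543)) (tt N12441 F75119))
theorem Q12721 : ∀ i, i < 12721 → P i := stepQ 12720 Q12720 (allL N12720 (tt N12157 F75120) (tt N12261 F75121) (tt N13184 (iv F77034)) (tt N12152 F75122) (tt N12445 F75123) (tt N12150 (iv D19178)) (tt N13185 D19643) (tt N12825 (iv F75549)) (tt N12442 F75124))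
theorem Q12722 : ∀ i, i < 12722 → P i := stepQ 12721 Q12721 (allL N12721 (tt N12158 F75125) (tt N12796 (iv F75420)) (tt N13183 (iv F77029)) (tt N12151 (iv D19179)) (tt N12721 F75126) (tt N13186 D19644) (tt N12376 F75127) (tt N13099 (iv F76677)) (tt N12715 F75128))
theorem Q12723 : ∀ i, i < 12723 → P i := stepQ 12722 Q12722 (allL N12722 (tt N12159 F75129) (tt N12797 (iv F75427)) (tt N12152 F75130) (tt N13186 (iv F77044)) (tt N13015 (iv F76219)) (tt N12151 (iv D19180)) (tt N13187 D19645) (tt N12176 F75131) (tt N12716 F75132))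
theorem Q12724 : ∀ i, i < 12724 → P i := stepQ 12723 Q12723 (allL N12723 (tt N12160 F75133) (tt N12262 F75134) (tt N13187 (iv F77047)) (tt N13185 (iv F77039)) (tt N13016 (iv F76225)) (tt N12378 F75135) (tt N12152 (iv D19181)) (tt N12177 F75136) (tt N12717 F75137))
theorem Q12725 : ∀ i, i < 12725 → P i := stepQ 12724 Q12724 (allL N12724 (tt N12444 F75138) (tt N13078 (iv F76572)) (tt N12154 F75139) (tt N13188 D19646) (tt N12153 (iv D19182)) (tt N13189 D19647) (tt N12489 F75140) (tt N12353 F75141) (tt N12380 F75142))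
theorem Q12726 : ∀ i, i < 12726 → P i := stepQ 12725 Q12725 (allL N12725 (tt N12445 F75143) (tt N12165 F75144) (tt N13189 (iv F77058)) (tt N12397 F75145) (tt N12157 F75146) (tt N12154 (iv D19183)) (tt N13190 D19648) (tt N12733 (iv F75168)) (tt N12381 F75147))
theorem Q12727 : ∀ i, i < 12727 → P i := stepQ 12726 Q12726 (allL N12726 (tt N12155 (iv D19184)) (tt N13179 (iv F77008)) (tt N12166 F75148) (tt N12726 F75149) (tt N13191 D19649) (tt N13035 (iv F76328)) (tt N12710 F75150) (tt N12391 F75151) (tt N12896 (iv F75814)))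
theorem Q12728 : ∀ i, i < 12728 → P i := stepQ 12727 Q12727 (allL N12727 (tt N13191 (iv F77067)) (tt N12156 F75152) (tt N12167 F75153) (tt N13192 D19650) (tt N12155 (iv D19185)) (tt N13193 D19651) (tt N12701 F75154) (tt N12455 F75155) (tt N12897 (iv F75817)))
theorem Q12729 : ∀ i, i < 12729 → P i := stepQ 12728 Q12728 (allL N12728 (tt N13183 (iv F77028)) (tt N13192 (iv F77071)) (tt N12158 F75156) (tt N12156 (iv D19186)) (tt N12728 F75157) (tt N13194 D19652) (tt N12961 (iv F76022)) (tt N13154 (iv F76915)) (tt N12898 (iv F75820)))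
theorem Q12730 : ∀ i, i < 12730 → P i := stepQ 12729 Q12729 (allL N12729 (tt N13184 (iv F77033)) (tt N13193 (iv F77076)) (tt N12157 F75158) (tt N13194 (iv F77080)) (tt N13189 (iv F77059)) (tt N12156 (iv D19187)) (tt N13195 D19653) (tt N12974 (iv F76065)) (tt N12899 (iv F75822)))
theorem Q12731 : ∀ i, i < 12731 → P i := stepQ 12730 Q12730 (allL N12730 (tt N13185 (iv F77037)) (tt N12169 F75159) (tt N13195 (iv F77081)) (tt N12160 F75160) (tt N13190 (iv F77065)) (tt N12963 (iv F76031)) (tt N12157 (iv D19188)) (tt N12975 (iv F76070)) (tt N12900 (iv F75825)))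
theorem Q12732 : ∀ i, i < 12732 → P i := stepQ 12731 Q12731 (allL N12731 (tt N13186 (iv F77043)) (tt N13117 (iv F76746)) (tt N13194 (iv F77079)) (tt N12159 F75161) (tt N13196 D19654) (tt N12158 (iv D19189)) (tt N13197 D19655) (tt N13155 (iv F76918)) (tt N12901 (iv F75827)))
theorem Q12733 : ∀ i, i < 12733 → P i := stepQ 12732 Q12732 (allL N12732 (tt N13187 (iv F77046)) (tt N13118 (iv F76750)) (tt N12160 F75162) (tt N13197 (iv F77083)) (tt N13023 (iv F76261)) (tt N13182 (iv F77026)) (tt N12159 (iv D19190)) (tt N12180 F75163) (tt N12903 (iv F75832)))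
theorem Q12734 : ∀ i, i < 12734 → P i := stepQ 12733 Q12733 (allL N12733 (tt N12282 F75164) (tt N12288 F75165) (tt N12890 (iv F75785)) (tt N12184 F75166) (tt N12452 F75167) (tt N12161 (iv D19191)) (tt N13198 D19656) (tt N12725 F75168) (tt N12162 F75169))
theorem Q12735 : ∀ i, i < 12735 → P i := stepQ 12734 Q12734 (allL N12734 (tt N12286 F75170) (tt N12975 (iv F76067)) (tt N12894 (iv F75801)) (tt N12185 F75171) (tt N12838 (iv F75585)) (tt N12370 F75172) (tt N12162 (iv D19192)) (tt N12169 F75173) (tt N13198 (iv F77090)))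
theorem Q12736 : ∀ i, i < 12736 → P i := stepQ 12735 Q12735 (allL N12735 (tt N12163 (iv D19193)) (tt N12289 F75174) (tt N13035 (iv F76326)) (tt N12170 F75175) (tt N13199 D19657) (tt N12166 F75176) (tt N12743 (iv F75201)) (tt N12172 F75177) (tt N12909 (iv F75855)))
theorem Q12737 : ∀ i, i < 12737 → P i := stepQ 12736 Q12736 (allL N12736 (tt N13199 (iv F77091)) (tt N12164 F75178) (tt N13078 (iv F76573)) (tt N13200 D19658) (tt N12163 (iv D19194)) (tt N13201 D19659) (tt N12826 (iv F75552)) (tt N12291 F75179) (tt N12910 (iv F75859)))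
theorem Q12738 : ∀ i, i < 12738 → P i := stepQ 12737 Q12737 (allL N12737 (tt N12291 F75180) (tt N13200 (iv F77096)) (tt N13029 (iv F76294)) (tt N12164 (iv D19195)) (tt N12172 F75181) (tt N13202 D19660) (tt N12827 (iv F75556)) (tt N13199 (iv F77094)) (tt N12911 (iv F75863)))
theorem Q12739 : ∀ i, i < 12739 → P i := stepQ 12738 Q12738 (allL N12738 (tt N12292 F75182) (tt N13201 (iv F77100)) (tt N12165 F75183) (tt N13202 (iv F77104)) (tt N12168 F75184) (tt N12164 (iv D19196)) (tt N13203 D19661) (tt N12837 (iv F75583)) (tt N12912 (iv F75868)))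
theorem Q12740 : ∀ i, i < 12740 → P i := stepQ 12739 Q12739 (allL N12739 (tt N12293 F75185) (tt N13190 (iv F77063)) (tt N13203 (iv F77107)) (tt N13031 (iv F76305)) (tt N12169 F75186) (tt N12829 (iv F75561)) (tt N12165 (iv D19197)) (tt N12838 (iv F75587)) (tt N12913 (iv F75874)))
theorem Q12741 : ∀ i, i < 12741 → P i := stepQ 12740 Q12740 (allL N12740 (tt N12167 F75187) (tt N12294 F75188) (tt N13191 (iv F77068)) (tt N12647 F75189) (tt N12166 (iv D19198)) (tt N13204 D19662) (tt N12699 F75190) (tt N12644 F75191) (tt N12914 (iv F75877)))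
theorem Q12742 : ∀ i, i < 12742 → P i := stepQ 12741 Q12741 (allL N12741 (tt N13204 (iv F77109)) (tt N12168 F75192) (tt N13193 (iv F77077)) (tt N12648 F75193) (tt N13201 (iv F77101)) (tt N12167 (iv D19199)) (tt N13205 D19663) (tt N12892 (iv F75794)) (tt N12915 (iv F75879)))
theorem Q12743 : ∀ i, i < 12743 → P i := stepQ 12742 Q12742 (allL N12742 (tt N12296 F75194) (tt N13205 (iv F77113)) (tt N12169 F75195) (tt N12649 F75196) (tt N13203 (iv F77108)) (tt N12704 F75197) (tt N12168 (iv D19200)) (tt N12894 (iv F75804)) (tt N12916 (iv F75882)))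
theorem Q12744 : ∀ i, i < 12744 → P i := stepQ 12743 Q12743 (allL N12743 (tt N12277 F75198) (tt N12172 F75199) (tt N13013 (iv F76206)) (tt N12171 (iv D19201)) (tt N13200 (iv F77097)) (tt N12283 F75200) (tt N12735 F75201) (tt N12289 F75202) (tt N12917 (iv F75887)))
theorem Q12745 : ∀ i, i < 12745 → P i := stepQ 12744 Q12744 (allL N12744 (tt N12394 F75203) (tt N12251 F75204) (tt N12175 F75205) (tt N13123 (iv F76778)) (tt N13057 (iv F76457)) (tt N12180 F75206) (tt N12174 (iv D19202)) (tt N13182 (iv F77027)) (tt N12197 F75207))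
theorem Q12746 : ∀ i, i < 12746 → P i := stepQ 12745 Q12745 (allL N12745 (tt N12180 F75208) (tt N13036 (iv F76332)) (tt N12177 F75209) (tt N13115 (iv F76735)) (tt N13041 (iv F76369)) (tt N12394 F75210) (tt N12176 (iv D19203)) (tt N13187 (iv F77049)) (tt N12208 F75211))
theorem Q12747 : ∀ i, i < 12747 → P i := stepQ 12746 Q12746 (allL N12746 (tt N13124 (iv F76782)) (tt N12185 F75212) (tt N12494 F75213) (tt N12975 (iv F76068)) (tt N13061 (iv F76484)) (tt N12369 F75214) (tt N12178 (iv D19204)) (tt N12179 F75215) (tt N13076 (iv F76566)))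
theorem Q12748 : ∀ i, i < 12748 → P i := stepQ 12747 Q12747 (allL N12747 (tt N12319 F75216) (tt N12748 (iv F75221)) (tt N12997 (iv F76142)) (tt N12183 F75217) (tt N12586 F75218) (tt N12181 (iv D19205)) (tt N13206 D19664) (tt N12773 (iv F75338)) (tt N12562 F75219))
theorem Q12749 : ∀ i, i < 12749 → P i := stepQ 12748 Q12748 (allL N12748 (tt N12321 F75220) (tt N12747 F75221) (tt N12328 F75222) (tt N12562 F75223) (tt N12184 F75224) (tt N12182 (iv D19206)) (tt N13207 D19665) (tt N12228 F75225) (tt N12183 F75226))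
theorem Q12750 : ∀ i, i < 12750 → P i := stepQ 12749 Q12749 (allL N12749 (tt N12322 F75227) (tt N13061 (iv F76482)) (tt N12329 F75228) (tt N13206 (iv F77117)) (tt N12185 F75229) (tt N13059 (iv F76472)) (tt N12183 (iv D19207)) (tt N12186 F75230) (tt N13207 (iv F77128)))
theorem Q12751 : ∀ i, i < 12751 → P i := stepQ 12750 Q12750 (allL N12750 (tt N12323 F75231) (tt N13076 (iv F76561)) (tt N12330 F75232) (tt N13198 (iv F77086)) (tt N13207 (iv F77125)) (tt N12368 F75233) (tt N12184 (iv D19208)) (tt N12233 F75234) (tt N12185 F75235))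
theorem Q12752 : ∀ i, i < 12752 → P i := stepQ 12751 Q12751 (allL N12751 (tt N12246 F75236) (tt N13014 (iv F76210)) (tt N12658 F75237) (tt N12187 (iv D19209)) (tt N12751 F75238) (tt N13208 D19666) (tt N12982 (iv F76097)) (tt N12465 F75239) (tt N12793 (iv F75410)))
theorem Q12753 : ∀ i, i < 12753 → P i := stepQ 12752 Q12752 (allL N12752 (tt N12247 F75240) (tt N13015 (iv F76217)) (tt N12188 F75241) (tt N13208 (iv F77131)) (tt N12797 (iv F75429)) (tt N12187 (iv D19210)) (tt N13209 D19667) (tt N12189 F75242) (tt N12794 (iv F75414)))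
theorem Q12754 : ∀ i, i < 12754 → P i := stepQ 12753 Q12753 (allL N12753 (tt N12248 F75243) (tt N12803 (iv F75450)) (tt N13209 (iv F77134)) (tt N12660 F75244) (tt N12798 (iv F75435)) (tt N12984 (iv F76108)) (tt N12188 (iv D19211)) (tt N12190 F75245) (tt N12795 (iv F75418)))
theorem Q12755 : ∀ i, i < 12755 → P i := stepQ 12754 Q12754 (allL N12754 (tt N12251 F75246) (tt N13041 (iv F76366)) (tt N12190 F75247) (tt N12473 F75248) (tt N13036 (iv F76335)) (tt N13057 (iv F76458)) (tt N12189 (iv D19212)) (tt N13209 (iv F77135)) (tt N12498 F75249))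
theorem Q12756 : ∀ i, i < 12756 → P i := stepQ 12755 Q12755 (allL N12755 (tt N12408 F75250) (tt N12312 F75251) (tt N12766 (iv F75302)) (tt N12191 (iv D19213)) (tt N12755 F75252) (tt N13210 D19668) (tt N12217 F75253) (tt N13082 (iv F76596)) (tt N13069 (iv F76534)))
theorem Q12757 : ∀ i, i < 12757 → P i := stepQ 12756 Q12756 (allL N12756 (tt N12409 F75254) (tt N12313 F75255) (tt N12192 F75256) (tt N13210 (iv F77138)) (tt N13038 (iv F76348)) (tt N12191 (iv D19214)) (tt N13211 D19669) (tt N12193 F75257) (tt N13070 (iv F76540)))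
theorem Q12758 : ∀ i, i < 12758 → P i := stepQ 12757 Q12757 (allL N12757 (tt N12410 F75258) (tt N12200 F75259) (tt N13211 (iv F77141)) (tt N12768 (iv F75310)) (tt N13039 (iv F76354)) (tt N12219 F75260) (tt N12192 (iv D19215)) (tt N12194 F75261) (tt N13071 (iv F76546)))
theorem Q12759 : ∀ i, i < 12759 → P i := stepQ 12758 Q12758 (allL N12758 (tt N12414 F75262) (tt N12317 F75263) (tt N12194 F75264) (tt N13086 (iv F76611)) (tt N13040 (iv F76362)) (tt N12222 F75265) (tt N12193 (iv D19216)) (tt N13211 (iv F77143)) (tt N12362 F75266))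
theorem Q12760 : ∀ i, i < 12760 → P i := stepQ 12759 Q12759 (allL N12759 (tt N12416 F75267) (tt N12434 F75268) (tt N13086 (iv F76610)) (tt N12197 F75269) (tt N12435 F75270) (tt N12223 F75271) (tt N12195 (iv D19217)) (tt N13212 D19670) (tt N13123 (iv F76781)))
theorem Q12761 : ∀ i, i < 12761 → P i := stepQ 12760 Q12760 (allL N12760 (tt N12417 F75272) (tt N12422 F75273) (tt N13083 (iv F76599)) (tt N12691 F75274) (tt N12431 F75275) (tt N12196 F75276) (tt N13212 (iv F77149)) (tt N12195 (iv D19218)) (tt N13213 D19671))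
theorem Q12762 : ∀ i, i < 12762 → P i := stepQ 12761 Q12761 (allL N12761 (tt N12418 F75277) (tt N12420 F75278) (tt N13024 (iv F76265)) (tt N12688 F75279) (tt N12238 F75280) (tt N13213 (iv F77154)) (tt N12225 F75281) (tt N13017 (iv F76233)) (tt N12196 (iv D19219)))
theorem Q12763 : ∀ i, i < 12763 → P i := stepQ 12762 Q12762 (allL N12762 (tt N12329 F75282) (tt N13039 (iv F76352)) (tt N12322 F75283) (tt N13089 (iv F76628)) (tt N12200 F75284) (tt N13042 (iv F76377)) (tt N12198 (iv D19220)) (tt N12201 F75285) (tt N13068 (iv F76529)))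
theorem Q12764 : ∀ i, i < 12764 → P i := stepQ 12763 Q12763 (allL N12763 (tt N12330 F75286) (tt N13071 (iv F76542)) (tt N12323 F75287) (tt N12880 (iv F75744)) (tt N13068 (iv F76526)) (tt N12233 F75288) (tt N12199 (iv D19221)) (tt N12368 F75289) (tt N12200 F75290))
theorem Q12765 : ∀ i, i < 12765 → P i := stepQ 12764 Q12764 (allL N12764 (tt N12215 F75291) (tt N13162 (iv F76944)) (tt N12203 F75292) (tt N13214 D19672) (tt N12202 (iv D19222)) (tt N13215 D19673) (tt N12405 F75293) (tt N12485 F75294) (tt N12204 F75295))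
theorem Q12766 : ∀ i, i < 12766 → P i := stepQ 12765 Q12765 (allL N12765 (tt N12216 F75296) (tt N12339 F75297) (tt N13215 (iv F77161)) (tt N12581 F75298) (tt N12608 F75299) (tt N12203 (iv D19223)) (tt N13216 D19674) (tt N12822 (iv F75532)) (tt N12205 F75300))
theorem Q12767 : ∀ i, i < 12767 → P i := stepQ 12766 Q12766 (allL N12766 (tt N12217 F75301) (tt N13148 (iv F76894)) (tt N12755 F75302) (tt N12204 (iv D19224)) (tt N12766 F75303) (tt N13217 D19675) (tt N12408 F75304) (tt N13109 (iv F76716)) (tt N13214 (iv F77159)))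
theorem Q12768 : ∀ i, i < 12768 → P i := stepQ 12767 Q12767 (allL N12767 (tt N12218 F75305) (tt N13161 (iv F76939)) (tt N12205 F75306) (tt N13217 (iv F77173)) (tt N13044 (iv F76390)) (tt N12204 (iv D19225)) (tt N13218 D19676) (tt N12206 F75307) (tt N13215 (iv F77164)))
theorem Q12769 : ∀ i, i < 12769 → P i := stepQ 12768 Q12768 (allL N12768 (tt N12219 F75308) (tt N12342 F75309) (tt N13218 (iv F77175)) (tt N12757 F75310) (tt N13094 (iv F76649)) (tt N12410 F75311) (tt N12205 (iv D19226)) (tt N12207 F75312) (tt N13216 (iv F77170)))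
theorem Q12770 : ∀ i, i < 12770 → P i := stepQ 12769 Q12769 (allL N12769 (tt N12222 F75313) (tt N13160 (iv F76932)) (tt N12207 F75314) (tt N13116 (iv F76742)) (tt N13043 (iv F76384)) (tt N12414 F75315) (tt N12206 (iv D19227)) (tt N13218 (iv F77177)) (tt N12500 F75316))
theorem Q12771 : ∀ i, i < 12771 → P i := stepQ 12770 Q12770 (allL N12770 (tt N12611 F75317) (tt N12656 F75318) (tt N12210 F75319) (tt N13219 D19677) (tt N12209 (iv D19228)) (tt N13220 D19678) (tt N12772 (iv F75331)) (tt N12479 F75320) (tt N12536 F75321))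
theorem Q12772 : ∀ i, i < 12772 → P i := stepQ 12771 Q12771 (allL N12771 (tt N12612 F75322) (tt N12226 F75323) (tt N13220 (iv F77186)) (tt N12214 F75324) (tt N12539 F75325) (tt N12210 (iv D19229)) (tt N13221 D19679) (tt N12563 F75326) (tt N12537 F75327))
theorem Q12773 : ∀ i, i < 12773 → P i := stepQ 12772 Q12772 (allL N12772 (tt N12607 F75328) (tt N12463 F75329) (tt N12212 F75330) (tt N13222 D19680) (tt N12211 (iv D19230)) (tt N13223 D19681) (tt N12770 F75331) (tt N12478 F75332) (tt N12213 F75333))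
theorem Q12774 : ∀ i, i < 12774 → P i := stepQ 12773 Q12773 (allL N12773 (tt N12608 F75334) (tt N12228 F75335) (tt N13223 (iv F77205)) (tt N12537 F75336) (tt N12216 F75337) (tt N12212 (iv D19231)) (tt N13224 D19682) (tt N12747 F75338) (tt N12214 F75339))
theorem Q12775 : ∀ i, i < 12775 → P i := stepQ 12774 Q12774 (allL N12774 (tt N13022 (iv F76254)) (tt N12465 F75340) (tt N13219 (iv F77180)) (tt N12213 (iv D19232)) (tt N12774 F75341) (tt N13225 D19683) (tt N13045 (iv F76395)) (tt N13014 (iv F76214)) (tt N13222 (iv F77202)))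
theorem Q12776 : ∀ i, i < 12776 → P i := stepQ 12775 Q12775 (allL N12775 (tt N13044 (iv F76387)) (tt N12466 F75342) (tt N12214 F75343) (tt N13225 (iv F77217)) (tt N12218 F75344) (tt N12213 (iv D19233)) (tt N13226 D19684) (tt N12220 F75345) (tt N13223 (iv F77208)))
theorem Q12777 : ∀ i, i < 12777 → P i := stepQ 12776 Q12776 (allL N12776 (tt N13094 (iv F76647)) (tt N12230 F75346) (tt N13226 (iv F77219)) (tt N13221 (iv F77192)) (tt N12219 F75347) (tt N13047 (iv F76405)) (tt N12214 (iv D19234)) (tt N12221 F75348) (tt N13224 (iv F77215)))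
theorem Q12778 : ∀ i, i < 12778 → P i := stepQ 12777 Q12777 (allL N12777 (tt N13214 (iv F77155)) (tt N12468 F75349) (tt N12931 (iv F75921)) (tt N12215 (iv D19235)) (tt N12777 F75350) (tt N13227 D19685) (tt N13069 (iv F76533)) (tt N13228 D19686) (tt N12217 F75351))
theorem Q12779 : ∀ i, i < 12779 → P i := stepQ 12778 Q12778 (allL N12778 (tt N13215 (iv F77160)) (tt N12469 F75352) (tt N12216 F75353) (tt N13227 (iv F77223)) (tt N13223 (iv F77206)) (tt N12215 (iv D19236)) (tt N13229 D19687) (tt N12487 F75354) (tt N12218 F75355))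
theorem Q12780 : ∀ i, i < 12780 → P i := stepQ 12779 Q12779 (allL N12779 (tt N13216 (iv F77165)) (tt N12233 F75356) (tt N13229 (iv F77229)) (tt N12933 (iv F75927)) (tt N13224 (iv F77212)) (tt N13071 (iv F76544)) (tt N12216 (iv D19237)) (tt N13076 (iv F76565)) (tt N12219 F75357))
theorem Q12781 : ∀ i, i < 12781 → P i := stepQ 12780 Q12780 (allL N12780 (tt N13217 (iv F77171)) (tt N12471 F75358) (tt N12936 (iv F75934)) (tt N12218 F75359) (tt N13230 D19688) (tt N12217 (iv D19238)) (tt N13231 D19689) (tt N13111 (iv F76724)) (tt N13227 (iv F77224)))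
theorem Q12782 : ∀ i, i < 12782 → P i := stepQ 12781 Q12781 (allL N12781 (tt N13218 (iv F77174)) (tt N12472 F75360) (tt N12219 F75361) (tt N13231 (iv F77235)) (tt N13226 (iv F77220)) (tt N13211 (iv F77142)) (tt N12218 (iv D19239)) (tt N12222 F75362) (tt N13229 (iv F77231)))
theorem Q12783 : ∀ i, i < 12783 → P i := stepQ 12782 Q12782 (allL N12782 (tt N13043 (iv F76380)) (tt N12473 F75363) (tt N12221 F75364) (tt N13041 (iv F76368)) (tt N12222 F75365) (tt N13055 (iv F76444)) (tt N12220 (iv D19240)) (tt N13226 (iv F77221)) (tt N12497 F75366))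
theorem Q12784 : ∀ i, i < 12784 → P i := stepQ 12783 Q12783 (allL N12783 (tt N13165 (iv F76956)) (tt N13090 (iv F76633)) (tt N13112 (iv F76726)) (tt N12945 (iv F75957)) (tt N13176 (iv F76998)) (tt N13212 (iv F77148)) (tt N12224 F75367) (tt N12223 (iv D19241)) (tt N13232 D19690))
theorem Q12785 : ∀ i, i < 12785 → P i := stepQ 12784 Q12784 (allL N12784 (tt N13163 (iv F76949)) (tt N13088 (iv F76621)) (tt N13105 (iv F76697)) (tt N12946 (iv F75960)) (tt N13167 (iv F76967)) (tt N12225 F75368) (tt N13232 (iv F77236)) (tt N13151 (iv F76906)) (tt N12224 (iv D19242)))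
theorem Q12786 : ∀ i, i < 12786 → P i := stepQ 12785 Q12785 (allL N12785 (tt N12364 F75369) (tt N13221 (iv F77191)) (tt N12802 (iv F75445)) (tt N12230 F75370) (tt N12947 (iv F75965)) (tt N12787 (iv F75378)) (tt N12226 (iv D19243)) (tt N12995 (iv F76136)) (tt N12786 (iv F75374)))
theorem Q12787 : ∀ i, i < 12787 → P i := stepQ 12786 Q12786 (allL N12786 (tt N12365 F75371) (tt N13047 (iv F76403)) (tt N13058 (iv F76462)) (tt N12787 (iv F75376)) (tt N13042 (iv F76376)) (tt N12230 F75372) (tt N12227 (iv D19244)) (tt N12236 F75373) (tt N12785 F75374))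
theorem Q12788 : ∀ i, i < 12788 → P i := stepQ 12787 Q12787 (allL N12787 (tt N12366 F75375) (tt N13224 (iv F77210)) (tt N13067 (iv F76516)) (tt N12786 F75376) (tt N12233 F75377) (tt N12785 F75378) (tt N12228 (iv D19245)) (tt N13207 (iv F77127)) (tt N12230 F75379))
theorem Q12789 : ∀ i, i < 12789 → P i := stepQ 12788 Q12788 (allL N12788 (tt N12367 F75380) (tt N12467 F75381) (tt N12230 F75382) (tt N12714 F75383) (tt N12235 F75384) (tt N13058 (iv F76465)) (tt N12229 (iv D19246)) (tt N12237 F75385) (tt N13067 (iv F76521)))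
theorem Q12790 : ∀ i, i < 12790 → P i := stepQ 12789 Q12789 (allL N12789 (tt N12269 F75386) (tt N12445 F75387) (tt N12954 (iv F75990)) (tt N12232 F75388) (tt N12261 F75389) (tt N12231 (iv D19247)) (tt N13233 D19691) (tt N12812 (iv F75496)) (tt N12234 F75390))
theorem Q12791 : ∀ i, i < 12791 → P i := stepQ 12790 Q12790 (allL N12790 (tt N12368 F75391) (tt N12470 F75392) (tt N12233 F75393) (tt N13233 (iv F77239)) (tt N13067 (iv F76518)) (tt N12323 F75394) (tt N12232 (iv D19248)) (tt N12330 F75395) (tt N12235 F75396))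
theorem Q12792 : ∀ i, i < 12792 → P i := stepQ 12791 Q12791 (allL N12791 (tt N12370 F75397) (tt N12450 F75398) (tt N12959 (iv F76009)) (tt N12235 F75399) (tt N12718 F75400) (tt N12286 F75401) (tt N12234 (iv D19249)) (tt N12259 F75402) (tt N13233 (iv F77242)))
theorem Q12793 : ∀ i, i < 12793 → P i := stepQ 12792 Q12792 (allL N12792 (tt N12649 F75403) (tt N12889 (iv F75779)) (tt N12241 F75404) (tt N12296 F75405) (tt N12893 (iv F75797)) (tt N12569 F75406) (tt N12240 (iv D19250)) (tt N12553 F75407) (tt N12592 F75408))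
theorem Q12794 : ∀ i, i < 12794 → P i := stepQ 12793 Q12793 (allL N12793 (tt N12796 (iv F75419)) (tt N12982 (iv F76094)) (tt N13133 (iv F76828)) (tt N12242 (iv D19251)) (tt N12793 F75409) (tt N13234 D19692) (tt N13014 (iv F76213)) (tt N13045 (iv F76396)) (tt N12751 F75410))
theorem Q12795 : ∀ i, i < 12795 → P i := stepQ 12794 Q12794 (allL N12794 (tt N12797 (iv F75426)) (tt N12983 (iv F76100)) (tt N12243 F75411) (tt N13234 (iv F77243)) (tt N12247 F75412) (tt N12242 (iv D19252)) (tt N13235 D19693) (tt N12249 F75413) (tt N12752 F75414))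
theorem Q12796 : ∀ i, i < 12796 → P i := stepQ 12795 Q12795 (allL N12795 (tt N12798 (iv F75432)) (tt N12254 F75415) (tt N13235 (iv F77245)) (tt N13135 (iv F76838)) (tt N12248 F75416) (tt N13016 (iv F76226)) (tt N12243 (iv D19253)) (tt N12250 F75417) (tt N12753 F75418))
theorem Q12797 : ∀ i, i < 12797 → P i := stepQ 12796 Q12796 (allL N12796 (tt N12793 F75419) (tt N12721 F75420) (tt N12673 F75421) (tt N12244 (iv D19254)) (tt N12796 F75422) (tt N13236 D19694) (tt N12508 F75423) (tt N12614 F75424) (tt N12246 F75425))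
theorem Q12798 : ∀ i, i < 12798 → P i := stepQ 12797 Q12797 (allL N12797 (tt N12794 F75426) (tt N12722 F75427) (tt N12245 F75428) (tt N13236 (iv F77252)) (tt N12752 F75429) (tt N12244 (iv D19255)) (tt N13237 D19695) (tt N12523 F75430) (tt N12247 F75431))
theorem Q12799 : ∀ i, i < 12799 → P i := stepQ 12798 Q12798 (allL N12798 (tt N12795 F75432) (tt N12255 F75433) (tt N13237 (iv F77257)) (tt N12675 F75434) (tt N12753 F75435) (tt N12510 F75436) (tt N12245 (iv D19256)) (tt N12524 F75437) (tt N12248 F75438))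
theorem Q12800 : ∀ i, i < 12800 → P i := stepQ 12799 Q12799 (allL N12799 (tt N13208 (iv F77129)) (tt N13181 (iv F77021)) (tt N12678 F75439) (tt N12247 F75440) (tt N13238 D19696) (tt N12246 (iv D19257)) (tt N13239 D19697) (tt N13121 (iv F76769)) (tt N13236 (iv F77254)))
theorem Q12801 : ∀ i, i < 12801 → P i := stepQ 12800 Q12800 (allL N12800 (tt N13209 (iv F77133)) (tt N13182 (iv F77024)) (tt N12248 F75441) (tt N13239 (iv F77265)) (tt N13235 (iv F77246)) (tt N13118 (iv F76753)) (tt N12247 (iv D19258)) (tt N12251 F75442) (tt N13237 (iv F77261)))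
theorem Q12802 : ∀ i, i < 12802 → P i := stepQ 12801 Q12801 (allL N12801 (tt N13036 (iv F76331)) (tt N13057 (iv F76454)) (tt N12250 F75443) (tt N13055 (iv F76442)) (tt N12251 F75444) (tt N13041 (iv F76370)) (tt N12249 (iv D19259)) (tt N13235 (iv F77247)) (tt N13012 F76204))
theorem Q12803 : ∀ i, i < 12803 → P i := stepQ 12802 Q12802 (allL N12802 (tt N12895 (iv F75805)) (tt N13135 (iv F76837)) (tt N12785 F75445) (tt N12254 F75446) (tt N12686 F75447) (tt N13067 (iv F76519)) (tt N12252 (iv D19260)) (tt N12475 F75448) (tt N13058 (iv F76467)))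
theorem Q12804 : ∀ i, i < 12804 → P i := stepQ 12803 Q12803 (allL N12803 (tt N12574 F75449) (tt N12753 F75450) (tt N12577 F75451) (tt N13058 (iv F76463)) (tt N12255 F75452) (tt N12714 F75453) (tt N12253 (iv D19261)) (tt N12522 F75454) (tt N12254 F75455))
theorem Q12805 : ∀ i, i < 12805 → P i := stepQ 12804 Q12804 (allL N12804 (tt N12257 F75456) (tt N12699 F75457) (tt N12458 F75458) (tt N12567 F75459) (tt N12256 (iv D19262)) (tt N13240 D19698) (tt N12294 F75460) (tt N12956 (iv F76001)) (tt N12819 (iv F75522)))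
theorem Q12806 : ∀ i, i < 12806 → P i := stepQ 12805 Q12805 (allL N12805 (tt N13240 (iv F77266)) (tt N12258 F75461) (tt N12459 F75462) (tt N12568 F75463) (tt N12493 F75464) (tt N12257 (iv D19263)) (tt N13241 D19699) (tt N12957 (iv F76005)) (tt N12820 (iv F75525)))
theorem Q12807 : ∀ i, i < 12807 → P i := stepQ 12806 Q12806 (allL N12806 (tt N12704 F75465) (tt N13241 (iv F77271)) (tt N12259 F75466) (tt N12569 F75467) (tt N12495 F75468) (tt N12296 F75469) (tt N12258 (iv D19264)) (tt N12959 (iv F76013)) (tt N12821 (iv F75528)))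
theorem Q12808 : ∀ i, i < 12808 → P i := stepQ 12807 Q12807 (allL N12807 (tt N12268 F75470) (tt N12825 (iv F75546)) (tt N13173 (iv F76988)) (tt N12301 F75471) (tt N12812 (iv F75495)) (tt N12260 (iv D19265)) (tt N13242 D19700) (tt N12261 F75472) (tt N12809 (iv F75480)))
theorem Q12809 : ∀ i, i < 12809 → P i := stepQ 12808 Q12808 (allL N12808 (tt N12273 F75473) (tt N13185 (iv F77038)) (tt N13172 (iv F76983)) (tt N12262 F75474) (tt N13233 (iv F77240)) (tt N12388 F75475) (tt N12261 (iv D19266)) (tt N13242 (iv F77279)) (tt N12718 F75476))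
theorem Q12810 : ∀ i, i < 12810 → P i := stepQ 12809 Q12809 (allL N12809 (tt N12812 (iv F75492)) (tt N12279 F75477) (tt N13008 (iv F76188)) (tt N12846 (iv F75611)) (tt N12268 F75478) (tt N12263 (iv D19267)) (tt N13243 D19701) (tt N12269 F75479) (tt N12807 F75480))
theorem Q12811 : ∀ i, i < 12811 → P i := stepQ 12810 Q12810 (allL N12810 (tt N13244 D19702) (tt N12264 (iv D19268)) (tt N12280 F75481) (tt N12810 F75482) (tt N13245 D19703) (tt N12709 F75483) (tt N12443 F75484) (tt N12437 F75485) (tt N12266 F75486))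
theorem Q12812 : ∀ i, i < 12812 → P i := stepQ 12811 Q12811 (allL N12811 (tt N12489 F75487) (tt N13245 (iv F77292)) (tt N12265 F75488) (tt N13246 D19704) (tt N12264 (iv D19269)) (tt N13247 D19705) (tt N12444 F75489) (tt N12426 F75490) (tt N12267 F75491))
theorem Q12813 : ∀ i, i < 12813 → P i := stepQ 12812 Q12812 (allL N12812 (tt N12809 F75492) (tt N12282 F75493) (tt N13247 (iv F77304)) (tt N12311 F75494) (tt N12807 F75495) (tt N12265 (iv D19270)) (tt N13248 D19706) (tt N12789 F75496) (tt N12268 F75497))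
theorem Q12814 : ∀ i, i < 12814 → P i := stepQ 12813 Q12813 (allL N12813 (tt N12266 (iv D19271)) (tt N13180 (iv F77015)) (tt N12283 F75498) (tt N12813 F75499) (tt N13249 D19707) (tt N13013 (iv F76208)) (tt N12446 F75500) (tt N12270 F75501) (tt N13244 (iv F77291)))
theorem Q12815 : ∀ i, i < 12815 → P i := stepQ 12814 Q12814 (allL N12814 (tt N13249 (iv F77315)) (tt N12267 F75502) (tt N12284 F75503) (tt N13250 D19708) (tt N12266 (iv D19272)) (tt N13251 D19709) (tt N12447 F75504) (tt N12271 F75505) (tt N13245 (iv F77296)))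
theorem Q12816 : ∀ i, i < 12816 → P i := stepQ 12815 Q12815 (allL N12815 (tt N13107 (iv F76702)) (tt N13250 (iv F77319)) (tt N12312 F75506) (tt N12267 (iv D19273)) (tt N12815 F75507) (tt N13252 D19710) (tt N12448 F75508) (tt N13048 (iv F76411)) (tt N13246 (iv F77302)))
theorem Q12817 : ∀ i, i < 12817 → P i := stepQ 12816 Q12816 (allL N12816 (tt N13173 (iv F76987)) (tt N13251 (iv F77324)) (tt N12268 F75509) (tt N13252 (iv F77328)) (tt N13008 (iv F76189)) (tt N12267 (iv D19274)) (tt N13253 D19711) (tt N12272 F75510) (tt N13247 (iv F77307)))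
theorem Q12818 : ∀ i, i < 12818 → P i := stepQ 12817 Q12817 (allL N12817 (tt N13242 (iv F77276)) (tt N12286 F75511) (tt N13253 (iv F77329)) (tt N12314 F75512) (tt N13243 (iv F77281)) (tt N12450 F75513) (tt N12268 (iv D19275)) (tt N12273 F75514) (tt N13248 (iv F77314)))
theorem Q12819 : ∀ i, i < 12819 → P i := stepQ 12818 Q12818 (allL N12818 (tt N13233 (iv F77237)) (tt N12293 F75515) (tt N13007 (iv F76184)) (tt N12368 F75516) (tt N12273 F75517) (tt N13198 (iv F77088)) (tt N12269 (iv D19276)) (tt N13243 (iv F77283)) (tt N12370 F75518))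
theorem Q12820 : ∀ i, i < 12820 → P i := stepQ 12819 Q12819 (allL N12819 (tt N12271 F75519) (tt N13166 (iv F76962)) (tt N12294 F75520) (tt N12873 (iv F75711)) (tt N12270 (iv D19277)) (tt N13254 D19712) (tt N12458 F75521) (tt N13249 (iv F77318)) (tt N12804 F75522))
theorem Q12821 : ∀ i, i < 12821 → P i := stepQ 12820 Q12820 (allL N12820 (tt N13254 (iv F77332)) (tt N12272 F75523) (tt N12295 F75524) (tt N12885 (iv F75763)) (tt N13004 (iv F76177)) (tt N12271 (iv D19278)) (tt N13255 D19713) (tt N13251 (iv F77326)) (tt N12805 F75525))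
theorem Q12822 : ∀ i, i < 12822 → P i := stepQ 12821 Q12821 (allL N12821 (tt N13172 (iv F76982)) (tt N13255 (iv F77335)) (tt N12273 F75526) (tt N13063 (iv F76494)) (tt N13007 (iv F76186)) (tt N12460 F75527) (tt N12272 (iv D19279)) (tt N13253 (iv F77331)) (tt N12806 F75528))
theorem Q12823 : ∀ i, i < 12823 → P i := stepQ 12822 Q12822 (allL N12822 (tt N12586 F75529) (tt N12846 (iv F75610)) (tt N13003 (iv F76171)) (tt N12279 F75530) (tt N12319 F75531) (tt N12274 (iv D19280)) (tt N13256 D19714) (tt N12765 F75532) (tt N12642 F75533))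
theorem Q12824 : ∀ i, i < 12824 → P i := stepQ 12823 Q12823 (allL N12823 (tt N12917 (iv F75883)) (tt N12275 (iv D19281)) (tt N12709 F75534) (tt N12371 F75535) (tt N13257 D19715) (tt N12280 F75536) (tt N12382 F75537) (tt N12708 F75538) (tt N12277 F75539))
theorem Q12825 : ∀ i, i < 12825 → P i := stepQ 12824 Q12824 (allL N12824 (tt N12451 F75540) (tt N13257 (iv F77345)) (tt N12276 F75541) (tt N12976 (iv F76074)) (tt N12275 (iv D19282)) (tt N13258 D19716) (tt N12383 F75542) (tt N12719 F75543) (tt N12278 F75544))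
theorem Q12826 : ∀ i, i < 12826 → P i := stepQ 12825 Q12825 (allL N12825 (tt N12452 F75545) (tt N12807 F75546) (tt N13258 (iv F77351)) (tt N12642 F75547) (tt N12282 F75548) (tt N12276 (iv D19283)) (tt N13259 D19717) (tt N12720 F75549) (tt N12279 F75550))
theorem Q12827 : ∀ i, i < 12827 → P i := stepQ 12826 Q12826 (allL N12826 (tt N13200 (iv F77095)) (tt N12278 F75551) (tt N13005 (iv F76180)) (tt N13199 (iv F77093)) (tt N12277 (iv D19284)) (tt N13260 D19718) (tt N12736 F75552) (tt N12290 F75553) (tt N13257 (iv F77349)))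
theorem Q12828 : ∀ i, i < 12828 → P i := stepQ 12827 Q12827 (allL N12827 (tt N12290 F75554) (tt N13199 (iv F77092)) (tt N13002 (iv F76167)) (tt N12278 (iv D19285)) (tt N12289 F75555) (tt N13261 D19719) (tt N12737 F75556) (tt N13200 (iv F77099)) (tt N12976 (iv F76076)))
theorem Q12829 : ∀ i, i < 12829 → P i := stepQ 12828 Q12828 (allL N12828 (tt N12837 (iv F75580)) (tt N13260 (iv F77362)) (tt N12279 F75557) (tt N13261 (iv F77366)) (tt N12285 F75558) (tt N12278 (iv D19286)) (tt N13262 D19720) (tt N12292 F75559) (tt N13258 (iv F77354)))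
theorem Q12830 : ∀ i, i < 12830 → P i := stepQ 12829 Q12829 (allL N12829 (tt N12838 (iv F75584)) (tt N13243 (iv F77280)) (tt N13262 (iv F77368)) (tt N13256 (iv F77340)) (tt N12286 F75560) (tt N12739 F75561) (tt N12279 (iv D19287)) (tt N12293 F75562) (tt N13259 (iv F77361)))
theorem Q12831 : ∀ i, i < 12831 → P i := stepQ 12830 Q12830 (allL N12830 (tt N12280 (iv D19288)) (tt N12521 F75563) (tt N13244 (iv F77286)) (tt N12372 F75564) (tt N13263 D19721) (tt N12917 (iv F75885)) (tt N12960 (iv F76017)) (tt N12964 (iv F76035)) (tt N12283 F75565))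
theorem Q12832 : ∀ i, i < 12832 → P i := stepQ 12831 Q12831 (allL N12831 (tt N13263 (iv F77372)) (tt N12281 F75566) (tt N13245 (iv F77293)) (tt N12878 (iv F75736)) (tt N12280 (iv D19289)) (tt N13264 D19722) (tt N12952 (iv F75985)) (tt N12965 (iv F76039)) (tt N12284 F75567))
theorem Q12833 : ∀ i, i < 12833 → P i := stepQ 12832 Q12832 (allL N12832 (tt N12890 (iv F75784)) (tt N13264 (iv F77376)) (tt N12282 F75568) (tt N12879 (iv F75741)) (tt N13258 (iv F77352)) (tt N12281 (iv D19290)) (tt N13265 D19723) (tt N12967 (iv F76045)) (tt N12285 F75569))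
theorem Q12834 : ∀ i, i < 12834 → P i := stepQ 12833 Q12833 (allL N12833 (tt N13198 (iv F77084)) (tt N13248 (iv F77309)) (tt N13265 (iv F77378)) (tt N12323 F75570) (tt N13259 (iv F77358)) (tt N13233 (iv F77241)) (tt N12282 (iv D19291)) (tt N12968 (iv F76048)) (tt N12286 F75571))
theorem Q12835 : ∀ i, i < 12835 → P i := stepQ 12834 Q12834 (allL N12834 (tt N12284 F75572) (tt N12644 F75573) (tt N13249 (iv F77316)) (tt N12643 F75574) (tt N12283 (iv D19292)) (tt N13266 D19724) (tt N12956 (iv F76000)) (tt N12294 F75575) (tt N13263 (iv F77375)))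
theorem Q12836 : ∀ i, i < 12836 → P i := stepQ 12835 Q12835 (allL N12835 (tt N13266 (iv F77380)) (tt N12285 F75576) (tt N13251 (iv F77325)) (tt N12881 (iv F75748)) (tt N13260 (iv F77363)) (tt N12284 (iv D19293)) (tt N13267 D19725) (tt N12295 F75577) (tt N13264 (iv F77377)))
theorem Q12837 : ∀ i, i < 12837 → P i := stepQ 12836 Q12836 (allL N12836 (tt N12894 (iv F75800)) (tt N13267 (iv F77384)) (tt N12286 F75578) (tt N12882 (iv F75752)) (tt N13262 (iv F77369)) (tt N12959 (iv F76012)) (tt N12285 (iv D19294)) (tt N12296 F75579) (tt N13265 (iv F77379)))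
theorem Q12838 : ∀ i, i < 12838 → P i := stepQ 12837 Q12837 (allL N12837 (tt N12828 F75580) (tt N12840 (iv F75591)) (tt N12288 F75581) (tt N12839 (iv F75589)) (tt N12358 F75582) (tt N12287 (iv D19295)) (tt N13268 D19726) (tt N12738 F75583) (tt N12974 (iv F76066)))
theorem Q12839 : ∀ i, i < 12839 → P i := stepQ 12838 Q12838 (allL N12838 (tt N12829 F75584) (tt N13198 (iv F77085)) (tt N13268 (iv F77387)) (tt N13076 (iv F76563)) (tt N12734 F75585) (tt N12293 F75586) (tt N12288 (iv D19296)) (tt N12739 F75587) (tt N12975 (iv F76071)))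
theorem Q12840 : ∀ i, i < 12840 → P i := stepQ 12839 Q12839 (allL N12839 (tt N13261 (iv F77365)) (tt N12292 F75588) (tt N13004 (iv F76175)) (tt N12837 F75589) (tt N12295 F75590) (tt N12290 (iv D19297)) (tt N13269 D19727) (tt N13260 (iv F77364)) (tt N12977 (iv F76081)))
theorem Q12841 : ∀ i, i < 12841 → P i := stepQ 12840 Q12840 (allL N12840 (tt N13202 (iv F77103)) (tt N12837 F75591) (tt N13077 (iv F76568)) (tt N12292 F75592) (tt N12892 (iv F75793)) (tt N12291 (iv D19298)) (tt N13270 D19728) (tt N13201 (iv F77102)) (tt N12978 (iv F76085)))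
theorem Q12842 : ∀ i, i < 12842 → P i := stepQ 12841 Q12841 (allL N12841 (tt N13203 (iv F77106)) (tt N13269 (iv F77391)) (tt N12293 F75593) (tt N13270 (iv F77395)) (tt N12296 F75594) (tt N13268 (iv F77389)) (tt N12292 (iv D19299)) (tt N13262 (iv F77371)) (tt N12979 (iv F76088)))
theorem Q12843 : ∀ i, i < 12843 → P i := stepQ 12842 Q12842 (allL N12842 (tt N12295 F75595) (tt N13204 (iv F77110)) (tt N13254 (iv F77333)) (tt N12876 (iv F75729)) (tt N13261 (iv F77367)) (tt N12294 (iv D19300)) (tt N13271 D19729) (tt N13266 (iv F77383)) (tt N12980 (iv F76090)))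
theorem Q12844 : ∀ i, i < 12844 → P i := stepQ 12843 Q12843 (allL N12843 (tt N13271 (iv F77397)) (tt N12296 F75596) (tt N13255 (iv F77336)) (tt N12889 (iv F75781)) (tt N13269 (iv F77393)) (tt N13241 (iv F77275)) (tt N12295 (iv D19301)) (tt N13267 (iv F77385)) (tt N12981 (iv F76092)))
theorem Q12845 : ∀ i, i < 12845 → P i := stepQ 12844 Q12844 (allL N12844 (tt N12404 F75597) (tt N12297 (iv D19302)) (tt N12424 F75598) (tt N12844 F75599) (tt N13272 D19730) (tt N12440 F75600) (tt N12395 F75601) (tt N12337 F75602) (tt N12299 F75603))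
theorem Q12846 : ∀ i, i < 12846 → P i := stepQ 12845 Q12845 (allL N12845 (tt N12310 F75604) (tt N13272 (iv F77399)) (tt N12298 F75605) (tt N13273 D19731) (tt N12297 (iv D19303)) (tt N13274 D19732) (tt N12396 F75606) (tt N12338 F75607) (tt N12300 F75608))
theorem Q12847 : ∀ i, i < 12847 → P i := stepQ 12846 Q12846 (allL N12846 (tt N12311 F75609) (tt N12822 F75610) (tt N13274 (iv F77411)) (tt N12809 F75611) (tt N12854 (iv F75645)) (tt N12298 (iv D19304)) (tt N13275 D19733) (tt N12339 F75612) (tt N12301 F75613))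
theorem Q12848 : ∀ i, i < 12848 → P i := stepQ 12847 Q12847 (allL N12847 (tt N12407 F75614) (tt N12300 F75615) (tt N12429 F75616) (tt N13276 D19734) (tt N12299 (iv D19305)) (tt N13277 D19735) (tt N12398 F75617) (tt N12302 F75618) (tt N13272 (iv F77403)))
theorem Q12849 : ∀ i, i < 12849 → P i := stepQ 12848 Q12848 (allL N12848 (tt N12312 F75619) (tt N13276 (iv F77421)) (tt N13107 (iv F76703)) (tt N12300 (iv D19306)) (tt N12848 F75620) (tt N13278 D19736) (tt N12399 F75621) (tt N13037 (iv F76343)) (tt N13273 (iv F77409)))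
theorem Q12850 : ∀ i, i < 12850 → P i := stepQ 12849 Q12849 (allL N12849 (tt N12313 F75622) (tt N13277 (iv F77426)) (tt N12301 F75623) (tt N13278 (iv F77431)) (tt N13142 (iv F76872)) (tt N12300 (iv D19307)) (tt N13279 D19737) (tt N12303 F75624) (tt N13274 (iv F77413)))
theorem Q12851 : ∀ i, i < 12851 → P i := stepQ 12850 Q12850 (allL N12850 (tt N12314 F75625) (tt N13124 (iv F76783)) (tt N13279 (iv F77433)) (tt N13242 (iv F77277)) (tt N13143 (iv F76876)) (tt N12401 F75626) (tt N12301 (iv D19308)) (tt N12304 F75627) (tt N13275 (iv F77419)))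
theorem Q12852 : ∀ i, i < 12852 → P i := stepQ 12851 Q12851 (allL N12851 (tt N12411 F75628) (tt N12303 F75629) (tt N12415 F75630) (tt N12315 F75631) (tt N12412 F75632) (tt N12302 (iv D19309)) (tt N13280 D19738) (tt N13277 (iv F77429)) (tt N12345 F75633))
theorem Q12853 : ∀ i, i < 12853 → P i := stepQ 12852 Q12852 (allL N12852 (tt N12317 F75634) (tt N13280 (iv F77437)) (tt N12304 F75635) (tt N13040 (iv F76361)) (tt N13159 (iv F76928)) (tt N12403 F75636) (tt N12303 (iv D19310)) (tt N13279 (iv F77435)) (tt N12346 F75637))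
theorem Q12854 : ∀ i, i < 12854 → P i := stepQ 12853 Q12853 (allL N12853 (tt N12582 F75638) (tt N12942 (iv F75947)) (tt N12306 F75639) (tt N13281 D19739) (tt N12305 (iv D19311)) (tt N13282 D19740) (tt N12667 F75640) (tt N12590 F75641) (tt N12665 F75642))
theorem Q12855 : ∀ i, i < 12855 → P i := stepQ 12854 Q12854 (allL N12854 (tt N12855 (iv F75647)) (tt N12319 F75643) (tt N13282 (iv F77449)) (tt N12309 F75644) (tt N12846 F75645) (tt N12306 (iv D19312)) (tt N13283 D19741) (tt N12875 (iv F75725)) (tt N12666 F75646))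
theorem Q12856 : ∀ i, i < 12856 → P i := stepQ 12855 Q12855 (allL N12855 (tt N12854 F75647) (tt N12321 F75648) (tt N13073 (iv F76552)) (tt N12666 F75649) (tt N12311 F75650) (tt N12307 (iv D19313)) (tt N13284 D19742) (tt N12350 F75651) (tt N12309 F75652))
theorem Q12857 : ∀ i, i < 12857 → P i := stepQ 12856 Q12856 (allL N12856 (tt N13141 (iv F76863)) (tt N13037 (iv F76339)) (tt N13281 (iv F77444)) (tt N12308 (iv D19314)) (tt N12856 F75653) (tt N13285 D19743) (tt N13051 (iv F76426)) (tt N13276 (iv F77424)) (tt N13072 (iv F76550)))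
theorem Q12858 : ∀ i, i < 12858 → P i := stepQ 12857 Q12857 (allL N12857 (tt N13142 (iv F76869)) (tt N13038 (iv F76346)) (tt N12309 F75654) (tt N13285 (iv F77465)) (tt N12313 F75655) (tt N12308 (iv D19315)) (tt N13286 D19744) (tt N12315 F75656) (tt N13073 (iv F76555)))
theorem Q12859 : ∀ i, i < 12859 → P i := stepQ 12858 Q12858 (allL N12858 (tt N13143 (iv F76874)) (tt N12322 F75657) (tt N13286 (iv F77466)) (tt N13283 (iv F77454)) (tt N12314 F75658) (tt N13132 (iv F76825)) (tt N12309 (iv D19316)) (tt N12316 F75659) (tt N13284 (iv F77464)))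
theorem Q12860 : ∀ i, i < 12860 → P i := stepQ 12859 Q12859 (allL N12859 (tt N13273 (iv F77404)) (tt N13069 (iv F76531)) (tt N13246 (iv F77298)) (tt N12310 (iv D19317)) (tt N12859 F75660) (tt N13287 D19745) (tt N12468 F75661) (tt N13188 (iv F77055)) (tt N12312 F75662))
theorem Q12861 : ∀ i, i < 12861 → P i := stepQ 12860 Q12860 (allL N12860 (tt N13274 (iv F77410)) (tt N13070 (iv F76536)) (tt N12311 F75663) (tt N13287 (iv F77469)) (tt N13073 (iv F76553)) (tt N12310 (iv D19318)) (tt N13288 D19746) (tt N12354 F75664) (tt N12313 F75665))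
theorem Q12862 : ∀ i, i < 12862 → P i := stepQ 12861 Q12861 (allL N12861 (tt N13275 (iv F77414)) (tt N12323 F75666) (tt N13288 (iv F77471)) (tt N13248 (iv F77310)) (tt N13284 (iv F77461)) (tt N12470 F75667) (tt N12311 (iv D19319)) (tt N12355 F75668) (tt N12314 F75669))
theorem Q12863 : ∀ i, i < 12863 → P i := stepQ 12862 Q12862 (allL N12862 (tt N13278 (iv F77430)) (tt N13210 (iv F77137)) (tt N13252 (iv F77327)) (tt N12313 F75670) (tt N13289 D19747) (tt N12312 (iv D19320)) (tt N13290 D19748) (tt N13084 (iv F76603)) (tt N13287 (iv F77470)))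
theorem Q12864 : ∀ i, i < 12864 → P i := stepQ 12863 Q12863 (allL N12863 (tt N13279 (iv F77432)) (tt N13211 (iv F77140)) (tt N12314 F75671) (tt N13290 (iv F77476)) (tt N13286 (iv F77467)) (tt N12472 F75672) (tt N12313 (iv D19321)) (tt N12317 F75673) (tt N13288 (iv F77474)))
theorem Q12865 : ∀ i, i < 12865 → P i := stepQ 12864 Q12864 (allL N12864 (tt N13159 (iv F76924)) (tt N13040 (iv F76359)) (tt N12316 F75674) (tt N13280 (iv F77439)) (tt N12317 F75675) (tt N13056 (iv F76451)) (tt N12315 (iv D19322)) (tt N13286 (iv F77468)) (tt N12361 F75676))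
theorem Q12866 : ∀ i, i < 12866 → P i := stepQ 12865 Q12865 (allL N12865 (tt N12997 (iv F76140)) (tt N12946 (iv F75959)) (tt N12319 F75677) (tt N13088 (iv F76623)) (tt N13003 (iv F76172)) (tt N12318 (iv D19323)) (tt N13291 D19749) (tt N13092 (iv F76643)) (tt N12561 F75678))
theorem Q12867 : ∀ i, i < 12867 → P i := stepQ 12866 Q12866 (allL N12866 (tt N13206 (iv F77116)) (tt N13283 (iv F77453)) (tt N13291 (iv F77478)) (tt N12322 F75679) (tt N13256 (iv F77341)) (tt N12690 F75680) (tt N12319 (iv D19324)) (tt N13093 (iv F76646)) (tt N12687 F75681))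
theorem Q12868 : ∀ i, i < 12868 → P i := stepQ 12867 Q12867 (allL N12867 (tt N13059 (iv F76468)) (tt N13132 (iv F76823)) (tt N13042 (iv F76374)) (tt N12690 F75682) (tt N13058 (iv F76464)) (tt N12322 F75683) (tt N12320 (iv D19325)) (tt N12324 F75684) (tt N12686 F75685))
theorem Q12869 : ∀ i, i < 12869 → P i := stepQ 12868 Q12868 (allL N12868 (tt N13207 (iv F77121)) (tt N13284 (iv F77459)) (tt N13068 (iv F76524)) (tt N12687 F75686) (tt N12323 F75687) (tt N12686 F75688) (tt N12321 (iv D19326)) (tt N12366 F75689) (tt N12322 F75690))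
theorem Q12870 : ∀ i, i < 12870 → P i := stepQ 12869 Q12869 (allL N12869 (tt N13088 (iv F76620)) (tt N12998 (iv F76147)) (tt N12326 F75691) (tt N12997 (iv F76143)) (tt N12885 (iv F75764)) (tt N12325 (iv D19327)) (tt N13292 D19750) (tt N13134 (iv F76834)) (tt N12476 F75692))
theorem Q12871 : ∀ i, i < 12871 → P i := stepQ 12870 Q12870 (allL N12870 (tt N13089 (iv F76626)) (tt N12475 F75693) (tt N13292 (iv F77481)) (tt N12329 F75694) (tt N12886 (iv F75768)) (tt N12481 F75695) (tt N12326 (iv D19328)) (tt N13135 (iv F76840)) (tt N12477 F75696))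
theorem Q12872 : ∀ i, i < 12872 → P i := stepQ 12871 Q12871 (allL N12871 (tt N13042 (iv F76372)) (tt N12477 F75697) (tt N13059 (iv F76470)) (tt N12481 F75698) (tt N12365 F75699) (tt N12329 F75700) (tt N12327 (iv D19329)) (tt N12331 F75701) (tt N12475 F75702))
theorem Q12873 : ∀ i, i < 12873 → P i := stepQ 12872 Q12872 (allL N12872 (tt N13068 (iv F76522)) (tt N12481 F75703) (tt N13207 (iv F77123)) (tt N12477 F75704) (tt N12330 F75705) (tt N12475 F75706) (tt N12328 (iv D19330)) (tt N13067 (iv F76520)) (tt N12329 F75707))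
theorem Q12874 : ∀ i, i < 12874 → P i := stepQ 12873 Q12873 (allL N12873 (tt N12347 F75708) (tt N12693 F75709) (tt N12333 F75710) (tt N12819 F75711) (tt N12332 (iv D19331)) (tt N13293 D19751) (tt N12590 F75712) (tt N12667 F75713) (tt N12567 F75714))
theorem Q12875 : ∀ i, i < 12875 → P i := stepQ 12874 Q12874 (allL N12874 (tt N12348 F75715) (tt N12612 F75716) (tt N13293 (iv F77486)) (tt N12336 F75717) (tt N12602 F75718) (tt N12333 (iv D19332)) (tt N13294 D19752) (tt N12668 F75719) (tt N12600 F75720))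
theorem Q12876 : ∀ i, i < 12876 → P i := stepQ 12875 Q12875 (allL N12875 (tt N12350 F75721) (tt N12608 F75722) (tt N13080 (iv F76583)) (tt N12600 F75723) (tt N12339 F75724) (tt N12334 (iv D19333)) (tt N13295 D19753) (tt N12854 F75725) (tt N12336 F75726))
theorem Q12877 : ∀ i, i < 12877 → P i := stepQ 12876 Q12876 (allL N12876 (tt N12351 F75727) (tt N13128 (iv F76801)) (tt N12336 F75728) (tt N12842 F75729) (tt N12341 F75730) (tt N12335 (iv D19334)) (tt N13296 D19754) (tt N12343 F75731) (tt N13080 (iv F76586)))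
theorem Q12878 : ∀ i, i < 12878 → P i := stepQ 12877 Q12877 (allL N12877 (tt N12352 F75732) (tt N13094 (iv F76648)) (tt N13296 (iv F77505)) (tt N13294 (iv F77493)) (tt N12342 F75733) (tt N13087 (iv F76618)) (tt N12336 (iv D19335)) (tt N12344 F75734) (tt N13295 (iv F77503)))
theorem Q12879 : ∀ i, i < 12879 → P i := stepQ 12878 Q12878 (allL N12878 (tt N13028 (iv F76287)) (tt N12338 F75735) (tt N13162 (iv F76945)) (tt N12831 F75736) (tt N12337 (iv D19336)) (tt N13297 D19755) (tt N12425 F75737) (tt N13272 (iv F77402)) (tt N12340 F75738))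
theorem Q12880 : ∀ i, i < 12880 → P i := stepQ 12879 Q12879 (allL N12879 (tt N12354 F75739) (tt N13297 (iv F77509)) (tt N12339 F75740) (tt N12832 F75741) (tt N13080 (iv F76585)) (tt N12338 (iv D19337)) (tt N13298 D19756) (tt N13274 (iv F77412)) (tt N12341 F75742))
theorem Q12881 : ∀ i, i < 12881 → P i := stepQ 12880 Q12880 (allL N12880 (tt N12355 F75743) (tt N13216 (iv F77166)) (tt N13298 (iv F77513)) (tt N12763 F75744) (tt N13295 (iv F77500)) (tt N12428 F75745) (tt N12339 (iv D19338)) (tt N13275 (iv F77418)) (tt N12342 F75746))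
theorem Q12882 : ∀ i, i < 12882 → P i := stepQ 12881 Q12881 (allL N12881 (tt N13125 (iv F76788)) (tt N12341 F75747) (tt N13161 (iv F76940)) (tt N12835 F75748) (tt N13128 (iv F76803)) (tt N12340 (iv D19339)) (tt N13299 D19757) (tt N12345 F75749) (tt N13297 (iv F77511)))
theorem Q12883 : ∀ i, i < 12883 → P i := stepQ 12882 Q12882 (allL N12882 (tt N12359 F75750) (tt N13299 (iv F77517)) (tt N12342 F75751) (tt N12836 F75752) (tt N13296 (iv F77507)) (tt N12433 F75753) (tt N12341 (iv D19340)) (tt N12346 F75754) (tt N13298 (iv F77516)))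
theorem Q12884 : ∀ i, i < 12884 → P i := stepQ 12883 Q12883 (allL N12883 (tt N12361 F75755) (tt N13131 (iv F76816)) (tt N12344 F75756) (tt N13130 (iv F76811)) (tt N12346 F75757) (tt N13066 (iv F76512)) (tt N12343 (iv D19341)) (tt N13296 (iv F77508)) (tt N13159 (iv F76930)))
theorem Q12885 : ∀ i, i < 12885 → P i := stepQ 12884 Q12884 (allL N12884 (tt N13130 (iv F76808)) (tt N12346 F75758) (tt N13160 (iv F76933)) (tt N12361 F75759) (tt N13131 (iv F76819)) (tt N12435 F75760) (tt N12345 (iv D19342)) (tt N13299 (iv F77520)) (tt N13280 (iv F77442)))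
theorem Q12886 : ∀ i, i < 12886 → P i := stepQ 12885 Q12885 (allL N12885 (tt N13293 (iv F77484)) (tt N12565 F75761) (tt N12348 F75762) (tt N12820 F75763) (tt N12869 F75764) (tt N12347 (iv D19343)) (tt N13300 D19758) (tt N13139 (iv F76856)) (tt N12568 F75765))
theorem Q12887 : ∀ i, i < 12887 → P i := stepQ 12886 Q12886 (allL N12886 (tt N13294 (iv F77491)) (tt N12364 F75766) (tt N13300 (iv F77522)) (tt N12352 F75767) (tt N12870 F75768) (tt N12888 (iv F75777)) (tt N12348 (iv D19344)) (tt N13140 (iv F76861)) (tt N12887 (iv F75773)))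
theorem Q12888 : ∀ i, i < 12888 → P i := stepQ 12887 Q12887 (allL N12887 (tt N13087 (iv F76615)) (tt N12365 F75769) (tt N13065 (iv F76503)) (tt N12888 (iv F75775)) (tt N12477 F75770) (tt N12352 F75771) (tt N12349 (iv D19345)) (tt N12360 F75772) (tt N12886 F75773))
theorem Q12889 : ∀ i, i < 12889 → P i := stepQ 12888 Q12888 (allL N12888 (tt N13295 (iv F77497)) (tt N12366 F75774) (tt N13081 (iv F76588)) (tt N12887 F75775) (tt N12355 F75776) (tt N12886 F75777) (tt N12350 (iv D19346)) (tt N13284 (iv F77463)) (tt N12352 F75778))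
theorem Q12890 : ∀ i, i < 12890 → P i := stepQ 12889 Q12889 (allL N12889 (tt N13296 (iv F77504)) (tt N12792 F75779) (tt N12352 F75780) (tt N12843 F75781) (tt N12359 F75782) (tt N13065 (iv F76505)) (tt N12351 (iv D19347)) (tt N12361 F75783) (tt N13081 (iv F76591)))
theorem Q12891 : ∀ i, i < 12891 → P i := stepQ 12890 Q12890 (allL N12890 (tt N12832 F75784) (tt N13077 (iv F76567)) (tt N12733 F75785) (tt N12354 F75786) (tt N12974 (iv F76064)) (tt N12353 (iv D19348)) (tt N13301 D19759) (tt N13189 (iv F77060)) (tt N12358 F75787))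
theorem Q12892 : ∀ i, i < 12892 → P i := stepQ 12891 Q12891 (allL N12891 (tt N13298 (iv F77512)) (tt N13079 (iv F76577)) (tt N12355 F75788) (tt N13301 (iv F77529)) (tt N13081 (iv F76590)) (tt N12490 F75789) (tt N12354 (iv D19349)) (tt N13288 (iv F77473)) (tt N12359 F75790))
theorem Q12893 : ∀ i, i < 12893 → P i := stepQ 12892 Q12892 (allL N12892 (tt N13126 (iv F76793)) (tt N12358 F75791) (tt N12978 (iv F76083)) (tt N12357 F75792) (tt N12840 F75793) (tt N12356 (iv D19350)) (tt N13302 D19760) (tt N12741 F75794) (tt N13077 (iv F76571)))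
theorem Q12894 : ∀ i, i < 12894 → P i := stepQ 12893 Q12893 (allL N12893 (tt N13127 (iv F76795)) (tt N12359 F75795) (tt N12369 F75796) (tt N13302 (iv F77533)) (tt N12792 F75797) (tt N12494 F75798) (tt N12357 (iv D19351)) (tt N12362 F75799) (tt N13079 (iv F76581)))
theorem Q12895 : ∀ i, i < 12895 → P i := stepQ 12894 Q12894 (allL N12894 (tt N12836 F75800) (tt N13302 (iv F77532)) (tt N12734 F75801) (tt N12359 F75802) (tt N13268 (iv F77388)) (tt N12495 F75803) (tt N12358 (iv D19352)) (tt N12742 F75804) (tt N13301 (iv F77531)))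
theorem Q12896 : ∀ i, i < 12896 → P i := stepQ 12895 Q12895 (allL N12895 (tt N12802 F75805) (tt N12566 F75806) (tt N12364 F75807) (tt N12575 F75808) (tt N12995 (iv F76135)) (tt N12579 F75809) (tt N12363 (iv D19353)) (tt N12947 (iv F75966)) (tt N12558 F75810))
theorem Q12897 : ∀ i, i < 12897 → P i := stepQ 12896 Q12896 (allL N12896 (tt N12373 (iv D19354)) (tt N12710 F75811) (tt N12385 F75812) (tt N12896 F75813) (tt N13303 D19761) (tt N12904 (iv F75835)) (tt N13179 (iv F77011)) (tt N12909 (iv F75854)) (tt N12726 F75814))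
theorem Q12898 : ∀ i, i < 12898 → P i := stepQ 12897 Q12897 (allL N12897 (tt N13303 (iv F77537)) (tt N12374 F75815) (tt N12386 F75816) (tt N13304 D19762) (tt N12373 (iv D19355)) (tt N13305 D19763) (tt N13168 (iv F76971)) (tt N12910 (iv F75858)) (tt N12727 F75817))
theorem Q12899 : ∀ i, i < 12899 → P i := stepQ 12898 Q12898 (allL N12898 (tt N12961 (iv F76019)) (tt N13304 (iv F77541)) (tt N12376 F75818) (tt N12374 (iv D19356)) (tt N12898 F75819) (tt N13306 D19764) (tt N13183 (iv F77031)) (tt N13307 D19765) (tt N12728 F75820))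
theorem Q12900 : ∀ i, i < 12900 → P i := stepQ 12899 Q12899 (allL N12899 (tt N12962 (iv F76023)) (tt N13305 (iv F77544)) (tt N12375 F75821) (tt N13306 (iv F77548)) (tt N12907 (iv F75844)) (tt N12374 (iv D19357)) (tt N13308 D19766) (tt N12912 (iv F75867)) (tt N12729 F75822))
theorem Q12901 : ∀ i, i < 12901 → P i := stepQ 12900 Q12900 (allL N12900 (tt N12963 (iv F76027)) (tt N12388 F75823) (tt N13308 (iv F77554)) (tt N12378 F75824) (tt N12908 (iv F75848)) (tt N13185 (iv F77041)) (tt N12375 (iv D19358)) (tt N12913 (iv F75873)) (tt N12730 F75825))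
theorem Q12902 : ∀ i, i < 12902 → P i := stepQ 12901 Q12901 (allL N12901 (tt N13181 (iv F77020)) (tt N13021 (iv F76252)) (tt N13306 (iv F77547)) (tt N12377 F75826) (tt N13309 D19767) (tt N12376 (iv D19359)) (tt N13310 D19768) (tt N13311 D19769) (tt N12731 F75827))
theorem Q12903 : ∀ i, i < 12903 → P i := stepQ 12902 Q12902 (allL N12902 (tt N13119 (iv F76756)) (tt N13022 (iv F76255)) (tt N13307 (iv F77551)) (tt N12393 F75828) (tt N12902 F75829) (tt N13311 (iv F77561)) (tt N13099 (iv F76676)) (tt N12376 (iv D19360)) (tt N13312 D19770))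
theorem Q12904 : ∀ i, i < 12904 → P i := stepQ 12903 Q12903 (allL N12903 (tt N13182 (iv F77023)) (tt N13023 (iv F76259)) (tt N12378 F75830) (tt N13310 (iv F77558)) (tt N13118 (iv F76752)) (tt N13187 (iv F77048)) (tt N12377 (iv D19361)) (tt N12394 F75831) (tt N12732 F75832))
theorem Q12905 : ∀ i, i < 12905 → P i := stepQ 12904 Q12904 (allL N12904 (tt N12379 (iv D19362)) (tt N12446 F75833) (tt N12909 (iv F75851)) (tt N12904 F75834) (tt N13313 D19771) (tt N12896 F75835) (tt N13180 (iv F77018)) (tt N12385 F75836) (tt N13035 (iv F76330)))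
theorem Q12906 : ∀ i, i < 12906 → P i := stepQ 12905 Q12905 (allL N12905 (tt N13313 (iv F77566)) (tt N12380 F75837) (tt N12910 (iv F75857)) (tt N13314 D19772) (tt N12379 (iv D19363)) (tt N13315 D19773) (tt N13170 (iv F76978)) (tt N12386 F75838) (tt N13078 (iv F76576)))
theorem Q12907 : ∀ i, i < 12907 → P i := stepQ 12906 Q12906 (allL N12906 (tt N12448 F75839) (tt N13314 (iv F77569)) (tt N12399 F75840) (tt N12380 (iv D19364)) (tt N12906 F75841) (tt N13316 D19774) (tt N13107 (iv F76706)) (tt N13025 (iv F76273)) (tt N13188 (iv F77056)))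
theorem Q12908 : ∀ i, i < 12908 → P i := stepQ 12907 Q12907 (allL N12907 (tt N12449 F75842) (tt N13315 (iv F77571)) (tt N12381 F75843) (tt N13316 (iv F77576)) (tt N12899 F75844) (tt N12380 (iv D19365)) (tt N13317 D19775) (tt N12387 F75845) (tt N13189 (iv F77061)))
theorem Q12909 : ∀ i, i < 12909 → P i := stepQ 12908 Q12908 (allL N12908 (tt N12450 F75846) (tt N12913 (iv F75870)) (tt N13317 (iv F77578)) (tt N12401 F75847) (tt N12900 F75848) (tt N13242 (iv F77278)) (tt N12381 (iv D19366)) (tt N12388 F75849) (tt N13190 (iv F77066)))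
theorem Q12910 : ∀ i, i < 12910 → P i := stepQ 12909 Q12909 (allL N12909 (tt N12382 (iv D19367)) (tt N12453 F75850) (tt N12904 F75851) (tt N12389 F75852) (tt N13318 D19776) (tt N12385 F75853) (tt N12917 (iv F75886)) (tt N12896 F75854) (tt N12735 F75855))
theorem Q12911 : ∀ i, i < 12911 → P i := stepQ 12910 Q12910 (allL N12910 (tt N13318 (iv F77581)) (tt N12383 F75856) (tt N12905 F75857) (tt N13319 D19777) (tt N12382 (iv D19368)) (tt N13320 D19778) (tt N13257 (iv F77347)) (tt N12897 F75858) (tt N12736 F75859))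
theorem Q12912 : ∀ i, i < 12912 → P i := stepQ 12911 Q12911 (allL N12911 (tt N12455 F75860) (tt N13319 (iv F77588)) (tt N12644 F75861) (tt N12383 (iv D19369)) (tt N12391 F75862) (tt N13321 D19779) (tt N12976 (iv F76075)) (tt N13191 (iv F77070)) (tt N12737 F75863))
theorem Q12913 : ∀ i, i < 12913 → P i := stepQ 12912 Q12912 (allL N12912 (tt N12456 F75864) (tt N13320 (iv F77592)) (tt N12384 F75865) (tt N13321 (iv F77599)) (tt N12387 F75866) (tt N12383 (iv D19370)) (tt N13322 D19780) (tt N12899 F75867) (tt N12738 F75868))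
theorem Q12914 : ∀ i, i < 12914 → P i := stepQ 12913 Q12913 (allL N12913 (tt N12457 F75869) (tt N12908 F75870) (tt N13322 (iv F77602)) (tt N12646 F75871) (tt N12388 F75872) (tt N13259 (iv F77359)) (tt N12384 (iv D19371)) (tt N12900 F75873) (tt N12739 F75874))
theorem Q12915 : ∀ i, i < 12915 → P i := stepQ 12914 Q12914 (allL N12914 (tt N12386 F75875) (tt N12458 F75876) (tt N13303 (iv F77539)) (tt N13032 (iv F76312)) (tt N12385 (iv D19372)) (tt N13323 D19781) (tt N13166 (iv F76964)) (tt N13313 (iv F77568)) (tt N12740 F75877))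
theorem Q12916 : ∀ i, i < 12916 → P i := stepQ 12915 Q12915 (allL N12915 (tt N13323 (iv F77606)) (tt N12387 F75878) (tt N13305 (iv F77545)) (tt N13033 (iv F76317)) (tt N13320 (iv F77594)) (tt N12386 (iv D19373)) (tt N13324 D19782) (tt N13315 (iv F77573)) (tt N12741 F75879))
theorem Q12917 : ∀ i, i < 12917 → P i := stepQ 12916 Q12916 (allL N12916 (tt N12460 F75880) (tt N13324 (iv F77609)) (tt N12388 F75881) (tt N13034 (iv F76321)) (tt N13322 (iv F77603)) (tt N13172 (iv F76985)) (tt N12387 (iv D19374)) (tt N13317 (iv F77580)) (tt N12742 F75882))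
theorem Q12918 : ∀ i, i < 12918 → P i := stepQ 12917 Q12917 (allL N12917 (tt N12823 F75883) (tt N12391 F75884) (tt N13180 (iv F77016)) (tt N12390 (iv D19375)) (tt N13319 (iv F77589)) (tt N12830 F75885) (tt N12909 F75886) (tt N13179 F77013) (tt N12743 F75887))
theorem Q12919 : ∀ i, i < 12919 → P i := stepQ 12918 Q12918 (allL N12918 (tt N13123 (iv F76775)) (tt N13043 (iv F76381)) (tt N13131 (iv F76817)) (tt N12394 F75888) (tt N13160 (iv F76935)) (tt N13115 (iv F76737)) (tt N12392 (iv D19376)) (tt N13325 D19783) (tt N12416 F75889))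
theorem Q12920 : ∀ i, i < 12920 → P i := stepQ 12919 Q12919 (allL N12919 (tt N13120 (iv F76761)) (tt N13044 (iv F76388)) (tt N13128 (iv F76802)) (tt N13311 (iv F77560)) (tt N13161 (iv F76941)) (tt N12393 F75890) (tt N13325 (iv F77611)) (tt N12392 (iv D19377)) (tt N13326 D19784))
theorem Q12921 : ∀ i, i < 12921 → P i := stepQ 12920 Q12920 (allL N12920 (tt N13017 (iv F76229)) (tt N12607 F75891) (tt N13032 (iv F76311)) (tt N13312 (iv F77563)) (tt N12439 F75892) (tt N13326 (iv F77613)) (tt N13095 (iv F76656)) (tt N12418 F75893) (tt N12393 (iv D19378)))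
theorem Q12922 : ∀ i, i < 12922 → P i := stepQ 12921 Q12921 (allL N12921 (tt N13162 (iv F76943)) (tt N12396 F75894) (tt N13028 (iv F76289)) (tt N13327 D19785) (tt N12395 (iv D19379)) (tt N13328 D19786) (tt N13272 (iv F77401)) (tt N12425 F75895) (tt N12398 F75896))
theorem Q12923 : ∀ i, i < 12923 → P i := stepQ 12922 Q12922 (allL N12922 (tt N12468 F75897) (tt N13327 (iv F77615)) (tt N13188 (iv F77052)) (tt N12396 (iv D19380)) (tt N12922 F75898) (tt N13329 D19787) (tt N13273 (iv F77407)) (tt N13246 (iv F77301)) (tt N12399 F75899))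
theorem Q12924 : ∀ i, i < 12924 → P i := stepQ 12923 Q12923 (allL N12923 (tt N12469 F75900) (tt N13328 (iv F77618)) (tt N12397 F75901) (tt N13329 (iv F77622)) (tt N13019 (iv F76242)) (tt N12396 (iv D19381)) (tt N13330 D19788) (tt N12427 F75902) (tt N12400 F75903))
theorem Q12925 : ∀ i, i < 12925 → P i := stepQ 12924 Q12924 (allL N12924 (tt N12470 F75904) (tt N13031 (iv F76304)) (tt N13330 (iv F77625)) (tt N13190 (iv F77064)) (tt N13020 (iv F76248)) (tt N13275 (iv F77417)) (tt N12397 (iv D19382)) (tt N12428 F75905) (tt N12401 F75906))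
theorem Q12926 : ∀ i, i < 12926 → P i := stepQ 12925 Q12925 (allL N12925 (tt N13148 (iv F76893)) (tt N12399 F75907) (tt N13331 D19789) (tt N12398 (iv D19383)) (tt N12925 F75908) (tt N13332 D19790) (tt N13276 (iv F77423)) (tt N13051 (iv F76427)) (tt N13327 (iv F77617)))
theorem Q12927 : ∀ i, i < 12927 → P i := stepQ 12926 Q12926 (allL N12926 (tt N13161 (iv F76938)) (tt N12400 F75909) (tt N13125 (iv F76790)) (tt N13332 (iv F77633)) (tt N13120 (iv F76764)) (tt N12398 (iv D19384)) (tt N13333 D19791) (tt N12402 F75910) (tt N13328 (iv F77620)))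
theorem Q12928 : ∀ i, i < 12928 → P i := stepQ 12927 Q12927 (allL N12927 (tt N12471 F75911) (tt N13332 (iv F77632)) (tt N13316 (iv F77575)) (tt N12400 F75912) (tt N13334 D19792) (tt N12399 (iv D19385)) (tt N13335 D19793) (tt N13053 (iv F76435)) (tt N13329 (iv F77623)))
theorem Q12929 : ∀ i, i < 12929 → P i := stepQ 12928 Q12928 (allL N12928 (tt N12472 F75913) (tt N13333 (iv F77634)) (tt N12401 F75914) (tt N13335 (iv F77639)) (tt N13122 (iv F76772)) (tt N13279 (iv F77434)) (tt N12400 (iv D19386)) (tt N12403 F75915) (tt N13330 (iv F77627)))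
theorem Q12930 : ∀ i, i < 12930 → P i := stepQ 12929 Q12929 (allL N12929 (tt N13160 (iv F76931)) (tt N12403 F75916) (tt N13130 (iv F76810)) (tt N13056 (iv F76449)) (tt N13123 (iv F76779)) (tt N13280 (iv F77441)) (tt N12402 (iv D19387)) (tt N13333 (iv F77635)) (tt N12435 F75917))
theorem Q12931 : ∀ i, i < 12931 → P i := stepQ 12930 Q12930 (allL N12930 (tt N13272 (iv F77398)) (tt N12405 F75918) (tt N12425 F75919) (tt N13336 D19794) (tt N12404 (iv D19388)) (tt N13337 D19795) (tt N13162 (iv F76947)) (tt N13028 (iv F76291)) (tt N12407 F75920))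
theorem Q12932 : ∀ i, i < 12932 → P i := stepQ 12931 Q12931 (allL N12931 (tt N13069 (iv F76530)) (tt N13336 (iv F77640)) (tt N12777 F75921) (tt N12405 (iv D19389)) (tt N12931 F75922) (tt N13338 D19796) (tt N13214 (iv F77158)) (tt N13339 D19797) (tt N12408 F75923))
theorem Q12933 : ∀ i, i < 12933 → P i := stepQ 12932 Q12932 (allL N12932 (tt N13070 (iv F76535)) (tt N13337 (iv F77643)) (tt N12406 F75924) (tt N13338 (iv F77647)) (tt N13026 (iv F76277)) (tt N12405 (iv D19390)) (tt N13340 D19798) (tt N13030 (iv F76301)) (tt N12409 F75925))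
theorem Q12934 : ∀ i, i < 12934 → P i := stepQ 12933 Q12933 (allL N12933 (tt N13071 (iv F76541)) (tt N12428 F75926) (tt N13340 (iv F77651)) (tt N12779 F75927) (tt N13027 (iv F76283)) (tt N13216 (iv F77169)) (tt N12406 (iv D19391)) (tt N13031 (iv F76307)) (tt N12410 F75928))
theorem Q12935 : ∀ i, i < 12935 → P i := stepQ 12934 Q12934 (allL N12934 (tt N13276 (iv F77420)) (tt N12408 F75929) (tt N12970 (iv F76054)) (tt N12407 (iv D19392)) (tt N12934 F75930) (tt N13341 D19799) (tt N13148 (iv F76897)) (tt N13141 (iv F76868)) (tt N13336 (iv F77642)))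
theorem Q12936 : ∀ i, i < 12936 → P i := stepQ 12935 Q12935 (allL N12935 (tt N13277 (iv F77425)) (tt N12409 F75931) (tt N12431 F75932) (tt N13341 (iv F77654)) (tt N13083 (iv F76600)) (tt N12407 (iv D19393)) (tt N13342 D19800) (tt N12411 F75933) (tt N13337 (iv F77645)))
theorem Q12937 : ∀ i, i < 12937 → P i := stepQ 12936 Q12936 (allL N12936 (tt N13210 (iv F77136)) (tt N13341 (iv F77653)) (tt N12780 F75934) (tt N12409 F75935) (tt N13343 D19801) (tt N12408 (iv D19394)) (tt N13344 D19802) (tt N13345 D19803) (tt N13338 (iv F77648)))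
theorem Q12938 : ∀ i, i < 12938 → P i := stepQ 12937 Q12937 (allL N12937 (tt N13082 (iv F76592)) (tt N13141 (iv F76864)) (tt N12623 F75936) (tt N12413 F75937) (tt N12937 F75938) (tt N13345 (iv F77664)) (tt N13109 (iv F76715)) (tt N12408 (iv D19395)) (tt N13346 D19804))
theorem Q12939 : ∀ i, i < 12939 → P i := stepQ 12938 Q12938 (allL N12938 (tt N13211 (iv F77139)) (tt N13342 (iv F77655)) (tt N12410 F75939) (tt N13344 (iv F77661)) (tt N13085 (iv F76605)) (tt N13218 (iv F77176)) (tt N12409 (iv D19396)) (tt N12414 F75940) (tt N13340 (iv F77652)))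
theorem Q12940 : ∀ i, i < 12940 → P i := stepQ 12939 Q12939 (allL N12939 (tt N13280 (iv F77436)) (tt N12414 F75941) (tt N12435 F75942) (tt N13159 (iv F76927)) (tt N13086 (iv F76612)) (tt N13160 (iv F76936)) (tt N12411 (iv D19397)) (tt N13342 (iv F77657)) (tt N13130 (iv F76814)))
theorem Q12941 : ∀ i, i < 12941 → P i := stepQ 12940 Q12940 (allL N12940 (tt N13086 (iv F76608)) (tt N13159 (iv F76925)) (tt N12416 F75943) (tt N12414 F75944) (tt N13280 (iv F77440)) (tt N13116 (iv F76744)) (tt N12412 (iv D19398)) (tt N13347 D19805) (tt N13131 (iv F76821)))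
theorem Q12942 : ∀ i, i < 12942 → P i := stepQ 12941 Q12941 (allL N12941 (tt N13083 (iv F76597)) (tt N13142 (iv F76870)) (tt N12417 F75945) (tt N13345 (iv F77663)) (tt N13277 (iv F77428)) (tt N12413 F75946) (tt N13347 (iv F77670)) (tt N12412 (iv D19399)) (tt N13348 D19806))
theorem Q12943 : ∀ i, i < 12943 → P i := stepQ 12942 Q12942 (allL N12942 (tt N13024 (iv F76263)) (tt N12853 F75947) (tt N12418 F75948) (tt N13346 (iv F77667)) (tt N12440 F75949) (tt N13348 (iv F77673)) (tt N13103 (iv F76690)) (tt N13032 (iv F76314)) (tt N12413 (iv D19400)))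
theorem Q12944 : ∀ i, i < 12944 → P i := stepQ 12943 Q12943 (allL N12943 (tt N12435 F75950) (tt N12500 F75951) (tt N13280 (iv F77438)) (tt N13066 (iv F76510)) (tt N12416 F75952) (tt N13130 (iv F76813)) (tt N12415 (iv D19401)) (tt N13349 D19807) (tt N13160 (iv F76937)))
theorem Q12945 : ∀ i, i < 12945 → P i := stepQ 12944 Q12944 (allL N12944 (tt N12431 F75953) (tt N12492 F75954) (tt N13277 (iv F77427)) (tt N13350 D19808) (tt N12417 F75955) (tt N12429 F75956) (tt N13349 (iv F77677)) (tt N12415 (iv D19402)) (tt N13351 D19809))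
theorem Q12946 : ∀ i, i < 12946 → P i := stepQ 12945 Q12945 (allL N12945 (tt N13212 (iv F77144)) (tt N13060 (iv F76476)) (tt N13347 (iv F77669)) (tt N12783 F75957) (tt N13349 (iv F77676)) (tt N13165 (iv F76959)) (tt N12417 F75958) (tt N12416 (iv D19403)) (tt N13352 D19810))
theorem Q12947 : ∀ i, i < 12947 → P i := stepQ 12946 Q12946 (allL N12946 (tt N13213 (iv F77150)) (tt N12865 F75959) (tt N13348 (iv F77672)) (tt N12784 F75960) (tt N13351 (iv F77685)) (tt N12418 F75961) (tt N13352 (iv F77689)) (tt N13326 (iv F77614)) (tt N12417 (iv D19404)))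
theorem Q12948 : ∀ i, i < 12948 → P i := stepQ 12947 Q12947 (allL N12947 (tt N12475 F75962) (tt N13050 (iv F76418)) (tt N12686 F75963) (tt N12423 F75964) (tt N12785 F75965) (tt N13068 (iv F76527)) (tt N12419 (iv D19405)) (tt N12895 F75966) (tt N13042 (iv F76379)))
theorem Q12949 : ∀ i, i < 12949 → P i := stepQ 12948 Q12948 (allL N12948 (tt N12480 F75967) (tt N13213 (iv F77151)) (tt N12421 F75968) (tt N12689 F75969) (tt N12427 F75970) (tt N12420 (iv D19406)) (tt N13353 D19811) (tt N13019 (iv F76243)) (tt N12422 F75971))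
theorem Q12950 : ∀ i, i < 12950 → P i := stepQ 12949 Q12949 (allL N12949 (tt N12481 F75972) (tt N13027 (iv F76281)) (tt N13353 (iv F77691)) (tt N13042 (iv F76375)) (tt N12428 F75973) (tt N13089 (iv F76629)) (tt N12421 (iv D19407)) (tt N13020 (iv F76250)) (tt N12423 F75974))
theorem Q12951 : ∀ i, i < 12951 → P i := stepQ 12950 Q12950 (allL N12950 (tt N12484 F75975) (tt N13212 (iv F77145)) (tt N12423 F75976) (tt N12692 F75977) (tt N12433 F75978) (tt N13090 (iv F76636)) (tt N12422 (iv D19408)) (tt N12434 F75979) (tt N13353 (iv F77694)))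
theorem Q12952 : ∀ i, i < 12952 → P i := stepQ 12951 Q12951 (allL N12951 (tt N12425 F75980) (tt N12485 F75981) (tt N13272 (iv F77400)) (tt N13354 D19812) (tt N12424 (iv D19409)) (tt N13351 (iv F77686)) (tt N13028 (iv F76290)) (tt N13162 (iv F76948)) (tt N12429 F75982))
theorem Q12953 : ∀ i, i < 12953 → P i := stepQ 12952 Q12952 (allL N12952 (tt N13354 (iv F77695)) (tt N12426 F75983) (tt N12965 (iv F76038)) (tt N12425 (iv D19410)) (tt N12437 F75984) (tt N13355 D19813) (tt N12831 F75985) (tt N13245 (iv F77295)) (tt N12430 F75986))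
theorem Q12954 : ∀ i, i < 12954 → P i := stepQ 12953 Q12953 (allL N12953 (tt N13351 (iv F77683)) (tt N12427 F75987) (tt N13337 (iv F77644)) (tt N13355 (iv F77701)) (tt N13213 (iv F77153)) (tt N12425 (iv D19411)) (tt N13356 D19814) (tt N13328 (iv F77619)) (tt N12431 F75988))
theorem Q12955 : ∀ i, i < 12955 → P i := stepQ 12954 Q12954 (allL N12954 (tt N12488 F75989) (tt N13355 (iv F77700)) (tt N12789 F75990) (tt N12427 F75991) (tt N12696 F75992) (tt N12426 (iv D19412)) (tt N13357 D19815) (tt N13247 (iv F77306)) (tt N12432 F75993))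
theorem Q12956 : ∀ i, i < 12956 → P i := stepQ 12955 Q12955 (allL N12955 (tt N12490 F75994) (tt N13356 (iv F77704)) (tt N12428 F75995) (tt N13357 (iv F77708)) (tt N13353 (iv F77693)) (tt N13298 (iv F77515)) (tt N12427 (iv D19413)) (tt N13330 (iv F77626)) (tt N12433 F75996))
theorem Q12957 : ∀ i, i < 12957 → P i := stepQ 12956 Q12956 (allL N12956 (tt N12430 F75997) (tt N12491 F75998) (tt N12969 (iv F76051)) (tt N12429 (iv D19414)) (tt N12438 F75999) (tt N13350 (iv F77681)) (tt N12834 F76000) (tt N12804 F76001) (tt N13354 (iv F77699)))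
theorem Q12958 : ∀ i, i < 12958 → P i := stepQ 12957 Q12957 (allL N12957 (tt N13350 (iv F77678)) (tt N12432 F76002) (tt N12971 (iv F76057)) (tt N12431 F76003) (tt N12702 F76004) (tt N12430 (iv D19415)) (tt N13358 D19816) (tt N12805 F76005) (tt N13355 (iv F77703)))
theorem Q12959 : ∀ i, i < 12959 → P i := stepQ 12958 Q12958 (allL N12958 (tt N13349 (iv F77674)) (tt N12433 F76006) (tt N13342 (iv F77656)) (tt N13358 (iv F77713)) (tt N13212 (iv F77147)) (tt N13299 (iv F77519)) (tt N12431 (iv D19416)) (tt N12435 F76007) (tt N13356 (iv F77705)))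
theorem Q12960 : ∀ i, i < 12960 → P i := stepQ 12959 Q12959 (allL N12959 (tt N12495 F76008) (tt N13358 (iv F77712)) (tt N12791 F76009) (tt N12433 F76010) (tt N12704 F76011) (tt N12836 F76012) (tt N12432 (iv D19417)) (tt N12806 F76013) (tt N13357 (iv F77711)))
theorem Q12961 : ∀ i, i < 12961 → P i := stepQ 12960 Q12960 (allL N12960 (tt N12437 F76014) (tt N12501 F76015) (tt N12964 (iv F76033)) (tt N12436 (iv D19418)) (tt N13354 (iv F77697)) (tt N12707 F76016) (tt N12830 F76017) (tt N13244 (iv F77290)) (tt N12438 F76018))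
theorem Q12962 : ∀ i, i < 12962 → P i := stepQ 12961 Q12961 (allL N12961 (tt N12898 F76019) (tt N13154 (iv F76912)) (tt N12715 F76020) (tt N12441 (iv D19419)) (tt N12961 F76021) (tt N13359 D19817) (tt N12728 F76022) (tt N13192 (iv F77075)) (tt N13183 (iv F77032)))
theorem Q12963 : ∀ i, i < 12963 → P i := stepQ 12962 Q12962 (allL N12962 (tt N12899 F76023) (tt N13177 (iv F77000)) (tt N12442 F76024) (tt N13359 (iv F77719)) (tt N12449 F76025) (tt N12441 (iv D19420)) (tt N13360 D19818) (tt N12456 F76026) (tt N13184 (iv F77036)))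
theorem Q12964 : ∀ i, i < 12964 → P i := stepQ 12963 Q12963 (allL N12963 (tt N12900 F76027) (tt N12718 F76028) (tt N13360 (iv F77721)) (tt N12717 F76029) (tt N12450 F76030) (tt N12730 F76031) (tt N12442 (iv D19421)) (tt N12457 F76032) (tt N13185 (iv F77042)))
theorem Q12965 : ∀ i, i < 12965 → P i := stepQ 12964 Q12964 (allL N12964 (tt N12443 (iv D19422)) (tt N13035 (iv F76325)) (tt N12960 F76033) (tt N12964 F76034) (tt N13361 D19819) (tt N13179 (iv F77010)) (tt N13244 (iv F77289)) (tt N12830 F76035) (tt N12446 F76036))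
theorem Q12966 : ∀ i, i < 12966 → P i := stepQ 12965 Q12965 (allL N12965 (tt N13361 (iv F77725)) (tt N12444 F76037) (tt N12952 F76038) (tt N13362 D19820) (tt N12443 (iv D19423)) (tt N13363 D19821) (tt N13245 (iv F77294)) (tt N12831 F76039) (tt N12447 F76040))
theorem Q12967 : ∀ i, i < 12967 → P i := stepQ 12966 Q12966 (allL N12966 (tt N13188 (iv F77051)) (tt N13362 (iv F77729)) (tt N12468 F76041) (tt N12444 (iv D19424)) (tt N12966 F76042) (tt N13364 D19822) (tt N13246 (iv F77300)) (tt N13273 (iv F77408)) (tt N12448 F76043))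
theorem Q12968 : ∀ i, i < 12968 → P i := stepQ 12967 Q12967 (allL N12967 (tt N13189 (iv F77057)) (tt N13363 (iv F77733)) (tt N12445 F76044) (tt N13364 (iv F77738)) (tt N13184 (iv F77035)) (tt N12444 (iv D19425)) (tt N13365 D19823) (tt N12832 F76045) (tt N12449 F76046))
theorem Q12969 : ∀ i, i < 12969 → P i := stepQ 12968 Q12968 (allL N12968 (tt N13190 (iv F77062)) (tt N13233 (iv F77238)) (tt N13365 (iv F77740)) (tt N12470 F76047) (tt N13185 (iv F77040)) (tt N13248 (iv F77312)) (tt N12445 (iv D19426)) (tt N12833 F76048) (tt N12450 F76049))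
theorem Q12970 : ∀ i, i < 12970 → P i := stepQ 12969 Q12969 (allL N12969 (tt N12447 F76050) (tt N13313 (iv F77567)) (tt N12956 F76051) (tt N13366 D19824) (tt N12446 (iv D19427)) (tt N13367 D19825) (tt N13249 (iv F77317)) (tt N12458 F76052) (tt N13361 (iv F77728)))
theorem Q12971 : ∀ i, i < 12971 → P i := stepQ 12970 Q12970 (allL N12970 (tt N13366 (iv F77743)) (tt N12448 F76053) (tt N12934 F76054) (tt N12447 (iv D19428)) (tt N12970 F76055) (tt N13368 D19826) (tt N13250 (iv F77322)) (tt N13072 (iv F76549)) (tt N13362 (iv F77732)))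
theorem Q12972 : ∀ i, i < 12972 → P i := stepQ 12971 Q12971 (allL N12971 (tt N13367 (iv F77748)) (tt N12449 F76056) (tt N12957 F76057) (tt N13368 (iv F77753)) (tt N13177 (iv F77002)) (tt N12447 (iv D19429)) (tt N13369 D19827) (tt N12459 F76058) (tt N13363 (iv F77736)))
theorem Q12973 : ∀ i, i < 12973 → P i := stepQ 12972 Q12972 (allL N12972 (tt N13316 (iv F77574)) (tt N13368 (iv F77751)) (tt N12471 F76059) (tt N12449 F76060) (tt N13370 D19828) (tt N12448 (iv D19430)) (tt N13371 D19829) (tt N13074 (iv F76558)) (tt N13364 (iv F77739)))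
theorem Q12974 : ∀ i, i < 12974 → P i := stepQ 12973 Q12973 (allL N12973 (tt N13317 (iv F77577)) (tt N13369 (iv F77754)) (tt N12450 F76061) (tt N13371 (iv F77760)) (tt N13360 (iv F77722)) (tt N13253 (iv F77330)) (tt N12449 (iv D19431)) (tt N12460 F76062) (tt N13365 (iv F77742)))
theorem Q12975 : ∀ i, i < 12975 → P i := stepQ 12974 Q12974 (allL N12974 (tt N13258 (iv F77350)) (tt N12978 (iv F76082)) (tt N12452 F76063) (tt N12977 (iv F76079)) (tt N12890 F76064) (tt N12451 (iv D19432)) (tt N13372 D19830) (tt N12729 F76065) (tt N12837 F76066))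
theorem Q12976 : ∀ i, i < 12976 → P i := stepQ 12975 Q12975 (allL N12975 (tt N13259 (iv F77355)) (tt N12734 F76067) (tt N13372 (iv F77761)) (tt N12746 F76068) (tt N13198 (iv F77087)) (tt N12457 F76069) (tt N12452 (iv D19433)) (tt N12730 F76070) (tt N12838 F76071))
theorem Q12977 : ∀ i, i < 12977 → P i := stepQ 12976 Q12976 (allL N12976 (tt N12454 F76072) (tt N13318 (iv F77582)) (tt N12491 F76073) (tt N12824 F76074) (tt N12453 (iv D19434)) (tt N13373 D19831) (tt N12911 F76075) (tt N13174 (iv F76993)) (tt N12827 F76076))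
theorem Q12978 : ∀ i, i < 12978 → P i := stepQ 12977 Q12977 (allL N12977 (tt N13373 (iv F77766)) (tt N12456 F76077) (tt N12493 F76078) (tt N12974 F76079) (tt N12459 F76080) (tt N12454 (iv D19435)) (tt N13374 D19832) (tt N13177 (iv F77003)) (tt N12839 F76081))
theorem Q12979 : ∀ i, i < 12979 → P i := stepQ 12978 Q12978 (allL N12978 (tt N13321 (iv F77597)) (tt N12974 F76082) (tt N12892 F76083) (tt N12456 F76084) (tt N13077 (iv F76570)) (tt N12455 (iv D19436)) (tt N13375 D19833) (tt N13193 (iv F77078)) (tt N12840 F76085))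
theorem Q12980 : ∀ i, i < 12980 → P i := stepQ 12979 Q12979 (allL N12979 (tt N13322 (iv F77601)) (tt N13374 (iv F77771)) (tt N12457 F76086) (tt N13375 (iv F77778)) (tt N12460 F76087) (tt N13372 (iv F77763)) (tt N12456 (iv D19437)) (tt N13360 (iv F77724)) (tt N12841 F76088))
theorem Q12981 : ∀ i, i < 12981 → P i := stepQ 12980 Q12980 (allL N12980 (tt N12459 F76089) (tt N13323 (iv F77607)) (tt N13240 (iv F77268)) (tt N13080 (iv F76584)) (tt N13373 (iv F77769)) (tt N12458 (iv D19438)) (tt N13376 D19834) (tt N13367 (iv F77750)) (tt N12842 F76090))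
theorem Q12982 : ∀ i, i < 12982 → P i := stepQ 12981 Q12981 (allL N12981 (tt N13376 (iv F77781)) (tt N12460 F76091) (tt N13241 (iv F77272)) (tt N13081 (iv F76589)) (tt N13374 (iv F77774)) (tt N13255 (iv F77337)) (tt N12459 (iv D19439)) (tt N13369 (iv F77756)) (tt N12843 F76092))
theorem Q12983 : ∀ i, i < 12983 → P i := stepQ 12982 Q12982 (allL N12982 (tt N12632 F76093) (tt N12793 F76094) (tt N12465 F76095) (tt N12461 (iv D19440)) (tt N12982 F76096) (tt N13377 D19835) (tt N12751 F76097) (tt N12658 F76098) (tt N13014 (iv F76215)))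
theorem Q12984 : ∀ i, i < 12984 → P i := stepQ 12983 Q12983 (allL N12983 (tt N12633 F76099) (tt N12794 F76100) (tt N12462 F76101) (tt N13377 (iv F77786)) (tt N12716 F76102) (tt N12461 (iv D19441)) (tt N13378 D19836) (tt N12549 F76103) (tt N13015 (iv F76221)))
theorem Q12985 : ∀ i, i < 12985 → P i := stepQ 12984 Q12984 (allL N12984 (tt N12634 F76104) (tt N12714 F76105) (tt N13378 (iv F77790)) (tt N12467 F76106) (tt N12717 F76107) (tt N12753 F76108) (tt N12462 (iv D19442)) (tt N12550 F76109) (tt N13016 (iv F76228)))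
theorem Q12986 : ∀ i, i < 12986 → P i := stepQ 12985 Q12985 (allL N12985 (tt N13018 (iv F76235)) (tt N13222 (iv F77197)) (tt N13014 (iv F76211)) (tt N12463 (iv D19443)) (tt N12985 F76110) (tt N13379 D19837) (tt N13133 (iv F76830)) (tt N13219 (iv F77182)) (tt N12465 F76111))
theorem Q12987 : ∀ i, i < 12987 → P i := stepQ 12986 Q12986 (allL N12986 (tt N13019 (iv F76240)) (tt N13223 (iv F77204)) (tt N12464 F76112) (tt N13379 (iv F77794)) (tt N12469 F76113) (tt N12463 (iv D19444)) (tt N13380 D19838) (tt N12480 F76114) (tt N12466 F76115))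
theorem Q12988 : ∀ i, i < 12988 → P i := stepQ 12987 Q12987 (allL N12987 (tt N13020 (iv F76245)) (tt N13067 (iv F76515)) (tt N13380 (iv F77796)) (tt N13016 (iv F76224)) (tt N12470 F76116) (tt N13135 (iv F76839)) (tt N12464 (iv D19445)) (tt N12481 F76117) (tt N12467 F76118))
theorem Q12989 : ∀ i, i < 12989 → P i := stepQ 12988 Q12988 (allL N12988 (tt N13121 (iv F76766)) (tt N13225 (iv F77216)) (tt N13377 (iv F77785)) (tt N12466 F76119) (tt N13381 D19839) (tt N12465 (iv D19446)) (tt N13382 D19840) (tt N13208 (iv F77132)) (tt N13379 (iv F77795)))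
theorem Q12990 : ∀ i, i < 12990 → P i := stepQ 12989 Q12989 (allL N12989 (tt N13122 (iv F76770)) (tt N13226 (iv F77218)) (tt N12467 F76120) (tt N13382 (iv F77802)) (tt N12472 F76121) (tt N13137 (iv F76846)) (tt N12466 (iv D19447)) (tt N12473 F76122) (tt N13380 (iv F77799)))
theorem Q12991 : ∀ i, i < 12991 → P i := stepQ 12990 Q12990 (allL N12990 (tt N13329 (iv F77621)) (tt N13227 (iv F77222)) (tt N13364 (iv F77737)) (tt N12469 F76123) (tt N13383 D19841) (tt N12468 (iv D19448)) (tt N13384 D19842) (tt N13385 D19843) (tt N12471 F76124))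
theorem Q12992 : ∀ i, i < 12992 → P i := stepQ 12991 Q12991 (allL N12991 (tt N13246 (iv F77297)) (tt N13228 (iv F77225)) (tt N13273 (iv F77405)) (tt N12489 F76125) (tt N12991 F76126) (tt N13385 (iv F77808)) (tt N13188 (iv F77054)) (tt N12468 (iv D19449)) (tt N13107 (iv F76707)))
theorem Q12993 : ∀ i, i < 12993 → P i := stepQ 12992 Q12992 (allL N12992 (tt N13330 (iv F77624)) (tt N13229 (iv F77228)) (tt N12470 F76127) (tt N13384 (iv F77805)) (tt N13380 (iv F77797)) (tt N13288 (iv F77472)) (tt N12469 (iv D19450)) (tt N12490 F76128) (tt N12472 F76129))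
theorem Q12994 : ∀ i, i < 12994 → P i := stepQ 12993 Q12993 (allL N12993 (tt N13334 (iv F77636)) (tt N13230 (iv F77232)) (tt N13370 (iv F77757)) (tt N13381 (iv F77800)) (tt N12471 (iv D19451)) (tt N12993 F76130) (tt N13386 D19844) (tt N13113 (iv F76729)) (tt N13383 (iv F77804)))
theorem Q12995 : ∀ i, i < 12995 → P i := stepQ 12994 Q12994 (allL N12994 (tt N13335 (iv F77638)) (tt N13231 (iv F77234)) (tt N13371 (iv F77759)) (tt N12472 F76131) (tt N13386 (iv F77809)) (tt N13290 (iv F77477)) (tt N12471 (iv D19452)) (tt N13114 (iv F76731)) (tt N13384 (iv F77806)))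
theorem Q12996 : ∀ i, i < 12996 → P i := stepQ 12995 Q12995 (allL N12995 (tt N12686 F76132) (tt N13062 (iv F76488)) (tt N12475 F76133) (tt N12564 F76134) (tt N12895 F76135) (tt N13207 (iv F77126)) (tt N12474 (iv D19453)) (tt N12785 F76136) (tt N13059 (iv F76474)))
theorem Q12997 : ∀ i, i < 12997 → P i := stepQ 12996 Q12996 (allL N12996 (tt N13090 (iv F76632)) (tt N13001 (iv F76160)) (tt N12477 F76137) (tt N13000 (iv F76156)) (tt N13065 (iv F76504)) (tt N12484 F76138) (tt N12476 (iv D19454)) (tt N12496 F76139) (tt N13292 (iv F77483)))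
theorem Q12998 : ∀ i, i < 12998 → P i := stepQ 12997 Q12997 (allL N12997 (tt N12865 F76140) (tt N12480 F76141) (tt N12747 F76142) (tt N12869 F76143) (tt N12487 F76144) (tt N12478 (iv D19455)) (tt N13387 D19845) (tt N13223 (iv F77207)) (tt N12482 F76145))
theorem Q12999 : ∀ i, i < 12999 → P i := stepQ 12998 Q12998 (allL N12998 (tt N12689 F76146) (tt N12869 F76147) (tt N12563 F76148) (tt N12480 F76149) (tt N12565 F76150) (tt N12479 (iv D19456)) (tt N13388 D19846) (tt N13220 (iv F77188)) (tt N12483 F76151))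
theorem Q13000 : ∀ i, i < 13000 → P i := stepQ 12999 Q12999 (allL N12999 (tt N13353 (iv F77690)) (tt N13387 (iv F77811)) (tt N12481 F76152) (tt N13388 (iv F77819)) (tt N12490 F76153) (tt N13292 (iv F77482)) (tt N12480 (iv D19457)) (tt N13380 (iv F77798)) (tt N12484 F76154))
theorem Q13001 : ∀ i, i < 13001 → P i := stepQ 13000 Q13000 (allL N13000 (tt N13060 (iv F76475)) (tt N12484 F76155) (tt N13061 (iv F76483)) (tt N12996 F76156) (tt N12494 F76157) (tt N13001 (iv F76164)) (tt N12482 (iv D19458)) (tt N12497 F76158) (tt N13387 (iv F77815)))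
theorem Q13002 : ∀ i, i < 13002 → P i := stepQ 13001 Q13001 (allL N13001 (tt N12692 F76159) (tt N12996 F76160) (tt N12564 F76161) (tt N12484 F76162) (tt N12569 F76163) (tt N13000 F76164) (tt N12483 (iv D19459)) (tt N12571 F76165) (tt N13388 (iv F77822)))
theorem Q13003 : ∀ i, i < 13003 → P i := stepQ 13002 Q13002 (allL N13002 (tt N12486 F76166) (tt N13354 (iv F77696)) (tt N12827 F76167) (tt N12485 (iv D19460)) (tt N12501 F76168) (tt N13389 D19847) (tt N13029 (iv F76296)) (tt N13390 D19848) (tt N12491 F76169))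
theorem Q13004 : ∀ i, i < 13004 → P i := stepQ 13003 Q13003 (allL N13003 (tt N12487 F76170) (tt N13351 (iv F77684)) (tt N12822 F76171) (tt N13389 (iv F77825)) (tt N12865 F76172) (tt N12485 (iv D19461)) (tt N13391 D19849) (tt N13215 (iv F77163)) (tt N12492 F76173))
theorem Q13005 : ∀ i, i < 13005 → P i := stepQ 13004 Q13004 (allL N13004 (tt N13389 (iv F77823)) (tt N12488 F76174) (tt N12839 F76175) (tt N12487 F76176) (tt N12820 F76177) (tt N12486 (iv D19462)) (tt N13392 D19850) (tt N13393 D19851) (tt N12493 F76178))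
theorem Q13006 : ∀ i, i < 13006 → P i := stepQ 13005 Q13005 (allL N13005 (tt N13390 (iv F77828)) (tt N12489 F76179) (tt N12826 F76180) (tt N13228 (iv F77226)) (tt N12502 F76181) (tt N13393 (iv F77843)) (tt N13078 (iv F76575)) (tt N12486 (iv D19463)) (tt N13170 (iv F76979)))
theorem Q13007 : ∀ i, i < 13007 → P i := stepQ 13006 Q13006 (allL N13006 (tt N13391 (iv F77831)) (tt N12490 F76182) (tt N13076 (iv F76562)) (tt N13392 (iv F77837)) (tt N13387 (iv F77814)) (tt N13079 (iv F76580)) (tt N12487 (iv D19464)) (tt N13229 (iv F77230)) (tt N12494 F76183))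
theorem Q13008 : ∀ i, i < 13008 → P i := stepQ 13007 Q13007 (allL N13007 (tt N13357 (iv F77706)) (tt N13392 (iv F77835)) (tt N12818 F76184) (tt N12490 F76185) (tt N12821 F76186) (tt N13301 (iv F77530)) (tt N12488 (iv D19465)) (tt N13394 D19852) (tt N12495 F76187))
theorem Q13009 : ∀ i, i < 13009 → P i := stepQ 13008 Q13008 (allL N13008 (tt N13247 (iv F77303)) (tt N13393 (iv F77840)) (tt N12809 F76188) (tt N13385 (iv F77807)) (tt N12816 F76189) (tt N12489 F76190) (tt N13394 (iv F77846)) (tt N12488 (iv D19466)) (tt N13173 (iv F76990)))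
theorem Q13010 : ∀ i, i < 13010 → P i := stepQ 13009 Q13009 (allL N13009 (tt N12493 F76191) (tt N13350 (iv F77679)) (tt N13373 (iv F77767)) (tt N12492 F76192) (tt N13240 (iv F77270)) (tt N12491 (iv D19467)) (tt N13395 D19853) (tt N13175 (iv F76996)) (tt N13389 (iv F77827)))
theorem Q13011 : ∀ i, i < 13011 → P i := stepQ 13010 Q13010 (allL N13010 (tt N12494 F76193) (tt N13349 (iv F77675)) (tt N13124 (iv F76784)) (tt N13395 (iv F77848)) (tt N13060 (iv F76478)) (tt N13127 (iv F76798)) (tt N12492 (iv D19468)) (tt N12500 F76194) (tt N13391 (iv F77834)))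
theorem Q13012 : ∀ i, i < 13012 → P i := stepQ 13011 Q13011 (allL N13011 (tt N13395 (iv F77847)) (tt N12495 F76195) (tt N13374 (iv F77772)) (tt N12494 F76196) (tt N13241 (iv F77274)) (tt N13302 (iv F77535)) (tt N12493 (iv D19469)) (tt N13178 (iv F77006)) (tt N13392 (iv F77839)))
theorem Q13013 : ∀ i, i < 13013 → P i := stepQ 13012 Q13012 (allL N13012 (tt N12552 F76197) (tt N12713 F76198) (tt N12551 F76199) (tt N12571 F76200) (tt N12712 F76201) (tt N12556 F76202) (tt N12499 F76203) (tt N12498 (iv D19470)) (tt N12801 (iv F76204)))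
theorem Q13014 : ∀ i, i < 13014 → P i := stepQ 13013 Q13013 (allL N13013 (tt N12502 F76205) (tt N13244 (iv F77285)) (tt N12743 F76206) (tt N13013 F76207) (tt N13390 (iv F77830)) (tt N12813 F76208) (tt N13035 (iv F76329)) (tt N12501 (iv D19471)) (tt N13180 (iv F77019)))
theorem Q13015 : ∀ i, i < 13015 → P i := stepQ 13014 Q13014 (allL N13014 (tt N12508 F76209) (tt N12751 F76210) (tt N12985 F76211) (tt N12503 (iv D19472)) (tt N13014 F76212) (tt N13396 D19854) (tt N12793 F76213) (tt N12774 F76214) (tt N12982 F76215))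
theorem Q13016 : ∀ i, i < 13016 → P i := stepQ 13015 Q13015 (allL N13015 (tt N12509 F76216) (tt N12752 F76217) (tt N12504 F76218) (tt N13396 (iv F77852)) (tt N12722 F76219) (tt N12503 (iv D19473)) (tt N13397 D19855) (tt N12529 F76220) (tt N12983 F76221))
theorem Q13017 : ∀ i, i < 13017 → P i := stepQ 13016 Q13016 (allL N13016 (tt N12510 F76222) (tt N12577 F76223) (tt N13397 (iv F77857)) (tt N12987 F76224) (tt N12723 F76225) (tt N12795 F76226) (tt N12504 (iv D19474)) (tt N12530 F76227) (tt N12984 F76228))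
theorem Q13018 : ∀ i, i < 13018 → P i := stepQ 13017 Q13017 (allL N13017 (tt N12920 F76229) (tt N12506 F76230) (tt N12518 F76231) (tt N13398 D19856) (tt N12505 (iv D19475)) (tt N13399 D19857) (tt N12672 F76232) (tt N12761 F76233) (tt N12636 F76234))
theorem Q13019 : ∀ i, i < 13019 → P i := stepQ 13018 Q13018 (allL N13018 (tt N12985 F76235) (tt N13398 (iv F77863)) (tt N12508 F76236) (tt N12506 (iv D19476)) (tt N13018 F76237) (tt N13400 D19858) (tt N12673 F76238) (tt N13096 (iv F76662)) (tt N12637 F76239))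
theorem Q13020 : ∀ i, i < 13020 → P i := stepQ 13019 Q13019 (allL N13019 (tt N12986 F76240) (tt N13399 (iv F77869)) (tt N12507 F76241) (tt N13400 (iv F77876)) (tt N12923 F76242) (tt N12506 (iv D19477)) (tt N13401 D19859) (tt N12948 F76243) (tt N12638 F76244))
theorem Q13021 : ∀ i, i < 13021 → P i := stepQ 13020 Q13020 (allL N13020 (tt N12987 F76245) (tt N12520 F76246) (tt N13401 (iv F77879)) (tt N12510 F76247) (tt N12924 F76248) (tt N12675 F76249) (tt N12507 (iv D19478)) (tt N12949 F76250) (tt N12639 F76251))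
theorem Q13022 : ∀ i, i < 13022 → P i := stepQ 13021 Q13021 (allL N13021 (tt N13396 (iv F77849)) (tt N12901 F76252) (tt N13400 (iv F77875)) (tt N12509 F76253) (tt N13402 D19860) (tt N12508 (iv D19479)) (tt N13403 D19861) (tt N13404 D19862) (tt N13117 (iv F76749)))
theorem Q13023 : ∀ i, i < 13023 → P i := stepQ 13022 Q13022 (allL N13022 (tt N12774 F76254) (tt N12902 F76255) (tt N13096 (iv F76659)) (tt N12534 F76256) (tt N13022 F76257) (tt N13404 (iv F77892)) (tt N12614 F76258) (tt N12508 (iv D19480)) (tt N13091 (iv F76641)))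
theorem Q13024 : ∀ i, i < 13024 → P i := stepQ 13023 Q13023 (allL N13023 (tt N13397 (iv F77855)) (tt N12903 F76259) (tt N12510 F76260) (tt N13403 (iv F77888)) (tt N12732 F76261) (tt N13237 (iv F77259)) (tt N12509 (iv D19481)) (tt N12535 F76262) (tt N13118 (iv F76755)))
theorem Q13025 : ∀ i, i < 13025 → P i := stepQ 13024 Q13024 (allL N13024 (tt N12942 F76263) (tt N12512 F76264) (tt N12761 F76265) (tt N13405 D19863) (tt N12511 (iv D19482)) (tt N13406 D19864) (tt N12618 F76266) (tt N12518 F76267) (tt N12594 F76268))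
theorem Q13026 : ∀ i, i < 13026 → P i := stepQ 13025 Q13025 (allL N13025 (tt N12583 F76269) (tt N13405 (iv F77894)) (tt N12541 F76270) (tt N12512 (iv D19483)) (tt N13025 F76271) (tt N13407 D19865) (tt N12619 F76272) (tt N12906 F76273) (tt N12595 F76274))
theorem Q13027 : ∀ i, i < 13027 → P i := stepQ 13026 Q13026 (allL N13026 (tt N12584 F76275) (tt N13406 (iv F77900)) (tt N12513 F76276) (tt N13407 (iv F77907)) (tt N12932 F76277) (tt N12512 (iv D19484)) (tt N13408 D19866) (tt N12519 F76278) (tt N12596 F76279))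
theorem Q13028 : ∀ i, i < 13028 → P i := stepQ 13027 Q13027 (allL N13027 (tt N12585 F76280) (tt N12949 F76281) (tt N13408 (iv F77911)) (tt N12543 F76282) (tt N12933 F76283) (tt N12621 F76284) (tt N12513 (iv D19485)) (tt N12520 F76285) (tt N12597 F76286))
theorem Q13029 : ∀ i, i < 13029 → P i := stepQ 13028 Q13028 (allL N13028 (tt N12878 F76287) (tt N12515 F76288) (tt N12921 F76289) (tt N13263 (iv F77374)) (tt N12514 (iv D19486)) (tt N13409 D19867) (tt N12951 F76290) (tt N12930 F76291) (tt N12643 F76292))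
theorem Q13030 : ∀ i, i < 13030 → P i := stepQ 13029 Q13029 (allL N13029 (tt N12587 F76293) (tt N13263 (iv F77373)) (tt N12737 F76294) (tt N12515 (iv D19487)) (tt N12521 F76295) (tt N13410 D19868) (tt N13002 F76296) (tt N13411 D19869) (tt N12644 F76297))
theorem Q13031 : ∀ i, i < 13031 → P i := stepQ 13030 Q13030 (allL N13030 (tt N12588 F76298) (tt N13409 (iv F77917)) (tt N12516 F76299) (tt N13410 (iv F77924)) (tt N12519 F76300) (tt N12515 (iv D19488)) (tt N13412 D19870) (tt N12932 F76301) (tt N12645 F76302))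
theorem Q13032 : ∀ i, i < 13032 → P i := stepQ 13031 Q13031 (allL N13031 (tt N12589 F76303) (tt N12924 F76304) (tt N13412 (iv F77935)) (tt N12739 F76305) (tt N12520 F76306) (tt N13256 (iv F77342)) (tt N12516 (iv D19489)) (tt N12933 F76307) (tt N12646 F76308))
theorem Q13033 : ∀ i, i < 13033 → P i := stepQ 13032 Q13032 (allL N13032 (tt N12518 F76309) (tt N12590 F76310) (tt N12920 F76311) (tt N12914 F76312) (tt N12517 (iv D19490)) (tt N13413 D19871) (tt N12693 F76313) (tt N12942 F76314) (tt N12647 F76315))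
theorem Q13034 : ∀ i, i < 13034 → P i := stepQ 13033 Q13033 (allL N13033 (tt N13413 (iv F77940)) (tt N12519 F76316) (tt N13399 (iv F77870)) (tt N12915 F76317) (tt N13409 (iv F77919)) (tt N12518 (iv D19491)) (tt N13414 D19872) (tt N13406 (iv F77903)) (tt N12648 F76318))
theorem Q13035 : ∀ i, i < 13035 → P i := stepQ 13034 Q13034 (allL N13034 (tt N12592 F76319) (tt N13414 (iv F77947)) (tt N12520 F76320) (tt N12916 F76321) (tt N13412 (iv F77936)) (tt N12698 F76322) (tt N12519 (iv D19492)) (tt N13408 (iv F77914)) (tt N12649 F76323))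
theorem Q13036 : ∀ i, i < 13036 → P i := stepQ 13035 Q13035 (allL N13035 (tt N12593 F76324) (tt N12964 F76325) (tt N12735 F76326) (tt N13035 F76327) (tt N13411 (iv F77931)) (tt N12726 F76328) (tt N13013 F76329) (tt N12521 (iv D19493)) (tt N12904 F76330))
theorem Q13037 : ∀ i, i < 13037 → P i := stepQ 13036 Q13036 (allL N13036 (tt N12801 F76331) (tt N12745 F76332) (tt N12524 F76333) (tt N12629 F76334) (tt N12754 F76335) (tt N12535 F76336) (tt N12523 (iv D19494)) (tt N13237 (iv F77260)) (tt N12552 F76337))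
theorem Q13038 : ∀ i, i < 13038 → P i := stepQ 13037 Q13037 (allL N13037 (tt N12595 F76338) (tt N12856 F76339) (tt N12619 F76340) (tt N12525 (iv D19495)) (tt N13037 F76341) (tt N13415 D19873) (tt N12541 F76342) (tt N12848 F76343) (tt N12583 F76344))
theorem Q13039 : ∀ i, i < 13039 → P i := stepQ 13038 Q13038 (allL N13038 (tt N12596 F76345) (tt N12857 F76346) (tt N12526 F76347) (tt N13415 (iv F77954)) (tt N12756 F76348) (tt N12525 (iv D19496)) (tt N13416 D19874) (tt N12527 F76349) (tt N12584 F76350))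
theorem Q13040 : ∀ i, i < 13040 → P i := stepQ 13039 Q13039 (allL N13039 (tt N12597 F76351) (tt N12762 F76352) (tt N13416 (iv F77959)) (tt N12621 F76353) (tt N12757 F76354) (tt N12543 F76355) (tt N12526 (iv D19497)) (tt N12528 F76356) (tt N12585 F76357))
theorem Q13041 : ∀ i, i < 13041 → P i := stepQ 13040 Q13040 (allL N13040 (tt N12599 F76358) (tt N12864 F76359) (tt N12528 F76360) (tt N12852 F76361) (tt N12758 F76362) (tt N12547 F76363) (tt N12527 (iv D19498)) (tt N13416 (iv F77962)) (tt N12553 F76364))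
theorem Q13042 : ∀ i, i < 13042 → P i := stepQ 13041 Q13041 (allL N13041 (tt N12535 F76365) (tt N12754 F76366) (tt N12530 F76367) (tt N12782 F76368) (tt N12745 F76369) (tt N12801 F76370) (tt N12529 (iv D19499)) (tt N13397 (iv F77860)) (tt N12556 F76371))
theorem Q13043 : ∀ i, i < 13043 → P i := stepQ 13042 Q13042 (allL N13042 (tt N12871 F76372) (tt N12543 F76373) (tt N12867 F76374) (tt N12949 F76375) (tt N12786 F76376) (tt N12762 F76377) (tt N12531 (iv D19500)) (tt N12532 F76378) (tt N12947 F76379))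
theorem Q13044 : ∀ i, i < 13044 → P i := stepQ 13043 Q13043 (allL N13043 (tt N12782 F76380) (tt N12918 F76381) (tt N12627 F76382) (tt N12535 F76383) (tt N12769 F76384) (tt N12629 F76385) (tt N12533 (iv D19501)) (tt N13417 D19875) (tt N12560 F76386))
theorem Q13045 : ∀ i, i < 13045 → P i := stepQ 13044 Q13044 (allL N13044 (tt N12775 F76387) (tt N12919 F76388) (tt N12609 F76389) (tt N13404 (iv F77891)) (tt N12767 F76390) (tt N12534 F76391) (tt N13417 (iv F77969)) (tt N12533 (iv D19502)) (tt N13092 (iv F76644)))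
theorem Q13046 : ∀ i, i < 13046 → P i := stepQ 13045 Q13045 (allL N13045 (tt N12614 F76392) (tt N12658 F76393) (tt N13222 (iv F77198)) (tt N12536 (iv D19503)) (tt N13045 F76394) (tt N13418 D19876) (tt N12774 F76395) (tt N12793 F76396) (tt N13219 (iv F77183)))
theorem Q13047 : ∀ i, i < 13047 → P i := stepQ 13046 Q13046 (allL N13046 (tt N12615 F76397) (tt N12659 F76398) (tt N12537 F76399) (tt N13418 (iv F77972)) (tt N12542 F76400) (tt N12536 (iv D19504)) (tt N13419 D19877) (tt N12544 F76401) (tt N13220 (iv F77189)))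
theorem Q13048 : ∀ i, i < 13048 → P i := stepQ 13047 Q13047 (allL N13047 (tt N12616 F76402) (tt N12786 F76403) (tt N13419 (iv F77976)) (tt N13224 (iv F77211)) (tt N12543 F76404) (tt N12776 F76405) (tt N12537 (iv D19505)) (tt N12545 F76406) (tt N13221 (iv F77195)))
theorem Q13049 : ∀ i, i < 13049 → P i := stepQ 13048 Q13048 (allL N13048 (tt N12619 F76407) (tt N13138 (iv F76848)) (tt N12595 F76408) (tt N12538 (iv D19506)) (tt N13048 F76409) (tt N13420 D19878) (tt N12583 F76410) (tt N12815 F76411) (tt N12541 F76412))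
theorem Q13050 : ∀ i, i < 13050 → P i := stepQ 13049 Q13049 (allL N13049 (tt N12620 F76413) (tt N13139 (iv F76853)) (tt N12539 F76414) (tt N13420 (iv F77982)) (tt N13220 (iv F77187)) (tt N12538 (iv D19507)) (tt N13421 D19879) (tt N12565 F76415) (tt N12542 F76416))
theorem Q13051 : ∀ i, i < 13051 → P i := stepQ 13050 Q13050 (allL N13050 (tt N12621 F76417) (tt N12947 F76418) (tt N13421 (iv F77986)) (tt N12597 F76419) (tt N13221 (iv F77193)) (tt N12585 F76420) (tt N12539 (iv D19508)) (tt N12566 F76421) (tt N12543 F76422))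
theorem Q13052 : ∀ i, i < 13052 → P i := stepQ 13051 Q13051 (allL N13051 (tt N12669 F76423) (tt N12541 F76424) (tt N13144 (iv F76880)) (tt N12540 (iv D19509)) (tt N13051 F76425) (tt N13422 D19880) (tt N12856 F76426) (tt N12925 F76427) (tt N13138 (iv F76852)))
theorem Q13053 : ∀ i, i < 13053 → P i := stepQ 13052 Q13052 (allL N13052 (tt N12670 F76428) (tt N12542 F76429) (tt N12655 F76430) (tt N13422 (iv F77992)) (tt N12659 F76431) (tt N12540 (iv D19510)) (tt N13423 D19881) (tt N12546 F76432) (tt N13139 (iv F76857)))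
theorem Q13054 : ∀ i, i < 13054 → P i := stepQ 13053 Q13053 (allL N13053 (tt N12625 F76433) (tt N13422 (iv F77991)) (tt N13407 (iv F77906)) (tt N12542 F76434) (tt N13424 D19882) (tt N12541 (iv D19511)) (tt N13425 D19883) (tt N12927 F76435) (tt N13420 (iv F77984)))
theorem Q13055 : ∀ i, i < 13055 → P i := stepQ 13054 Q13054 (allL N13054 (tt N12626 F76436) (tt N13423 (iv F77995)) (tt N12543 F76437) (tt N13425 (iv F78004)) (tt N13419 (iv F77977)) (tt N13416 (iv F77961)) (tt N12542 (iv D19512)) (tt N12547 F76438) (tt N13421 (iv F77989)))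
theorem Q13056 : ∀ i, i < 13056 → P i := stepQ 13055 Q13055 (allL N13055 (tt N12629 F76439) (tt N12662 F76440) (tt N12545 F76441) (tt N12801 F76442) (tt N12547 F76443) (tt N12782 F76444) (tt N12544 (iv D19513)) (tt N13419 (iv F77979)) (tt N12571 F76445))
theorem Q13057 : ∀ i, i < 13057 → P i := stepQ 13056 Q13056 (allL N13056 (tt N12684 F76446) (tt N12547 F76447) (tt N12661 F76448) (tt N12929 F76449) (tt N12662 F76450) (tt N12864 F76451) (tt N12546 (iv D19514)) (tt N13423 (iv F77999)) (tt N12573 F76452))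
theorem Q13058 : ∀ i, i < 13058 → P i := stepQ 13057 Q13057 (allL N13057 (tt N12635 F76453) (tt N12801 F76454) (tt N12550 F76455) (tt N12662 F76456) (tt N12744 F76457) (tt N12754 F76458) (tt N12549 (iv D19515)) (tt N13378 (iv F77793)) (tt N12713 F76459))
theorem Q13059 : ∀ i, i < 13059 → P i := stepQ 13058 Q13058 (allL N13058 (tt N12558 F76460) (tt N12660 F76461) (tt N12786 F76462) (tt N12803 F76463) (tt N12867 F76464) (tt N12788 F76465) (tt N12554 (iv D19516)) (tt N12555 F76466) (tt N12802 F76467))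
theorem Q13060 : ∀ i, i < 13060 → P i := stepQ 13059 Q13059 (allL N13059 (tt N12867 F76468) (tt N12564 F76469) (tt N12871 F76470) (tt N13062 (iv F76489)) (tt N12558 F76471) (tt N12749 F76472) (tt N12557 (iv D19517)) (tt N12559 F76473) (tt N12995 F76474))
theorem Q13061 : ∀ i, i < 13061 → P i := stepQ 13060 Q13060 (allL N13060 (tt N13000 F76475) (tt N12945 F76476) (tt N12687 F76477) (tt N13090 (iv F76635)) (tt N13010 F76478) (tt N12692 F76479) (tt N12561 F76480) (tt N12560 (iv D19518)) (tt N13291 (iv F77480)))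
theorem Q13062 : ∀ i, i < 13062 → P i := stepQ 13061 Q13061 (allL N13061 (tt N12687 F76481) (tt N12749 F76482) (tt N13000 F76483) (tt N13207 (iv F77124)) (tt N12746 F76484) (tt N12564 F76485) (tt N12562 (iv D19519)) (tt N12570 F76486) (tt N13206 (iv F77120)))
theorem Q13063 : ∀ i, i < 13063 → P i := stepQ 13062 Q13062 (allL N13062 (tt N12690 F76487) (tt N12995 F76488) (tt N13388 (iv F77818)) (tt N13059 F76489) (tt N12566 F76490) (tt N13206 (iv F77119)) (tt N12563 (iv D19520)) (tt N13221 (iv F77194)) (tt N12564 F76491))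
theorem Q13064 : ∀ i, i < 13064 → P i := stepQ 13063 Q13063 (allL N13063 (tt N12698 F76492) (tt N13300 (iv F77521)) (tt N12566 F76493) (tt N12821 F76494) (tt N13388 (iv F77820)) (tt N12592 F76495) (tt N12565 (iv D19521)) (tt N13421 (iv F77988)) (tt N12569 F76496))
theorem Q13065 : ∀ i, i < 13065 → P i := stepQ 13064 Q13064 (allL N13064 (tt N12568 F76497) (tt N12700 F76498) (tt N12600 F76499) (tt N13240 (iv F77269)) (tt N12603 F76500) (tt N12567 (iv D19522)) (tt N13426 D19884) (tt N12572 F76501) (tt N13293 (iv F77490)))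
theorem Q13066 : ∀ i, i < 13066 → P i := stepQ 13065 Q13065 (allL N13065 (tt N13426 (iv F78006)) (tt N12569 F76502) (tt N12887 F76503) (tt N13241 (iv F77273)) (tt N12996 F76504) (tt N12889 F76505) (tt N12568 (iv D19523)) (tt N12573 F76506) (tt N13300 (iv F77526)))
theorem Q13067 : ∀ i, i < 13067 → P i := stepQ 13066 Q13066 (allL N13066 (tt N12573 F76507) (tt N12706 F76508) (tt N12605 F76509) (tt N12943 F76510) (tt N12606 F76511) (tt N12883 F76512) (tt N12572 (iv D19524)) (tt N13426 (iv F78011)) (tt N12684 F76513))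
theorem Q13068 : ∀ i, i < 13068 → P i := stepQ 13067 Q13067 (allL N13067 (tt N12579 F76514) (tt N12987 F76515) (tt N12787 F76516) (tt N12577 F76517) (tt N12790 F76518) (tt N12802 F76519) (tt N12576 (iv D19525)) (tt N12872 F76520) (tt N12788 F76521))
theorem Q13069 : ∀ i, i < 13069 → P i := stepQ 13068 Q13068 (allL N13068 (tt N12872 F76522) (tt N12585 F76523) (tt N12868 F76524) (tt N12604 F76525) (tt N12763 F76526) (tt N12947 F76527) (tt N12578 (iv D19526)) (tt N12579 F76528) (tt N12762 F76529))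
theorem Q13070 : ∀ i, i < 13070 → P i := stepQ 13069 Q13069 (allL N13069 (tt N12931 F76530) (tt N12859 F76531) (tt N13214 (iv F77156)) (tt N12580 (iv D19527)) (tt N13069 F76532) (tt N13427 D19885) (tt N12777 F76533) (tt N13428 D19886) (tt N12755 F76534))
theorem Q13071 : ∀ i, i < 13071 → P i := stepQ 13070 Q13070 (allL N13070 (tt N12932 F76535) (tt N12860 F76536) (tt N12581 F76537) (tt N13427 (iv F78014)) (tt N12584 F76538) (tt N12580 (iv D19528)) (tt N13429 D19887) (tt N12588 F76539) (tt N12756 F76540))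
theorem Q13072 : ∀ i, i < 13072 → P i := stepQ 13071 Q13071 (allL N13071 (tt N12933 F76541) (tt N12763 F76542) (tt N13429 (iv F78024)) (tt N13216 (iv F77167)) (tt N12585 F76543) (tt N12779 F76544) (tt N12581 (iv D19529)) (tt N12589 F76545) (tt N12757 F76546))
theorem Q13073 : ∀ i, i < 13073 → P i := stepQ 13072 Q13072 (allL N13072 (tt N13281 (iv F77443)) (tt N12583 F76547) (tt N13141 (iv F76865)) (tt N12582 (iv D19530)) (tt N13072 F76548) (tt N13430 D19888) (tt N13138 (iv F76851)) (tt N12970 F76549) (tt N12856 F76550))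
theorem Q13074 : ∀ i, i < 13074 → P i := stepQ 13073 Q13073 (allL N13073 (tt N13282 (iv F77448)) (tt N12584 F76551) (tt N12855 F76552) (tt N13430 (iv F78030)) (tt N12860 F76553) (tt N12582 (iv D19531)) (tt N13431 D19889) (tt N12591 F76554) (tt N12857 F76555))
theorem Q13075 : ∀ i, i < 13075 → P i := stepQ 13074 Q13074 (allL N13074 (tt N13407 (iv F77905)) (tt N13430 (iv F78029)) (tt N12625 F76556) (tt N12584 F76557) (tt N13432 D19890) (tt N12583 (iv D19532)) (tt N13433 D19891) (tt N12972 F76558) (tt N13415 (iv F77956)))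
theorem Q13076 : ∀ i, i < 13076 → P i := stepQ 13075 Q13075 (allL N13075 (tt N13408 (iv F77910)) (tt N13431 (iv F78033)) (tt N12585 F76559) (tt N13433 (iv F78042)) (tt N13429 (iv F78025)) (tt N13421 (iv F77987)) (tt N12584 (iv D19533)) (tt N12592 F76560) (tt N13416 (iv F77963)))
theorem Q13077 : ∀ i, i < 13077 → P i := stepQ 13076 Q13076 (allL N13076 (tt N13256 (iv F77339)) (tt N12750 F76561) (tt N13006 F76562) (tt N12838 F76563) (tt N13206 (iv F77118)) (tt N12589 F76564) (tt N12586 (iv D19534)) (tt N12779 F76565) (tt N12746 F76566))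
theorem Q13078 : ∀ i, i < 13078 → P i := stepQ 13077 Q13077 (allL N13077 (tt N13410 (iv F77922)) (tt N12890 F76567) (tt N12840 F76568) (tt N12588 F76569) (tt N12978 F76570) (tt N12587 (iv D19535)) (tt N13434 D19892) (tt N13435 D19893) (tt N12892 F76571))
theorem Q13079 : ∀ i, i < 13079 → P i := stepQ 13078 Q13078 (allL N13078 (tt N13411 (iv F77927)) (tt N12724 F76572) (tt N12736 F76573) (tt N13428 (iv F78018)) (tt N12593 F76574) (tt N13435 (iv F78053)) (tt N13005 F76575) (tt N12587 (iv D19536)) (tt N12905 F76576))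
theorem Q13080 : ∀ i, i < 13080 → P i := stepQ 13079 Q13079 (allL N13079 (tt N13412 (iv F77934)) (tt N12891 F76577) (tt N12589 F76578) (tt N13434 (iv F78046)) (tt N12592 F76579) (tt N13006 F76580) (tt N12588 (iv D19537)) (tt N13429 (iv F78027)) (tt N12893 F76581))
theorem Q13081 : ∀ i, i < 13081 → P i := stepQ 13080 Q13080 (allL N13080 (tt N12591 F76582) (tt N13413 (iv F77941)) (tt N12875 F76583) (tt N12980 F76584) (tt N12879 F76585) (tt N12590 (iv D19538)) (tt N13436 D19894) (tt N13282 (iv F77451)) (tt N12876 F76586))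
theorem Q13082 : ∀ i, i < 13082 → P i := stepQ 13081 Q13081 (allL N13081 (tt N13436 (iv F78055)) (tt N12592 F76587) (tt N12888 F76588) (tt N12981 F76589) (tt N12891 F76590) (tt N13300 (iv F77525)) (tt N12591 (iv D19539)) (tt N13431 (iv F78036)) (tt N12889 F76591))
theorem Q13083 : ∀ i, i < 13083 → P i := stepQ 13082 Q13082 (allL N13082 (tt N12937 F76592) (tt N12595 F76593) (tt N13109 (iv F76713)) (tt N12594 (iv D19540)) (tt N13082 F76594) (tt N13437 D19895) (tt N12623 F76595) (tt N12755 F76596) (tt N13405 (iv F77898)))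
theorem Q13084 : ∀ i, i < 13084 → P i := stepQ 13083 Q13083 (allL N13083 (tt N12941 F76597) (tt N12596 F76598) (tt N12760 F76599) (tt N13437 (iv F78062)) (tt N12935 F76600) (tt N12594 (iv D19541)) (tt N13438 D19896) (tt N12598 F76601) (tt N13406 (iv F77904)))
theorem Q13085 : ∀ i, i < 13085 → P i := stepQ 13084 Q13084 (allL N13084 (tt N13415 (iv F77951)) (tt N13437 (iv F78061)) (tt N13420 (iv F77981)) (tt N12596 F76602) (tt N13439 D19897) (tt N12595 (iv D19542)) (tt N13440 D19898) (tt N12862 F76603) (tt N13407 (iv F77909)))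
theorem Q13086 : ∀ i, i < 13086 → P i := stepQ 13085 Q13085 (allL N13085 (tt N13416 (iv F77957)) (tt N13438 (iv F78065)) (tt N12597 F76604) (tt N13440 (iv F78073)) (tt N12938 F76605) (tt N12626 F76606) (tt N12596 (iv D19543)) (tt N12599 F76607) (tt N13408 (iv F77915)))
theorem Q13087 : ∀ i, i < 13087 → P i := stepQ 13086 Q13086 (allL N13086 (tt N12940 F76608) (tt N12599 F76609) (tt N12759 F76610) (tt N12758 F76611) (tt N12939 F76612) (tt N12631 F76613) (tt N12598 (iv D19544)) (tt N13438 (iv F78069)) (tt N12654 F76614))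
theorem Q13088 : ∀ i, i < 13088 → P i := stepQ 13087 Q13087 (allL N13087 (tt N12887 F76615) (tt N12616 F76616) (tt N13426 (iv F78008)) (tt N13295 (iv F77499)) (tt N12604 F76617) (tt N12877 F76618) (tt N12600 (iv D19545)) (tt N12605 F76619) (tt N13294 (iv F77496)))
theorem Q13089 : ∀ i, i < 13089 → P i := stepQ 13088 Q13088 (allL N13088 (tt N12869 F76620) (tt N12784 F76621) (tt N12602 F76622) (tt N12865 F76623) (tt N13293 (iv F77488)) (tt N12601 (iv D19546)) (tt N13441 D19899) (tt N12674 F76624) (tt N12603 F76625))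
theorem Q13090 : ∀ i, i < 13090 → P i := stepQ 13089 Q13089 (allL N13089 (tt N12870 F76626) (tt N12621 F76627) (tt N13441 (iv F78078)) (tt N12762 F76628) (tt N13294 (iv F77494)) (tt N12949 F76629) (tt N12602 (iv D19547)) (tt N12675 F76630) (tt N12604 F76631))
theorem Q13091 : ∀ i, i < 13091 → P i := stepQ 13090 Q13090 (allL N13090 (tt N12996 F76632) (tt N12783 F76633) (tt N12604 F76634) (tt N13060 F76635) (tt N13426 (iv F78009)) (tt N12950 F76636) (tt N12603 (iv D19548)) (tt N12606 F76637) (tt N13441 (iv F78082)))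
theorem Q13092 : ∀ i, i < 13092 → P i := stepQ 13091 Q13091 (allL N13091 (tt N13222 (iv F77196)) (tt N13312 (iv F77562)) (tt N12614 F76638) (tt N12607 (iv D19549)) (tt N13091 F76639) (tt N13442 D19900) (tt N13096 (iv F76661)) (tt N12673 F76640) (tt N13022 F76641))
theorem Q13093 : ∀ i, i < 13093 → P i := stepQ 13092 Q13092 (allL N13092 (tt N13223 (iv F77203)) (tt N13326 (iv F77612)) (tt N12608 F76642) (tt N13442 (iv F78084)) (tt N13215 (iv F77162)) (tt N12607 (iv D19550)) (tt N13443 D19901) (tt N12865 F76643) (tt N13044 F76644))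
theorem Q13094 : ∀ i, i < 13094 → P i := stepQ 13093 Q13093 (allL N13093 (tt N13224 (iv F77209)) (tt N13295 (iv F77498)) (tt N13443 (iv F78087)) (tt N12616 F76645) (tt N13216 (iv F77168)) (tt N13098 (iv F76670)) (tt N12608 (iv D19551)) (tt N12866 F76646) (tt N13094 (iv F76652)))
theorem Q13095 : ∀ i, i < 13095 → P i := stepQ 13094 Q13094 (allL N13094 (tt N12776 F76647) (tt N12877 F76648) (tt N13417 (iv F77966)) (tt N13098 (iv F76668)) (tt N12768 F76649) (tt N12616 F76650) (tt N12609 (iv D19552)) (tt N12627 F76651) (tt N13093 F76652))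
theorem Q13096 : ∀ i, i < 13096 → P i := stepQ 13095 Q13095 (allL N13095 (tt N12672 F76653) (tt N12611 F76654) (tt N12693 F76655) (tt N13444 D19902) (tt N12610 (iv D19553)) (tt N13445 D19903) (tt N12920 F76656) (tt N12688 F76657) (tt N12613 F76658))
theorem Q13097 : ∀ i, i < 13097 → P i := stepQ 13096 Q13096 (allL N13096 (tt N13219 (iv F77178)) (tt N13444 (iv F78091)) (tt N13022 F76659) (tt N12611 (iv D19554)) (tt N13096 F76660) (tt N13446 D19904) (tt N13091 F76661) (tt N13018 F76662) (tt N12614 F76663))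
theorem Q13098 : ∀ i, i < 13098 → P i := stepQ 13097 Q13097 (allL N13097 (tt N13220 (iv F77184)) (tt N13445 (iv F78097)) (tt N12612 F76664) (tt N13446 (iv F78103)) (tt N12620 F76665) (tt N12611 (iv D19555)) (tt N13447 D19905) (tt N12689 F76666) (tt N12615 F76667))
theorem Q13099 : ∀ i, i < 13099 → P i := stepQ 13098 Q13098 (allL N13098 (tt N13221 (iv F77190)) (tt N13294 (iv F77492)) (tt N13447 (iv F78106)) (tt N13094 F76668) (tt N12621 F76669) (tt N13093 F76670) (tt N12612 (iv D19556)) (tt N12690 F76671) (tt N12616 F76672))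
theorem Q13100 : ∀ i, i < 13100 → P i := stepQ 13099 Q13099 (allL N13099 (tt N12676 F76673) (tt N12614 F76674) (tt N13448 D19906) (tt N12613 (iv D19557)) (tt N13099 F76675) (tt N13449 D19907) (tt N12902 F76676) (tt N12721 F76677) (tt N13444 (iv F78095)))
theorem Q13101 : ∀ i, i < 13101 → P i := stepQ 13100 Q13100 (allL N13100 (tt N12677 F76678) (tt N12615 F76679) (tt N12700 F76680) (tt N13449 (iv F78118)) (tt N12624 F76681) (tt N12613 (iv D19558)) (tt N13450 D19908) (tt N12628 F76682) (tt N13445 (iv F78101)))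
theorem Q13102 : ∀ i, i < 13102 → P i := stepQ 13101 Q13101 (allL N13101 (tt N13418 (iv F77970)) (tt N13449 (iv F78117)) (tt N13442 (iv F78083)) (tt N12615 F76683) (tt N13451 D19909) (tt N12614 (iv D19559)) (tt N13452 D19910) (tt N13236 (iv F77253)) (tt N13446 (iv F78105)))
theorem Q13103 : ∀ i, i < 13103 → P i := stepQ 13102 Q13102 (allL N13102 (tt N13419 (iv F77974)) (tt N13450 (iv F78121)) (tt N12616 F76684) (tt N13452 (iv F78128)) (tt N12626 F76685) (tt N13417 (iv F77968)) (tt N12615 (iv D19560)) (tt N12629 F76686) (tt N13447 (iv F78110)))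
theorem Q13104 : ∀ i, i < 13104 → P i := stepQ 13103 Q13103 (allL N13103 (tt N12618 F76687) (tt N12667 F76688) (tt N12688 F76689) (tt N13453 D19911) (tt N12617 (iv D19561)) (tt N13454 D19912) (tt N12942 F76690) (tt N12693 F76691) (tt N12622 F76692))
theorem Q13105 : ∀ i, i < 13105 → P i := stepQ 13104 Q13104 (allL N13104 (tt N13453 (iv F78129)) (tt N12619 F76693) (tt N13346 (iv F77666)) (tt N12618 (iv D19562)) (tt N13104 F76694) (tt N13455 D19913) (tt N13405 (iv F77896)) (tt N13456 D19914) (tt N12623 F76695))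
theorem Q13106 : ∀ i, i < 13106 → P i := stepQ 13105 Q13105 (allL N13105 (tt N13454 (iv F78135)) (tt N12620 F76696) (tt N12784 F76697) (tt N13455 (iv F78142)) (tt N13445 (iv F78099)) (tt N12618 (iv D19563)) (tt N13457 D19915) (tt N12695 F76698) (tt N12624 F76699))
theorem Q13107 : ∀ i, i < 13107 → P i := stepQ 13106 Q13106 (allL N13106 (tt N13420 (iv F77980)) (tt N13455 (iv F78141)) (tt N13415 (iv F77953)) (tt N12620 F76700) (tt N13458 D19916) (tt N12619 (iv D19564)) (tt N13459 D19917) (tt N13460 D19918) (tt N12625 F76701))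
theorem Q13108 : ∀ i, i < 13108 → P i := stepQ 13107 Q13107 (allL N13107 (tt N12815 F76702) (tt N13456 (iv F78144)) (tt N12848 F76703) (tt N12697 F76704) (tt N13107 F76705) (tt N13460 (iv F78160)) (tt N12906 F76706) (tt N12619 (iv D19565)) (tt N12991 F76707))
theorem Q13109 : ∀ i, i < 13109 → P i := stepQ 13108 Q13108 (allL N13108 (tt N13421 (iv F77985)) (tt N13457 (iv F78149)) (tt N12621 F76708) (tt N13459 (iv F78155)) (tt N13447 (iv F78107)) (tt N13408 (iv F77913)) (tt N12620 (iv D19566)) (tt N12698 F76709) (tt N12626 F76710))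
theorem Q13110 : ∀ i, i < 13110 → P i := stepQ 13109 Q13109 (allL N13109 (tt N12623 F76711) (tt N12669 F76712) (tt N13082 F76713) (tt N12622 (iv D19567)) (tt N13109 F76714) (tt N13461 D19919) (tt N12937 F76715) (tt N12766 F76716) (tt N13453 (iv F78134)))
theorem Q13111 : ∀ i, i < 13111 → P i := stepQ 13110 Q13110 (allL N13110 (tt N12624 F76717) (tt N12670 F76718) (tt N12691 F76719) (tt N13461 (iv F78165)) (tt N12677 F76720) (tt N12622 (iv D19568)) (tt N13462 D19920) (tt N12630 F76721) (tt N13454 (iv F78140)))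
theorem Q13112 : ∀ i, i < 13112 → P i := stepQ 13111 Q13111 (allL N13111 (tt N13461 (iv F78162)) (tt N12625 F76722) (tt N13345 (iv F77662)) (tt N12624 F76723) (tt N13463 D19921) (tt N12623 (iv D19569)) (tt N13464 D19922) (tt N12780 F76724) (tt N13455 (iv F78143)))
theorem Q13113 : ∀ i, i < 13113 → P i := stepQ 13112 Q13112 (allL N13112 (tt N13462 (iv F78167)) (tt N12626 F76725) (tt N12783 F76726) (tt N13464 (iv F78177)) (tt N13450 (iv F78123)) (tt N13438 (iv F78068)) (tt N12624 (iv D19570)) (tt N12631 F76727) (tt N13457 (iv F78152)))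
theorem Q13114 : ∀ i, i < 13114 → P i := stepQ 13113 Q13113 (allL N13113 (tt N13424 (iv F78000)) (tt N13463 (iv F78173)) (tt N13432 (iv F78038)) (tt N13451 (iv F78126)) (tt N12625 (iv D19571)) (tt N13113 F76728) (tt N13465 D19923) (tt N12993 F76729) (tt N13458 (iv F78154)))
theorem Q13115 : ∀ i, i < 13115 → P i := stepQ 13114 Q13114 (allL N13114 (tt N13425 (iv F78003)) (tt N13464 (iv F78176)) (tt N13433 (iv F78041)) (tt N12626 F76730) (tt N13465 (iv F78179)) (tt N13440 (iv F78074)) (tt N12625 (iv D19572)) (tt N12994 F76731) (tt N13459 (iv F78156)))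
theorem Q13116 : ∀ i, i < 13116 → P i := stepQ 13115 Q13115 (allL N13115 (tt N12685 F76732) (tt N12629 F76733) (tt N12706 F76734) (tt N12745 F76735) (tt N12631 F76736) (tt N12918 F76737) (tt N12628 (iv D19573)) (tt N13450 (iv F78125)) (tt N12705 F76738))
theorem Q13117 : ∀ i, i < 13117 → P i := stepQ 13116 Q13116 (allL N13116 (tt N12631 F76739) (tt N12684 F76740) (tt N12705 F76741) (tt N12769 F76742) (tt N12685 F76743) (tt N12940 F76744) (tt N12630 (iv D19574)) (tt N13462 (iv F78172)) (tt N12706 F76745))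
theorem Q13118 : ∀ i, i < 13118 → P i := stepQ 13117 Q13117 (allL N13117 (tt N13377 (iv F77783)) (tt N12731 F76746) (tt N13121 (iv F76767)) (tt N12633 F76747) (tt N13466 D19924) (tt N12632 (iv D19575)) (tt N13467 D19925) (tt N12678 F76748) (tt N13021 F76749))
theorem Q13119 : ∀ i, i < 13119 → P i := stepQ 13118 Q13118 (allL N13118 (tt N13378 (iv F77788)) (tt N12732 F76750) (tt N12634 F76751) (tt N13467 (iv F78187)) (tt N12903 F76752) (tt N12800 F76753) (tt N12633 (iv D19576)) (tt N12635 F76754) (tt N13023 F76755))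
theorem Q13120 : ∀ i, i < 13120 → P i := stepQ 13119 Q13119 (allL N13119 (tt N12902 F76756) (tt N12637 F76757) (tt N13192 (iv F77072)) (tt N12636 (iv D19577)) (tt N13119 F76758) (tt N13468 D19926) (tt N12676 F76759) (tt N12715 F76760) (tt N13398 (iv F77867)))
theorem Q13121 : ∀ i, i < 13121 → P i := stepQ 13120 Q13120 (allL N13120 (tt N12919 F76761) (tt N12638 F76762) (tt N12648 F76763) (tt N13468 (iv F78193)) (tt N12926 F76764) (tt N12636 (iv D19578)) (tt N13469 D19927) (tt N12640 F76765) (tt N13399 (iv F77873)))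
theorem Q13122 : ∀ i, i < 13122 → P i := stepQ 13121 Q13121 (allL N13121 (tt N12988 F76766) (tt N13468 (iv F78192)) (tt N13117 F76767) (tt N12638 F76768) (tt N13470 D19928) (tt N12637 (iv D19579)) (tt N13471 D19929) (tt N12799 F76769) (tt N13400 (iv F77877)))
theorem Q13123 : ∀ i, i < 13123 → P i := stepQ 13122 Q13122 (allL N13122 (tt N12989 F76770) (tt N13469 (iv F78196)) (tt N12639 F76771) (tt N13471 (iv F78208)) (tt N12928 F76772) (tt N12679 F76773) (tt N12638 (iv D19580)) (tt N12641 F76774) (tt N13401 (iv F77883)))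
theorem Q13124 : ∀ i, i < 13124 → P i := stepQ 13123 Q13123 (allL N13123 (tt N12918 F76775) (tt N12641 F76776) (tt N12654 F76777) (tt N12744 F76778) (tt N12929 F76779) (tt N12685 F76780) (tt N12640 (iv D19581)) (tt N13469 (iv F78200)) (tt N12759 F76781))
theorem Q13125 : ∀ i, i < 13125 → P i := stepQ 13124 Q13124 (allL N13124 (tt N12746 F76782) (tt N12850 F76783) (tt N13010 F76784) (tt N13259 (iv F77357)) (tt N12687 F76785) (tt N12646 F76786) (tt N12642 (iv D19582)) (tt N12650 F76787) (tt N13256 (iv F77344)))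
theorem Q13126 : ∀ i, i < 13126 → P i := stepQ 13125 Q13125 (allL N13125 (tt N12881 F76788) (tt N12645 F76789) (tt N12926 F76790) (tt N13266 (iv F77382)) (tt N12648 F76791) (tt N12643 (iv D19583)) (tt N13472 D19930) (tt N12651 F76792) (tt N13409 (iv F77921)))
theorem Q13127 : ∀ i, i < 13127 → P i := stepQ 13126 Q13126 (allL N13126 (tt N12892 F76793) (tt N13266 (iv F77381)) (tt N13321 (iv F77598)) (tt N12645 F76794) (tt N13202 (iv F77105)) (tt N12644 (iv D19584)) (tt N13473 D19931) (tt N13204 (iv F77112)) (tt N13410 (iv F77926)))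
theorem Q13128 : ∀ i, i < 13128 → P i := stepQ 13127 Q13127 (allL N13127 (tt N12893 F76795) (tt N13472 (iv F78212)) (tt N12646 F76796) (tt N13473 (iv F78218)) (tt N12649 F76797) (tt N13010 F76798) (tt N12645 (iv D19585)) (tt N12653 F76799) (tt N13412 (iv F77939)))
theorem Q13129 : ∀ i, i < 13129 → P i := stepQ 13128 Q13128 (allL N13128 (tt N12648 F76800) (tt N12876 F76801) (tt N12919 F76802) (tt N13204 (iv F77111)) (tt N12881 F76803) (tt N12647 (iv D19586)) (tt N13474 D19932) (tt N12652 F76804) (tt N13413 (iv F77946)))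
theorem Q13130 : ∀ i, i < 13130 → P i := stepQ 13129 Q13129 (allL N13129 (tt N13474 (iv F78220)) (tt N12649 F76805) (tt N13469 (iv F78197)) (tt N13205 (iv F77114)) (tt N13472 (iv F78214)) (tt N12703 F76806) (tt N12648 (iv D19587)) (tt N12654 F76807) (tt N13414 (iv F77950)))
theorem Q13131 : ∀ i, i < 13131 → P i := stepQ 13130 Q13130 (allL N13130 (tt N12884 F76808) (tt N12653 F76809) (tt N12929 F76810) (tt N12883 F76811) (tt N12654 F76812) (tt N12943 F76813) (tt N12651 (iv D19588)) (tt N13472 (iv F78216)) (tt N12939 F76814))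
theorem Q13132 : ∀ i, i < 13132 → P i := stepQ 13131 Q13131 (allL N13131 (tt N12654 F76815) (tt N12883 F76816) (tt N12918 F76817) (tt N12653 F76818) (tt N12884 F76819) (tt N12706 F76820) (tt N12652 (iv D19589)) (tt N13474 (iv F78225)) (tt N12940 F76821))
theorem Q13133 : ∀ i, i < 13133 → P i := stepQ 13132 Q13132 (allL N13132 (tt N12671 F76822) (tt N12867 F76823) (tt N13423 (iv F77996)) (tt N13146 (iv F76889)) (tt N12660 F76824) (tt N12858 F76825) (tt N12655 (iv D19590)) (tt N12661 F76826) (tt N13140 (iv F76862)))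
theorem Q13134 : ∀ i, i < 13134 → P i := stepQ 13133 Q13133 (allL N13133 (tt N12673 F76827) (tt N13219 (iv F77179)) (tt N12793 F76828) (tt N12656 (iv D19591)) (tt N13133 F76829) (tt N13475 D19933) (tt N12985 F76830) (tt N13222 (iv F77201)) (tt N12658 F76831))
theorem Q13135 : ∀ i, i < 13135 → P i := stepQ 13134 Q13134 (allL N13134 (tt N12674 F76832) (tt N13220 (iv F77185)) (tt N12657 F76833) (tt N13475 (iv F78228)) (tt N13139 (iv F76855)) (tt N12656 (iv D19592)) (tt N13476 D19934) (tt N12869 F76834) (tt N12659 F76835))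
theorem Q13136 : ∀ i, i < 13136 → P i := stepQ 13135 Q13135 (allL N13135 (tt N12675 F76836) (tt N12802 F76837) (tt N13476 (iv F78231)) (tt N12795 F76838) (tt N13140 (iv F76860)) (tt N12987 F76839) (tt N12657 (iv D19593)) (tt N12870 F76840) (tt N12660 F76841))
theorem Q13137 : ∀ i, i < 13137 → P i := stepQ 13136 Q13136 (allL N13136 (tt N12678 F76842) (tt N13418 (iv F77971)) (tt N13208 (iv F77130)) (tt N12659 F76843) (tt N13477 D19935) (tt N12658 (iv D19594)) (tt N13478 D19936) (tt N13377 (iv F77787)) (tt N13475 (iv F78229)))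
theorem Q13138 : ∀ i, i < 13138 → P i := stepQ 13137 Q13137 (allL N13137 (tt N12679 F76844) (tt N13419 (iv F77975)) (tt N12660 F76845) (tt N13478 (iv F78238)) (tt N13423 (iv F77997)) (tt N12989 F76846) (tt N12659 (iv D19595)) (tt N12662 F76847) (tt N13476 (iv F78234)))
theorem Q13139 : ∀ i, i < 13139 → P i := stepQ 13138 Q13138 (allL N13138 (tt N13144 (iv F76879)) (tt N13048 F76848) (tt N12669 F76849) (tt N12663 (iv D19596)) (tt N13138 F76850) (tt N13479 D19937) (tt N13072 F76851) (tt N13250 (iv F77323)) (tt N13051 F76852))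
theorem Q13140 : ∀ i, i < 13140 → P i := stepQ 13139 Q13139 (allL N13139 (tt N13145 (iv F76883)) (tt N13049 F76853) (tt N12664 F76854) (tt N13479 (iv F78242)) (tt N13134 F76855) (tt N12663 (iv D19597)) (tt N13480 D19938) (tt N12885 F76856) (tt N13052 F76857))
theorem Q13141 : ∀ i, i < 13141 → P i := stepQ 13140 Q13140 (allL N13140 (tt N13146 (iv F76887)) (tt N12686 F76858) (tt N13480 (iv F78245)) (tt N12671 F76859) (tt N13135 F76860) (tt N13284 (iv F77462)) (tt N12664 (iv D19598)) (tt N12886 F76861) (tt N13132 F76862))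
theorem Q13142 : ∀ i, i < 13142 → P i := stepQ 13141 Q13141 (allL N13141 (tt N12856 F76863) (tt N12937 F76864) (tt N13072 F76865) (tt N12665 (iv D19599)) (tt N13141 F76866) (tt N13481 D19939) (tt N12669 F76867) (tt N12934 F76868) (tt N13281 (iv F77447)))
theorem Q13143 : ∀ i, i < 13143 → P i := stepQ 13142 Q13142 (allL N13142 (tt N12857 F76869) (tt N12941 F76870) (tt N12666 F76871) (tt N13481 (iv F78253)) (tt N12849 F76872) (tt N12665 (iv D19600)) (tt N13482 D19940) (tt N12680 F76873) (tt N13282 (iv F77452)))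
theorem Q13144 : ∀ i, i < 13144 → P i := stepQ 13143 Q13143 (allL N13143 (tt N12858 F76874) (tt N12687 F76875) (tt N13482 (iv F78257)) (tt N13284 (iv F77460)) (tt N12850 F76876) (tt N12671 F76877) (tt N12666 (iv D19601)) (tt N12681 F76878) (tt N13283 (iv F77457)))
theorem Q13145 : ∀ i, i < 13145 → P i := stepQ 13144 Q13144 (allL N13144 (tt N13138 F76879) (tt N13453 (iv F78130)) (tt N13051 F76880) (tt N12667 (iv D19602)) (tt N13144 F76881) (tt N13483 D19941) (tt N13281 (iv F77446)) (tt N13331 (iv F77631)) (tt N12669 F76882))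
theorem Q13146 : ∀ i, i < 13146 → P i := stepQ 13145 Q13145 (allL N13145 (tt N13139 F76883) (tt N13454 (iv F78136)) (tt N12668 F76884) (tt N13483 (iv F78263)) (tt N12674 F76885) (tt N12667 (iv D19603)) (tt N13484 D19942) (tt N13293 (iv F77489)) (tt N12670 F76886))
theorem Q13147 : ∀ i, i < 13147 → P i := stepQ 13146 Q13146 (allL N13146 (tt N13140 F76887) (tt N12690 F76888) (tt N13484 (iv F78266)) (tt N13132 F76889) (tt N12675 F76890) (tt N13283 (iv F77456)) (tt N12668 (iv D19604)) (tt N13294 (iv F77495)) (tt N12671 F76891))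
theorem Q13148 : ∀ i, i < 13148 → P i := stepQ 13147 Q13147 (allL N13147 (tt N13422 (iv F77990)) (tt N13461 (iv F78163)) (tt N13479 (iv F78241)) (tt N12670 F76892) (tt N13485 D19943) (tt N12669 (iv D19605)) (tt N13486 D19944) (tt N13487 D19945) (tt N13483 (iv F78264)))
theorem Q13149 : ∀ i, i < 13149 → P i := stepQ 13148 Q13148 (allL N13148 (tt N12925 F76893) (tt N12766 F76894) (tt N13250 (iv F77320)) (tt N12683 F76895) (tt N13148 F76896) (tt N13487 (iv F78275)) (tt N12934 F76897) (tt N12669 (iv D19606)) (tt N13488 D19946))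
theorem Q13150 : ∀ i, i < 13150 → P i := stepQ 13149 Q13149 (allL N13149 (tt N13423 (iv F77994)) (tt N13462 (iv F78168)) (tt N12671 F76898) (tt N13486 (iv F78271)) (tt N12679 F76899) (tt N13482 (iv F78259)) (tt N12670 (iv D19607)) (tt N12684 F76900) (tt N13484 (iv F78268)))
theorem Q13151 : ∀ i, i < 13151 → P i := stepQ 13150 Q13150 (allL N13150 (tt N13444 (iv F78090)) (tt N12673 F76901) (tt N13489 D19947) (tt N12672 (iv D19608)) (tt N13150 F76902) (tt N13490 D19948) (tt N13398 (iv F77866)) (tt N13312 (iv F77565)) (tt N12676 F76903))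
theorem Q13152 : ∀ i, i < 13152 → P i := stepQ 13151 Q13151 (allL N13151 (tt N13445 (iv F78096)) (tt N12674 F76904) (tt N12695 F76905) (tt N13490 (iv F78287)) (tt N13454 (iv F78138)) (tt N12672 (iv D19609)) (tt N13491 D19949) (tt N12784 F76906) (tt N12677 F76907))
theorem Q13153 : ∀ i, i < 13153 → P i := stepQ 13152 Q13152 (allL N13152 (tt N13475 (iv F78226)) (tt N13490 (iv F78286)) (tt N13236 (iv F77251)) (tt N12674 F76908) (tt N13492 D19950) (tt N12673 (iv D19610)) (tt N13493 D19951) (tt N13442 (iv F78085)) (tt N12678 F76909))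
theorem Q13154 : ∀ i, i < 13154 → P i := stepQ 13153 Q13153 (allL N13153 (tt N13476 (iv F78230)) (tt N13491 (iv F78289)) (tt N12675 F76910) (tt N13493 (iv F78295)) (tt N13484 (iv F78267)) (tt N13401 (iv F77881)) (tt N12674 (iv D19611)) (tt N13441 (iv F78081)) (tt N12679 F76911))
theorem Q13155 : ∀ i, i < 13155 → P i := stepQ 13154 Q13154 (allL N13154 (tt N13448 (iv F78111)) (tt N12961 F76912) (tt N12676 (iv D19612)) (tt N12701 F76913) (tt N13154 F76914) (tt N13494 D19952) (tt N13192 (iv F77074)) (tt N12728 F76915) (tt N13489 (iv F78285)))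
theorem Q13156 : ∀ i, i < 13156 → P i := stepQ 13155 Q13155 (allL N13155 (tt N13449 (iv F78116)) (tt N12678 F76916) (tt N13494 (iv F78298)) (tt N12677 F76917) (tt N13495 D19953) (tt N12676 (iv D19613)) (tt N13496 D19954) (tt N12731 F76918) (tt N13490 (iv F78288)))
theorem Q13157 : ∀ i, i < 13157 → P i := stepQ 13156 Q13156 (allL N13156 (tt N13450 (iv F78120)) (tt N12679 F76919) (tt N12703 F76920) (tt N13496 (iv F78305)) (tt N13462 (iv F78170)) (tt N13469 (iv F78199)) (tt N12677 (iv D19614)) (tt N12685 F76921) (tt N13491 (iv F78292)))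
theorem Q13158 : ∀ i, i < 13158 → P i := stepQ 13157 Q13157 (allL N13157 (tt N13477 (iv F78235)) (tt N13495 (iv F78301)) (tt N13238 (iv F77262)) (tt N13485 (iv F78269)) (tt N12678 (iv D19615)) (tt N13157 F76922) (tt N13497 D19955) (tt N13466 (iv F78184)) (tt N13492 (iv F78294)))
theorem Q13159 : ∀ i, i < 13159 → P i := stepQ 13158 Q13158 (allL N13158 (tt N13478 (iv F78237)) (tt N13496 (iv F78304)) (tt N13239 (iv F77264)) (tt N12679 F76923) (tt N13497 (iv F78307)) (tt N13471 (iv F78209)) (tt N12678 (iv D19616)) (tt N13467 (iv F78189)) (tt N13493 (iv F78296)))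
theorem Q13160 : ∀ i, i < 13160 → P i := stepQ 13159 Q13159 (allL N13159 (tt N12864 F76924) (tt N12940 F76925) (tt N12681 F76926) (tt N12939 F76927) (tt N12852 F76928) (tt N12684 F76929) (tt N12680 (iv D19617)) (tt N13482 (iv F78260)) (tt N12883 F76930))
theorem Q13161 : ∀ i, i < 13161 → P i := stepQ 13160 Q13160 (allL N13160 (tt N12929 F76931) (tt N12769 F76932) (tt N12884 F76933) (tt N12684 F76934) (tt N12918 F76935) (tt N12939 F76936) (tt N12682 (iv D19618)) (tt N13498 D19956) (tt N12943 F76937))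
theorem Q13162 : ∀ i, i < 13162 → P i := stepQ 13161 Q13161 (allL N13161 (tt N12926 F76938) (tt N12767 F76939) (tt N12881 F76940) (tt N13487 (iv F78274)) (tt N12919 F76941) (tt N12683 F76942) (tt N13498 (iv F78313)) (tt N12682 (iv D19619)) (tt N13499 D19957))
theorem Q13163 : ∀ i, i < 13163 → P i := stepQ 13162 Q13162 (allL N13162 (tt N12921 F76943) (tt N12764 F76944) (tt N12878 F76945) (tt N13488 (iv F78278)) (tt N12711 F76946) (tt N13499 (iv F78318)) (tt N12930 F76947) (tt N12951 F76948) (tt N12683 (iv D19620)))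
theorem Q13164 : ∀ i, i < 13164 → P i := stepQ 13163 Q13163 (allL N13163 (tt N12784 F76949) (tt N12689 F76950) (tt N13454 (iv F78137)) (tt N13213 (iv F77152)) (tt N12695 F76951) (tt N12688 (iv D19621)) (tt N13500 D19958) (tt N13445 (iv F78100)) (tt N12691 F76952))
theorem Q13165 : ∀ i, i < 13165 → P i := stepQ 13164 Q13164 (allL N13164 (tt N13388 (iv F77816)) (tt N13500 (iv F78321)) (tt N12690 F76953) (tt N13353 (iv F77692)) (tt N12698 F76954) (tt N13291 (iv F77479)) (tt N12689 (iv D19622)) (tt N13447 (iv F78109)) (tt N12692 F76955))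
theorem Q13166 : ∀ i, i < 13166 → P i := stepQ 13165 Q13165 (allL N13165 (tt N12783 F76956) (tt N12692 F76957) (tt N13462 (iv F78169)) (tt N13212 (iv F77146)) (tt N12703 F76958) (tt N12945 F76959) (tt N12691 (iv D19623)) (tt N12705 F76960) (tt N13500 (iv F78324)))
theorem Q13167 : ∀ i, i < 13167 → P i := stepQ 13166 Q13166 (allL N13166 (tt N12694 F76961) (tt N12819 F76962) (tt N13501 D19959) (tt N12693 (iv D19624)) (tt N12707 F76963) (tt N13502 D19960) (tt N12914 F76964) (tt N13503 D19961) (tt N12699 F76965))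
theorem Q13168 : ∀ i, i < 13168 → P i := stepQ 13167 Q13167 (allL N13167 (tt N12695 F76966) (tt N13293 (iv F77485)) (tt N13445 (iv F78098)) (tt N13502 (iv F78333)) (tt N12784 F76967) (tt N12693 (iv D19625)) (tt N13504 D19962) (tt N13454 (iv F78139)) (tt N12700 F76968))
theorem Q13169 : ∀ i, i < 13169 → P i := stepQ 13168 Q13168 (allL N13168 (tt N13501 (iv F78325)) (tt N12719 F76969) (tt N12694 (iv D19626)) (tt N13489 (iv F78282)) (tt N12708 F76970) (tt N13505 D19963) (tt N12897 F76971) (tt N13257 (iv F77348)) (tt N12701 F76972))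
theorem Q13170 : ∀ i, i < 13170 → P i := stepQ 13169 Q13169 (allL N13169 (tt N13502 (iv F78331)) (tt N12696 F76973) (tt N13505 (iv F78345)) (tt N12695 F76974) (tt N13355 (iv F77702)) (tt N12694 (iv D19627)) (tt N13506 D19964) (tt N13507 D19965) (tt N12702 F76975))
theorem Q13171 : ∀ i, i < 13171 → P i := stepQ 13170 Q13170 (allL N13170 (tt N13503 (iv F78335)) (tt N12697 F76976) (tt N13257 (iv F77346)) (tt N13456 (iv F78145)) (tt N12709 F76977) (tt N13507 (iv F78353)) (tt N12905 F76978) (tt N12694 (iv D19628)) (tt N13005 F76979))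
theorem Q13172 : ∀ i, i < 13172 → P i := stepQ 13171 Q13171 (allL N13171 (tt N13504 (iv F78341)) (tt N12698 F76980) (tt N13491 (iv F78290)) (tt N13506 (iv F78349)) (tt N13500 (iv F78322)) (tt N13414 (iv F77949)) (tt N12695 (iv D19629)) (tt N13457 (iv F78151)) (tt N12703 F76981))
theorem Q13173 : ∀ i, i < 13173 → P i := stepQ 13172 Q13172 (allL N13172 (tt N12821 F76982) (tt N13506 (iv F78348)) (tt N12808 F76983) (tt N12698 F76984) (tt N13357 (iv F77709)) (tt N12916 F76985) (tt N12696 (iv D19630)) (tt N13508 D19966) (tt N12704 F76986))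
theorem Q13174 : ∀ i, i < 13174 → P i := stepQ 13173 Q13173 (allL N13173 (tt N12816 F76987) (tt N13507 (iv F78352)) (tt N12807 F76988) (tt N13460 (iv F78159)) (tt N13247 (iv F77305)) (tt N12697 F76989) (tt N13508 (iv F78358)) (tt N12696 (iv D19631)) (tt N13008 F76990))
theorem Q13175 : ∀ i, i < 13175 → P i := stepQ 13174 Q13174 (allL N13174 (tt N12701 F76991) (tt N13303 (iv F77538)) (tt N12699 (iv D19632)) (tt N13448 (iv F78112)) (tt N12710 F76992) (tt N13509 D19967) (tt N13191 (iv F77069)) (tt N12976 F76993) (tt N13501 (iv F78329)))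
theorem Q13176 : ∀ i, i < 13176 → P i := stepQ 13175 Q13175 (allL N13175 (tt N12702 F76994) (tt N13240 (iv F77267)) (tt N13509 (iv F78361)) (tt N12700 F76995) (tt N13350 (iv F77680)) (tt N12699 (iv D19633)) (tt N13510 D19968) (tt N13009 F76996) (tt N13502 (iv F78334)))
theorem Q13177 : ∀ i, i < 13177 → P i := stepQ 13176 Q13176 (allL N13176 (tt N12703 F76997) (tt N13426 (iv F78007)) (tt N13450 (iv F78122)) (tt N13510 (iv F78365)) (tt N12783 F76998) (tt N13474 (iv F78224)) (tt N12700 (iv D19634)) (tt N12706 F76999) (tt N13504 (iv F78343)))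
theorem Q13178 : ∀ i, i < 13178 → P i := stepQ 13177 Q13177 (allL N13177 (tt N13509 (iv F78360)) (tt N12962 F77000) (tt N12702 F77001) (tt N13494 (iv F78299)) (tt N12971 F77002) (tt N12701 (iv D19635)) (tt N13511 D19969) (tt N12977 F77003) (tt N13505 (iv F78347)))
theorem Q13179 : ∀ i, i < 13179 → P i := stepQ 13178 Q13178 (allL N13178 (tt N13510 (iv F78364)) (tt N12704 F77004) (tt N13511 (iv F78368)) (tt N12703 F77005) (tt N13358 (iv F77714)) (tt N13205 (iv F77115)) (tt N12702 (iv D19636)) (tt N13011 F77006) (tt N13506 (iv F78351)))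
theorem Q13180 : ∀ i, i < 13180 → P i := stepQ 13179 Q13179 (allL N13179 (tt N12708 F77007) (tt N12726 F77008) (tt N12707 (iv D19637)) (tt N13179 F77009) (tt N13501 (iv F78327)) (tt N12964 F77010) (tt N12896 F77011) (tt N12917 (iv F77013)) (tt N12710 F77012))
theorem Q13181 : ∀ i, i < 13181 → P i := stepQ 13180 Q13180 (allL N13180 (tt N12709 F77014) (tt N12813 F77015) (tt N12917 F77016) (tt N13180 F77017) (tt N13503 (iv F78338)) (tt N13244 (iv F77288)) (tt N12904 F77018) (tt N12707 (iv D19638)) (tt N13013 F77019))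
theorem Q13182 : ∀ i, i < 13182 → P i := stepQ 13181 Q13181 (allL N13181 (tt N12901 F77020) (tt N12799 F77021) (tt N13359 (iv F77718)) (tt N12716 F77022) (tt N13512 D19970) (tt N12715 (iv D19639)) (tt N13513 D19971) (tt N13468 (iv F78194)) (tt N13186 (iv F77045)))
theorem Q13183 : ∀ i, i < 13183 → P i := stepQ 13182 Q13182 (allL N13182 (tt N12903 F77023) (tt N12800 F77024) (tt N12717 F77025) (tt N13513 (iv F78376)) (tt N13378 (iv F77791)) (tt N12732 F77026) (tt N12716 (iv D19640)) (tt N12744 F77027) (tt N13187 (iv F77050)))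
theorem Q13184 : ∀ i, i < 13184 → P i := stepQ 13183 Q13183 (allL N13183 (tt N12728 F77028) (tt N13489 (iv F78281)) (tt N12721 F77029) (tt N12719 (iv D19641)) (tt N13183 F77030) (tt N13514 D19972) (tt N12898 F77031) (tt N13448 (iv F78115)) (tt N12961 F77032))
theorem Q13185 : ∀ i, i < 13185 → P i := stepQ 13184 Q13184 (allL N13184 (tt N12729 F77033) (tt N13505 (iv F78344)) (tt N12720 F77034) (tt N13514 (iv F78380)) (tt N12967 F77035) (tt N12719 (iv D19642)) (tt N13515 D19973) (tt N13258 (iv F77353)) (tt N12962 F77036))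
theorem Q13186 : ∀ i, i < 13186 → P i := stepQ 13185 Q13185 (allL N13185 (tt N12730 F77037) (tt N12808 F77038) (tt N13515 (iv F78383)) (tt N12723 F77039) (tt N12968 F77040) (tt N12900 F77041) (tt N12720 (iv D19643)) (tt N13259 (iv F77360)) (tt N12963 F77042))
theorem Q13187 : ∀ i, i < 13187 → P i := stepQ 13186 Q13186 (allL N13186 (tt N12731 F77043) (tt N13236 (iv F77250)) (tt N13514 (iv F78379)) (tt N12722 F77044) (tt N13516 D19974) (tt N12721 (iv D19644)) (tt N13517 D19975) (tt N13449 (iv F78119)) (tt N13181 F77045))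
theorem Q13188 : ∀ i, i < 13188 → P i := stepQ 13187 Q13187 (allL N13187 (tt N12732 F77046) (tt N13237 (iv F77256)) (tt N12723 F77047) (tt N13517 (iv F78391)) (tt N13397 (iv F77858)) (tt N12903 F77048) (tt N12722 (iv D19645)) (tt N12745 F77049) (tt N13182 F77050))
theorem Q13189 : ∀ i, i < 13189 → P i := stepQ 13188 Q13188 (allL N13188 (tt N12966 F77051) (tt N13428 (iv F78017)) (tt N12922 F77052) (tt N12724 (iv D19646)) (tt N13188 F77053) (tt N13518 D19976) (tt N12991 F77054) (tt N12859 F77055) (tt N12906 F77056))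
theorem Q13190 : ∀ i, i < 13190 → P i := stepQ 13189 Q13189 (allL N13189 (tt N12967 F77057) (tt N13435 (iv F78050)) (tt N12725 F77058) (tt N13518 (iv F78396)) (tt N12729 F77059) (tt N12724 (iv D19647)) (tt N13519 D19977) (tt N12890 F77060) (tt N12907 F77061))
theorem Q13191 : ∀ i, i < 13191 → P i := stepQ 13190 Q13190 (allL N13190 (tt N12968 F77062) (tt N12739 F77063) (tt N13519 (iv F78400)) (tt N12924 F77064) (tt N12730 F77065) (tt N13243 (iv F77282)) (tt N12725 (iv D19648)) (tt N13198 (iv F77089)) (tt N12908 F77066))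
theorem Q13192 : ∀ i, i < 13192 → P i := stepQ 13191 Q13191 (allL N13191 (tt N12727 F77067) (tt N13501 (iv F78326)) (tt N12740 F77068) (tt N13307 (iv F77552)) (tt N12726 (iv D19649)) (tt N13520 D19978) (tt N13174 F77069) (tt N12911 F77070) (tt N13303 (iv F77540)))
theorem Q13193 : ∀ i, i < 13193 → P i := stepQ 13192 Q13192 (allL N13192 (tt N13307 (iv F77550)) (tt N12728 F77071) (tt N13119 F77072) (tt N12727 (iv D19650)) (tt N13192 F77073) (tt N13521 D19979) (tt N13154 F77074) (tt N12961 F77075) (tt N13304 (iv F77543)))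
theorem Q13194 : ∀ i, i < 13194 → P i := stepQ 13193 Q13193 (allL N13193 (tt N13520 (iv F78405)) (tt N12729 F77076) (tt N12741 F77077) (tt N13521 (iv F78410)) (tt N13435 (iv F78052)) (tt N12727 (iv D19651)) (tt N13522 D19980) (tt N12978 F77078) (tt N13305 (iv F77546)))
theorem Q13195 : ∀ i, i < 13195 → P i := stepQ 13194 Q13194 (allL N13194 (tt N13514 (iv F78378)) (tt N13521 (iv F78408)) (tt N12731 F77079) (tt N12729 F77080) (tt N13523 D19981) (tt N12728 (iv D19652)) (tt N13524 D19982) (tt N13494 (iv F78300)) (tt N13306 (iv F77549)))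
theorem Q13196 : ∀ i, i < 13196 → P i := stepQ 13195 Q13195 (allL N13195 (tt N13515 (iv F78382)) (tt N13522 (iv F78412)) (tt N12730 F77081) (tt N13524 (iv F78419)) (tt N13519 (iv F78401)) (tt N13360 (iv F77723)) (tt N12729 (iv D19653)) (tt N13372 (iv F77764)) (tt N13308 (iv F77555)))
theorem Q13197 : ∀ i, i < 13197 → P i := stepQ 13196 Q13196 (allL N13196 (tt N13516 (iv F78387)) (tt N13466 (iv F78181)) (tt N13523 (iv F78416)) (tt N13402 (iv F77885)) (tt N12731 (iv D19654)) (tt N13196 F77082) (tt N13525 D19983) (tt N13495 (iv F78303)) (tt N13309 (iv F77557)))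
theorem Q13198 : ∀ i, i < 13198 → P i := stepQ 13197 Q13197 (allL N13197 (tt N13517 (iv F78390)) (tt N13467 (iv F78186)) (tt N13524 (iv F78418)) (tt N12732 F77083) (tt N13525 (iv F78420)) (tt N13513 (iv F78377)) (tt N12731 (iv D19655)) (tt N13496 (iv F78306)) (tt N13310 (iv F77559)))
theorem Q13199 : ∀ i, i < 13199 → P i := stepQ 13198 Q13198 (allL N13198 (tt N12833 F77084) (tt N12838 F77085) (tt N13301 (iv F77528)) (tt N12750 F77086) (tt N12975 F77087) (tt N12818 F77088) (tt N12733 (iv D19656)) (tt N13190 F77089) (tt N12734 F77090))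
theorem Q13200 : ∀ i, i < 13200 → P i := stepQ 13199 Q13199 (allL N13199 (tt N12736 F77091) (tt N12827 F77092) (tt N13411 (iv F77929)) (tt N12826 F77093) (tt N12735 (iv D19657)) (tt N13526 D19984) (tt N13200 (iv F77098)) (tt N12737 F77094) (tt N13318 (iv F77586)))
theorem Q13201 : ∀ i, i < 13201 → P i := stepQ 13200 Q13200 (allL N13200 (tt N12826 F77095) (tt N12737 F77096) (tt N13390 (iv F77829)) (tt N12736 (iv D19658)) (tt N12743 F77097) (tt N13527 D19985) (tt N13199 F77098) (tt N12827 F77099) (tt N13319 (iv F77591)))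
theorem Q13202 : ∀ i, i < 13202 → P i := stepQ 13201 Q13201 (allL N13201 (tt N13526 (iv F78421)) (tt N12738 F77100) (tt N13435 (iv F78051)) (tt N13527 (iv F78428)) (tt N12741 F77101) (tt N12736 (iv D19659)) (tt N13528 D19986) (tt N12840 F77102) (tt N13320 (iv F77596)))
theorem Q13203 : ∀ i, i < 13203 → P i := stepQ 13202 Q13202 (allL N13202 (tt N12840 F77103) (tt N13527 (iv F78427)) (tt N13410 (iv F77923)) (tt N12738 F77104) (tt N13126 F77105) (tt N12737 (iv D19660)) (tt N13529 D19987) (tt N13526 (iv F78425)) (tt N13321 (iv F77600)))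
theorem Q13204 : ∀ i, i < 13204 → P i := stepQ 13203 Q13203 (allL N13203 (tt N12841 F77106) (tt N13528 (iv F78431)) (tt N12739 F77107) (tt N13529 (iv F78435)) (tt N12742 F77108) (tt N13262 (iv F77370)) (tt N12738 (iv D19661)) (tt N13268 (iv F77390)) (tt N13322 (iv F77605)))
theorem Q13205 : ∀ i, i < 13205 → P i := stepQ 13204 Q13204 (allL N13204 (tt N12741 F77109) (tt N12842 F77110) (tt N13520 (iv F78406)) (tt N13128 F77111) (tt N13526 (iv F78424)) (tt N12740 (iv D19662)) (tt N13530 D19988) (tt N13126 F77112) (tt N13323 (iv F77608)))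
theorem Q13206 : ∀ i, i < 13206 → P i := stepQ 13205 Q13205 (allL N13205 (tt N13530 (iv F78437)) (tt N12742 F77113) (tt N13522 (iv F78413)) (tt N13129 F77114) (tt N13528 (iv F78432)) (tt N13178 F77115) (tt N12741 (iv D19663)) (tt N13302 (iv F77536)) (tt N13324 (iv F77610)))
theorem Q13207 : ∀ i, i < 13207 → P i := stepQ 13206 Q13206 (allL N13206 (tt N12866 F77116) (tt N13207 (iv F77122)) (tt N13387 (iv F77812)) (tt N12749 F77117) (tt N13076 F77118) (tt N13062 F77119) (tt N12747 (iv D19664)) (tt N13224 (iv F77214)) (tt N13061 F77120))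
theorem Q13208 : ∀ i, i < 13208 → P i := stepQ 13207 Q13207 (allL N13207 (tt N12868 F77121) (tt N13206 F77122) (tt N12872 F77123) (tt N13061 F77124) (tt N12750 F77125) (tt N12995 F77126) (tt N12748 (iv D19665)) (tt N12787 F77127) (tt N12749 F77128))
theorem Q13209 : ∀ i, i < 13209 → P i := stepQ 13208 Q13208 (allL N13208 (tt N12799 F77129) (tt N13396 (iv F77850)) (tt N13136 F77130) (tt N12752 F77131) (tt N13531 D19989) (tt N12751 (iv D19666)) (tt N13532 D19990) (tt N12988 F77132) (tt N13234 (iv F77244)))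
theorem Q13210 : ∀ i, i < 13210 → P i := stepQ 13209 Q13209 (allL N13209 (tt N12800 F77133) (tt N13397 (iv F77856)) (tt N12753 F77134) (tt N13532 (iv F78448)) (tt N13237 (iv F77258)) (tt N13378 (iv F77792)) (tt N12752 (iv D19667)) (tt N12754 F77135) (tt N13235 (iv F77248)))
theorem Q13211 : ∀ i, i < 13211 → P i := stepQ 13210 Q13210 (allL N13210 (tt N12936 F77136) (tt N12862 F77137) (tt N13217 (iv F77172)) (tt N12756 F77138) (tt N13533 D19991) (tt N12755 (iv D19668)) (tt N13534 D19992) (tt N13437 (iv F78063)) (tt N13427 (iv F78015)))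
theorem Q13212 : ∀ i, i < 13212 → P i := stepQ 13211 Q13211 (allL N13211 (tt N12938 F77139) (tt N12863 F77140) (tt N12757 F77141) (tt N13534 (iv F78455)) (tt N13416 (iv F77960)) (tt N12781 F77142) (tt N12756 (iv D19669)) (tt N12758 F77143) (tt N13429 (iv F78028)))
theorem Q13213 : ∀ i, i < 13213 → P i := stepQ 13212 Q13212 (allL N13212 (tt N12945 F77144) (tt N12950 F77145) (tt N13438 (iv F78066)) (tt N13165 F77146) (tt N12958 F77147) (tt N12783 F77148) (tt N12760 F77149) (tt N12759 (iv D19670)) (tt N13535 D19993))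
theorem Q13214 : ∀ i, i < 13214 → P i := stepQ 13213 Q13213 (allL N13213 (tt N12946 F77150) (tt N12948 F77151) (tt N13406 (iv F77901)) (tt N13163 F77152) (tt N12953 F77153) (tt N12761 F77154) (tt N13535 (iv F78462)) (tt N13399 (iv F77872)) (tt N12760 (iv D19671)))
theorem Q13215 : ∀ i, i < 13215 → P i := stepQ 13214 Q13214 (allL N13214 (tt N12777 F77155) (tt N13488 (iv F78277)) (tt N13069 F77156) (tt N12764 (iv D19672)) (tt N13214 F77157) (tt N13536 D19994) (tt N12931 F77158) (tt N13537 D19995) (tt N12766 F77159))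
theorem Q13216 : ∀ i, i < 13216 → P i := stepQ 13215 Q13215 (allL N13215 (tt N12778 F77160) (tt N13499 (iv F78315)) (tt N12765 F77161) (tt N13536 (iv F78465)) (tt N13092 F77162) (tt N12764 (iv D19673)) (tt N13538 D19996) (tt N13003 F77163) (tt N12767 F77164))
theorem Q13217 : ∀ i, i < 13217 → P i := stepQ 13216 Q13216 (allL N13216 (tt N12779 F77165) (tt N12880 F77166) (tt N13538 (iv F78473)) (tt N13071 F77167) (tt N13093 F77168) (tt N12933 F77169) (tt N12765 (iv D19674)) (tt N13256 (iv F77343)) (tt N12768 F77170))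
theorem Q13218 : ∀ i, i < 13218 → P i := stepQ 13217 Q13217 (allL N13217 (tt N12780 F77171) (tt N13487 (iv F78273)) (tt N13210 F77172) (tt N12767 F77173) (tt N13539 D19997) (tt N12766 (iv D19675)) (tt N13540 D19998) (tt N13461 (iv F78166)) (tt N13536 (iv F78466)))
theorem Q13219 : ∀ i, i < 13219 → P i := stepQ 13218 Q13218 (allL N13218 (tt N12781 F77174) (tt N13498 (iv F78309)) (tt N12768 F77175) (tt N13540 (iv F78483)) (tt N13417 (iv F77967)) (tt N12938 F77176) (tt N12767 (iv D19676)) (tt N12769 F77177) (tt N13538 (iv F78477)))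
theorem Q13220 : ∀ i, i < 13220 → P i := stepQ 13219 Q13219 (allL N13219 (tt N13096 F77178) (tt N13133 F77179) (tt N12774 F77180) (tt N12770 (iv D19677)) (tt N13219 F77181) (tt N13541 D19999) (tt N13222 (iv F77200)) (tt N12985 F77182) (tt N13045 F77183))
theorem Q13221 : ∀ i, i < 13221 → P i := stepQ 13220 Q13220 (allL N13220 (tt N13097 F77184) (tt N13134 F77185) (tt N12771 F77186) (tt N13541 (iv F78488)) (tt N13049 F77187) (tt N12770 (iv D19678)) (tt N13542 D20000) (tt N12998 F77188) (tt N13046 F77189))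
theorem Q13222 : ∀ i, i < 13222 → P i := stepQ 13221 Q13221 (allL N13221 (tt N13098 F77190) (tt N12785 F77191) (tt N13542 (iv F78493)) (tt N12776 F77192) (tt N13050 F77193) (tt N13224 (iv F77213)) (tt N12771 (iv D19679)) (tt N13062 F77194) (tt N13047 F77195))
theorem Q13223 : ∀ i, i < 13223 → P i := stepQ 13222 Q13222 (allL N13222 (tt N13091 F77196) (tt N12985 F77197) (tt N13045 F77198) (tt N12772 (iv D19680)) (tt N13222 F77199) (tt N13543 D20001) (tt N13219 F77200) (tt N13133 F77201) (tt N12774 F77202))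
theorem Q13224 : ∀ i, i < 13224 → P i := stepQ 13223 Q13223 (allL N13223 (tt N13092 F77203) (tt N12986 F77204) (tt N12773 F77205) (tt N13543 (iv F78500)) (tt N12778 F77206) (tt N12772 (iv D19681)) (tt N13544 D20002) (tt N12997 F77207) (tt N12775 F77208))
theorem Q13225 : ∀ i, i < 13225 → P i := stepQ 13224 Q13224 (allL N13224 (tt N13093 F77209) (tt N12787 F77210) (tt N13544 (iv F78505)) (tt N13047 F77211) (tt N12779 F77212) (tt N13221 F77213) (tt N12773 (iv D19682)) (tt N13206 F77214) (tt N12776 F77215))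
theorem Q13226 : ∀ i, i < 13226 → P i := stepQ 13225 Q13225 (allL N13225 (tt N13404 (iv F77889)) (tt N12988 F77216) (tt N13541 (iv F78487)) (tt N12775 F77217) (tt N13545 D20003) (tt N12774 (iv D19683)) (tt N13546 D20004) (tt N13396 (iv F77853)) (tt N13543 (iv F78502)))
theorem Q13227 : ∀ i, i < 13227 → P i := stepQ 13226 Q13226 (allL N13226 (tt N13417 (iv F77964)) (tt N12989 F77218) (tt N12776 F77219) (tt N13546 (iv F78514)) (tt N12781 F77220) (tt N13419 (iv F77978)) (tt N12775 (iv D19684)) (tt N12782 F77221) (tt N13544 (iv F78509)))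
theorem Q13228 : ∀ i, i < 13228 → P i := stepQ 13227 Q13227 (allL N13227 (tt N13536 (iv F78463)) (tt N12990 F77222) (tt N13338 (iv F77646)) (tt N12778 F77223) (tt N13547 D20005) (tt N12777 (iv D19685)) (tt N13548 D20006) (tt N13549 D20007) (tt N12780 F77224))
theorem Q13229 : ∀ i, i < 13229 → P i := stepQ 13228 Q13228 (allL N13228 (tt N13537 (iv F78467)) (tt N12991 F77225) (tt N13339 (iv F77649)) (tt N13005 F77226) (tt N13228 F77227) (tt N13549 (iv F78523)) (tt N13428 (iv F78020)) (tt N12777 (iv D19686)) (tt N13456 (iv F78148)))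
theorem Q13230 : ∀ i, i < 13230 → P i := stepQ 13229 Q13229 (allL N13229 (tt N13538 (iv F78472)) (tt N12992 F77228) (tt N12779 F77229) (tt N13548 (iv F78519)) (tt N13544 (iv F78506)) (tt N13429 (iv F78026)) (tt N12778 (iv D19687)) (tt N13006 F77230) (tt N12781 F77231))
theorem Q13231 : ∀ i, i < 13231 → P i := stepQ 13230 Q13230 (allL N13230 (tt N13539 (iv F78478)) (tt N12993 F77232) (tt N13343 (iv F77658)) (tt N13545 (iv F78511)) (tt N12780 (iv D19688)) (tt N13230 F77233) (tt N13550 D20008) (tt N13463 (iv F78175)) (tt N13547 (iv F78517)))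
theorem Q13232 : ∀ i, i < 13232 → P i := stepQ 13231 Q13231 (allL N13231 (tt N13540 (iv F78481)) (tt N12994 F77234) (tt N13344 (iv F77660)) (tt N12781 F77235) (tt N13550 (iv F78525)) (tt N13534 (iv F78456)) (tt N12780 (iv D19689)) (tt N13464 (iv F78178)) (tt N13548 (iv F78520)))
theorem Q13233 : ∀ i, i < 13233 → P i := stepQ 13232 Q13232 (allL N13232 (tt N13500 (iv F78320)) (tt N13441 (iv F78077)) (tt N13457 (iv F78150)) (tt N13352 (iv F77688)) (tt N13504 (iv F78342)) (tt N13535 (iv F78461)) (tt N12784 F77236) (tt N13491 (iv F78291)) (tt N12783 (iv D19690)))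
theorem Q13234 : ∀ i, i < 13234 → P i := stepQ 13233 Q13233 (allL N13233 (tt N12818 F77237) (tt N12968 F77238) (tt N13357 (iv F77707)) (tt N12790 F77239) (tt N12808 F77240) (tt N12833 F77241) (tt N12789 (iv D19691)) (tt N13248 (iv F77313)) (tt N12791 F77242))
theorem Q13235 : ∀ i, i < 13235 → P i := stepQ 13234 Q13234 (allL N13234 (tt N13236 (iv F77249)) (tt N13377 (iv F77784)) (tt N13475 (iv F78227)) (tt N12794 F77243) (tt N13551 D20009) (tt N12793 (iv D19692)) (tt N13552 D20010) (tt N13418 (iv F77973)) (tt N13208 F77244))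
theorem Q13236 : ∀ i, i < 13236 → P i := stepQ 13235 Q13235 (allL N13235 (tt N13237 (iv F77255)) (tt N13378 (iv F77789)) (tt N12795 F77245) (tt N13552 (iv F78529)) (tt N12800 F77246) (tt N13397 (iv F77859)) (tt N12794 (iv D19693)) (tt N12801 F77247) (tt N13209 F77248))
theorem Q13237 : ∀ i, i < 13237 → P i := stepQ 13236 Q13236 (allL N13236 (tt N13234 F77249) (tt N13186 F77250) (tt N13152 F77251) (tt N12797 F77252) (tt N13553 D20011) (tt N12796 (iv D19694)) (tt N13554 D20012) (tt N13101 F77253) (tt N12799 F77254))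
theorem Q13238 : ∀ i, i < 13238 → P i := stepQ 13237 Q13237 (allL N13237 (tt N13235 F77255) (tt N13187 F77256) (tt N12798 F77257) (tt N13554 (iv F78541)) (tt N13209 F77258) (tt N13023 F77259) (tt N12797 (iv D19695)) (tt N13036 F77260) (tt N12800 F77261))
theorem Q13239 : ∀ i, i < 13239 → P i := stepQ 13238 Q13238 (allL N13238 (tt N13531 (iv F78442)) (tt N13512 (iv F78372)) (tt N13157 F77262) (tt N13551 (iv F78526)) (tt N12799 (iv D19696)) (tt N13238 F77263) (tt N13555 D20013) (tt N13470 (iv F78205)) (tt N13553 (iv F78537)))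
theorem Q13240 : ∀ i, i < 13240 → P i := stepQ 13239 Q13239 (allL N13239 (tt N13532 (iv F78446)) (tt N13513 (iv F78375)) (tt N13158 F77264) (tt N12800 F77265) (tt N13555 (iv F78546)) (tt N13467 (iv F78188)) (tt N12799 (iv D19697)) (tt N13471 (iv F78210)) (tt N13554 (iv F78544)))
theorem Q13241 : ∀ i, i < 13241 → P i := stepQ 13240 Q13240 (allL N13240 (tt N12805 F77266) (tt N13175 F77267) (tt N12980 F77268) (tt N13064 F77269) (tt N13009 F77270) (tt N12804 (iv D19698)) (tt N13556 D20014) (tt N13350 (iv F77682)) (tt N13254 (iv F77334)))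
theorem Q13242 : ∀ i, i < 13242 → P i := stepQ 13241 Q13241 (allL N13241 (tt N13556 (iv F78547)) (tt N12806 F77271) (tt N12981 F77272) (tt N13065 F77273) (tt N13011 F77274) (tt N12843 F77275) (tt N12805 (iv D19699)) (tt N13358 (iv F77716)) (tt N13255 (iv F77338)))
theorem Q13243 : ∀ i, i < 13243 → P i := stepQ 13242 Q13242 (allL N13242 (tt N12817 F77276) (tt N13259 (iv F77356)) (tt N13508 (iv F78356)) (tt N12850 F77277) (tt N13248 (iv F77311)) (tt N12908 F77278) (tt N12807 (iv D19700)) (tt N12808 F77279) (tt N13243 (iv F77284)))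
theorem Q13244 : ∀ i, i < 13244 → P i := stepQ 13243 Q13243 (allL N13243 (tt N13248 (iv F77308)) (tt N12829 F77280) (tt N13394 (iv F77844)) (tt N13275 (iv F77416)) (tt N12817 F77281) (tt N13190 F77282) (tt N12809 (iv D19701)) (tt N12818 F77283) (tt N13242 F77284))
theorem Q13245 : ∀ i, i < 13245 → P i := stepQ 13244 Q13244 (allL N13244 (tt N12810 (iv D19702)) (tt N13013 F77285) (tt N12830 F77286) (tt N13244 F77287) (tt N13557 D20015) (tt N13180 F77288) (tt N12964 F77289) (tt N12960 F77290) (tt N12813 F77291))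
theorem Q13246 : ∀ i, i < 13246 → P i := stepQ 13245 Q13245 (allL N13245 (tt N13557 (iv F78553)) (tt N12811 F77292) (tt N12831 F77293) (tt N13558 D20016) (tt N12810 (iv D19703)) (tt N13559 D20017) (tt N12965 F77294) (tt N12952 F77295) (tt N12814 F77296))
theorem Q13247 : ∀ i, i < 13247 → P i := stepQ 13246 Q13246 (allL N13246 (tt N12991 F77297) (tt N13558 (iv F78559)) (tt N12859 F77298) (tt N12811 (iv D19704)) (tt N13246 F77299) (tt N13560 D20018) (tt N12966 F77300) (tt N12922 F77301) (tt N12815 F77302))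
theorem Q13248 : ∀ i, i < 13248 → P i := stepQ 13247 Q13247 (allL N13247 (tt N13008 F77303) (tt N13559 (iv F78565)) (tt N12812 F77304) (tt N13560 (iv F78572)) (tt N13173 F77305) (tt N12811 (iv D19705)) (tt N13561 D20019) (tt N12954 F77306) (tt N12816 F77307))
theorem Q13249 : ∀ i, i < 13249 → P i := stepQ 13248 Q13248 (allL N13248 (tt N13243 F77308) (tt N12833 F77309) (tt N13561 (iv F78576)) (tt N12861 F77310) (tt N13242 F77311) (tt N12968 F77312) (tt N12812 (iv D19706)) (tt N13233 F77313) (tt N12817 F77314))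
theorem Q13250 : ∀ i, i < 13250 → P i := stepQ 13249 Q13249 (allL N13249 (tt N12814 F77315) (tt N13503 (iv F78336)) (tt N12834 F77316) (tt N13331 (iv F77629)) (tt N12813 (iv D19707)) (tt N13562 D20020) (tt N12969 F77317) (tt N12819 F77318) (tt N13557 (iv F78558)))
theorem Q13251 : ∀ i, i < 13251 → P i := stepQ 13250 Q13250 (allL N13250 (tt N13331 (iv F77628)) (tt N12815 F77319) (tt N13148 F77320) (tt N12814 (iv D19708)) (tt N13250 F77321) (tt N13563 D20021) (tt N12970 F77322) (tt N13138 F77323) (tt N13558 (iv F78564)))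
theorem Q13252 : ∀ i, i < 13252 → P i := stepQ 13251 Q13251 (allL N13251 (tt N13562 (iv F78581)) (tt N12816 F77324) (tt N12835 F77325) (tt N13563 (iv F78586)) (tt N13393 (iv F77842)) (tt N12814 (iv D19709)) (tt N13564 D20022) (tt N12820 F77326) (tt N13559 (iv F78569)))
theorem Q13253 : ∀ i, i < 13253 → P i := stepQ 13252 Q13252 (allL N13252 (tt N13460 (iv F78157)) (tt N13563 (iv F78584)) (tt N12862 F77327) (tt N12816 F77328) (tt N13565 D20023) (tt N12815 (iv D19710)) (tt N13566 D20024) (tt N13420 (iv F77983)) (tt N13560 (iv F78574)))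
theorem Q13254 : ∀ i, i < 13254 → P i := stepQ 13253 Q13253 (allL N13253 (tt N13508 (iv F78355)) (tt N13564 (iv F78588)) (tt N12817 F77329) (tt N13566 (iv F78595)) (tt N13394 (iv F77845)) (tt N12973 F77330) (tt N12816 (iv D19711)) (tt N12821 F77331) (tt N13561 (iv F78580)))
theorem Q13255 : ∀ i, i < 13255 → P i := stepQ 13254 Q13254 (allL N13254 (tt N12820 F77332) (tt N13502 (iv F78332)) (tt N12842 F77333) (tt N13293 (iv F77487)) (tt N13389 (iv F77826)) (tt N12819 (iv D19712)) (tt N13567 D20025) (tt N13562 (iv F78583)) (tt N13240 F77334))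
theorem Q13256 : ∀ i, i < 13256 → P i := stepQ 13255 Q13255 (allL N13255 (tt N13567 (iv F78597)) (tt N12821 F77335) (tt N12843 F77336) (tt N13300 (iv F77523)) (tt N13392 (iv F77838)) (tt N12981 F77337) (tt N12820 (iv D19713)) (tt N13564 (iv F78591)) (tt N13241 F77338))
theorem Q13257 : ∀ i, i < 13257 → P i := stepQ 13256 Q13256 (allL N13256 (tt N13076 F77339) (tt N13275 (iv F77415)) (tt N13391 (iv F77832)) (tt N12829 F77340) (tt N12866 F77341) (tt N13031 F77342) (tt N12822 (iv D19714)) (tt N13216 F77343) (tt N13124 F77344))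
theorem Q13258 : ∀ i, i < 13258 → P i := stepQ 13257 Q13257 (allL N13257 (tt N13319 (iv F77587)) (tt N12824 F77345) (tt N13170 F77346) (tt N13318 (iv F77584)) (tt N12823 (iv D19715)) (tt N13568 D20026) (tt N12910 F77347) (tt N13168 F77348) (tt N12826 F77349))
theorem Q13259 : ∀ i, i < 13259 → P i := stepQ 13258 Q13258 (allL N13258 (tt N12974 F77350) (tt N13568 (iv F78601)) (tt N12825 F77351) (tt N13373 (iv F77768)) (tt N12832 F77352) (tt N12824 (iv D19716)) (tt N13569 D20027) (tt N13184 F77353) (tt N12828 F77354))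
theorem Q13260 : ∀ i, i < 13260 → P i := stepQ 13259 Q13259 (allL N13259 (tt N12975 F77355) (tt N13242 F77356) (tt N13569 (iv F78607)) (tt N13124 F77357) (tt N12833 F77358) (tt N12913 F77359) (tt N12825 (iv D19717)) (tt N13185 F77360) (tt N12829 F77361))
theorem Q13261 : ∀ i, i < 13261 → P i := stepQ 13260 Q13260 (allL N13260 (tt N13527 (iv F78426)) (tt N12828 F77362) (tt N13393 (iv F77841)) (tt N13526 (iv F78423)) (tt N12835 F77363) (tt N12826 (iv D19718)) (tt N13570 D20028) (tt N12839 F77364) (tt N13568 (iv F78605)))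
theorem Q13262 : ∀ i, i < 13262 → P i := stepQ 13261 Q13261 (allL N13261 (tt N12839 F77365) (tt N13526 (iv F78422)) (tt N13389 (iv F77824)) (tt N12828 F77366) (tt N12842 F77367) (tt N12827 (iv D19719)) (tt N13571 D20029) (tt N13527 (iv F78430)) (tt N13373 (iv F77770)))
theorem Q13263 : ∀ i, i < 13263 → P i := stepQ 13262 Q13262 (allL N13262 (tt N13268 (iv F77386)) (tt N13570 (iv F78612)) (tt N12829 F77368) (tt N13571 (iv F78617)) (tt N12836 F77369) (tt N13203 F77370) (tt N12828 (iv D19720)) (tt N12841 F77371) (tt N13569 (iv F78611)))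
theorem Q13264 : ∀ i, i < 13264 → P i := stepQ 13263 Q13263 (allL N13263 (tt N12831 F77372) (tt N13029 F77373) (tt N13557 (iv F78555)) (tt N13028 F77374) (tt N12830 (iv D19721)) (tt N13572 D20030) (tt N13354 (iv F77698)) (tt N13361 (iv F77727)) (tt N12834 F77375))
theorem Q13265 : ∀ i, i < 13265 → P i := stepQ 13264 Q13264 (allL N13264 (tt N13572 (iv F78620)) (tt N12832 F77376) (tt N13559 (iv F78566)) (tt N13297 (iv F77510)) (tt N13568 (iv F78603)) (tt N12831 (iv D19722)) (tt N13573 D20031) (tt N13363 (iv F77735)) (tt N12835 F77377))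
theorem Q13266 : ∀ i, i < 13266 → P i := stepQ 13265 Q13265 (allL N13265 (tt N13301 (iv F77527)) (tt N13573 (iv F78624)) (tt N12833 F77378) (tt N13298 (iv F77514)) (tt N13569 (iv F78608)) (tt N13357 (iv F77710)) (tt N12832 (iv D19723)) (tt N13365 (iv F77741)) (tt N12836 F77379))
theorem Q13267 : ∀ i, i < 13267 → P i := stepQ 13266 Q13266 (allL N13266 (tt N12835 F77380) (tt N13126 F77381) (tt N13562 (iv F78582)) (tt N13125 F77382) (tt N13527 (iv F78429)) (tt N12834 (iv D19724)) (tt N13574 D20032) (tt N12842 F77383) (tt N13572 (iv F78623)))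
theorem Q13268 : ∀ i, i < 13268 → P i := stepQ 13267 Q13267 (allL N13267 (tt N13574 (iv F78626)) (tt N12836 F77384) (tt N13564 (iv F78589)) (tt N13299 (iv F77518)) (tt N13570 (iv F78613)) (tt N13358 (iv F77715)) (tt N12835 (iv D19725)) (tt N12843 F77385) (tt N13573 (iv F78625)))
theorem Q13269 : ∀ i, i < 13269 → P i := stepQ 13268 Q13268 (allL N13268 (tt N13262 F77386) (tt N13270 (iv F77394)) (tt N12838 F77387) (tt N13269 (iv F77392)) (tt N12894 F77388) (tt N12841 F77389) (tt N12837 (iv D19726)) (tt N13203 F77390) (tt N13372 (iv F77765)))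
theorem Q13270 : ∀ i, i < 13270 → P i := stepQ 13269 Q13269 (allL N13269 (tt N13571 (iv F78616)) (tt N12841 F77391) (tt N13392 (iv F77836)) (tt N13268 F77392) (tt N12843 F77393) (tt N13270 (iv F77396)) (tt N12839 (iv D19727)) (tt N13570 (iv F78615)) (tt N13374 (iv F77775)))
theorem Q13271 : ∀ i, i < 13271 → P i := stepQ 13270 Q13270 (allL N13270 (tt N13529 (iv F78434)) (tt N13268 F77394) (tt N13434 (iv F78045)) (tt N12841 F77395) (tt N13302 (iv F77534)) (tt N13269 F77396) (tt N12840 (iv D19728)) (tt N13528 (iv F78433)) (tt N13375 (iv F77780)))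
theorem Q13272 : ∀ i, i < 13272 → P i := stepQ 13271 Q13271 (allL N13271 (tt N12843 F77397) (tt N13530 (iv F78438)) (tt N13567 (iv F78598)) (tt N13296 (iv F77506)) (tt N13571 (iv F78618)) (tt N13556 (iv F78552)) (tt N12842 (iv D19729)) (tt N13574 (iv F78629)) (tt N13376 (iv F77782)))
theorem Q13273 : ∀ i, i < 13273 → P i := stepQ 13272 Q13272 (allL N13272 (tt N12930 F77398) (tt N12845 F77399) (tt N12951 F77400) (tt N13575 D20033) (tt N12844 (iv D19730)) (tt N13576 D20034) (tt N12921 F77401) (tt N12878 F77402) (tt N12847 F77403))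
theorem Q13274 : ∀ i, i < 13274 → P i := stepQ 13273 Q13273 (allL N13273 (tt N12859 F77404) (tt N13575 (iv F78631)) (tt N12991 F77405) (tt N12845 (iv D19731)) (tt N13273 F77406) (tt N13577 D20035) (tt N12922 F77407) (tt N12966 F77408) (tt N12848 F77409))
theorem Q13275 : ∀ i, i < 13275 → P i := stepQ 13274 Q13274 (allL N13274 (tt N12860 F77410) (tt N13576 (iv F78637)) (tt N12846 F77411) (tt N13577 (iv F78644)) (tt N13282 (iv F77450)) (tt N12845 (iv D19732)) (tt N13578 D20036) (tt N12879 F77412) (tt N12849 F77413))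
theorem Q13276 : ∀ i, i < 13276 → P i := stepQ 13275 Q13275 (allL N13275 (tt N12861 F77414) (tt N13256 F77415) (tt N13578 (iv F78648)) (tt N13243 F77416) (tt N13283 (iv F77455)) (tt N12924 F77417) (tt N12846 (iv D19733)) (tt N12880 F77418) (tt N12850 F77419))
theorem Q13277 : ∀ i, i < 13277 → P i := stepQ 13276 Q13276 (allL N13276 (tt N12934 F77420) (tt N12848 F77421) (tt N13366 (iv F77744)) (tt N12847 (iv D19734)) (tt N13276 F77422) (tt N13579 D20037) (tt N12925 F77423) (tt N12856 F77424) (tt N13575 (iv F78635)))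
theorem Q13278 : ∀ i, i < 13278 → P i := stepQ 13277 Q13277 (allL N13277 (tt N12935 F77425) (tt N12849 F77426) (tt N12944 F77427) (tt N13579 (iv F78654)) (tt N12941 F77428) (tt N12847 (iv D19735)) (tt N13580 D20038) (tt N12851 F77429) (tt N13576 (iv F78641)))
theorem Q13279 : ∀ i, i < 13279 → P i := stepQ 13278 Q13278 (allL N13278 (tt N12862 F77430) (tt N13579 (iv F78653)) (tt N13460 (iv F78158)) (tt N12849 F77431) (tt N13581 D20039) (tt N12848 (iv D19736)) (tt N13582 D20040) (tt N13415 (iv F77955)) (tt N13577 (iv F78646)))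
theorem Q13280 : ∀ i, i < 13280 → P i := stepQ 13279 Q13279 (allL N13279 (tt N12863 F77432) (tt N13580 (iv F78657)) (tt N12850 F77433) (tt N13582 (iv F78665)) (tt N13482 (iv F78258)) (tt N12928 F77434) (tt N12849 (iv D19737)) (tt N12852 F77435) (tt N13578 (iv F78651)))
theorem Q13281 : ∀ i, i < 13281 → P i := stepQ 13280 Q13280 (allL N13280 (tt N12939 F77436) (tt N12852 F77437) (tt N12943 F77438) (tt N12864 F77439) (tt N12940 F77440) (tt N12929 F77441) (tt N12851 (iv D19738)) (tt N13580 (iv F78661)) (tt N12884 F77442))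
theorem Q13282 : ∀ i, i < 13282 → P i := stepQ 13281 Q13281 (allL N13281 (tt N13072 F77443) (tt N13346 (iv F77665)) (tt N12856 F77444) (tt N12853 (iv D19739)) (tt N13281 F77445) (tt N13583 D20041) (tt N13144 F77446) (tt N13366 (iv F77747)) (tt N13141 F77447))
theorem Q13283 : ∀ i, i < 13283 → P i := stepQ 13282 Q13282 (allL N13282 (tt N13073 F77448) (tt N13348 (iv F77671)) (tt N12854 F77449) (tt N13583 (iv F78669)) (tt N13274 F77450) (tt N12853 (iv D19740)) (tt N13584 D20042) (tt N13080 F77451) (tt N13142 F77452))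
theorem Q13284 : ∀ i, i < 13284 → P i := stepQ 13283 Q13283 (allL N13283 (tt N13284 (iv F77458)) (tt N12866 F77453) (tt N13584 (iv F78672)) (tt N12858 F77454) (tt N13275 F77455) (tt N13146 F77456) (tt N12854 (iv D19741)) (tt N13295 (iv F77502)) (tt N13143 F77457))
theorem Q13285 : ∀ i, i < 13285 → P i := stepQ 13284 Q13284 (allL N13284 (tt N13283 F77458) (tt N12868 F77459) (tt N13431 (iv F78034)) (tt N13143 F77460) (tt N12861 F77461) (tt N13140 F77462) (tt N12855 (iv D19742)) (tt N12888 F77463) (tt N12858 F77464))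
theorem Q13286 : ∀ i, i < 13286 → P i := stepQ 13285 Q13285 (allL N13285 (tt N13481 (iv F78250)) (tt N13415 (iv F77952)) (tt N13583 (iv F78668)) (tt N12857 F77465) (tt N13585 D20043) (tt N12856 (iv D19743)) (tt N13586 D20044) (tt N13579 (iv F78655)) (tt N13430 (iv F78032)))
theorem Q13287 : ∀ i, i < 13287 → P i := stepQ 13286 Q13286 (allL N13286 (tt N13482 (iv F78255)) (tt N13416 (iv F77958)) (tt N12858 F77466) (tt N13586 (iv F78679)) (tt N12863 F77467) (tt N13423 (iv F77998)) (tt N12857 (iv D19744)) (tt N12864 F77468) (tt N13431 (iv F78037)))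
theorem Q13288 : ∀ i, i < 13288 → P i := stepQ 13287 Q13287 (allL N13287 (tt N13577 (iv F78642)) (tt N13427 (iv F78013)) (tt N13560 (iv F78571)) (tt N12860 F77469) (tt N13587 D20045) (tt N12859 (iv D19745)) (tt N13588 D20046) (tt N13518 (iv F78397)) (tt N12862 F77470))
theorem Q13289 : ∀ i, i < 13289 → P i := stepQ 13288 Q13288 (allL N13288 (tt N13578 (iv F78647)) (tt N13429 (iv F78023)) (tt N12861 F77471) (tt N13588 (iv F78682)) (tt N13431 (iv F78035)) (tt N12992 F77472) (tt N12860 (iv D19746)) (tt N12891 F77473) (tt N12863 F77474))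
theorem Q13290 : ∀ i, i < 13290 → P i := stepQ 13289 Q13289 (allL N13289 (tt N13581 (iv F78662)) (tt N13533 (iv F78451)) (tt N13565 (iv F78592)) (tt N13585 (iv F78677)) (tt N12862 (iv D19747)) (tt N13289 F77475) (tt N13589 D20047) (tt N13439 (iv F78072)) (tt N13587 (iv F78681)))
theorem Q13291 : ∀ i, i < 13291 → P i := stepQ 13290 Q13290 (allL N13290 (tt N13582 (iv F78664)) (tt N13534 (iv F78454)) (tt N13566 (iv F78594)) (tt N12863 F77476) (tt N13589 (iv F78685)) (tt N12994 F77477) (tt N12862 (iv D19748)) (tt N13440 (iv F78075)) (tt N13588 (iv F78684)))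
theorem Q13292 : ∀ i, i < 13292 → P i := stepQ 13291 Q13291 (allL N13291 (tt N13387 (iv F77810)) (tt N13352 (iv F77687)) (tt N12866 F77478) (tt N13441 (iv F78079)) (tt N13391 (iv F77833)) (tt N13164 F77479) (tt N12865 (iv D19749)) (tt N13443 (iv F78088)) (tt N13060 F77480))
theorem Q13293 : ∀ i, i < 13293 → P i := stepQ 13292 Q13292 (allL N13292 (tt N13441 (iv F78076)) (tt N13388 (iv F77817)) (tt N12870 F77481) (tt N13387 (iv F77813)) (tt N13300 (iv F77524)) (tt N12999 F77482) (tt N12869 (iv D19750)) (tt N13476 (iv F78233)) (tt N12996 F77483))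
theorem Q13294 : ∀ i, i < 13294 → P i := stepQ 13293 Q13293 (allL N13293 (tt N12885 F77484) (tt N13167 F77485) (tt N12874 F77486) (tt N13254 F77487) (tt N13088 F77488) (tt N12873 (iv D19751)) (tt N13590 D20048) (tt N13145 F77489) (tt N13064 F77490))
theorem Q13295 : ∀ i, i < 13295 → P i := stepQ 13294 Q13294 (allL N13294 (tt N12886 F77491) (tt N13098 F77492) (tt N13590 (iv F78688)) (tt N12877 F77493) (tt N13089 F77494) (tt N13295 (iv F77501)) (tt N12874 (iv D19752)) (tt N13146 F77495) (tt N13087 F77496))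
theorem Q13296 : ∀ i, i < 13296 → P i := stepQ 13295 Q13295 (allL N13295 (tt N12888 F77497) (tt N13093 F77498) (tt N13436 (iv F78056)) (tt N13087 F77499) (tt N12880 F77500) (tt N13294 F77501) (tt N12875 (iv D19753)) (tt N13283 F77502) (tt N12877 F77503))
theorem Q13297 : ∀ i, i < 13297 → P i := stepQ 13296 Q13296 (allL N13296 (tt N12889 F77504) (tt N13474 (iv F78221)) (tt N12877 F77505) (tt N13271 F77506) (tt N12882 F77507) (tt N13426 (iv F78010)) (tt N12876 (iv D19754)) (tt N12883 F77508) (tt N13436 (iv F78059)))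
theorem Q13298 : ∀ i, i < 13298 → P i := stepQ 13297 Q13297 (allL N13297 (tt N13409 (iv F77916)) (tt N12879 F77509) (tt N13499 (iv F78316)) (tt N13264 F77510) (tt N13413 (iv F77944)) (tt N12878 (iv D19755)) (tt N13591 D20049) (tt N13576 (iv F78640)) (tt N12881 F77511))
theorem Q13299 : ∀ i, i < 13299 → P i := stepQ 13298 Q13298 (allL N13298 (tt N12891 F77512) (tt N13591 (iv F78694)) (tt N12880 F77513) (tt N13265 F77514) (tt N13436 (iv F78058)) (tt N12955 F77515) (tt N12879 (iv D19756)) (tt N13578 (iv F78650)) (tt N12882 F77516))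
theorem Q13300 : ∀ i, i < 13300 → P i := stepQ 13299 Q13299 (allL N13299 (tt N13472 (iv F78211)) (tt N12882 F77517) (tt N13498 (iv F78310)) (tt N13267 F77518) (tt N13474 (iv F78223)) (tt N12958 F77519) (tt N12881 (iv D19757)) (tt N12884 F77520) (tt N13591 (iv F78697)))
theorem Q13301 : ∀ i, i < 13301 → P i := stepQ 13300 Q13300 (allL N13300 (tt N13590 (iv F78686)) (tt N13063 F77521) (tt N12886 F77522) (tt N13255 F77523) (tt N13292 F77524) (tt N13081 F77525) (tt N12885 (iv D19758)) (tt N13480 (iv F78248)) (tt N13065 F77526))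
theorem Q13302 : ∀ i, i < 13302 → P i := stepQ 13301 Q13301 (allL N13301 (tt N13265 F77527) (tt N13434 (iv F78044)) (tt N13198 F77528) (tt N12891 F77529) (tt N13372 (iv F77762)) (tt N13007 F77530) (tt N12890 (iv D19759)) (tt N13519 (iv F78403)) (tt N12894 F77531))
theorem Q13303 : ∀ i, i < 13303 → P i := stepQ 13302 Q13302 (allL N13302 (tt N13473 (iv F78217)) (tt N12894 F77532) (tt N13375 (iv F77777)) (tt N12893 F77533) (tt N13270 F77534) (tt N13011 F77535) (tt N12892 (iv D19760)) (tt N13205 F77536) (tt N13434 (iv F78049)))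
theorem Q13304 : ∀ i, i < 13304 → P i := stepQ 13303 Q13303 (allL N13303 (tt N12897 F77537) (tt N13174 F77538) (tt N12914 F77539) (tt N13592 D20050) (tt N12896 (iv D19761)) (tt N13593 D20051) (tt N13501 (iv F78328)) (tt N13318 (iv F77585)) (tt N13191 F77540))
theorem Q13305 : ∀ i, i < 13305 → P i := stepQ 13304 Q13304 (allL N13304 (tt N13592 (iv F78698)) (tt N12898 F77541) (tt N13398 (iv F77864)) (tt N12897 (iv D19762)) (tt N13304 F77542) (tt N13594 D20052) (tt N13489 (iv F78284)) (tt N13595 D20053) (tt N13192 F77543))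
theorem Q13306 : ∀ i, i < 13306 → P i := stepQ 13305 Q13305 (allL N13305 (tt N13593 (iv F78704)) (tt N12899 F77544) (tt N12915 F77545) (tt N13594 (iv F78709)) (tt N13315 (iv F77572)) (tt N12897 (iv D19763)) (tt N13596 D20054) (tt N13320 (iv F77595)) (tt N13193 F77546))
theorem Q13307 : ∀ i, i < 13307 → P i := stepQ 13306 Q13306 (allL N13306 (tt N13359 (iv F77717)) (tt N13594 (iv F78708)) (tt N12901 F77547) (tt N12899 F77548) (tt N13597 D20055) (tt N12898 (iv D19764)) (tt N13598 D20056) (tt N13599 D20057) (tt N13194 F77549))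
theorem Q13308 : ∀ i, i < 13308 → P i := stepQ 13307 Q13307 (allL N13307 (tt N13192 F77550) (tt N13595 (iv F78712)) (tt N12902 F77551) (tt N13191 F77552) (tt N13307 F77553) (tt N13599 (iv F78730)) (tt N13448 (iv F78114)) (tt N12898 (iv D19765)) (tt N13592 (iv F78703)))
theorem Q13309 : ∀ i, i < 13309 → P i := stepQ 13308 Q13308 (allL N13308 (tt N13360 (iv F77720)) (tt N13596 (iv F78718)) (tt N12900 F77554) (tt N13598 (iv F78725)) (tt N13317 (iv F77579)) (tt N13515 (iv F78385)) (tt N12899 (iv D19766)) (tt N13322 (iv F77604)) (tt N13195 F77555))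
theorem Q13310 : ∀ i, i < 13310 → P i := stepQ 13309 Q13309 (allL N13309 (tt N13512 (iv F78371)) (tt N13402 (iv F77884)) (tt N13597 (iv F78721)) (tt N13466 (iv F78182)) (tt N12901 (iv D19767)) (tt N13309 F77556) (tt N13600 D20058) (tt N13601 D20059) (tt N13196 F77557))
theorem Q13311 : ∀ i, i < 13311 → P i := stepQ 13310 Q13310 (allL N13310 (tt N13513 (iv F78374)) (tt N13403 (iv F77887)) (tt N13598 (iv F78724)) (tt N12903 F77558) (tt N13600 (iv F78731)) (tt N13517 (iv F78392)) (tt N12901 (iv D19768)) (tt N13602 D20060) (tt N13197 F77559))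
theorem Q13312 : ∀ i, i < 13312 → P i := stepQ 13311 Q13311 (allL N13311 (tt N13468 (iv F78191)) (tt N13404 (iv F77890)) (tt N13599 (iv F78728)) (tt N12919 F77560) (tt N13601 (iv F78733)) (tt N12902 F77561) (tt N13602 (iv F78736)) (tt N12901 (iv D19769)) (tt N13603 D20061))
theorem Q13313 : ∀ i, i < 13313 → P i := stepQ 13312 Q13312 (allL N13312 (tt N13398 (iv F77862)) (tt N13091 F77562) (tt N13592 (iv F78700)) (tt N12920 F77563) (tt N13312 F77564) (tt N13603 (iv F78739)) (tt N13444 (iv F78093)) (tt N13150 F77565) (tt N12902 (iv D19770)))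
theorem Q13314 : ∀ i, i < 13314 → P i := stepQ 13313 Q13313 (allL N13313 (tt N12905 F77566) (tt N12969 F77567) (tt N13318 (iv F77583)) (tt N13604 D20062) (tt N12904 (iv D19771)) (tt N13605 D20063) (tt N13503 (iv F78339)) (tt N12914 F77568) (tt N13411 (iv F77933)))
theorem Q13315 : ∀ i, i < 13315 → P i := stepQ 13314 Q13314 (allL N13314 (tt N13604 (iv F78741)) (tt N12906 F77569) (tt N13606 D20064) (tt N12905 (iv D19772)) (tt N13314 F77570) (tt N13607 D20065) (tt N13456 (iv F78147)) (tt N13405 (iv F77897)) (tt N13428 (iv F78021)))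
theorem Q13316 : ∀ i, i < 13316 → P i := stepQ 13315 Q13315 (allL N13315 (tt N13605 (iv F78747)) (tt N12907 F77571) (tt N13320 (iv F77593)) (tt N13607 (iv F78759)) (tt N13305 F77572) (tt N12905 (iv D19773)) (tt N13608 D20066) (tt N12915 F77573) (tt N13435 (iv F78054)))
theorem Q13317 : ∀ i, i < 13317 → P i := stepQ 13316 Q13316 (allL N13316 (tt N12972 F77574) (tt N13607 (iv F78758)) (tt N12927 F77575) (tt N12907 F77576) (tt N13609 D20067) (tt N12906 (iv D19774)) (tt N13610 D20068) (tt N13407 (iv F77908)) (tt N13518 (iv F78398)))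
theorem Q13318 : ∀ i, i < 13318 → P i := stepQ 13317 Q13317 (allL N13317 (tt N12973 F77577) (tt N13608 (iv F78760)) (tt N12908 F77578) (tt N13610 (iv F78769)) (tt N13308 F77579) (tt N13508 (iv F78357)) (tt N12907 (iv D19775)) (tt N12916 F77580) (tt N13519 (iv F78404)))
theorem Q13319 : ∀ i, i < 13319 → P i := stepQ 13318 Q13318 (allL N13318 (tt N12910 F77581) (tt N12976 F77582) (tt N13313 F77583) (tt N13257 F77584) (tt N12909 (iv D19776)) (tt N13611 D20069) (tt N13319 (iv F77590)) (tt N13303 F77585) (tt N13199 F77586))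
theorem Q13320 : ∀ i, i < 13320 → P i := stepQ 13319 Q13319 (allL N13319 (tt N13257 F77587) (tt N12911 F77588) (tt N13503 (iv F78337)) (tt N12910 (iv D19777)) (tt N12917 F77589) (tt N13612 D20070) (tt N13318 F77590) (tt N13501 F78330) (tt N13200 F77591))
theorem Q13321 : ∀ i, i < 13321 → P i := stepQ 13320 Q13320 (allL N13320 (tt N13611 (iv F78770)) (tt N12912 F77592) (tt N13315 F77593) (tt N13612 (iv F78779)) (tt N12915 F77594) (tt N12910 (iv D19778)) (tt N13613 D20071) (tt N13305 F77595) (tt N13201 F77596))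
theorem Q13322 : ∀ i, i < 13322 → P i := stepQ 13321 Q13321 (allL N13321 (tt N12978 F77597) (tt N13612 (iv F78778)) (tt N13126 F77598) (tt N12912 F77599) (tt N13410 (iv F77925)) (tt N12911 (iv D19779)) (tt N13614 D20072) (tt N13520 (iv F78407)) (tt N13202 F77600))
theorem Q13323 : ∀ i, i < 13323 → P i := stepQ 13322 Q13322 (allL N13322 (tt N12979 F77601) (tt N13613 (iv F78782)) (tt N12913 F77602) (tt N13614 (iv F78789)) (tt N12916 F77603) (tt N13569 (iv F78609)) (tt N12912 (iv D19780)) (tt N13308 F77604) (tt N13203 F77605))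
theorem Q13324 : ∀ i, i < 13324 → P i := stepQ 13323 Q13323 (allL N13323 (tt N12915 F77606) (tt N12980 F77607) (tt N13593 (iv F78706)) (tt N13413 (iv F77943)) (tt N13611 (iv F78774)) (tt N12914 (iv D19781)) (tt N13615 D20073) (tt N13605 (iv F78750)) (tt N13204 F77608))
theorem Q13325 : ∀ i, i < 13325 → P i := stepQ 13324 Q13324 (allL N13324 (tt N13615 (iv F78791)) (tt N12916 F77609) (tt N13596 (iv F78719)) (tt N13414 (iv F77948)) (tt N13613 (iv F78784)) (tt N13506 (iv F78350)) (tt N12915 (iv D19782)) (tt N13608 (iv F78762)) (tt N13205 F77610))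
theorem Q13326 : ∀ i, i < 13326 → P i := stepQ 13325 Q13325 (allL N13325 (tt N13469 (iv F78195)) (tt N13417 (iv F77965)) (tt N13474 (iv F78222)) (tt N13602 (iv F78735)) (tt N13498 (iv F78311)) (tt N13450 (iv F78124)) (tt N12919 F77611) (tt N12918 (iv D19783)) (tt N13616 D20074))
theorem Q13327 : ∀ i, i < 13327 → P i := stepQ 13326 Q13326 (allL N13326 (tt N13399 (iv F77868)) (tt N13092 F77612) (tt N13413 (iv F77942)) (tt N13603 (iv F78738)) (tt N13499 (iv F78317)) (tt N12920 F77613) (tt N13616 (iv F78795)) (tt N12946 F77614) (tt N12919 (iv D19784)))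
theorem Q13328 : ∀ i, i < 13328 → P i := stepQ 13327 Q13327 (allL N13327 (tt N13488 (iv F78276)) (tt N12922 F77615) (tt N13617 D20075) (tt N12921 (iv D19785)) (tt N13327 F77616) (tt N13618 D20076) (tt N13575 (iv F78633)) (tt N13558 (iv F78563)) (tt N12925 F77617))
theorem Q13329 : ∀ i, i < 13329 → P i := stepQ 13328 Q13328 (allL N13328 (tt N13499 (iv F78314)) (tt N12923 F77618) (tt N13409 (iv F77918)) (tt N13618 (iv F78804)) (tt N13399 (iv F77871)) (tt N12921 (iv D19786)) (tt N13619 D20077) (tt N12953 F77619) (tt N12926 F77620))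
theorem Q13330 : ∀ i, i < 13330 → P i := stepQ 13329 Q13329 (allL N13329 (tt N12990 F77621) (tt N13618 (iv F78803)) (tt N13518 (iv F78395)) (tt N12923 F77622) (tt N13620 D20078) (tt N12922 (iv D19787)) (tt N13621 D20079) (tt N13560 (iv F78573)) (tt N12927 F77623))
theorem Q13331 : ∀ i, i < 13331 → P i := stepQ 13330 Q13330 (allL N13330 (tt N12992 F77624) (tt N13619 (iv F78806)) (tt N12924 F77625) (tt N13621 (iv F78813)) (tt N13401 (iv F77880)) (tt N13578 (iv F78649)) (tt N12923 (iv D19788)) (tt N12955 F77626) (tt N12928 F77627))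
theorem Q13332 : ∀ i, i < 13332 → P i := stepQ 13331 Q13331 (allL N13331 (tt N13250 F77628) (tt N13606 (iv F78752)) (tt N12925 (iv D19789)) (tt N13249 F77629) (tt N13331 F77630) (tt N13622 D20080) (tt N13366 (iv F77746)) (tt N13144 F77631) (tt N13617 (iv F78802)))
theorem Q13333 : ∀ i, i < 13333 → P i := stepQ 13332 Q13332 (allL N13332 (tt N13487 (iv F78272)) (tt N12927 F77632) (tt N13622 (iv F78816)) (tt N12926 F77633) (tt N13623 D20081) (tt N12925 (iv D19790)) (tt N13624 D20082) (tt N13422 (iv F77993)) (tt N13618 (iv F78805)))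
theorem Q13334 : ∀ i, i < 13334 → P i := stepQ 13333 Q13333 (allL N13333 (tt N13498 (iv F78308)) (tt N12928 F77634) (tt N13472 (iv F78213)) (tt N13624 (iv F78822)) (tt N13469 (iv F78198)) (tt N13580 (iv F78660)) (tt N12926 (iv D19791)) (tt N12929 F77635) (tt N13619 (iv F78808)))
theorem Q13335 : ∀ i, i < 13335 → P i := stepQ 13334 Q13334 (allL N13334 (tt N12993 F77636) (tt N13623 (iv F78819)) (tt N13609 (iv F78764)) (tt N13470 (iv F78203)) (tt N12927 (iv D19792)) (tt N13334 F77637) (tt N13625 D20083) (tt N13424 (iv F78002)) (tt N13620 (iv F78811)))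
theorem Q13336 : ∀ i, i < 13336 → P i := stepQ 13335 Q13335 (allL N13335 (tt N12994 F77638) (tt N13624 (iv F78821)) (tt N13610 (iv F78768)) (tt N12928 F77639) (tt N13625 (iv F78824)) (tt N13582 (iv F78666)) (tt N12927 (iv D19793)) (tt N13425 (iv F78005)) (tt N13621 (iv F78814)))
theorem Q13337 : ∀ i, i < 13337 → P i := stepQ 13336 Q13336 (allL N13336 (tt N13575 (iv F78630)) (tt N12931 F77640) (tt N13362 (iv F77730)) (tt N12930 (iv D19794)) (tt N13336 F77641) (tt N13626 D20084) (tt N13488 (iv F78280)) (tt N13627 D20085) (tt N12934 F77642))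
theorem Q13338 : ∀ i, i < 13338 → P i := stepQ 13337 Q13337 (allL N13337 (tt N13576 (iv F78636)) (tt N12932 F77643) (tt N12953 F77644) (tt N13626 (iv F78826)) (tt N13406 (iv F77902)) (tt N12930 (iv D19795)) (tt N13628 D20086) (tt N13409 (iv F77920)) (tt N12935 F77645))
theorem Q13339 : ∀ i, i < 13339 → P i := stepQ 13338 Q13338 (allL N13338 (tt N13427 (iv F78012)) (tt N13626 (iv F78825)) (tt N13227 F77646) (tt N12932 F77647) (tt N13629 D20087) (tt N12931 (iv D19796)) (tt N13630 D20088) (tt N13631 D20089) (tt N12936 F77648))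
theorem Q13340 : ∀ i, i < 13340 → P i := stepQ 13339 Q13339 (allL N13339 (tt N13428 (iv F78016)) (tt N13627 (iv F78829)) (tt N13228 F77649) (tt N13411 (iv F77930)) (tt N13339 F77650) (tt N13631 (iv F78845)) (tt N13537 (iv F78471)) (tt N12931 (iv D19797)) (tt N13604 (iv F78746)))
theorem Q13341 : ∀ i, i < 13341 → P i := stepQ 13340 Q13340 (allL N13340 (tt N13429 (iv F78022)) (tt N13628 (iv F78835)) (tt N12933 F77651) (tt N13630 (iv F78842)) (tt N13408 (iv F77912)) (tt N13538 (iv F78475)) (tt N12932 (iv D19798)) (tt N13412 (iv F77938)) (tt N12938 F77652))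
theorem Q13342 : ∀ i, i < 13342 → P i := stepQ 13341 Q13341 (allL N13341 (tt N13579 (iv F78652)) (tt N12936 F77653) (tt N13368 (iv F77752)) (tt N12935 F77654) (tt N13632 D20090) (tt N12934 (iv D19799)) (tt N13633 D20091) (tt N13481 (iv F78254)) (tt N13626 (iv F78827)))
theorem Q13343 : ∀ i, i < 13343 → P i := stepQ 13342 Q13342 (allL N13342 (tt N13580 (iv F78656)) (tt N12938 F77655) (tt N12958 F77656) (tt N13633 (iv F78849)) (tt N13438 (iv F78067)) (tt N13498 (iv F78312)) (tt N12935 (iv D19800)) (tt N12939 F77657) (tt N13628 (iv F78837)))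
theorem Q13344 : ∀ i, i < 13344 → P i := stepQ 13343 Q13343 (allL N13343 (tt N13533 (iv F78450)) (tt N13632 (iv F78846)) (tt N13230 F77658) (tt N13439 (iv F78070)) (tt N12936 (iv D19801)) (tt N13343 F77659) (tt N13634 D20092) (tt N13635 D20093) (tt N13629 (iv F78840)))
theorem Q13345 : ∀ i, i < 13345 → P i := stepQ 13344 Q13344 (allL N13344 (tt N13534 (iv F78453)) (tt N13633 (iv F78848)) (tt N13231 F77660) (tt N12938 F77661) (tt N13634 (iv F78851)) (tt N13540 (iv F78484)) (tt N12936 (iv D19802)) (tt N13636 D20094) (tt N13630 (iv F78843)))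
theorem Q13346 : ∀ i, i < 13346 → P i := stepQ 13345 Q13345 (allL N13345 (tt N13437 (iv F78060)) (tt N13481 (iv F78251)) (tt N13111 F77662) (tt N12941 F77663) (tt N13635 (iv F78853)) (tt N12937 F77664) (tt N13636 (iv F78857)) (tt N12936 (iv D19803)) (tt N13637 D20095))
theorem Q13347 : ∀ i, i < 13347 → P i := stepQ 13346 Q13346 (allL N13346 (tt N13405 (iv F77893)) (tt N13281 F77665) (tt N13104 F77666) (tt N12942 F77667) (tt N13346 F77668) (tt N13637 (iv F78861)) (tt N13453 (iv F78133)) (tt N13604 (iv F78745)) (tt N12937 (iv D19804)))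
theorem Q13348 : ∀ i, i < 13348 → P i := stepQ 13347 Q13347 (allL N13347 (tt N13438 (iv F78064)) (tt N13482 (iv F78256)) (tt N12945 F77669) (tt N13636 (iv F78856)) (tt N13580 (iv F78659)) (tt N13462 (iv F78171)) (tt N12941 F77670) (tt N12940 (iv D19805)) (tt N13638 D20096))
theorem Q13349 : ∀ i, i < 13349 → P i := stepQ 13348 Q13348 (allL N13348 (tt N13406 (iv F77899)) (tt N13282 F77671) (tt N12946 F77672) (tt N13637 (iv F78860)) (tt N13576 (iv F78639)) (tt N12942 F77673) (tt N13638 (iv F78864)) (tt N13413 (iv F77945)) (tt N12941 (iv D19806)))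
theorem Q13350 : ∀ i, i < 13350 → P i := stepQ 13349 Q13349 (allL N13349 (tt N12958 F77674) (tt N13010 F77675) (tt N13580 (iv F78658)) (tt N13639 D20097) (tt N12945 F77676) (tt N13472 (iv F78215)) (tt N12944 F77677) (tt N12943 (iv D19807)) (tt N13640 D20098))
theorem Q13351 : ∀ i, i < 13351 → P i := stepQ 13350 Q13350 (allL N13350 (tt N12957 F77678) (tt N13009 F77679) (tt N13367 (iv F77749)) (tt N12944 (iv D19808)) (tt N13175 F77680) (tt N12956 F77681) (tt N13639 (iv F78869)) (tt N13240 F77682) (tt N13641 D20099))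
theorem Q13352 : ∀ i, i < 13352 → P i := stepQ 13351 Q13351 (allL N13351 (tt N12953 F77683) (tt N13003 F77684) (tt N13576 (iv F78638)) (tt N13641 (iv F78877)) (tt N12946 F77685) (tt N12951 F77686) (tt N13640 (iv F78874)) (tt N13499 (iv F78319)) (tt N12944 (iv D19809)))
theorem Q13353 : ∀ i, i < 13353 → P i := stepQ 13352 Q13352 (allL N13352 (tt N13535 (iv F78457)) (tt N13291 F77687) (tt N13638 (iv F78863)) (tt N13232 F77688) (tt N13640 (iv F78873)) (tt N13500 (iv F78323)) (tt N12946 F77689) (tt N13616 (iv F78796)) (tt N12945 (iv D19810)))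
theorem Q13354 : ∀ i, i < 13354 → P i := stepQ 13353 Q13353 (allL N13353 (tt N12999 F77690) (tt N13535 (iv F78458)) (tt N12949 F77691) (tt N13164 F77692) (tt N12955 F77693) (tt N13441 (iv F78080)) (tt N12948 (iv D19811)) (tt N13401 (iv F77882)) (tt N12950 F77694))
theorem Q13355 : ∀ i, i < 13355 → P i := stepQ 13354 Q13354 (allL N13354 (tt N12952 F77695) (tt N13002 F77696) (tt N13361 (iv F77726)) (tt N12951 (iv D19812)) (tt N12960 F77697) (tt N13641 (iv F78879)) (tt N13263 F77698) (tt N13557 (iv F78557)) (tt N12956 F77699))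
theorem Q13356 : ∀ i, i < 13356 → P i := stepQ 13355 Q13355 (allL N13355 (tt N13641 (iv F78875)) (tt N12954 F77700) (tt N13363 (iv F77734)) (tt N12953 F77701) (tt N13169 F77702) (tt N12952 (iv D19813)) (tt N13642 D20100) (tt N13559 (iv F78568)) (tt N12957 F77703))
theorem Q13357 : ∀ i, i < 13357 → P i := stepQ 13356 Q13356 (allL N13356 (tt N13640 (iv F78871)) (tt N12955 F77704) (tt N13628 (iv F78836)) (tt N13642 (iv F78881)) (tt N13535 (iv F78460)) (tt N13591 (iv F78696)) (tt N12953 (iv D19814)) (tt N13619 (iv F78807)) (tt N12958 F77705))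
theorem Q13358 : ∀ i, i < 13358 → P i := stepQ 13357 Q13357 (allL N13357 (tt N13007 F77706) (tt N13642 (iv F78880)) (tt N13233 F77707) (tt N12955 F77708) (tt N13172 F77709) (tt N13265 F77710) (tt N12954 (iv D19815)) (tt N13561 (iv F78579)) (tt N12959 F77711))
theorem Q13359 : ∀ i, i < 13359 → P i := stepQ 13358 Q13358 (allL N13358 (tt N13639 (iv F78865)) (tt N12959 F77712) (tt N13369 (iv F77755)) (tt N12958 F77713) (tt N13178 F77714) (tt N13267 F77715) (tt N12957 (iv D19816)) (tt N13241 F77716) (tt N13642 (iv F78884)))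
theorem Q13360 : ∀ i, i < 13360 → P i := stepQ 13359 Q13359 (allL N13359 (tt N13306 F77717) (tt N13494 (iv F78297)) (tt N13181 F77718) (tt N12962 F77719) (tt N13643 D20101) (tt N12961 (iv D19817)) (tt N13644 D20102) (tt N13521 (iv F78411)) (tt N13514 (iv F78381)))
theorem Q13361 : ∀ i, i < 13361 → P i := stepQ 13360 Q13360 (allL N13360 (tt N13308 F77720) (tt N13511 (iv F78367)) (tt N12963 F77721) (tt N13644 (iv F78891)) (tt N12973 F77722) (tt N13195 F77723) (tt N12962 (iv D19818)) (tt N12979 F77724) (tt N13515 (iv F78386)))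
theorem Q13362 : ∀ i, i < 13362 → P i := stepQ 13361 Q13361 (allL N13361 (tt N12965 F77725) (tt N13411 (iv F77928)) (tt N13354 F77726) (tt N13627 (iv F78831)) (tt N12964 (iv D19819)) (tt N13645 D20103) (tt N13557 (iv F78556)) (tt N13263 F77727) (tt N12969 F77728))
theorem Q13363 : ∀ i, i < 13363 → P i := stepQ 13362 Q13362 (allL N13362 (tt N13627 (iv F78828)) (tt N12966 F77729) (tt N13336 F77730) (tt N12965 (iv D19820)) (tt N13362 F77731) (tt N13646 D20104) (tt N13558 (iv F78562)) (tt N13575 (iv F78634)) (tt N12970 F77732))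
theorem Q13364 : ∀ i, i < 13364 → P i := stepQ 13363 Q13363 (allL N13363 (tt N13645 (iv F78893)) (tt N12967 F77733) (tt N13355 F77734) (tt N13646 (iv F78899)) (tt N13505 (iv F78346)) (tt N12965 (iv D19821)) (tt N13647 D20105) (tt N13264 F77735) (tt N12971 F77736))
theorem Q13365 : ∀ i, i < 13365 → P i := stepQ 13364 Q13364 (allL N13364 (tt N13518 (iv F78394)) (tt N13646 (iv F78897)) (tt N12990 F77737) (tt N12967 F77738) (tt N13648 D20106) (tt N12966 (iv D19822)) (tt N13649 D20107) (tt N13577 (iv F78645)) (tt N12972 F77739))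
theorem Q13366 : ∀ i, i < 13366 → P i := stepQ 13365 Q13365 (allL N13365 (tt N13519 (iv F78399)) (tt N13647 (iv F78901)) (tt N12968 F77740) (tt N13649 (iv F78909)) (tt N13515 (iv F78384)) (tt N13561 (iv F78578)) (tt N12967 (iv D19823)) (tt N13265 F77741) (tt N12973 F77742))
theorem Q13367 : ∀ i, i < 13367 → P i := stepQ 13366 Q13366 (allL N13366 (tt N12970 F77743) (tt N13604 (iv F78742)) (tt N13276 F77744) (tt N12969 (iv D19824)) (tt N13366 F77745) (tt N13650 D20108) (tt N13331 F77746) (tt N13281 F77747) (tt N13627 (iv F78834)))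
theorem Q13368 : ∀ i, i < 13368 → P i := stepQ 13367 Q13367 (allL N13367 (tt N12971 F77748) (tt N13605 (iv F78748)) (tt N13350 F77749) (tt N13650 (iv F78913)) (tt N13509 (iv F78362)) (tt N12969 (iv D19825)) (tt N13651 D20109) (tt N12980 F77750) (tt N13645 (iv F78896)))
theorem Q13369 : ∀ i, i < 13369 → P i := stepQ 13368 Q13368 (allL N13368 (tt N13650 (iv F78911)) (tt N12972 F77751) (tt N13341 F77752) (tt N12971 F77753) (tt N13652 D20110) (tt N12970 (iv D19826)) (tt N13653 D20111) (tt N13430 (iv F78031)) (tt N13646 (iv F78900)))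
theorem Q13370 : ∀ i, i < 13370 → P i := stepQ 13369 Q13369 (allL N13369 (tt N13651 (iv F78915)) (tt N12973 F77754) (tt N13358 F77755) (tt N13653 (iv F78923)) (tt N13511 (iv F78369)) (tt N13564 (iv F78590)) (tt N12971 (iv D19827)) (tt N12981 F77756) (tt N13647 (iv F78904)))
theorem Q13371 : ∀ i, i < 13371 → P i := stepQ 13370 Q13370 (allL N13370 (tt N13609 (iv F78763)) (tt N13652 (iv F78918)) (tt N12993 F77757) (tt N13643 (iv F78887)) (tt N12972 (iv D19828)) (tt N13370 F77758) (tt N13654 D20112) (tt N13432 (iv F78040)) (tt N13648 (iv F78907)))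
theorem Q13372 : ∀ i, i < 13372 → P i := stepQ 13371 Q13371 (allL N13371 (tt N13610 (iv F78767)) (tt N13653 (iv F78921)) (tt N12994 F77759) (tt N12973 F77760) (tt N13654 (iv F78925)) (tt N13566 (iv F78596)) (tt N12972 (iv D19829)) (tt N13433 (iv F78043)) (tt N13649 (iv F78910)))
theorem Q13373 : ∀ i, i < 13373 → P i := stepQ 13372 Q13372 (allL N13372 (tt N13569 (iv F78606)) (tt N13375 (iv F77776)) (tt N12975 F77761) (tt N13374 (iv F77773)) (tt N13301 F77762) (tt N12979 F77763) (tt N12974 (iv D19830)) (tt N13195 F77764) (tt N13268 F77765))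
theorem Q13374 : ∀ i, i < 13374 → P i := stepQ 13373 Q13373 (allL N13373 (tt N12977 F77766) (tt N13611 (iv F78771)) (tt N13009 F77767) (tt N13258 F77768) (tt N12980 F77769) (tt N12976 (iv D19831)) (tt N13655 D20113) (tt N13509 (iv F78363)) (tt N13261 F77770))
theorem Q13375 : ∀ i, i < 13375 → P i := stepQ 13374 Q13374 (allL N13374 (tt N13655 (iv F78926)) (tt N12979 F77771) (tt N13011 F77772) (tt N13372 F77773) (tt N12981 F77774) (tt N13375 (iv F77779)) (tt N12977 (iv D19832)) (tt N13511 (iv F78370)) (tt N13269 F77775))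
theorem Q13376 : ∀ i, i < 13376 → P i := stepQ 13375 Q13375 (allL N13375 (tt N13614 (iv F78787)) (tt N13372 F77776) (tt N13302 F77777) (tt N12979 F77778) (tt N13434 (iv F78047)) (tt N13374 F77779) (tt N12978 (iv D19833)) (tt N13522 (iv F78415)) (tt N13270 F77780))
theorem Q13377 : ∀ i, i < 13377 → P i := stepQ 13376 Q13376 (allL N13376 (tt N12981 F77781) (tt N13615 (iv F78792)) (tt N13556 (iv F78549)) (tt N13436 (iv F78057)) (tt N13655 (iv F78929)) (tt N13567 (iv F78599)) (tt N12980 (iv D19834)) (tt N13651 (iv F78917)) (tt N13271 F77782))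
theorem Q13378 : ∀ i, i < 13378 → P i := stepQ 13377 Q13377 (allL N13377 (tt N13117 F77783) (tt N13234 F77784) (tt N12988 F77785) (tt N12983 F77786) (tt N13656 D20114) (tt N12982 (iv D19835)) (tt N13657 D20115) (tt N13136 F77787) (tt N13396 (iv F77854)))
theorem Q13379 : ∀ i, i < 13379 → P i := stepQ 13378 Q13378 (allL N13378 (tt N13118 F77788) (tt N13235 F77789) (tt N12984 F77790) (tt N13657 (iv F78941)) (tt N13182 F77791) (tt N13209 F77792) (tt N12983 (iv D19836)) (tt N13057 F77793) (tt N13397 (iv F77861)))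
theorem Q13380 : ∀ i, i < 13380 → P i := stepQ 13379 Q13379 (allL N13379 (tt N13400 (iv F77874)) (tt N13543 (iv F78498)) (tt N13396 (iv F77851)) (tt N12986 F77794) (tt N13658 D20116) (tt N12985 (iv D19837)) (tt N13659 D20117) (tt N13541 (iv F78489)) (tt N12988 F77795))
theorem Q13381 : ∀ i, i < 13381 → P i := stepQ 13380 Q13380 (allL N13380 (tt N13401 (iv F77878)) (tt N13544 (iv F78504)) (tt N12987 F77796) (tt N13659 (iv F78947)) (tt N12992 F77797) (tt N13476 (iv F78232)) (tt N12986 (iv D19838)) (tt N12999 F77798) (tt N12989 F77799))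
theorem Q13382 : ∀ i, i < 13382 → P i := stepQ 13381 Q13381 (allL N13381 (tt N13470 (iv F78201)) (tt N13545 (iv F78510)) (tt N13656 (iv F78934)) (tt N12993 F77800) (tt N12988 (iv D19839)) (tt N13381 F77801) (tt N13660 D20118) (tt N13531 (iv F78445)) (tt N13658 (iv F78946)))
theorem Q13383 : ∀ i, i < 13383 → P i := stepQ 13382 Q13382 (allL N13382 (tt N13471 (iv F78206)) (tt N13546 (iv F78513)) (tt N13657 (iv F78940)) (tt N12989 F77802) (tt N13660 (iv F78950)) (tt N13478 (iv F78239)) (tt N12988 (iv D19840)) (tt N13532 (iv F78449)) (tt N13659 (iv F78948)))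
theorem Q13384 : ∀ i, i < 13384 → P i := stepQ 13383 Q13383 (allL N13383 (tt N13620 (iv F78809)) (tt N13547 (iv F78515)) (tt N13648 (iv F78905)) (tt N13658 (iv F78944)) (tt N12990 (iv D19841)) (tt N13383 F77803) (tt N13661 D20119) (tt N13662 D20120) (tt N12993 F77804))
theorem Q13385 : ∀ i, i < 13385 → P i := stepQ 13384 Q13384 (allL N13384 (tt N13621 (iv F78812)) (tt N13548 (iv F78518)) (tt N13649 (iv F78908)) (tt N12992 F77805) (tt N13661 (iv F78951)) (tt N13588 (iv F78683)) (tt N12990 (iv D19842)) (tt N13663 D20121) (tt N12994 F77806))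
theorem Q13386 : ∀ i, i < 13386 → P i := stepQ 13385 Q13385 (allL N13385 (tt N13560 (iv F78570)) (tt N13549 (iv F78521)) (tt N13577 (iv F78643)) (tt N13008 F77807) (tt N13662 (iv F78953)) (tt N12991 F77808) (tt N13663 (iv F78957)) (tt N12990 (iv D19843)) (tt N13460 (iv F78161)))
theorem Q13387 : ∀ i, i < 13387 → P i := stepQ 13386 Q13386 (allL N13386 (tt N13625 (iv F78823)) (tt N13550 (iv F78524)) (tt N13654 (iv F78924)) (tt N13660 (iv F78949)) (tt N12994 F77809) (tt N13664 D20122) (tt N12993 (iv D19844)) (tt N13465 (iv F78180)) (tt N13661 (iv F78952)))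
theorem Q13388 : ∀ i, i < 13388 → P i := stepQ 13387 Q13387 (allL N13387 (tt N13291 F77810) (tt N12999 F77811) (tt N13206 F77812) (tt N13292 F77813) (tt N13006 F77814) (tt N13388 (iv F77821)) (tt N12997 (iv D19845)) (tt N13544 (iv F78508)) (tt N13000 F77815))
theorem Q13389 : ∀ i, i < 13389 → P i := stepQ 13388 Q13388 (allL N13388 (tt N13164 F77816) (tt N13292 F77817) (tt N13062 F77818) (tt N12999 F77819) (tt N13063 F77820) (tt N13387 F77821) (tt N12998 (iv D19846)) (tt N13542 (iv F78495)) (tt N13001 F77822))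
theorem Q13390 : ∀ i, i < 13390 → P i := stepQ 13389 Q13389 (allL N13389 (tt N13004 F77823) (tt N13641 (iv F78876)) (tt N13261 F77824) (tt N13003 F77825) (tt N13254 F77826) (tt N13002 (iv D19847)) (tt N13665 D20123) (tt N13666 D20124) (tt N13009 F77827))
theorem Q13391 : ∀ i, i < 13391 → P i := stepQ 13390 Q13390 (allL N13390 (tt N13005 F77828) (tt N13557 (iv F78554)) (tt N13200 F77829) (tt N13537 (iv F78469)) (tt N13013 F77830) (tt N13666 (iv F78967)) (tt N13411 (iv F77932)) (tt N13002 (iv D19848)) (tt N13503 (iv F78340)))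
theorem Q13392 : ∀ i, i < 13392 → P i := stepQ 13391 Q13391 (allL N13391 (tt N13006 F77831) (tt N13640 (iv F78872)) (tt N13256 F77832) (tt N13665 (iv F78961)) (tt N13291 F77833) (tt N13412 (iv F77937)) (tt N13003 (iv D19849)) (tt N13538 (iv F78476)) (tt N13010 F77834))
theorem Q13393 : ∀ i, i < 13393 → P i := stepQ 13392 Q13392 (allL N13392 (tt N13665 (iv F78959)) (tt N13007 F77835) (tt N13269 F77836) (tt N13006 F77837) (tt N13255 F77838) (tt N13434 (iv F78048)) (tt N13004 (iv D19850)) (tt N13667 D20125) (tt N13011 F77839))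
theorem Q13394 : ∀ i, i < 13394 → P i := stepQ 13393 Q13393 (allL N13393 (tt N13666 (iv F78964)) (tt N13008 F77840) (tt N13260 F77841) (tt N13549 (iv F78522)) (tt N13251 F77842) (tt N13005 F77843) (tt N13667 (iv F78971)) (tt N13004 (iv D19851)) (tt N13507 (iv F78354)))
theorem Q13395 : ∀ i, i < 13395 → P i := stepQ 13394 Q13394 (allL N13394 (tt N13561 (iv F78575)) (tt N13667 (iv F78968)) (tt N13243 F77844) (tt N13663 (iv F78956)) (tt N13253 F77845) (tt N13519 (iv F78402)) (tt N13008 F77846) (tt N13007 (iv D19852)) (tt N13508 (iv F78359)))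
theorem Q13396 : ∀ i, i < 13396 → P i := stepQ 13395 Q13395 (allL N13395 (tt N13011 F77847) (tt N13639 (iv F78866)) (tt N13655 (iv F78927)) (tt N13010 F77848) (tt N13556 (iv F78551)) (tt N13473 (iv F78219)) (tt N13009 (iv D19853)) (tt N13510 (iv F78366)) (tt N13665 (iv F78963)))
theorem Q13397 : ∀ i, i < 13397 → P i := stepQ 13396 Q13396 (allL N13396 (tt N13021 F77849) (tt N13208 F77850) (tt N13379 F77851) (tt N13015 F77852) (tt N13668 D20126) (tt N13014 (iv D19854)) (tt N13669 D20127) (tt N13225 F77853) (tt N13377 F77854))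
theorem Q13398 : ∀ i, i < 13398 → P i := stepQ 13397 Q13397 (allL N13397 (tt N13023 F77855) (tt N13209 F77856) (tt N13016 F77857) (tt N13669 (iv F78982)) (tt N13187 F77858) (tt N13235 F77859) (tt N13015 (iv D19855)) (tt N13041 F77860) (tt N13378 F77861))
theorem Q13399 : ∀ i, i < 13399 → P i := stepQ 13398 Q13398 (allL N13398 (tt N13312 F77862) (tt N13018 F77863) (tt N13304 F77864) (tt N13017 (iv D19856)) (tt N13398 F77865) (tt N13670 D20128) (tt N13150 F77866) (tt N13444 (iv F78094)) (tt N13119 F77867))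
theorem Q13400 : ∀ i, i < 13400 → P i := stepQ 13399 Q13399 (allL N13399 (tt N13326 F77868) (tt N13019 F77869) (tt N13033 F77870) (tt N13670 (iv F78989)) (tt N13328 F77871) (tt N13017 (iv D19857)) (tt N13671 D20129) (tt N13213 F77872) (tt N13120 F77873))
theorem Q13401 : ∀ i, i < 13401 → P i := stepQ 13400 Q13400 (allL N13400 (tt N13379 F77874) (tt N13670 (iv F78987)) (tt N13021 F77875) (tt N13019 F77876) (tt N13672 D20130) (tt N13018 (iv D19858)) (tt N13673 D20131) (tt N13446 (iv F78104)) (tt N13121 F77877))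
theorem Q13402 : ∀ i, i < 13402 → P i := stepQ 13401 Q13401 (allL N13401 (tt N13380 F77878) (tt N13671 (iv F78992)) (tt N13020 F77879) (tt N13673 (iv F79005)) (tt N13330 F77880) (tt N13153 F77881) (tt N13019 (iv D19859)) (tt N13353 F77882) (tt N13122 F77883))
theorem Q13403 : ∀ i, i < 13403 → P i := stepQ 13402 Q13402 (allL N13402 (tt N13668 (iv F78972)) (tt N13309 F77884) (tt N13672 (iv F78999)) (tt N13196 F77885) (tt N13021 (iv D19860)) (tt N13402 F77886) (tt N13674 D20132) (tt N13675 D20133) (tt N13466 (iv F78185)))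
theorem Q13404 : ∀ i, i < 13404 → P i := stepQ 13403 Q13403 (allL N13403 (tt N13669 (iv F78979)) (tt N13310 F77887) (tt N13673 (iv F79004)) (tt N13023 F77888) (tt N13674 (iv F79010)) (tt N13554 (iv F78542)) (tt N13021 (iv D19861)) (tt N13676 D20134) (tt N13467 (iv F78190)))
theorem Q13405 : ∀ i, i < 13405 → P i := stepQ 13404 Q13404 (allL N13404 (tt N13225 F77889) (tt N13311 F77890) (tt N13446 (iv F78102)) (tt N13044 F77891) (tt N13675 (iv F79013)) (tt N13022 F77892) (tt N13676 (iv F79020)) (tt N13021 (iv D19862)) (tt N13442 (iv F78086)))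
theorem Q13406 : ∀ i, i < 13406 → P i := stepQ 13405 Q13405 (allL N13405 (tt N13346 F77893) (tt N13025 F77894) (tt N13453 (iv F78131)) (tt N13024 (iv D19863)) (tt N13405 F77895) (tt N13677 D20135) (tt N13104 F77896) (tt N13314 F77897) (tt N13082 F77898))
theorem Q13407 : ∀ i, i < 13407 → P i := stepQ 13406 Q13406 (allL N13406 (tt N13348 F77899) (tt N13026 F77900) (tt N13213 F77901) (tt N13677 (iv F79023)) (tt N13337 F77902) (tt N13024 (iv D19864)) (tt N13678 D20136) (tt N13033 F77903) (tt N13083 F77904))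
theorem Q13408 : ∀ i, i < 13408 → P i := stepQ 13407 Q13407 (allL N13407 (tt N13074 F77905) (tt N13677 (iv F79022)) (tt N13053 F77906) (tt N13026 F77907) (tt N13679 D20137) (tt N13025 (iv D19865)) (tt N13680 D20138) (tt N13316 F77908) (tt N13084 F77909))
theorem Q13409 : ∀ i, i < 13409 → P i := stepQ 13408 Q13408 (allL N13408 (tt N13075 F77910) (tt N13678 (iv F79027)) (tt N13027 F77911) (tt N13680 (iv F79041)) (tt N13340 F77912) (tt N13108 F77913) (tt N13026 (iv D19866)) (tt N13034 F77914) (tt N13085 F77915))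
theorem Q13410 : ∀ i, i < 13410 → P i := stepQ 13409 Q13409 (allL N13409 (tt N13297 F77916) (tt N13030 F77917) (tt N13328 F77918) (tt N13572 (iv F78622)) (tt N13033 F77919) (tt N13028 (iv D19867)) (tt N13681 D20139) (tt N13337 F77920) (tt N13125 F77921))
theorem Q13411 : ∀ i, i < 13411 → P i := stepQ 13410 Q13410 (allL N13410 (tt N13077 F77922) (tt N13572 (iv F78621)) (tt N13202 F77923) (tt N13030 F77924) (tt N13321 F77925) (tt N13029 (iv D19868)) (tt N13682 D20140) (tt N13683 D20141) (tt N13126 F77926))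
theorem Q13412 : ∀ i, i < 13412 → P i := stepQ 13411 Q13411 (allL N13411 (tt N13078 F77927) (tt N13361 F77928) (tt N13199 F77929) (tt N13339 F77930) (tt N13035 F77931) (tt N13683 (iv F79063)) (tt N13390 F77932) (tt N13029 (iv D19869)) (tt N13313 F77933))
theorem Q13413 : ∀ i, i < 13413 → P i := stepQ 13412 Q13412 (allL N13412 (tt N13079 F77934) (tt N13681 (iv F79046)) (tt N13031 F77935) (tt N13682 (iv F79054)) (tt N13034 F77936) (tt N13391 F77937) (tt N13030 (iv D19870)) (tt N13340 F77938) (tt N13127 F77939))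
theorem Q13414 : ∀ i, i < 13414 → P i := stepQ 13413 Q13413 (allL N13413 (tt N13033 F77940) (tt N13080 F77941) (tt N13326 F77942) (tt N13323 F77943) (tt N13297 F77944) (tt N13032 (iv D19871)) (tt N13684 D20142) (tt N13348 F77945) (tt N13128 F77946))
theorem Q13415 : ∀ i, i < 13415 → P i := stepQ 13414 Q13414 (allL N13414 (tt N13684 (iv F79065)) (tt N13034 F77947) (tt N13671 (iv F78993)) (tt N13324 F77948) (tt N13681 (iv F79048)) (tt N13171 F77949) (tt N13033 (iv D19872)) (tt N13678 (iv F79031)) (tt N13129 F77950))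
theorem Q13416 : ∀ i, i < 13416 → P i := stepQ 13415 Q13415 (allL N13415 (tt N13084 F77951) (tt N13285 F77952) (tt N13106 F77953) (tt N13038 F77954) (tt N13685 D20143) (tt N13037 (iv D19873)) (tt N13686 D20144) (tt N13278 F77955) (tt N13074 F77956))
theorem Q13417 : ∀ i, i < 13417 → P i := stepQ 13416 Q13416 (allL N13416 (tt N13085 F77957) (tt N13286 F77958) (tt N13039 F77959) (tt N13686 (iv F79083)) (tt N13211 F77960) (tt N13054 F77961) (tt N13038 (iv D19874)) (tt N13040 F77962) (tt N13075 F77963))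
theorem Q13418 : ∀ i, i < 13418 → P i := stepQ 13417 Q13417 (allL N13417 (tt N13226 F77964) (tt N13325 F77965) (tt N13094 F77966) (tt N13676 (iv F79018)) (tt N13218 F77967) (tt N13102 F77968) (tt N13044 F77969) (tt N13043 (iv D19875)) (tt N13443 (iv F78089)))
theorem Q13419 : ∀ i, i < 13419 → P i := stepQ 13418 Q13418 (allL N13418 (tt N13101 F77970) (tt N13136 F77971) (tt N13543 (iv F78499)) (tt N13046 F77972) (tt N13687 D20145) (tt N13045 (iv D19876)) (tt N13688 D20146) (tt N13234 F77973) (tt N13541 (iv F78490)))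
theorem Q13420 : ∀ i, i < 13420 → P i := stepQ 13419 Q13419 (allL N13419 (tt N13102 F77974) (tt N13137 F77975) (tt N13047 F77976) (tt N13688 (iv F79094)) (tt N13054 F77977) (tt N13226 F77978) (tt N13046 (iv D19877)) (tt N13055 F77979) (tt N13542 (iv F78496)))
theorem Q13421 : ∀ i, i < 13421 → P i := stepQ 13420 Q13420 (allL N13420 (tt N13106 F77980) (tt N13479 (iv F78240)) (tt N13084 F77981) (tt N13049 F77982) (tt N13689 D20147) (tt N13048 (iv D19878)) (tt N13690 D20148) (tt N13252 F77983) (tt N13053 F77984))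
theorem Q13422 : ∀ i, i < 13422 → P i := stepQ 13421 Q13421 (allL N13421 (tt N13108 F77985) (tt N13480 (iv F78244)) (tt N13050 F77986) (tt N13690 (iv F79104)) (tt N13542 (iv F78494)) (tt N13075 F77987) (tt N13049 (iv D19879)) (tt N13063 F77988) (tt N13054 F77989))
theorem Q13423 : ∀ i, i < 13423 → P i := stepQ 13422 Q13422 (allL N13422 (tt N13147 F77990) (tt N13053 F77991) (tt N13483 (iv F78262)) (tt N13052 F77992) (tt N13691 D20149) (tt N13051 (iv D19880)) (tt N13692 D20150) (tt N13332 F77993) (tt N13479 (iv F78243)))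
theorem Q13424 : ∀ i, i < 13424 → P i := stepQ 13423 Q13423 (allL N13423 (tt N13149 F77994) (tt N13054 F77995) (tt N13132 F77996) (tt N13692 (iv F79115)) (tt N13137 F77997) (tt N13286 F77998) (tt N13052 (iv D19881)) (tt N13056 F77999) (tt N13480 (iv F78249)))
theorem Q13425 : ∀ i, i < 13425 → P i := stepQ 13424 Q13424 (allL N13424 (tt N13113 F78000) (tt N13691 (iv F79109)) (tt N13679 (iv F79034)) (tt N13687 (iv F79089)) (tt N13053 (iv D19882)) (tt N13424 F78001) (tt N13693 D20151) (tt N13334 F78002) (tt N13689 (iv F79101)))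
theorem Q13426 : ∀ i, i < 13426 → P i := stepQ 13425 Q13425 (allL N13425 (tt N13114 F78003) (tt N13692 (iv F79114)) (tt N13680 (iv F79040)) (tt N13054 F78004) (tt N13693 (iv F79119)) (tt N13686 (iv F79084)) (tt N13053 (iv D19883)) (tt N13335 F78005) (tt N13690 (iv F79107)))
theorem Q13427 : ∀ i, i < 13427 → P i := stepQ 13426 Q13426 (allL N13426 (tt N13065 F78006) (tt N13176 F78007) (tt N13087 F78008) (tt N13556 (iv F78550)) (tt N13090 F78009) (tt N13296 F78010) (tt N13064 (iv D19884)) (tt N13066 F78011) (tt N13590 (iv F78693)))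
theorem Q13428 : ∀ i, i < 13428 → P i := stepQ 13427 Q13427 (allL N13427 (tt N13338 F78012) (tt N13287 F78013) (tt N13536 (iv F78464)) (tt N13070 F78014) (tt N13694 D20152) (tt N13069 (iv D19885)) (tt N13695 D20153) (tt N13696 D20154) (tt N13210 F78015))
theorem Q13429 : ∀ i, i < 13429 → P i := stepQ 13428 Q13428 (allL N13428 (tt N13339 F78016) (tt N13188 F78017) (tt N13537 (iv F78468)) (tt N13078 F78018) (tt N13428 F78019) (tt N13696 (iv F79134)) (tt N13228 F78020) (tt N13069 (iv D19886)) (tt N13314 F78021))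
theorem Q13430 : ∀ i, i < 13430 → P i := stepQ 13429 Q13429 (allL N13429 (tt N13340 F78022) (tt N13288 F78023) (tt N13071 F78024) (tt N13695 (iv F79128)) (tt N13075 F78025) (tt N13229 F78026) (tt N13070 (iv D19887)) (tt N13079 F78027) (tt N13211 F78028))
theorem Q13431 : ∀ i, i < 13431 → P i := stepQ 13430 Q13430 (allL N13430 (tt N13583 (iv F78667)) (tt N13074 F78029) (tt N13481 (iv F78252)) (tt N13073 F78030) (tt N13697 D20155) (tt N13072 (iv D19888)) (tt N13698 D20156) (tt N13368 F78031) (tt N13285 F78032))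
theorem Q13432 : ∀ i, i < 13432 → P i := stepQ 13431 Q13431 (allL N13431 (tt N13584 (iv F78671)) (tt N13075 F78033) (tt N13284 F78034) (tt N13698 (iv F79142)) (tt N13288 F78035) (tt N13480 (iv F78247)) (tt N13073 (iv D19889)) (tt N13081 F78036) (tt N13286 F78037))
theorem Q13433 : ∀ i, i < 13433 → P i := stepQ 13432 Q13432 (allL N13432 (tt N13679 (iv F79033)) (tt N13697 (iv F79136)) (tt N13113 F78038) (tt N13694 (iv F79123)) (tt N13074 (iv D19890)) (tt N13432 F78039) (tt N13699 D20157) (tt N13370 F78040) (tt N13685 (iv F79079)))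
theorem Q13434 : ∀ i, i < 13434 → P i := stepQ 13433 Q13433 (allL N13433 (tt N13680 (iv F79039)) (tt N13698 (iv F79141)) (tt N13114 F78041) (tt N13075 F78042) (tt N13699 (iv F79146)) (tt N13690 (iv F79105)) (tt N13074 (iv D19891)) (tt N13371 F78043) (tt N13686 (iv F79086)))
theorem Q13435 : ∀ i, i < 13435 → P i := stepQ 13434 Q13434 (allL N13434 (tt N13682 (iv F79052)) (tt N13301 F78044) (tt N13270 F78045) (tt N13079 F78046) (tt N13375 F78047) (tt N13392 F78048) (tt N13077 (iv D19892)) (tt N13700 D20158) (tt N13302 F78049))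
theorem Q13436 : ∀ i, i < 13436 → P i := stepQ 13435 Q13435 (allL N13435 (tt N13683 (iv F79058)) (tt N13189 F78050) (tt N13201 F78051) (tt N13696 (iv F79133)) (tt N13193 F78052) (tt N13078 F78053) (tt N13700 (iv F79152)) (tt N13077 (iv D19893)) (tt N13315 F78054))
theorem Q13437 : ∀ i, i < 13437 → P i := stepQ 13436 Q13436 (allL N13436 (tt N13081 F78055) (tt N13684 (iv F79066)) (tt N13295 F78056) (tt N13376 F78057) (tt N13298 F78058) (tt N13590 (iv F78691)) (tt N13080 (iv D19894)) (tt N13584 (iv F78675)) (tt N13296 F78059))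
theorem Q13438 : ∀ i, i < 13438 → P i := stepQ 13437 Q13437 (allL N13437 (tt N13345 F78060) (tt N13084 F78061) (tt N13461 (iv F78164)) (tt N13083 F78062) (tt N13701 D20159) (tt N13082 (iv D19895)) (tt N13702 D20160) (tt N13210 F78063) (tt N13677 (iv F79025)))
theorem Q13439 : ∀ i, i < 13439 → P i := stepQ 13438 Q13438 (allL N13438 (tt N13347 F78064) (tt N13085 F78065) (tt N13212 F78066) (tt N13702 (iv F79161)) (tt N13342 F78067) (tt N13112 F78068) (tt N13083 (iv D19896)) (tt N13086 F78069) (tt N13678 (iv F79032)))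
theorem Q13440 : ∀ i, i < 13440 → P i := stepQ 13439 Q13439 (allL N13439 (tt N13685 (iv F79073)) (tt N13701 (iv F79155)) (tt N13689 (iv F79098)) (tt N13343 F78070) (tt N13084 (iv D19897)) (tt N13439 F78071) (tt N13703 D20161) (tt N13289 F78072) (tt N13679 (iv F79038)))
theorem Q13441 : ∀ i, i < 13441 → P i := stepQ 13440 Q13440 (allL N13440 (tt N13686 (iv F79080)) (tt N13702 (iv F79160)) (tt N13690 (iv F79103)) (tt N13085 F78073) (tt N13703 (iv F79165)) (tt N13114 F78074) (tt N13084 (iv D19898)) (tt N13290 F78075) (tt N13680 (iv F79044)))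
theorem Q13442 : ∀ i, i < 13442 → P i := stepQ 13441 Q13441 (allL N13441 (tt N13292 F78076) (tt N13232 F78077) (tt N13089 F78078) (tt N13291 F78079) (tt N13590 (iv F78690)) (tt N13353 F78080) (tt N13088 (iv D19899)) (tt N13153 F78081) (tt N13090 F78082))
theorem Q13443 : ∀ i, i < 13443 → P i := stepQ 13442 Q13442 (allL N13442 (tt N13543 (iv F78497)) (tt N13603 (iv F78737)) (tt N13101 F78083) (tt N13092 F78084) (tt N13704 D20162) (tt N13091 (iv D19900)) (tt N13705 D20163) (tt N13152 F78085) (tt N13404 F78086))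
theorem Q13444 : ∀ i, i < 13444 → P i := stepQ 13443 Q13443 (allL N13443 (tt N13544 (iv F78503)) (tt N13616 (iv F78794)) (tt N13093 F78087) (tt N13705 (iv F79172)) (tt N13538 (iv F78474)) (tt N13447 (iv F78108)) (tt N13092 (iv D19901)) (tt N13291 F78088) (tt N13417 F78089))
theorem Q13445 : ∀ i, i < 13445 → P i := stepQ 13444 Q13444 (allL N13444 (tt N13150 F78090) (tt N13096 F78091) (tt N13595 (iv F78713)) (tt N13095 (iv D19902)) (tt N13444 F78092) (tt N13706 D20164) (tt N13312 F78093) (tt N13398 F78094) (tt N13099 F78095))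
theorem Q13446 : ∀ i, i < 13446 → P i := stepQ 13445 Q13445 (allL N13445 (tt N13151 F78096) (tt N13097 F78097) (tt N13167 F78098) (tt N13706 (iv F79177)) (tt N13105 F78099) (tt N13095 (iv D19903)) (tt N13707 D20165) (tt N13163 F78100) (tt N13100 F78101))
theorem Q13447 : ∀ i, i < 13447 → P i := stepQ 13446 Q13446 (allL N13446 (tt N13541 (iv F78485)) (tt N13706 (iv F79176)) (tt N13404 F78102) (tt N13097 F78103) (tt N13708 D20166) (tt N13096 (iv D19904)) (tt N13709 D20167) (tt N13400 F78104) (tt N13101 F78105))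
theorem Q13448 : ∀ i, i < 13448 → P i := stepQ 13447 Q13447 (allL N13447 (tt N13542 (iv F78491)) (tt N13707 (iv F79181)) (tt N13098 F78106) (tt N13709 (iv F79193)) (tt N13108 F78107) (tt N13443 F78108) (tt N13097 (iv D19905)) (tt N13164 F78109) (tt N13102 F78110))
theorem Q13449 : ∀ i, i < 13449 → P i := stepQ 13448 Q13448 (allL N13448 (tt N13154 F78111) (tt N13592 (iv F78699)) (tt N13099 (iv D19906)) (tt N13174 F78112) (tt N13448 F78113) (tt N13710 D20168) (tt N13307 F78114) (tt N13183 F78115) (tt N13595 (iv F78717)))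
theorem Q13450 : ∀ i, i < 13450 → P i := stepQ 13449 Q13449 (allL N13449 (tt N13155 F78116) (tt N13101 F78117) (tt N13710 (iv F79198)) (tt N13100 F78118) (tt N13711 D20169) (tt N13099 (iv D19907)) (tt N13712 D20170) (tt N13186 F78119) (tt N13706 (iv F79179)))
theorem Q13451 : ∀ i, i < 13451 → P i := stepQ 13450 Q13450 (allL N13450 (tt N13156 F78120) (tt N13102 F78121) (tt N13176 F78122) (tt N13712 (iv F79208)) (tt N13112 F78123) (tt N13325 F78124) (tt N13100 (iv D19908)) (tt N13115 F78125) (tt N13707 (iv F79186)))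
theorem Q13452 : ∀ i, i < 13452 → P i := stepQ 13451 Q13451 (allL N13451 (tt N13687 (iv F79087)) (tt N13711 (iv F79202)) (tt N13704 (iv F79167)) (tt N13113 F78126) (tt N13101 (iv D19909)) (tt N13451 F78127) (tt N13713 D20171) (tt N13553 (iv F78536)) (tt N13708 (iv F79191)))
theorem Q13453 : ∀ i, i < 13453 → P i := stepQ 13452 Q13452 (allL N13452 (tt N13688 (iv F79092)) (tt N13712 (iv F79207)) (tt N13705 (iv F79171)) (tt N13102 F78128) (tt N13713 (iv F79212)) (tt N13676 (iv F79019)) (tt N13101 (iv D19910)) (tt N13554 (iv F78543)) (tt N13709 (iv F79196)))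
theorem Q13454 : ∀ i, i < 13454 → P i := stepQ 13453 Q13453 (allL N13453 (tt N13104 F78129) (tt N13144 F78130) (tt N13405 F78131) (tt N13103 (iv D19911)) (tt N13453 F78132) (tt N13714 D20172) (tt N13346 F78133) (tt N13606 (iv F78756)) (tt N13109 F78134))
theorem Q13455 : ∀ i, i < 13455 → P i := stepQ 13454 Q13454 (allL N13454 (tt N13105 F78135) (tt N13145 F78136) (tt N13163 F78137) (tt N13714 (iv F79216)) (tt N13151 F78138) (tt N13103 (iv D19912)) (tt N13715 D20173) (tt N13167 F78139) (tt N13110 F78140))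
theorem Q13456 : ∀ i, i < 13456 → P i := stepQ 13455 Q13455 (allL N13455 (tt N13714 (iv F79213)) (tt N13106 F78141) (tt N13637 (iv F78859)) (tt N13105 F78142) (tt N13716 D20174) (tt N13104 (iv D19913)) (tt N13717 D20175) (tt N13718 D20176) (tt N13111 F78143))
theorem Q13457 : ∀ i, i < 13457 → P i := stepQ 13456 Q13456 (allL N13456 (tt N13606 (iv F78751)) (tt N13107 F78144) (tt N13604 (iv F78743)) (tt N13170 F78145) (tt N13456 F78146) (tt N13718 (iv F79233)) (tt N13314 F78147) (tt N13104 (iv D19914)) (tt N13228 F78148))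
theorem Q13458 : ∀ i, i < 13458 → P i := stepQ 13457 Q13457 (allL N13457 (tt N13715 (iv F79218)) (tt N13108 F78149) (tt N13232 F78150) (tt N13717 (iv F79229)) (tt N13707 (iv F79183)) (tt N13678 (iv F79030)) (tt N13105 (iv D19915)) (tt N13171 F78151) (tt N13112 F78152))
theorem Q13459 : ∀ i, i < 13459 → P i := stepQ 13458 Q13458 (allL N13458 (tt N13689 (iv F79097)) (tt N13716 (iv F79225)) (tt N13685 (iv F79075)) (tt N13708 (iv F79188)) (tt N13106 (iv D19916)) (tt N13458 F78153) (tt N13719 D20177) (tt N13720 D20178) (tt N13113 F78154))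
theorem Q13460 : ∀ i, i < 13460 → P i := stepQ 13459 Q13459 (allL N13459 (tt N13690 (iv F79102)) (tt N13717 (iv F79228)) (tt N13686 (iv F79082)) (tt N13108 F78155) (tt N13719 (iv F79235)) (tt N13680 (iv F79042)) (tt N13106 (iv D19917)) (tt N13721 D20179) (tt N13114 F78156))
theorem Q13461 : ∀ i, i < 13461 → P i := stepQ 13460 Q13460 (allL N13460 (tt N13252 F78157) (tt N13718 (iv F79231)) (tt N13278 F78158) (tt N13173 F78159) (tt N13720 (iv F79239)) (tt N13107 F78160) (tt N13721 (iv F79246)) (tt N13106 (iv D19918)) (tt N13385 F78161))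
theorem Q13462 : ∀ i, i < 13462 → P i := stepQ 13461 Q13461 (allL N13461 (tt N13111 F78162) (tt N13147 F78163) (tt N13437 F78164) (tt N13110 F78165) (tt N13722 D20180) (tt N13109 (iv D19919)) (tt N13723 D20181) (tt N13217 F78166) (tt N13714 (iv F79217)))
theorem Q13463 : ∀ i, i < 13463 → P i := stepQ 13462 Q13462 (allL N13462 (tt N13112 F78167) (tt N13149 F78168) (tt N13165 F78169) (tt N13723 (iv F79257)) (tt N13156 F78170) (tt N13347 F78171) (tt N13110 (iv D19920)) (tt N13116 F78172) (tt N13715 (iv F79224)))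
theorem Q13464 : ∀ i, i < 13464 → P i := stepQ 13463 Q13463 (allL N13463 (tt N13722 (iv F79248)) (tt N13113 F78173) (tt N13635 (iv F78852)) (tt N13711 (iv F79203)) (tt N13111 (iv D19921)) (tt N13463 F78174) (tt N13724 D20182) (tt N13230 F78175) (tt N13716 (iv F79227)))
theorem Q13465 : ∀ i, i < 13465 → P i := stepQ 13464 Q13464 (allL N13464 (tt N13723 (iv F79254)) (tt N13114 F78176) (tt N13636 (iv F78855)) (tt N13112 F78177) (tt N13724 (iv F79261)) (tt N13702 (iv F79162)) (tt N13111 (iv D19922)) (tt N13231 F78178) (tt N13717 (iv F79230)))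
theorem Q13466 : ∀ i, i < 13466 → P i := stepQ 13465 Q13465 (allL N13465 (tt N13693 (iv F79118)) (tt N13724 (iv F79260)) (tt N13699 (iv F79145)) (tt N13713 (iv F79211)) (tt N13114 F78179) (tt N13725 D20183) (tt N13113 (iv D19923)) (tt N13386 F78180) (tt N13719 (iv F79236)))
theorem Q13467 : ∀ i, i < 13467 → P i := stepQ 13466 Q13466 (allL N13466 (tt N13656 (iv F78932)) (tt N13196 F78181) (tt N13470 (iv F78202)) (tt N13309 F78182) (tt N13117 (iv D19924)) (tt N13466 F78183) (tt N13726 D20184) (tt N13157 F78184) (tt N13402 F78185))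
theorem Q13468 : ∀ i, i < 13468 → P i := stepQ 13467 Q13467 (allL N13467 (tt N13657 (iv F78938)) (tt N13197 F78186) (tt N13471 (iv F78207)) (tt N13118 F78187) (tt N13726 (iv F79267)) (tt N13239 F78188) (tt N13117 (iv D19925)) (tt N13158 F78189) (tt N13403 F78190))
theorem Q13469 : ∀ i, i < 13469 → P i := stepQ 13468 Q13468 (allL N13468 (tt N13311 F78191) (tt N13121 F78192) (tt N13521 (iv F78409)) (tt N13120 F78193) (tt N13727 D20185) (tt N13119 (iv D19926)) (tt N13728 D20186) (tt N13181 F78194) (tt N13670 (iv F78990)))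
theorem Q13470 : ∀ i, i < 13470 → P i := stepQ 13469 Q13469 (allL N13469 (tt N13325 F78195) (tt N13122 F78196) (tt N13129 F78197) (tt N13728 (iv F79277)) (tt N13333 F78198) (tt N13156 F78199) (tt N13120 (iv D19927)) (tt N13123 F78200) (tt N13671 (iv F78997)))
theorem Q13471 : ∀ i, i < 13471 → P i := stepQ 13470 Q13470 (allL N13470 (tt N13381 F78201) (tt N13727 (iv F79271)) (tt N13466 F78202) (tt N13334 F78203) (tt N13121 (iv D19928)) (tt N13470 F78204) (tt N13729 D20187) (tt N13238 F78205) (tt N13672 (iv F79002)))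
theorem Q13472 : ∀ i, i < 13472 → P i := stepQ 13471 Q13471 (allL N13471 (tt N13382 F78206) (tt N13728 (iv F79276)) (tt N13467 F78207) (tt N13122 F78208) (tt N13729 (iv F79283)) (tt N13158 F78209) (tt N13121 (iv D19929)) (tt N13239 F78210) (tt N13673 (iv F79007)))
theorem Q13473 : ∀ i, i < 13473 → P i := stepQ 13472 Q13472 (allL N13472 (tt N13299 F78211) (tt N13127 F78212) (tt N13333 F78213) (tt N13574 (iv F78628)) (tt N13129 F78214) (tt N13349 F78215) (tt N13125 (iv D19930)) (tt N13130 F78216) (tt N13681 (iv F79051)))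
theorem Q13474 : ∀ i, i < 13474 → P i := stepQ 13473 Q13473 (allL N13473 (tt N13302 F78217) (tt N13574 (iv F78627)) (tt N13614 (iv F78788)) (tt N13127 F78218) (tt N13529 (iv F78436)) (tt N13395 F78219) (tt N13126 (iv D19931)) (tt N13530 (iv F78441)) (tt N13682 (iv F79057)))
theorem Q13475 : ∀ i, i < 13475 → P i := stepQ 13474 Q13474 (allL N13474 (tt N13129 F78220) (tt N13296 F78221) (tt N13325 F78222) (tt N13530 (iv F78439)) (tt N13299 F78223) (tt N13176 F78224) (tt N13128 (iv D19932)) (tt N13131 F78225) (tt N13684 (iv F79072)))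
theorem Q13476 : ∀ i, i < 13476 → P i := stepQ 13475 Q13475 (allL N13475 (tt N13152 F78226) (tt N13541 (iv F78486)) (tt N13234 F78227) (tt N13134 F78228) (tt N13730 D20188) (tt N13133 (iv D19933)) (tt N13731 D20189) (tt N13543 (iv F78501)) (tt N13136 F78229))
theorem Q13477 : ∀ i, i < 13477 → P i := stepQ 13476 Q13476 (allL N13476 (tt N13153 F78230) (tt N13542 (iv F78492)) (tt N13135 F78231) (tt N13731 (iv F79291)) (tt N13480 (iv F78246)) (tt N13380 F78232) (tt N13134 (iv D19934)) (tt N13292 F78233) (tt N13137 F78234))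
theorem Q13478 : ∀ i, i < 13478 → P i := stepQ 13477 Q13477 (allL N13477 (tt N13157 F78235) (tt N13687 (iv F79088)) (tt N13531 (iv F78443)) (tt N13691 (iv F79110)) (tt N13136 (iv D19935)) (tt N13477 F78236) (tt N13732 D20190) (tt N13656 (iv F78937)) (tt N13730 (iv F79288)))
theorem Q13479 : ∀ i, i < 13479 → P i := stepQ 13478 Q13478 (allL N13478 (tt N13158 F78237) (tt N13688 (iv F79093)) (tt N13532 (iv F78447)) (tt N13137 F78238) (tt N13732 (iv F79295)) (tt N13382 F78239) (tt N13136 (iv D19936)) (tt N13657 (iv F78943)) (tt N13731 (iv F79293)))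
theorem Q13480 : ∀ i, i < 13480 → P i := stepQ 13479 Q13479 (allL N13479 (tt N13483 (iv F78261)) (tt N13420 F78240) (tt N13147 F78241) (tt N13139 F78242) (tt N13733 D20191) (tt N13138 (iv D19937)) (tt N13734 D20192) (tt N13563 (iv F78587)) (tt N13422 F78243))
theorem Q13481 : ∀ i, i < 13481 → P i := stepQ 13480 Q13480 (allL N13480 (tt N13484 (iv F78265)) (tt N13421 F78244) (tt N13140 F78245) (tt N13734 (iv F79303)) (tt N13476 F78246) (tt N13431 F78247) (tt N13139 (iv D19938)) (tt N13300 F78248) (tt N13423 F78249))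
theorem Q13482 : ∀ i, i < 13482 → P i := stepQ 13481 Q13481 (allL N13481 (tt N13285 F78250) (tt N13345 F78251) (tt N13430 F78252) (tt N13142 F78253) (tt N13735 D20193) (tt N13141 (iv D19939)) (tt N13736 D20194) (tt N13341 F78254) (tt N13583 (iv F78670)))
theorem Q13483 : ∀ i, i < 13483 → P i := stepQ 13482 Q13482 (allL N13482 (tt N13286 F78255) (tt N13347 F78256) (tt N13143 F78257) (tt N13736 (iv F79315)) (tt N13279 F78258) (tt N13149 F78259) (tt N13142 (iv D19940)) (tt N13159 F78260) (tt N13584 (iv F78676)))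
theorem Q13484 : ∀ i, i < 13484 → P i := stepQ 13483 Q13483 (allL N13483 (tt N13479 F78261) (tt N13714 (iv F79214)) (tt N13422 F78262) (tt N13145 F78263) (tt N13737 D20195) (tt N13144 (iv D19941)) (tt N13738 D20196) (tt N13622 (iv F78818)) (tt N13147 F78264))
theorem Q13485 : ∀ i, i < 13485 → P i := stepQ 13484 Q13484 (allL N13484 (tt N13480 F78265) (tt N13715 (iv F79219)) (tt N13146 F78266) (tt N13738 (iv F79325)) (tt N13153 F78267) (tt N13584 (iv F78674)) (tt N13145 (iv D19942)) (tt N13590 (iv F78692)) (tt N13149 F78268))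
theorem Q13486 : ∀ i, i < 13486 → P i := stepQ 13485 Q13485 (allL N13485 (tt N13691 (iv F79108)) (tt N13722 (iv F79249)) (tt N13733 (iv F79297)) (tt N13157 F78269) (tt N13147 (iv D19943)) (tt N13485 F78270) (tt N13739 D20197) (tt N13740 D20198) (tt N13737 (iv F79322)))
theorem Q13487 : ∀ i, i < 13487 → P i := stepQ 13486 Q13486 (allL N13486 (tt N13692 (iv F79113)) (tt N13723 (iv F79255)) (tt N13734 (iv F79302)) (tt N13149 F78271) (tt N13739 (iv F79328)) (tt N13736 (iv F79316)) (tt N13147 (iv D19944)) (tt N13741 D20199) (tt N13738 (iv F79326)))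
theorem Q13488 : ∀ i, i < 13488 → P i := stepQ 13487 Q13487 (allL N13487 (tt N13332 F78272) (tt N13217 F78273) (tt N13563 (iv F78585)) (tt N13161 F78274) (tt N13740 (iv F79332)) (tt N13148 F78275) (tt N13741 (iv F79338)) (tt N13147 (iv D19945)) (tt N13742 D20200))
theorem Q13489 : ∀ i, i < 13489 → P i := stepQ 13488 Q13488 (allL N13488 (tt N13327 F78276) (tt N13214 F78277) (tt N13558 (iv F78560)) (tt N13162 F78278) (tt N13488 F78279) (tt N13742 (iv F79342)) (tt N13336 F78280) (tt N13617 (iv F78801)) (tt N13148 (iv D19946)))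
theorem Q13490 : ∀ i, i < 13490 → P i := stepQ 13489 Q13489 (allL N13489 (tt N13595 (iv F78711)) (tt N13183 F78281) (tt N13150 (iv D19947)) (tt N13168 F78282) (tt N13489 F78283) (tt N13743 D20201) (tt N13304 F78284) (tt N13592 (iv F78702)) (tt N13154 F78285))
theorem Q13491 : ∀ i, i < 13491 → P i := stepQ 13490 Q13490 (allL N13490 (tt N13706 (iv F79175)) (tt N13152 F78286) (tt N13743 (iv F79344)) (tt N13151 F78287) (tt N13744 D20202) (tt N13150 (iv D19948)) (tt N13745 D20203) (tt N13603 (iv F78740)) (tt N13155 F78288))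
theorem Q13492 : ∀ i, i < 13492 → P i := stepQ 13491 Q13491 (allL N13491 (tt N13707 (iv F79180)) (tt N13153 F78289) (tt N13171 F78290) (tt N13745 (iv F79351)) (tt N13715 (iv F79221)) (tt N13671 (iv F78995)) (tt N13151 (iv D19949)) (tt N13232 F78291) (tt N13156 F78292))
theorem Q13493 : ∀ i, i < 13493 → P i := stepQ 13492 Q13492 (allL N13492 (tt N13730 (iv F79285)) (tt N13744 (iv F79347)) (tt N13553 (iv F78533)) (tt N13737 (iv F79320)) (tt N13152 (iv D19950)) (tt N13492 F78293) (tt N13746 D20204) (tt N13704 (iv F79169)) (tt N13157 F78294))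
theorem Q13494 : ∀ i, i < 13494 → P i := stepQ 13493 Q13493 (allL N13493 (tt N13731 (iv F79289)) (tt N13745 (iv F79350)) (tt N13554 (iv F78540)) (tt N13153 F78295) (tt N13746 (iv F79353)) (tt N13673 (iv F79006)) (tt N13152 (iv D19951)) (tt N13705 (iv F79173)) (tt N13158 F78296))
theorem Q13495 : ∀ i, i < 13495 → P i := stepQ 13494 Q13494 (allL N13494 (tt N13710 (iv F79197)) (tt N13359 F78297) (tt N13155 F78298) (tt N13177 F78299) (tt N13747 D20205) (tt N13154 (iv D19952)) (tt N13748 D20206) (tt N13194 F78300) (tt N13743 (iv F79346)))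
theorem Q13496 : ∀ i, i < 13496 → P i := stepQ 13495 Q13495 (allL N13495 (tt N13711 (iv F79201)) (tt N13157 F78301) (tt N13747 (iv F79356)) (tt N13722 (iv F79251)) (tt N13155 (iv D19953)) (tt N13495 F78302) (tt N13749 D20207) (tt N13196 F78303) (tt N13744 (iv F79349)))
theorem Q13497 : ∀ i, i < 13497 → P i := stepQ 13496 Q13496 (allL N13496 (tt N13712 (iv F79206)) (tt N13158 F78304) (tt N13748 (iv F79361)) (tt N13156 F78305) (tt N13749 (iv F79365)) (tt N13728 (iv F79278)) (tt N13155 (iv D19954)) (tt N13197 F78306) (tt N13745 (iv F79352)))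
theorem Q13498 : ∀ i, i < 13498 → P i := stepQ 13497 Q13497 (allL N13497 (tt N13732 (iv F79294)) (tt N13749 (iv F79364)) (tt N13555 (iv F78545)) (tt N13739 (iv F79327)) (tt N13158 F78307) (tt N13750 D20208) (tt N13157 (iv D19955)) (tt N13726 (iv F79268)) (tt N13746 (iv F79354)))
theorem Q13499 : ∀ i, i < 13499 → P i := stepQ 13498 Q13498 (allL N13498 (tt N13333 F78308) (tt N13218 F78309) (tt N13299 F78310) (tt N13741 (iv F79336)) (tt N13325 F78311) (tt N13342 F78312) (tt N13161 F78313) (tt N13160 (iv D19956)) (tt N13751 D20209))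
theorem Q13500 : ∀ i, i < 13500 → P i := stepQ 13499 Q13499 (allL N13499 (tt N13328 F78314) (tt N13215 F78315) (tt N13297 F78316) (tt N13742 (iv F79341)) (tt N13326 F78317) (tt N13162 F78318) (tt N13751 (iv F79373)) (tt N13351 F78319) (tt N13161 (iv D19957)))
theorem Q13501 : ∀ i, i < 13501 → P i := stepQ 13500 Q13500 (allL N13500 (tt N13232 F78320) (tt N13164 F78321) (tt N13715 (iv F79220)) (tt N13535 (iv F78459)) (tt N13171 F78322) (tt N13352 F78323) (tt N13163 (iv D19958)) (tt N13707 (iv F79185)) (tt N13165 F78324))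
theorem Q13502 : ∀ i, i < 13502 → P i := stepQ 13501 Q13501 (allL N13501 (tt N13168 F78325) (tt N13191 F78326) (tt N13166 (iv D19959)) (tt N13595 (iv F78714)) (tt N13179 F78327) (tt N13752 D20210) (tt N13303 F78328) (tt N13319 (iv F78330)) (tt N13174 F78329))
theorem Q13503 : ∀ i, i < 13503 → P i := stepQ 13502 Q13502 (allL N13502 (tt N13169 F78331) (tt N13254 F78332) (tt N13752 (iv F79377)) (tt N13167 F78333) (tt N13641 (iv F78878)) (tt N13166 (iv D19960)) (tt N13753 D20211) (tt N13754 D20212) (tt N13175 F78334))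
theorem Q13504 : ∀ i, i < 13504 → P i := stepQ 13503 Q13503 (allL N13503 (tt N13170 F78335) (tt N13249 F78336) (tt N13319 F78337) (tt N13606 (iv F78753)) (tt N13180 F78338) (tt N13754 (iv F79389)) (tt N13313 F78339) (tt N13166 (iv D19961)) (tt N13390 F78340))
theorem Q13505 : ∀ i, i < 13505 → P i := stepQ 13504 Q13504 (allL N13504 (tt N13171 F78341) (tt N13590 (iv F78687)) (tt N13707 (iv F79182)) (tt N13753 (iv F79383)) (tt N13232 F78342) (tt N13684 (iv F79070)) (tt N13167 (iv D19962)) (tt N13715 (iv F79223)) (tt N13176 F78343))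
theorem Q13506 : ∀ i, i < 13506 → P i := stepQ 13505 Q13505 (allL N13505 (tt N13752 (iv F79375)) (tt N13184 F78344) (tt N13169 F78345) (tt N13743 (iv F79345)) (tt N13363 F78346) (tt N13168 (iv D19963)) (tt N13755 D20213) (tt N13568 (iv F78604)) (tt N13177 F78347))
theorem Q13507 : ∀ i, i < 13507 → P i := stepQ 13506 Q13506 (allL N13506 (tt N13753 (iv F79381)) (tt N13172 F78348) (tt N13755 (iv F79392)) (tt N13171 F78349) (tt N13642 (iv F78882)) (tt N13324 F78350) (tt N13169 (iv D19964)) (tt N13756 D20214) (tt N13178 F78351))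
theorem Q13508 : ∀ i, i < 13508 → P i := stepQ 13507 Q13507 (allL N13507 (tt N13754 (iv F79386)) (tt N13173 F78352) (tt N13568 (iv F78602)) (tt N13718 (iv F79232)) (tt N13559 (iv F78567)) (tt N13170 F78353) (tt N13756 (iv F79398)) (tt N13169 (iv D19965)) (tt N13393 F78354))
theorem Q13509 : ∀ i, i < 13509 → P i := stepQ 13508 Q13508 (allL N13508 (tt N13253 F78355) (tt N13756 (iv F79396)) (tt N13242 F78356) (tt N13721 (iv F79244)) (tt N13561 (iv F78577)) (tt N13317 F78357) (tt N13173 F78358) (tt N13172 (iv D19966)) (tt N13394 F78359))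
theorem Q13510 : ∀ i, i < 13510 → P i := stepQ 13509 Q13509 (allL N13509 (tt N13177 F78360) (tt N13593 (iv F78705)) (tt N13175 F78361) (tt N13710 (iv F79199)) (tt N13367 F78362) (tt N13174 (iv D19967)) (tt N13757 D20215) (tt N13373 F78363) (tt N13752 (iv F79380)))
theorem Q13511 : ∀ i, i < 13511 → P i := stepQ 13510 Q13510 (allL N13510 (tt N13178 F78364) (tt N13556 (iv F78548)) (tt N13757 (iv F79401)) (tt N13176 F78365) (tt N13639 (iv F78867)) (tt N13530 (iv F78440)) (tt N13175 (iv D19968)) (tt N13395 F78366) (tt N13753 (iv F79385)))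
theorem Q13512 : ∀ i, i < 13512 → P i := stepQ 13511 Q13511 (allL N13511 (tt N13757 (iv F79400)) (tt N13360 F78367) (tt N13178 F78368) (tt N13748 (iv F79362)) (tt N13369 F78369) (tt N13522 (iv F78414)) (tt N13177 (iv D19969)) (tt N13374 F78370) (tt N13755 (iv F79395)))
theorem Q13513 : ∀ i, i < 13513 → P i := stepQ 13512 Q13512 (allL N13512 (tt N13309 F78371) (tt N13238 F78372) (tt N13643 (iv F78886)) (tt N13656 (iv F78935)) (tt N13181 (iv D19970)) (tt N13512 F78373) (tt N13758 D20216) (tt N13727 (iv F79274)) (tt N13516 (iv F78389)))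
theorem Q13514 : ∀ i, i < 13514 → P i := stepQ 13513 Q13513 (allL N13513 (tt N13310 F78374) (tt N13239 F78375) (tt N13644 (iv F78890)) (tt N13182 F78376) (tt N13758 (iv F79406)) (tt N13197 F78377) (tt N13181 (iv D19971)) (tt N13728 (iv F79279)) (tt N13517 (iv F78393)))
theorem Q13515 : ∀ i, i < 13515 → P i := stepQ 13514 Q13514 (allL N13514 (tt N13194 F78378) (tt N13743 (iv F79343)) (tt N13186 F78379) (tt N13184 F78380) (tt N13759 D20217) (tt N13183 (iv D19972)) (tt N13760 D20218) (tt N13710 (iv F79200)) (tt N13359 F78381))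
theorem Q13516 : ∀ i, i < 13516 → P i := stepQ 13515 Q13515 (allL N13515 (tt N13195 F78382) (tt N13755 (iv F79391)) (tt N13185 F78383) (tt N13760 (iv F79414)) (tt N13365 F78384) (tt N13308 F78385) (tt N13184 (iv D19973)) (tt N13569 (iv F78610)) (tt N13360 F78386))
theorem Q13517 : ∀ i, i < 13517 → P i := stepQ 13516 Q13516 (allL N13516 (tt N13196 F78387) (tt N13553 (iv F78532)) (tt N13759 (iv F79408)) (tt N13668 (iv F78975)) (tt N13186 (iv D19974)) (tt N13516 F78388) (tt N13761 D20219) (tt N13711 (iv F79205)) (tt N13512 F78389))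
theorem Q13518 : ∀ i, i < 13518 → P i := stepQ 13517 Q13517 (allL N13517 (tt N13197 F78390) (tt N13554 (iv F78539)) (tt N13760 (iv F79413)) (tt N13187 F78391) (tt N13761 (iv F79418)) (tt N13310 F78392) (tt N13186 (iv D19975)) (tt N13712 (iv F79210)) (tt N13513 F78393))
theorem Q13519 : ∀ i, i < 13519 → P i := stepQ 13518 Q13518 (allL N13518 (tt N13364 F78394) (tt N13696 (iv F79132)) (tt N13329 F78395) (tt N13189 F78396) (tt N13762 D20220) (tt N13188 (iv D19976)) (tt N13763 D20221) (tt N13287 F78397) (tt N13316 F78398))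
theorem Q13520 : ∀ i, i < 13520 → P i := stepQ 13519 Q13519 (allL N13519 (tt N13365 F78399) (tt N13700 (iv F79148)) (tt N13190 F78400) (tt N13763 (iv F79428)) (tt N13195 F78401) (tt N13394 F78402) (tt N13189 (iv D19977)) (tt N13301 F78403) (tt N13317 F78404))
theorem Q13521 : ∀ i, i < 13521 → P i := stepQ 13520 Q13520 (allL N13520 (tt N13193 F78405) (tt N13752 (iv F79376)) (tt N13204 F78406) (tt N13599 (iv F78729)) (tt N13683 (iv F79062)) (tt N13191 (iv D19978)) (tt N13764 D20222) (tt N13321 F78407) (tt N13593 (iv F78707)))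
theorem Q13522 : ∀ i, i < 13522 → P i := stepQ 13521 Q13521 (allL N13521 (tt N13599 (iv F78727)) (tt N13194 F78408) (tt N13468 F78409) (tt N13193 F78410) (tt N13765 D20223) (tt N13192 (iv D19979)) (tt N13766 D20224) (tt N13359 F78411) (tt N13594 (iv F78710)))
theorem Q13523 : ∀ i, i < 13523 → P i := stepQ 13522 Q13522 (allL N13522 (tt N13764 (iv F79432)) (tt N13195 F78412) (tt N13205 F78413) (tt N13766 (iv F79442)) (tt N13700 (iv F79150)) (tt N13511 F78414) (tt N13193 (iv D19980)) (tt N13375 F78415) (tt N13596 (iv F78720)))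
theorem Q13524 : ∀ i, i < 13524 → P i := stepQ 13523 Q13523 (allL N13523 (tt N13759 (iv F79407)) (tt N13765 (iv F79436)) (tt N13196 F78416) (tt N13762 (iv F79422)) (tt N13194 (iv D19981)) (tt N13523 F78417) (tt N13767 D20225) (tt N13747 (iv F79359)) (tt N13597 (iv F78723)))
theorem Q13525 : ∀ i, i < 13525 → P i := stepQ 13524 Q13524 (allL N13524 (tt N13760 (iv F79412)) (tt N13766 (iv F79440)) (tt N13197 F78418) (tt N13195 F78419) (tt N13767 (iv F79446)) (tt N13644 (iv F78892)) (tt N13194 (iv D19982)) (tt N13748 (iv F79363)) (tt N13598 (iv F78726)))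
theorem Q13526 : ∀ i, i < 13526 → P i := stepQ 13525 Q13525 (allL N13525 (tt N13761 (iv F79417)) (tt N13726 (iv F79265)) (tt N13767 (iv F79445)) (tt N13674 (iv F79009)) (tt N13197 F78420) (tt N13768 D20226) (tt N13196 (iv D19983)) (tt N13749 (iv F79366)) (tt N13600 (iv F78732)))
theorem Q13527 : ∀ i, i < 13527 → P i := stepQ 13526 Q13526 (allL N13526 (tt N13201 F78421) (tt N13261 F78422) (tt N13683 (iv F79060)) (tt N13260 F78423) (tt N13204 F78424) (tt N13199 (iv D19984)) (tt N13769 D20227) (tt N13202 F78425) (tt N13611 (iv F78776)))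
theorem Q13528 : ∀ i, i < 13528 → P i := stepQ 13527 Q13527 (allL N13527 (tt N13260 F78426) (tt N13202 F78427) (tt N13666 (iv F78965)) (tt N13201 F78428) (tt N13266 F78429) (tt N13200 (iv D19985)) (tt N13770 D20228) (tt N13261 F78430) (tt N13612 (iv F78781)))
theorem Q13529 : ∀ i, i < 13529 → P i := stepQ 13528 Q13528 (allL N13528 (tt N13769 (iv F79448)) (tt N13203 F78431) (tt N13700 (iv F79149)) (tt N13770 (iv F79455)) (tt N13205 F78432) (tt N13570 (iv F78614)) (tt N13201 (iv D19986)) (tt N13270 F78433) (tt N13613 (iv F78786)))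
theorem Q13530 : ∀ i, i < 13530 → P i := stepQ 13529 Q13529 (allL N13529 (tt N13270 F78434) (tt N13770 (iv F79454)) (tt N13682 (iv F79053)) (tt N13203 F78435) (tt N13473 F78436) (tt N13571 (iv F78619)) (tt N13202 (iv D19987)) (tt N13769 (iv F79452)) (tt N13614 (iv F78790)))
theorem Q13531 : ∀ i, i < 13531 → P i := stepQ 13530 Q13530 (allL N13530 (tt N13205 F78437) (tt N13271 F78438) (tt N13764 (iv F79433)) (tt N13474 F78439) (tt N13769 (iv F79451)) (tt N13510 F78440) (tt N13204 (iv D19988)) (tt N13473 F78441) (tt N13615 (iv F78793)))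
theorem Q13532 : ∀ i, i < 13532 → P i := stepQ 13531 Q13531 (allL N13531 (tt N13238 F78442) (tt N13668 (iv F78973)) (tt N13477 F78443) (tt N13553 (iv F78534)) (tt N13208 (iv D19989)) (tt N13531 F78444) (tt N13771 D20229) (tt N13381 F78445) (tt N13551 (iv F78528)))
theorem Q13533 : ∀ i, i < 13533 → P i := stepQ 13532 Q13532 (allL N13532 (tt N13239 F78446) (tt N13669 (iv F78980)) (tt N13478 F78447) (tt N13209 F78448) (tt N13771 (iv F79461)) (tt N13657 (iv F78942)) (tt N13208 (iv D19990)) (tt N13382 F78449) (tt N13552 (iv F78530)))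
theorem Q13534 : ∀ i, i < 13534 → P i := stepQ 13533 Q13533 (allL N13533 (tt N13343 F78450) (tt N13289 F78451) (tt N13539 (iv F78479)) (tt N13685 (iv F79076)) (tt N13210 (iv D19991)) (tt N13533 F78452) (tt N13772 D20230) (tt N13701 (iv F79158)) (tt N13694 (iv F79125)))
theorem Q13535 : ∀ i, i < 13535 → P i := stepQ 13534 Q13534 (allL N13534 (tt N13344 F78453) (tt N13290 F78454) (tt N13540 (iv F78482)) (tt N13211 F78455) (tt N13772 (iv F79465)) (tt N13231 F78456) (tt N13210 (iv D19992)) (tt N13702 (iv F79163)) (tt N13695 (iv F79130)))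
theorem Q13536 : ∀ i, i < 13536 → P i := stepQ 13535 Q13535 (allL N13535 (tt N13352 F78457) (tt N13353 F78458) (tt N13678 (iv F79028)) (tt N13500 F78459) (tt N13356 F78460) (tt N13232 F78461) (tt N13213 F78462) (tt N13671 (iv F78996)) (tt N13212 (iv D19993)))
theorem Q13537 : ∀ i, i < 13537 → P i := stepQ 13536 Q13536 (allL N13536 (tt N13227 F78463) (tt N13742 (iv F79340)) (tt N13427 F78464) (tt N13215 F78465) (tt N13773 D20231) (tt N13214 (iv D19994)) (tt N13774 D20232) (tt N13775 D20233) (tt N13217 F78466))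
theorem Q13538 : ∀ i, i < 13538 → P i := stepQ 13537 Q13537 (allL N13537 (tt N13228 F78467) (tt N13617 (iv F78798)) (tt N13428 F78468) (tt N13390 F78469) (tt N13537 F78470) (tt N13775 (iv F79479)) (tt N13339 F78471) (tt N13214 (iv D19995)) (tt N13606 (iv F78757)))
theorem Q13539 : ∀ i, i < 13539 → P i := stepQ 13538 Q13538 (allL N13538 (tt N13229 F78472) (tt N13751 (iv F79369)) (tt N13216 F78473) (tt N13774 (iv F79473)) (tt N13443 F78474) (tt N13340 F78475) (tt N13215 (iv D19996)) (tt N13391 F78476) (tt N13218 F78477))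
theorem Q13540 : ∀ i, i < 13540 → P i := stepQ 13539 Q13539 (allL N13539 (tt N13230 F78478) (tt N13740 (iv F79330)) (tt N13533 F78479) (tt N13675 F79015) (tt N13217 (iv D19997)) (tt N13539 F78480) (tt N13776 D20234) (tt N13722 (iv F79253)) (tt N13773 (iv F79470)))
theorem Q13541 : ∀ i, i < 13541 → P i := stepQ 13540 Q13540 (allL N13540 (tt N13231 F78481) (tt N13741 (iv F79335)) (tt N13534 F78482) (tt N13218 F78483) (tt N13776 (iv F79482)) (tt N13344 F78484) (tt N13217 (iv D19998)) (tt N13723 (iv F79259)) (tt N13774 (iv F79475)))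
theorem Q13542 : ∀ i, i < 13542 → P i := stepQ 13541 Q13541 (allL N13541 (tt N13446 F78485) (tt N13475 F78486) (tt N13225 F78487) (tt N13220 F78488) (tt N13777 D20235) (tt N13219 (iv D19999)) (tt N13778 D20236) (tt N13379 F78489) (tt N13418 F78490))
theorem Q13543 : ∀ i, i < 13543 → P i := stepQ 13542 Q13542 (allL N13542 (tt N13447 F78491) (tt N13476 F78492) (tt N13221 F78493) (tt N13778 (iv F79493)) (tt N13421 F78494) (tt N13544 (iv F78507)) (tt N13220 (iv D20000)) (tt N13388 F78495) (tt N13419 F78496))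
theorem Q13544 : ∀ i, i < 13544 → P i := stepQ 13543 Q13543 (allL N13543 (tt N13442 F78497) (tt N13379 F78498) (tt N13418 F78499) (tt N13223 F78500) (tt N13779 D20237) (tt N13222 (iv D20001)) (tt N13780 D20238) (tt N13475 F78501) (tt N13225 F78502))
theorem Q13545 : ∀ i, i < 13545 → P i := stepQ 13544 Q13544 (allL N13544 (tt N13443 F78503) (tt N13380 F78504) (tt N13224 F78505) (tt N13780 (iv F79506)) (tt N13229 F78506) (tt N13542 F78507) (tt N13223 (iv D20002)) (tt N13387 F78508) (tt N13226 F78509))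
theorem Q13546 : ∀ i, i < 13546 → P i := stepQ 13545 Q13545 (allL N13545 (tt N13675 (iv F79011)) (tt N13381 F78510) (tt N13777 (iv F79485)) (tt N13230 F78511) (tt N13225 (iv D20003)) (tt N13545 F78512) (tt N13781 D20239) (tt N13668 (iv F78977)) (tt N13779 (iv F79502)))
theorem Q13547 : ∀ i, i < 13547 → P i := stepQ 13546 Q13546 (allL N13546 (tt N13676 (iv F79016)) (tt N13382 F78513) (tt N13778 (iv F79492)) (tt N13226 F78514) (tt N13781 (iv F79512)) (tt N13688 (iv F79095)) (tt N13225 (iv D20004)) (tt N13669 (iv F78984)) (tt N13780 (iv F79509)))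
theorem Q13548 : ∀ i, i < 13548 → P i := stepQ 13547 Q13547 (allL N13547 (tt N13773 (iv F79466)) (tt N13383 F78515) (tt N13629 (iv F78838)) (tt N13779 (iv F79499)) (tt N13227 (iv D20005)) (tt N13547 F78516) (tt N13782 D20240) (tt N13783 D20241) (tt N13230 F78517))
theorem Q13549 : ∀ i, i < 13549 → P i := stepQ 13548 Q13548 (allL N13548 (tt N13774 (iv F79471)) (tt N13384 F78518) (tt N13630 (iv F78841)) (tt N13229 F78519) (tt N13782 (iv F79514)) (tt N13695 (iv F79129)) (tt N13227 (iv D20006)) (tt N13784 D20242) (tt N13231 F78520))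
theorem Q13550 : ∀ i, i < 13550 → P i := stepQ 13549 Q13549 (allL N13549 (tt N13775 (iv F79476)) (tt N13385 F78521) (tt N13631 (iv F78844)) (tt N13393 F78522) (tt N13783 (iv F79517)) (tt N13228 F78523) (tt N13784 (iv F79521)) (tt N13227 (iv D20007)) (tt N13718 (iv F79234)))
theorem Q13551 : ∀ i, i < 13551 → P i := stepQ 13550 Q13550 (allL N13550 (tt N13776 (iv F79480)) (tt N13386 F78524) (tt N13634 (iv F78850)) (tt N13781 (iv F79511)) (tt N13231 F78525) (tt N13785 D20243) (tt N13230 (iv D20008)) (tt N13724 (iv F79262)) (tt N13782 (iv F79515)))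
theorem Q13552 : ∀ i, i < 13552 → P i := stepQ 13551 Q13551 (allL N13551 (tt N13553 (iv F78531)) (tt N13656 (iv F78933)) (tt N13730 (iv F79286)) (tt N13238 F78526) (tt N13234 (iv D20009)) (tt N13551 F78527) (tt N13786 D20244) (tt N13687 (iv F79091)) (tt N13531 F78528))
theorem Q13553 : ∀ i, i < 13553 → P i := stepQ 13552 Q13552 (allL N13552 (tt N13554 (iv F78538)) (tt N13657 (iv F78939)) (tt N13731 (iv F79290)) (tt N13235 F78529) (tt N13786 (iv F79525)) (tt N13669 (iv F78983)) (tt N13234 (iv D20010)) (tt N13688 (iv F79096)) (tt N13532 F78530))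
theorem Q13554 : ∀ i, i < 13554 → P i := stepQ 13553 Q13553 (allL N13553 (tt N13551 F78531) (tt N13516 F78532) (tt N13492 F78533) (tt N13531 F78534) (tt N13236 (iv D20011)) (tt N13553 F78535) (tt N13787 D20245) (tt N13451 F78536) (tt N13238 F78537))
theorem Q13555 : ∀ i, i < 13555 → P i := stepQ 13554 Q13554 (allL N13554 (tt N13552 F78538) (tt N13517 F78539) (tt N13493 F78540) (tt N13237 F78541) (tt N13787 (iv F79531)) (tt N13403 F78542) (tt N13236 (iv D20012)) (tt N13452 F78543) (tt N13239 F78544))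
theorem Q13556 : ∀ i, i < 13556 → P i := stepQ 13555 Q13555 (allL N13555 (tt N13771 (iv F79459)) (tt N13758 (iv F79405)) (tt N13497 F78545) (tt N13786 (iv F79524)) (tt N13239 F78546) (tt N13788 D20246) (tt N13238 (iv D20013)) (tt N13729 (iv F79284)) (tt N13787 (iv F79533)))
theorem Q13557 : ∀ i, i < 13557 → P i := stepQ 13556 Q13556 (allL N13556 (tt N13241 F78547) (tt N13510 F78548) (tt N13376 F78549) (tt N13426 F78550) (tt N13395 F78551) (tt N13271 F78552) (tt N13240 (iv D20014)) (tt N13639 (iv F78870)) (tt N13567 (iv F78600)))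
theorem Q13558 : ∀ i, i < 13558 → P i := stepQ 13557 Q13557 (allL N13557 (tt N13245 F78553) (tt N13390 F78554) (tt N13263 F78555) (tt N13617 (iv F78799)) (tt N13244 (iv D20015)) (tt N13789 D20247) (tt N13361 F78556) (tt N13354 F78557) (tt N13249 F78558))
theorem Q13559 : ∀ i, i < 13559 → P i := stepQ 13558 Q13558 (allL N13558 (tt N13617 (iv F78797)) (tt N13246 F78559) (tt N13488 F78560) (tt N13245 (iv D20016)) (tt N13558 F78561) (tt N13790 D20248) (tt N13362 F78562) (tt N13327 F78563) (tt N13250 F78564))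
theorem Q13560 : ∀ i, i < 13560 → P i := stepQ 13559 Q13559 (allL N13559 (tt N13789 (iv F79536)) (tt N13247 F78565) (tt N13264 F78566) (tt N13790 (iv F79544)) (tt N13507 F78567) (tt N13245 (iv D20017)) (tt N13791 D20249) (tt N13355 F78568) (tt N13251 F78569))
theorem Q13561 : ∀ i, i < 13561 → P i := stepQ 13560 Q13560 (allL N13560 (tt N13385 F78570) (tt N13790 (iv F79542)) (tt N13287 F78571) (tt N13247 F78572) (tt N13792 D20250) (tt N13246 (iv D20018)) (tt N13793 D20251) (tt N13329 F78573) (tt N13252 F78574))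
theorem Q13562 : ∀ i, i < 13562 → P i := stepQ 13561 Q13561 (allL N13561 (tt N13394 F78575) (tt N13791 (iv F79547)) (tt N13248 F78576) (tt N13793 (iv F79561)) (tt N13508 F78577) (tt N13365 F78578) (tt N13247 (iv D20019)) (tt N13357 F78579) (tt N13253 F78580))
theorem Q13563 : ∀ i, i < 13563 → P i := stepQ 13562 Q13562 (allL N13562 (tt N13251 F78581) (tt N13754 (iv F79387)) (tt N13266 F78582) (tt N13622 (iv F78817)) (tt N13666 (iv F78966)) (tt N13249 (iv D20020)) (tt N13794 D20252) (tt N13254 F78583) (tt N13789 (iv F79541)))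
theorem Q13564 : ∀ i, i < 13564 → P i := stepQ 13563 Q13563 (allL N13563 (tt N13622 (iv F78815)) (tt N13252 F78584) (tt N13487 F78585) (tt N13251 F78586) (tt N13795 D20253) (tt N13250 (iv D20021)) (tt N13796 D20254) (tt N13479 F78587) (tt N13790 (iv F79546)))
theorem Q13565 : ∀ i, i < 13565 → P i := stepQ 13564 Q13564 (allL N13564 (tt N13794 (iv F79565)) (tt N13253 F78588) (tt N13267 F78589) (tt N13796 (iv F79576)) (tt N13667 (iv F78970)) (tt N13369 F78590) (tt N13251 (iv D20022)) (tt N13255 F78591) (tt N13791 (iv F79552)))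
theorem Q13566 : ∀ i, i < 13566 → P i := stepQ 13565 Q13565 (allL N13565 (tt N13720 (iv F79237)) (tt N13795 (iv F79569)) (tt N13289 F78592) (tt N13662 F78955) (tt N13252 (iv D20023)) (tt N13565 F78593) (tt N13797 D20255) (tt N13689 (iv F79100)) (tt N13792 (iv F79558)))
theorem Q13567 : ∀ i, i < 13567 → P i := stepQ 13566 Q13566 (allL N13566 (tt N13721 (iv F79242)) (tt N13796 (iv F79574)) (tt N13290 F78594) (tt N13253 F78595) (tt N13797 (iv F79580)) (tt N13371 F78596) (tt N13252 (iv D20024)) (tt N13690 (iv F79106)) (tt N13793 (iv F79564)))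
theorem Q13568 : ∀ i, i < 13568 → P i := stepQ 13567 Q13567 (allL N13567 (tt N13255 F78597) (tt N13753 (iv F79382)) (tt N13271 F78598) (tt N13590 (iv F78689)) (tt N13665 (iv F78962)) (tt N13376 F78599) (tt N13254 (iv D20025)) (tt N13794 (iv F79568)) (tt N13556 F78600))
theorem Q13569 : ∀ i, i < 13569 → P i := stepQ 13568 Q13568 (allL N13568 (tt N13612 (iv F78777)) (tt N13258 F78601) (tt N13507 F78602) (tt N13611 (iv F78773)) (tt N13264 F78603) (tt N13257 (iv D20026)) (tt N13798 D20256) (tt N13505 F78604) (tt N13260 F78605))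
theorem Q13570 : ∀ i, i < 13570 → P i := stepQ 13569 Q13569 (allL N13569 (tt N13372 F78606) (tt N13798 (iv F79581)) (tt N13259 F78607) (tt N13655 (iv F78928)) (tt N13265 F78608) (tt N13322 F78609) (tt N13258 (iv D20027)) (tt N13515 F78610) (tt N13262 F78611))
theorem Q13571 : ∀ i, i < 13571 → P i := stepQ 13570 Q13570 (allL N13570 (tt N13770 (iv F79453)) (tt N13262 F78612) (tt N13667 (iv F78969)) (tt N13769 (iv F79450)) (tt N13267 F78613) (tt N13528 F78614) (tt N13260 (iv D20028)) (tt N13269 F78615) (tt N13798 (iv F79586)))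
theorem Q13572 : ∀ i, i < 13572 → P i := stepQ 13571 Q13571 (allL N13571 (tt N13269 F78616) (tt N13769 (iv F79449)) (tt N13665 (iv F78960)) (tt N13262 F78617) (tt N13271 F78618) (tt N13529 F78619) (tt N13261 (iv D20029)) (tt N13770 (iv F79458)) (tt N13655 (iv F78931)))
theorem Q13573 : ∀ i, i < 13573 → P i := stepQ 13572 Q13572 (allL N13572 (tt N13264 F78620) (tt N13410 F78621) (tt N13789 (iv F79538)) (tt N13409 F78622) (tt N13612 (iv F78780)) (tt N13263 (iv D20030)) (tt N13799 D20257) (tt N13645 (iv F78895)) (tt N13266 F78623))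
theorem Q13574 : ∀ i, i < 13574 → P i := stepQ 13573 Q13573 (allL N13573 (tt N13799 (iv F79587)) (tt N13265 F78624) (tt N13791 (iv F79548)) (tt N13591 (iv F78695)) (tt N13798 (iv F79583)) (tt N13642 (iv F78883)) (tt N13264 (iv D20031)) (tt N13647 (iv F78903)) (tt N13267 F78625))
theorem Q13575 : ∀ i, i < 13575 → P i := stepQ 13574 Q13574 (allL N13574 (tt N13267 F78626) (tt N13473 F78627) (tt N13794 (iv F79566)) (tt N13472 F78628) (tt N13770 (iv F79456)) (tt N13639 (iv F78868)) (tt N13266 (iv D20032)) (tt N13271 F78629) (tt N13799 (iv F79590)))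
theorem Q13576 : ∀ i, i < 13576 → P i := stepQ 13575 Q13575 (allL N13575 (tt N13336 F78630) (tt N13273 F78631) (tt N13627 (iv F78830)) (tt N13272 (iv D20033)) (tt N13575 F78632) (tt N13800 D20258) (tt N13327 F78633) (tt N13362 F78634) (tt N13276 F78635))
theorem Q13577 : ∀ i, i < 13577 → P i := stepQ 13576 Q13576 (allL N13576 (tt N13337 F78636) (tt N13274 F78637) (tt N13351 F78638) (tt N13800 (iv F79593)) (tt N13348 F78639) (tt N13272 (iv D20034)) (tt N13801 D20259) (tt N13297 F78640) (tt N13277 F78641))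
theorem Q13578 : ∀ i, i < 13578 → P i := stepQ 13577 Q13577 (allL N13577 (tt N13287 F78642) (tt N13800 (iv F79592)) (tt N13385 F78643) (tt N13274 F78644) (tt N13802 D20260) (tt N13273 (iv D20035)) (tt N13803 D20261) (tt N13364 F78645) (tt N13278 F78646))
theorem Q13579 : ∀ i, i < 13579 → P i := stepQ 13578 Q13578 (allL N13578 (tt N13288 F78647) (tt N13801 (iv F79597)) (tt N13275 F78648) (tt N13803 (iv F79610)) (tt N13584 (iv F78673)) (tt N13330 F78649) (tt N13274 (iv D20036)) (tt N13298 F78650) (tt N13279 F78651))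
theorem Q13580 : ∀ i, i < 13580 → P i := stepQ 13579 Q13579 (allL N13579 (tt N13341 F78652) (tt N13278 F78653) (tt N13650 (iv F78912)) (tt N13277 F78654) (tt N13804 D20262) (tt N13276 (iv D20037)) (tt N13805 D20263) (tt N13285 F78655) (tt N13800 (iv F79595)))
theorem Q13581 : ∀ i, i < 13581 → P i := stepQ 13580 Q13580 (allL N13580 (tt N13342 F78656) (tt N13279 F78657) (tt N13349 F78658) (tt N13805 (iv F79621)) (tt N13347 F78659) (tt N13333 F78660) (tt N13277 (iv D20038)) (tt N13280 F78661) (tt N13801 (iv F79602)))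
theorem Q13582 : ∀ i, i < 13582 → P i := stepQ 13581 Q13581 (allL N13581 (tt N13289 F78662) (tt N13804 (iv F79615)) (tt N13720 (iv F79238)) (tt N13735 (iv F79309)) (tt N13278 (iv D20039)) (tt N13581 F78663) (tt N13806 D20264) (tt N13685 (iv F79078)) (tt N13802 (iv F79607)))
theorem Q13583 : ∀ i, i < 13583 → P i := stepQ 13582 Q13582 (allL N13582 (tt N13290 F78664) (tt N13805 (iv F79620)) (tt N13721 (iv F79243)) (tt N13279 F78665) (tt N13806 (iv F79625)) (tt N13335 F78666) (tt N13278 (iv D20040)) (tt N13686 (iv F79085)) (tt N13803 (iv F79613)))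
theorem Q13584 : ∀ i, i < 13584 → P i := stepQ 13583 Q13583 (allL N13583 (tt N13430 F78667) (tt N13637 (iv F78858)) (tt N13285 F78668) (tt N13282 F78669) (tt N13807 D20265) (tt N13281 (iv D20041)) (tt N13808 D20266) (tt N13650 (iv F78914)) (tt N13481 F78670))
theorem Q13585 : ∀ i, i < 13585 → P i := stepQ 13584 Q13584 (allL N13584 (tt N13431 F78671) (tt N13638 (iv F78862)) (tt N13283 F78672) (tt N13808 (iv F79633)) (tt N13578 F78673) (tt N13484 F78674) (tt N13282 (iv D20042)) (tt N13436 F78675) (tt N13482 F78676))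
theorem Q13586 : ∀ i, i < 13586 → P i := stepQ 13585 Q13585 (allL N13585 (tt N13735 (iv F79306)) (tt N13685 (iv F79074)) (tt N13807 (iv F79627)) (tt N13289 F78677) (tt N13285 (iv D20043)) (tt N13585 F78678) (tt N13809 D20267) (tt N13804 (iv F79618)) (tt N13697 (iv F79140)))
theorem Q13587 : ∀ i, i < 13587 → P i := stepQ 13586 Q13586 (allL N13586 (tt N13736 (iv F79312)) (tt N13686 (iv F79081)) (tt N13808 (iv F79632)) (tt N13286 F78679) (tt N13809 (iv F79637)) (tt N13692 (iv F79116)) (tt N13285 (iv D20044)) (tt N13805 (iv F79623)) (tt N13698 (iv F79144)))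
theorem Q13588 : ∀ i, i < 13588 → P i := stepQ 13587 Q13587 (allL N13587 (tt N13802 (iv F79603)) (tt N13694 (iv F79122)) (tt N13792 (iv F79554)) (tt N13697 (iv F79137)) (tt N13287 (iv D20045)) (tt N13587 F78680) (tt N13810 D20268) (tt N13762 (iv F79424)) (tt N13289 F78681))
theorem Q13589 : ∀ i, i < 13589 → P i := stepQ 13588 Q13588 (allL N13588 (tt N13803 (iv F79608)) (tt N13695 (iv F79127)) (tt N13793 (iv F79560)) (tt N13288 F78682) (tt N13810 (iv F79638)) (tt N13384 F78683) (tt N13287 (iv D20046)) (tt N13763 (iv F79430)) (tt N13290 F78684))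
theorem Q13590 : ∀ i, i < 13590 → P i := stepQ 13589 Q13589 (allL N13589 (tt N13806 (iv F79624)) (tt N13772 (iv F79464)) (tt N13797 (iv F79579)) (tt N13809 (iv F79636)) (tt N13290 F78685) (tt N13811 D20269) (tt N13289 (iv D20047)) (tt N13703 (iv F79166)) (tt N13810 (iv F79639)))
theorem Q13591 : ∀ i, i < 13591 → P i := stepQ 13590 Q13590 (allL N13590 (tt N13300 F78686) (tt N13504 F78687) (tt N13294 F78688) (tt N13567 F78689) (tt N13441 F78690) (tt N13436 F78691) (tt N13293 (iv D20048)) (tt N13484 F78692) (tt N13426 F78693))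
theorem Q13592 : ∀ i, i < 13592 → P i := stepQ 13591 Q13591 (allL N13591 (tt N13681 (iv F79045)) (tt N13298 F78694) (tt N13751 (iv F79370)) (tt N13573 F78695) (tt N13684 (iv F79069)) (tt N13356 F78696) (tt N13297 (iv D20049)) (tt N13801 (iv F79601)) (tt N13299 F78697))
theorem Q13593 : ∀ i, i < 13593 → P i := stepQ 13592 Q13592 (allL N13592 (tt N13304 F78698) (tt N13448 F78699) (tt N13312 F78700) (tt N13303 (iv D20050)) (tt N13592 F78701) (tt N13812 D20270) (tt N13595 (iv F78716)) (tt N13489 F78702) (tt N13307 F78703))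
theorem Q13594 : ∀ i, i < 13594 → P i := stepQ 13593 Q13593 (allL N13593 (tt N13305 F78704) (tt N13509 F78705) (tt N13323 F78706) (tt N13812 (iv F79645)) (tt N13605 (iv F78749)) (tt N13303 (iv D20051)) (tt N13813 D20271) (tt N13611 (iv F78775)) (tt N13520 F78707))
theorem Q13595 : ∀ i, i < 13595 → P i := stepQ 13594 Q13594 (allL N13594 (tt N13812 (iv F79642)) (tt N13306 F78708) (tt N13670 (iv F78988)) (tt N13305 F78709) (tt N13814 D20272) (tt N13304 (iv D20052)) (tt N13815 D20273) (tt N13816 D20274) (tt N13521 F78710))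
theorem Q13596 : ∀ i, i < 13596 → P i := stepQ 13595 Q13595 (allL N13595 (tt N13489 F78711) (tt N13307 F78712) (tt N13444 F78713) (tt N13501 F78714) (tt N13595 F78715) (tt N13816 (iv F79662)) (tt N13592 F78716) (tt N13304 (iv D20053)) (tt N13448 F78717))
theorem Q13597 : ∀ i, i < 13597 → P i := stepQ 13596 Q13596 (allL N13596 (tt N13813 (iv F79648)) (tt N13308 F78718) (tt N13324 F78719) (tt N13815 (iv F79656)) (tt N13608 (iv F78761)) (tt N13755 (iv F79394)) (tt N13305 (iv D20054)) (tt N13613 (iv F78785)) (tt N13522 F78720))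
theorem Q13598 : ∀ i, i < 13598 → P i := stepQ 13597 Q13597 (allL N13597 (tt N13643 (iv F78885)) (tt N13814 (iv F79652)) (tt N13309 F78721) (tt N13609 (iv F78765)) (tt N13306 (iv D20055)) (tt N13597 F78722) (tt N13817 D20275) (tt N13818 D20276) (tt N13523 F78723))
theorem Q13599 : ∀ i, i < 13599 → P i := stepQ 13598 Q13598 (allL N13598 (tt N13644 (iv F78889)) (tt N13815 (iv F79655)) (tt N13310 F78724) (tt N13308 F78725) (tt N13817 (iv F79665)) (tt N13760 (iv F79415)) (tt N13306 (iv D20056)) (tt N13819 D20277) (tt N13524 F78726))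
theorem Q13600 : ∀ i, i < 13600 → P i := stepQ 13599 Q13599 (allL N13599 (tt N13521 F78727) (tt N13816 (iv F79659)) (tt N13311 F78728) (tt N13520 F78729) (tt N13818 (iv F79669)) (tt N13307 F78730) (tt N13819 (iv F79674)) (tt N13306 (iv D20057)) (tt N13812 (iv F79647)))
theorem Q13601 : ∀ i, i < 13601 → P i := stepQ 13600 Q13600 (allL N13600 (tt N13758 (iv F79404)) (tt N13674 (iv F79008)) (tt N13817 (iv F79664)) (tt N13726 (iv F79266)) (tt N13310 F78731) (tt N13820 D20278) (tt N13309 (iv D20058)) (tt N13821 D20279) (tt N13525 F78732))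
theorem Q13602 : ∀ i, i < 13602 → P i := stepQ 13601 Q13601 (allL N13601 (tt N13727 (iv F79270)) (tt N13675 (iv F79012)) (tt N13818 (iv F79668)) (tt N13740 (iv F79331)) (tt N13311 F78733) (tt N13601 F78734) (tt N13821 (iv F79678)) (tt N13309 (iv D20059)) (tt N13822 D20280))
theorem Q13603 : ∀ i, i < 13603 → P i := stepQ 13602 Q13602 (allL N13602 (tt N13728 (iv F79275)) (tt N13676 (iv F79017)) (tt N13819 (iv F79672)) (tt N13325 F78735) (tt N13821 (iv F79677)) (tt N13712 (iv F79209)) (tt N13311 F78736) (tt N13310 (iv D20060)) (tt N13823 D20281))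
theorem Q13604 : ∀ i, i < 13604 → P i := stepQ 13603 Q13603 (allL N13603 (tt N13670 (iv F78986)) (tt N13442 F78737) (tt N13812 (iv F79644)) (tt N13326 F78738) (tt N13822 (iv F79680)) (tt N13312 F78739) (tt N13823 (iv F79685)) (tt N13490 F78740) (tt N13311 (iv D20061)))
theorem Q13605 : ∀ i, i < 13605 → P i := stepQ 13604 Q13604 (allL N13604 (tt N13314 F78741) (tt N13366 F78742) (tt N13456 F78743) (tt N13313 (iv D20062)) (tt N13604 F78744) (tt N13824 D20282) (tt N13606 (iv F78755)) (tt N13346 F78745) (tt N13339 F78746))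
theorem Q13606 : ∀ i, i < 13606 → P i := stepQ 13605 Q13605 (allL N13605 (tt N13315 F78747) (tt N13367 F78748) (tt N13611 (iv F78772)) (tt N13824 (iv F79690)) (tt N13593 F78749) (tt N13313 (iv D20063)) (tt N13825 D20283) (tt N13323 F78750) (tt N13683 (iv F79064)))
theorem Q13607 : ∀ i, i < 13607 → P i := stepQ 13606 Q13606 (allL N13606 (tt N13456 F78751) (tt N13331 F78752) (tt N13314 (iv D20064)) (tt N13503 F78753) (tt N13606 F78754) (tt N13826 D20284) (tt N13604 F78755) (tt N13453 F78756) (tt N13537 F78757))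
theorem Q13608 : ∀ i, i < 13608 → P i := stepQ 13607 Q13607 (allL N13607 (tt N13824 (iv F79687)) (tt N13316 F78758) (tt N13826 (iv F79699)) (tt N13315 F78759) (tt N13827 D20285) (tt N13314 (iv D20065)) (tt N13828 D20286) (tt N13677 (iv F79024)) (tt N13696 (iv F79135)))
theorem Q13609 : ∀ i, i < 13609 → P i := stepQ 13608 Q13608 (allL N13608 (tt N13825 (iv F79693)) (tt N13317 F78760) (tt N13613 (iv F78783)) (tt N13828 (iv F79707)) (tt N13596 F78761) (tt N13756 (iv F79397)) (tt N13315 (iv D20066)) (tt N13324 F78762) (tt N13700 (iv F79153)))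
theorem Q13610 : ∀ i, i < 13610 → P i := stepQ 13609 Q13609 (allL N13609 (tt N13370 F78763) (tt N13827 (iv F79703)) (tt N13334 F78764) (tt N13597 F78765) (tt N13316 (iv D20067)) (tt N13609 F78766) (tt N13829 D20287) (tt N13679 (iv F79037)) (tt N13762 (iv F79425)))
theorem Q13611 : ∀ i, i < 13611 → P i := stepQ 13610 Q13610 (allL N13610 (tt N13371 F78767) (tt N13828 (iv F79706)) (tt N13335 F78768) (tt N13317 F78769) (tt N13829 (iv F79711)) (tt N13721 (iv F79245)) (tt N13316 (iv D20068)) (tt N13680 (iv F79043)) (tt N13763 (iv F79431)))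
theorem Q13612 : ∀ i, i < 13612 → P i := stepQ 13611 Q13611 (allL N13611 (tt N13320 F78770) (tt N13373 F78771) (tt N13605 F78772) (tt N13568 F78773) (tt N13323 F78774) (tt N13318 (iv D20069)) (tt N13830 D20288) (tt N13593 F78775) (tt N13526 F78776))
theorem Q13613 : ∀ i, i < 13613 → P i := stepQ 13612 Q13612 (allL N13612 (tt N13568 F78777) (tt N13321 F78778) (tt N13754 (iv F79388)) (tt N13320 F78779) (tt N13572 F78780) (tt N13319 (iv D20070)) (tt N13831 D20289) (tt N13752 (iv F79379)) (tt N13527 F78781))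
theorem Q13614 : ∀ i, i < 13614 → P i := stepQ 13613 Q13613 (allL N13613 (tt N13830 (iv F79712)) (tt N13322 F78782) (tt N13608 F78783) (tt N13831 (iv F79721)) (tt N13324 F78784) (tt N13798 (iv F79584)) (tt N13320 (iv D20071)) (tt N13596 F78785) (tt N13528 F78786))
theorem Q13615 : ∀ i, i < 13615 → P i := stepQ 13614 Q13614 (allL N13614 (tt N13375 F78787) (tt N13831 (iv F79720)) (tt N13473 F78788) (tt N13322 F78789) (tt N13682 (iv F79055)) (tt N13655 (iv F78930)) (tt N13321 (iv D20072)) (tt N13764 (iv F79435)) (tt N13529 F78790))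
theorem Q13616 : ∀ i, i < 13616 → P i := stepQ 13615 Q13615 (allL N13615 (tt N13324 F78791) (tt N13376 F78792) (tt N13813 (iv F79650)) (tt N13684 (iv F79068)) (tt N13830 (iv F79716)) (tt N13753 (iv F79384)) (tt N13323 (iv D20073)) (tt N13825 (iv F79696)) (tt N13530 F78793))
theorem Q13617 : ∀ i, i < 13617 → P i := stepQ 13616 Q13616 (allL N13616 (tt N13671 (iv F78991)) (tt N13443 F78794) (tt N13684 (iv F79067)) (tt N13823 (iv F79684)) (tt N13751 (iv F79371)) (tt N13707 (iv F79184)) (tt N13326 F78795) (tt N13352 F78796) (tt N13325 (iv D20074)))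
theorem Q13618 : ∀ i, i < 13618 → P i := stepQ 13617 Q13617 (allL N13617 (tt N13558 F78797) (tt N13537 F78798) (tt N13327 (iv D20075)) (tt N13557 F78799) (tt N13617 F78800) (tt N13832 D20290) (tt N13627 (iv F78833)) (tt N13488 F78801) (tt N13331 F78802))
theorem Q13619 : ∀ i, i < 13619 → P i := stepQ 13618 Q13618 (allL N13618 (tt N13742 (iv F79339)) (tt N13329 F78803) (tt N13832 (iv F79727)) (tt N13328 F78804) (tt N13833 D20291) (tt N13327 (iv D20076)) (tt N13834 D20292) (tt N13790 (iv F79545)) (tt N13332 F78805))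
theorem Q13620 : ∀ i, i < 13620 → P i := stepQ 13619 Q13619 (allL N13619 (tt N13751 (iv F79368)) (tt N13330 F78806) (tt N13681 (iv F79047)) (tt N13834 (iv F79735)) (tt N13671 (iv F78994)) (tt N13801 (iv F79600)) (tt N13328 (iv D20077)) (tt N13356 F78807) (tt N13333 F78808))
theorem Q13621 : ∀ i, i < 13621 → P i := stepQ 13620 Q13620 (allL N13620 (tt N13383 F78809) (tt N13833 (iv F79731)) (tt N13762 (iv F79421)) (tt N13672 (iv F79000)) (tt N13329 (iv D20078)) (tt N13620 F78810) (tt N13835 D20293) (tt N13792 (iv F79557)) (tt N13334 F78811))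
theorem Q13622 : ∀ i, i < 13622 → P i := stepQ 13621 Q13621 (allL N13621 (tt N13384 F78812) (tt N13834 (iv F79734)) (tt N13763 (iv F79427)) (tt N13330 F78813) (tt N13835 (iv F79738)) (tt N13803 (iv F79611)) (tt N13329 (iv D20079)) (tt N13793 (iv F79563)) (tt N13335 F78814))
theorem Q13623 : ∀ i, i < 13623 → P i := stepQ 13622 Q13622 (allL N13622 (tt N13563 F78815) (tt N13826 (iv F79698)) (tt N13332 F78816) (tt N13562 F78817) (tt N13836 D20294) (tt N13331 (iv D20080)) (tt N13837 D20295) (tt N13483 F78818) (tt N13832 (iv F79730)))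
theorem Q13624 : ∀ i, i < 13624 → P i := stepQ 13623 Q13623 (allL N13623 (tt N13740 (iv F79329)) (tt N13334 F78819) (tt N13836 (iv F79741)) (tt N13727 (iv F79272)) (tt N13332 (iv D20081)) (tt N13623 F78820) (tt N13838 D20296) (tt N13691 (iv F79112)) (tt N13833 (iv F79733)))
theorem Q13625 : ∀ i, i < 13625 → P i := stepQ 13624 Q13624 (allL N13624 (tt N13741 (iv F79334)) (tt N13335 F78821) (tt N13837 (iv F79745)) (tt N13333 F78822) (tt N13838 (iv F79749)) (tt N13805 (iv F79622)) (tt N13332 (iv D20082)) (tt N13692 (iv F79117)) (tt N13834 (iv F79736)))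
theorem Q13626 : ∀ i, i < 13626 → P i := stepQ 13625 Q13625 (allL N13625 (tt N13386 F78823) (tt N13838 (iv F79748)) (tt N13829 (iv F79709)) (tt N13729 (iv F79282)) (tt N13335 F78824) (tt N13839 D20297) (tt N13334 (iv D20083)) (tt N13693 (iv F79120)) (tt N13835 (iv F79739)))
theorem Q13627 : ∀ i, i < 13627 → P i := stepQ 13626 Q13626 (allL N13626 (tt N13800 (iv F79591)) (tt N13338 F78825) (tt N13646 (iv F78898)) (tt N13337 F78826) (tt N13840 D20298) (tt N13336 (iv D20084)) (tt N13841 D20299) (tt N13842 D20300) (tt N13341 F78827))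
theorem Q13628 : ∀ i, i < 13628 → P i := stepQ 13627 Q13627 (allL N13627 (tt N13362 F78828) (tt N13339 F78829) (tt N13575 F78830) (tt N13361 F78831) (tt N13627 F78832) (tt N13842 (iv F79762)) (tt N13617 F78833) (tt N13336 (iv D20085)) (tt N13366 F78834))
theorem Q13629 : ∀ i, i < 13629 → P i := stepQ 13628 Q13628 (allL N13628 (tt N13801 (iv F79596)) (tt N13340 F78835) (tt N13356 F78836) (tt N13841 (iv F79756)) (tt N13678 (iv F79029)) (tt N13751 (iv F79372)) (tt N13337 (iv D20086)) (tt N13681 (iv F79050)) (tt N13342 F78837))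
theorem Q13630 : ∀ i, i < 13630 → P i := stepQ 13629 Q13629 (allL N13629 (tt N13694 (iv F79121)) (tt N13840 (iv F79752)) (tt N13547 F78838) (tt N13679 (iv F79035)) (tt N13338 (iv D20087)) (tt N13629 F78839) (tt N13843 D20301) (tt N13844 D20302) (tt N13343 F78840))
theorem Q13631 : ∀ i, i < 13631 → P i := stepQ 13630 Q13630 (allL N13630 (tt N13695 (iv F79126)) (tt N13841 (iv F79755)) (tt N13548 F78841) (tt N13340 F78842) (tt N13843 (iv F79765)) (tt N13774 (iv F79474)) (tt N13338 (iv D20088)) (tt N13845 D20303) (tt N13344 F78843))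
theorem Q13632 : ∀ i, i < 13632 → P i := stepQ 13631 Q13631 (allL N13631 (tt N13696 (iv F79131)) (tt N13842 (iv F79759)) (tt N13549 F78844) (tt N13683 (iv F79061)) (tt N13844 (iv F79769)) (tt N13339 F78845) (tt N13845 (iv F79772)) (tt N13338 (iv D20089)) (tt N13824 (iv F79692)))
theorem Q13633 : ∀ i, i < 13633 → P i := stepQ 13632 Q13632 (allL N13632 (tt N13804 (iv F79614)) (tt N13343 F78846) (tt N13652 (iv F78919)) (tt N13701 (iv F79156)) (tt N13341 (iv D20090)) (tt N13632 F78847) (tt N13846 D20304) (tt N13735 (iv F79311)) (tt N13840 (iv F79754)))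
theorem Q13634 : ∀ i, i < 13634 → P i := stepQ 13633 Q13633 (allL N13633 (tt N13805 (iv F79619)) (tt N13344 F78848) (tt N13653 (iv F78922)) (tt N13342 F78849) (tt N13846 (iv F79774)) (tt N13741 (iv F79337)) (tt N13341 (iv D20091)) (tt N13736 (iv F79317)) (tt N13841 (iv F79757)))
theorem Q13635 : ∀ i, i < 13635 → P i := stepQ 13634 Q13634 (allL N13634 (tt N13772 (iv F79463)) (tt N13846 (iv F79773)) (tt N13550 F78850) (tt N13703 (iv F79164)) (tt N13344 F78851) (tt N13847 D20305) (tt N13343 (iv D20092)) (tt N13848 D20306) (tt N13843 (iv F79766)))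
theorem Q13636 : ∀ i, i < 13636 → P i := stepQ 13635 Q13635 (allL N13635 (tt N13701 (iv F79154)) (tt N13735 (iv F79307)) (tt N13463 F78852) (tt N13804 (iv F79616)) (tt N13345 F78853) (tt N13635 F78854) (tt N13848 (iv F79779)) (tt N13343 (iv D20093)) (tt N13849 D20307))
theorem Q13637 : ∀ i, i < 13637 → P i := stepQ 13636 Q13636 (allL N13636 (tt N13702 (iv F79159)) (tt N13736 (iv F79313)) (tt N13464 F78855) (tt N13347 F78856) (tt N13848 (iv F79778)) (tt N13723 (iv F79258)) (tt N13345 F78857) (tt N13344 (iv D20094)) (tt N13850 D20308))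
theorem Q13638 : ∀ i, i < 13638 → P i := stepQ 13637 Q13637 (allL N13637 (tt N13677 (iv F79021)) (tt N13583 F78858) (tt N13455 F78859) (tt N13348 F78860) (tt N13849 (iv F79782)) (tt N13346 F78861) (tt N13850 (iv F79787)) (tt N13824 (iv F79691)) (tt N13345 (iv D20095)))
theorem Q13639 : ∀ i, i < 13639 → P i := stepQ 13638 Q13638 (allL N13638 (tt N13678 (iv F79026)) (tt N13584 F78862) (tt N13352 F78863) (tt N13850 (iv F79786)) (tt N13801 (iv F79599)) (tt N13715 (iv F79222)) (tt N13348 F78864) (tt N13684 (iv F79071)) (tt N13347 (iv D20096)))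
theorem Q13640 : ∀ i, i < 13640 → P i := stepQ 13639 Q13639 (allL N13639 (tt N13358 F78865) (tt N13395 F78866) (tt N13651 (iv F78916)) (tt N13349 (iv D20097)) (tt N13510 F78867) (tt N13574 F78868) (tt N13350 F78869) (tt N13556 F78870) (tt N13851 D20309))
theorem Q13641 : ∀ i, i < 13641 → P i := stepQ 13640 Q13640 (allL N13640 (tt N13356 F78871) (tt N13391 F78872) (tt N13801 (iv F79598)) (tt N13851 (iv F79790)) (tt N13352 F78873) (tt N13681 (iv F79049)) (tt N13351 F78874) (tt N13751 (iv F79374)) (tt N13349 (iv D20098)))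
theorem Q13642 : ∀ i, i < 13642 → P i := stepQ 13641 Q13641 (allL N13641 (tt N13355 F78875) (tt N13389 F78876) (tt N13645 (iv F78894)) (tt N13351 F78877) (tt N13502 F78878) (tt N13354 F78879) (tt N13851 (iv F79793)) (tt N13789 (iv F79540)) (tt N13350 (iv D20099)))
theorem Q13643 : ∀ i, i < 13643 → P i := stepQ 13642 Q13642 (allL N13642 (tt N13851 (iv F79788)) (tt N13357 F78880) (tt N13647 (iv F78902)) (tt N13356 F78881) (tt N13506 F78882) (tt N13573 F78883) (tt N13355 (iv D20100)) (tt N13791 (iv F79551)) (tt N13358 F78884))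
theorem Q13644 : ∀ i, i < 13644 → P i := stepQ 13643 Q13643 (allL N13643 (tt N13597 F78885) (tt N13747 (iv F79355)) (tt N13512 F78886) (tt N13370 F78887) (tt N13359 (iv D20101)) (tt N13643 F78888) (tt N13852 D20310) (tt N13765 (iv F79439)) (tt N13759 (iv F79411)))
theorem Q13645 : ∀ i, i < 13645 → P i := stepQ 13644 Q13644 (allL N13644 (tt N13598 F78889) (tt N13748 (iv F79360)) (tt N13513 F78890) (tt N13360 F78891) (tt N13852 (iv F79797)) (tt N13524 F78892) (tt N13359 (iv D20102)) (tt N13766 (iv F79444)) (tt N13760 (iv F79416)))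
theorem Q13646 : ∀ i, i < 13646 → P i := stepQ 13645 Q13645 (allL N13645 (tt N13363 F78893) (tt N13683 (iv F79059)) (tt N13641 F78894) (tt N13842 (iv F79761)) (tt N13752 (iv F79378)) (tt N13361 (iv D20103)) (tt N13853 D20311) (tt N13572 F78895) (tt N13367 F78896))
theorem Q13647 : ∀ i, i < 13647 → P i := stepQ 13646 Q13646 (allL N13646 (tt N13842 (iv F79758)) (tt N13364 F78897) (tt N13626 F78898) (tt N13363 F78899) (tt N13854 D20312) (tt N13362 (iv D20104)) (tt N13855 D20313) (tt N13800 (iv F79594)) (tt N13368 F78900))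
theorem Q13648 : ∀ i, i < 13648 → P i := stepQ 13647 Q13647 (allL N13647 (tt N13853 (iv F79798)) (tt N13365 F78901) (tt N13642 F78902) (tt N13855 (iv F79808)) (tt N13755 (iv F79393)) (tt N13791 (iv F79550)) (tt N13363 (iv D20105)) (tt N13573 F78903) (tt N13369 F78904))
theorem Q13649 : ∀ i, i < 13649 → P i := stepQ 13648 Q13648 (allL N13648 (tt N13762 (iv F79420)) (tt N13854 (iv F79802)) (tt N13383 F78905) (tt N13759 (iv F79409)) (tt N13364 (iv D20106)) (tt N13648 F78906) (tt N13856 D20314) (tt N13802 (iv F79606)) (tt N13370 F78907))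
theorem Q13650 : ∀ i, i < 13650 → P i := stepQ 13649 Q13649 (allL N13649 (tt N13763 (iv F79426)) (tt N13855 (iv F79806)) (tt N13384 F78908) (tt N13365 F78909) (tt N13856 (iv F79811)) (tt N13793 (iv F79562)) (tt N13364 (iv D20107)) (tt N13803 (iv F79612)) (tt N13371 F78910))
theorem Q13651 : ∀ i, i < 13651 → P i := stepQ 13650 Q13650 (allL N13650 (tt N13368 F78911) (tt N13824 (iv F79688)) (tt N13579 F78912) (tt N13367 F78913) (tt N13857 D20315) (tt N13366 (iv D20108)) (tt N13858 D20316) (tt N13583 F78914) (tt N13842 (iv F79763)))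
theorem Q13652 : ∀ i, i < 13652 → P i := stepQ 13651 Q13651 (allL N13651 (tt N13369 F78915) (tt N13825 (iv F79694)) (tt N13639 F78916) (tt N13858 (iv F79819)) (tt N13757 (iv F79402)) (tt N13794 (iv F79567)) (tt N13367 (iv D20109)) (tt N13376 F78917) (tt N13853 (iv F79801)))
theorem Q13653 : ∀ i, i < 13653 → P i := stepQ 13652 Q13652 (allL N13652 (tt N13857 (iv F79813)) (tt N13370 F78918) (tt N13632 F78919) (tt N13747 (iv F79357)) (tt N13368 (iv D20110)) (tt N13652 F78920) (tt N13859 D20317) (tt N13697 (iv F79139)) (tt N13854 (iv F79805)))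
theorem Q13654 : ∀ i, i < 13654 → P i := stepQ 13653 Q13653 (allL N13653 (tt N13858 (iv F79817)) (tt N13371 F78921) (tt N13633 F78922) (tt N13369 F78923) (tt N13859 (iv F79824)) (tt N13796 (iv F79577)) (tt N13368 (iv D20111)) (tt N13698 (iv F79143)) (tt N13855 (iv F79809)))
theorem Q13655 : ∀ i, i < 13655 → P i := stepQ 13654 Q13654 (allL N13654 (tt N13829 (iv F79708)) (tt N13859 (iv F79822)) (tt N13386 F78924) (tt N13852 (iv F79796)) (tt N13371 F78925) (tt N13860 D20318) (tt N13370 (iv D20112)) (tt N13699 (iv F79147)) (tt N13856 (iv F79812)))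
theorem Q13656 : ∀ i, i < 13656 → P i := stepQ 13655 Q13655 (allL N13655 (tt N13374 F78926) (tt N13830 (iv F79713)) (tt N13395 F78927) (tt N13569 F78928) (tt N13376 F78929) (tt N13614 F78930) (tt N13373 (iv D20113)) (tt N13757 (iv F79403)) (tt N13571 F78931))
theorem Q13657 : ∀ i, i < 13657 → P i := stepQ 13656 Q13656 (allL N13656 (tt N13466 F78932) (tt N13551 F78933) (tt N13381 F78934) (tt N13512 F78935) (tt N13377 (iv D20114)) (tt N13656 F78936) (tt N13861 D20319) (tt N13477 F78937) (tt N13668 (iv F78978)))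
theorem Q13658 : ∀ i, i < 13658 → P i := stepQ 13657 Q13657 (allL N13657 (tt N13467 F78938) (tt N13552 F78939) (tt N13382 F78940) (tt N13378 F78941) (tt N13861 (iv F79831)) (tt N13532 F78942) (tt N13377 (iv D20115)) (tt N13478 F78943) (tt N13669 (iv F78985)))
theorem Q13659 : ∀ i, i < 13659 → P i := stepQ 13658 Q13658 (allL N13658 (tt N13672 (iv F78998)) (tt N13779 (iv F79497)) (tt N13668 (iv F78974)) (tt N13383 F78944) (tt N13379 (iv D20116)) (tt N13658 F78945) (tt N13862 D20320) (tt N13777 (iv F79488)) (tt N13381 F78946))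
theorem Q13660 : ∀ i, i < 13660 → P i := stepQ 13659 Q13659 (allL N13659 (tt N13673 (iv F79003)) (tt N13780 (iv F79504)) (tt N13669 (iv F78981)) (tt N13380 F78947) (tt N13862 (iv F79834)) (tt N13731 (iv F79292)) (tt N13379 (iv D20117)) (tt N13778 (iv F79494)) (tt N13382 F78948))
theorem Q13661 : ∀ i, i < 13661 → P i := stepQ 13660 Q13660 (allL N13660 (tt N13729 (iv F79280)) (tt N13781 (iv F79510)) (tt N13861 (iv F79829)) (tt N13386 F78949) (tt N13382 F78950) (tt N13863 D20321) (tt N13381 (iv D20118)) (tt N13771 (iv F79462)) (tt N13862 (iv F79835)))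
theorem Q13662 : ∀ i, i < 13662 → P i := stepQ 13661 Q13661 (allL N13661 (tt N13835 (iv F79737)) (tt N13782 (iv F79513)) (tt N13856 (iv F79810)) (tt N13862 (iv F79833)) (tt N13384 F78951) (tt N13864 D20322) (tt N13383 (iv D20119)) (tt N13865 D20323) (tt N13386 F78952))
theorem Q13663 : ∀ i, i < 13663 → P i := stepQ 13662 Q13662 (allL N13662 (tt N13792 (iv F79553)) (tt N13783 (iv F79516)) (tt N13802 (iv F79604)) (tt N13565 (iv F78955)) (tt N13385 F78953) (tt N13662 F78954) (tt N13865 (iv F79841)) (tt N13383 (iv D20120)) (tt N13720 (iv F79241)))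
theorem Q13664 : ∀ i, i < 13664 → P i := stepQ 13663 Q13663 (allL N13663 (tt N13793 (iv F79559)) (tt N13784 (iv F79519)) (tt N13803 (iv F79609)) (tt N13394 F78956) (tt N13865 (iv F79840)) (tt N13763 (iv F79429)) (tt N13385 F78957) (tt N13384 (iv D20121)) (tt N13721 (iv F79247)))
theorem Q13665 : ∀ i, i < 13665 → P i := stepQ 13664 Q13664 (allL N13664 (tt N13839 (iv F79750)) (tt N13785 (iv F79522)) (tt N13860 (iv F79825)) (tt N13863 (iv F79836)) (tt N13811 (iv F79640)) (tt N13386 (iv D20122)) (tt N13664 F78958) (tt N13725 (iv F79264)) (tt N13864 (iv F79839)))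
theorem Q13666 : ∀ i, i < 13666 → P i := stepQ 13665 Q13665 (allL N13665 (tt N13392 F78959) (tt N13851 (iv F79789)) (tt N13571 F78960) (tt N13391 F78961) (tt N13567 F78962) (tt N13682 (iv F79056)) (tt N13389 (iv D20123)) (tt N13866 D20324) (tt N13395 F78963))
theorem Q13667 : ∀ i, i < 13667 → P i := stepQ 13666 Q13666 (allL N13666 (tt N13393 F78964) (tt N13789 (iv F79537)) (tt N13527 F78965) (tt N13775 (iv F79478)) (tt N13562 F78966) (tt N13390 F78967) (tt N13866 (iv F79846)) (tt N13389 (iv D20124)) (tt N13754 (iv F79390)))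
theorem Q13668 : ∀ i, i < 13668 → P i := stepQ 13667 Q13667 (allL N13667 (tt N13866 (iv F79843)) (tt N13394 F78968) (tt N13570 F78969) (tt N13784 (iv F79520)) (tt N13564 F78970) (tt N13700 (iv F79151)) (tt N13393 F78971) (tt N13392 (iv D20125)) (tt N13756 (iv F79399)))
theorem Q13669 : ∀ i, i < 13669 → P i := stepQ 13668 Q13668 (allL N13668 (tt N13402 F78972) (tt N13531 F78973) (tt N13658 F78974) (tt N13516 F78975) (tt N13396 (iv D20126)) (tt N13668 F78976) (tt N13867 D20325) (tt N13545 F78977) (tt N13656 F78978))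
theorem Q13670 : ∀ i, i < 13670 → P i := stepQ 13669 Q13669 (allL N13669 (tt N13403 F78979) (tt N13532 F78980) (tt N13659 F78981) (tt N13397 F78982) (tt N13867 (iv F79851)) (tt N13552 F78983) (tt N13396 (iv D20127)) (tt N13546 F78984) (tt N13657 F78985))
theorem Q13671 : ∀ i, i < 13671 → P i := stepQ 13670 Q13670 (allL N13670 (tt N13603 F78986) (tt N13400 F78987) (tt N13594 F78988) (tt N13399 F78989) (tt N13868 D20326) (tt N13398 (iv D20128)) (tt N13869 D20327) (tt N13706 (iv F79178)) (tt N13468 F78990))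
theorem Q13672 : ∀ i, i < 13672 → P i := stepQ 13671 Q13671 (allL N13671 (tt N13616 F78991) (tt N13401 F78992) (tt N13414 F78993) (tt N13869 (iv F79863)) (tt N13619 F78994) (tt N13491 F78995) (tt N13399 (iv D20129)) (tt N13535 F78996) (tt N13469 F78997))
theorem Q13673 : ∀ i, i < 13673 → P i := stepQ 13672 Q13672 (allL N13672 (tt N13658 F78998) (tt N13868 (iv F79855)) (tt N13402 F78999) (tt N13620 F79000) (tt N13400 (iv D20130)) (tt N13672 F79001) (tt N13870 D20328) (tt N13708 (iv F79190)) (tt N13470 F79002))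
theorem Q13674 : ∀ i, i < 13674 → P i := stepQ 13673 Q13673 (allL N13673 (tt N13659 F79003) (tt N13869 (iv F79861)) (tt N13403 F79004) (tt N13401 F79005) (tt N13870 (iv F79869)) (tt N13493 F79006) (tt N13400 (iv D20131)) (tt N13709 (iv F79195)) (tt N13471 F79007))
theorem Q13675 : ∀ i, i < 13675 → P i := stepQ 13674 Q13674 (allL N13674 (tt N13867 (iv F79847)) (tt N13600 F79008) (tt N13870 (iv F79867)) (tt N13525 F79009) (tt N13403 F79010) (tt N13871 D20329) (tt N13402 (iv D20132)) (tt N13872 D20330) (tt N13726 (iv F79269)))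
theorem Q13676 : ∀ i, i < 13676 → P i := stepQ 13675 Q13675 (allL N13675 (tt N13545 F79011) (tt N13601 F79012) (tt N13708 (iv F79187)) (tt N13539 (iv F79015)) (tt N13404 F79013) (tt N13675 F79014) (tt N13872 (iv F79877)) (tt N13402 (iv D20133)) (tt N13704 (iv F79170)))
theorem Q13677 : ∀ i, i < 13677 → P i := stepQ 13676 Q13676 (allL N13676 (tt N13546 F79016) (tt N13602 F79017) (tt N13709 (iv F79192)) (tt N13417 F79018) (tt N13872 (iv F79876)) (tt N13452 F79019) (tt N13404 F79020) (tt N13403 (iv D20134)) (tt N13705 (iv F79174)))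
theorem Q13678 : ∀ i, i < 13678 → P i := stepQ 13677 Q13677 (allL N13677 (tt N13637 F79021) (tt N13407 F79022) (tt N13714 (iv F79215)) (tt N13406 F79023) (tt N13873 D20331) (tt N13405 (iv D20135)) (tt N13874 D20332) (tt N13607 F79024) (tt N13437 F79025))
theorem Q13679 : ∀ i, i < 13679 → P i := stepQ 13678 Q13678 (allL N13678 (tt N13638 F79026) (tt N13408 F79027) (tt N13535 F79028) (tt N13874 (iv F79887)) (tt N13628 F79029) (tt N13457 F79030) (tt N13406 (iv D20136)) (tt N13414 F79031) (tt N13438 F79032))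
theorem Q13680 : ∀ i, i < 13680 → P i := stepQ 13679 Q13679 (allL N13679 (tt N13432 F79033) (tt N13873 (iv F79880)) (tt N13424 F79034) (tt N13629 F79035) (tt N13407 (iv D20137)) (tt N13679 F79036) (tt N13875 D20333) (tt N13609 F79037) (tt N13439 F79038))
theorem Q13681 : ∀ i, i < 13681 → P i := stepQ 13680 Q13680 (allL N13680 (tt N13433 F79039) (tt N13874 (iv F79886)) (tt N13425 F79040) (tt N13408 F79041) (tt N13875 (iv F79894)) (tt N13459 F79042) (tt N13407 (iv D20138)) (tt N13610 F79043) (tt N13440 F79044))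
theorem Q13682 : ∀ i, i < 13682 → P i := stepQ 13681 Q13681 (allL N13681 (tt N13591 F79045) (tt N13412 F79046) (tt N13619 F79047) (tt N13799 (iv F79589)) (tt N13414 F79048) (tt N13640 F79049) (tt N13409 (iv D20139)) (tt N13628 F79050) (tt N13472 F79051))
theorem Q13683 : ∀ i, i < 13683 → P i := stepQ 13682 Q13682 (allL N13682 (tt N13434 F79052) (tt N13799 (iv F79588)) (tt N13529 F79053) (tt N13412 F79054) (tt N13614 F79055) (tt N13665 F79056) (tt N13410 (iv D20140)) (tt N13876 D20334) (tt N13473 F79057))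
theorem Q13684 : ∀ i, i < 13684 → P i := stepQ 13683 Q13683 (allL N13683 (tt N13435 F79058) (tt N13645 F79059) (tt N13526 F79060) (tt N13631 F79061) (tt N13520 F79062) (tt N13411 F79063) (tt N13876 (iv F79903)) (tt N13410 (iv D20141)) (tt N13605 F79064))
theorem Q13685 : ∀ i, i < 13685 → P i := stepQ 13684 Q13684 (allL N13684 (tt N13414 F79065) (tt N13436 F79066) (tt N13616 F79067) (tt N13615 F79068) (tt N13591 F79069) (tt N13504 F79070) (tt N13413 (iv D20142)) (tt N13638 F79071) (tt N13474 F79072))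
theorem Q13686 : ∀ i, i < 13686 → P i := stepQ 13685 Q13685 (allL N13685 (tt N13439 F79073) (tt N13585 F79074) (tt N13458 F79075) (tt N13533 F79076) (tt N13415 (iv D20143)) (tt N13685 F79077) (tt N13877 D20335) (tt N13581 F79078) (tt N13432 F79079))
theorem Q13687 : ∀ i, i < 13687 → P i := stepQ 13686 Q13686 (allL N13686 (tt N13440 F79080) (tt N13586 F79081) (tt N13459 F79082) (tt N13416 F79083) (tt N13877 (iv F79909)) (tt N13425 F79084) (tt N13415 (iv D20144)) (tt N13582 F79085) (tt N13433 F79086))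
theorem Q13688 : ∀ i, i < 13688 → P i := stepQ 13687 Q13687 (allL N13687 (tt N13451 F79087) (tt N13477 F79088) (tt N13779 (iv F79498)) (tt N13424 F79089) (tt N13418 (iv D20145)) (tt N13687 F79090) (tt N13878 D20336) (tt N13551 F79091) (tt N13777 (iv F79489)))
theorem Q13689 : ∀ i, i < 13689 → P i := stepQ 13688 Q13688 (allL N13688 (tt N13452 F79092) (tt N13478 F79093) (tt N13780 (iv F79505)) (tt N13419 F79094) (tt N13878 (iv F79915)) (tt N13546 F79095) (tt N13418 (iv D20146)) (tt N13552 F79096) (tt N13778 (iv F79495)))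
theorem Q13690 : ∀ i, i < 13690 → P i := stepQ 13689 Q13689 (allL N13689 (tt N13458 F79097) (tt N13733 (iv F79296)) (tt N13439 F79098) (tt N13777 (iv F79486)) (tt N13420 (iv D20147)) (tt N13689 F79099) (tt N13879 D20337) (tt N13565 F79100) (tt N13424 F79101))
theorem Q13691 : ∀ i, i < 13691 → P i := stepQ 13690 Q13690 (allL N13690 (tt N13459 F79102) (tt N13734 (iv F79301)) (tt N13440 F79103) (tt N13421 F79104) (tt N13879 (iv F79919)) (tt N13433 F79105) (tt N13420 (iv D20148)) (tt N13566 F79106) (tt N13425 F79107))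
theorem Q13692 : ∀ i, i < 13692 → P i := stepQ 13691 Q13691 (allL N13691 (tt N13485 F79108) (tt N13424 F79109) (tt N13737 (iv F79319)) (tt N13477 F79110) (tt N13422 (iv D20149)) (tt N13691 F79111) (tt N13880 D20338) (tt N13623 F79112) (tt N13733 (iv F79300)))
theorem Q13693 : ∀ i, i < 13693 → P i := stepQ 13692 Q13692 (allL N13692 (tt N13486 F79113) (tt N13425 F79114) (tt N13738 (iv F79324)) (tt N13423 F79115) (tt N13880 (iv F79925)) (tt N13586 F79116) (tt N13422 (iv D20150)) (tt N13624 F79117) (tt N13734 (iv F79305)))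
theorem Q13694 : ∀ i, i < 13694 → P i := stepQ 13693 Q13693 (allL N13693 (tt N13465 F79118) (tt N13880 (iv F79923)) (tt N13875 (iv F79892)) (tt N13878 (iv F79914)) (tt N13425 F79119) (tt N13881 D20339) (tt N13424 (iv D20151)) (tt N13625 F79120) (tt N13879 (iv F79921)))
theorem Q13695 : ∀ i, i < 13695 → P i := stepQ 13694 Q13694 (allL N13694 (tt N13629 F79121) (tt N13587 F79122) (tt N13773 (iv F79467)) (tt N13432 F79123) (tt N13427 (iv D20152)) (tt N13694 F79124) (tt N13882 D20340) (tt N13883 D20341) (tt N13533 F79125))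
theorem Q13696 : ∀ i, i < 13696 → P i := stepQ 13695 Q13695 (allL N13695 (tt N13630 F79126) (tt N13588 F79127) (tt N13774 (iv F79472)) (tt N13429 F79128) (tt N13882 (iv F79933)) (tt N13548 F79129) (tt N13427 (iv D20153)) (tt N13884 D20342) (tt N13534 F79130))
theorem Q13697 : ∀ i, i < 13697 → P i := stepQ 13696 Q13696 (allL N13696 (tt N13631 F79131) (tt N13518 F79132) (tt N13775 (iv F79477)) (tt N13435 F79133) (tt N13883 (iv F79938)) (tt N13428 F79134) (tt N13884 (iv F79945)) (tt N13427 (iv D20154)) (tt N13607 F79135))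
theorem Q13698 : ∀ i, i < 13698 → P i := stepQ 13697 Q13697 (allL N13697 (tt N13807 (iv F79626)) (tt N13432 F79136) (tt N13735 (iv F79308)) (tt N13587 F79137) (tt N13430 (iv D20155)) (tt N13697 F79138) (tt N13885 D20343) (tt N13652 F79139) (tt N13585 F79140))
theorem Q13699 : ∀ i, i < 13699 → P i := stepQ 13698 Q13698 (allL N13698 (tt N13808 (iv F79631)) (tt N13433 F79141) (tt N13736 (iv F79314)) (tt N13431 F79142) (tt N13885 (iv F79949)) (tt N13734 (iv F79304)) (tt N13430 (iv D20156)) (tt N13653 F79143) (tt N13586 F79144))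
theorem Q13700 : ∀ i, i < 13700 → P i := stepQ 13699 Q13699 (allL N13699 (tt N13875 (iv F79891)) (tt N13885 (iv F79947)) (tt N13465 F79145) (tt N13882 (iv F79932)) (tt N13433 F79146) (tt N13886 D20344) (tt N13432 (iv D20157)) (tt N13654 F79147) (tt N13877 (iv F79911)))
theorem Q13701 : ∀ i, i < 13701 → P i := stepQ 13700 Q13700 (allL N13700 (tt N13876 (iv F79897)) (tt N13519 F79148) (tt N13528 F79149) (tt N13884 (iv F79943)) (tt N13522 F79150) (tt N13667 F79151) (tt N13435 F79152) (tt N13434 (iv D20158)) (tt N13608 F79153))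
theorem Q13702 : ∀ i, i < 13702 → P i := stepQ 13701 Q13701 (allL N13701 (tt N13635 F79154) (tt N13439 F79155) (tt N13722 (iv F79250)) (tt N13632 F79156) (tt N13437 (iv D20159)) (tt N13701 F79157) (tt N13887 D20345) (tt N13533 F79158) (tt N13873 (iv F79884)))
theorem Q13703 : ∀ i, i < 13703 → P i := stepQ 13702 Q13702 (allL N13702 (tt N13636 F79159) (tt N13440 F79160) (tt N13723 (iv F79256)) (tt N13438 F79161) (tt N13887 (iv F79958)) (tt N13464 F79162) (tt N13437 (iv D20160)) (tt N13534 F79163) (tt N13874 (iv F79890)))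
theorem Q13704 : ∀ i, i < 13704 → P i := stepQ 13703 Q13703 (allL N13703 (tt N13877 (iv F79905)) (tt N13887 (iv F79956)) (tt N13879 (iv F79918)) (tt N13634 F79164) (tt N13440 F79165) (tt N13888 D20346) (tt N13439 (iv D20161)) (tt N13589 F79166) (tt N13875 (iv F79896)))
theorem Q13705 : ∀ i, i < 13705 → P i := stepQ 13704 Q13704 (allL N13704 (tt N13779 (iv F79496)) (tt N13822 (iv F79679)) (tt N13451 F79167) (tt N13773 (iv F79468)) (tt N13442 (iv D20162)) (tt N13704 F79168) (tt N13889 D20347) (tt N13492 F79169) (tt N13675 F79170))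
theorem Q13706 : ∀ i, i < 13706 → P i := stepQ 13705 Q13705 (allL N13705 (tt N13780 (iv F79503)) (tt N13823 (iv F79683)) (tt N13452 F79171) (tt N13443 F79172) (tt N13889 (iv F79965)) (tt N13709 (iv F79194)) (tt N13442 (iv D20163)) (tt N13493 F79173) (tt N13676 F79174))
theorem Q13707 : ∀ i, i < 13707 → P i := stepQ 13706 Q13706 (allL N13706 (tt N13490 F79175) (tt N13446 F79176) (tt N13816 (iv F79660)) (tt N13445 F79177) (tt N13890 D20348) (tt N13444 (iv D20164)) (tt N13891 D20349) (tt N13670 F79178) (tt N13449 F79179))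
theorem Q13708 : ∀ i, i < 13708 → P i := stepQ 13707 Q13707 (allL N13707 (tt N13491 F79180) (tt N13447 F79181) (tt N13504 F79182) (tt N13891 (iv F79976)) (tt N13457 F79183) (tt N13616 F79184) (tt N13445 (iv D20165)) (tt N13500 F79185) (tt N13450 F79186))
theorem Q13709 : ∀ i, i < 13709 → P i := stepQ 13708 Q13708 (allL N13708 (tt N13777 (iv F79483)) (tt N13890 (iv F79969)) (tt N13675 F79187) (tt N13458 F79188) (tt N13446 (iv D20166)) (tt N13708 F79189) (tt N13892 D20350) (tt N13672 F79190) (tt N13451 F79191))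
theorem Q13710 : ∀ i, i < 13710 → P i := stepQ 13709 Q13709 (allL N13709 (tt N13778 (iv F79490)) (tt N13891 (iv F79975)) (tt N13676 F79192) (tt N13447 F79193) (tt N13892 (iv F79982)) (tt N13705 F79194) (tt N13446 (iv D20167)) (tt N13673 F79195) (tt N13452 F79196))
theorem Q13711 : ∀ i, i < 13711 → P i := stepQ 13710 Q13710 (allL N13710 (tt N13494 F79197) (tt N13812 (iv F79643)) (tt N13449 F79198) (tt N13509 F79199) (tt N13893 D20351) (tt N13448 (iv D20168)) (tt N13894 D20352) (tt N13514 F79200) (tt N13816 (iv F79663)))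
theorem Q13712 : ∀ i, i < 13712 → P i := stepQ 13711 Q13711 (allL N13711 (tt N13495 F79201) (tt N13451 F79202) (tt N13893 (iv F79986)) (tt N13463 F79203) (tt N13449 (iv D20169)) (tt N13711 F79204) (tt N13895 D20353) (tt N13516 F79205) (tt N13890 (iv F79973)))
theorem Q13713 : ∀ i, i < 13713 → P i := stepQ 13712 Q13712 (allL N13712 (tt N13496 F79206) (tt N13452 F79207) (tt N13894 (iv F79991)) (tt N13450 F79208) (tt N13895 (iv F79998)) (tt N13602 F79209) (tt N13449 (iv D20170)) (tt N13517 F79210) (tt N13891 (iv F79979)))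
theorem Q13714 : ∀ i, i < 13714 → P i := stepQ 13713 Q13713 (allL N13713 (tt N13878 (iv F79912)) (tt N13895 (iv F79996)) (tt N13889 (iv F79964)) (tt N13465 F79211) (tt N13452 F79212) (tt N13896 D20354) (tt N13451 (iv D20171)) (tt N13787 (iv F79532)) (tt N13892 (iv F79984)))
theorem Q13715 : ∀ i, i < 13715 → P i := stepQ 13714 Q13714 (allL N13714 (tt N13455 F79213) (tt N13483 F79214) (tt N13677 F79215) (tt N13454 F79216) (tt N13897 D20355) (tt N13453 (iv D20172)) (tt N13898 D20356) (tt N13826 (iv F79701)) (tt N13461 F79217))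
theorem Q13716 : ∀ i, i < 13716 → P i := stepQ 13715 Q13715 (allL N13715 (tt N13457 F79218) (tt N13484 F79219) (tt N13500 F79220) (tt N13898 (iv F80011)) (tt N13491 F79221) (tt N13638 F79222) (tt N13454 (iv D20173)) (tt N13504 F79223) (tt N13462 F79224))
theorem Q13717 : ∀ i, i < 13717 → P i := stepQ 13716 Q13716 (allL N13716 (tt N13897 (iv F80002)) (tt N13458 F79225) (tt N13849 (iv F79781)) (tt N13890 (iv F79970)) (tt N13455 (iv D20174)) (tt N13716 F79226) (tt N13899 D20357) (tt N13900 D20358) (tt N13463 F79227))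
theorem Q13718 : ∀ i, i < 13718 → P i := stepQ 13717 Q13717 (allL N13717 (tt N13898 (iv F80008)) (tt N13459 F79228) (tt N13850 (iv F79785)) (tt N13457 F79229) (tt N13899 (iv F80015)) (tt N13874 (iv F79888)) (tt N13455 (iv D20175)) (tt N13901 D20359) (tt N13464 F79230))
theorem Q13719 : ∀ i, i < 13719 → P i := stepQ 13718 Q13718 (allL N13718 (tt N13826 (iv F79697)) (tt N13460 F79231) (tt N13824 (iv F79689)) (tt N13507 F79232) (tt N13900 (iv F80018)) (tt N13456 F79233) (tt N13901 (iv F80024)) (tt N13455 (iv D20176)) (tt N13549 F79234))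
theorem Q13720 : ∀ i, i < 13720 → P i := stepQ 13719 Q13719 (allL N13719 (tt N13879 (iv F79917)) (tt N13899 (iv F80014)) (tt N13877 (iv F79907)) (tt N13892 (iv F79981)) (tt N13459 F79235) (tt N13902 D20360) (tt N13458 (iv D20177)) (tt N13903 D20361) (tt N13465 F79236))
theorem Q13721 : ∀ i, i < 13721 → P i := stepQ 13720 Q13720 (allL N13720 (tt N13565 F79237) (tt N13900 (iv F80017)) (tt N13581 F79238) (tt N13792 (iv F79555)) (tt N13460 F79239) (tt N13720 F79240) (tt N13903 (iv F80031)) (tt N13458 (iv D20178)) (tt N13662 F79241))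
theorem Q13722 : ∀ i, i < 13722 → P i := stepQ 13721 Q13721 (allL N13721 (tt N13566 F79242) (tt N13901 (iv F80021)) (tt N13582 F79243) (tt N13508 F79244) (tt N13903 (iv F80030)) (tt N13610 F79245) (tt N13460 F79246) (tt N13459 (iv D20179)) (tt N13663 F79247))
theorem Q13723 : ∀ i, i < 13723 → P i := stepQ 13722 Q13722 (allL N13722 (tt N13463 F79248) (tt N13485 F79249) (tt N13701 F79250) (tt N13495 F79251) (tt N13461 (iv D20180)) (tt N13722 F79252) (tt N13904 D20362) (tt N13539 F79253) (tt N13897 (iv F80007)))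
theorem Q13724 : ∀ i, i < 13724 → P i := stepQ 13723 Q13723 (allL N13723 (tt N13464 F79254) (tt N13486 F79255) (tt N13702 F79256) (tt N13462 F79257) (tt N13904 (iv F80037)) (tt N13636 F79258) (tt N13461 (iv D20181)) (tt N13540 F79259) (tt N13898 (iv F80013)))
theorem Q13725 : ∀ i, i < 13725 → P i := stepQ 13724 Q13724 (allL N13724 (tt N13904 (iv F80033)) (tt N13465 F79260) (tt N13848 (iv F79777)) (tt N13895 (iv F79997)) (tt N13464 F79261) (tt N13905 D20363) (tt N13463 (iv D20182)) (tt N13550 F79262) (tt N13899 (iv F80016)))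
theorem Q13726 : ∀ i, i < 13726 → P i := stepQ 13725 Q13725 (allL N13725 (tt N13881 (iv F79927)) (tt N13905 (iv F80039)) (tt N13886 (iv F79952)) (tt N13896 (iv F80000)) (tt N13888 (iv F79961)) (tt N13465 (iv D20183)) (tt N13725 F79263) (tt N13664 F79264) (tt N13902 (iv F80027)))
theorem Q13727 : ∀ i, i < 13727 → P i := stepQ 13726 Q13726 (allL N13726 (tt N13861 (iv F79827)) (tt N13525 F79265) (tt N13729 (iv F79281)) (tt N13600 F79266) (tt N13467 F79267) (tt N13906 D20364) (tt N13466 (iv D20184)) (tt N13497 F79268) (tt N13674 F79269))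
theorem Q13728 : ∀ i, i < 13728 → P i := stepQ 13727 Q13727 (allL N13727 (tt N13601 F79270) (tt N13470 F79271) (tt N13765 (iv F79437)) (tt N13623 F79272) (tt N13468 (iv D20185)) (tt N13727 F79273) (tt N13907 D20365) (tt N13512 F79274) (tt N13868 (iv F79859)))
theorem Q13729 : ∀ i, i < 13729 → P i := stepQ 13728 Q13728 (allL N13728 (tt N13602 F79275) (tt N13471 F79276) (tt N13766 (iv F79441)) (tt N13469 F79277) (tt N13907 (iv F80051)) (tt N13496 F79278) (tt N13468 (iv D20186)) (tt N13513 F79279) (tt N13869 (iv F79865)))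
theorem Q13730 : ∀ i, i < 13730 → P i := stepQ 13729 Q13729 (allL N13729 (tt N13660 F79280) (tt N13907 (iv F80049)) (tt N13726 F79281) (tt N13625 F79282) (tt N13471 F79283) (tt N13908 D20366) (tt N13470 (iv D20187)) (tt N13555 F79284) (tt N13870 (iv F79870)))
theorem Q13731 : ∀ i, i < 13731 → P i := stepQ 13730 Q13730 (allL N13730 (tt N13492 F79285) (tt N13777 (iv F79484)) (tt N13551 F79286) (tt N13733 (iv F79298)) (tt N13475 (iv D20188)) (tt N13730 F79287) (tt N13909 D20367) (tt N13779 (iv F79501)) (tt N13477 F79288))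
theorem Q13732 : ∀ i, i < 13732 → P i := stepQ 13731 Q13731 (allL N13731 (tt N13493 F79289) (tt N13778 (iv F79491)) (tt N13552 F79290) (tt N13476 F79291) (tt N13909 (iv F80061)) (tt N13659 F79292) (tt N13475 (iv D20189)) (tt N13780 (iv F79508)) (tt N13478 F79293))
theorem Q13733 : ∀ i, i < 13733 → P i := stepQ 13732 Q13732 (allL N13732 (tt N13497 F79294) (tt N13878 (iv F79913)) (tt N13771 (iv F79460)) (tt N13880 (iv F79924)) (tt N13478 F79295) (tt N13910 D20368) (tt N13477 (iv D20190)) (tt N13861 (iv F79832)) (tt N13909 (iv F80062)))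
theorem Q13734 : ∀ i, i < 13734 → P i := stepQ 13733 Q13733 (allL N13733 (tt N13737 (iv F79318)) (tt N13689 F79296) (tt N13485 F79297) (tt N13730 F79298) (tt N13479 (iv D20191)) (tt N13733 F79299) (tt N13911 D20369) (tt N13795 (iv F79573)) (tt N13691 F79300))
theorem Q13735 : ∀ i, i < 13735 → P i := stepQ 13734 Q13734 (allL N13734 (tt N13738 (iv F79323)) (tt N13690 F79301) (tt N13486 F79302) (tt N13480 F79303) (tt N13911 (iv F80069)) (tt N13698 F79304) (tt N13479 (iv D20192)) (tt N13796 (iv F79578)) (tt N13692 F79305))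
theorem Q13736 : ∀ i, i < 13736 → P i := stepQ 13735 Q13735 (allL N13735 (tt N13585 F79306) (tt N13635 F79307) (tt N13697 F79308) (tt N13581 F79309) (tt N13481 (iv D20193)) (tt N13735 F79310) (tt N13912 D20370) (tt N13632 F79311) (tt N13807 (iv F79630)))
theorem Q13737 : ∀ i, i < 13737 → P i := stepQ 13736 Q13736 (allL N13736 (tt N13586 F79312) (tt N13636 F79313) (tt N13698 F79314) (tt N13482 F79315) (tt N13912 (iv F80075)) (tt N13486 F79316) (tt N13481 (iv D20194)) (tt N13633 F79317) (tt N13808 (iv F79635)))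
theorem Q13738 : ∀ i, i < 13738 → P i := stepQ 13737 Q13737 (allL N13737 (tt N13733 F79318) (tt N13897 (iv F80003)) (tt N13691 F79319) (tt N13492 F79320) (tt N13483 (iv D20195)) (tt N13737 F79321) (tt N13913 D20371) (tt N13836 (iv F79743)) (tt N13485 F79322))
theorem Q13739 : ∀ i, i < 13739 → P i := stepQ 13738 Q13738 (allL N13738 (tt N13734 F79323) (tt N13898 (iv F80009)) (tt N13692 F79324) (tt N13484 F79325) (tt N13913 (iv F80080)) (tt N13808 (iv F79634)) (tt N13483 (iv D20196)) (tt N13837 (iv F79747)) (tt N13486 F79326))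
theorem Q13740 : ∀ i, i < 13740 → P i := stepQ 13739 Q13739 (allL N13739 (tt N13880 (iv F79922)) (tt N13904 (iv F80034)) (tt N13911 (iv F80067)) (tt N13497 F79327) (tt N13486 F79328) (tt N13914 D20372) (tt N13485 (iv D20197)) (tt N13915 D20373) (tt N13913 (iv F80081)))
theorem Q13741 : ∀ i, i < 13741 → P i := stepQ 13740 Q13740 (allL N13740 (tt N13623 F79329) (tt N13539 F79330) (tt N13795 (iv F79570)) (tt N13601 F79331) (tt N13487 F79332) (tt N13740 F79333) (tt N13915 (iv F80088)) (tt N13485 (iv D20198)) (tt N13916 D20374))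
theorem Q13742 : ∀ i, i < 13742 → P i := stepQ 13741 Q13741 (allL N13741 (tt N13624 F79334) (tt N13540 F79335) (tt N13796 (iv F79575)) (tt N13498 F79336) (tt N13915 (iv F80087)) (tt N13633 F79337) (tt N13487 F79338) (tt N13486 (iv D20199)) (tt N13917 D20375))
theorem Q13743 : ∀ i, i < 13743 → P i := stepQ 13742 Q13742 (allL N13742 (tt N13618 F79339) (tt N13536 F79340) (tt N13790 (iv F79543)) (tt N13499 F79341) (tt N13916 (iv F80092)) (tt N13488 F79342) (tt N13917 (iv F80098)) (tt N13832 (iv F79729)) (tt N13487 (iv D20200)))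
theorem Q13744 : ∀ i, i < 13744 → P i := stepQ 13743 Q13743 (allL N13743 (tt N13816 (iv F79658)) (tt N13514 F79343) (tt N13490 F79344) (tt N13505 F79345) (tt N13918 D20376) (tt N13489 (iv D20201)) (tt N13919 D20377) (tt N13812 (iv F79646)) (tt N13494 F79346))
theorem Q13745 : ∀ i, i < 13745 → P i := stepQ 13744 Q13744 (allL N13744 (tt N13890 (iv F79968)) (tt N13492 F79347) (tt N13918 (iv F80100)) (tt N13897 (iv F80005)) (tt N13490 (iv D20202)) (tt N13744 F79348) (tt N13920 D20378) (tt N13822 (iv F79682)) (tt N13495 F79349))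
theorem Q13746 : ∀ i, i < 13746 → P i := stepQ 13745 Q13745 (allL N13745 (tt N13891 (iv F79974)) (tt N13493 F79350) (tt N13919 (iv F80105)) (tt N13491 F79351) (tt N13920 (iv F80110)) (tt N13869 (iv F79864)) (tt N13490 (iv D20203)) (tt N13823 (iv F79686)) (tt N13496 F79352))
theorem Q13747 : ∀ i, i < 13747 → P i := stepQ 13746 Q13746 (allL N13746 (tt N13909 (iv F80059)) (tt N13920 (iv F80109)) (tt N13787 (iv F79529)) (tt N13913 (iv F80079)) (tt N13493 F79353) (tt N13921 D20379) (tt N13492 (iv D20204)) (tt N13889 (iv F79966)) (tt N13497 F79354))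
theorem Q13748 : ∀ i, i < 13748 → P i := stepQ 13747 Q13747 (allL N13747 (tt N13893 (iv F79985)) (tt N13643 F79355) (tt N13495 F79356) (tt N13652 F79357) (tt N13494 (iv D20205)) (tt N13747 F79358) (tt N13922 D20380) (tt N13523 F79359) (tt N13918 (iv F80103)))
theorem Q13749 : ∀ i, i < 13749 → P i := stepQ 13748 Q13748 (allL N13748 (tt N13894 (iv F79990)) (tt N13644 F79360) (tt N13496 F79361) (tt N13511 F79362) (tt N13922 (iv F80117)) (tt N13766 (iv F79443)) (tt N13494 (iv D20206)) (tt N13524 F79363) (tt N13919 (iv F80108)))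
theorem Q13750 : ∀ i, i < 13750 → P i := stepQ 13749 Q13749 (allL N13749 (tt N13895 (iv F79995)) (tt N13497 F79364) (tt N13922 (iv F80115)) (tt N13904 (iv F80036)) (tt N13496 F79365) (tt N13923 D20381) (tt N13495 (iv D20207)) (tt N13525 F79366) (tt N13920 (iv F80111)))
theorem Q13751 : ∀ i, i < 13751 → P i := stepQ 13750 Q13750 (allL N13750 (tt N13910 (iv F80063)) (tt N13923 (iv F80119)) (tt N13788 (iv F79534)) (tt N13914 (iv F80082)) (tt N13908 (iv F80056)) (tt N13497 (iv D20208)) (tt N13750 F79367) (tt N13906 (iv F80046)) (tt N13921 (iv F80113)))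
theorem Q13752 : ∀ i, i < 13752 → P i := stepQ 13751 Q13751 (allL N13751 (tt N13619 F79368) (tt N13538 F79369) (tt N13591 F79370) (tt N13917 (iv F80096)) (tt N13616 F79371) (tt N13628 F79372) (tt N13499 F79373) (tt N13640 F79374) (tt N13498 (iv D20209)))
theorem Q13753 : ∀ i, i < 13753 → P i := stepQ 13752 Q13752 (allL N13752 (tt N13505 F79375) (tt N13520 F79376) (tt N13502 F79377) (tt N13816 (iv F79661)) (tt N13645 F79378) (tt N13501 (iv D20210)) (tt N13924 D20382) (tt N13612 F79379) (tt N13509 F79380))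
theorem Q13754 : ∀ i, i < 13754 → P i := stepQ 13753 Q13753 (allL N13753 (tt N13506 F79381) (tt N13567 F79382) (tt N13924 (iv F80124)) (tt N13504 F79383) (tt N13851 (iv F79791)) (tt N13615 F79384) (tt N13502 (iv D20211)) (tt N13925 D20383) (tt N13510 F79385))
theorem Q13755 : ∀ i, i < 13755 → P i := stepQ 13754 Q13754 (allL N13754 (tt N13507 F79386) (tt N13562 F79387) (tt N13612 F79388) (tt N13826 (iv F79700)) (tt N13789 (iv F79539)) (tt N13503 F79389) (tt N13925 (iv F80133)) (tt N13502 (iv D20212)) (tt N13666 F79390))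
theorem Q13756 : ∀ i, i < 13756 → P i := stepQ 13755 Q13755 (allL N13755 (tt N13924 (iv F80122)) (tt N13515 F79391) (tt N13506 F79392) (tt N13919 (iv F80106)) (tt N13647 F79393) (tt N13596 F79394) (tt N13505 (iv D20213)) (tt N13798 (iv F79585)) (tt N13511 F79395))
theorem Q13757 : ∀ i, i < 13757 → P i := stepQ 13756 Q13756 (allL N13756 (tt N13925 (iv F80129)) (tt N13508 F79396) (tt N13798 (iv F79582)) (tt N13901 (iv F80022)) (tt N13791 (iv F79549)) (tt N13608 F79397) (tt N13507 F79398) (tt N13506 (iv D20214)) (tt N13667 F79399))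
theorem Q13758 : ∀ i, i < 13758 → P i := stepQ 13757 Q13757 (allL N13757 (tt N13511 F79400) (tt N13813 (iv F79649)) (tt N13510 F79401) (tt N13894 (iv F79992)) (tt N13651 F79402) (tt N13764 (iv F79434)) (tt N13509 (iv D20215)) (tt N13655 F79403) (tt N13924 (iv F80128)))
theorem Q13759 : ∀ i, i < 13759 → P i := stepQ 13758 Q13758 (allL N13758 (tt N13600 F79404) (tt N13555 F79405) (tt N13852 (iv F79795)) (tt N13861 (iv F79830)) (tt N13513 F79406) (tt N13926 D20384) (tt N13512 (iv D20216)) (tt N13907 (iv F80052)) (tt N13761 (iv F79419)))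
theorem Q13760 : ∀ i, i < 13760 → P i := stepQ 13759 Q13759 (allL N13759 (tt N13523 F79407) (tt N13918 (iv F80099)) (tt N13516 F79408) (tt N13648 F79409) (tt N13514 (iv D20217)) (tt N13759 F79410) (tt N13927 D20385) (tt N13893 (iv F79989)) (tt N13643 F79411))
theorem Q13761 : ∀ i, i < 13761 → P i := stepQ 13760 Q13760 (allL N13760 (tt N13524 F79412) (tt N13919 (iv F80104)) (tt N13517 F79413) (tt N13515 F79414) (tt N13927 (iv F80142)) (tt N13598 F79415) (tt N13514 (iv D20218)) (tt N13894 (iv F79994)) (tt N13644 F79416))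
theorem Q13762 : ∀ i, i < 13762 → P i := stepQ 13761 Q13761 (allL N13761 (tt N13525 F79417) (tt N13787 (iv F79528)) (tt N13927 (iv F80140)) (tt N13867 (iv F79850)) (tt N13517 F79418) (tt N13928 D20386) (tt N13516 (iv D20219)) (tt N13895 (iv F79999)) (tt N13758 F79419))
theorem Q13763 : ∀ i, i < 13763 → P i := stepQ 13762 Q13762 (allL N13762 (tt N13648 F79420) (tt N13883 (iv F79936)) (tt N13620 F79421) (tt N13523 F79422) (tt N13518 (iv D20220)) (tt N13762 F79423) (tt N13929 D20387) (tt N13587 F79424) (tt N13609 F79425))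
theorem Q13764 : ∀ i, i < 13764 → P i := stepQ 13763 Q13763 (allL N13763 (tt N13649 F79426) (tt N13884 (iv F79942)) (tt N13621 F79427) (tt N13519 F79428) (tt N13929 (iv F80151)) (tt N13663 F79429) (tt N13518 (iv D20221)) (tt N13588 F79430) (tt N13610 F79431))
theorem Q13765 : ∀ i, i < 13765 → P i := stepQ 13764 Q13764 (allL N13764 (tt N13522 F79432) (tt N13924 (iv F80123)) (tt N13530 F79433) (tt N13819 (iv F79673)) (tt N13876 (iv F79901)) (tt N13757 F79434) (tt N13520 (iv D20222)) (tt N13614 F79435) (tt N13813 (iv F79651)))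
theorem Q13766 : ∀ i, i < 13766 → P i := stepQ 13765 Q13765 (allL N13765 (tt N13818 (iv F79667)) (tt N13523 F79436) (tt N13727 F79437) (tt N13883 (iv F79937)) (tt N13521 (iv D20223)) (tt N13765 F79438) (tt N13930 D20388) (tt N13643 F79439) (tt N13814 (iv F79654)))
theorem Q13767 : ∀ i, i < 13767 → P i := stepQ 13766 Q13766 (allL N13766 (tt N13819 (iv F79671)) (tt N13524 F79440) (tt N13728 F79441) (tt N13522 F79442) (tt N13930 (iv F80156)) (tt N13748 F79443) (tt N13521 (iv D20224)) (tt N13644 F79444) (tt N13815 (iv F79657)))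
theorem Q13768 : ∀ i, i < 13768 → P i := stepQ 13767 Q13767 (allL N13767 (tt N13927 (iv F80139)) (tt N13930 (iv F80154)) (tt N13525 F79445) (tt N13929 (iv F80150)) (tt N13524 F79446) (tt N13931 D20389) (tt N13523 (iv D20225)) (tt N13922 (iv F80118)) (tt N13817 (iv F79666)))
theorem Q13769 : ∀ i, i < 13769 → P i := stepQ 13768 Q13768 (allL N13768 (tt N13928 (iv F80144)) (tt N13906 (iv F80042)) (tt N13931 (iv F80158)) (tt N13871 (iv F79872)) (tt N13926 (iv F80137)) (tt N13525 (iv D20226)) (tt N13768 F79447) (tt N13923 (iv F80121)) (tt N13820 (iv F79676)))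
theorem Q13770 : ∀ i, i < 13770 → P i := stepQ 13769 Q13769 (allL N13769 (tt N13528 F79448) (tt N13571 F79449) (tt N13876 (iv F79899)) (tt N13570 F79450) (tt N13530 F79451) (tt N13770 (iv F79457)) (tt N13526 (iv D20227)) (tt N13529 F79452) (tt N13830 (iv F79718)))
theorem Q13771 : ∀ i, i < 13771 → P i := stepQ 13770 Q13770 (allL N13770 (tt N13570 F79453) (tt N13529 F79454) (tt N13866 (iv F79844)) (tt N13528 F79455) (tt N13574 F79456) (tt N13769 F79457) (tt N13527 (iv D20228)) (tt N13571 F79458) (tt N13831 (iv F79724)))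
theorem Q13772 : ∀ i, i < 13772 → P i := stepQ 13771 Q13771 (allL N13771 (tt N13555 F79459) (tt N13867 (iv F79848)) (tt N13732 F79460) (tt N13787 (iv F79530)) (tt N13532 F79461) (tt N13932 D20390) (tt N13531 (iv D20229)) (tt N13660 F79462) (tt N13786 (iv F79526)))
theorem Q13773 : ∀ i, i < 13773 → P i := stepQ 13772 Q13772 (allL N13772 (tt N13634 F79463) (tt N13589 F79464) (tt N13776 (iv F79481)) (tt N13877 (iv F79908)) (tt N13534 F79465) (tt N13933 D20391) (tt N13533 (iv D20230)) (tt N13887 (iv F79959)) (tt N13882 (iv F79934)))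
theorem Q13774 : ∀ i, i < 13774 → P i := stepQ 13773 Q13773 (allL N13773 (tt N13547 F79466) (tt N13916 (iv F80090)) (tt N13694 F79467) (tt N13704 F79468) (tt N13536 (iv D20231)) (tt N13773 F79469) (tt N13934 D20392) (tt N13935 D20393) (tt N13539 F79470))
theorem Q13775 : ∀ i, i < 13775 → P i := stepQ 13774 Q13774 (allL N13774 (tt N13548 F79471) (tt N13917 (iv F80095)) (tt N13695 F79472) (tt N13538 F79473) (tt N13934 (iv F80171)) (tt N13630 F79474) (tt N13536 (iv D20232)) (tt N13936 D20394) (tt N13540 F79475))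
theorem Q13776 : ∀ i, i < 13776 → P i := stepQ 13775 Q13775 (allL N13775 (tt N13549 F79476) (tt N13832 (iv F79726)) (tt N13696 F79477) (tt N13666 F79478) (tt N13935 (iv F80176)) (tt N13537 F79479) (tt N13936 (iv F80182)) (tt N13536 (iv D20233)) (tt N13826 (iv F79702)))
theorem Q13777 : ∀ i, i < 13777 → P i := stepQ 13776 Q13776 (allL N13776 (tt N13550 F79480) (tt N13915 (iv F80085)) (tt N13772 F79481) (tt N13872 F79878) (tt N13540 F79482) (tt N13937 D20395) (tt N13539 (iv D20234)) (tt N13904 (iv F80038)) (tt N13934 (iv F80172)))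
theorem Q13778 : ∀ i, i < 13778 → P i := stepQ 13777 Q13777 (allL N13777 (tt N13708 F79483) (tt N13730 F79484) (tt N13545 F79485) (tt N13689 F79486) (tt N13541 (iv D20235)) (tt N13777 F79487) (tt N13938 D20396) (tt N13658 F79488) (tt N13687 F79489))
theorem Q13779 : ∀ i, i < 13779 → P i := stepQ 13778 Q13778 (allL N13778 (tt N13709 F79490) (tt N13731 F79491) (tt N13546 F79492) (tt N13542 F79493) (tt N13938 (iv F80191)) (tt N13780 (iv F79507)) (tt N13541 (iv D20236)) (tt N13659 F79494) (tt N13688 F79495))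
theorem Q13780 : ∀ i, i < 13780 → P i := stepQ 13779 Q13779 (allL N13779 (tt N13704 F79496) (tt N13658 F79497) (tt N13687 F79498) (tt N13547 F79499) (tt N13543 (iv D20237)) (tt N13779 F79500) (tt N13939 D20397) (tt N13730 F79501) (tt N13545 F79502))
theorem Q13781 : ∀ i, i < 13781 → P i := stepQ 13780 Q13780 (allL N13780 (tt N13705 F79503) (tt N13659 F79504) (tt N13688 F79505) (tt N13544 F79506) (tt N13939 (iv F80198)) (tt N13778 F79507) (tt N13543 (iv D20238)) (tt N13731 F79508) (tt N13546 F79509))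
theorem Q13782 : ∀ i, i < 13782 → P i := stepQ 13781 Q13781 (allL N13781 (tt N13872 (iv F79874)) (tt N13660 F79510) (tt N13938 (iv F80189)) (tt N13550 F79511) (tt N13546 F79512) (tt N13940 D20398) (tt N13545 (iv D20239)) (tt N13867 (iv F79852)) (tt N13939 (iv F80200)))
theorem Q13783 : ∀ i, i < 13783 → P i := stepQ 13782 Q13782 (allL N13782 (tt N13934 (iv F80168)) (tt N13661 F79513) (tt N13843 (iv F79764)) (tt N13939 (iv F80197)) (tt N13548 F79514) (tt N13941 D20399) (tt N13547 (iv D20240)) (tt N13942 D20400) (tt N13550 F79515))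
theorem Q13784 : ∀ i, i < 13784 → P i := stepQ 13783 Q13783 (allL N13783 (tt N13935 (iv F80173)) (tt N13662 F79516) (tt N13844 (iv F79767)) (tt N13795 (iv F79571)) (tt N13549 F79517) (tt N13783 F79518) (tt N13942 (iv F80209)) (tt N13547 (iv D20241)) (tt N13900 (iv F80020)))
theorem Q13785 : ∀ i, i < 13785 → P i := stepQ 13784 Q13784 (allL N13784 (tt N13936 (iv F80178)) (tt N13663 F79519) (tt N13845 (iv F79771)) (tt N13667 F79520) (tt N13942 (iv F80208)) (tt N13884 (iv F79944)) (tt N13549 F79521) (tt N13548 (iv D20242)) (tt N13901 (iv F80025)))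
theorem Q13786 : ∀ i, i < 13786 → P i := stepQ 13785 Q13785 (allL N13785 (tt N13937 (iv F80183)) (tt N13664 F79522) (tt N13847 (iv F79775)) (tt N13940 (iv F80202)) (tt N13933 (iv F80166)) (tt N13550 (iv D20243)) (tt N13785 F79523) (tt N13905 (iv F80041)) (tt N13941 (iv F80206)))
theorem Q13787 : ∀ i, i < 13787 → P i := stepQ 13786 Q13786 (allL N13786 (tt N13787 (iv F79527)) (tt N13861 (iv F79828)) (tt N13909 (iv F80060)) (tt N13555 F79524) (tt N13552 F79525) (tt N13943 D20401) (tt N13551 (iv D20244)) (tt N13878 (iv F79916)) (tt N13771 F79526))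
theorem Q13788 : ∀ i, i < 13788 → P i := stepQ 13787 Q13787 (allL N13787 (tt N13786 F79527) (tt N13761 F79528) (tt N13746 F79529) (tt N13771 F79530) (tt N13554 F79531) (tt N13944 D20402) (tt N13553 (iv D20245)) (tt N13713 F79532) (tt N13555 F79533))
theorem Q13789 : ∀ i, i < 13789 → P i := stepQ 13788 Q13788 (allL N13788 (tt N13932 (iv F80160)) (tt N13926 (iv F80136)) (tt N13750 F79534) (tt N13943 (iv F80210)) (tt N13906 (iv F80044)) (tt N13555 (iv D20246)) (tt N13788 F79535) (tt N13908 (iv F80058)) (tt N13944 (iv F80220)))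
theorem Q13790 : ∀ i, i < 13790 → P i := stepQ 13789 Q13789 (allL N13789 (tt N13559 F79536) (tt N13666 F79537) (tt N13572 F79538) (tt N13832 (iv F79728)) (tt N13754 F79539) (tt N13557 (iv D20247)) (tt N13945 D20403) (tt N13641 F79540) (tt N13562 F79541))
theorem Q13791 : ∀ i, i < 13791 → P i := stepQ 13790 Q13790 (allL N13790 (tt N13832 (iv F79725)) (tt N13560 F79542) (tt N13742 F79543) (tt N13559 F79544) (tt N13946 D20404) (tt N13558 (iv D20248)) (tt N13947 D20405) (tt N13618 F79545) (tt N13563 F79546))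
theorem Q13792 : ∀ i, i < 13792 → P i := stepQ 13791 Q13791 (allL N13791 (tt N13945 (iv F80221)) (tt N13561 F79547) (tt N13573 F79548) (tt N13947 (iv F80236)) (tt N13756 F79549) (tt N13647 F79550) (tt N13559 (iv D20249)) (tt N13642 F79551) (tt N13564 F79552))
theorem Q13793 : ∀ i, i < 13793 → P i := stepQ 13792 Q13792 (allL N13792 (tt N13662 F79553) (tt N13946 (iv F80228)) (tt N13587 F79554) (tt N13720 F79555) (tt N13560 (iv D20250)) (tt N13792 F79556) (tt N13948 D20406) (tt N13620 F79557) (tt N13565 F79558))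
theorem Q13794 : ∀ i, i < 13794 → P i := stepQ 13793 Q13793 (allL N13793 (tt N13663 F79559) (tt N13947 (iv F80234)) (tt N13588 F79560) (tt N13561 F79561) (tt N13948 (iv F80243)) (tt N13649 F79562) (tt N13560 (iv D20251)) (tt N13621 F79563) (tt N13566 F79564))
theorem Q13795 : ∀ i, i < 13795 → P i := stepQ 13794 Q13794 (allL N13794 (tt N13564 F79565) (tt N13925 (iv F80130)) (tt N13574 F79566) (tt N13837 (iv F79746)) (tt N13866 (iv F79845)) (tt N13651 F79567) (tt N13562 (iv D20252)) (tt N13567 F79568) (tt N13945 (iv F80227)))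
theorem Q13796 : ∀ i, i < 13796 → P i := stepQ 13795 Q13795 (allL N13795 (tt N13836 (iv F79740)) (tt N13565 F79569) (tt N13740 F79570) (tt N13783 F79571) (tt N13563 (iv D20253)) (tt N13795 F79572) (tt N13949 D20407) (tt N13733 F79573) (tt N13946 (iv F80233)))
theorem Q13797 : ∀ i, i < 13797 → P i := stepQ 13796 Q13796 (allL N13796 (tt N13837 (iv F79744)) (tt N13566 F79574) (tt N13741 F79575) (tt N13564 F79576) (tt N13949 (iv F80249)) (tt N13653 F79577) (tt N13563 (iv D20254)) (tt N13734 F79578) (tt N13947 (iv F80239)))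
theorem Q13798 : ∀ i, i < 13798 → P i := stepQ 13797 Q13797 (allL N13797 (tt N13903 (iv F80028)) (tt N13949 (iv F80246)) (tt N13589 F79579) (tt N13865 F79842) (tt N13566 F79580) (tt N13950 D20408) (tt N13565 (iv D20255)) (tt N13879 (iv F79920)) (tt N13948 (iv F80245)))
theorem Q13799 : ∀ i, i < 13799 → P i := stepQ 13798 Q13798 (allL N13798 (tt N13831 (iv F79719)) (tt N13569 F79581) (tt N13756 F79582) (tt N13830 (iv F79715)) (tt N13573 F79583) (tt N13613 F79584) (tt N13568 (iv D20256)) (tt N13755 F79585) (tt N13570 F79586))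
theorem Q13800 : ∀ i, i < 13800 → P i := stepQ 13799 Q13799 (allL N13799 (tt N13573 F79587) (tt N13682 F79588) (tt N13945 (iv F80223)) (tt N13681 F79589) (tt N13831 (iv F79722)) (tt N13851 (iv F79792)) (tt N13572 (iv D20257)) (tt N13853 (iv F79800)) (tt N13574 F79590))
theorem Q13801 : ∀ i, i < 13801 → P i := stepQ 13800 Q13800 (allL N13800 (tt N13626 F79591) (tt N13577 F79592) (tt N13842 (iv F79760)) (tt N13576 F79593) (tt N13951 D20409) (tt N13575 (iv D20258)) (tt N13952 D20410) (tt N13646 F79594) (tt N13579 F79595))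
theorem Q13802 : ∀ i, i < 13802 → P i := stepQ 13801 Q13801 (allL N13801 (tt N13628 F79596) (tt N13578 F79597) (tt N13640 F79598) (tt N13952 (iv F80262)) (tt N13638 F79599) (tt N13619 F79600) (tt N13576 (iv D20259)) (tt N13591 F79601) (tt N13580 F79602))
theorem Q13803 : ∀ i, i < 13803 → P i := stepQ 13802 Q13802 (allL N13802 (tt N13587 F79603) (tt N13951 (iv F80255)) (tt N13662 F79604) (tt N13807 (iv F79628)) (tt N13577 (iv D20260)) (tt N13802 F79605) (tt N13953 D20411) (tt N13648 F79606) (tt N13581 F79607))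
theorem Q13804 : ∀ i, i < 13804 → P i := stepQ 13803 Q13803 (allL N13803 (tt N13588 F79608) (tt N13952 (iv F80261)) (tt N13663 F79609) (tt N13578 F79610) (tt N13953 (iv F80268)) (tt N13621 F79611) (tt N13577 (iv D20261)) (tt N13649 F79612) (tt N13582 F79613))
theorem Q13805 : ∀ i, i < 13805 → P i := stepQ 13804 Q13804 (allL N13804 (tt N13632 F79614) (tt N13581 F79615) (tt N13857 (iv F79814)) (tt N13635 F79616) (tt N13579 (iv D20262)) (tt N13804 F79617) (tt N13954 D20412) (tt N13585 F79618) (tt N13951 (iv F80259)))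
theorem Q13806 : ∀ i, i < 13806 → P i := stepQ 13805 Q13805 (allL N13805 (tt N13633 F79619) (tt N13582 F79620) (tt N13858 (iv F79818)) (tt N13580 F79621) (tt N13954 (iv F80274)) (tt N13624 F79622) (tt N13579 (iv D20263)) (tt N13586 F79623) (tt N13952 (iv F80265)))
theorem Q13807 : ∀ i, i < 13807 → P i := stepQ 13806 Q13806 (allL N13806 (tt N13589 F79624) (tt N13954 (iv F80272)) (tt N13903 (iv F80029)) (tt N13912 (iv F80074)) (tt N13582 F79625) (tt N13955 D20413) (tt N13581 (iv D20264)) (tt N13877 (iv F79910)) (tt N13953 (iv F80270)))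
theorem Q13808 : ∀ i, i < 13808 → P i := stepQ 13807 Q13807 (allL N13807 (tt N13697 F79626) (tt N13849 (iv F79780)) (tt N13585 F79627) (tt N13802 F79628) (tt N13583 (iv D20265)) (tt N13807 F79629) (tt N13956 D20414) (tt N13857 (iv F79816)) (tt N13735 F79630))
theorem Q13809 : ∀ i, i < 13809 → P i := stepQ 13808 Q13808 (allL N13808 (tt N13698 F79631) (tt N13850 (iv F79784)) (tt N13586 F79632) (tt N13584 F79633) (tt N13956 (iv F80282)) (tt N13738 F79634) (tt N13583 (iv D20266)) (tt N13858 (iv F79821)) (tt N13736 F79635))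
theorem Q13810 : ∀ i, i < 13810 → P i := stepQ 13809 Q13809 (allL N13809 (tt N13912 (iv F80071)) (tt N13877 (iv F79906)) (tt N13956 (iv F80280)) (tt N13589 F79636) (tt N13586 F79637) (tt N13957 D20415) (tt N13585 (iv D20267)) (tt N13954 (iv F80275)) (tt N13885 (iv F79951)))
theorem Q13811 : ∀ i, i < 13811 → P i := stepQ 13810 Q13810 (allL N13810 (tt N13953 (iv F80266)) (tt N13882 (iv F79931)) (tt N13948 (iv F80241)) (tt N13885 (iv F79948)) (tt N13588 F79638) (tt N13958 D20416) (tt N13587 (iv D20268)) (tt N13929 (iv F80152)) (tt N13589 F79639))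
theorem Q13812 : ∀ i, i < 13812 → P i := stepQ 13811 Q13811 (allL N13811 (tt N13955 (iv F80276)) (tt N13933 (iv F80165)) (tt N13950 (iv F80251)) (tt N13957 (iv F80284)) (tt N13664 F79640) (tt N13589 (iv D20269)) (tt N13811 F79641) (tt N13888 (iv F79963)) (tt N13958 (iv F80288)))
theorem Q13813 : ∀ i, i < 13813 → P i := stepQ 13812 Q13812 (allL N13812 (tt N13594 F79642) (tt N13710 F79643) (tt N13603 F79644) (tt N13593 F79645) (tt N13959 D20417) (tt N13592 (iv D20270)) (tt N13960 D20418) (tt N13743 F79646) (tt N13599 F79647))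
theorem Q13814 : ∀ i, i < 13814 → P i := stepQ 13813 Q13813 (allL N13813 (tt N13596 F79648) (tt N13757 F79649) (tt N13615 F79650) (tt N13960 (iv F80298)) (tt N13825 (iv F79695)) (tt N13924 (iv F80126)) (tt N13593 (iv D20271)) (tt N13830 (iv F79717)) (tt N13764 F79651))
theorem Q13815 : ∀ i, i < 13815 → P i := stepQ 13814 Q13814 (allL N13814 (tt N13959 (iv F80289)) (tt N13597 F79652) (tt N13868 (iv F79856)) (tt N13827 (iv F79704)) (tt N13594 (iv D20272)) (tt N13814 F79653) (tt N13961 D20419) (tt N13962 D20420) (tt N13765 F79654))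
theorem Q13816 : ∀ i, i < 13816 → P i := stepQ 13815 Q13815 (allL N13815 (tt N13960 (iv F80295)) (tt N13598 F79655) (tt N13869 (iv F79862)) (tt N13596 F79656) (tt N13961 (iv F80302)) (tt N13919 (iv F80107)) (tt N13594 (iv D20273)) (tt N13963 D20421) (tt N13766 F79657))
theorem Q13817 : ∀ i, i < 13817 → P i := stepQ 13816 Q13816 (allL N13816 (tt N13743 F79658) (tt N13599 F79659) (tt N13706 F79660) (tt N13752 F79661) (tt N13962 (iv F80307)) (tt N13595 F79662) (tt N13963 (iv F80315)) (tt N13594 (iv D20274)) (tt N13710 F79663))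
theorem Q13818 : ∀ i, i < 13818 → P i := stepQ 13817 Q13817 (allL N13817 (tt N13852 (iv F79794)) (tt N13961 (iv F80301)) (tt N13600 F79664) (tt N13829 (iv F79710)) (tt N13598 F79665) (tt N13964 D20422) (tt N13597 (iv D20275)) (tt N13965 D20423) (tt N13767 F79666))
theorem Q13819 : ∀ i, i < 13819 → P i := stepQ 13818 Q13818 (allL N13818 (tt N13765 F79667) (tt N13962 (iv F80305)) (tt N13601 F79668) (tt N13844 (iv F79768)) (tt N13599 F79669) (tt N13818 F79670) (tt N13965 (iv F80323)) (tt N13597 (iv D20276)) (tt N13959 (iv F80294)))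
theorem Q13820 : ∀ i, i < 13820 → P i := stepQ 13819 Q13819 (allL N13819 (tt N13766 F79671) (tt N13963 (iv F80311)) (tt N13602 F79672) (tt N13764 F79673) (tt N13965 (iv F80322)) (tt N13894 (iv F79993)) (tt N13599 F79674) (tt N13598 (iv D20277)) (tt N13960 (iv F80300)))
theorem Q13821 : ∀ i, i < 13821 → P i := stepQ 13820 Q13820 (allL N13820 (tt N13926 (iv F80135)) (tt N13871 (iv F79871)) (tt N13964 (iv F80317)) (tt N13906 (iv F80043)) (tt N13928 (iv F80145)) (tt N13600 (iv D20278)) (tt N13820 F79675) (tt N13966 D20424) (tt N13768 F79676))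
theorem Q13822 : ∀ i, i < 13822 → P i := stepQ 13821 Q13821 (allL N13821 (tt N13907 (iv F80048)) (tt N13872 (iv F79875)) (tt N13965 (iv F80321)) (tt N13915 (iv F80086)) (tt N13602 F79677) (tt N13966 (iv F80324)) (tt N13601 F79678) (tt N13600 (iv D20279)) (tt N13967 D20425))
theorem Q13823 : ∀ i, i < 13823 → P i := stepQ 13822 Q13822 (allL N13822 (tt N13868 (iv F79854)) (tt N13704 F79679) (tt N13959 (iv F80291)) (tt N13916 (iv F80091)) (tt N13603 F79680) (tt N13822 F79681) (tt N13967 (iv F80328)) (tt N13744 F79682) (tt N13601 (iv D20280)))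
theorem Q13824 : ∀ i, i < 13824 → P i := stepQ 13823 Q13823 (allL N13823 (tt N13869 (iv F79860)) (tt N13705 F79683) (tt N13960 (iv F80297)) (tt N13616 F79684) (tt N13967 (iv F80327)) (tt N13891 (iv F79977)) (tt N13603 F79685) (tt N13745 F79686) (tt N13602 (iv D20281)))
theorem Q13825 : ∀ i, i < 13825 → P i := stepQ 13824 Q13824 (allL N13824 (tt N13607 F79687) (tt N13650 F79688) (tt N13718 F79689) (tt N13605 F79690) (tt N13968 D20426) (tt N13604 (iv D20282)) (tt N13969 D20427) (tt N13637 F79691) (tt N13631 F79692))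
theorem Q13826 : ∀ i, i < 13826 → P i := stepQ 13825 Q13825 (allL N13825 (tt N13608 F79693) (tt N13651 F79694) (tt N13830 (iv F79714)) (tt N13969 (iv F80340)) (tt N13813 F79695) (tt N13925 (iv F80132)) (tt N13605 (iv D20283)) (tt N13615 F79696) (tt N13876 (iv F79904)))
theorem Q13827 : ∀ i, i < 13827 → P i := stepQ 13826 Q13826 (allL N13826 (tt N13718 F79697) (tt N13622 F79698) (tt N13607 F79699) (tt N13754 F79700) (tt N13970 D20428) (tt N13606 (iv D20284)) (tt N13971 D20429) (tt N13714 F79701) (tt N13775 F79702))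
theorem Q13828 : ∀ i, i < 13828 → P i := stepQ 13827 Q13827 (allL N13827 (tt N13968 (iv F80330)) (tt N13609 F79703) (tt N13970 (iv F80345)) (tt N13814 F79704) (tt N13607 (iv D20285)) (tt N13827 F79705) (tt N13972 D20430) (tt N13873 (iv F79883)) (tt N13883 (iv F79940)))
theorem Q13829 : ∀ i, i < 13829 → P i := stepQ 13828 Q13828 (allL N13828 (tt N13969 (iv F80337)) (tt N13610 F79706) (tt N13971 (iv F80351)) (tt N13608 F79707) (tt N13972 (iv F80358)) (tt N13901 (iv F80023)) (tt N13607 (iv D20286)) (tt N13874 (iv F79889)) (tt N13884 (iv F79946)))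
theorem Q13830 : ∀ i, i < 13830 → P i := stepQ 13829 Q13829 (allL N13829 (tt N13654 F79708) (tt N13972 (iv F80356)) (tt N13625 F79709) (tt N13817 F79710) (tt N13610 F79711) (tt N13973 D20431) (tt N13609 (iv D20287)) (tt N13875 (iv F79895)) (tt N13929 (iv F80153)))
theorem Q13831 : ∀ i, i < 13831 → P i := stepQ 13830 Q13830 (allL N13830 (tt N13613 F79712) (tt N13655 F79713) (tt N13825 F79714) (tt N13798 F79715) (tt N13615 F79716) (tt N13831 (iv F79723)) (tt N13611 (iv D20288)) (tt N13813 F79717) (tt N13769 F79718))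
theorem Q13832 : ∀ i, i < 13832 → P i := stepQ 13831 Q13831 (allL N13831 (tt N13798 F79719) (tt N13614 F79720) (tt N13925 (iv F80131)) (tt N13613 F79721) (tt N13799 F79722) (tt N13830 F79723) (tt N13612 (iv D20289)) (tt N13924 (iv F80127)) (tt N13770 F79724))
theorem Q13833 : ∀ i, i < 13833 → P i := stepQ 13832 Q13832 (allL N13832 (tt N13790 F79725) (tt N13775 F79726) (tt N13618 F79727) (tt N13789 F79728) (tt N13974 D20432) (tt N13617 (iv D20290)) (tt N13975 D20433) (tt N13742 F79729) (tt N13622 F79730))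
theorem Q13834 : ∀ i, i < 13834 → P i := stepQ 13833 Q13833 (allL N13833 (tt N13916 (iv F80089)) (tt N13620 F79731) (tt N13974 (iv F80365)) (tt N13868 (iv F79857)) (tt N13618 (iv D20291)) (tt N13833 F79732) (tt N13976 D20434) (tt N13946 (iv F80232)) (tt N13623 F79733))
theorem Q13835 : ∀ i, i < 13835 → P i := stepQ 13834 Q13834 (allL N13834 (tt N13917 (iv F80094)) (tt N13621 F79734) (tt N13975 (iv F80372)) (tt N13619 F79735) (tt N13976 (iv F80377)) (tt N13952 (iv F80263)) (tt N13618 (iv D20292)) (tt N13947 (iv F80238)) (tt N13624 F79736))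
theorem Q13836 : ∀ i, i < 13836 → P i := stepQ 13835 Q13835 (allL N13835 (tt N13661 F79737) (tt N13976 (iv F80376)) (tt N13929 (iv F80149)) (tt N13870 (iv F79868)) (tt N13621 F79738) (tt N13977 D20435) (tt N13620 (iv D20293)) (tt N13948 (iv F80244)) (tt N13625 F79739))
theorem Q13837 : ∀ i, i < 13837 → P i := stepQ 13836 Q13836 (allL N13836 (tt N13795 F79740) (tt N13970 (iv F80344)) (tt N13623 F79741) (tt N13935 (iv F80175)) (tt N13622 (iv D20294)) (tt N13836 F79742) (tt N13978 D20436) (tt N13737 F79743) (tt N13974 (iv F80369)))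
theorem Q13838 : ∀ i, i < 13838 → P i := stepQ 13837 Q13837 (allL N13837 (tt N13796 F79744) (tt N13971 (iv F80350)) (tt N13624 F79745) (tt N13794 F79746) (tt N13978 (iv F80384)) (tt N13858 (iv F79820)) (tt N13622 (iv D20295)) (tt N13738 F79747) (tt N13975 (iv F80375)))
theorem Q13839 : ∀ i, i < 13839 → P i := stepQ 13838 Q13838 (allL N13838 (tt N13915 (iv F80084)) (tt N13625 F79748) (tt N13978 (iv F80383)) (tt N13907 (iv F80050)) (tt N13624 F79749) (tt N13979 D20437) (tt N13623 (iv D20296)) (tt N13880 (iv F79926)) (tt N13976 (iv F80378)))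
theorem Q13840 : ∀ i, i < 13840 → P i := stepQ 13839 Q13839 (allL N13839 (tt N13664 F79750) (tt N13979 (iv F80386)) (tt N13973 (iv F80360)) (tt N13908 (iv F80055)) (tt N13955 (iv F80277)) (tt N13625 (iv D20297)) (tt N13839 F79751) (tt N13881 (iv F79929)) (tt N13977 (iv F80381)))
theorem Q13841 : ∀ i, i < 13841 → P i := stepQ 13840 Q13840 (allL N13840 (tt N13951 (iv F80254)) (tt N13629 F79752) (tt N13854 (iv F79803)) (tt N13873 (iv F79881)) (tt N13626 (iv D20298)) (tt N13840 F79753) (tt N13980 D20438) (tt N13981 D20439) (tt N13632 F79754))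
theorem Q13842 : ∀ i, i < 13842 → P i := stepQ 13841 Q13841 (allL N13841 (tt N13952 (iv F80260)) (tt N13630 F79755) (tt N13855 (iv F79807)) (tt N13628 F79756) (tt N13980 (iv F80389)) (tt N13917 (iv F80097)) (tt N13626 (iv D20299)) (tt N13982 D20440) (tt N13633 F79757))
theorem Q13843 : ∀ i, i < 13843 → P i := stepQ 13842 Q13842 (allL N13842 (tt N13646 F79758) (tt N13631 F79759) (tt N13800 F79760) (tt N13645 F79761) (tt N13981 (iv F80395)) (tt N13627 F79762) (tt N13982 (iv F80403)) (tt N13626 (iv D20300)) (tt N13650 F79763))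
theorem Q13844 : ∀ i, i < 13844 → P i := stepQ 13843 Q13843 (allL N13843 (tt N13882 (iv F79930)) (tt N13980 (iv F80388)) (tt N13782 F79764) (tt N13875 (iv F79893)) (tt N13630 F79765) (tt N13983 D20441) (tt N13629 (iv D20301)) (tt N13984 D20442) (tt N13634 F79766))
theorem Q13845 : ∀ i, i < 13845 → P i := stepQ 13844 Q13844 (allL N13844 (tt N13883 (iv F79935)) (tt N13981 (iv F80392)) (tt N13783 F79767) (tt N13818 F79768) (tt N13631 F79769) (tt N13844 F79770) (tt N13984 (iv F80411)) (tt N13629 (iv D20302)) (tt N13968 (iv F80336)))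
theorem Q13846 : ∀ i, i < 13846 → P i := stepQ 13845 Q13845 (allL N13845 (tt N13884 (iv F79941)) (tt N13982 (iv F80399)) (tt N13784 F79771) (tt N13876 (iv F79900)) (tt N13984 (iv F80410)) (tt N13936 (iv F80181)) (tt N13631 F79772) (tt N13630 (iv D20303)) (tt N13969 (iv F80342)))
theorem Q13847 : ∀ i, i < 13847 → P i := stepQ 13846 Q13846 (allL N13846 (tt N13954 (iv F80271)) (tt N13634 F79773) (tt N13859 (iv F79823)) (tt N13887 (iv F79957)) (tt N13633 F79774) (tt N13985 D20443) (tt N13632 (iv D20304)) (tt N13912 (iv F80076)) (tt N13980 (iv F80390)))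
theorem Q13848 : ∀ i, i < 13848 → P i := stepQ 13847 Q13847 (allL N13847 (tt N13933 (iv F80164)) (tt N13985 (iv F80412)) (tt N13785 F79775) (tt N13888 (iv F79960)) (tt N13937 (iv F80185)) (tt N13634 (iv D20305)) (tt N13847 F79776) (tt N13986 D20444) (tt N13983 (iv F80407)))
theorem Q13849 : ∀ i, i < 13849 → P i := stepQ 13848 Q13848 (allL N13848 (tt N13887 (iv F79955)) (tt N13912 (iv F80072)) (tt N13724 F79777) (tt N13954 (iv F80273)) (tt N13636 F79778) (tt N13986 (iv F80415)) (tt N13635 F79779) (tt N13634 (iv D20306)) (tt N13987 D20445))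
theorem Q13850 : ∀ i, i < 13850 → P i := stepQ 13849 Q13849 (allL N13849 (tt N13873 (iv F79879)) (tt N13807 F79780) (tt N13716 F79781) (tt N13951 (iv F80256)) (tt N13637 F79782) (tt N13849 F79783) (tt N13987 (iv F80420)) (tt N13968 (iv F80335)) (tt N13635 (iv D20307)))
theorem Q13851 : ∀ i, i < 13851 → P i := stepQ 13850 Q13850 (allL N13850 (tt N13874 (iv F79885)) (tt N13808 F79784) (tt N13717 F79785) (tt N13638 F79786) (tt N13987 (iv F80419)) (tt N13898 (iv F80012)) (tt N13637 F79787) (tt N13969 (iv F80341)) (tt N13636 (iv D20308)))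
theorem Q13852 : ∀ i, i < 13852 → P i := stepQ 13851 Q13851 (allL N13851 (tt N13642 F79788) (tt N13665 F79789) (tt N13853 (iv F79799)) (tt N13640 F79790) (tt N13753 F79791) (tt N13799 F79792) (tt N13641 F79793) (tt N13945 (iv F80226)) (tt N13639 (iv D20309)))
theorem Q13853 : ∀ i, i < 13853 → P i := stepQ 13852 Q13852 (allL N13852 (tt N13817 F79794) (tt N13922 (iv F80114)) (tt N13758 F79795) (tt N13654 F79796) (tt N13644 F79797) (tt N13988 D20446) (tt N13643 (iv D20310)) (tt N13930 (iv F80157)) (tt N13927 (iv F80143)))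
theorem Q13854 : ∀ i, i < 13854 → P i := stepQ 13853 Q13853 (allL N13853 (tt N13647 F79798) (tt N13876 (iv F79898)) (tt N13851 F79799) (tt N13982 (iv F80401)) (tt N13924 (iv F80125)) (tt N13945 (iv F80225)) (tt N13645 (iv D20311)) (tt N13799 F79800) (tt N13651 F79801))
theorem Q13855 : ∀ i, i < 13855 → P i := stepQ 13854 Q13854 (allL N13854 (tt N13981 (iv F80391)) (tt N13648 F79802) (tt N13840 F79803) (tt N13918 (iv F80101)) (tt N13646 (iv D20312)) (tt N13854 F79804) (tt N13989 D20447) (tt N13951 (iv F80258)) (tt N13652 F79805))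
theorem Q13856 : ∀ i, i < 13856 → P i := stepQ 13855 Q13855 (allL N13855 (tt N13982 (iv F80398)) (tt N13649 F79806) (tt N13841 F79807) (tt N13647 F79808) (tt N13989 (iv F80428)) (tt N13947 (iv F80237)) (tt N13646 (iv D20313)) (tt N13952 (iv F80264)) (tt N13653 F79809))
theorem Q13857 : ∀ i, i < 13857 → P i := stepQ 13856 Q13856 (allL N13856 (tt N13929 (iv F80148)) (tt N13989 (iv F80426)) (tt N13661 F79810) (tt N13927 (iv F80141)) (tt N13649 F79811) (tt N13990 D20448) (tt N13648 (iv D20314)) (tt N13953 (iv F80269)) (tt N13654 F79812))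
theorem Q13858 : ∀ i, i < 13858 → P i := stepQ 13857 Q13857 (allL N13857 (tt N13652 F79813) (tt N13968 (iv F80331)) (tt N13804 F79814) (tt N13893 (iv F79987)) (tt N13650 (iv D20315)) (tt N13857 F79815) (tt N13991 D20449) (tt N13807 F79816) (tt N13981 (iv F80397)))
theorem Q13859 : ∀ i, i < 13859 → P i := stepQ 13858 Q13858 (allL N13858 (tt N13653 F79817) (tt N13969 (iv F80338)) (tt N13805 F79818) (tt N13651 F79819) (tt N13991 (iv F80435)) (tt N13837 F79820) (tt N13650 (iv D20316)) (tt N13808 F79821) (tt N13982 (iv F80404)))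
theorem Q13860 : ∀ i, i < 13860 → P i := stepQ 13859 Q13859 (allL N13859 (tt N13991 (iv F80433)) (tt N13654 F79822) (tt N13846 F79823) (tt N13922 (iv F80116)) (tt N13653 F79824) (tt N13992 D20450) (tt N13652 (iv D20317)) (tt N13885 (iv F79950)) (tt N13989 (iv F80429)))
theorem Q13861 : ∀ i, i < 13861 → P i := stepQ 13860 Q13860 (allL N13860 (tt N13973 (iv F80359)) (tt N13992 (iv F80437)) (tt N13664 F79825) (tt N13988 (iv F80423)) (tt N13950 (iv F80252)) (tt N13654 (iv D20318)) (tt N13860 F79826) (tt N13886 (iv F79954)) (tt N13990 (iv F80432)))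
theorem Q13862 : ∀ i, i < 13862 → P i := stepQ 13861 Q13861 (allL N13861 (tt N13726 F79827) (tt N13786 F79828) (tt N13660 F79829) (tt N13758 F79830) (tt N13657 F79831) (tt N13993 D20451) (tt N13656 (iv D20319)) (tt N13732 F79832) (tt N13867 (iv F79853)))
theorem Q13863 : ∀ i, i < 13863 → P i := stepQ 13862 Q13862 (allL N13862 (tt N13870 (iv F79866)) (tt N13939 (iv F80195)) (tt N13867 (iv F79849)) (tt N13661 F79833) (tt N13659 F79834) (tt N13994 D20452) (tt N13658 (iv D20320)) (tt N13938 (iv F80192)) (tt N13660 F79835))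
theorem Q13864 : ∀ i, i < 13864 → P i := stepQ 13863 Q13863 (allL N13863 (tt N13908 (iv F80053)) (tt N13940 (iv F80201)) (tt N13993 (iv F80442)) (tt N13664 F79836) (tt N13910 (iv F80064)) (tt N13660 (iv D20321)) (tt N13863 F79837) (tt N13932 (iv F80163)) (tt N13994 (iv F80449)))
theorem Q13865 : ∀ i, i < 13865 → P i := stepQ 13864 Q13864 (allL N13864 (tt N13977 (iv F80379)) (tt N13941 (iv F80204)) (tt N13990 (iv F80430)) (tt N13994 (iv F80447)) (tt N13958 (iv F80286)) (tt N13661 (iv D20322)) (tt N13864 F79838) (tt N13995 D20453) (tt N13664 F79839))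
theorem Q13866 : ∀ i, i < 13866 → P i := stepQ 13865 Q13865 (allL N13865 (tt N13948 (iv F80240)) (tt N13942 (iv F80207)) (tt N13953 (iv F80267)) (tt N13797 (iv F79842)) (tt N13663 F79840) (tt N13995 (iv F80450)) (tt N13662 F79841) (tt N13661 (iv D20323)) (tt N13903 (iv F80032)))
theorem Q13867 : ∀ i, i < 13867 → P i := stepQ 13866 Q13866 (allL N13866 (tt N13667 F79843) (tt N13945 (iv F80222)) (tt N13770 F79844) (tt N13936 (iv F80180)) (tt N13794 F79845) (tt N13876 (iv F79902)) (tt N13666 F79846) (tt N13665 (iv D20324)) (tt N13925 (iv F80134)))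
theorem Q13868 : ∀ i, i < 13868 → P i := stepQ 13867 Q13867 (allL N13867 (tt N13674 F79847) (tt N13771 F79848) (tt N13862 F79849) (tt N13761 F79850) (tt N13669 F79851) (tt N13996 D20454) (tt N13668 (iv D20325)) (tt N13781 F79852) (tt N13861 F79853))
theorem Q13869 : ∀ i, i < 13869 → P i := stepQ 13868 Q13868 (allL N13868 (tt N13822 F79854) (tt N13672 F79855) (tt N13814 F79856) (tt N13833 F79857) (tt N13670 (iv D20326)) (tt N13868 F79858) (tt N13997 D20455) (tt N13890 (iv F79972)) (tt N13727 F79859))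
theorem Q13870 : ∀ i, i < 13870 → P i := stepQ 13869 Q13869 (allL N13869 (tt N13823 F79860) (tt N13673 F79861) (tt N13815 F79862) (tt N13671 F79863) (tt N13997 (iv F80465)) (tt N13745 F79864) (tt N13670 (iv D20327)) (tt N13891 (iv F79978)) (tt N13728 F79865))
theorem Q13871 : ∀ i, i < 13871 → P i := stepQ 13870 Q13870 (allL N13870 (tt N13862 F79866) (tt N13997 (iv F80462)) (tt N13674 F79867) (tt N13835 F79868) (tt N13673 F79869) (tt N13998 D20456) (tt N13672 (iv D20328)) (tt N13892 (iv F79983)) (tt N13729 F79870))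
theorem Q13872 : ∀ i, i < 13872 → P i := stepQ 13871 Q13871 (allL N13871 (tt N13996 (iv F80453)) (tt N13820 F79871) (tt N13998 (iv F80468)) (tt N13768 F79872) (tt N13944 (iv F80217)) (tt N13674 (iv D20329)) (tt N13871 F79873) (tt N13999 D20457) (tt N13906 (iv F80047)))
theorem Q13873 : ∀ i, i < 13873 → P i := stepQ 13872 Q13872 (allL N13872 (tt N13781 F79874) (tt N13821 F79875) (tt N13892 (iv F79980)) (tt N13776 (iv F79878)) (tt N13676 F79876) (tt N13999 (iv F80476)) (tt N13675 F79877) (tt N13674 (iv D20330)) (tt N13889 (iv F79967)))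
theorem Q13874 : ∀ i, i < 13874 → P i := stepQ 13873 Q13873 (allL N13873 (tt N13849 F79879) (tt N13679 F79880) (tt N13897 (iv F80004)) (tt N13840 F79881) (tt N13677 (iv D20331)) (tt N13873 F79882) (tt N14000 D20458) (tt N13827 F79883) (tt N13701 F79884))
theorem Q13875 : ∀ i, i < 13875 → P i := stepQ 13874 Q13874 (allL N13874 (tt N13850 F79885) (tt N13680 F79886) (tt N13898 (iv F80010)) (tt N13678 F79887) (tt N14000 (iv F80482)) (tt N13717 F79888) (tt N13677 (iv D20332)) (tt N13828 F79889) (tt N13702 F79890))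
theorem Q13876 : ∀ i, i < 13876 → P i := stepQ 13875 Q13875 (allL N13875 (tt N13699 F79891) (tt N14000 (iv F80480)) (tt N13693 F79892) (tt N13843 F79893) (tt N13680 F79894) (tt N14001 D20459) (tt N13679 (iv D20333)) (tt N13829 F79895) (tt N13703 F79896))
theorem Q13877 : ∀ i, i < 13877 → P i := stepQ 13876 Q13876 (allL N13876 (tt N13700 F79897) (tt N13853 F79898) (tt N13769 F79899) (tt N13845 F79900) (tt N13764 F79901) (tt N13866 F79902) (tt N13683 F79903) (tt N13682 (iv D20334)) (tt N13825 F79904))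
theorem Q13878 : ∀ i, i < 13878 → P i := stepQ 13877 Q13877 (allL N13877 (tt N13703 F79905) (tt N13809 F79906) (tt N13719 F79907) (tt N13772 F79908) (tt N13686 F79909) (tt N14002 D20460) (tt N13685 (iv D20335)) (tt N13806 F79910) (tt N13699 F79911))
theorem Q13879 : ∀ i, i < 13879 → P i := stepQ 13878 Q13878 (allL N13878 (tt N13713 F79912) (tt N13732 F79913) (tt N13939 (iv F80196)) (tt N13693 F79914) (tt N13688 F79915) (tt N14003 D20461) (tt N13687 (iv D20336)) (tt N13786 F79916) (tt N13938 (iv F80193)))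
theorem Q13880 : ∀ i, i < 13880 → P i := stepQ 13879 Q13879 (allL N13879 (tt N13719 F79917) (tt N13911 (iv F80066)) (tt N13703 F79918) (tt N13938 (iv F80190)) (tt N13690 F79919) (tt N14004 D20462) (tt N13689 (iv D20337)) (tt N13797 F79920) (tt N13693 F79921))
theorem Q13881 : ∀ i, i < 13881 → P i := stepQ 13880 Q13880 (allL N13880 (tt N13739 F79922) (tt N13693 F79923) (tt N13913 (iv F80078)) (tt N13732 F79924) (tt N13692 F79925) (tt N14005 D20463) (tt N13691 (iv D20338)) (tt N13838 F79926) (tt N13911 (iv F80070)))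
theorem Q13882 : ∀ i, i < 13882 → P i := stepQ 13881 Q13881 (allL N13881 (tt N13725 F79927) (tt N14005 (iv F80513)) (tt N14001 (iv F80486)) (tt N14003 (iv F80502)) (tt N14002 (iv F80496)) (tt N13693 (iv D20339)) (tt N13881 F79928) (tt N13839 F79929) (tt N14004 (iv F80511)))
theorem Q13883 : ∀ i, i < 13883 → P i := stepQ 13882 Q13882 (allL N13882 (tt N13843 F79930) (tt N13810 F79931) (tt N13934 (iv F80169)) (tt N13699 F79932) (tt N13695 F79933) (tt N14006 D20464) (tt N13694 (iv D20340)) (tt N14007 D20465) (tt N13772 F79934))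
theorem Q13884 : ∀ i, i < 13884 → P i := stepQ 13883 Q13883 (allL N13883 (tt N13844 F79935) (tt N13762 F79936) (tt N13935 (iv F80174)) (tt N13765 F79937) (tt N13696 F79938) (tt N13883 F79939) (tt N14007 (iv F80528)) (tt N13694 (iv D20341)) (tt N13827 F79940))
theorem Q13885 : ∀ i, i < 13885 → P i := stepQ 13884 Q13884 (allL N13884 (tt N13845 F79941) (tt N13763 F79942) (tt N13936 (iv F80179)) (tt N13700 F79943) (tt N14007 (iv F80527)) (tt N13784 F79944) (tt N13696 F79945) (tt N13695 (iv D20342)) (tt N13828 F79946))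
theorem Q13886 : ∀ i, i < 13886 → P i := stepQ 13885 Q13885 (allL N13885 (tt N13956 (iv F80279)) (tt N13699 F79947) (tt N13912 (iv F80073)) (tt N13810 F79948) (tt N13698 F79949) (tt N14008 D20466) (tt N13697 (iv D20343)) (tt N13859 F79950) (tt N13809 F79951))
theorem Q13887 : ∀ i, i < 13887 → P i := stepQ 13886 Q13886 (allL N13886 (tt N14001 (iv F80485)) (tt N14008 (iv F80530)) (tt N13725 F79952) (tt N14006 (iv F80520)) (tt N14004 (iv F80508)) (tt N13699 (iv D20344)) (tt N13886 F79953) (tt N13860 F79954) (tt N14002 (iv F80499)))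
theorem Q13888 : ∀ i, i < 13888 → P i := stepQ 13887 Q13887 (allL N13887 (tt N13848 F79955) (tt N13703 F79956) (tt N13904 (iv F80035)) (tt N13846 F79957) (tt N13702 F79958) (tt N14009 D20467) (tt N13701 (iv D20345)) (tt N13772 F79959) (tt N14000 (iv F80484)))
theorem Q13889 : ∀ i, i < 13889 → P i := stepQ 13888 Q13888 (allL N13888 (tt N14002 (iv F80492)) (tt N14009 (iv F80536)) (tt N14004 (iv F80507)) (tt N13847 F79960) (tt N13725 F79961) (tt N13703 (iv D20346)) (tt N13888 F79962) (tt N13811 F79963) (tt N14001 (iv F80491)))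
theorem Q13890 : ∀ i, i < 13890 → P i := stepQ 13889 Q13889 (allL N13889 (tt N13939 (iv F80194)) (tt N13967 (iv F80326)) (tt N13713 F79964) (tt N13934 (iv F80170)) (tt N13705 F79965) (tt N14010 D20468) (tt N13704 (iv D20347)) (tt N13746 F79966) (tt N13872 F79967))
theorem Q13891 : ∀ i, i < 13891 → P i := stepQ 13890 Q13890 (allL N13890 (tt N13744 F79968) (tt N13708 F79969) (tt N13962 (iv F80306)) (tt N13716 F79970) (tt N13706 (iv D20348)) (tt N13890 F79971) (tt N14011 D20469) (tt N13868 F79972) (tt N13711 F79973))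
theorem Q13892 : ∀ i, i < 13892 → P i := stepQ 13891 Q13891 (allL N13891 (tt N13745 F79974) (tt N13709 F79975) (tt N13963 (iv F80312)) (tt N13707 F79976) (tt N14011 (iv F80548)) (tt N13823 F79977) (tt N13706 (iv D20349)) (tt N13869 F79978) (tt N13712 F79979))
theorem Q13893 : ∀ i, i < 13893 → P i := stepQ 13892 Q13892 (allL N13892 (tt N13938 (iv F80187)) (tt N14011 (iv F80546)) (tt N13872 F79980) (tt N13719 F79981) (tt N13709 F79982) (tt N14012 D20470) (tt N13708 (iv D20350)) (tt N13870 F79983) (tt N13713 F79984))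
theorem Q13894 : ∀ i, i < 13894 → P i := stepQ 13893 Q13893 (allL N13893 (tt N13747 F79985) (tt N13959 (iv F80290)) (tt N13711 F79986) (tt N13857 F79987) (tt N13710 (iv D20351)) (tt N13893 F79988) (tt N14013 D20471) (tt N13759 F79989) (tt N13962 (iv F80309)))
theorem Q13895 : ∀ i, i < 13895 → P i := stepQ 13894 Q13894 (allL N13894 (tt N13748 F79990) (tt N13960 (iv F80296)) (tt N13712 F79991) (tt N13757 F79992) (tt N14013 (iv F80560)) (tt N13819 F79993) (tt N13710 (iv D20352)) (tt N13760 F79994) (tt N13963 (iv F80316)))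
theorem Q13896 : ∀ i, i < 13896 → P i := stepQ 13895 Q13895 (allL N13895 (tt N13749 F79995) (tt N13713 F79996) (tt N14013 (iv F80558)) (tt N13724 F79997) (tt N13712 F79998) (tt N14014 D20472) (tt N13711 (iv D20353)) (tt N13761 F79999) (tt N14011 (iv F80550)))
theorem Q13897 : ∀ i, i < 13897 → P i := stepQ 13896 Q13896 (allL N13896 (tt N14003 (iv F80500)) (tt N14014 (iv F80563)) (tt N14010 (iv F80541)) (tt N13725 F80000) (tt N13999 (iv F80475)) (tt N13713 (iv D20354)) (tt N13896 F80001) (tt N13944 (iv F80219)) (tt N14012 (iv F80556)))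
theorem Q13898 : ∀ i, i < 13898 → P i := stepQ 13897 Q13897 (allL N13897 (tt N13716 F80002) (tt N13737 F80003) (tt N13873 F80004) (tt N13744 F80005) (tt N13714 (iv D20355)) (tt N13897 F80006) (tt N14015 D20473) (tt N13970 (iv F80347)) (tt N13722 F80007))
theorem Q13899 : ∀ i, i < 13899 → P i := stepQ 13898 Q13898 (allL N13898 (tt N13717 F80008) (tt N13738 F80009) (tt N13874 F80010) (tt N13715 F80011) (tt N14015 (iv F80572)) (tt N13850 F80012) (tt N13714 (iv D20356)) (tt N13971 (iv F80354)) (tt N13723 F80013))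
theorem Q13900 : ∀ i, i < 13900 → P i := stepQ 13899 Q13899 (allL N13899 (tt N14015 (iv F80568)) (tt N13719 F80014) (tt N13987 (iv F80418)) (tt N14011 (iv F80547)) (tt N13717 F80015) (tt N14016 D20474) (tt N13716 (iv D20357)) (tt N14017 D20475) (tt N13724 F80016))
theorem Q13901 : ∀ i, i < 13901 → P i := stepQ 13900 Q13900 (allL N13900 (tt N13970 (iv F80343)) (tt N13720 F80017) (tt N13968 (iv F80332)) (tt N13946 (iv F80230)) (tt N13718 F80018) (tt N13900 F80019) (tt N14017 (iv F80579)) (tt N13716 (iv D20358)) (tt N13783 F80020))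
theorem Q13902 : ∀ i, i < 13902 → P i := stepQ 13901 Q13901 (allL N13901 (tt N13971 (iv F80349)) (tt N13721 F80021) (tt N13969 (iv F80339)) (tt N13756 F80022) (tt N14017 (iv F80578)) (tt N13828 F80023) (tt N13718 F80024) (tt N13717 (iv D20359)) (tt N13784 F80025))
theorem Q13903 : ∀ i, i < 13903 → P i := stepQ 13902 Q13902 (allL N13902 (tt N14004 (iv F80506)) (tt N14016 (iv F80574)) (tt N14002 (iv F80494)) (tt N14012 (iv F80552)) (tt N14001 (iv F80488)) (tt N13719 (iv D20360)) (tt N13902 F80026) (tt N14018 D20476) (tt N13725 F80027))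
theorem Q13904 : ∀ i, i < 13904 → P i := stepQ 13903 Q13903 (allL N13903 (tt N13797 F80028) (tt N14017 (iv F80577)) (tt N13806 F80029) (tt N13948 (iv F80242)) (tt N13721 F80030) (tt N14018 (iv F80584)) (tt N13720 F80031) (tt N13719 (iv D20361)) (tt N13865 F80032))
theorem Q13905 : ∀ i, i < 13905 → P i := stepQ 13904 Q13904 (allL N13904 (tt N13724 F80033) (tt N13739 F80034) (tt N13887 F80035) (tt N13749 F80036) (tt N13723 F80037) (tt N14019 D20477) (tt N13722 (iv D20362)) (tt N13776 F80038) (tt N14015 (iv F80573)))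
theorem Q13906 : ∀ i, i < 13906 → P i := stepQ 13905 Q13905 (allL N13905 (tt N14019 (iv F80587)) (tt N13725 F80039) (tt N13986 (iv F80414)) (tt N14014 (iv F80564)) (tt N14009 (iv F80538)) (tt N13724 (iv D20363)) (tt N13905 F80040) (tt N13785 F80041) (tt N14016 (iv F80576)))
theorem Q13907 : ∀ i, i < 13907 → P i := stepQ 13906 Q13906 (allL N13906 (tt N13993 (iv F80440)) (tt N13768 F80042) (tt N13908 (iv F80054)) (tt N13820 F80043) (tt N13788 F80044) (tt N13726 (iv D20364)) (tt N13906 F80045) (tt N13750 F80046) (tt N13871 F80047))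
theorem Q13908 : ∀ i, i < 13908 → P i := stepQ 13907 Q13907 (allL N13907 (tt N13821 F80048) (tt N13729 F80049) (tt N13930 (iv F80155)) (tt N13838 F80050) (tt N13728 F80051) (tt N14020 D20478) (tt N13727 (iv D20365)) (tt N13758 F80052) (tt N13997 (iv F80466)))
theorem Q13909 : ∀ i, i < 13909 → P i := stepQ 13908 Q13908 (allL N13908 (tt N13863 F80053) (tt N14020 (iv F80595)) (tt N13906 F80054) (tt N13839 F80055) (tt N13750 F80056) (tt N13729 (iv D20366)) (tt N13908 F80057) (tt N13788 F80058) (tt N13998 (iv F80472)))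
theorem Q13910 : ∀ i, i < 13910 → P i := stepQ 13909 Q13909 (allL N13909 (tt N13746 F80059) (tt N13938 (iv F80188)) (tt N13786 F80060) (tt N13911 (iv F80068)) (tt N13731 F80061) (tt N14021 D20479) (tt N13730 (iv D20367)) (tt N13939 (iv F80199)) (tt N13732 F80062))
theorem Q13911 : ∀ i, i < 13911 → P i := stepQ 13910 Q13910 (allL N13910 (tt N13750 F80063) (tt N14003 (iv F80501)) (tt N13932 (iv F80161)) (tt N14005 (iv F80514)) (tt N13863 F80064) (tt N13732 (iv D20368)) (tt N13910 F80065) (tt N13993 (iv F80446)) (tt N14021 (iv F80604)))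
theorem Q13912 : ∀ i, i < 13912 → P i := stepQ 13911 Q13911 (allL N13911 (tt N13913 (iv F80077)) (tt N13879 F80066) (tt N13739 F80067) (tt N13909 F80068) (tt N13734 F80069) (tt N14022 D20480) (tt N13733 (iv D20369)) (tt N13949 (iv F80250)) (tt N13880 F80070))
theorem Q13913 : ∀ i, i < 13913 → P i := stepQ 13912 Q13912 (allL N13912 (tt N13809 F80071) (tt N13848 F80072) (tt N13885 F80073) (tt N13806 F80074) (tt N13736 F80075) (tt N14023 D20481) (tt N13735 (iv D20370)) (tt N13846 F80076) (tt N13956 (iv F80283)))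
theorem Q13914 : ∀ i, i < 13914 → P i := stepQ 13913 Q13913 (allL N13913 (tt N13911 F80077) (tt N14015 (iv F80569)) (tt N13880 F80078) (tt N13746 F80079) (tt N13738 F80080) (tt N14024 D20482) (tt N13737 (iv D20371)) (tt N13978 (iv F80385)) (tt N13739 F80081))
theorem Q13915 : ∀ i, i < 13915 → P i := stepQ 13914 Q13914 (allL N13914 (tt N14005 (iv F80512)) (tt N14019 (iv F80588)) (tt N14022 (iv F80606)) (tt N13750 F80082) (tt N14023 (iv F80615)) (tt N13739 (iv D20372)) (tt N13914 F80083) (tt N14025 D20483) (tt N14024 (iv F80622)))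
theorem Q13916 : ∀ i, i < 13916 → P i := stepQ 13915 Q13915 (allL N13915 (tt N13838 F80084) (tt N13776 F80085) (tt N13949 (iv F80247)) (tt N13821 F80086) (tt N13741 F80087) (tt N14025 (iv F80627)) (tt N13740 F80088) (tt N13739 (iv D20373)) (tt N14026 D20484))
theorem Q13917 : ∀ i, i < 13917 → P i := stepQ 13916 Q13916 (allL N13916 (tt N13833 F80089) (tt N13773 F80090) (tt N13946 (iv F80229)) (tt N13822 F80091) (tt N13742 F80092) (tt N13916 F80093) (tt N14026 (iv F80633)) (tt N13974 (iv F80368)) (tt N13740 (iv D20374)))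
theorem Q13918 : ∀ i, i < 13918 → P i := stepQ 13917 Q13917 (allL N13917 (tt N13834 F80094) (tt N13774 F80095) (tt N13947 (iv F80235)) (tt N13751 F80096) (tt N14026 (iv F80632)) (tt N13841 F80097) (tt N13742 F80098) (tt N13975 (iv F80374)) (tt N13741 (iv D20375)))
theorem Q13919 : ∀ i, i < 13919 → P i := stepQ 13918 Q13918 (allL N13918 (tt N13962 (iv F80304)) (tt N13759 F80099) (tt N13744 F80100) (tt N13854 F80101) (tt N13743 (iv D20376)) (tt N13918 F80102) (tt N14027 D20485) (tt N13959 (iv F80293)) (tt N13747 F80103))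
theorem Q13920 : ∀ i, i < 13920 → P i := stepQ 13919 Q13919 (allL N13919 (tt N13963 (iv F80310)) (tt N13760 F80104) (tt N13745 F80105) (tt N13755 F80106) (tt N14027 (iv F80637)) (tt N13815 F80107) (tt N13743 (iv D20377)) (tt N13960 (iv F80299)) (tt N13748 F80108))
theorem Q13921 : ∀ i, i < 13921 → P i := stepQ 13920 Q13920 (allL N13920 (tt N14011 (iv F80545)) (tt N13746 F80109) (tt N14027 (iv F80635)) (tt N14015 (iv F80571)) (tt N13745 F80110) (tt N14028 D20486) (tt N13744 (iv D20378)) (tt N13967 (iv F80329)) (tt N13749 F80111))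
theorem Q13922 : ∀ i, i < 13922 → P i := stepQ 13921 Q13921 (allL N13921 (tt N14021 (iv F80600)) (tt N14028 (iv F80639)) (tt N13944 (iv F80215)) (tt N14024 (iv F80620)) (tt N13998 (iv F80470)) (tt N13746 (iv D20379)) (tt N13921 F80112) (tt N14010 (iv F80543)) (tt N13750 F80113))
theorem Q13923 : ∀ i, i < 13923 → P i := stepQ 13922 Q13922 (allL N13922 (tt N14013 (iv F80557)) (tt N13852 F80114) (tt N13749 F80115) (tt N13859 F80116) (tt N13748 F80117) (tt N14029 D20487) (tt N13747 (iv D20380)) (tt N13767 F80118) (tt N14027 (iv F80638)))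
theorem Q13924 : ∀ i, i < 13924 → P i := stepQ 13923 Q13923 (allL N13923 (tt N14014 (iv F80562)) (tt N13750 F80119) (tt N14029 (iv F80643)) (tt N14019 (iv F80590)) (tt N14020 (iv F80597)) (tt N13749 (iv D20381)) (tt N13923 F80120) (tt N13768 F80121) (tt N14028 (iv F80641)))
theorem Q13925 : ∀ i, i < 13925 → P i := stepQ 13924 Q13924 (allL N13924 (tt N13755 F80122) (tt N13764 F80123) (tt N13753 F80124) (tt N13963 (iv F80313)) (tt N13853 F80125) (tt N13813 F80126) (tt N13752 (iv D20382)) (tt N13831 F80127) (tt N13757 F80128))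
theorem Q13926 : ∀ i, i < 13926 → P i := stepQ 13925 Q13925 (allL N13925 (tt N13756 F80129) (tt N13794 F80130) (tt N13831 F80131) (tt N13971 (iv F80352)) (tt N13945 (iv F80224)) (tt N13825 F80132) (tt N13754 F80133) (tt N13753 (iv D20383)) (tt N13866 F80134))
theorem Q13927 : ∀ i, i < 13927 → P i := stepQ 13926 Q13926 (allL N13926 (tt N13820 F80135) (tt N13788 F80136) (tt N13988 (iv F80422)) (tt N13993 (iv F80443)) (tt N13768 F80137) (tt N13758 (iv D20384)) (tt N13926 F80138) (tt N14020 (iv F80599)) (tt N13928 (iv F80147)))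
theorem Q13928 : ∀ i, i < 13928 → P i := stepQ 13927 Q13927 (allL N13927 (tt N13767 F80139) (tt N14027 (iv F80634)) (tt N13761 F80140) (tt N13856 F80141) (tt N13760 F80142) (tt N14030 D20488) (tt N13759 (iv D20385)) (tt N14013 (iv F80561)) (tt N13852 F80143))
theorem Q13929 : ∀ i, i < 13929 → P i := stepQ 13928 Q13928 (allL N13928 (tt N13768 F80144) (tt N13944 (iv F80214)) (tt N14030 (iv F80648)) (tt N13996 (iv F80456)) (tt N13820 F80145) (tt N13761 (iv D20386)) (tt N13928 F80146) (tt N14014 (iv F80567)) (tt N13926 F80147))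
theorem Q13930 : ∀ i, i < 13930 → P i := stepQ 13929 Q13929 (allL N13929 (tt N13856 F80148) (tt N14007 (iv F80525)) (tt N13835 F80149) (tt N13767 F80150) (tt N13763 F80151) (tt N14031 D20489) (tt N13762 (iv D20387)) (tt N13810 F80152) (tt N13829 F80153))
theorem Q13931 : ∀ i, i < 13931 → P i := stepQ 13930 Q13930 (allL N13930 (tt N13965 (iv F80320)) (tt N13767 F80154) (tt N13907 F80155) (tt N14007 (iv F80526)) (tt N13766 F80156) (tt N14032 D20490) (tt N13765 (iv D20388)) (tt N13852 F80157) (tt N13961 (iv F80303)))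
theorem Q13932 : ∀ i, i < 13932 → P i := stepQ 13931 Q13931 (allL N13931 (tt N14030 (iv F80647)) (tt N14032 (iv F80660)) (tt N13768 F80158) (tt N14031 (iv F80655)) (tt N13988 (iv F80424)) (tt N13767 (iv D20389)) (tt N13931 F80159) (tt N14029 (iv F80646)) (tt N13964 (iv F80319)))
theorem Q13933 : ∀ i, i < 13933 → P i := stepQ 13932 Q13932 (allL N13932 (tt N13788 F80160) (tt N13996 (iv F80454)) (tt N13910 F80161) (tt N13944 (iv F80216)) (tt N13993 (iv F80444)) (tt N13771 (iv D20390)) (tt N13932 F80162) (tt N13863 F80163) (tt N13943 (iv F80212)))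
theorem Q13934 : ∀ i, i < 13934 → P i := stepQ 13933 Q13933 (allL N13933 (tt N13847 F80164) (tt N13811 F80165) (tt N13937 (iv F80184)) (tt N14002 (iv F80495)) (tt N13785 F80166) (tt N13772 (iv D20391)) (tt N13933 F80167) (tt N14009 (iv F80540)) (tt N14006 (iv F80523)))
theorem Q13935 : ∀ i, i < 13935 → P i := stepQ 13934 Q13934 (allL N13934 (tt N13782 F80168) (tt N14026 (iv F80630)) (tt N13882 F80169) (tt N13889 F80170) (tt N13774 F80171) (tt N14033 D20491) (tt N13773 (iv D20392)) (tt N14034 D20492) (tt N13776 F80172))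
theorem Q13936 : ∀ i, i < 13936 → P i := stepQ 13935 Q13935 (allL N13935 (tt N13783 F80173) (tt N13974 (iv F80364)) (tt N13883 F80174) (tt N13836 F80175) (tt N13775 F80176) (tt N13935 F80177) (tt N14034 (iv F80675)) (tt N13773 (iv D20393)) (tt N13970 (iv F80348)))
theorem Q13937 : ∀ i, i < 13937 → P i := stepQ 13936 Q13936 (allL N13936 (tt N13784 F80178) (tt N13975 (iv F80371)) (tt N13884 F80179) (tt N13866 F80180) (tt N14034 (iv F80674)) (tt N13845 F80181) (tt N13775 F80182) (tt N13774 (iv D20394)) (tt N13971 (iv F80355)))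
theorem Q13938 : ∀ i, i < 13938 → P i := stepQ 13937 Q13937 (allL N13937 (tt N13785 F80183) (tt N14025 (iv F80624)) (tt N13933 F80184) (tt N13999 F80478) (tt N13847 F80185) (tt N13776 (iv D20395)) (tt N13937 F80186) (tt N14019 (iv F80593)) (tt N14033 (iv F80670)))
theorem Q13939 : ∀ i, i < 13939 → P i := stepQ 13938 Q13938 (allL N13938 (tt N13892 F80187) (tt N13909 F80188) (tt N13781 F80189) (tt N13879 F80190) (tt N13778 F80191) (tt N14035 D20493) (tt N13777 (iv D20396)) (tt N13862 F80192) (tt N13878 F80193))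
theorem Q13940 : ∀ i, i < 13940 → P i := stepQ 13939 Q13939 (allL N13939 (tt N13889 F80194) (tt N13862 F80195) (tt N13878 F80196) (tt N13782 F80197) (tt N13780 F80198) (tt N14036 D20494) (tt N13779 (iv D20397)) (tt N13909 F80199) (tt N13781 F80200))
theorem Q13941 : ∀ i, i < 13941 → P i := stepQ 13940 Q13940 (allL N13940 (tt N13999 (iv F80473)) (tt N13863 F80201) (tt N14035 (iv F80678)) (tt N13785 F80202) (tt N14003 (iv F80503)) (tt N13781 (iv D20398)) (tt N13940 F80203) (tt N13996 (iv F80459)) (tt N14036 (iv F80690)))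
theorem Q13942 : ∀ i, i < 13942 → P i := stepQ 13941 Q13941 (allL N13941 (tt N14033 (iv F80665)) (tt N13864 F80204) (tt N13983 (iv F80405)) (tt N14036 (iv F80686)) (tt N14006 (iv F80521)) (tt N13782 (iv D20399)) (tt N13941 F80205) (tt N14037 D20495) (tt N13785 F80206))
theorem Q13943 : ∀ i, i < 13943 → P i := stepQ 13942 Q13942 (allL N13942 (tt N14034 (iv F80671)) (tt N13865 F80207) (tt N13984 (iv F80408)) (tt N13949 (iv F80248)) (tt N13784 F80208) (tt N14037 (iv F80692)) (tt N13783 F80209) (tt N13782 (iv D20400)) (tt N14017 (iv F80580)))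
theorem Q13944 : ∀ i, i < 13944 → P i := stepQ 13943 Q13943 (allL N13943 (tt N13944 (iv F80213)) (tt N13993 (iv F80441)) (tt N14021 (iv F80601)) (tt N13788 F80210) (tt N13996 (iv F80457)) (tt N13786 (iv D20401)) (tt N13943 F80211) (tt N14003 (iv F80505)) (tt N13932 F80212))
theorem Q13945 : ∀ i, i < 13945 → P i := stepQ 13944 Q13944 (allL N13944 (tt N13943 F80213) (tt N13928 F80214) (tt N13921 F80215) (tt N13932 F80216) (tt N13871 F80217) (tt N13787 (iv D20402)) (tt N13944 F80218) (tt N13896 F80219) (tt N13788 F80220))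
theorem Q13946 : ∀ i, i < 13946 → P i := stepQ 13945 Q13945 (allL N13945 (tt N13791 F80221) (tt N13866 F80222) (tt N13799 F80223) (tt N13975 (iv F80373)) (tt N13925 F80224) (tt N13853 F80225) (tt N13789 (iv D20403)) (tt N13851 F80226) (tt N13794 F80227))
theorem Q13947 : ∀ i, i < 13947 → P i := stepQ 13946 Q13946 (allL N13946 (tt N13974 (iv F80363)) (tt N13792 F80228) (tt N13916 F80229) (tt N13900 F80230) (tt N13790 (iv D20404)) (tt N13946 F80231) (tt N14038 D20496) (tt N13833 F80232) (tt N13795 F80233))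
theorem Q13948 : ∀ i, i < 13948 → P i := stepQ 13947 Q13947 (allL N13947 (tt N13975 (iv F80370)) (tt N13793 F80234) (tt N13917 F80235) (tt N13791 F80236) (tt N14038 (iv F80697)) (tt N13855 F80237) (tt N13790 (iv D20405)) (tt N13834 F80238) (tt N13796 F80239))
theorem Q13949 : ∀ i, i < 13949 → P i := stepQ 13948 Q13948 (allL N13948 (tt N13865 F80240) (tt N14038 (iv F80694)) (tt N13810 F80241) (tt N13903 F80242) (tt N13793 F80243) (tt N14039 D20497) (tt N13792 (iv D20406)) (tt N13835 F80244) (tt N13797 F80245))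
theorem Q13950 : ∀ i, i < 13950 → P i := stepQ 13949 Q13949 (allL N13949 (tt N13978 (iv F80382)) (tt N13797 F80246) (tt N13915 F80247) (tt N13942 F80248) (tt N13796 F80249) (tt N14040 D20498) (tt N13795 (iv D20407)) (tt N13911 F80250) (tt N14038 (iv F80699)))
theorem Q13951 : ∀ i, i < 13951 → P i := stepQ 13950 Q13950 (allL N13950 (tt N14018 (iv F80581)) (tt N14040 (iv F80707)) (tt N13811 F80251) (tt N13995 F80452) (tt N13860 F80252) (tt N13797 (iv D20408)) (tt N13950 F80253) (tt N14004 (iv F80510)) (tt N14039 (iv F80706)))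
theorem Q13952 : ∀ i, i < 13952 → P i := stepQ 13951 Q13951 (allL N13951 (tt N13840 F80254) (tt N13802 F80255) (tt N13981 (iv F80393)) (tt N13849 F80256) (tt N13800 (iv D20409)) (tt N13951 F80257) (tt N14041 D20499) (tt N13854 F80258) (tt N13804 F80259))
theorem Q13953 : ∀ i, i < 13953 → P i := stepQ 13952 Q13952 (allL N13952 (tt N13841 F80260) (tt N13803 F80261) (tt N13982 (iv F80400)) (tt N13801 F80262) (tt N14041 (iv F80716)) (tt N13834 F80263) (tt N13800 (iv D20410)) (tt N13855 F80264) (tt N13805 F80265))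
theorem Q13954 : ∀ i, i < 13954 → P i := stepQ 13953 Q13953 (allL N13953 (tt N13810 F80266) (tt N14041 (iv F80714)) (tt N13865 F80267) (tt N13956 (iv F80281)) (tt N13803 F80268) (tt N14042 D20500) (tt N13802 (iv D20411)) (tt N13856 F80269) (tt N13806 F80270))
theorem Q13955 : ∀ i, i < 13955 → P i := stepQ 13954 Q13954 (allL N13954 (tt N13846 F80271) (tt N13806 F80272) (tt N13991 (iv F80434)) (tt N13848 F80273) (tt N13805 F80274) (tt N14043 D20501) (tt N13804 (iv D20412)) (tt N13809 F80275) (tt N14041 (iv F80718)))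
theorem Q13956 : ∀ i, i < 13956 → P i := stepQ 13955 Q13955 (allL N13955 (tt N13811 F80276) (tt N14043 (iv F80726)) (tt N14018 (iv F80582)) (tt N14023 (iv F80614)) (tt N13839 F80277) (tt N13806 (iv D20413)) (tt N13955 F80278) (tt N14002 (iv F80498)) (tt N14042 (iv F80724)))
theorem Q13957 : ∀ i, i < 13957 → P i := stepQ 13956 Q13956 (allL N13956 (tt N13885 F80279) (tt N13987 (iv F80417)) (tt N13809 F80280) (tt N13953 F80281) (tt N13808 F80282) (tt N14044 D20502) (tt N13807 (iv D20414)) (tt N13991 (iv F80436)) (tt N13912 F80283))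
theorem Q13958 : ∀ i, i < 13958 → P i := stepQ 13957 Q13957 (allL N13957 (tt N14023 (iv F80611)) (tt N14002 (iv F80493)) (tt N14044 (iv F80732)) (tt N13811 F80284) (tt N14005 (iv F80515)) (tt N13809 (iv D20415)) (tt N13957 F80285) (tt N14043 (iv F80730)) (tt N14008 (iv F80534)))
theorem Q13959 : ∀ i, i < 13959 → P i := stepQ 13958 Q13958 (allL N13958 (tt N14042 (iv F80719)) (tt N14006 (iv F80519)) (tt N14039 (iv F80701)) (tt N14008 (iv F80531)) (tt N13864 F80286) (tt N13810 (iv D20416)) (tt N13958 F80287) (tt N14031 (iv F80658)) (tt N13811 F80288))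
theorem Q13960 : ∀ i, i < 13960 → P i := stepQ 13959 Q13959 (allL N13959 (tt N13814 F80289) (tt N13893 F80290) (tt N13822 F80291) (tt N13968 (iv F80333)) (tt N13812 (iv D20417)) (tt N13959 F80292) (tt N14045 D20503) (tt N13918 F80293) (tt N13818 F80294))
theorem Q13961 : ∀ i, i < 13961 → P i := stepQ 13960 Q13960 (allL N13960 (tt N13815 F80295) (tt N13894 F80296) (tt N13823 F80297) (tt N13813 F80298) (tt N14045 (iv F80740)) (tt N13963 (iv F80314)) (tt N13812 (iv D20418)) (tt N13919 F80299) (tt N13819 F80300))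
theorem Q13962 : ∀ i, i < 13962 → P i := stepQ 13961 Q13961 (allL N13961 (tt N14045 (iv F80737)) (tt N13817 F80301) (tt N13997 (iv F80463)) (tt N13972 (iv F80357)) (tt N13815 F80302) (tt N14046 D20504) (tt N13814 (iv D20419)) (tt N14047 D20505) (tt N13930 F80303))
theorem Q13963 : ∀ i, i < 13963 → P i := stepQ 13962 Q13962 (allL N13962 (tt N13918 F80304) (tt N13818 F80305) (tt N13890 F80306) (tt N13981 (iv F80394)) (tt N13816 F80307) (tt N13962 F80308) (tt N14047 (iv F80750)) (tt N13814 (iv D20420)) (tt N13893 F80309))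
theorem Q13964 : ∀ i, i < 13964 → P i := stepQ 13963 Q13963 (allL N13963 (tt N13919 F80310) (tt N13819 F80311) (tt N13891 F80312) (tt N13924 F80313) (tt N14047 (iv F80749)) (tt N13960 F80314) (tt N13816 F80315) (tt N13815 (iv D20421)) (tt N13894 F80316))
theorem Q13965 : ∀ i, i < 13965 → P i := stepQ 13964 Q13964 (allL N13964 (tt N13988 (iv F80421)) (tt N14046 (iv F80743)) (tt N13820 F80317) (tt N13973 (iv F80361)) (tt N14030 (iv F80650)) (tt N13817 (iv D20422)) (tt N13964 F80318) (tt N14048 D20506) (tt N13931 F80319))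
theorem Q13966 : ∀ i, i < 13966 → P i := stepQ 13965 Q13965 (allL N13965 (tt N13930 F80320) (tt N14047 (iv F80747)) (tt N13821 F80321) (tt N13984 (iv F80409)) (tt N13819 F80322) (tt N14048 (iv F80754)) (tt N13818 F80323) (tt N13817 (iv D20423)) (tt N14045 (iv F80742)))
theorem Q13967 : ∀ i, i < 13967 → P i := stepQ 13966 Q13966 (allL N13966 (tt N14020 (iv F80594)) (tt N13999 (iv F80474)) (tt N14048 (iv F80753)) (tt N14025 (iv F80625)) (tt N14014 (iv F80565)) (tt N13821 F80324) (tt N13966 F80325) (tt N13820 (iv D20424)) (tt N14049 D20507))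
theorem Q13968 : ∀ i, i < 13968 → P i := stepQ 13967 Q13967 (allL N13967 (tt N13997 (iv F80461)) (tt N13889 F80326) (tt N14045 (iv F80739)) (tt N14026 (iv F80631)) (tt N13823 F80327) (tt N14049 (iv F80757)) (tt N13822 F80328) (tt N13920 F80329) (tt N13821 (iv D20425)))
theorem Q13969 : ∀ i, i < 13969 → P i := stepQ 13968 Q13968 (allL N13968 (tt N13827 F80330) (tt N13857 F80331) (tt N13900 F80332) (tt N13959 F80333) (tt N13824 (iv D20426)) (tt N13968 F80334) (tt N14050 D20508) (tt N13849 F80335) (tt N13844 F80336))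
theorem Q13970 : ∀ i, i < 13970 → P i := stepQ 13969 Q13969 (allL N13969 (tt N13828 F80337) (tt N13858 F80338) (tt N13901 F80339) (tt N13825 F80340) (tt N14050 (iv F80764)) (tt N13971 (iv F80353)) (tt N13824 (iv D20427)) (tt N13850 F80341) (tt N13845 F80342))
theorem Q13971 : ∀ i, i < 13971 → P i := stepQ 13970 Q13970 (allL N13970 (tt N13900 F80343) (tt N13836 F80344) (tt N13827 F80345) (tt N13974 (iv F80366)) (tt N13826 (iv D20428)) (tt N13970 F80346) (tt N14051 D20509) (tt N13897 F80347) (tt N13935 F80348))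
theorem Q13972 : ∀ i, i < 13972 → P i := stepQ 13971 Q13971 (allL N13971 (tt N13901 F80349) (tt N13837 F80350) (tt N13828 F80351) (tt N13925 F80352) (tt N14051 (iv F80770)) (tt N13969 F80353) (tt N13826 (iv D20429)) (tt N13898 F80354) (tt N13936 F80355))
theorem Q13973 : ∀ i, i < 13973 → P i := stepQ 13972 Q13972 (allL N13972 (tt N14050 (iv F80760)) (tt N13829 F80356) (tt N14051 (iv F80769)) (tt N13961 F80357) (tt N13828 F80358) (tt N14052 D20510) (tt N13827 (iv D20430)) (tt N14000 (iv F80483)) (tt N14007 (iv F80529)))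
theorem Q13974 : ∀ i, i < 13974 → P i := stepQ 13973 Q13973 (allL N13973 (tt N13860 F80359) (tt N14052 (iv F80773)) (tt N13839 F80360) (tt N13964 F80361) (tt N14018 (iv F80583)) (tt N13829 (iv D20431)) (tt N13973 F80362) (tt N14001 (iv F80490)) (tt N14031 (iv F80659)))
theorem Q13975 : ∀ i, i < 13975 → P i := stepQ 13974 Q13974 (allL N13974 (tt N13946 F80363) (tt N13935 F80364) (tt N13833 F80365) (tt N13970 F80366) (tt N13832 (iv D20432)) (tt N13974 F80367) (tt N14053 D20511) (tt N13916 F80368) (tt N13836 F80369))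
theorem Q13976 : ∀ i, i < 13976 → P i := stepQ 13975 Q13975 (allL N13975 (tt N13947 F80370) (tt N13936 F80371) (tt N13834 F80372) (tt N13945 F80373) (tt N14053 (iv F80780)) (tt N13982 (iv F80402)) (tt N13832 (iv D20433)) (tt N13917 F80374) (tt N13837 F80375))
theorem Q13977 : ∀ i, i < 13977 → P i := stepQ 13976 Q13976 (allL N13976 (tt N14026 (iv F80629)) (tt N13835 F80376) (tt N14053 (iv F80778)) (tt N13997 (iv F80464)) (tt N13834 F80377) (tt N14054 D20512) (tt N13833 (iv D20434)) (tt N14038 (iv F80698)) (tt N13838 F80378))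
theorem Q13978 : ∀ i, i < 13978 → P i := stepQ 13977 Q13977 (allL N13977 (tt N13864 F80379) (tt N14054 (iv F80783)) (tt N14031 (iv F80654)) (tt N13998 (iv F80469)) (tt N14042 (iv F80721)) (tt N13835 (iv D20435)) (tt N13977 F80380) (tt N14039 (iv F80705)) (tt N13839 F80381))
theorem Q13979 : ∀ i, i < 13979 → P i := stepQ 13978 Q13978 (allL N13978 (tt N13949 F80382) (tt N14051 (iv F80768)) (tt N13838 F80383) (tt N14034 (iv F80673)) (tt N13837 F80384) (tt N14055 D20513) (tt N13836 (iv D20436)) (tt N13913 F80385) (tt N14053 (iv F80782)))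
theorem Q13980 : ∀ i, i < 13980 → P i := stepQ 13979 Q13979 (allL N13979 (tt N14025 (iv F80623)) (tt N13839 F80386) (tt N14055 (iv F80787)) (tt N14020 (iv F80596)) (tt N14043 (iv F80728)) (tt N13838 (iv D20437)) (tt N13979 F80387) (tt N14005 (iv F80517)) (tt N14054 (iv F80785)))
theorem Q13981 : ∀ i, i < 13981 → P i := stepQ 13980 Q13980 (allL N13980 (tt N14041 (iv F80713)) (tt N13843 F80388) (tt N13989 (iv F80427)) (tt N14000 (iv F80481)) (tt N13841 F80389) (tt N14056 D20514) (tt N13840 (iv D20438)) (tt N14057 D20515) (tt N13846 F80390))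
theorem Q13982 : ∀ i, i < 13982 → P i := stepQ 13981 Q13981 (allL N13981 (tt N13854 F80391) (tt N13844 F80392) (tt N13951 F80393) (tt N13962 F80394) (tt N13842 F80395) (tt N13981 F80396) (tt N14057 (iv F80798)) (tt N13840 (iv D20439)) (tt N13857 F80397))
theorem Q13983 : ∀ i, i < 13983 → P i := stepQ 13982 Q13982 (allL N13982 (tt N13855 F80398) (tt N13845 F80399) (tt N13952 F80400) (tt N13853 F80401) (tt N14057 (iv F80797)) (tt N13975 F80402) (tt N13842 F80403) (tt N13841 (iv D20440)) (tt N13858 F80404))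
theorem Q13984 : ∀ i, i < 13984 → P i := stepQ 13983 Q13983 (allL N13983 (tt N14006 (iv F80518)) (tt N14056 (iv F80790)) (tt N13941 F80405) (tt N14001 (iv F80487)) (tt N14033 (iv F80668)) (tt N13843 (iv D20441)) (tt N13983 F80406) (tt N14058 D20516) (tt N13847 F80407))
theorem Q13985 : ∀ i, i < 13985 → P i := stepQ 13984 Q13984 (allL N13984 (tt N14007 (iv F80524)) (tt N14057 (iv F80794)) (tt N13942 F80408) (tt N13965 F80409) (tt N13845 F80410) (tt N14058 (iv F80802)) (tt N13844 F80411) (tt N13843 (iv D20442)) (tt N14050 (iv F80766)))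
theorem Q13986 : ∀ i, i < 13986 → P i := stepQ 13985 Q13985 (allL N13985 (tt N14043 (iv F80725)) (tt N13847 F80412) (tt N13992 (iv F80438)) (tt N14009 (iv F80537)) (tt N14025 (iv F80626)) (tt N13846 (iv D20443)) (tt N13985 F80413) (tt N14023 (iv F80617)) (tt N14056 (iv F80792)))
theorem Q13987 : ∀ i, i < 13987 → P i := stepQ 13986 Q13986 (allL N13986 (tt N14009 (iv F80535)) (tt N14023 (iv F80612)) (tt N13905 F80414) (tt N14043 (iv F80727)) (tt N14019 (iv F80591)) (tt N13848 F80415) (tt N13986 F80416) (tt N13847 (iv D20444)) (tt N14059 D20517))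
theorem Q13988 : ∀ i, i < 13988 → P i := stepQ 13987 Q13987 (allL N13987 (tt N14000 (iv F80479)) (tt N13956 F80417) (tt N13899 F80418) (tt N14041 (iv F80715)) (tt N13850 F80419) (tt N14059 (iv F80806)) (tt N13849 F80420) (tt N14050 (iv F80765)) (tt N13848 (iv D20445)))
theorem Q13989 : ∀ i, i < 13989 → P i := stepQ 13988 Q13988 (allL N13988 (tt N13964 F80421) (tt N14029 (iv F80642)) (tt N13926 F80422) (tt N13860 F80423) (tt N13931 F80424) (tt N13852 (iv D20446)) (tt N13988 F80425) (tt N14032 (iv F80664)) (tt N14030 (iv F80652)))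
theorem Q13990 : ∀ i, i < 13990 → P i := stepQ 13989 Q13989 (allL N13989 (tt N14057 (iv F80793)) (tt N13856 F80426) (tt N13980 F80427) (tt N14027 (iv F80636)) (tt N13855 F80428) (tt N14060 D20518) (tt N13854 (iv D20447)) (tt N14041 (iv F80717)) (tt N13859 F80429))
theorem Q13991 : ∀ i, i < 13991 → P i := stepQ 13990 Q13990 (allL N13990 (tt N14031 (iv F80653)) (tt N14060 (iv F80808)) (tt N13864 F80430) (tt N14030 (iv F80649)) (tt N14039 (iv F80703)) (tt N13856 (iv D20448)) (tt N13990 F80431) (tt N14042 (iv F80723)) (tt N13860 F80432))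
theorem Q13992 : ∀ i, i < 13992 → P i := stepQ 13991 Q13991 (allL N13991 (tt N13859 F80433) (tt N14050 (iv F80761)) (tt N13954 F80434) (tt N14013 (iv F80559)) (tt N13858 F80435) (tt N14061 D20519) (tt N13857 (iv D20449)) (tt N13956 F80436) (tt N14057 (iv F80799)))
theorem Q13993 : ∀ i, i < 13993 → P i := stepQ 13992 Q13992 (allL N13992 (tt N14061 (iv F80812)) (tt N13860 F80437) (tt N13985 F80438) (tt N14029 (iv F80644)) (tt N14040 (iv F80710)) (tt N13859 (iv D20450)) (tt N13992 F80439) (tt N14008 (iv F80533)) (tt N14060 (iv F80811)))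
theorem Q13994 : ∀ i, i < 13994 → P i := stepQ 13993 Q13993 (allL N13993 (tt N13906 F80440) (tt N13943 F80441) (tt N13863 F80442) (tt N13926 F80443) (tt N13932 F80444) (tt N13861 (iv D20451)) (tt N13993 F80445) (tt N13910 F80446) (tt N13996 (iv F80460)))
theorem Q13995 : ∀ i, i < 13995 → P i := stepQ 13994 Q13994 (allL N13994 (tt N13998 (iv F80467)) (tt N14036 (iv F80684)) (tt N13996 (iv F80455)) (tt N13864 F80447) (tt N14021 (iv F80602)) (tt N13862 (iv D20452)) (tt N13994 F80448) (tt N14035 (iv F80681)) (tt N13863 F80449))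
theorem Q13996 : ∀ i, i < 13996 → P i := stepQ 13995 Q13995 (allL N13995 (tt N14039 (iv F80700)) (tt N14037 (iv F80691)) (tt N14042 (iv F80720)) (tt N13950 (iv F80452)) (tt N14031 (iv F80656)) (tt N13865 F80450) (tt N13995 F80451) (tt N13864 (iv D20453)) (tt N14018 (iv F80586)))
theorem Q13997 : ∀ i, i < 13997 → P i := stepQ 13996 Q13996 (allL N13996 (tt N13871 F80453) (tt N13932 F80454) (tt N13994 F80455) (tt N13928 F80456) (tt N13943 F80457) (tt N13867 (iv D20454)) (tt N13996 F80458) (tt N13940 F80459) (tt N13993 F80460))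
theorem Q13998 : ∀ i, i < 13998 → P i := stepQ 13997 Q13997 (allL N13997 (tt N13967 F80461) (tt N13870 F80462) (tt N13961 F80463) (tt N13976 F80464) (tt N13869 F80465) (tt N14062 D20520) (tt N13868 (iv D20455)) (tt N14011 (iv F80549)) (tt N13907 F80466))
theorem Q13999 : ∀ i, i < 13999 → P i := stepQ 13998 Q13998 (allL N13998 (tt N13994 F80467) (tt N14062 (iv F80818)) (tt N13871 F80468) (tt N13977 F80469) (tt N13921 F80470) (tt N13870 (iv D20456)) (tt N13998 F80471) (tt N14012 (iv F80555)) (tt N13908 F80472))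
theorem Q14000 : ∀ i, i < 14000 → P i := stepQ 13999 Q13999 (allL N13999 (tt N13940 F80473) (tt N13966 F80474) (tt N14012 (iv F80551)) (tt N13937 (iv F80478)) (tt N13896 F80475) (tt N13872 F80476) (tt N13999 F80477) (tt N13871 (iv D20457)) (tt N14010 (iv F80544)))
theorem Q14001 : ∀ i, i < 14001 → P i := stepQ 14000 Q14000 (allL N14000 (tt N13987 F80479) (tt N13875 F80480) (tt N14015 (iv F80570)) (tt N13980 F80481) (tt N13874 F80482) (tt N14063 D20521) (tt N13873 (iv D20458)) (tt N13972 F80483) (tt N13887 F80484))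
theorem Q14002 : ∀ i, i < 14002 → P i := stepQ 14001 Q14001 (allL N14001 (tt N13886 F80485) (tt N14063 (iv F80825)) (tt N13881 F80486) (tt N13983 F80487) (tt N13902 F80488) (tt N13875 (iv D20459)) (tt N14001 F80489) (tt N13973 F80490) (tt N13888 F80491))
theorem Q14003 : ∀ i, i < 14003 → P i := stepQ 14002 Q14002 (allL N14002 (tt N13888 F80492) (tt N13957 F80493) (tt N13902 F80494) (tt N13933 F80495) (tt N13881 F80496) (tt N13877 (iv D20460)) (tt N14002 F80497) (tt N13955 F80498) (tt N13886 F80499))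
theorem Q14004 : ∀ i, i < 14004 → P i := stepQ 14003 Q14003 (allL N14003 (tt N13896 F80500) (tt N13910 F80501) (tt N14036 (iv F80685)) (tt N13881 F80502) (tt N13940 F80503) (tt N13878 (iv D20461)) (tt N14003 F80504) (tt N13943 F80505) (tt N14035 (iv F80682)))
theorem Q14005 : ∀ i, i < 14005 → P i := stepQ 14004 Q14004 (allL N14004 (tt N13902 F80506) (tt N14022 (iv F80605)) (tt N13888 F80507) (tt N14035 (iv F80679)) (tt N13886 F80508) (tt N13879 (iv D20462)) (tt N14004 F80509) (tt N13950 F80510) (tt N13881 F80511))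
theorem Q14006 : ∀ i, i < 14006 → P i := stepQ 14005 Q14005 (allL N14005 (tt N13914 F80512) (tt N13881 F80513) (tt N14024 (iv F80619)) (tt N13910 F80514) (tt N13957 F80515) (tt N13880 (iv D20463)) (tt N14005 F80516) (tt N13979 F80517) (tt N14022 (iv F80610)))
theorem Q14007 : ∀ i, i < 14007 → P i := stepQ 14006 Q14006 (allL N14006 (tt N13983 F80518) (tt N13958 F80519) (tt N14033 (iv F80666)) (tt N13886 F80520) (tt N13941 F80521) (tt N13882 (iv D20464)) (tt N14006 F80522) (tt N14064 D20522) (tt N13933 F80523))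
theorem Q14008 : ∀ i, i < 14008 → P i := stepQ 14007 Q14007 (allL N14007 (tt N13984 F80524) (tt N13929 F80525) (tt N14034 (iv F80672)) (tt N13930 F80526) (tt N13884 F80527) (tt N14064 (iv F80835)) (tt N13883 F80528) (tt N13882 (iv D20465)) (tt N13972 F80529))
theorem Q14009 : ∀ i, i < 14009 → P i := stepQ 14008 Q14008 (allL N14008 (tt N14044 (iv F80731)) (tt N13886 F80530) (tt N14023 (iv F80613)) (tt N13958 F80531) (tt N14022 (iv F80608)) (tt N13885 (iv D20466)) (tt N14008 F80532) (tt N13992 F80533) (tt N13957 F80534))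
theorem Q14010 : ∀ i, i < 14010 → P i := stepQ 14009 Q14009 (allL N14009 (tt N13986 F80535) (tt N13888 F80536) (tt N14019 (iv F80589)) (tt N13985 F80537) (tt N13905 F80538) (tt N13887 (iv D20467)) (tt N14009 F80539) (tt N13933 F80540) (tt N14063 (iv F80830)))
theorem Q14011 : ∀ i, i < 14011 → P i := stepQ 14010 Q14010 (allL N14010 (tt N14036 (iv F80683)) (tt N14049 (iv F80756)) (tt N13896 F80541) (tt N14033 (iv F80667)) (tt N14012 (iv F80553)) (tt N13889 (iv D20468)) (tt N14010 F80542) (tt N13921 F80543) (tt N13999 F80544))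
theorem Q14012 : ∀ i, i < 14012 → P i := stepQ 14011 Q14011 (allL N14011 (tt N13920 F80545) (tt N13892 F80546) (tt N14047 (iv F80748)) (tt N13899 F80547) (tt N13891 F80548) (tt N14065 D20523) (tt N13890 (iv D20469)) (tt N13997 F80549) (tt N13895 F80550))
theorem Q14013 : ∀ i, i < 14013 → P i := stepQ 14012 Q14012 (allL N14012 (tt N14035 (iv F80676)) (tt N14065 (iv F80839)) (tt N13999 F80551) (tt N13902 F80552) (tt N14010 F80553) (tt N13892 (iv D20470)) (tt N14012 F80554) (tt N13998 F80555) (tt N13896 F80556))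
theorem Q14014 : ∀ i, i < 14014 → P i := stepQ 14013 Q14013 (allL N14013 (tt N13922 F80557) (tt N14045 (iv F80738)) (tt N13895 F80558) (tt N13991 F80559) (tt N13894 F80560) (tt N14066 D20524) (tt N13893 (iv D20471)) (tt N13927 F80561) (tt N14047 (iv F80751)))
theorem Q14015 : ∀ i, i < 14015 → P i := stepQ 14014 Q14014 (allL N14014 (tt N13923 F80562) (tt N13896 F80563) (tt N14066 (iv F80846)) (tt N13905 F80564) (tt N13966 F80565) (tt N13895 (iv D20472)) (tt N14014 F80566) (tt N13928 F80567) (tt N14065 (iv F80844)))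
theorem Q14016 : ∀ i, i < 14016 → P i := stepQ 14015 Q14015 (allL N14015 (tt N13899 F80568) (tt N13913 F80569) (tt N14000 F80570) (tt N13920 F80571) (tt N13898 F80572) (tt N14067 D20525) (tt N13897 (iv D20473)) (tt N14051 (iv F80771)) (tt N13904 F80573))
theorem Q14017 : ∀ i, i < 14017 → P i := stepQ 14016 Q14016 (allL N14016 (tt N14067 (iv F80851)) (tt N13902 F80574) (tt N14059 (iv F80805)) (tt N14065 (iv F80840)) (tt N14063 (iv F80827)) (tt N13899 (iv D20474)) (tt N14016 F80575) (tt N14068 D20526) (tt N13905 F80576))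
theorem Q14018 : ∀ i, i < 14018 → P i := stepQ 14017 Q14017 (allL N14017 (tt N14051 (iv F80767)) (tt N13903 F80577) (tt N14050 (iv F80762)) (tt N14038 (iv F80696)) (tt N13901 F80578) (tt N14068 (iv F80860)) (tt N13900 F80579) (tt N13899 (iv D20475)) (tt N13942 F80580))
theorem Q14019 : ∀ i, i < 14019 → P i := stepQ 14018 Q14018 (allL N14018 (tt N13950 F80581) (tt N14068 (iv F80858)) (tt N13955 F80582) (tt N14039 (iv F80702)) (tt N13973 F80583) (tt N13903 F80584) (tt N14018 F80585) (tt N13902 (iv D20476)) (tt N13995 F80586))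
theorem Q14020 : ∀ i, i < 14020 → P i := stepQ 14019 Q14019 (allL N14019 (tt N13905 F80587) (tt N13914 F80588) (tt N14009 F80589) (tt N13923 F80590) (tt N13986 F80591) (tt N13904 (iv D20477)) (tt N14019 F80592) (tt N13937 F80593) (tt N14067 (iv F80857)))
theorem Q14021 : ∀ i, i < 14021 → P i := stepQ 14020 Q14020 (allL N14020 (tt N13966 F80594) (tt N13908 F80595) (tt N14032 (iv F80661)) (tt N13979 F80596) (tt N13923 F80597) (tt N13907 (iv D20478)) (tt N14020 F80598) (tt N13926 F80599) (tt N14062 (iv F80823)))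
theorem Q14022 : ∀ i, i < 14022 → P i := stepQ 14021 Q14021 (allL N14021 (tt N13921 F80600) (tt N14035 (iv F80677)) (tt N13943 F80601) (tt N14022 (iv F80607)) (tt N13994 F80602) (tt N13909 (iv D20479)) (tt N14021 F80603) (tt N14036 (iv F80689)) (tt N13910 F80604))
theorem Q14023 : ∀ i, i < 14023 → P i := stepQ 14022 Q14022 (allL N14022 (tt N14024 (iv F80618)) (tt N14004 F80605) (tt N13914 F80606) (tt N14021 F80607) (tt N14008 F80608) (tt N13911 (iv D20480)) (tt N14022 F80609) (tt N14040 (iv F80712)) (tt N14005 F80610))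
theorem Q14024 : ∀ i, i < 14024 → P i := stepQ 14023 Q14023 (allL N14023 (tt N13957 F80611) (tt N13986 F80612) (tt N14008 F80613) (tt N13955 F80614) (tt N13914 F80615) (tt N13912 (iv D20481)) (tt N14023 F80616) (tt N13985 F80617) (tt N14044 (iv F80736)))
theorem Q14025 : ∀ i, i < 14025 → P i := stepQ 14024 Q14024 (allL N14024 (tt N14022 F80618) (tt N14067 (iv F80852)) (tt N14005 F80619) (tt N13921 F80620) (tt N14044 (iv F80734)) (tt N13913 (iv D20482)) (tt N14024 F80621) (tt N14055 (iv F80789)) (tt N13914 F80622))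
theorem Q14026 : ∀ i, i < 14026 → P i := stepQ 14025 Q14025 (allL N14025 (tt N13979 F80623) (tt N13937 F80624) (tt N14040 (iv F80708)) (tt N13966 F80625) (tt N13985 F80626) (tt N13915 F80627) (tt N14025 F80628) (tt N13914 (iv D20483)) (tt N14069 D20527))
theorem Q14027 : ∀ i, i < 14027 → P i := stepQ 14026 Q14026 (allL N14026 (tt N13976 F80629) (tt N13934 F80630) (tt N14038 (iv F80695)) (tt N13967 F80631) (tt N13917 F80632) (tt N14069 (iv F80867)) (tt N13916 F80633) (tt N14053 (iv F80781)) (tt N13915 (iv D20484)))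
theorem Q14028 : ∀ i, i < 14028 → P i := stepQ 14027 Q14027 (allL N14027 (tt N14047 (iv F80746)) (tt N13927 F80634) (tt N13920 F80635) (tt N13989 F80636) (tt N13919 F80637) (tt N14070 D20528) (tt N13918 (iv D20485)) (tt N14045 (iv F80741)) (tt N13922 F80638))
theorem Q14029 : ∀ i, i < 14029 → P i := stepQ 14028 Q14028 (allL N14028 (tt N14065 (iv F80838)) (tt N13921 F80639) (tt N14070 (iv F80870)) (tt N14067 (iv F80854)) (tt N14062 (iv F80821)) (tt N13920 (iv D20486)) (tt N14028 F80640) (tt N14049 (iv F80759)) (tt N13923 F80641))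
theorem Q14030 : ∀ i, i < 14030 → P i := stepQ 14029 Q14029 (allL N14029 (tt N14066 (iv F80845)) (tt N13988 F80642) (tt N13923 F80643) (tt N13992 F80644) (tt N14032 (iv F80662)) (tt N13922 (iv D20487)) (tt N14029 F80645) (tt N13931 F80646) (tt N14070 (iv F80874)))
theorem Q14031 : ∀ i, i < 14031 → P i := stepQ 14030 Q14030 (allL N14030 (tt N13931 F80647) (tt N14070 (iv F80869)) (tt N13928 F80648) (tt N13990 F80649) (tt N13964 F80650) (tt N13927 (iv D20488)) (tt N14030 F80651) (tt N14066 (iv F80850)) (tt N13988 F80652))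
theorem Q14032 : ∀ i, i < 14032 → P i := stepQ 14031 Q14031 (allL N14031 (tt N13990 F80653) (tt N14064 (iv F80832)) (tt N13977 F80654) (tt N13931 F80655) (tt N13995 F80656) (tt N13929 (iv D20489)) (tt N14031 F80657) (tt N13958 F80658) (tt N13973 F80659))
theorem Q14033 : ∀ i, i < 14033 → P i := stepQ 14032 Q14032 (allL N14032 (tt N14048 (iv F80752)) (tt N13931 F80660) (tt N14020 F80661) (tt N14064 (iv F80833)) (tt N14029 F80662) (tt N13930 (iv D20490)) (tt N14032 F80663) (tt N13988 F80664) (tt N14046 (iv F80745)))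
theorem Q14034 : ∀ i, i < 14034 → P i := stepQ 14033 Q14033 (allL N14033 (tt N13941 F80665) (tt N14069 (iv F80864)) (tt N14006 F80666) (tt N14010 F80667) (tt N13983 F80668) (tt N13934 (iv D20491)) (tt N14033 F80669) (tt N14071 D20529) (tt N13937 F80670))
theorem Q14035 : ∀ i, i < 14035 → P i := stepQ 14034 Q14034 (allL N14034 (tt N13942 F80671) (tt N14053 (iv F80777)) (tt N14007 F80672) (tt N13978 F80673) (tt N13936 F80674) (tt N14071 (iv F80879)) (tt N13935 F80675) (tt N13934 (iv D20492)) (tt N14051 (iv F80772)))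
theorem Q14036 : ∀ i, i < 14036 → P i := stepQ 14035 Q14035 (allL N14035 (tt N14012 F80676) (tt N14021 F80677) (tt N13940 F80678) (tt N14004 F80679) (tt N14036 (iv F80687)) (tt N13938 (iv D20493)) (tt N14035 F80680) (tt N13994 F80681) (tt N14003 F80682))
theorem Q14037 : ∀ i, i < 14037 → P i := stepQ 14036 Q14036 (allL N14036 (tt N14010 F80683) (tt N13994 F80684) (tt N14003 F80685) (tt N13941 F80686) (tt N14035 F80687) (tt N13939 (iv D20494)) (tt N14036 F80688) (tt N14021 F80689) (tt N13940 F80690))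
theorem Q14038 : ∀ i, i < 14038 → P i := stepQ 14037 Q14037 (allL N14037 (tt N14071 (iv F80875)) (tt N13995 F80691) (tt N14058 (iv F80800)) (tt N14040 (iv F80709)) (tt N14064 (iv F80834)) (tt N13942 F80692) (tt N14037 F80693) (tt N13941 (iv D20495)) (tt N14068 (iv F80862)))
theorem Q14039 : ∀ i, i < 14039 → P i := stepQ 14038 Q14038 (allL N14038 (tt N14053 (iv F80776)) (tt N13948 F80694) (tt N14026 F80695) (tt N14017 F80696) (tt N13947 F80697) (tt N14072 D20530) (tt N13946 (iv D20496)) (tt N13976 F80698) (tt N13949 F80699))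
theorem Q14040 : ∀ i, i < 14040 → P i := stepQ 14039 Q14039 (allL N14039 (tt N13995 F80700) (tt N14072 (iv F80881)) (tt N13958 F80701) (tt N14018 F80702) (tt N13990 F80703) (tt N13948 (iv D20497)) (tt N14039 F80704) (tt N13977 F80705) (tt N13950 F80706))
theorem Q14041 : ∀ i, i < 14041 → P i := stepQ 14040 Q14040 (allL N14040 (tt N14055 (iv F80786)) (tt N13950 F80707) (tt N14025 F80708) (tt N14037 F80709) (tt N13992 F80710) (tt N13949 (iv D20498)) (tt N14040 F80711) (tt N14022 F80712) (tt N14072 (iv F80887)))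
theorem Q14042 : ∀ i, i < 14042 → P i := stepQ 14041 Q14041 (allL N14041 (tt N13980 F80713) (tt N13953 F80714) (tt N14057 (iv F80795)) (tt N13987 F80715) (tt N13952 F80716) (tt N14073 D20531) (tt N13951 (iv D20499)) (tt N13989 F80717) (tt N13954 F80718))
theorem Q14043 : ∀ i, i < 14043 → P i := stepQ 14042 Q14042 (allL N14042 (tt N13958 F80719) (tt N14073 (iv F80889)) (tt N13995 F80720) (tt N14044 (iv F80733)) (tt N13977 F80721) (tt N13953 (iv D20500)) (tt N14042 F80722) (tt N13990 F80723) (tt N13955 F80724))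
theorem Q14044 : ∀ i, i < 14044 → P i := stepQ 14043 Q14043 (allL N14043 (tt N13985 F80725) (tt N13955 F80726) (tt N14061 (iv F80813)) (tt N13986 F80727) (tt N13979 F80728) (tt N13954 (iv D20501)) (tt N14043 F80729) (tt N13957 F80730) (tt N14073 (iv F80894)))
theorem Q14045 : ∀ i, i < 14045 → P i := stepQ 14044 Q14044 (allL N14044 (tt N14008 F80731) (tt N14059 (iv F80804)) (tt N13957 F80732) (tt N14042 F80733) (tt N14024 F80734) (tt N13956 (iv D20502)) (tt N14044 F80735) (tt N14061 (iv F80816)) (tt N14023 F80736))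
theorem Q14046 : ∀ i, i < 14046 → P i := stepQ 14045 Q14045 (allL N14045 (tt N13961 F80737) (tt N14013 F80738) (tt N13967 F80739) (tt N14050 (iv F80763)) (tt N13960 F80740) (tt N14074 D20532) (tt N13959 (iv D20503)) (tt N14027 F80741) (tt N13965 F80742))
theorem Q14047 : ∀ i, i < 14047 → P i := stepQ 14046 Q14046 (allL N14046 (tt N14074 (iv F80895)) (tt N13964 F80743) (tt N14062 (iv F80819)) (tt N14052 (iv F80774)) (tt N14070 (iv F80872)) (tt N13961 (iv D20504)) (tt N14046 F80744) (tt N14075 D20533) (tt N14032 F80745))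
theorem Q14048 : ∀ i, i < 14048 → P i := stepQ 14047 Q14047 (allL N14047 (tt N14027 F80746) (tt N13965 F80747) (tt N14011 F80748) (tt N14057 (iv F80796)) (tt N13963 F80749) (tt N14075 (iv F80905)) (tt N13962 F80750) (tt N13961 (iv D20505)) (tt N14013 F80751))
theorem Q14049 : ∀ i, i < 14049 → P i := stepQ 14048 Q14048 (allL N14048 (tt N14032 F80752) (tt N14075 (iv F80902)) (tt N13966 F80753) (tt N14058 (iv F80801)) (tt N14066 (iv F80848)) (tt N13965 F80754) (tt N14048 F80755) (tt N13964 (iv D20506)) (tt N14074 (iv F80900)))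
theorem Q14050 : ∀ i, i < 14050 → P i := stepQ 14049 Q14049 (allL N14049 (tt N14062 (iv F80817)) (tt N14010 F80756) (tt N14074 (iv F80897)) (tt N14069 (iv F80865)) (tt N14065 (iv F80841)) (tt N13967 F80757) (tt N14049 F80758) (tt N14028 F80759) (tt N13966 (iv D20507)))
theorem Q14051 : ∀ i, i < 14051 → P i := stepQ 14050 Q14050 (allL N14050 (tt N13972 F80760) (tt N13991 F80761) (tt N14017 F80762) (tt N14045 F80763) (tt N13969 F80764) (tt N14076 D20534) (tt N13968 (iv D20508)) (tt N13987 F80765) (tt N13984 F80766))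
theorem Q14052 : ∀ i, i < 14052 → P i := stepQ 14051 Q14051 (allL N14051 (tt N14017 F80767) (tt N13978 F80768) (tt N13972 F80769) (tt N14053 (iv F80779)) (tt N13971 F80770) (tt N14077 D20535) (tt N13970 (iv D20509)) (tt N14015 F80771) (tt N14034 F80772))
theorem Q14053 : ∀ i, i < 14053 → P i := stepQ 14052 Q14052 (allL N14052 (tt N14076 (iv F80908)) (tt N13973 F80773) (tt N14077 (iv F80917)) (tt N14046 F80774) (tt N14068 (iv F80859)) (tt N13972 (iv D20510)) (tt N14052 F80775) (tt N14063 (iv F80829)) (tt N14064 (iv F80837)))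
theorem Q14054 : ∀ i, i < 14054 → P i := stepQ 14053 Q14053 (allL N14053 (tt N14038 F80776) (tt N14034 F80777) (tt N13976 F80778) (tt N14051 F80779) (tt N13975 F80780) (tt N14078 D20536) (tt N13974 (iv D20511)) (tt N14026 F80781) (tt N13978 F80782))
theorem Q14055 : ∀ i, i < 14055 → P i := stepQ 14054 Q14054 (allL N14054 (tt N14069 (iv F80863)) (tt N13977 F80783) (tt N14078 (iv F80924)) (tt N14062 (iv F80820)) (tt N14073 (iv F80891)) (tt N13976 (iv D20512)) (tt N14054 F80784) (tt N14072 (iv F80886)) (tt N13979 F80785))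
theorem Q14056 : ∀ i, i < 14056 → P i := stepQ 14055 Q14055 (allL N14055 (tt N14040 F80786) (tt N14077 (iv F80916)) (tt N13979 F80787) (tt N14071 (iv F80877)) (tt N14061 (iv F80814)) (tt N13978 (iv D20513)) (tt N14055 F80788) (tt N14024 F80789) (tt N14078 (iv F80928)))
theorem Q14057 : ∀ i, i < 14057 → P i := stepQ 14056 Q14056 (allL N14056 (tt N14073 (iv F80888)) (tt N13983 F80790) (tt N14060 (iv F80809)) (tt N14063 (iv F80826)) (tt N14069 (iv F80866)) (tt N13980 (iv D20514)) (tt N14056 F80791) (tt N14079 D20537) (tt N13985 F80792))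
theorem Q14058 : ∀ i, i < 14058 → P i := stepQ 14057 Q14057 (allL N14057 (tt N13989 F80793) (tt N13984 F80794) (tt N14041 F80795) (tt N14047 F80796) (tt N13982 F80797) (tt N14079 (iv F80934)) (tt N13981 F80798) (tt N13980 (iv D20515)) (tt N13991 F80799))
theorem Q14059 : ∀ i, i < 14059 → P i := stepQ 14058 Q14058 (allL N14058 (tt N14064 (iv F80831)) (tt N14079 (iv F80930)) (tt N14037 F80800) (tt N14048 F80801) (tt N14071 (iv F80878)) (tt N13984 F80802) (tt N14058 F80803) (tt N13983 (iv D20516)) (tt N14076 (iv F80914)))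
theorem Q14060 : ∀ i, i < 14060 → P i := stepQ 14059 Q14059 (allL N14059 (tt N14063 (iv F80824)) (tt N14044 F80804) (tt N14016 F80805) (tt N14073 (iv F80890)) (tt N14067 (iv F80855)) (tt N13987 F80806) (tt N14059 F80807) (tt N14076 (iv F80913)) (tt N13986 (iv D20517)))
theorem Q14061 : ∀ i, i < 14061 → P i := stepQ 14060 Q14060 (allL N14060 (tt N14079 (iv F80929)) (tt N13990 F80808) (tt N14056 F80809) (tt N14070 (iv F80871)) (tt N14072 (iv F80884)) (tt N13989 (iv D20518)) (tt N14060 F80810) (tt N14073 (iv F80893)) (tt N13992 F80811))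
theorem Q14062 : ∀ i, i < 14062 → P i := stepQ 14061 Q14061 (allL N14061 (tt N13992 F80812) (tt N14076 (iv F80909)) (tt N14043 F80813) (tt N14066 (iv F80847)) (tt N14055 F80814) (tt N13991 (iv D20519)) (tt N14061 F80815) (tt N14044 F80816) (tt N14079 (iv F80936)))
theorem Q14063 : ∀ i, i < 14063 → P i := stepQ 14062 Q14062 (allL N14062 (tt N14049 F80817) (tt N13998 F80818) (tt N14046 F80819) (tt N14054 F80820) (tt N14028 F80821) (tt N13997 (iv D20520)) (tt N14062 F80822) (tt N14065 (iv F80843)) (tt N14020 F80823))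
theorem Q14064 : ∀ i, i < 14064 → P i := stepQ 14063 Q14063 (allL N14063 (tt N14059 F80824) (tt N14001 F80825) (tt N14067 (iv F80853)) (tt N14056 F80826) (tt N14016 F80827) (tt N14000 (iv D20521)) (tt N14063 F80828) (tt N14052 F80829) (tt N14009 F80830))
theorem Q14065 : ∀ i, i < 14065 → P i := stepQ 14064 Q14064 (allL N14064 (tt N14058 F80831) (tt N14031 F80832) (tt N14071 (iv F80876)) (tt N14032 F80833) (tt N14037 F80834) (tt N14007 F80835) (tt N14064 F80836) (tt N14006 (iv D20522)) (tt N14052 F80837))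
theorem Q14066 : ∀ i, i < 14066 → P i := stepQ 14065 Q14065 (allL N14065 (tt N14028 F80838) (tt N14012 F80839) (tt N14075 (iv F80903)) (tt N14016 F80840) (tt N14049 F80841) (tt N14011 (iv D20523)) (tt N14065 F80842) (tt N14062 F80843) (tt N14014 F80844))
theorem Q14067 : ∀ i, i < 14067 → P i := stepQ 14066 Q14066 (allL N14066 (tt N14029 F80845) (tt N14074 (iv F80896)) (tt N14014 F80846) (tt N14061 F80847) (tt N14048 F80848) (tt N14013 (iv D20524)) (tt N14066 F80849) (tt N14030 F80850) (tt N14075 (iv F80907)))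
theorem Q14068 : ∀ i, i < 14068 → P i := stepQ 14067 Q14067 (allL N14067 (tt N14016 F80851) (tt N14024 F80852) (tt N14063 F80853) (tt N14028 F80854) (tt N14059 F80855) (tt N14015 (iv D20525)) (tt N14067 F80856) (tt N14077 (iv F80920)) (tt N14019 F80857))
theorem Q14069 : ∀ i, i < 14069 → P i := stepQ 14068 Q14068 (allL N14068 (tt N14077 (iv F80915)) (tt N14018 F80858) (tt N14076 (iv F80910)) (tt N14072 (iv F80883)) (tt N14052 F80859) (tt N14017 F80860) (tt N14068 F80861) (tt N14016 (iv D20526)) (tt N14037 F80862))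
theorem Q14070 : ∀ i, i < 14070 → P i := stepQ 14069 Q14069 (allL N14069 (tt N14054 F80863) (tt N14033 F80864) (tt N14072 (iv F80882)) (tt N14049 F80865) (tt N14056 F80866) (tt N14026 F80867) (tt N14069 F80868) (tt N14078 (iv F80927)) (tt N14025 (iv D20527)))
theorem Q14071 : ∀ i, i < 14071 → P i := stepQ 14070 Q14070 (allL N14070 (tt N14075 (iv F80901)) (tt N14030 F80869) (tt N14028 F80870) (tt N14060 F80871) (tt N14046 F80872) (tt N14027 (iv D20528)) (tt N14070 F80873) (tt N14074 (iv F80899)) (tt N14029 F80874))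
theorem Q14072 : ∀ i, i < 14072 → P i := stepQ 14071 Q14071 (allL N14071 (tt N14037 F80875) (tt N14078 (iv F80923)) (tt N14064 F80876) (tt N14055 F80877) (tt N14058 F80878) (tt N14034 F80879) (tt N14071 F80880) (tt N14033 (iv D20529)) (tt N14077 (iv F80921)))
theorem Q14073 : ∀ i, i < 14073 → P i := stepQ 14072 Q14072 (allL N14072 (tt N14078 (iv F80922)) (tt N14039 F80881) (tt N14069 F80882) (tt N14068 F80883) (tt N14060 F80884) (tt N14038 (iv D20530)) (tt N14072 F80885) (tt N14054 F80886) (tt N14040 F80887))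
theorem Q14074 : ∀ i, i < 14074 → P i := stepQ 14073 Q14073 (allL N14073 (tt N14056 F80888) (tt N14042 F80889) (tt N14079 (iv F80931)) (tt N14059 F80890) (tt N14054 F80891) (tt N14041 (iv D20531)) (tt N14073 F80892) (tt N14060 F80893) (tt N14043 F80894))
theorem Q14075 : ∀ i, i < 14075 → P i := stepQ 14074 Q14074 (allL N14074 (tt N14046 F80895) (tt N14066 F80896) (tt N14049 F80897) (tt N14076 (iv F80911)) (tt N14075 (iv F80904)) (tt N14045 (iv D20532)) (tt N14074 F80898) (tt N14070 F80899) (tt N14048 F80900))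
theorem Q14076 : ∀ i, i < 14076 → P i := stepQ 14075 Q14075 (allL N14075 (tt N14070 F80901) (tt N14048 F80902) (tt N14065 F80903) (tt N14079 (iv F80932)) (tt N14074 F80904) (tt N14047 F80905) (tt N14075 F80906) (tt N14046 (iv D20533)) (tt N14066 F80907))
theorem Q14077 : ∀ i, i < 14077 → P i := stepQ 14076 Q14076 (allL N14076 (tt N14052 F80908) (tt N14061 F80909) (tt N14068 F80910) (tt N14074 F80911) (tt N14077 (iv F80918)) (tt N14050 (iv D20534)) (tt N14076 F80912) (tt N14059 F80913) (tt N14058 F80914))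
theorem Q14078 : ∀ i, i < 14078 → P i := stepQ 14077 Q14077 (allL N14077 (tt N14068 F80915) (tt N14055 F80916) (tt N14052 F80917) (tt N14078 (iv F80925)) (tt N14076 F80918) (tt N14051 (iv D20535)) (tt N14077 F80919) (tt N14067 F80920) (tt N14071 F80921))
theorem Q14079 : ∀ i, i < 14079 → P i := stepQ 14078 Q14078 (allL N14078 (tt N14072 F80922) (tt N14071 F80923) (tt N14054 F80924) (tt N14077 F80925) (tt N14079 (iv F80933)) (tt N14053 (iv D20536)) (tt N14078 F80926) (tt N14069 F80927) (tt N14055 F80928))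
theorem Q14080 : ∀ i, i < 14080 → P i := stepQ 14079 Q14079 (allL N14079 (tt N14060 F80929) (tt N14058 F80930) (tt N14073 F80931) (tt N14075 F80932) (tt N14078 F80933) (tt N14057 F80934) (tt N14079 F80935) (tt N14056 (iv D20537)) (tt N14061 F80936))

theorem closedN : ∀ i, i < N → P i := Q14080

end Cfsg.Agent.Helper17.FiR1TC
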